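/-
helper6: characters of norm one are irreducible; linear characters are multiplicative.
-/
import Mathlib
import Cfsg.Agent.Lib.Lead.CharMain

set_option autoImplicit false

namespace Cfsg.Agent.Lib.Helper6

open Cfsg Cfsg.Agent.CharLib Module
open scoped ComplexConjugate

universe u

section norm
variable {G : Type u} [Group G]

theorem exists_unique_of_sum_sq_eq_one {ι : Type*} (s : Finset ι) (m : ι → ℕ)
    (h : ∑ i ∈ s, m i ^ 2 = 1) : ∃ i ∈ s, m i = 1 ∧ ∀ j ∈ s, j ≠ i → m j = 0 := by
  classical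
  have hex : ∃ i ∈ s, m i ≠ 0 := by
    by_contra hcon
    push Not at hcon
    have : ∑ i ∈ s, m i ^ 2 = 0 := Finset.sum_eq_zero (fun i hi => by rw [hcon i hi]; rfl)
    omega
  obtain ⟨i, hi, hmi⟩ := hex
  have hsplit : m i ^ 2 + ∑ j ∈ s.erase i, m j ^ 2 = ∑ j ∈ s, m j ^ 2 :=
    Finset.add_sum_erase s (fun i => m i ^ 2) hi
  have hpos : 1 ≤ m i ^ 2 := Nat.one_le_pow _ _ (Nat.pos_of_ne_zero hmi)
  have hrest : ∑ j ∈ s.erase i, m j ^ 2 = 0 := by omega
  have hmi2 : m i ^ 2 = 1 := by omega
  refine ⟨i, hi, ?_, ?_⟩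
  · exact (Nat.pow_eq_one.mp hmi2).resolve_right (by norm_num)
  · intro j hj hji
    have := (Finset.sum_eq_zero_iff.mp hrest) j (Finset.mem_erase.mpr ⟨hji, hj⟩)
    exact pow_eq_zero_iff (by norm_num) |>.mp this

/-- A character of norm one is irreducible. -/
theorem isIrrCharacter_of_classInner_self_eq_one [Fintype G] {χ : G → ℂ} (hχ : IsCharacter G χ)
    (h1 : classInner χ χ = 1) : IsIrrCharacter G χ := by
  classical
  let _ := fintypeIrr G
  obtain ⟨m, hm⟩ := IsCharacter.exists_decomp hχ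
  rw [finsum_eq_sum_of_fintype] at hm
  have hm' : χ = ∑ i : IrrCharacter G, ((m i : ℕ) : ℂ) • (i : G → ℂ) := by
    rw [hm]
    apply Finset.sum_congr rfl
    intro i _
    rw [Nat.cast_smul_eq_nsmul]
  have hnorm : classInner χ χ = ((∑ ψ : IrrCharacter G, m ψ ^ 2 : ℕ) : ℂ) := by
    conv_lhs => rw [hm']
    rw [classInner_sum_left, Nat.cast_sum]
    apply Finset.sum_congr rfl
    intro ψ _
    rw [classInner_sum_right]
    rw [Finset.sum_eq_single ψ]
    · rw [classInner_smul_left, classInner_smul_right, classInner_irr', if_pos rfl]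
      simp [pow_two]
    · intro φ _ hφ
      rw [classInner_smul_left, classInner_smul_right, classInner_irr', if_neg (Ne.symm hφ)]
      simp
    · intro h; exact absurd (Finset.mem_univ _) h
  rw [h1] at hnorm
  have hsum : ∑ ψ : IrrCharacter G, m ψ ^ 2 = 1 := by exact_mod_cast hnorm.symm
  obtain ⟨ψ₀, -, h1, h0⟩ := exists_unique_of_sum_sq_eq_one Finset.univ m hsum
  have : χ = (ψ₀ : G → ℂ) := by
    rw [hm, Finset.sum_eq_single ψ₀]
    · rw [h1, one_smul]
    · intro b _ hb; rw [h0 b (Finset.mem_univ _) hb, zero_smul]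
    · intro h; exact absurd (Finset.mem_univ _) h
  rw [this]
  exact ψ₀.2

end norm

section linear
variable {G : Type u} [Group G]

/-- On a one-dimensional coordinate space the trace is multiplicative. -/
theorem trace_mul_fin_one (f g : (Fin 1 → ℂ) →ₗ[ℂ] (Fin 1 → ℂ)) :
    LinearMap.trace ℂ _ (f * g) = LinearMap.trace ℂ _ f * LinearMap.trace ℂ _ g := by
  rw [LinearMap.trace_eq_matrix_trace ℂ (Pi.basisFun ℂ (Fin 1)),
    LinearMap.trace_eq_matrix_trace ℂ (Pi.basisFun ℂ (Fin 1)) f,
    LinearMap.trace_eq_matrix_trace ℂ (Pi.basisFun ℂ (Fin 1)) g, LinearMap.toMatrix_mul]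
  simp [Matrix.trace, Matrix.mul_apply]

/-- A character of degree one is multiplicative. -/
theorem IsCharacter.map_mul_of_apply_one {lam : G → ℂ} (hlam : IsCharacter G lam) (h1 : lam 1 = 1)
    (g h : G) : lam (g * h) = lam g * lam h := by
  obtain ⟨n, ρ, rfl⟩ := hlam
  have hn : n = 1 := by
    rw [Representation.char_one, Module.finrank_fin_fun] at h1
    exact_mod_cast h1
  subst hn
  unfold Representation.character
  rw [map_mul]
  exact trace_mul_fin_one (ρ g) (ρ h)

/-- A character of degree one as a monoid homomorphism. -/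
noncomputable def linCharHom {lam : G → ℂ} (hlam : IsCharacter G lam) (h1 : lam 1 = 1) : G →* ℂ where
  toFun := lam
  map_one' := h1
  map_mul' := IsCharacter.map_mul_of_apply_one hlam h1

theorem IsCharacter.apply_ne_zero_of_apply_one {lam : G → ℂ} (hlam : IsCharacter G lam)
    (h1 : lam 1 = 1) (g : G) : lam g ≠ 0 := by
  intro h0
  have := IsCharacter.map_mul_of_apply_one hlam h1 g g⁻¹
  rw [mul_inv_cancel, h1, h0, zero_mul] at this
  exact one_ne_zero this

theorem IsCharacter.norm_eq_one_of_apply_one [Finite G] {lam : G → ℂ} (hlam : IsCharacter G lam)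
    (h1 : lam 1 = 1) (g : G) : ‖lam g‖ = 1 := by
  have hpow : lam g ^ orderOf g = 1 := by
    have := map_pow (linCharHom hlam h1) g (orderOf g)
    rw [pow_orderOf_eq_one, map_one] at this
    exact this.symm
  have hpos : 0 < orderOf g := orderOf_pos g
  have h2 : ‖lam g‖ ^ orderOf g = 1 := by rw [← norm_pow, hpow, norm_one]
  exact (pow_eq_one_iff_of_nonneg (norm_nonneg _) hpos.ne').mp h2

theorem IsCharacter.mul_conj_eq_one_of_apply_one [Finite G] {lam : G → ℂ} (hlam : IsCharacter G lam)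
    (h1 : lam 1 = 1) (g : G) : lam g * conj (lam g) = 1 := by
  rw [Complex.mul_conj, Complex.normSq_eq_norm_sq, IsCharacter.norm_eq_one_of_apply_one hlam h1]
  norm_num

end linear

end Cfsg.Agent.Lib.Helper6
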