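/-
helper6: class sums of classes not centralising a normal p-subgroup are nilpotent in characteristic p
(finite-monoid idempotent power + fixed points of p-group actions).
-/
import Mathlib

set_option autoImplicit false

namespace Cfsg.Agent.Lib.Helper6

open MonoidAlgebra

/-- In a finite monoid every element has an idempotent positive power. -/
theorem exists_idempotent_pow {A : Type*} [Monoid A] [Finite A] (z : A) :
    ∃ m : ℕ, 0 < m ∧ z ^ m * z ^ m = z ^ m := by
  obtain ⟨i, j, hij, h⟩ := Finite.exists_ne_map_eq_of_infinite (fun n : ℕ => z ^ n)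
  wlog hlt : i < j generalizing i j
  · exact this j i (Ne.symm hij) h.symm (lt_of_le_of_ne (not_lt.mp hlt) (Ne.symm hij))
  obtain ⟨d, rfl⟩ : ∃ d, j = i + d := ⟨j - i, by omega⟩
  have hd : 0 < d := by omega
  have h1 : ∀ k, i ≤ k → z ^ (k + d) = z ^ k := by
    intro k hk
    obtain ⟨r, rfl⟩ : ∃ r, k = r + i := ⟨k - i, by omega⟩
    rw [add_assoc, pow_add, ← h, ← pow_add]
  have h2 : ∀ t k, i ≤ k → z ^ (k + t * d) = z ^ k := by
    intro t
    induction t with
    | zero => intro k _; simp
    | succ t ih =>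
      intro k hk
      rw [Nat.succ_mul, ← add_assoc, h1 _ (by omega), ih k hk]
  refine ⟨(i + 1) * d, Nat.mul_pos (Nat.succ_pos i) hd, ?_⟩
  rw [← pow_add]
  apply h2 (i + 1) ((i + 1) * d)
  calc i ≤ (i + 1) * 1 := by omega
    _ ≤ (i + 1) * d := Nat.mul_le_mul_left _ hd

section classSum

variable {G : Type*} [Group G]

/-- A conjugation-invariant sum of group elements commutes with group elements. -/
theorem commute_sum_single (R : Type*) [Semiring R] (K : Finset G)
    (hK : ∀ x ∈ K, ∀ h : G, h * x * h⁻¹ ∈ K) (h : G) :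
    (∑ x ∈ K, MonoidAlgebra.single x (1 : R)) * MonoidAlgebra.single h (1 : R) =
      MonoidAlgebra.single h (1 : R) * ∑ x ∈ K, MonoidAlgebra.single x (1 : R) := by
  rw [Finset.sum_mul, Finset.mul_sum]
  simp_rw [MonoidAlgebra.single_mul_single, mul_one]
  apply Finset.sum_bij (fun x _ => h⁻¹ * x * h)
  · intro x hx
    have := hK x hx h⁻¹
    simpa using this
  · intro x _ y _ hxy
    have h1 : h * (h⁻¹ * x * h) * h⁻¹ = h * (h⁻¹ * y * h) * h⁻¹ := by rw [hxy]
    simpa [mul_assoc] using h1
  · intro y hy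
    refine ⟨h * y * h⁻¹, hK y hy h, ?_⟩
    group
  · intro x _
    congr 1
    group

/-- A function invariant under a fixed-point-free conjugation action of a `p`-group on a finite set
sums to zero in characteristic `p`. -/
theorem sum_eq_zero_of_pgroup_fixed_point_free [DecidableEq G] (p : ℕ) [hp : Fact p.Prime]
    (Q : Subgroup G) (hQ : IsPGroup p Q) (K : Finset G)
    (hK : ∀ x ∈ K, ∀ q ∈ Q, q * x * q⁻¹ ∈ K) (hfix : ∀ x ∈ K, ∃ q ∈ Q, q * x * q⁻¹ ≠ x)
    {B : Type*} [AddCommGroup B] [DecidableEq B] (hB : ∀ b : B, p • b = 0) (f : G → B)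
    (hf : ∀ x ∈ K, ∀ q ∈ Q, f (q * x * q⁻¹) = f x) : ∑ x ∈ K, f x = 0 := by
  have h1 := Finset.sum_comp (s := K) (fun b : B => b) f
  rw [h1]
  apply Finset.sum_eq_zero
  intro b _
  -- the fibre as a `Q`-set
  let X : Finset G := K.filter (fun x => f x = b)
  have hX : ∀ x, x ∈ X ↔ x ∈ K ∧ f x = b := fun x => Finset.mem_filter
  let act : MulAction Q X :=
    { smul := fun q x => ⟨(q : G) * x * (q : G)⁻¹, (hX _).mpr
        ⟨hK x ((hX x).mp x.2).1 q q.2, by rw [hf x ((hX x).mp x.2).1 q q.2]; exact ((hX x).mp x.2).2⟩⟩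
      one_smul := by
        intro x
        apply Subtype.ext
        change ((1 : Q) : G) * x * ((1 : Q) : G)⁻¹ = x
        simp
      mul_smul := by
        intro q r x
        apply Subtype.ext
        change ((q * r : Q) : G) * x * ((q * r : Q) : G)⁻¹ = (q : G) * ((r : G) * x * (r : G)⁻¹) * (q : G)⁻¹
        rw [Subgroup.coe_mul]
        group }
  have hsmul : ∀ (q : Q) (x : X), ((q • x : X) : G) = (q : G) * x * (q : G)⁻¹ := fun q x => rfl
  have hfp : MulAction.fixedPoints Q X = ∅ := by
    rw [Set.eq_empty_iff_forall_notMem]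
    intro x hx
    obtain ⟨q, hq, hne⟩ := hfix x ((hX x).mp x.2).1
    apply hne
    have := hx ⟨q, hq⟩
    have h2 := congrArg (fun y : X => (y : G)) this
    exact h2
  have hcard := hQ.card_modEq_card_fixedPoints X
  rw [hfp, Nat.card_eq_fintype_card, Fintype.card_coe] at hcard
  have hdvd : p ∣ X.card := by
    have : Nat.card (∅ : Set X) = 0 := by simp
    rw [this] at hcard
    exact (Nat.modEq_zero_iff_dvd).mp hcard
  obtain ⟨k, hk⟩ := hdvd
  change X.card • b = 0
  rw [hk, mul_comm, mul_smul, hB, smul_zero]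

/-- The class-sum-type element attached to a conjugation-invariant set `K` none of whose elements
centralises the normal `p`-subgroup `Q` is nilpotent in the group algebra over `ZMod p`. -/
theorem isNilpotent_sum_single_zmod [Finite G] [DecidableEq G] (p : ℕ) [hp : Fact p.Prime]
    (Q : Subgroup G) (hQ : IsPGroup p Q) [hQn : Q.Normal] (K : Finset G)
    (hK : ∀ x ∈ K, ∀ h : G, h * x * h⁻¹ ∈ K) (hfix : ∀ x ∈ K, ∃ q ∈ Q, q * x * q⁻¹ ≠ x) :
    IsNilpotent (∑ x ∈ K, MonoidAlgebra.single x (1 : ZMod p) : MonoidAlgebra (ZMod p) G) := by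
  classical
  let _ := Fintype.ofFinite G
  set z : MonoidAlgebra (ZMod p) G := ∑ x ∈ K, MonoidAlgebra.single x (1 : ZMod p) with hz
  have hfinA : Finite (MonoidAlgebra (ZMod p) G) := Module.finite_of_finite (ZMod p)
  have hchar : ∀ b : MonoidAlgebra (ZMod p) G, p • b = 0 := by
    intro b
    rw [← Nat.cast_smul_eq_nsmul (ZMod p), ZMod.natCast_self, zero_smul]
  -- commutation
  have hcomm : ∀ h : G, z * MonoidAlgebra.single h (1 : ZMod p) =
      MonoidAlgebra.single h (1 : ZMod p) * z := commute_sum_single (ZMod p) K hK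
  have hcommpow : ∀ (n : ℕ) (h : G), z ^ n * MonoidAlgebra.single h (1 : ZMod p) =
      MonoidAlgebra.single h (1 : ZMod p) * z ^ n := by
    intro n h
    exact ((Commute.pow_left (hcomm h) n : Commute (z ^ n) (MonoidAlgebra.single h (1 : ZMod p)))).eq
  -- `z` kills the `Q`-fixed vectors
  have hkill : ∀ w : MonoidAlgebra (ZMod p) G,
      (∀ q ∈ Q, MonoidAlgebra.single q (1 : ZMod p) * w = w) → z * w = 0 := by
    intro w hw
    rw [hz, Finset.sum_mul]
    apply sum_eq_zero_of_pgroup_fixed_point_free p Q hQ K (fun x hx q _ => hK x hx q) hfix hchar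
      (fun x => MonoidAlgebra.single x (1 : ZMod p) * w)
    intro x _ q hq
    have hc : x⁻¹ * q * x ∈ Q := by
      have := hQn.conj_mem q hq x⁻¹
      simpa using this
    have h1 : q * x * q⁻¹ = x * (x⁻¹ * q * x * q⁻¹) := by group
    have hc' : x⁻¹ * q * x * q⁻¹ ∈ Q := Q.mul_mem hc (Q.inv_mem hq)
    rw [h1]
    have h2 : MonoidAlgebra.single (x * (x⁻¹ * q * x * q⁻¹)) (1 : ZMod p) =
        MonoidAlgebra.single x (1 : ZMod p) * MonoidAlgebra.single (x⁻¹ * q * x * q⁻¹) 1 := by
      rw [MonoidAlgebra.single_mul_single, mul_one]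
    rw [h2, mul_assoc, hw _ hc']
  -- idempotent power
  obtain ⟨m, hm, hidem⟩ := exists_idempotent_pow z
  refine ⟨m, ?_⟩
  by_contra hne
  set e := z ^ m with he
  have hekill : ∀ w : MonoidAlgebra (ZMod p) G,
      (∀ q ∈ Q, MonoidAlgebra.single q (1 : ZMod p) * w = w) → e * w = 0 := by
    intro w hw
    obtain ⟨n, rfl⟩ : ∃ n, m = n + 1 := ⟨m - 1, by omega⟩
    rw [he, pow_succ, mul_assoc, hkill w hw, mul_zero]
  -- the space `V = e A`
  let V : Submodule (ZMod p) (MonoidAlgebra (ZMod p) G) :=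
    LinearMap.range (LinearMap.mulLeft (ZMod p) e)
  have hVmem : ∀ v, v ∈ V ↔ ∃ u, e * u = v := fun v => Iff.rfl
  have heV : e ∈ V := (hVmem e).mpr ⟨e, hidem⟩
  have hVfix : ∀ v ∈ V, e * v = v := by
    intro v hv
    obtain ⟨u, rfl⟩ := (hVmem v).mp hv
    rw [← mul_assoc, hidem]
  let act : MulAction Q V :=
    { smul := fun q v => ⟨MonoidAlgebra.single (q : G) (1 : ZMod p) * v, by
        obtain ⟨u, hu⟩ := (hVmem _).mp v.2
        refine (hVmem _).mpr ⟨MonoidAlgebra.single (q : G) (1 : ZMod p) * u, ?_⟩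
        rw [← mul_assoc, he, hcommpow m q, mul_assoc, ← he, hu]⟩
      one_smul := by
        intro v
        apply Subtype.ext
        change MonoidAlgebra.single ((1 : Q) : G) (1 : ZMod p) * (v : MonoidAlgebra (ZMod p) G) = v
        rw [Subgroup.coe_one, ← MonoidAlgebra.one_def, one_mul]
      mul_smul := by
        intro q r v
        apply Subtype.ext
        change MonoidAlgebra.single ((q * r : Q) : G) (1 : ZMod p) * (v : MonoidAlgebra (ZMod p) G) =
          MonoidAlgebra.single (q : G) (1 : ZMod p) *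
            (MonoidAlgebra.single (r : G) (1 : ZMod p) * (v : MonoidAlgebra (ZMod p) G))
        rw [Subgroup.coe_mul, ← mul_assoc, MonoidAlgebra.single_mul_single, mul_one] }
  have hsmul : ∀ (q : Q) (v : V), ((q • v : V) : MonoidAlgebra (ZMod p) G) =
      MonoidAlgebra.single (q : G) (1 : ZMod p) * v := fun q v => rfl
  have hfinV : Finite V := Finite.of_injective _ Subtype.val_injective
  let _ : Fintype V := Fintype.ofFinite V
  have hVnt : Nontrivial V := ⟨⟨⟨e, heV⟩, 0, fun h => hne (congrArg Subtype.val h)⟩⟩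
  have hpV : p ∣ Nat.card V := by
    rw [Nat.card_eq_fintype_card, Module.card_eq_pow_finrank (K := ZMod p) (V := V), ZMod.card]
    exact dvd_pow_self p (Module.finrank_pos (R := ZMod p) (M := V)).ne'
  have h0fix : (0 : V) ∈ MulAction.fixedPoints Q V := by
    intro q
    apply Subtype.ext
    rw [hsmul]
    simp
  obtain ⟨w, hwfix, hw0⟩ := hQ.exists_fixed_point_of_prime_dvd_card_of_fixed_point V hpV h0fix
  apply hw0
  apply Subtype.ext
  have h1 : e * (w : MonoidAlgebra (ZMod p) G) = w := hVfix w w.2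
  have h2 : e * (w : MonoidAlgebra (ZMod p) G) = 0 := by
    apply hekill
    intro q hq
    have := hwfix ⟨q, hq⟩
    have h3 := congrArg (fun y : V => (y : MonoidAlgebra (ZMod p) G)) this
    exact h3
  rw [h1] at h2
  rw [h2]
  rfl

end classSum

end Cfsg.Agent.Lib.Helper6
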