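/-
helper6: sums of class functions over the group, organised by conjugacy classes.
-/
import Mathlib
import Cfsg.Agent.Lib.Lead.CharMain
import Cfsg.Agent.Lib.Helper24.CentralChar

set_option autoImplicit false

namespace Cfsg.Agent.Lib.Helper6

open Cfsg Cfsg.Agent.CharLib

universe u

variable {G : Type u} [Group G]

theorem conjClasses_mk_out (C : ConjClasses G) : ConjClasses.mk (Quotient.out C) = C :=
  Quotient.out_eq C

/-- The number of elements of a conjugacy class is the index of the centralizer of a
representative. -/
theorem card_fiber_conjClasses_mk [Fintype G] [DecidableEq (ConjClasses G)] (C : ConjClasses G) :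
    (Finset.univ.filter (fun g : G => ConjClasses.mk g = C)).card =
      (Subgroup.centralizer ({C.out} : Set G)).index := by
  classical
  rw [← Cfsg.Agent.Lib.Helper24.ncard_conj_eq_index, Set.ncard_eq_toFinset_card']
  congr 1
  ext g
  simp only [Finset.mem_filter, Finset.mem_univ, true_and, Set.mem_toFinset, Set.mem_setOf_eq]
  rw [← ConjClasses.mk_eq_mk_iff_isConj, conjClasses_mk_out]
  exact eq_comm

/-- Sum of a class function over the group as a sum over conjugacy classes. -/
theorem sum_eq_sum_conjClasses [Fintype G] [Fintype (ConjClasses G)] {F : G → ℂ}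
    (hF : IsClassFunction G F) :
    ∑ g : G, F g =
      ∑ C : ConjClasses G, ((Subgroup.centralizer ({C.out} : Set G)).index : ℂ) * F C.out := by
  classical
  rw [← Finset.sum_fiberwise Finset.univ (fun g : G => ConjClasses.mk g) F]
  apply Finset.sum_congr rfl
  intro C _
  rw [Finset.sum_congr rfl (g := fun _ => F C.out), Finset.sum_const, nsmul_eq_mul,
    card_fiber_conjClasses_mk]
  intro g hg
  have hg' : ConjClasses.mk g = C := (Finset.mem_filter.mp hg).2
  have hconj : IsConj g C.out := by
    rw [← ConjClasses.mk_eq_mk_iff_isConj, hg', conjClasses_mk_out]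
  exact IsClassFunction.of_isConj hF hconj

end Cfsg.Agent.Lib.Helper6
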