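/-
helper6: explicit formulas for `Cfsg.extendByZero` and `Cfsg.indFun`.
-/
import Mathlib
import Cfsg.Prelude.Def_Characters

set_option autoImplicit false

namespace Cfsg.Agent.Lib.Helper6

open Cfsg

section basic
variable {G : Type*} [Group G]

theorem extendByZero_mem (H : Subgroup G) (θ : H → ℂ) {g : G} (hg : g ∈ H) :
    extendByZero H θ g = θ ⟨g, hg⟩ := by
  unfold extendByZero
  exact Subtype.val_injective.extend_apply θ 0 ⟨g, hg⟩

theorem extendByZero_coe (H : Subgroup G) (θ : H → ℂ) (h : H) :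
    extendByZero H θ (h : G) = θ h := by
  unfold extendByZero
  exact Subtype.val_injective.extend_apply θ 0 h

theorem extendByZero_not_mem (H : Subgroup G) (θ : H → ℂ) {g : G} (hg : g ∉ H) :
    extendByZero H θ g = 0 := by
  unfold extendByZero
  rw [Function.extend_apply']
  · rfl
  · rintro ⟨h, rfl⟩
    exact hg h.2

theorem extendByZero_one (H : Subgroup G) [DecidablePred (· ∈ H)] (g : G) :
    extendByZero H (fun _ => (1 : ℂ)) g = if g ∈ H then 1 else 0 := by
  split_ifs with h
  · rw [extendByZero_mem H _ h]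
  · rw [extendByZero_not_mem H _ h]

theorem indFun_apply [Fintype G] (H : Subgroup G) (θ : H → ℂ) (g : G) :
    indFun H θ g = (Nat.card H : ℂ)⁻¹ * ∑ x : G, extendByZero H θ (x⁻¹ * g * x) := rfl

end basic

section fibers
variable {G : Type*} [Group G] [Fintype G]

/-- The fibre of `x ↦ x⁻¹ * g * x` over a point `x₀⁻¹ * g * x₀` is a coset of the centralizer. -/
noncomputable def conjFiberEquiv (g x₀ : G) :
    {x : G // x⁻¹ * g * x = x₀⁻¹ * g * x₀} ≃ Subgroup.centralizer ({g} : Set G) where
  toFun x := ⟨x.1 * x₀⁻¹, by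
    rw [Subgroup.mem_centralizer_singleton_iff]
    obtain ⟨x, h⟩ := x
    have : g = x * (x₀⁻¹ * g * x₀) * x⁻¹ := by rw [← h]; group
    calc x * x₀⁻¹ * g = x * (x₀⁻¹ * g * x₀) * x₀⁻¹ := by group
      _ = (x * (x₀⁻¹ * g * x₀) * x⁻¹) * (x * x₀⁻¹) := by group
      _ = g * (x * x₀⁻¹) := by rw [← this]⟩
  invFun c := ⟨c.1 * x₀, by
    have hc := Subgroup.mem_centralizer_singleton_iff.mp c.2
    have h2 : c.1⁻¹ * g * c.1 = g := by
      calc c.1⁻¹ * g * c.1 = c.1⁻¹ * (g * c.1) := by group
        _ = c.1⁻¹ * (c.1 * g) := by rw [hc]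
        _ = g := by group
    calc (c.1 * x₀)⁻¹ * g * (c.1 * x₀) = x₀⁻¹ * (c.1⁻¹ * g * c.1) * x₀ := by group
      _ = x₀⁻¹ * g * x₀ := by rw [h2]⟩
  left_inv x := by apply Subtype.ext; simp
  right_inv c := by apply Subtype.ext; simp

theorem card_conjFiber (g x₀ : G) [DecidableEq G] :
    (Finset.univ.filter (fun x : G => x⁻¹ * g * x = x₀⁻¹ * g * x₀)).card =
      Nat.card (Subgroup.centralizer ({g} : Set G)) := by
  rw [← Fintype.card_subtype, ← Nat.card_eq_fintype_card]
  exact Nat.card_congr (conjFiberEquiv g x₀)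

/-- Summing a function of `x⁻¹ * g * x` over `x : G` counts each conjugate `|C_G(g)|` times. -/
theorem sum_conj_eq (g : G) (F : G → ℂ) [DecidableEq G] :
    ∑ x : G, F (x⁻¹ * g * x) =
      (Nat.card (Subgroup.centralizer ({g} : Set G)) : ℂ) *
        ∑ y ∈ Finset.univ.image (fun x : G => x⁻¹ * g * x), F y := by
  rw [Finset.sum_comp F (fun x : G => x⁻¹ * g * x), Finset.mul_sum]
  apply Finset.sum_congr rfl
  intro y hy
  obtain ⟨x₀, -, rfl⟩ := Finset.mem_image.mp hy
  rw [card_conjFiber g x₀, nsmul_eq_mul]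

theorem mem_image_conj_iff (g y : G) [DecidableEq G] :
    y ∈ Finset.univ.image (fun x : G => x⁻¹ * g * x) ↔ IsConj g y := by
  rw [Finset.mem_image, isConj_iff]
  constructor
  · rintro ⟨x, -, rfl⟩
    exact ⟨x⁻¹, by group⟩
  · rintro ⟨c, rfl⟩
    exact ⟨c⁻¹, Finset.mem_univ _, by group⟩

end fibers

section permchar
variable {G : Type*} [Group G] [Fintype G]

omit [Fintype G] in
/-- The number of `x` with `x⁻¹ g x ∈ H` is `|H|` times the number of fixed cosets. -/
theorem card_conj_mem_eq (H : Subgroup G) (g : G) :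
    Nat.card {x : G // x⁻¹ * g * x ∈ H} = Nat.card H * Nat.card {q : G ⧸ H // g • q = q} := by
  have e := QuotientGroup.preimageMkEquivSubgroupProdSet H {q : G ⧸ H | g • q = q}
  have h1 : Nat.card (QuotientGroup.mk ⁻¹' {q : G ⧸ H | g • q = q}) =
      Nat.card H * Nat.card {q : G ⧸ H // g • q = q} := by
    rw [Nat.card_congr e, Nat.card_prod]
    rfl
  rw [← h1]
  apply Nat.card_congr
  apply Equiv.subtypeEquivRight
  intro x
  simp only [Set.mem_preimage, Set.mem_ofPred_eq]
  rw [MulAction.Quotient.smul_mk, QuotientGroup.eq, smul_eq_mul]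
  constructor
  · intro h
    have := H.inv_mem h
    convert this using 1; group
  · intro h
    have := H.inv_mem h
    convert this using 1; group

/-- The permutation character: `1_H^G (g)` is the number of cosets of `H` fixed by `g`. -/
theorem indFun_one_eq_card_fixed (H : Subgroup G) (g : G) :
    indFun H (fun _ => (1 : ℂ)) g = (Nat.card {q : G ⧸ H // g • q = q} : ℂ) := by
  classical
  rw [indFun_apply]
  simp only [extendByZero_one]
  rw [Finset.sum_boole]
  have h1 : (Finset.univ.filter (fun x : G => x⁻¹ * g * x ∈ H)).card =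
      Nat.card {x : G // x⁻¹ * g * x ∈ H} := by
    rw [← Fintype.card_subtype, Nat.card_eq_fintype_card]
  rw [h1, card_conj_mem_eq, Nat.cast_mul]
  have hne : (Nat.card H : ℂ) ≠ 0 := by
    exact_mod_cast (Nat.card_pos (α := H)).ne'
  field_simp

end permchar

section sums

theorem finsum_mem_eq_sum_ite {α M : Type*} [Fintype α] [AddCommMonoid M] (s : Set α)
    [DecidablePred (· ∈ s)] (f : α → M) :
    ∑ᶠ i ∈ s, f i = ∑ i, if i ∈ s then f i else 0 := by
  rw [finsum_mem_eq_toFinset_sum, ← Finset.sum_filter]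
  congr 1
  ext i
  simp

/-- Summing the extension by zero over the whole group, with a side condition. -/
theorem sum_ite_extendByZero {G : Type*} [Group G] [Fintype G] (H : Subgroup G) [Fintype H]
    (θ : H → ℂ) (P : G → Prop) [DecidablePred P] :
    ∑ y : G, (if P y then extendByZero H θ y else 0) =
      ∑ h : H, if P (h : G) then θ h else 0 := by
  classical
  have h1 : ∑ y : G, (if P y then extendByZero H θ y else 0) =
      ∑ y ∈ Finset.univ.filter (fun y : G => y ∈ H), (if P y then extendByZero H θ y else 0) := by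
    symm
    apply Finset.sum_subset (Finset.subset_univ _)
    intro y _ hy
    have hy' : y ∉ H := by simpa using hy
    rw [extendByZero_not_mem H θ hy']; simp
  rw [h1]
  rw [Finset.sum_subtype (Finset.univ.filter (fun y : G => y ∈ H)) (p := fun y => y ∈ H)
    (fun x => by simp)]
  apply Finset.sum_congr rfl
  intro h _
  rw [extendByZero_coe]

end sums

end Cfsg.Agent.Lib.Helper6
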