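/-
helper6: the idempotent coefficients `Cfsg.blockCoeff` and central characters: the value of the
central character of `φ` on the "idempotent" of a set `A` of irreducible characters.
-/
import Mathlib
import Cfsg.Prelude.Def_Blocks
import Cfsg.Agent.Lib.Helper6.ClassSum
import Cfsg.Agent.Lib.Helper6.IndFun

set_option autoImplicit false

namespace Cfsg.Agent.Lib.Helper6

open Cfsg Cfsg.Agent.CharLib
open scoped ComplexConjugate

universe u

variable {G : Type u} [Group G]

theorem blockCoeff_eq_sum [Fintype (IrrCharacter G)] (A : Set (IrrCharacter G))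
    [DecidablePred (· ∈ A)] (g : G) :
    blockCoeff A g = (Nat.card G : ℂ)⁻¹ *
      ∑ χ : IrrCharacter G, if χ ∈ A then (χ : G → ℂ) 1 * conj ((χ : G → ℂ) g) else 0 := by
  unfold blockCoeff
  rw [finsum_mem_eq_sum_ite]

theorem blockCoeff_isClassFunction (A : Set (IrrCharacter G)) :
    IsClassFunction G (blockCoeff A) := by
  intro g h
  unfold blockCoeff
  congr 1
  apply finsum_congr
  intro χ
  apply finsum_congr
  intro _
  rw [IsCharacter.isClassFunction (IsIrrCharacter.isCharacter χ.2) g h]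

/-- The central character of `φ` applied to the idempotent of `A`. -/
theorem sum_blockCoeff_mul_centralChar [Fintype G] [Fintype (ConjClasses G)]
    (A : Set (IrrCharacter G)) [DecidablePred (· ∈ A)] (φ : IrrCharacter G) :
    ∑ C : ConjClasses G, blockCoeff A (Quotient.out C) * centralChar (φ : G → ℂ) (Quotient.out C) =
      if φ ∈ A then 1 else 0 := by
  classical
  let _ := fintypeIrr G
  have hφcls : IsClassFunction G (φ : G → ℂ) :=
    IsCharacter.isClassFunction (IsIrrCharacter.isCharacter φ.2)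
  obtain ⟨d, hdpos, hd⟩ := IsIrrCharacter.apply_one_pos φ.2
  have hd0 : (φ : G → ℂ) 1 ≠ 0 := by rw [hd]; exact Nat.cast_ne_zero.mpr hdpos.ne'
  have hG0 : (Nat.card G : ℂ) ≠ 0 := Nat.cast_ne_zero.mpr Nat.card_pos.ne'
  have hF : IsClassFunction G (fun g => blockCoeff A g * (φ : G → ℂ) g / (φ : G → ℂ) 1) := by
    intro g h
    simp only
    rw [blockCoeff_isClassFunction A g h, hφcls g h]
  have h1 := sum_eq_sum_conjClasses hF
  have h2 : ∑ C : ConjClasses G, blockCoeff A (Quotient.out C) *
      centralChar (φ : G → ℂ) (Quotient.out C) =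
      ∑ g : G, blockCoeff A g * (φ : G → ℂ) g / (φ : G → ℂ) 1 := by
    rw [h1]
    apply Finset.sum_congr rfl
    intro C _
    unfold centralChar
    ring
  rw [h2]
  -- now compute with orthogonality
  have h3 : ∀ g : G, blockCoeff A g * (φ : G → ℂ) g / (φ : G → ℂ) 1 =
      ((φ : G → ℂ) 1)⁻¹ * ((Nat.card G : ℂ)⁻¹ * ∑ χ : IrrCharacter G,
        (if χ ∈ A then (χ : G → ℂ) 1 else 0) * ((φ : G → ℂ) g * conj ((χ : G → ℂ) g))) := by
    intro g
    rw [blockCoeff_eq_sum, div_eq_mul_inv, mul_comm _ ((φ : G → ℂ) 1)⁻¹, mul_assoc]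
    congr 2
    rw [Finset.sum_mul]
    apply Finset.sum_congr rfl
    intro χ _
    split_ifs
    · ring
    · ring
  rw [Finset.sum_congr rfl (fun g _ => h3 g), ← Finset.mul_sum, ← Finset.mul_sum, Finset.sum_comm]
  have h4 : ∀ χ : IrrCharacter G, ∑ g : G, (if χ ∈ A then (χ : G → ℂ) 1 else 0) *
      ((φ : G → ℂ) g * conj ((χ : G → ℂ) g)) =
      (if χ ∈ A then (χ : G → ℂ) 1 else 0) * ((Nat.card G : ℂ) * (if φ = χ then 1 else 0)) := by
    intro χ
    rw [← Finset.mul_sum]
    congr 1
    have := classInner_irr' φ χ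
    unfold classInner at this
    rw [← this, ← mul_assoc, mul_inv_cancel₀ hG0, one_mul]
  rw [Finset.sum_congr rfl (fun χ _ => h4 χ), Finset.sum_eq_single φ]
  · rw [if_pos rfl]
    split_ifs
    · field_simp
    · simp
  · intro χ _ hne
    rw [if_neg (Ne.symm hne)]
    simp
  · intro h; exact absurd (Finset.mem_univ _) h

end Cfsg.Agent.Lib.Helper6
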