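/-
helper6: multiplication of class sums on an irreducible representation.
-/
import Mathlib
import Cfsg.Agent.Lib.Helper24.CentralChar

set_option autoImplicit false

namespace Cfsg.Agent.Lib.Helper6

open Cfsg Module
open Cfsg.Agent.Lib.Helper24

universe u v

section
variable {G : Type u} [Group G] [Fintype G] {V : Type v} [AddCommGroup V] [Module ℂ V]
  [FiniteDimensional ℂ V]

/-- Multiplying two class sums on an irreducible representation and taking traces. -/
theorem sum_mul_char_mul (ρ : Representation ℂ G V) [ρ.IsIrreducible] (a b : G → ℂ)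
    (ha : ∀ g h : G, a (h * g * h⁻¹) = a g) (hb : ∀ g h : G, b (h * g * h⁻¹) = b g) :
    ∑ g : G, ∑ h : G, a g * b h * ρ.character (g * h) =
      (∑ g : G, a g * ρ.character g) * (∑ h : G, b h * ρ.character h) / (finrank ℂ V : ℂ) := by
  have h1 := coeffSum_eq_omega_smul ρ a ha
  have h2 := coeffSum_eq_omega_smul ρ b hb
  have hpos := finrank_pos_of_isIrreducible ρ
  have hne : (finrank ℂ V : ℂ) ≠ 0 := by exact_mod_cast hpos.ne'
  -- the product, expanded
  have hprod : coeffSum ρ a * coeffSum ρ b = ∑ g : G, ∑ h : G, (a g * b h) • ρ (g * h) := by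
    unfold coeffSum
    rw [Finset.sum_mul_sum]
    apply Finset.sum_congr rfl
    intro g _
    apply Finset.sum_congr rfl
    intro h _
    rw [smul_mul_smul_comm, map_mul]
  have htr1 : LinearMap.trace ℂ V (coeffSum ρ a * coeffSum ρ b) =
      ∑ g : G, ∑ h : G, a g * b h * ρ.character (g * h) := by
    rw [hprod, map_sum]
    apply Finset.sum_congr rfl
    intro g _
    rw [map_sum]
    apply Finset.sum_congr rfl
    intro h _
    rw [map_smul, smul_eq_mul]
    rfl
  have htr2 : LinearMap.trace ℂ V (coeffSum ρ a * coeffSum ρ b) =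
      omega ρ a * omega ρ b * (finrank ℂ V : ℂ) := by
    rw [h1, h2, smul_mul_smul_comm, mul_one, map_smul, LinearMap.trace_one, smul_eq_mul]
  rw [← htr1, htr2]
  unfold omega
  field_simp

/-- Class multiplication: the sum of `χ (x * y)` over `x ~ u`, `y ~ v`. -/
theorem sum_isConj_char_mul (ρ : Representation ℂ G V) [ρ.IsIrreducible] (u v : G) :
    ∑ x : G, ∑ y : G, classInd u x * classInd v y * ρ.character (x * y) =
      ((Subgroup.centralizer ({u} : Set G)).index : ℂ) * ρ.character u *
        (((Subgroup.centralizer ({v} : Set G)).index : ℂ) * ρ.character v) / (finrank ℂ V : ℂ) := by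
  rw [sum_mul_char_mul ρ (classInd u) (classInd v) (fun x h => classInd_conj u x h)
    (fun x h => classInd_conj v x h), sum_classInd_mul_char, sum_classInd_mul_char]

end

end Cfsg.Agent.Lib.Helper6

namespace Cfsg.Agent.Lib.Helper6

open Cfsg Module
open Cfsg.Agent.Lib.Helper24

theorem classInd_of_isConj {G : Type*} [Group G] {g x : G} (h : IsConj g x) : classInd g x = 1 := by
  unfold classInd
  exact if_pos h

theorem classInd_of_not_isConj {G : Type*} [Group G] {g x : G} (h : ¬ IsConj g x) :
    classInd g x = 0 := by
  unfold classInd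
  exact if_neg h

theorem sum_classInd {G : Type*} [Group G] [Fintype G] (u : G) :
    ∑ x : G, classInd u x = ((Subgroup.centralizer ({u} : Set G)).index : ℂ) := by
  classical
  have h := sum_classInd_mul_char (1 : Representation ℂ G ℂ) u
  have hone : ∀ x : G, (1 : Representation ℂ G ℂ).character x = 1 := by
    intro x
    simp [Representation.character]
  simp only [hone, mul_one] at h
  exact h

theorem index_centralizer_ne_zero {G : Type*} [Group G] [Finite G] (u : G) :
    ((Subgroup.centralizer ({u} : Set G)).index : ℂ) ≠ 0 := by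
  have : (Subgroup.centralizer ({u} : Set G)).index ≠ 0 := Subgroup.index_ne_zero_of_finite
  exact_mod_cast this

end Cfsg.Agent.Lib.Helper6
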