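/-
helper6: Osima's theorem — the block idempotent (in the sense of `Cfsg.blockCoeff`) of a p-block has
coefficients in the local ring at the maximal ideal M. Elementary proof: a product of factors
`K_g - ω_ψ(K_g)` kills the central characters outside the block, then quadratic polynomial
corrections normalise the values on the block to 1; completeness of characters identifies the result.
-/
import Mathlib
import Cfsg.Agent.Lib.Helper6.BlockCoeff
import Cfsg.Agent.Lib.Helper6.ClassMult
import Cfsg.Agent.Lib.Helper24.LocalRing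
import Cfsg.Agent.Lib.Lead.CharComplete

set_option autoImplicit false

namespace Cfsg.Agent.Lib.Helper6

open Cfsg Cfsg.Agent.CharLib Cfsg.Agent.Lib.Helper24
open scoped ComplexConjugate

universe u

section localRing

variable {M : Ideal AlgInt}

/-- Elements of the local ring outside the local ideal are units. -/
theorem memLocalRing_inv {z : ℂ} (hz : MemLocalRing M z)
    (hz' : ¬ MemLocalIdeal M z) : MemLocalRing M z⁻¹ := by
  obtain ⟨a, b, hb, rfl⟩ := hz
  have ha : a ∉ M := fun ha => hz' ⟨a, b, ha, hb, rfl⟩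
  exact ⟨b, a, ha, by rw [inv_div]⟩

/-- The local ideal is prime in the local ring. -/
theorem memLocalIdeal_or_of_mul [hp : M.IsPrime] {z w : ℂ} (hz : MemLocalRing M z)
    (hw : MemLocalRing M w) (h : MemLocalIdeal M (z * w)) :
    MemLocalIdeal M z ∨ MemLocalIdeal M w := by
  obtain ⟨a, b, hb, rfl⟩ := hz
  obtain ⟨a', b', hb', rfl⟩ := hw
  obtain ⟨c, d, hc, hd, hcd⟩ := h
  have hb0 := coe_ne_zero_of_not_mem hb
  have hb0' := coe_ne_zero_of_not_mem hb'
  have hd0 := coe_ne_zero_of_not_mem hd
  have h1 : (a : ℂ) * (a' : ℂ) * (d : ℂ) = (c : ℂ) * (b : ℂ) * (b' : ℂ) := by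
    field_simp at hcd
    linear_combination -hcd
  have h2 : a * a' * d = c * b * b' := Subtype.ext (by push_cast; exact h1)
  have h3 : a * a' * d ∈ M := by
    rw [h2]
    exact M.mul_mem_right _ (M.mul_mem_right _ hc)
  rcases hp.mem_or_mem h3 with h4 | h4
  · rcases hp.mem_or_mem h4 with h5 | h5
    · exact Or.inl ⟨a, b, h5, hb, rfl⟩
    · exact Or.inr ⟨a', b', h5, hb', rfl⟩
  · exact absurd h4 hd

theorem not_memLocalIdeal_mul [hp : M.IsPrime] {z w : ℂ} (hz : MemLocalRing M z)
    (hw : MemLocalRing M w) (hz' : ¬ MemLocalIdeal M z) (hw' : ¬ MemLocalIdeal M w) :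
    ¬ MemLocalIdeal M (z * w) := fun h => by
  rcases memLocalIdeal_or_of_mul hz hw h with h | h
  · exact hz' h
  · exact hw' h

theorem memLocalRing_one [hp : M.IsPrime] : MemLocalRing M 1 :=
  ⟨1, 1, hp.one_notMem, by simp⟩

theorem memLocalRing_zero [hp : M.IsPrime] : MemLocalRing M 0 :=
  ⟨0, 1, hp.one_notMem, by simp⟩

/-- If `x ≡ v` modulo the local ideal then `x - (1 + v)` is a unit. -/
theorem not_memLocalIdeal_sub_one_add [hp : M.IsPrime] {x v : ℂ}
    (h : MemLocalIdeal M (x - v)) : ¬ MemLocalIdeal M (x - (1 + v)) := by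
  intro h1
  have h2 := memLocalIdeal_sub h h1
  have h3 : x - v - (x - (1 + v)) = 1 := by ring
  rw [h3] at h2
  exact not_memLocalIdeal_one h2

end localRing

section conv

variable {G : Type u} [Group G] [Fintype G]

/-- Convolution of coefficient functions (the product in the group algebra). -/
def conv (a b : G → ℂ) : G → ℂ := fun x => ∑ g : G, a g * b (g⁻¹ * x)

/-- The central character functional `a ↦ (∑ a(g) χ(g)) / χ(1)`. -/
noncomputable def omegaFun (χ : G → ℂ) (a : G → ℂ) : ℂ := (∑ g : G, a g * χ g) / χ 1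

theorem conv_isClassFunction {a b : G → ℂ} (ha : IsClassFunction G a) (hb : IsClassFunction G b) :
    IsClassFunction G (conv a b) := by
  intro x h
  unfold conv
  rw [← Equiv.sum_comp (MulAut.conj h).toEquiv]
  apply Finset.sum_congr rfl
  intro g _
  have h1 : (MulAut.conj h).toEquiv g = h * g * h⁻¹ := by simp
  rw [h1, ha g h]
  congr 1
  have h2 : (h * g * h⁻¹)⁻¹ * (h * x * h⁻¹) = h * (g⁻¹ * x) * h⁻¹ := by group
  rw [h2, hb]

theorem omegaFun_add (χ a b : G → ℂ) : omegaFun χ (a + b) = omegaFun χ a + omegaFun χ b := by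
  unfold omegaFun
  rw [← add_div]
  congr 1
  rw [← Finset.sum_add_distrib]
  apply Finset.sum_congr rfl
  intro g _
  rw [Pi.add_apply, add_mul]

theorem omegaFun_smul (χ : G → ℂ) (c : ℂ) (a : G → ℂ) : omegaFun χ (c • a) = c * omegaFun χ a := by
  unfold omegaFun
  rw [← mul_div_assoc, Finset.mul_sum]
  congr 1
  apply Finset.sum_congr rfl
  intro g _
  rw [Pi.smul_apply, smul_eq_mul, mul_assoc]

theorem omegaFun_sub (χ a b : G → ℂ) : omegaFun χ (a - b) = omegaFun χ a - omegaFun χ b := by
  unfold omegaFun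
  rw [← sub_div]
  congr 1
  rw [← Finset.sum_sub_distrib]
  apply Finset.sum_congr rfl
  intro g _
  rw [Pi.sub_apply, sub_mul]

/-- The central character functional is multiplicative on class functions. -/
theorem omegaFun_conv (χ : IrrCharacter G) {a b : G → ℂ} (ha : IsClassFunction G a)
    (hb : IsClassFunction G b) :
    omegaFun (χ : G → ℂ) (conv a b) = omegaFun (χ : G → ℂ) a * omegaFun (χ : G → ℂ) b := by
  obtain ⟨n, ρ, hρ, hχ⟩ := χ.2
  have hmul := sum_mul_char_mul ρ a b (fun g h => ha g h) (fun g h => hb g h)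
  have h1 : (χ : G → ℂ) 1 = (Module.finrank ℂ (Fin n → ℂ) : ℂ) := by
    rw [← hχ, Representation.char_one]
  have hpos := finrank_pos_of_isIrreducible ρ
  have hne : (Module.finrank ℂ (Fin n → ℂ) : ℂ) ≠ 0 := by exact_mod_cast hpos.ne'
  have h2 : ∑ x : G, conv a b x * (χ : G → ℂ) x =
      ∑ g : G, ∑ h : G, a g * b h * ρ.character (g * h) := by
    unfold conv
    simp_rw [Finset.sum_mul]
    rw [Finset.sum_comm]
    apply Finset.sum_congr rfl
    intro g _
    rw [← Equiv.sum_comp (Equiv.mulLeft g)]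
    apply Finset.sum_congr rfl
    intro h _
    rw [Equiv.coe_mulLeft, inv_mul_cancel_left, hχ]
  unfold omegaFun
  rw [h2, hmul, h1, ← hχ]
  field_simp

theorem omegaFun_classInd (χ : IrrCharacter G) (g : G) :
    omegaFun (χ : G → ℂ) (classInd g) = centralChar (χ : G → ℂ) g := by
  obtain ⟨n, ρ, hρ, hχ⟩ := χ.2
  unfold omegaFun centralChar
  rw [← hχ, sum_classInd_mul_char]

theorem omegaFun_eq_sum_conjClasses [Fintype (ConjClasses G)] (χ : IrrCharacter G) {a : G → ℂ}
    (ha : IsClassFunction G a) :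
    omegaFun (χ : G → ℂ) a =
      ∑ C : ConjClasses G, a (Quotient.out C) * centralChar (χ : G → ℂ) (Quotient.out C) := by
  have hχcls : IsClassFunction G (χ : G → ℂ) :=
    IsCharacter.isClassFunction (IsIrrCharacter.isCharacter χ.2)
  have hF : IsClassFunction G (fun g => a g * (χ : G → ℂ) g / (χ : G → ℂ) 1) := by
    intro g h
    simp only
    rw [ha g h, hχcls g h]
  have h1 := sum_eq_sum_conjClasses hF
  unfold omegaFun
  rw [Finset.sum_div, h1]
  apply Finset.sum_congr rfl
  intro C _
  unfold centralChar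
  ring

end conv

section osima

variable {G : Type u} [Group G] [Fintype G] {M : Ideal AlgInt} [hp : M.IsPrime]

theorem memLocalRing_conv {a b : G → ℂ} (ha : ∀ x, MemLocalRing M (a x))
    (hb : ∀ x, MemLocalRing M (b x)) (x : G) : MemLocalRing M (conv a b x) :=
  sum_memLocalRing _ _ (fun g _ => memLocalRing_mul (ha g) (hb _))

theorem memLocalRing_centralChar (χ : IrrCharacter G) (g : G) :
    MemLocalRing M (centralChar (χ : G → ℂ) g) := by
  obtain ⟨n, ρ, hρ, hχ⟩ := χ.2
  have h := isIntegral_index_mul_char_div ρ g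
  have h1 : centralChar (χ : G → ℂ) g =
      ((Subgroup.centralizer ({g} : Set G)).index : ℂ) * ρ.character g /
        (Module.finrank ℂ (Fin n → ℂ) : ℂ) := by
    unfold centralChar
    rw [← hχ, Representation.char_one]
  rw [h1]
  exact memLocalRing_of_algInt ⟨_, h⟩ hp.one_notMem

theorem memLocalRing_classInd (g x : G) : MemLocalRing M (classInd g x) := by
  classical
  unfold classInd
  split_ifs
  · exact memLocalRing_one
  · exact memLocalRing_zero

theorem memLocalRing_omegaFun (χ : IrrCharacter G) {a : G → ℂ} (ha : IsClassFunction G a)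
    (haR : ∀ x, MemLocalRing M (a x)) : MemLocalRing M (omegaFun (χ : G → ℂ) a) := by
  classical
  let _ : Fintype (ConjClasses G) := Fintype.ofFinite _
  rw [omegaFun_eq_sum_conjClasses χ ha]
  exact sum_memLocalRing _ _ (fun C _ => memLocalRing_mul (haR _) (memLocalRing_centralChar χ _))

theorem memLocalIdeal_omegaFun_sub (χ χ' : IrrCharacter G)
    (h : ∀ g, MemLocalIdeal M (centralChar (χ : G → ℂ) g - centralChar (χ' : G → ℂ) g))
    {a : G → ℂ} (ha : IsClassFunction G a) (haR : ∀ x, MemLocalRing M (a x)) :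
    MemLocalIdeal M (omegaFun (χ : G → ℂ) a - omegaFun (χ' : G → ℂ) a) := by
  classical
  let _ : Fintype (ConjClasses G) := Fintype.ofFinite _
  rw [omegaFun_eq_sum_conjClasses χ ha, omegaFun_eq_sum_conjClasses χ' ha,
    ← Finset.sum_sub_distrib]
  apply sum_memLocalIdeal
  intro C _
  rw [← mul_sub]
  exact memLocalIdeal_mul_left (haR _) (h _)

omit [Fintype G] in
theorem classInd_isClassFunction (g : G) : IsClassFunction G (classInd g) :=
  fun x h => classInd_conj g x h

/-- Step A: an element of the centre of the local group ring killed by the central characters of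
finitely many characters outside the block of `χ₀`, on which `ω_{χ₀}` is a unit. -/
theorem exists_annihilator (χ₀ : IrrCharacter G) (S : Finset (IrrCharacter G))
    (hS : ∀ ψ ∈ S, ∃ g, ¬ MemLocalIdeal M
      (centralChar (χ₀ : G → ℂ) g - centralChar (ψ : G → ℂ) g)) :
    ∃ t : G → ℂ, IsClassFunction G t ∧ (∀ x, MemLocalRing M (t x)) ∧
      (∀ ψ ∈ S, omegaFun (ψ : G → ℂ) t = 0) ∧ ¬ MemLocalIdeal M (omegaFun (χ₀ : G → ℂ) t) := by
  classical
  induction S using Finset.induction_on with
  | empty =>
    refine ⟨classInd 1, classInd_isClassFunction 1, memLocalRing_classInd 1, ?_, ?_⟩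
    · intro ψ hψ
      exact absurd hψ (Finset.notMem_empty ψ)
    · rw [omegaFun_classInd]
      obtain ⟨d, hdpos, hd⟩ := IsIrrCharacter.apply_one_pos χ₀.2
      have hd0 : (χ₀ : G → ℂ) 1 ≠ 0 := by rw [hd]; exact Nat.cast_ne_zero.mpr hdpos.ne'
      have h1 : centralChar (χ₀ : G → ℂ) 1 = 1 := by
        unfold centralChar
        have : Subgroup.centralizer ({1} : Set G) = ⊤ := by
          rw [Subgroup.centralizer_eq_top_iff_subset]
          intro x hx
          rw [Set.mem_singleton_iff] at hx
          rw [hx]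
          exact (Subgroup.center G).one_mem
        rw [this, Subgroup.index_top, Nat.cast_one, one_mul, div_self hd0]
      rw [h1]
      exact not_memLocalIdeal_one
  | insert ψ S hψS ih =>
    obtain ⟨t, ht, htR, htS, htχ⟩ := ih (fun φ hφ => hS φ (Finset.mem_insert_of_mem hφ))
    obtain ⟨g, hg⟩ := hS ψ (Finset.mem_insert_self ψ S)
    have hstep : ∀ φ : IrrCharacter G,
        omegaFun (φ : G → ℂ) (conv t (classInd g) - centralChar (ψ : G → ℂ) g • t) =
          omegaFun (φ : G → ℂ) t *
            (centralChar (φ : G → ℂ) g - centralChar (ψ : G → ℂ) g) := by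
      intro φ
      rw [omegaFun_sub, omegaFun_smul, omegaFun_conv φ ht (classInd_isClassFunction g),
        omegaFun_classInd]
      ring
    refine ⟨conv t (classInd g) - centralChar (ψ : G → ℂ) g • t, ?_, ?_, ?_, ?_⟩
    · exact IsClassFunction.sub (conv_isClassFunction ht (classInd_isClassFunction g))
        (IsClassFunction.smul _ ht)
    · intro x
      rw [Pi.sub_apply, Pi.smul_apply, smul_eq_mul]
      exact memLocalRing_sub (memLocalRing_conv htR (memLocalRing_classInd g) x)
        (memLocalRing_mul (memLocalRing_centralChar ψ g) (htR x))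
    · intro φ hφ
      rw [hstep]
      rcases Finset.mem_insert.mp hφ with h | h
      · rw [h, sub_self, mul_zero]
      · rw [htS φ h, zero_mul]
    · rw [hstep]
      exact not_memLocalIdeal_mul (memLocalRing_omegaFun χ₀ ht htR)
        (memLocalRing_sub (memLocalRing_centralChar χ₀ g) (memLocalRing_centralChar ψ g)) htχ hg

/-- Step B: normalising the values on the block to `1`. -/
theorem exists_idempotent_aux (χ₀ : IrrCharacter G) (B : Set (IrrCharacter G))
    (hB : ∀ χ ∈ B, ∀ g, MemLocalIdeal M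
      (centralChar (χ₀ : G → ℂ) g - centralChar (χ : G → ℂ) g))
    (hBc : ∀ ψ, ψ ∉ B → ∃ g, ¬ MemLocalIdeal M
      (centralChar (χ₀ : G → ℂ) g - centralChar (ψ : G → ℂ) g))
    (T : Finset (IrrCharacter G)) (hT : ∀ χ ∈ T, χ ∈ B) :
    ∃ s : G → ℂ, IsClassFunction G s ∧ (∀ x, MemLocalRing M (s x)) ∧
      (∀ ψ, ψ ∉ B → omegaFun (ψ : G → ℂ) s = 0) ∧ (∀ χ ∈ T, omegaFun (χ : G → ℂ) s = 1) ∧
      ¬ MemLocalIdeal M (omegaFun (χ₀ : G → ℂ) s) := by
  classical
  let _ : Fintype (IrrCharacter G) := Fintype.ofFinite _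
  induction T using Finset.induction_on with
  | empty =>
    obtain ⟨t, ht, htR, htS, htχ⟩ := exists_annihilator (M := M) χ₀
      (Finset.univ.filter (fun ψ => ψ ∉ B)) (fun ψ hψ => hBc ψ (Finset.mem_filter.mp hψ).2)
    refine ⟨t, ht, htR, ?_, ?_, htχ⟩
    · intro ψ hψ
      exact htS ψ (Finset.mem_filter.mpr ⟨Finset.mem_univ _, hψ⟩)
    · intro χ hχ
      exact absurd hχ (Finset.notMem_empty χ)
  | insert χ' T hχ'T ih =>
    obtain ⟨s, hs, hsR, hsB, hsT, hsχ⟩ := ih (fun φ hφ => hT φ (Finset.mem_insert_of_mem hφ))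
    have hχ'B : χ' ∈ B := hT χ' (Finset.mem_insert_self χ' T)
    set v := omegaFun (χ' : G → ℂ) s with hv
    set x₀ := omegaFun (χ₀ : G → ℂ) s with hx₀
    have hvR : MemLocalRing M v := memLocalRing_omegaFun χ' hs hsR
    have hx₀R : MemLocalRing M x₀ := memLocalRing_omegaFun χ₀ hs hsR
    have hcong : MemLocalIdeal M (x₀ - v) := memLocalIdeal_omegaFun_sub χ₀ χ' (hB χ' hχ'B) hs hsR
    have hvM : ¬ MemLocalIdeal M v := by
      intro h
      apply hsχ
      have h1 := memLocalIdeal_add hcong h
      have h2 : x₀ - v + v = x₀ := by ring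
      rw [h2] at h1
      exact h1
    have hv0 : v ≠ 0 := by
      intro h
      apply hvM
      rw [h]
      exact memLocalIdeal_zero hp.one_notMem
    have hnegR : MemLocalRing M (-v) := memLocalRing_neg hvR
    have hnegM : ¬ MemLocalIdeal M (-v) := by
      intro h
      apply hvM
      have := memLocalIdeal_neg h
      rwa [neg_neg] at this
    have hinvR : MemLocalRing M (-v)⁻¹ := memLocalRing_inv hnegR hnegM
    have hinvM : ¬ MemLocalIdeal M (-v)⁻¹ := by
      intro h
      have h1 := memLocalIdeal_mul_right h hnegR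
      rw [inv_mul_cancel₀ (neg_ne_zero.mpr hv0)] at h1
      exact not_memLocalIdeal_one h1
    have hstep : ∀ φ : IrrCharacter G,
        omegaFun (φ : G → ℂ) ((-v)⁻¹ • (conv s s - (1 + v) • s)) =
          (-v)⁻¹ * (omegaFun (φ : G → ℂ) s * (omegaFun (φ : G → ℂ) s - (1 + v))) := by
      intro φ
      rw [omegaFun_smul, omegaFun_sub, omegaFun_smul, omegaFun_conv φ hs hs]
      ring
    refine ⟨(-v)⁻¹ • (conv s s - (1 + v) • s), ?_, ?_, ?_, ?_, ?_⟩
    · exact IsClassFunction.smul _ (IsClassFunction.sub (conv_isClassFunction hs hs)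
        (IsClassFunction.smul _ hs))
    · intro x
      rw [Pi.smul_apply, Pi.sub_apply, Pi.smul_apply, smul_eq_mul, smul_eq_mul]
      exact memLocalRing_mul hinvR (memLocalRing_sub (memLocalRing_conv hsR hsR x)
        (memLocalRing_mul (memLocalRing_add memLocalRing_one hvR) (hsR x)))
    · intro ψ hψ
      rw [hstep, hsB ψ hψ, zero_mul, mul_zero]
    · intro φ hφ
      rw [hstep]
      rcases Finset.mem_insert.mp hφ with h | h
      · rw [h, ← hv]
        field_simp
        ring
      · rw [hsT φ h]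
        field_simp
        ring
    · rw [hstep, ← hx₀]
      exact not_memLocalIdeal_mul hinvR
        (memLocalRing_mul hx₀R (memLocalRing_sub hx₀R (memLocalRing_add memLocalRing_one hvR)))
        hinvM (not_memLocalIdeal_mul hx₀R
          (memLocalRing_sub hx₀R (memLocalRing_add memLocalRing_one hvR)) hsχ
          (not_memLocalIdeal_sub_one_add hcong))

theorem omegaFun_blockCoeff (A : Set (IrrCharacter G)) [DecidablePred (· ∈ A)]
    (φ : IrrCharacter G) :
    omegaFun (φ : G → ℂ) (blockCoeff A) = if φ ∈ A then 1 else 0 := by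
  classical
  let _ : Fintype (ConjClasses G) := Fintype.ofFinite _
  rw [omegaFun_eq_sum_conjClasses φ (blockCoeff_isClassFunction A)]
  exact sum_blockCoeff_mul_centralChar A φ

/-- **Osima's theorem**: the coefficients of a block idempotent are local integers. -/
theorem memLocalRing_blockCoeff_blockOf (χ₀ : IrrCharacter G) (g : G) :
    MemLocalRing M (blockCoeff (blockOf M (χ₀ : G → ℂ)) g) := by
  classical
  let _ : Fintype (IrrCharacter G) := Fintype.ofFinite _
  set B := blockOf M (χ₀ : G → ℂ) with hBdef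
  have hB : ∀ χ ∈ B, ∀ g, MemLocalIdeal M
      (centralChar (χ₀ : G → ℂ) g - centralChar (χ : G → ℂ) g) := fun χ hχ => hχ
  have hBc : ∀ ψ, ψ ∉ B → ∃ g, ¬ MemLocalIdeal M
      (centralChar (χ₀ : G → ℂ) g - centralChar (ψ : G → ℂ) g) := by
    intro ψ hψ
    by_contra hcon
    push Not at hcon
    exact hψ hcon
  obtain ⟨e, he, heR, heB, heT, -⟩ := exists_idempotent_aux (M := M) χ₀ B hB hBc
    (Finset.univ.filter (fun χ => χ ∈ B)) (fun χ hχ => (Finset.mem_filter.mp hχ).2)
  have hzero : e - blockCoeff B = 0 := by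
    apply eq_zero_of_sum_mul_irr_eq_zero
      (IsClassFunction.sub he (blockCoeff_isClassFunction B))
    intro χ
    obtain ⟨d, hdpos, hd⟩ := IsIrrCharacter.apply_one_pos χ.2
    have hd0 : (χ : G → ℂ) 1 ≠ 0 := by rw [hd]; exact Nat.cast_ne_zero.mpr hdpos.ne'
    have h1 : omegaFun (χ : G → ℂ) (e - blockCoeff B) = 0 := by
      rw [omegaFun_sub, omegaFun_blockCoeff]
      by_cases hχ : χ ∈ B
      · rw [if_pos hχ, heT χ (Finset.mem_filter.mpr ⟨Finset.mem_univ _, hχ⟩), sub_self]
      · rw [if_neg hχ, heB χ hχ, sub_self]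
    unfold omegaFun at h1
    rw [div_eq_zero_iff] at h1
    rcases h1 with h1 | h1
    · exact h1
    · exact absurd h1 hd0
  have heq : e = blockCoeff B := sub_eq_zero.mp hzero
  rw [← heq]
  exact heR g

end osima

end Cfsg.Agent.Lib.Helper6
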