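/-
helper6: central characters vanish modulo M on classes that do not centralise a normal p-subgroup
(bridge between the integral group ring, the group algebra over ZMod p and `omegaFun`).
-/
import Mathlib
import Cfsg.Agent.Lib.Helper6.Osima
import Cfsg.Agent.Lib.Helper6.ClassSumNil

set_option autoImplicit false

namespace Cfsg.Agent.Lib.Helper6

open Cfsg Cfsg.Agent.CharLib Cfsg.Agent.Lib.Helper24

universe u

section

variable {G : Type u} [Group G] [Fintype G] [DecidableEq G]

/-- The class sum of `g` in the integral group ring. -/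
noncomputable def zClassSum (g : G) : MonoidAlgebra ℤ G :=
  ∑ x ∈ Finset.univ.filter (fun x => IsConj g x), MonoidAlgebra.single x (1 : ℤ)

/-- The coefficient function of an element of the integral group ring, with complex values. -/
noncomputable def coeffFun (a : MonoidAlgebra ℤ G) : G → ℂ := fun x => ((a.coeff x : ℤ) : ℂ)

omit [Fintype G] in
theorem coeffFun_one : coeffFun (1 : MonoidAlgebra ℤ G) = classInd 1 := by
  funext x
  unfold coeffFun classInd
  rw [MonoidAlgebra.one_def, MonoidAlgebra.coeff_single, Finsupp.single_apply]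
  by_cases h : (1 : G) = x
  · rw [if_pos h, if_pos (by rw [h])]
    simp
  · rw [if_neg h, if_neg]
    · simp
    · intro hc
      apply h
      exact (isConj_one_right.mp hc).symm

theorem coeffFun_zClassSum_mul (g : G) (a : MonoidAlgebra ℤ G) :
    coeffFun (zClassSum g * a) = conv (classInd g) (coeffFun a) := by
  funext x
  unfold coeffFun zClassSum conv
  rw [Finset.sum_mul, MonoidAlgebra.coeff_sum, Finsupp.coe_finsetSum, Finset.sum_apply]
  push_cast
  rw [Finset.sum_filter]
  apply Finset.sum_congr rfl
  intro y _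
  unfold classInd
  by_cases h : IsConj g y
  · rw [if_pos h, if_pos h, MonoidAlgebra.coeff_single_mul_apply]
    simp
  · rw [if_neg h, if_neg h, zero_mul]

omit [Fintype G] [DecidableEq G] in
theorem centralChar_one (χ : IrrCharacter G) : centralChar (χ : G → ℂ) 1 = 1 := by
  obtain ⟨d, hdpos, hd⟩ := IsIrrCharacter.apply_one_pos χ.2
  have hd0 : (χ : G → ℂ) 1 ≠ 0 := by rw [hd]; exact Nat.cast_ne_zero.mpr hdpos.ne'
  unfold centralChar
  have : Subgroup.centralizer ({1} : Set G) = ⊤ := by
    rw [Subgroup.centralizer_eq_top_iff_subset]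
    intro x hx
    rw [Set.mem_singleton_iff] at hx
    rw [hx]
    exact (Subgroup.center G).one_mem
  rw [this, Subgroup.index_top, Nat.cast_one, one_mul, div_self hd0]

theorem coeffFun_pow_isClassFunction (g : G) (n : ℕ) :
    IsClassFunction G (coeffFun ((zClassSum g) ^ n)) := by
  induction n with
  | zero =>
    rw [pow_zero, coeffFun_one]
    exact classInd_isClassFunction 1
  | succ n ih =>
    rw [pow_succ', coeffFun_zClassSum_mul]
    exact conv_isClassFunction (classInd_isClassFunction g) ih

theorem omegaFun_coeffFun_pow (χ : IrrCharacter G) (g : G) (n : ℕ) :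
    omegaFun (χ : G → ℂ) (coeffFun ((zClassSum g) ^ n)) = (centralChar (χ : G → ℂ) g) ^ n := by
  induction n with
  | zero =>
    rw [pow_zero, coeffFun_one, omegaFun_classInd, centralChar_one, pow_zero]
  | succ n ih =>
    rw [pow_succ', coeffFun_zClassSum_mul,
      omegaFun_conv χ (classInd_isClassFunction g) (coeffFun_pow_isClassFunction g n), ih,
      omegaFun_classInd, pow_succ']

end

section

variable {G : Type u} [Group G] [Finite G] {M : Ideal AlgInt}

theorem memLocalIdeal_of_pow [hp : M.IsPrime] {z : ℂ} (hz : MemLocalRing M z) :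
    ∀ n : ℕ, MemLocalIdeal M (z ^ n) → MemLocalIdeal M z := by
  intro n
  induction n with
  | zero =>
    intro h
    rw [pow_zero] at h
    exact absurd h not_memLocalIdeal_one
  | succ n ih =>
    intro h
    rw [pow_succ] at h
    have hzn : MemLocalRing M (z ^ n) := by
      clear h ih
      induction n with
      | zero => rw [pow_zero]; exact memLocalRing_one
      | succ n ih => rw [pow_succ]; exact memLocalRing_mul ih hz
    rcases memLocalIdeal_or_of_mul hzn hz h with h1 | h1
    · exact ih h1
    · exact h1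

/-- If no conjugate of `g` centralises the normal `p`-subgroup `Q`, all central characters vanish
modulo `M` on the class of `g`. -/
theorem memLocalIdeal_centralChar_of_not_centralizes {p : ℕ} [hp : Fact p.Prime]
    (hM : IsPModular p M) (Q : Subgroup G) (hQ : IsPGroup p Q) [hQn : Q.Normal] (g : G)
    (hg : ∀ x : G, IsConj g x → x ∉ Subgroup.centralizer (Q : Set G)) (χ : IrrCharacter G) :
    MemLocalIdeal M (centralChar (χ : G → ℂ) g) := by
  classical
  let _ := Fintype.ofFinite G
  have hprime : M.IsPrime := isPrime_of_isPModular hM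
  set K : Finset G := Finset.univ.filter (fun x => IsConj g x) with hKdef
  have hKmem : ∀ x, x ∈ K ↔ IsConj g x := fun x => by simp [hKdef]
  have hK : ∀ x ∈ K, ∀ h : G, h * x * h⁻¹ ∈ K := by
    intro x hx h
    rw [hKmem] at hx ⊢
    exact hx.trans (isConj_iff.mpr ⟨h, rfl⟩)
  have hfix : ∀ x ∈ K, ∃ q ∈ Q, q * x * q⁻¹ ≠ x := by
    intro x hx
    have h1 := hg x ((hKmem x).mp hx)
    rw [Subgroup.mem_centralizer_iff] at h1
    push Not at h1
    obtain ⟨q, hq, hne⟩ := h1
    refine ⟨q, hq, fun h => hne ?_⟩
    calc q * x = q * x * q⁻¹ * q := by group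
      _ = x * q := by rw [h]
  obtain ⟨n, hn⟩ := isNilpotent_sum_single_zmod p Q hQ K hK hfix
  -- transfer to the integral group ring
  have hmap : MonoidAlgebra.mapRingHom G (Int.castRingHom (ZMod p)) (zClassSum g) =
      ∑ x ∈ K, MonoidAlgebra.single x (1 : ZMod p) := by
    have h0 : zClassSum g = ∑ x ∈ K, MonoidAlgebra.single x (1 : ℤ) := by
      unfold zClassSum
      apply Finset.sum_congr _ (fun _ _ => rfl)
      ext x
      simp [hKdef]
    rw [h0, map_sum]
    simp only [MonoidAlgebra.mapRingHom_single, map_one]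
  have hdvd : ∀ x : G, (p : ℤ) ∣ ((zClassSum g) ^ n).coeff x := by
    intro x
    have h1 : MonoidAlgebra.mapRingHom G (Int.castRingHom (ZMod p)) ((zClassSum g) ^ n) = 0 := by
      rw [map_pow, hmap, hn]
    have h2 := congrArg (fun a : MonoidAlgebra (ZMod p) G => a.coeff x) h1
    simp only [MonoidAlgebra.coeff_mapRingHom, MonoidAlgebra.coeff_zero, Finsupp.coe_zero,
      Pi.zero_apply] at h2
    exact (ZMod.intCast_zmod_eq_zero_iff_dvd _ p).mp h2
  -- divide by `p`
  have hp0 : (p : ℂ) ≠ 0 := Nat.cast_ne_zero.mpr hp.out.ne_zero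
  set c := coeffFun ((zClassSum g) ^ n) with hc
  have hccls : IsClassFunction G c := coeffFun_pow_isClassFunction g n
  set c' : G → ℂ := (p : ℂ)⁻¹ • c with hc'
  have hc'cls : IsClassFunction G c' := IsClassFunction.smul _ hccls
  have hc'R : ∀ x, MemLocalRing M (c' x) := by
    intro x
    obtain ⟨k, hk⟩ := hdvd x
    have h1 : c' x = ((k : AlgInt) : ℂ) := by
      rw [hc', Pi.smul_apply, smul_eq_mul, hc]
      unfold coeffFun
      rw [hk]
      push_cast
      field_simp
    rw [h1]
    exact memLocalRing_of_algInt _ hprime.one_notMem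
  have hcc' : c = (p : ℂ) • c' := by
    rw [hc', smul_smul, mul_inv_cancel₀ hp0, one_smul]
  have hpow : (centralChar (χ : G → ℂ) g) ^ n = (p : ℂ) * omegaFun (χ : G → ℂ) c' := by
    rw [← omegaFun_coeffFun_pow χ g n, ← hc, hcc', omegaFun_smul]
  have hpM : MemLocalIdeal M (p : ℂ) := by
    have := memLocalIdeal_of_mem hM.2.2 hprime.one_notMem
    simpa using this
  have h1 : MemLocalIdeal M ((centralChar (χ : G → ℂ) g) ^ n) := by
    rw [hpow]
    exact memLocalIdeal_mul_right hpM (memLocalRing_omegaFun χ hc'cls hc'R)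
  exact memLocalIdeal_of_pow (memLocalRing_centralChar χ g) n h1

end

end Cfsg.Agent.Lib.Helper6
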