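/-
helper6: further general facts on characters: natural-number decompositions, removing a
constituent, a constituent of at least the same degree is everything, degree of induced functions.
-/
import Mathlib
import Cfsg.Agent.Lib.Lead.CharInd
import Cfsg.Agent.Lib.Lead.CharMain
import Cfsg.Agent.Lib.Helper6.IndFun

set_option autoImplicit false

namespace Cfsg.Agent.Lib.Helper6

open Cfsg Cfsg.Agent.CharLib
open scoped ComplexConjugate

universe u

variable {G : Type u} [Group G]

/-- Decomposition of a character with natural multiplicities, as a finite sum, together with the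
multiplicities as inner products. -/
theorem IsCharacter.exists_decomp_sum [Fintype G] [Fintype (IrrCharacter G)] {Φ : G → ℂ}
    (hΦ : IsCharacter G Φ) :
    ∃ m : IrrCharacter G → ℕ, Φ = ∑ ψ : IrrCharacter G, m ψ • (ψ : G → ℂ) ∧
      ∀ ψ : IrrCharacter G, classInner Φ (ψ : G → ℂ) = (m ψ : ℂ) := by
  classical
  obtain ⟨m, hm⟩ := IsCharacter.exists_decomp hΦ
  rw [finsum_eq_sum_of_fintype] at hm
  refine ⟨m, hm, ?_⟩
  intro ψ
  conv_lhs => rw [hm]
  rw [classInner_sum_left, Finset.sum_eq_single ψ]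
  · rw [← Nat.cast_smul_eq_nsmul ℂ, classInner_smul_left, classInner_irr', if_pos rfl, mul_one]
  · intro φ _ hφ
    rw [← Nat.cast_smul_eq_nsmul ℂ, classInner_smul_left, classInner_irr', if_neg hφ, mul_zero]
  · intro h; exact absurd (Finset.mem_univ _) h

/-- Removing an irreducible constituent from a character leaves a character. -/
theorem IsCharacter.sub_constituent [Fintype G] {Φ ψ : G → ℂ} (hΦ : IsCharacter G Φ)
    (hψ : IsIrrCharacter G ψ) (h : classInner Φ ψ ≠ 0) : IsCharacter G (Φ - ψ) := by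
  classical
  let _ := fintypeIrr G
  obtain ⟨m, hm, hcoef⟩ := IsCharacter.exists_decomp_sum hΦ
  have hm0 : m ⟨ψ, hψ⟩ ≠ 0 := by
    intro h0
    apply h
    have := hcoef ⟨ψ, hψ⟩
    rw [h0, Nat.cast_zero] at this
    exact this
  have heq : Φ - ψ = ∑ φ : IrrCharacter G, (if φ = ⟨ψ, hψ⟩ then m φ - 1 else m φ) • (φ : G → ℂ) := by
    rw [sub_eq_iff_eq_add]
    conv_lhs => rw [hm]
    rw [← Finset.add_sum_erase _ _ (Finset.mem_univ (⟨ψ, hψ⟩ : IrrCharacter G)),
      ← Finset.add_sum_erase (f := fun φ : IrrCharacter G =>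
        (if φ = ⟨ψ, hψ⟩ then m φ - 1 else m φ) • (φ : G → ℂ)) _ (Finset.mem_univ (⟨ψ, hψ⟩ : IrrCharacter G))]
    rw [if_pos rfl]
    have h1 : ∑ x ∈ Finset.univ.erase (⟨ψ, hψ⟩ : IrrCharacter G),
          (if x = ⟨ψ, hψ⟩ then m x - 1 else m x) • (x : G → ℂ) =
        ∑ x ∈ Finset.univ.erase (⟨ψ, hψ⟩ : IrrCharacter G), m x • (x : G → ℂ) := by
      apply Finset.sum_congr rfl
      intro x hx
      rw [if_neg (Finset.ne_of_mem_erase hx)]
    rw [h1]
    have h2 : m ⟨ψ, hψ⟩ • ψ = (m ⟨ψ, hψ⟩ - 1) • ψ + ψ := by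
      conv_lhs => rw [show m ⟨ψ, hψ⟩ = (m ⟨ψ, hψ⟩ - 1) + 1 by omega]
      rw [succ_nsmul]
    change m ⟨ψ, hψ⟩ • ψ + _ = (m ⟨ψ, hψ⟩ - 1) • ψ + _ + ψ
    rw [h2]
    abel
  rw [heq]
  apply IsCharacter.sum
  intro φ _
  exact IsCharacter.nsmul (IsIrrCharacter.isCharacter φ.2) _

/-- A character with an irreducible constituent of at least the same degree equals it. -/
theorem IsCharacter.eq_of_constituent_of_degree_le [Fintype G] {Φ χ : G → ℂ}
    (hΦ : IsCharacter G Φ) (hχ : IsIrrCharacter G χ) (h : classInner Φ χ ≠ 0)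
    {D d : ℕ} (hD : Φ 1 = D) (hd : χ 1 = d) (hle : D ≤ d) : Φ = χ := by
  have hsub := IsCharacter.sub_constituent hΦ hχ h
  obtain ⟨k, hk⟩ := IsCharacter.apply_one hsub
  rw [Pi.sub_apply, hD, hd] at hk
  have hk' : (D : ℂ) = (d + k : ℕ) := by push_cast; linear_combination hk
  have hk'' : D = d + k := by exact_mod_cast hk'
  have hk0 : k = 0 := by omega
  -- a character of degree zero vanishes
  have hzero : Φ - χ = 0 := by
    obtain ⟨n, ρ, hρ⟩ := hsub
    have hn : n = 0 := by
      have h1 := congrFun hρ 1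
      rw [Representation.char_one, Module.finrank_fin_fun, Pi.sub_apply, hD, hd, hk'', hk0] at h1
      have : (n : ℂ) = 0 := by rw [h1]; push_cast; ring
      exact_mod_cast this
    subst hn
    rw [← hρ]
    funext g
    unfold Representation.character
    have : ρ g = 0 := Subsingleton.elim _ _
    rw [this, map_zero]
    rfl
  exact sub_eq_zero.mp hzero

/-- The degree of an induced function. -/
theorem indFun_apply_one [Fintype G] (T : Subgroup G) (ψ : T → ℂ) :
    indFun T ψ 1 = (Nat.card T : ℂ)⁻¹ * (Nat.card G : ℂ) * ψ 1 := by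
  rw [indFun_apply, mul_assoc]
  congr 1
  have : ∀ x : G, extendByZero T ψ (x⁻¹ * 1 * x) = ψ 1 := by
    intro x
    rw [mul_one, inv_mul_cancel, extendByZero_mem T ψ T.one_mem]
    rfl
  rw [Finset.sum_congr rfl (fun x _ => this x), Finset.sum_const, Finset.card_univ,
    nsmul_eq_mul, Nat.card_eq_fintype_card]

end Cfsg.Agent.Lib.Helper6
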