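/-
helper6: Clifford theory at the function level: conjugates of functions on a normal subgroup,
restriction of induced functions, Clifford's theorem, degrees.
-/
import Mathlib
import Cfsg.Agent.Lib.Lead.CharInd
import Cfsg.Agent.Lib.Lead.CharMain
import Cfsg.Agent.Lib.Helper10.ConjChar
import Cfsg.Agent.Lib.Helper6.IndFun

set_option autoImplicit false

namespace Cfsg.Agent.Lib.Helper6

open Cfsg Cfsg.Agent.CharLib
open scoped ComplexConjugate

universe u

variable {G : Type u} [Group G]

/-! ### Restriction -/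

/-- Restriction of a function to a subgroup, as a linear map. -/
def resFun (H : Subgroup G) : (G → ℂ) →ₗ[ℂ] (H → ℂ) where
  toFun χ := fun h : H => χ h
  map_add' _ _ := rfl
  map_smul' _ _ := rfl

theorem resFun_apply (H : Subgroup G) (χ : G → ℂ) (h : H) : resFun H χ h = χ h := rfl

theorem resFun_eq (H : Subgroup G) (χ : G → ℂ) : resFun H χ = fun h : H => χ h := rfl

theorem isCharacter_resFun (H : Subgroup G) {χ : G → ℂ} (hχ : IsCharacter G χ) :
    IsCharacter H (resFun H χ) :=
  IsCharacter.restrict hχ H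

/-! ### Conjugates of functions on a normal subgroup -/

section conjugates
variable (H : Subgroup G) [hN : H.Normal]

/-- The conjugate `θ^g : h ↦ θ (g h g⁻¹)` of a function on a normal subgroup. -/
def conjFun (g : G) (θ : H → ℂ) : H → ℂ :=
  fun h => θ ⟨g * h * g⁻¹, hN.conj_mem h h.2 g⟩

theorem conjFun_apply (g : G) (θ : H → ℂ) (h : H) :
    conjFun H g θ h = θ ⟨g * h * g⁻¹, hN.conj_mem h h.2 g⟩ := rfl

theorem conjFun_one (θ : H → ℂ) : conjFun H 1 θ = θ := by
  funext h
  rw [conjFun_apply]
  congr 1
  apply Subtype.ext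
  simp

theorem conjFun_mul (a b : G) (θ : H → ℂ) :
    conjFun H (a * b) θ = conjFun H b (conjFun H a θ) := by
  funext h
  rw [conjFun_apply, conjFun_apply, conjFun_apply]
  congr 1
  apply Subtype.ext
  simp [mul_assoc]

theorem conjFun_inv_conjFun (g : G) (θ : H → ℂ) : conjFun H g⁻¹ (conjFun H g θ) = θ := by
  rw [← conjFun_mul, mul_inv_cancel, conjFun_one]

theorem conjFun_conjFun_inv (g : G) (θ : H → ℂ) : conjFun H g (conjFun H g⁻¹ θ) = θ := by
  rw [← conjFun_mul, inv_mul_cancel, conjFun_one]

theorem conjFun_apply_one (g : G) (θ : H → ℂ) : conjFun H g θ 1 = θ 1 := by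
  rw [conjFun_apply]
  congr 1
  apply Subtype.ext
  simp

theorem conjFun_add (g : G) (θ φ : H → ℂ) :
    conjFun H g (θ + φ) = conjFun H g θ + conjFun H g φ := rfl

theorem conjFun_smul (g : G) (c : ℂ) (θ : H → ℂ) :
    conjFun H g (c • θ) = c • conjFun H g θ := rfl

theorem conjFun_zero (g : G) : conjFun H g (0 : H → ℂ) = 0 := rfl

theorem conjFun_sum {ι : Type*} (g : G) (s : Finset ι) (f : ι → H → ℂ) :
    conjFun H g (∑ i ∈ s, f i) = ∑ i ∈ s, conjFun H g (f i) := by
  funext h
  rw [conjFun_apply, Finset.sum_apply, Finset.sum_apply]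
  rfl

theorem conjFun_injective (g : G) : Function.Injective (conjFun H g) := by
  intro θ φ h
  rw [← conjFun_inv_conjFun H g θ, h, conjFun_inv_conjFun]

theorem isIrrCharacter_conjFun {θ : H → ℂ} (hθ : IsIrrCharacter H θ) (g : G) :
    IsIrrCharacter H (conjFun H g θ) :=
  Cfsg.Agent.Lib.Helper10.isIrrCharacter_conj H θ hθ g

/-- The restriction of a class function is invariant under conjugation. -/
theorem conjFun_resFun {χ : G → ℂ} (hχ : IsClassFunction G χ) (g : G) :
    conjFun H g (resFun H χ) = resFun H χ := by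
  funext h
  rw [conjFun_apply, resFun_apply, resFun_apply]
  exact hχ h g

/-- Conjugation by an element of `H` fixes class functions of `H`. -/
theorem conjFun_of_mem {θ : H → ℂ} (hθ : IsClassFunction H θ) {g : G} (hg : g ∈ H) :
    conjFun H g θ = θ := by
  funext h
  rw [conjFun_apply]
  have := hθ h ⟨g, hg⟩
  rw [← this]
  congr 1

theorem classInner_conjFun [Fintype H] (g : G) (φ ψ : H → ℂ) :
    classInner (conjFun H g φ) (conjFun H g ψ) = classInner φ ψ := by
  unfold classInner
  congr 1
  exact Fintype.sum_equiv (MulAut.conjNormal g : H ≃* H).toEquiv _ _ (fun h => rfl)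

theorem classInner_conjFun_right [Fintype H] (g : G) (φ ψ : H → ℂ) :
    classInner φ (conjFun H g ψ) = classInner (conjFun H g⁻¹ φ) ψ := by
  rw [← classInner_conjFun H g (conjFun H g⁻¹ φ) ψ, conjFun_conjFun_inv]

theorem classInner_resFun_conjFun [Fintype H] {χ : G → ℂ} (hχ : IsClassFunction G χ) (g : G)
    (θ : H → ℂ) : classInner (resFun H χ) (conjFun H g θ) = classInner (resFun H χ) θ := by
  rw [classInner_conjFun_right, conjFun_resFun H hχ]

/-- The number of elements stabilising `θ`, in the form used by the statements. -/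
theorem card_stab_eq (θ : H → ℂ) :
    Nat.card {g : G // ∀ h : H, θ ⟨g * h * g⁻¹, hN.conj_mem h h.2 g⟩ = θ h} =
      Nat.card {g : G // conjFun H g θ = θ} := by
  apply Nat.card_congr
  apply Equiv.subtypeEquivRight
  intro g
  constructor
  · intro hg; funext h; exact hg h
  · intro hg h; exact congrFun hg h

variable [Fintype G]

/-- All fibres of `g ↦ θ^g` have the size of the stabiliser. -/
theorem card_fiber_conjFun [DecidableEq (H → ℂ)] (θ : H → ℂ) (g₀ : G) :
    (Finset.univ.filter (fun x : G => conjFun H x θ = conjFun H g₀ θ)).card =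
      Nat.card {g : G // conjFun H g θ = θ} := by
  classical
  rw [Nat.card_eq_fintype_card, Fintype.card_subtype]
  apply Finset.card_bij (fun x _ => x * g₀⁻¹)
  · intro x hx
    simp only [Finset.mem_filter, Finset.mem_univ, true_and] at hx ⊢
    rw [conjFun_mul, hx, conjFun_inv_conjFun]
  · intro x _ y _ hxy
    exact mul_right_cancel hxy
  · intro g hg
    simp only [Finset.mem_filter, Finset.mem_univ, true_and] at hg
    refine ⟨g * g₀, ?_, by simp⟩
    simp only [Finset.mem_filter, Finset.mem_univ, true_and]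
    rw [conjFun_mul, hg]

/-- The finite set of conjugates of `θ`. -/
noncomputable def conjOrbit (θ : H → ℂ) : Finset (H → ℂ) := by
  classical
  exact Finset.univ.image (fun g : G => conjFun H g θ)

theorem mem_conjOrbit {θ ψ : H → ℂ} : ψ ∈ conjOrbit H θ ↔ ∃ g : G, conjFun H g θ = ψ := by
  classical
  unfold conjOrbit
  simp

theorem self_mem_conjOrbit (θ : H → ℂ) : θ ∈ conjOrbit H θ :=
  (mem_conjOrbit H).mpr ⟨1, conjFun_one H θ⟩

/-- The sum over the group of the conjugates is the stabiliser order times the orbit sum. -/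
theorem sum_conjFun_eq (θ : H → ℂ) :
    ∑ x : G, conjFun H x θ =
      (Nat.card {g : G // conjFun H g θ = θ}) • ∑ ψ ∈ conjOrbit H θ, ψ := by
  classical
  unfold conjOrbit
  rw [Finset.sum_comp (fun ψ : H → ℂ => ψ) (fun g : G => conjFun H g θ), Finset.smul_sum]
  apply Finset.sum_congr rfl
  intro ψ hψ
  obtain ⟨g₀, _, rfl⟩ := Finset.mem_image.mp hψ
  rw [card_fiber_conjFun H θ g₀]

/-- Orbit–stabiliser for the conjugation action on functions. -/
theorem card_conjOrbit_mul (θ : H → ℂ) :
    (conjOrbit H θ).card * Nat.card {g : G // conjFun H g θ = θ} = Nat.card G := by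
  classical
  rw [Nat.card_eq_fintype_card (α := G), ← Finset.card_univ,
    Finset.card_eq_sum_card_fiberwise (f := fun g : G => conjFun H g θ) (t := conjOrbit H θ)
      (fun g _ => (mem_conjOrbit H).mpr ⟨g, rfl⟩)]
  rw [Finset.sum_const_nat (m := Nat.card {g : G // conjFun H g θ = θ})]
  intro ψ hψ
  obtain ⟨g₀, rfl⟩ := (mem_conjOrbit H).mp hψ
  exact card_fiber_conjFun H θ g₀

/-- On a normal subgroup the induced function is the average of the conjugates. -/
theorem resFun_indFun (θ : H → ℂ) :
    resFun H (indFun H θ) = (Nat.card H : ℂ)⁻¹ • ∑ x : G, conjFun H x θ := by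
  funext h
  rw [resFun_apply, Cfsg.Agent.Lib.Helper10.indFun_apply_of_normal H θ h, Pi.smul_apply,
    Finset.sum_apply, smul_eq_mul]
  congr 1
  apply Fintype.sum_equiv (Equiv.inv G)
  intro x
  rw [Equiv.inv_apply, conjFun_apply]
  congr 1
  apply Subtype.ext
  simp

theorem classInner_resFun_indFun [Fintype H] (θ φ : H → ℂ) :
    classInner (resFun H (indFun H θ)) φ =
      (Nat.card H : ℂ)⁻¹ * ∑ x : G, classInner (conjFun H x θ) φ := by
  rw [resFun_indFun, classInner_smul_left, classInner_sum_left]

end conjugates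

/-! ### Clifford's theorem -/

section clifford
variable (H : Subgroup G) [hN : H.Normal] [Fintype G] [Fintype H]

/-- Irreducible constituents of the restriction of an irreducible character to a normal subgroup
are conjugate. -/
theorem exists_conjFun_eq_of_constituent {χ : G → ℂ} (hχ : IsIrrCharacter G χ) {θ φ : H → ℂ}
    (hθ : IsIrrCharacter H θ) (hφ : IsIrrCharacter H φ)
    (h1 : classInner (resFun H χ) θ ≠ 0) (h2 : classInner (resFun H χ) φ ≠ 0) :
    ∃ g : G, conjFun H g θ = φ := by
  classical
  by_contra hcon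
  push Not at hcon
  let _ := fintypeIrr G
  have h0 : classInner (resFun H (indFun H θ)) φ = 0 := by
    rw [classInner_resFun_indFun, Finset.sum_eq_zero, mul_zero]
    intro x _
    rw [classInner_irr (isIrrCharacter_conjFun H hθ x) hφ, if_neg (hcon x)]
  have hdec := classFunction_eq_sum (indFun_isClassFunction H θ)
  have hIndChar : IsCharacter G (indFun H θ) := IsCharacter.indFun H (IsIrrCharacter.isCharacter hθ)
  have hphiChar : IsCharacter H φ := IsIrrCharacter.isCharacter hφ
  choose n hn using fun ψ : IrrCharacter G =>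
    IsCharacter.classInner_nat hIndChar (IsIrrCharacter.isCharacter ψ.2)
  choose m hm using fun ψ : IrrCharacter G =>
    IsCharacter.classInner_nat (isCharacter_resFun H (IsIrrCharacter.isCharacter ψ.2)) hphiChar
  have h3 : classInner (resFun H (indFun H θ)) φ = ((∑ ψ : IrrCharacter G, n ψ * m ψ : ℕ) : ℂ) := by
    conv_lhs => rw [hdec]
    rw [map_sum, classInner_sum_left, Nat.cast_sum]
    apply Finset.sum_congr rfl
    intro ψ _
    rw [map_smul, classInner_smul_left, hn ψ, hm ψ, Nat.cast_mul]
  rw [h3] at h0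
  have h4 : ∑ ψ : IrrCharacter G, n ψ * m ψ = 0 := by exact_mod_cast h0
  have h5 := (Finset.sum_eq_zero_iff.mp h4) ⟨χ, hχ⟩ (Finset.mem_univ _)
  rcases Nat.mul_eq_zero.mp h5 with h6 | h6
  · have h7 := hn ⟨χ, hχ⟩
    rw [h6, Nat.cast_zero] at h7
    change classInner (indFun H θ) χ = 0 at h7
    rw [frobenius_reciprocity H θ (IsCharacter.isClassFunction (IsIrrCharacter.isCharacter hχ)),
      ← classInner_conj_symm] at h7
    apply h1
    have h8 := (map_eq_zero (starRingEnd ℂ)).mp h7
    exact h8
  · have h7 := hm ⟨χ, hχ⟩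
    rw [h6, Nat.cast_zero] at h7
    exact h2 h7

/-- **Clifford's theorem**: the restriction of an irreducible character to a normal subgroup is
`e` times the sum of the conjugates of any irreducible constituent. -/
theorem clifford {χ : G → ℂ} (hχ : IsIrrCharacter G χ) {θ : H → ℂ} (hθ : IsIrrCharacter H θ)
    (h1 : classInner (resFun H χ) θ ≠ 0) :
    resFun H χ = classInner (resFun H χ) θ • ∑ ψ ∈ conjOrbit H θ, ψ := by
  classical
  let _ := fintypeIrr H
  have hcls : IsClassFunction G χ := IsCharacter.isClassFunction (IsIrrCharacter.isCharacter hχ)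
  have hres : IsClassFunction H (resFun H χ) :=
    IsCharacter.isClassFunction (isCharacter_resFun H (IsIrrCharacter.isCharacter hχ))
  have hdec := classFunction_eq_sum hres
  have hcoef : ∀ φ : IrrCharacter H, classInner (resFun H χ) (φ : H → ℂ) =
      if (φ : H → ℂ) ∈ conjOrbit H θ then classInner (resFun H χ) θ else 0 := by
    intro φ
    split_ifs with hmem
    · obtain ⟨g, hg⟩ := (mem_conjOrbit H).mp hmem
      rw [← hg, classInner_resFun_conjFun H hcls]
    · by_contra hne
      obtain ⟨g, hg⟩ := exists_conjFun_eq_of_constituent H hχ hθ φ.2 h1 hne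
      exact hmem ((mem_conjOrbit H).mpr ⟨g, hg⟩)
  conv_lhs => rw [hdec]
  rw [Finset.smul_sum]
  have hinj : Set.InjOn (fun φ : IrrCharacter H => (φ : H → ℂ))
      ↑(Finset.univ.filter (fun φ : IrrCharacter H => (φ : H → ℂ) ∈ conjOrbit H θ)) :=
    fun a _ b _ hab => Subtype.ext hab
  have himg : (Finset.univ.filter (fun φ : IrrCharacter H => (φ : H → ℂ) ∈ conjOrbit H θ)).image
      (fun φ : IrrCharacter H => (φ : H → ℂ)) = conjOrbit H θ := by
    ext ψ
    simp only [Finset.mem_image, Finset.mem_filter, Finset.mem_univ, true_and]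
    constructor
    · rintro ⟨φ, hφ, rfl⟩; exact hφ
    · intro hψ
      obtain ⟨g, hg⟩ := (mem_conjOrbit H).mp hψ
      exact ⟨⟨ψ, hg ▸ isIrrCharacter_conjFun H hθ g⟩, hψ, rfl⟩
  rw [← himg, Finset.sum_image hinj, Finset.sum_filter]
  apply Finset.sum_congr rfl
  intro φ _
  rw [hcoef φ]
  split_ifs
  · rfl
  · rw [zero_smul]

/-- Clifford's theorem for an invariant constituent. -/
theorem clifford_of_invariant {χ : G → ℂ} (hχ : IsIrrCharacter G χ) {θ : H → ℂ}
    (hθ : IsIrrCharacter H θ) (h1 : classInner (resFun H χ) θ ≠ 0)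
    (hinv : ∀ g : G, conjFun H g θ = θ) :
    resFun H χ = classInner (resFun H χ) θ • θ := by
  classical
  have h := clifford H hχ hθ h1
  have horb : conjOrbit H θ = {θ} := by
    ext ψ
    rw [mem_conjOrbit, Finset.mem_singleton]
    constructor
    · rintro ⟨g, rfl⟩; exact hinv g
    · intro h; exact ⟨1, by rw [conjFun_one, h]⟩
  rw [horb, Finset.sum_singleton] at h
  exact h

/-- The degree in Clifford's theorem. -/
theorem clifford_degree {χ : G → ℂ} (hχ : IsIrrCharacter G χ) {θ : H → ℂ} (hθ : IsIrrCharacter H θ)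
    (h1 : classInner (resFun H χ) θ ≠ 0) :
    χ 1 = classInner (resFun H χ) θ * ((conjOrbit H θ).card : ℂ) * θ 1 := by
  have h := congrFun (clifford H hχ hθ h1) 1
  rw [resFun_apply] at h
  change χ 1 = _ at h
  rw [h, Pi.smul_apply, Finset.sum_apply, smul_eq_mul, mul_assoc]
  congr 1
  rw [Finset.sum_congr rfl (g := fun _ => θ 1), Finset.sum_const, nsmul_eq_mul]
  intro ψ hψ
  obtain ⟨g, rfl⟩ := (mem_conjOrbit H).mp hψ
  exact conjFun_apply_one H g θ

end clifford

end Cfsg.Agent.Lib.Helper6
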