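/-
helper6: characters with a single irreducible constituent; norms of restrictions.
-/
import Mathlib
import Cfsg.Agent.Lib.Helper6.CharExtra
import Cfsg.Agent.Lib.Helper6.Clifford

set_option autoImplicit false

namespace Cfsg.Agent.Lib.Helper6

open Cfsg Cfsg.Agent.CharLib
open scoped ComplexConjugate

universe u

variable {G : Type u} [Group G]

/-- A character whose degree is accounted for by one constituent is a multiple of it. -/
theorem IsCharacter.eq_nsmul_of_degree [Fintype G] {Φ χ : G → ℂ} (hΦ : IsCharacter G Φ)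
    (hχ : IsIrrCharacter G χ) {m : ℕ} (hm : classInner Φ χ = m) (hdeg : Φ 1 = m * χ 1) :
    Φ = m • χ := by
  classical
  let _ := fintypeIrr G
  obtain ⟨c, hc, hcoef⟩ := IsCharacter.exists_decomp_sum hΦ
  choose d hdpos hd using fun ψ : IrrCharacter G => IsIrrCharacter.apply_one_pos ψ.2
  have hcχ : c ⟨χ, hχ⟩ = m := by
    have := hcoef ⟨χ, hχ⟩
    rw [hm] at this
    exact_mod_cast this.symm
  have h1 : Φ 1 = ((∑ ψ : IrrCharacter G, c ψ * d ψ : ℕ) : ℂ) := by
    conv_lhs => rw [hc]
    rw [Finset.sum_apply, Nat.cast_sum]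
    apply Finset.sum_congr rfl
    intro ψ _
    rw [Pi.smul_apply, hd ψ, nsmul_eq_mul, Nat.cast_mul]
  have h2 : ∑ ψ : IrrCharacter G, c ψ * d ψ = m * d ⟨χ, hχ⟩ := by
    have : ((∑ ψ : IrrCharacter G, c ψ * d ψ : ℕ) : ℂ) = ((m * d ⟨χ, hχ⟩ : ℕ) : ℂ) := by
      have hdχ : χ 1 = (d ⟨χ, hχ⟩ : ℂ) := hd ⟨χ, hχ⟩
      rw [← h1, hdeg, hdχ, Nat.cast_mul]
    exact_mod_cast this
  rw [← Finset.add_sum_erase _ _ (Finset.mem_univ (⟨χ, hχ⟩ : IrrCharacter G)), hcχ] at h2
  have h3 : ∑ ψ ∈ Finset.univ.erase (⟨χ, hχ⟩ : IrrCharacter G), c ψ * d ψ = 0 := by omega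
  have h4 : ∀ ψ ∈ Finset.univ.erase (⟨χ, hχ⟩ : IrrCharacter G), c ψ = 0 := by
    intro ψ hψ
    have := (Finset.sum_eq_zero_iff.mp h3) ψ hψ
    rcases Nat.mul_eq_zero.mp this with h | h
    · exact h
    · exact absurd h (hdpos ψ).ne'
  rw [hc, ← Finset.add_sum_erase _ _ (Finset.mem_univ (⟨χ, hχ⟩ : IrrCharacter G)), hcχ,
    Finset.sum_eq_zero, add_zero]
  intro ψ hψ
  rw [h4 ψ hψ, zero_smul]

/-- A class function with a single irreducible constituent is a multiple of it. -/
theorem eq_smul_of_unique_constituent [Fintype G] {Φ χ : G → ℂ} (hΦ : IsClassFunction G Φ)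
    (hχ : IsIrrCharacter G χ)
    (h : ∀ ψ : G → ℂ, IsIrrCharacter G ψ → classInner Φ ψ ≠ 0 → ψ = χ) :
    Φ = classInner Φ χ • χ := by
  classical
  let _ := fintypeIrr G
  have hdec := classFunction_eq_sum hΦ
  conv_lhs => rw [hdec]
  rw [Finset.sum_eq_single (⟨χ, hχ⟩ : IrrCharacter G)]
  · intro ψ _ hψ
    by_cases h0 : classInner Φ (ψ : G → ℂ) = 0
    · rw [h0, zero_smul]
    · exfalso
      apply hψ
      exact Subtype.ext (h ψ ψ.2 h0)
  · intro h; exact absurd (Finset.mem_univ _) h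

/-- Sum over the group split into the sum over a subgroup and the sum over its complement. -/
theorem sum_eq_sum_subgroup_add [Fintype G] (N : Subgroup G) [Fintype N] [DecidablePred (· ∈ N)]
    (f : G → ℂ) :
    ∑ g : G, f g = ∑ n : N, f n + ∑ g ∈ Finset.univ.filter (fun g : G => g ∉ N), f g := by
  rw [← Finset.sum_filter_add_sum_filter_not Finset.univ (fun g : G => g ∈ N) f]
  congr 1
  exact Finset.sum_subtype (Finset.univ.filter (fun g : G => g ∈ N)) (by simp) f

/-- The squared norm of an irreducible character, summed over the group. -/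
theorem sum_mul_conj_irr [Fintype G] {χ : G → ℂ} (hχ : IsIrrCharacter G χ) :
    ∑ g : G, χ g * conj (χ g) = (Nat.card G : ℂ) := by
  have h := classInner_irr hχ hχ
  rw [if_pos rfl] at h
  unfold classInner at h
  have h0 : (Nat.card G : ℂ) ≠ 0 := Nat.cast_ne_zero.mpr Nat.card_pos.ne'
  field_simp at h
  exact h

/-- The norm of the restriction of an irreducible character to a subgroup, and vanishing outside. -/
theorem classInner_resFun_self [Fintype G] (N : Subgroup G) [Fintype N] [DecidablePred (· ∈ N)]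
    {χ : G → ℂ} (hχ : IsIrrCharacter G χ) :
    (Nat.card N : ℂ) * classInner (resFun N χ) (resFun N χ) +
      ∑ g ∈ Finset.univ.filter (fun g : G => g ∉ N), χ g * conj (χ g) = (Nat.card G : ℂ) := by
  have h0 : (Nat.card N : ℂ) ≠ 0 := Nat.cast_ne_zero.mpr Nat.card_pos.ne'
  rw [← sum_mul_conj_irr hχ, sum_eq_sum_subgroup_add N (fun g => χ g * conj (χ g))]
  congr 1
  unfold classInner
  rw [← mul_assoc, mul_inv_cancel₀ h0, one_mul]
  rfl

/-- An irreducible character vanishes outside `N` iff the norm of its restriction is the index. -/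
theorem vanishes_off_iff [Fintype G] (N : Subgroup G) [Fintype N] {χ : G → ℂ}
    (hχ : IsIrrCharacter G χ) :
    (∀ g : G, g ∉ N → χ g = 0) ↔ classInner (resFun N χ) (resFun N χ) = (N.index : ℂ) := by
  classical
  have h0 : (Nat.card N : ℂ) ≠ 0 := Nat.cast_ne_zero.mpr Nat.card_pos.ne'
  have hkey := classInner_resFun_self N hχ
  have hidx : (Nat.card G : ℂ) = (Nat.card N : ℂ) * (N.index : ℂ) := by
    rw [← Nat.cast_mul, Subgroup.card_mul_index]
  constructor
  · intro hv
    rw [Finset.sum_eq_zero, add_zero, hidx] at hkey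
    · exact mul_left_cancel₀ h0 hkey
    · intro g hg
      rw [hv g (Finset.mem_filter.mp hg).2, zero_mul]
  · intro hn g hg
    rw [hn, ← hidx] at hkey
    have hsum : ∑ g ∈ Finset.univ.filter (fun g : G => g ∉ N), χ g * conj (χ g) = 0 := by
      linear_combination hkey
    have hreal : ∀ g : G, χ g * conj (χ g) = ((Complex.normSq (χ g) : ℝ) : ℂ) :=
      fun g => Complex.mul_conj (χ g)
    rw [Finset.sum_congr rfl (fun g _ => hreal g), ← Complex.ofReal_sum] at hsum
    have hsum' : ∑ g ∈ Finset.univ.filter (fun g : G => g ∉ N), Complex.normSq (χ g) = 0 := by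
      exact_mod_cast hsum
    have := (Finset.sum_eq_zero_iff_of_nonneg (fun g _ => Complex.normSq_nonneg (χ g))).mp hsum' g
      (Finset.mem_filter.mpr ⟨Finset.mem_univ _, hg⟩)
    exact Complex.normSq_eq_zero.mp this

end Cfsg.Agent.Lib.Helper6
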