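/-
helper6: the Brauer map on class functions and induced blocks.  For a `p`-subgroup `P` and
`P C_G(P) ≤ H ≤ N_G(P)`, `brFun P H a` keeps the values of `a` on `C_G(P)` (as a function on `H`).
Modulo the local ideal it is multiplicative for convolution, and the central characters of `H`
do not see the difference between restriction and `brFun`.  Consequently `a ↦ ω_ξ(a|_H)` is an
algebra homomorphism modulo the local ideal, hence congruent to a central character of `G`:
induced blocks are defined.
-/
import Mathlib
import Cfsg.Agent.Lib.Helper6.MinMax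
import Cfsg.Agent.Lib.Helper6.CharExtra2

set_option autoImplicit false

namespace Cfsg.Agent.Lib.Helper6

open Cfsg Cfsg.Agent.CharLib Cfsg.Agent.Lib.Helper24
open scoped ComplexConjugate

universe u

section basic

variable {G : Type u} [Group G]

theorem conj_mem_centralizer_iff {P : Subgroup G} {k : G}
    (hk : k ∈ Subgroup.normalizer (P : Set G)) (x : G) :
    k * x * k⁻¹ ∈ Subgroup.centralizer (P : Set G) ↔ x ∈ Subgroup.centralizer (P : Set G) := by
  have key : ∀ {k : G}, k ∈ Subgroup.normalizer (P : Set G) → ∀ x : G,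
      x ∈ Subgroup.centralizer (P : Set G) → k * x * k⁻¹ ∈ Subgroup.centralizer (P : Set G) := by
    intro k hk x hx
    rw [Subgroup.mem_centralizer_iff] at hx ⊢
    intro y hy
    have hy' : k⁻¹ * y * k ∈ P := by
      have := (Subgroup.mem_normalizer_iff.mp (inv_mem hk) y).mp hy
      simpa using this
    have h1 := hx _ hy'
    calc y * (k * x * k⁻¹) = k * ((k⁻¹ * y * k) * x) * k⁻¹ := by group
      _ = k * (x * (k⁻¹ * y * k)) * k⁻¹ := by rw [h1]
      _ = k * x * k⁻¹ * y := by group
  constructor
  · intro h
    have := key (inv_mem hk) _ h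
    simpa [mul_assoc] using this
  · exact key hk x

end basic

section brauerMap

variable {G : Type u} [Group G] (P H : Subgroup G)

/-- The Brauer map on functions: keep the values on `C_G(P)`, as a function on `H`. -/
noncomputable def brFun (a : G → ℂ) : H → ℂ :=
  fun h => by classical exact if (h : G) ∈ Subgroup.centralizer (P : Set G) then a h else 0

theorem brFun_of_mem (a : G → ℂ) {h : H} (hh : (h : G) ∈ Subgroup.centralizer (P : Set G)) :
    brFun P H a h = a h := by
  unfold brFun
  rw [if_pos hh]

theorem brFun_of_not_mem (a : G → ℂ) {h : H} (hh : (h : G) ∉ Subgroup.centralizer (P : Set G)) :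
    brFun P H a h = 0 := by
  unfold brFun
  rw [if_neg hh]

theorem brFun_isClassFunction (hHN : H ≤ Subgroup.normalizer (P : Set G)) {a : G → ℂ}
    (ha : IsClassFunction G a) : IsClassFunction H (brFun P H a) := by
  intro h k
  have h1 : ((k * h * k⁻¹ : H) : G) = (k : G) * h * (k : G)⁻¹ := by simp
  by_cases hh : (h : G) ∈ Subgroup.centralizer (P : Set G)
  · have hh' : ((k * h * k⁻¹ : H) : G) ∈ Subgroup.centralizer (P : Set G) := by
      rw [h1]
      exact (conj_mem_centralizer_iff (hHN k.2) _).mpr hh
    rw [brFun_of_mem P H a hh, brFun_of_mem P H a hh', h1, ha]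
  · have hh' : ((k * h * k⁻¹ : H) : G) ∉ Subgroup.centralizer (P : Set G) := by
      rw [h1]
      exact fun hc => hh ((conj_mem_centralizer_iff (hHN k.2) _).mp hc)
    rw [brFun_of_not_mem P H a hh, brFun_of_not_mem P H a hh']

theorem brFun_memLocalRing {M : Ideal AlgInt} [M.IsPrime] {a : G → ℂ}
    (ha : ∀ x, MemLocalRing M (a x)) (h : H) : MemLocalRing M (brFun P H a h) := by
  by_cases hh : (h : G) ∈ Subgroup.centralizer (P : Set G)
  · rw [brFun_of_mem P H a hh]; exact ha _
  · rw [brFun_of_not_mem P H a hh]; exact memLocalRing_zero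

end brauerMap

section brauerConv

variable {G : Type u} [Group G] [Fintype G] (P H : Subgroup G) [Fintype H] {M : Ideal AlgInt}

/-- A sum over `G` of a function vanishing off `H` is the sum over `H`. -/
theorem sum_eq_sum_subgroup_of_support (f : G → ℂ) (hf : ∀ g, g ∉ H → f g = 0) :
    ∑ g : G, f g = ∑ k : H, f k := by
  classical
  rw [sum_eq_sum_subgroup_add H f]
  have : ∑ g ∈ Finset.univ.filter (fun g : G => g ∉ H), f g = 0 := by
    apply Finset.sum_eq_zero
    intro g hg
    exact hf g (Finset.mem_filter.mp hg).2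
  rw [this, add_zero]

/-- The Brauer map is multiplicative modulo the local ideal. -/
theorem brFun_conv_sub {p : ℕ} [hpp : Fact p.Prime] (hM : IsPModular p M) (hP : IsPGroup p P)
    (hCH : Subgroup.centralizer (P : Set G) ≤ H) {a b : G → ℂ} (ha : IsClassFunction G a)
    (haR : ∀ x, MemLocalRing M (a x)) (hb : IsClassFunction G b)
    (hbR : ∀ x, MemLocalRing M (b x)) (h : H) :
    MemLocalIdeal M (brFun P H (conv a b) h - conv (brFun P H a) (brFun P H b) h) := by
  classical
  have hprime : M.IsPrime := isPrime_of_isPModular hM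
  have hpM : MemLocalIdeal M (p : ℂ) := by
    have := memLocalIdeal_of_mem hM.2.2 hprime.one_notMem
    simpa using this
  by_cases hh : (h : G) ∈ Subgroup.centralizer (P : Set G)
  · rw [brFun_of_mem P H _ hh]
    let f : G → ℂ := fun g =>
      if g ∈ Subgroup.centralizer (P : Set G) then a g * b (g⁻¹ * h) else 0
    have hc1 : conv (brFun P H a) (brFun P H b) h = ∑ g : G, f g := by
      rw [sum_eq_sum_subgroup_of_support H f (fun g hg => by
        simp only [f]
        rw [if_neg]
        exact fun hc => hg (hCH hc))]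
      unfold conv
      apply Finset.sum_congr rfl
      intro k _
      simp only [f]
      by_cases hk : (k : G) ∈ Subgroup.centralizer (P : Set G)
      · have hk' : ((k⁻¹ * h : H) : G) ∈ Subgroup.centralizer (P : Set G) := by
          rw [Subgroup.coe_mul, Subgroup.coe_inv]
          exact mul_mem (inv_mem hk) hh
        rw [if_pos hk, brFun_of_mem P H a hk, brFun_of_mem P H b hk']
        rfl
      · rw [if_neg hk, brFun_of_not_mem P H a hk, zero_mul]
    rw [hc1]
    unfold conv
    rw [← Finset.sum_sub_distrib]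
    have hc2 : ∑ g : G, (a g * b (g⁻¹ * h) - f g) =
        ∑ g ∈ Finset.univ.filter (fun g : G => g ∉ Subgroup.centralizer (P : Set G)),
          a g * b (g⁻¹ * h) := by
      rw [Finset.sum_filter]
      apply Finset.sum_congr rfl
      intro g _
      simp only [f]
      by_cases hg : g ∈ Subgroup.centralizer (P : Set G)
      · rw [if_pos hg, if_neg (not_not.mpr hg), sub_self]
      · rw [if_neg hg, if_pos hg, sub_zero]
    rw [hc2]
    set K : Finset G := Finset.univ.filter (fun g : G => g ∉ Subgroup.centralizer (P : Set G))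
      with hK
    have hKc : ∀ x ∈ K, ∀ q ∈ P, q * x * q⁻¹ ∈ K := by
      intro x hx q hq
      rw [hK, Finset.mem_filter] at hx ⊢
      refine ⟨Finset.mem_univ _, ?_⟩
      intro hc
      apply hx.2
      exact (conj_mem_centralizer_iff (Subgroup.le_normalizer hq) x).mp hc
    have hfix : ∀ x ∈ K, ∃ q ∈ P, q * x * q⁻¹ ≠ x := by
      intro x hx
      by_contra hcon
      push Not at hcon
      apply (Finset.mem_filter.mp hx).2
      rw [Subgroup.mem_centralizer_iff]
      intro q hq
      have := hcon q hq
      calc q * x = q * x * q⁻¹ * q := by group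
        _ = x * q := by rw [this]
    have hinv : ∀ x ∈ K, ∀ q ∈ P,
        a (q * x * q⁻¹) * b ((q * x * q⁻¹)⁻¹ * h) = a x * b (x⁻¹ * h) := by
      intro x _ q hq
      rw [ha x q]
      congr 1
      have hqz : q * (h : G) = h * q := ((Subgroup.mem_centralizer_iff.mp hh) q hq)
      have h1 : (q * x * q⁻¹)⁻¹ * (h : G) = q * (x⁻¹ * h) * q⁻¹ := by
        have : (h : G) = q * h * q⁻¹ := by rw [hqz]; group
        calc (q * x * q⁻¹)⁻¹ * (h : G) = q * x⁻¹ * q⁻¹ * h := by group
          _ = q * x⁻¹ * q⁻¹ * (q * h * q⁻¹) := by rw [← this]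
          _ = q * (x⁻¹ * h) * q⁻¹ := by group
      rw [h1, hb _ q]
    obtain ⟨t, ht, hsum⟩ := sum_eq_nsmul_of_pgroup_fixed_point_free p P hP K hKc hfix
      (localSubring M).toAddSubgroup (fun g => a g * b (g⁻¹ * h))
      (fun x _ => memLocalRing_mul (haR x) (hbR _)) hinv
    rw [hsum, nsmul_eq_mul]
    exact memLocalIdeal_mul_right hpM ht
  · rw [brFun_of_not_mem P H _ hh, zero_sub]
    apply memLocalIdeal_neg
    have : conv (brFun P H a) (brFun P H b) h = 0 := by
      unfold conv
      apply Finset.sum_eq_zero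
      intro k _
      by_cases hk : (k : G) ∈ Subgroup.centralizer (P : Set G)
      · have hk' : ((k⁻¹ * h : H) : G) ∉ Subgroup.centralizer (P : Set G) := by
          rw [Subgroup.coe_mul, Subgroup.coe_inv]
          intro hc
          apply hh
          have := mul_mem hk hc
          simpa using this
        rw [brFun_of_not_mem P H b hk', mul_zero]
      · rw [brFun_of_not_mem P H a hk, zero_mul]
    rw [this]
    exact memLocalIdeal_zero hprime.one_notMem

end brauerConv

section omegaIdeal

variable {X : Type u} [Group X] [Fintype X] {M : Ideal AlgInt} [hp : M.IsPrime]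

/-- The central character functional maps into the local ideal any local-integer valued class
function each of whose values lies in the local ideal unless the central character does. -/
theorem memLocalIdeal_omegaFun_of_forall (ξ : IrrCharacter X) {c : X → ℂ}
    (hc : IsClassFunction X c) (hcR : ∀ x, MemLocalRing M (c x))
    (h : ∀ x, MemLocalIdeal M (c x) ∨ MemLocalIdeal M (centralChar (ξ : X → ℂ) x)) :
    MemLocalIdeal M (omegaFun (ξ : X → ℂ) c) := by
  classical
  let _ : Fintype (ConjClasses X) := Fintype.ofFinite _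
  rw [omegaFun_eq_sum_conjClasses ξ hc]
  apply sum_memLocalIdeal
  intro C _
  rcases h (Quotient.out C) with h1 | h1
  · exact memLocalIdeal_mul_right h1 (memLocalRing_centralChar ξ _)
  · exact memLocalIdeal_mul_left (hcR _) h1

end omegaIdeal

section brauerOmega

variable {G : Type u} [Group G] [Fintype G] (P H : Subgroup G) [Fintype H] {M : Ideal AlgInt}

/-- Central characters of `H` do not distinguish restriction to `H` from the Brauer map. -/
theorem memLocalIdeal_omegaFun_resFun_sub_brFun {p : ℕ} [hpp : Fact p.Prime]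
    (hM : IsPModular p M) (hP : IsPGroup p P) (hPH : P ≤ H)
    (hHN : H ≤ Subgroup.normalizer (P : Set G)) {a : G → ℂ} (ha : IsClassFunction G a)
    (haR : ∀ x, MemLocalRing M (a x)) (ξ : IrrCharacter H) :
    MemLocalIdeal M (omegaFun (ξ : H → ℂ) (resFun H a) - omegaFun (ξ : H → ℂ) (brFun P H a)) := by
  classical
  have hprime : M.IsPrime := isPrime_of_isPModular hM
  rw [← omegaFun_sub]
  have hres : IsClassFunction H (resFun H a) := fun h k => by
    rw [resFun_apply, resFun_apply]
    have h1 : ((k * h * k⁻¹ : H) : G) = (k : G) * h * (k : G)⁻¹ := by simp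
    rw [h1, ha]
  apply memLocalIdeal_omegaFun_of_forall ξ
    (IsClassFunction.sub hres (brFun_isClassFunction P H hHN ha))
  · intro x
    rw [Pi.sub_apply]
    exact memLocalRing_sub (haR _) (brFun_memLocalRing P H haR x)
  · intro h
    by_cases hh : (h : G) ∈ Subgroup.centralizer (P : Set G)
    · left
      rw [Pi.sub_apply, brFun_of_mem P H a hh, resFun_apply, sub_self]
      exact memLocalIdeal_zero hprime.one_notMem
    · right
      have hQn : (P.subgroupOf H).Normal :=
        (Subgroup.normal_subgroupOf_iff_le_normalizer hPH).mpr hHN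
      have hQ : IsPGroup p (P.subgroupOf H) := hP.comap_subtype
      apply memLocalIdeal_centralChar_of_not_centralizes hM (P.subgroupOf H) hQ h _ ξ
      intro x hx hxc
      apply hh
      obtain ⟨k, rfl⟩ := isConj_iff.mp hx
      have h1 : ((k * h * k⁻¹ : H) : G) ∈ Subgroup.centralizer (P : Set G) := by
        rw [Subgroup.mem_centralizer_iff]
        intro y hy
        have h2 := (Subgroup.mem_centralizer_iff.mp hxc) ⟨y, hPH hy⟩
          (Subgroup.mem_subgroupOf.mpr hy)
        exact congrArg Subtype.val h2
      have h3 : ((k * h * k⁻¹ : H) : G) = (k : G) * h * (k : G)⁻¹ := by simp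
      rw [h3] at h1
      exact (conj_mem_centralizer_iff (hHN k.2) _).mp h1

end brauerOmega

section lambda

variable {G : Type u} [Group G] [Fintype G] (P H : Subgroup G) [Fintype H] {M : Ideal AlgInt}

omit [Fintype G] [Fintype H] in
theorem resFun_isClassFunction {a : G → ℂ} (ha : IsClassFunction G a) :
    IsClassFunction H (resFun H a) := fun h k => by
  rw [resFun_apply, resFun_apply]
  have h1 : ((k * h * k⁻¹ : H) : G) = (k : G) * h * (k : G)⁻¹ := by simp
  rw [h1, ha]

/-- `a ↦ ω_ξ(a|_H)` is multiplicative modulo the local ideal. -/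
theorem memLocalIdeal_omegaFun_resFun_conv {p : ℕ} [hpp : Fact p.Prime]
    (hM : IsPModular p M) (hP : IsPGroup p P) (hPH : P ≤ H)
    (hCH : Subgroup.centralizer (P : Set G) ≤ H)
    (hHN : H ≤ Subgroup.normalizer (P : Set G)) {a b : G → ℂ} (ha : IsClassFunction G a)
    (haR : ∀ x, MemLocalRing M (a x)) (hb : IsClassFunction G b)
    (hbR : ∀ x, MemLocalRing M (b x)) (ξ : IrrCharacter H) :
    MemLocalIdeal M (omegaFun (ξ : H → ℂ) (resFun H (conv a b)) -
      omegaFun (ξ : H → ℂ) (resFun H a) * omegaFun (ξ : H → ℂ) (resFun H b)) := by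
  classical
  have hprime : M.IsPrime := isPrime_of_isPModular hM
  have hab := conv_isClassFunction ha hb
  have habR := memLocalRing_conv haR hbR
  have hbra := brFun_isClassFunction P H hHN ha
  have hbrb := brFun_isClassFunction P H hHN hb
  have hbraR := brFun_memLocalRing (M := M) P H haR
  have hbrbR := brFun_memLocalRing (M := M) P H hbR
  -- step 1
  have h1 := memLocalIdeal_omegaFun_resFun_sub_brFun P H hM hP hPH hHN hab habR ξ
  -- step 2
  have h2 : MemLocalIdeal M (omegaFun (ξ : H → ℂ) (brFun P H (conv a b)) -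
      omegaFun (ξ : H → ℂ) (conv (brFun P H a) (brFun P H b))) := by
    rw [← omegaFun_sub]
    apply memLocalIdeal_omegaFun_of_forall ξ
      (IsClassFunction.sub (brFun_isClassFunction P H hHN hab) (conv_isClassFunction hbra hbrb))
    · intro x
      rw [Pi.sub_apply]
      exact memLocalRing_sub (brFun_memLocalRing P H habR x) (memLocalRing_conv hbraR hbrbR x)
    · intro x
      left
      exact brFun_conv_sub P H hM hP hCH ha haR hb hbR x
  rw [omegaFun_conv ξ hbra hbrb] at h2
  -- step 3
  have h3 := memLocalIdeal_omegaFun_resFun_sub_brFun P H hM hP hPH hHN ha haR ξ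
  have h4 := memLocalIdeal_omegaFun_resFun_sub_brFun P H hM hP hPH hHN hb hbR ξ
  have hRa := memLocalRing_omegaFun ξ (resFun_isClassFunction H ha) (fun x => haR x)
  have hRb' := memLocalRing_omegaFun ξ hbrb hbrbR
  have h5 : MemLocalIdeal M (omegaFun (ξ : H → ℂ) (brFun P H a) * omegaFun (ξ : H → ℂ) (brFun P H b) -
      omegaFun (ξ : H → ℂ) (resFun H a) * omegaFun (ξ : H → ℂ) (resFun H b)) := by
    have h6 : omegaFun (ξ : H → ℂ) (brFun P H a) * omegaFun (ξ : H → ℂ) (brFun P H b) -
        omegaFun (ξ : H → ℂ) (resFun H a) * omegaFun (ξ : H → ℂ) (resFun H b) =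
        -((omegaFun (ξ : H → ℂ) (resFun H a) - omegaFun (ξ : H → ℂ) (brFun P H a)) *
          omegaFun (ξ : H → ℂ) (brFun P H b)) -
        omegaFun (ξ : H → ℂ) (resFun H a) *
          (omegaFun (ξ : H → ℂ) (resFun H b) - omegaFun (ξ : H → ℂ) (brFun P H b)) := by ring
    rw [h6]
    exact memLocalIdeal_sub (memLocalIdeal_neg (memLocalIdeal_mul_right h3 hRb'))
      (memLocalIdeal_mul_left hRa h4)
  have h7 := memLocalIdeal_add (memLocalIdeal_add h1 h2) h5
  have h8 : omegaFun (ξ : H → ℂ) (resFun H (conv a b)) - omegaFun (ξ : H → ℂ) (brFun P H (conv a b)) +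
      (omegaFun (ξ : H → ℂ) (brFun P H (conv a b)) -
        omegaFun (ξ : H → ℂ) (brFun P H a) * omegaFun (ξ : H → ℂ) (brFun P H b)) +
      (omegaFun (ξ : H → ℂ) (brFun P H a) * omegaFun (ξ : H → ℂ) (brFun P H b) -
        omegaFun (ξ : H → ℂ) (resFun H a) * omegaFun (ξ : H → ℂ) (resFun H b)) =
      omegaFun (ξ : H → ℂ) (resFun H (conv a b)) -
        omegaFun (ξ : H → ℂ) (resFun H a) * omegaFun (ξ : H → ℂ) (resFun H b) := by ring
  rwa [h8] at h7

omit [Fintype G] in
/-- The induced central character as a value of the central character functional. -/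
theorem inducedCentralChar_eq_omegaFun (ξ : H → ℂ) (g : G) :
    inducedCentralChar H ξ g = omegaFun ξ (resFun H (classInd g)) := by
  classical
  unfold inducedCentralChar omegaFun
  rw [finsum_mem_eq_sum_ite, Finset.sum_div]
  apply Finset.sum_congr rfl
  intro h _
  rw [resFun_apply]
  unfold classInd
  simp only [Set.mem_ofPred_eq]
  split_ifs <;> simp

omit [Fintype G] in
/-- The Brauer central character as a value of the central character functional. -/
theorem brauerCentralChar_eq_omegaFun (ξ : H → ℂ) (g : G) :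
    brauerCentralChar P H ξ g = omegaFun ξ (brFun P H (classInd g)) := by
  classical
  unfold brauerCentralChar omegaFun
  rw [finsum_mem_eq_sum_ite, Finset.sum_div]
  apply Finset.sum_congr rfl
  intro h _
  unfold brFun classInd
  simp only [Set.mem_ofPred_eq]
  split_ifs <;> simp_all

end lambda

section algHom

variable {G : Type u} [Group G] [Fintype G] {M : Ideal AlgInt} [hp : M.IsPrime]

/-- A functional on class functions which is linear, takes local-integer values on local-integer
valued class functions, is multiplicative for convolution modulo the local ideal and does not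
vanish at the identity element modulo the local ideal, is congruent to a central character. -/
theorem exists_irr_of_algHom_mod (Λ : (G → ℂ) → ℂ)
    (hΛR : ∀ a, IsClassFunction G a → (∀ x, MemLocalRing M (a x)) → MemLocalRing M (Λ a))
    (hΛsub : ∀ a b, Λ (a - b) = Λ a - Λ b)
    (hΛsmul : ∀ (c : ℂ) a, Λ (c • a) = c * Λ a)
    (hΛmul : ∀ a b, IsClassFunction G a → (∀ x, MemLocalRing M (a x)) → IsClassFunction G b →
      (∀ x, MemLocalRing M (b x)) → MemLocalIdeal M (Λ (conv a b) - Λ a * Λ b))
    (hΛone : ¬ MemLocalIdeal M (Λ (classInd 1))) :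
    ∃ χ : IrrCharacter G, ∀ a, IsClassFunction G a → (∀ x, MemLocalRing M (a x)) →
      MemLocalIdeal M (Λ a - omegaFun (χ : G → ℂ) a) := by
  classical
  let _ : Fintype (IrrCharacter G) := Fintype.ofFinite _
  by_contra hcon
  push Not at hcon
  choose a ha haR haΛ using hcon
  have key : ∀ S : Finset (IrrCharacter G), ∃ z : G → ℂ, IsClassFunction G z ∧
      (∀ x, MemLocalRing M (z x)) ∧ (∀ ψ ∈ S, omegaFun (ψ : G → ℂ) z = 0) ∧
      ¬ MemLocalIdeal M (Λ z) := by
    intro S
    induction S using Finset.induction_on with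
    | empty =>
      exact ⟨classInd 1, classInd_isClassFunction 1, memLocalRing_classInd 1,
        fun ψ hψ => absurd hψ (Finset.notMem_empty ψ), hΛone⟩
    | insert χ S hχS ih =>
      obtain ⟨z, hz, hzR, hzS, hzΛ⟩ := ih
      have hstep : ∀ φ : IrrCharacter G,
          omegaFun (φ : G → ℂ) (conv z (a χ) - omegaFun (χ : G → ℂ) (a χ) • z) =
            omegaFun (φ : G → ℂ) z *
              (omegaFun (φ : G → ℂ) (a χ) - omegaFun (χ : G → ℂ) (a χ)) := by
        intro φ
        rw [omegaFun_sub, omegaFun_smul, omegaFun_conv φ hz (ha χ)]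
        ring
      have hωR : MemLocalRing M (omegaFun (χ : G → ℂ) (a χ)) :=
        memLocalRing_omegaFun χ (ha χ) (haR χ)
      refine ⟨conv z (a χ) - omegaFun (χ : G → ℂ) (a χ) • z, ?_, ?_, ?_, ?_⟩
      · exact IsClassFunction.sub (conv_isClassFunction hz (ha χ)) (IsClassFunction.smul _ hz)
      · intro x
        rw [Pi.sub_apply, Pi.smul_apply, smul_eq_mul]
        exact memLocalRing_sub (memLocalRing_conv hzR (haR χ) x) (memLocalRing_mul hωR (hzR x))
      · intro φ hφ
        rw [hstep]
        rcases Finset.mem_insert.mp hφ with h | h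
        · rw [h, sub_self, mul_zero]
        · rw [hzS φ h, zero_mul]
      · rw [hΛsub, hΛsmul]
        intro hmem
        have h1 := hΛmul z (a χ) hz hzR (ha χ) (haR χ)
        have h2 := memLocalIdeal_sub hmem h1
        have h3 : Λ (conv z (a χ)) - omegaFun (χ : G → ℂ) (a χ) * Λ z -
            (Λ (conv z (a χ)) - Λ z * Λ (a χ)) =
            Λ z * (Λ (a χ) - omegaFun (χ : G → ℂ) (a χ)) := by ring
        rw [h3] at h2
        exact not_memLocalIdeal_mul (hΛR z hz hzR)
          (memLocalRing_sub (hΛR (a χ) (ha χ) (haR χ)) hωR) hzΛ (haΛ χ) h2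
  obtain ⟨z, hz, hzR, hzS, hzΛ⟩ := key Finset.univ
  have hzero : z = 0 := by
    apply eq_zero_of_sum_mul_irr_eq_zero hz
    intro χ
    obtain ⟨d, hdpos, hd⟩ := IsIrrCharacter.apply_one_pos χ.2
    have hd0 : (χ : G → ℂ) 1 ≠ 0 := by rw [hd]; exact Nat.cast_ne_zero.mpr hdpos.ne'
    have h1 := hzS χ (Finset.mem_univ χ)
    unfold omegaFun at h1
    rw [div_eq_zero_iff] at h1
    rcases h1 with h1 | h1
    · exact h1
    · exact absurd h1 hd0
  apply hzΛ
  have h0 : Λ (0 : G → ℂ) = 0 := by
    have := hΛsub 0 0
    rw [sub_self] at this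
    rw [this, sub_self]
  rw [hzero, h0]
  exact memLocalIdeal_zero hp.one_notMem

end algHom

section induced

variable {G : Type u} [Group G] [Finite G] {M : Ideal AlgInt}

/-- The induced central character and the Brauer central character are congruent. -/
theorem memLocalIdeal_inducedCentralChar_sub_brauerCentralChar {p : ℕ} [hpp : Fact p.Prime]
    (hM : IsPModular p M) (P H : Subgroup G) (hP : IsPGroup p P) (hPH : P ≤ H)
    (hHN : H ≤ Subgroup.normalizer (P : Set G)) (ξ : IrrCharacter H) (g : G) :
    MemLocalIdeal M (inducedCentralChar H (ξ : H → ℂ) g - brauerCentralChar P H (ξ : H → ℂ) g) := by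
  classical
  let _ := Fintype.ofFinite G
  let _ := Fintype.ofFinite H
  have hprime : M.IsPrime := isPrime_of_isPModular hM
  rw [inducedCentralChar_eq_omegaFun, brauerCentralChar_eq_omegaFun]
  exact memLocalIdeal_omegaFun_resFun_sub_brFun P H hM hP hPH hHN (classInd_isClassFunction g)
    (memLocalRing_classInd g) ξ

/-- **Induced blocks are defined** for `P C_G(P) ≤ H ≤ N_G(P)`. -/
theorem inducedBlockDefined_of_le_normalizer {p : ℕ} [hpp : Fact p.Prime]
    (hM : IsPModular p M) (P H : Subgroup G) (hP : IsPGroup p P) (hPH : P ≤ H)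
    (hCH : Subgroup.centralizer (P : Set G) ≤ H)
    (hHN : H ≤ Subgroup.normalizer (P : Set G)) (b : Set (IrrCharacter H))
    (hb : IsPBlock M b) : InducedBlockDefined M H b := by
  classical
  let _ := Fintype.ofFinite G
  let _ := Fintype.ofFinite H
  have hprime : M.IsPrime := isPrime_of_isPModular hM
  obtain ⟨ξ₀, rfl⟩ := hb
  obtain ⟨χ, hχ⟩ := exists_irr_of_algHom_mod (M := M)
    (fun a => omegaFun (ξ₀ : H → ℂ) (resFun H a))
    (fun a ha haR => memLocalRing_omegaFun ξ₀ (resFun_isClassFunction H ha) (fun x => haR x))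
    (fun a b => by simp only [map_sub, omegaFun_sub])
    (fun c a => by simp only [map_smul, omegaFun_smul])
    (fun a b ha haR hb hbR =>
      memLocalIdeal_omegaFun_resFun_conv P H hM hP hPH hCH hHN ha haR hb hbR ξ₀)
    (by
      have h1 : resFun H (classInd (1 : G)) = classInd (1 : H) := by
        funext h
        rw [resFun_apply]
        unfold classInd
        have h2 : IsConj (1 : G) (h : G) ↔ IsConj (1 : H) h := by
          rw [isConj_one_right, isConj_one_right]
          exact ⟨fun h3 => Subtype.ext h3, fun h3 => by rw [h3]; rfl⟩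
        simp only [h2]
        split_ifs <;> rfl
      simp only [h1]
      rw [omegaFun_classInd, centralChar_one]
      exact not_memLocalIdeal_one)
  refine ⟨blockOf M (χ : G → ℂ), ⟨ξ₀, rfl⟩, ⟨χ, rfl⟩, ?_⟩
  intro ξ hξ χ' hχ' g
  have h1 := memLocalIdeal_omegaFun_sub ξ₀ ξ hξ
    (resFun_isClassFunction H (classInd_isClassFunction g)) (fun x => memLocalRing_classInd g _)
  have h2 := hχ (classInd g) (classInd_isClassFunction g) (memLocalRing_classInd g)
  simp only [omegaFun_classInd] at h2
  have h3 := hχ' g
  rw [inducedCentralChar_eq_omegaFun]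
  have h4 := memLocalIdeal_add (memLocalIdeal_add (memLocalIdeal_neg h1) h2) h3
  have h5 : -(omegaFun (ξ₀ : H → ℂ) (resFun H (classInd g)) -
        omegaFun (ξ : H → ℂ) (resFun H (classInd g))) +
      (omegaFun (ξ₀ : H → ℂ) (resFun H (classInd g)) - centralChar (χ : G → ℂ) g) +
      (centralChar (χ : G → ℂ) g - centralChar (χ' : G → ℂ) g) =
      omegaFun (ξ : H → ℂ) (resFun H (classInd g)) - centralChar (χ' : G → ℂ) g := by ring
  rwa [h5] at h4

end induced

end Cfsg.Agent.Lib.Helper6
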