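/-
helper6: induced blocks and defect groups.  If the block `b` of the subgroup `H` induces the block
`B` of `G`, the central character functional of `b` on restrictions is congruent to that of `B`, and
every defect group of `b` lies in a defect group of `B`.
-/
import Mathlib
import Cfsg.Agent.Lib.Helper6.BrauerMap
import Cfsg.Agent.S0906

set_option autoImplicit false

namespace Cfsg.Agent.Lib.Helper6

open Cfsg Cfsg.Agent.CharLib Cfsg.Agent.Lib.Helper24
open scoped ComplexConjugate

universe u

section classIndBasis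

variable {G : Type u} [Group G] [Fintype G]

omit [Fintype G] in
theorem classInd_eq_of_isConj {g g' : G} (h : IsConj g g') : classInd g = classInd g' := by
  classical
  funext x
  unfold classInd
  have h1 : IsConj g x ↔ IsConj g' x := ⟨fun h2 => h.symm.trans h2, fun h2 => h.trans h2⟩
  simp only [h1]

omit [Fintype G] in
theorem classInd_apply_out [DecidableEq (ConjClasses G)] (C : ConjClasses G) (x : G) :
    classInd (Quotient.out C) x = if ConjClasses.mk x = C then 1 else 0 := by
  unfold classInd
  have h1 : IsConj (Quotient.out C) x ↔ ConjClasses.mk x = C := by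
    rw [← ConjClasses.mk_eq_mk_iff_isConj, conjClasses_mk_out]
    exact eq_comm
  simp only [h1]

omit [Fintype G] in
/-- A class function is the combination of the class indicator functions. -/
theorem classFunction_eq_sum_classInd [Fintype (ConjClasses G)] {a : G → ℂ}
    (ha : IsClassFunction G a) :
    a = ∑ C : ConjClasses G, a (Quotient.out C) • classInd (Quotient.out C) := by
  classical
  funext x
  rw [Finset.sum_apply, Finset.sum_eq_single (ConjClasses.mk x)]
  · rw [Pi.smul_apply, classInd_apply_out, if_pos rfl, smul_eq_mul, mul_one]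
    apply IsClassFunction.of_isConj ha
    rw [← ConjClasses.mk_eq_mk_iff_isConj, conjClasses_mk_out]
  · intro C _ hC
    rw [Pi.smul_apply, classInd_apply_out, if_neg (Ne.symm hC), smul_zero]
  · intro h
    exact absurd (Finset.mem_univ _) h

theorem omegaFun_sum {ι : Type*} (χ : G → ℂ) (s : Finset ι) (f : ι → G → ℂ) :
    omegaFun χ (∑ i ∈ s, f i) = ∑ i ∈ s, omegaFun χ (f i) := by
  classical
  induction s using Finset.induction_on with
  | empty =>
    unfold omegaFun
    simp
  | insert i s hi ih =>
    rw [Finset.sum_insert hi, Finset.sum_insert hi, omegaFun_add, ih]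

omit [Fintype G] in
theorem centralChar_eq_of_isConj [Finite G] (χ : IrrCharacter G) {g g' : G} (h : IsConj g g') :
    centralChar (χ : G → ℂ) g = centralChar (χ : G → ℂ) g' := by
  let _ := Fintype.ofFinite G
  rw [← omegaFun_classInd, ← omegaFun_classInd, classInd_eq_of_isConj h]

omit [Fintype G] in
/-- Conjugates of defect class representatives are defect class representatives. -/
theorem IsDefectClass.of_isConj [Finite G] {M : Ideal AlgInt} {B : Set (IrrCharacter G)} {g g' : G}
    (hg : IsDefectClass M B g) (h : IsConj g g') : IsDefectClass M B g' := by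
  have h1 : blockCoeff B g' = blockCoeff B g :=
    (IsClassFunction.of_isConj (blockCoeff_isClassFunction B) h).symm
  refine ⟨by rw [h1]; exact hg.1, by rw [h1]; exact hg.2.1, ?_⟩
  intro χ hχ
  rw [← centralChar_eq_of_isConj χ h]
  exact hg.2.2 χ hχ

end classIndBasis

section induced

variable {G : Type u} [Group G] [Fintype G] {M : Ideal AlgInt}

/-- For an induced block, the central character functionals agree modulo the local ideal. -/
theorem memLocalIdeal_omegaFun_resFun_sub_of_induced [hp : M.IsPrime] (H : Subgroup G) [Fintype H]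
    {b : Set (IrrCharacter H)} {B : Set (IrrCharacter G)} (hind : IsInducedBlock M H b B)
    {ξ : IrrCharacter H} (hξ : ξ ∈ b) {χ : IrrCharacter G} (hχ : χ ∈ B) {a : G → ℂ}
    (ha : IsClassFunction G a) (haR : ∀ x, MemLocalRing M (a x)) :
    MemLocalIdeal M (omegaFun (ξ : H → ℂ) (resFun H a) - omegaFun (χ : G → ℂ) a) := by
  classical
  let _ : Fintype (ConjClasses G) := Fintype.ofFinite _
  have h1 := classFunction_eq_sum_classInd ha
  have h2 : omegaFun (ξ : H → ℂ) (resFun H a) = ∑ C : ConjClasses G,
      a (Quotient.out C) * omegaFun (ξ : H → ℂ) (resFun H (classInd (Quotient.out C))) := by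
    conv_lhs => rw [h1]
    rw [map_sum, omegaFun_sum]
    apply Finset.sum_congr rfl
    intro C _
    rw [map_smul, omegaFun_smul]
  have h3 : omegaFun (χ : G → ℂ) a = ∑ C : ConjClasses G,
      a (Quotient.out C) * omegaFun (χ : G → ℂ) (classInd (Quotient.out C)) := by
    conv_lhs => rw [h1]
    rw [omegaFun_sum]
    apply Finset.sum_congr rfl
    intro C _
    rw [omegaFun_smul]
  rw [h2, h3, ← Finset.sum_sub_distrib]
  apply sum_memLocalIdeal
  intro C _
  rw [← mul_sub]
  apply memLocalIdeal_mul_left (haR _)
  rw [← inducedCentralChar_eq_omegaFun, omegaFun_classInd]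
  exact hind.2.2 ξ hξ χ hχ _

end induced

section defect

variable {G : Type u} [Group G] [Finite G] {M : Ideal AlgInt}

/-- If `b` induces `B`, every defect group of `b` is contained in a defect group of `B`. -/
theorem exists_defectGroup_ge_of_induced {p : ℕ} [hpp : Fact p.Prime] (hM : IsPModular p M)
    (H : Subgroup G) (b : Set (IrrCharacter H)) (B : Set (IrrCharacter G))
    (hind : IsInducedBlock M H b B) (D : Subgroup H) (hD : IsDefectGroup p M b D) :
    ∃ E : Subgroup G, IsDefectGroup p M B E ∧ D.map H.subtype ≤ E := by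
  classical
  let _ := Fintype.ofFinite G
  let _ := Fintype.ofFinite H
  have hprime : M.IsPrime := isPrime_of_isPModular hM
  obtain ⟨ξ₀, rfl⟩ := hind.1
  obtain ⟨χ₀, rfl⟩ := hind.2.1
  have hξ₀ : ξ₀ ∈ blockOf M (ξ₀ : H → ℂ) := by
    intro x
    rw [sub_self]
    exact memLocalIdeal_zero hprime.one_notMem
  have hχ₀ : χ₀ ∈ blockOf M (χ₀ : G → ℂ) := by
    intro x
    rw [sub_self]
    exact memLocalIdeal_zero hprime.one_notMem
  set B := blockOf M (χ₀ : G → ℂ) with hBdef
  -- the idempotent of `B`
  have heR : ∀ x, MemLocalRing M (blockCoeff B x) := memLocalRing_blockCoeff_blockOf χ₀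
  have he1 : omegaFun (χ₀ : G → ℂ) (blockCoeff B) = 1 := by
    rw [omegaFun_blockCoeff, if_pos hχ₀]
  have h1 := memLocalIdeal_omegaFun_resFun_sub_of_induced H hind hξ₀ hχ₀
    (blockCoeff_isClassFunction B) heR
  rw [he1] at h1
  have h2 : ¬ MemLocalIdeal M (omegaFun (ξ₀ : H → ℂ) (resFun H (blockCoeff B))) := by
    intro hc
    have h3 := memLocalIdeal_sub hc h1
    rw [sub_sub_cancel] at h3
    exact not_memLocalIdeal_one h3
  -- a class of `H` seen by both
  obtain ⟨l, hl1, hl2⟩ : ∃ l : H, ¬ MemLocalIdeal M (blockCoeff B (l : G)) ∧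
      ¬ MemLocalIdeal M (centralChar (ξ₀ : H → ℂ) l) := by
    by_contra hcon
    push Not at hcon
    apply h2
    apply memLocalIdeal_omegaFun_of_forall ξ₀
      (resFun_isClassFunction H (blockCoeff_isClassFunction B)) (fun x => heR _)
    intro x
    by_cases hx : MemLocalIdeal M (blockCoeff B (x : G))
    · left; exact hx
    · right; exact hcon x hx
  -- min-max in `H` and in `G`
  obtain ⟨d, hd, Pd, rfl⟩ := hD
  have hdl : CentLE p d l := centLE_of_blockCoeff hM ξ₀ l hl2 d hd.2.1
  obtain ⟨k, hk⟩ := Cfsg.Agent.S0906.result p M hM B ⟨χ₀, rfl⟩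
  have hlk : CentLE p (l : G) k := centLE_of_blockCoeff hM χ₀ k (hk.2.2 χ₀ hχ₀) l hl1
  -- the defect group of `b`
  set D : Subgroup H := (Pd : Subgroup (Subgroup.centralizer ({d} : Set H))).map
    (Subgroup.centralizer ({d} : Set H)).subtype with hDdef
  have hDp : IsPGroup p D := Pd.isPGroup'.map _
  have hDd : D ≤ Subgroup.centralizer ({d} : Set H) := by
    rintro _ ⟨u, _, rfl⟩
    exact u.2
  obtain ⟨l', hl', hDl'⟩ := hdl D hDp hDd
  have hDGp : IsPGroup p (D.map H.subtype) := hDp.map _
  have hDGl : D.map H.subtype ≤ Subgroup.centralizer ({(l' : G)} : Set G) := by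
    rintro _ ⟨u, hu, rfl⟩
    have h3 := Subgroup.mem_centralizer_singleton_iff.mp (hDl' hu)
    rw [Subgroup.mem_centralizer_singleton_iff]
    exact congrArg Subtype.val h3
  have hl'G : IsConj (l : G) (l' : G) := by
    obtain ⟨c, hc⟩ := isConj_iff.mp hl'
    exact isConj_iff.mpr ⟨(c : G), by rw [← hc]; simp⟩
  have hl'k : CentLE p (l' : G) k := (centLE_of_isConj hl'G).trans hlk
  obtain ⟨k', hk', hDk'⟩ := hl'k _ hDGp hDGl
  obtain ⟨E', hE'⟩ := exists_sylow_map_ge (Subgroup.centralizer ({k'} : Set G)) _ hDGp hDk'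
  exact ⟨_, ⟨k', IsDefectClass.of_isConj hk hk', E', rfl⟩, hE'⟩

end defect

end Cfsg.Agent.Lib.Helper6
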