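import Mathlib
import Cfsg.Agent.Lib.Helper6.BrauerMap

set_option autoImplicit false

namespace Cfsg.Agent.Lib.Helper6

open Cfsg Cfsg.Agent.CharLib Cfsg.Agent.Lib.Helper24
open scoped ComplexConjugate

universe u

section nilIdem

variable {X : Type u} [Group X] [Fintype X] {M : Ideal AlgInt} [hp : M.IsPrime]

/-- Convolution powers. -/
noncomputable def convPow (z : X → ℂ) : ℕ → X → ℂ
  | 0 => classInd 1
  | n + 1 => conv (convPow z n) z

theorem convPow_isClassFunction {z : X → ℂ} (hz : IsClassFunction X z) (n : ℕ) :
    IsClassFunction X (convPow z n) := by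
  induction n with
  | zero => exact classInd_isClassFunction 1
  | succ n ih => exact conv_isClassFunction ih hz

theorem convPow_memLocalRing {z : X → ℂ} (hzR : ∀ x, MemLocalRing M (z x)) (n : ℕ) :
    ∀ x, MemLocalRing M (convPow z n x) := by
  induction n with
  | zero => exact memLocalRing_classInd 1
  | succ n ih => exact memLocalRing_conv ih hzR

/-- Convolution with a local-integer valued function preserves congruence modulo the local ideal. -/
theorem memLocalIdeal_conv_sub {a a' b : X → ℂ} (h : ∀ x, MemLocalIdeal M (a x - a' x))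
    (hbR : ∀ x, MemLocalRing M (b x)) (x : X) :
    MemLocalIdeal M (conv a b x - conv a' b x) := by
  unfold conv
  rw [← Finset.sum_sub_distrib]
  apply sum_memLocalIdeal
  intro g _
  rw [← sub_mul]
  exact memLocalIdeal_mul_right (h g) (hbR _)

theorem conv_classInd_one (z : X → ℂ) : conv (classInd 1) z = z := by
  classical
  funext x
  unfold conv
  rw [Finset.sum_eq_single (1 : X)]
  · unfold classInd
    rw [if_pos (IsConj.refl 1), one_mul, inv_one, one_mul]
  · intro g _ hg
    unfold classInd
    rw [if_neg, zero_mul]
    rw [isConj_one_right]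
    exact hg
  · intro h
    exact absurd (Finset.mem_univ _) h

/-- **Nilpotency**: a local-integer valued class function all of whose central character values lie
in the local ideal has a convolution power with values in the local ideal. -/
theorem exists_convPow_memLocalIdeal {z : X → ℂ} (hz : IsClassFunction X z)
    (hzR : ∀ x, MemLocalRing M (z x))
    (hω : ∀ ξ : IrrCharacter X, MemLocalIdeal M (omegaFun (ξ : X → ℂ) z)) :
    ∃ n : ℕ, ∀ x, MemLocalIdeal M (convPow z n x) := by
  classical
  let _ : Fintype (IrrCharacter X) := Fintype.ofFinite _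
  have key : ∀ S : Finset (IrrCharacter X), ∃ w : X → ℂ, IsClassFunction X w ∧
      (∀ x, MemLocalRing M (w x)) ∧ (∀ ψ ∈ S, omegaFun (ψ : X → ℂ) w = 0) ∧
      ∀ x, MemLocalIdeal M (w x - convPow z S.card x) := by
    intro S
    induction S using Finset.induction_on with
    | empty =>
      refine ⟨classInd 1, classInd_isClassFunction 1, memLocalRing_classInd 1,
        fun ψ hψ => absurd hψ (Finset.notMem_empty ψ), ?_⟩
      intro x
      rw [Finset.card_empty]
      change MemLocalIdeal M (classInd 1 x - classInd 1 x)
      rw [sub_self]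
      exact memLocalIdeal_zero hp.one_notMem
    | insert ξ S hξS ih =>
      obtain ⟨w, hw, hwR, hwS, hwz⟩ := ih
      have hstep : ∀ φ : IrrCharacter X,
          omegaFun (φ : X → ℂ) (conv w z - omegaFun (ξ : X → ℂ) z • w) =
            omegaFun (φ : X → ℂ) w *
              (omegaFun (φ : X → ℂ) z - omegaFun (ξ : X → ℂ) z) := by
        intro φ
        rw [omegaFun_sub, omegaFun_smul, omegaFun_conv φ hw hz]
        ring
      have hωR : MemLocalRing M (omegaFun (ξ : X → ℂ) z) := memLocalRing_omegaFun ξ hz hzR
      refine ⟨conv w z - omegaFun (ξ : X → ℂ) z • w, ?_, ?_, ?_, ?_⟩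
      · exact IsClassFunction.sub (conv_isClassFunction hw hz) (IsClassFunction.smul _ hw)
      · intro x
        rw [Pi.sub_apply, Pi.smul_apply, smul_eq_mul]
        exact memLocalRing_sub (memLocalRing_conv hwR hzR x) (memLocalRing_mul hωR (hwR x))
      · intro φ hφ
        rw [hstep]
        rcases Finset.mem_insert.mp hφ with h | h
        · rw [h, sub_self, mul_zero]
        · rw [hwS φ h, zero_mul]
      · intro x
        rw [Finset.card_insert_of_notMem hξS]
        change MemLocalIdeal M ((conv w z - omegaFun (ξ : X → ℂ) z • w) x -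
          conv (convPow z S.card) z x)
        rw [Pi.sub_apply, Pi.smul_apply, smul_eq_mul]
        have h1 := memLocalIdeal_conv_sub hwz hzR x
        have h2 : MemLocalIdeal M (omegaFun (ξ : X → ℂ) z * w x) :=
          memLocalIdeal_mul_right (hω ξ) (hwR x)
        have h3 := memLocalIdeal_sub h1 h2
        have h4 : conv w z x - conv (convPow z S.card) z x - omegaFun (ξ : X → ℂ) z * w x =
            conv w z x - omegaFun (ξ : X → ℂ) z * w x - conv (convPow z S.card) z x := by ring
        rwa [h4] at h3
  obtain ⟨w, hw, hwR, hwS, hwz⟩ := key Finset.univ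
  have hzero : w = 0 := by
    apply eq_zero_of_sum_mul_irr_eq_zero hw
    intro χ
    obtain ⟨d, hdpos, hd⟩ := IsIrrCharacter.apply_one_pos χ.2
    have hd0 : (χ : X → ℂ) 1 ≠ 0 := by rw [hd]; exact Nat.cast_ne_zero.mpr hdpos.ne'
    have h1 := hwS χ (Finset.mem_univ χ)
    unfold omegaFun at h1
    rw [div_eq_zero_iff] at h1
    rcases h1 with h1 | h1
    · exact h1
    · exact absurd h1 hd0
  refine ⟨(Finset.univ : Finset (IrrCharacter X)).card, ?_⟩
  intro x
  have h1 := hwz x
  rw [hzero, Pi.zero_apply, zero_sub] at h1
  have := memLocalIdeal_neg h1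
  rwa [neg_neg] at this

/-- An idempotent modulo the local ideal all of whose central character values lie in the local
ideal has values in the local ideal. -/
theorem memLocalIdeal_of_idempotent {β : X → ℂ} (hβ : IsClassFunction X β)
    (hβR : ∀ x, MemLocalRing M (β x))
    (hidem : ∀ x, MemLocalIdeal M (conv β β x - β x))
    (hω : ∀ ξ : IrrCharacter X, MemLocalIdeal M (omegaFun (ξ : X → ℂ) β)) :
    ∀ x, MemLocalIdeal M (β x) := by
  obtain ⟨n, hn⟩ := exists_convPow_memLocalIdeal hβ hβR hω
  have key : ∀ m : ℕ, ∀ x, MemLocalIdeal M (convPow β (m + 1) x - β x) := by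
    intro m
    induction m with
    | zero =>
      intro x
      change MemLocalIdeal M (conv (classInd 1) β x - β x)
      rw [conv_classInd_one, sub_self]
      exact memLocalIdeal_zero hp.one_notMem
    | succ m ih =>
      intro x
      change MemLocalIdeal M (conv (convPow β (m + 1)) β x - β x)
      have h1 := memLocalIdeal_conv_sub ih hβR x
      have h2 := memLocalIdeal_add h1 (hidem x)
      have h3 : conv (convPow β (m + 1)) β x - conv β β x + (conv β β x - β x) =
          conv (convPow β (m + 1)) β x - β x := by ring
      rwa [h3] at h2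
  intro x
  rcases Nat.eq_zero_or_pos n with h0 | hpos
  · -- the unit element would be in the ideal: then everything is
    rw [h0] at hn
    have h1 : MemLocalIdeal M (convPow β 1 x - β x) := key 0 x
    have h2 : ∀ y, MemLocalIdeal M (convPow β 1 y) := by
      intro y
      change MemLocalIdeal M (conv (convPow β 0) β y)
      unfold conv
      apply sum_memLocalIdeal
      intro g _
      exact memLocalIdeal_mul_right (hn g) (hβR _)
    have h3 := memLocalIdeal_sub (h2 x) h1
    rwa [sub_sub_cancel] at h3
  · obtain ⟨m, rfl⟩ : ∃ m, n = m + 1 := ⟨n - 1, by omega⟩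
    have h1 := key m x
    have h3 := memLocalIdeal_sub (hn x) h1
    rwa [sub_sub_cancel] at h3

end nilIdem

end Cfsg.Agent.Lib.Helper6
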