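/-
helper6: groups with C_G(Q) ≤ Q for a normal p-subgroup Q have a single p-block (in the sense of
Cfsg.SameBlock): central characters are congruent to class sizes on C_G(Q) and vanish mod M off it.
-/
import Mathlib
import Cfsg.Agent.Lib.Helper6.ClassSumOmega

set_option autoImplicit false

namespace Cfsg.Agent.Lib.Helper6

open Cfsg Cfsg.Agent.CharLib Cfsg.Agent.Lib.Helper24

universe u

section localSubring

variable (M : Ideal AlgInt) [hp : M.IsPrime]

/-- The local ring at `M` as a subring of `ℂ`. -/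
def localSubring : Subring ℂ where
  carrier := {z | MemLocalRing M z}
  mul_mem' := memLocalRing_mul
  one_mem' := memLocalRing_one
  add_mem' := memLocalRing_add
  zero_mem' := memLocalRing_zero
  neg_mem' := memLocalRing_neg

theorem mem_localSubring (z : ℂ) : z ∈ localSubring M ↔ MemLocalRing M z := Iff.rfl

variable {M}

theorem memLocalRing_natCast (m : ℕ) : MemLocalRing M (m : ℂ) := by
  have := memLocalRing_of_algInt (M := M) (m : AlgInt) hp.one_notMem
  simpa using this

theorem memLocalRing_intCast (m : ℤ) : MemLocalRing M (m : ℂ) := by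
  have := memLocalRing_of_algInt (M := M) (m : AlgInt) hp.one_notMem
  simpa using this

/-- Frobenius is injective modulo the local ideal, against natural numbers. -/
theorem memLocalIdeal_sub_natCast_of_pow {p : ℕ} [hpp : Fact p.Prime] (hM : IsPModular p M)
    {a : ℂ} (ha : MemLocalRing M a) (m k : ℕ) (h : MemLocalIdeal M (a ^ (p ^ k) - m)) :
    MemLocalIdeal M (a - m) := by
  have hpM : MemLocalIdeal M (p : ℂ) := by
    have := memLocalIdeal_of_mem hM.2.2 hp.one_notMem
    simpa using this
  have hmR : MemLocalRing M (-(m : ℂ)) := memLocalRing_neg (memLocalRing_natCast m)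
  let x : localSubring M := ⟨a, ha⟩
  let y : localSubring M := ⟨-(m : ℂ), hmR⟩
  obtain ⟨r, hr⟩ := exists_add_pow_prime_pow_eq hpp.out x y k
  have hr' := congrArg (fun z : localSubring M => (z : ℂ)) hr
  simp only [Subring.coe_add, Subring.coe_pow, Subring.coe_mul, Subring.coe_natCast] at hr'
  change (a + -(m : ℂ)) ^ p ^ k = a ^ p ^ k + (-(m : ℂ)) ^ p ^ k + (p : ℂ) * a * (-(m : ℂ)) * (r : ℂ)
    at hr'
  -- Fermat for the integer `-m`
  have hferm : ∃ j : ℤ, (-(m : ℤ)) ^ p ^ k + m = p * j := by
    have h1 : (((-(m : ℤ)) ^ p ^ k + m : ℤ) : ZMod p) = 0 := by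
      push_cast
      rw [ZMod.pow_card_pow]
      ring
    exact (ZMod.intCast_zmod_eq_zero_iff_dvd _ p).mp h1
  obtain ⟨j, hj⟩ := hferm
  have hj' : (-(m : ℂ)) ^ p ^ k + m = (p : ℂ) * j := by
    have := congrArg (fun z : ℤ => (z : ℂ)) hj
    push_cast at this
    exact this
  have hpow : (a - m) ^ p ^ k = (a ^ p ^ k - m) + (p : ℂ) * j + (p : ℂ) * (a * (-(m : ℂ)) * (r : ℂ)) := by
    rw [sub_eq_add_neg, hr']
    linear_combination hj'
  have h1 : MemLocalIdeal M ((a - m) ^ p ^ k) := by
    rw [hpow]
    refine memLocalIdeal_add (memLocalIdeal_add h ?_) ?_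
    · exact memLocalIdeal_mul_right hpM (memLocalRing_intCast j)
    · exact memLocalIdeal_mul_right hpM (memLocalRing_mul (memLocalRing_mul ha hmR) r.2)
  exact memLocalIdeal_of_pow (memLocalRing_sub ha (memLocalRing_natCast m)) _ h1

end localSubring

section frobenius

/-- Frobenius is additive on pairwise commuting families in characteristic `p`. -/
theorem sum_pow_char_pow_of_commute {A : Type*} [Ring A] (p : ℕ) [Fact p.Prime] [CharP A p]
    (k : ℕ) {ι : Type*} (s : Finset ι) (f : ι → A)
    (hcomm : ∀ i ∈ s, ∀ j ∈ s, Commute (f i) (f j)) :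
    (∑ i ∈ s, f i) ^ (p ^ k) = ∑ i ∈ s, f i ^ (p ^ k) := by
  classical
  induction s using Finset.induction_on with
  | empty =>
    rw [Finset.sum_empty, Finset.sum_empty]
    exact zero_pow (pow_ne_zero _ (Fact.out : p.Prime).ne_zero)
  | insert a s ha ih =>
    rw [Finset.sum_insert ha, Finset.sum_insert ha]
    have hc : Commute (f a) (∑ i ∈ s, f i) :=
      Commute.sum_right _ _ _ (fun j hj => hcomm a (Finset.mem_insert_self a s) j
        (Finset.mem_insert_of_mem hj))
    rw [add_pow_char_pow_of_commute _ _ hc,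
      ih (fun i hi j hj => hcomm i (Finset.mem_insert_of_mem hi) j (Finset.mem_insert_of_mem hj))]

end frobenius

section oneBlock

variable {G : Type u} [Group G] [Finite G] {M : Ideal AlgInt}

/-- For a class contained in `Q ∩ C_G(Q)`, `Q` a `p`-group, all central characters are congruent to
the class size modulo `M`. -/
theorem memLocalIdeal_centralChar_sub_card [DecidableEq G] [Fintype G] {p : ℕ} [hp : Fact p.Prime]
    (hM : IsPModular p M) (Q : Subgroup G) (hQ : IsPGroup p Q) (g : G)
    (hg : ∀ x : G, IsConj g x → x ∈ Q ∧ x ∈ Subgroup.centralizer (Q : Set G))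
    (χ : IrrCharacter G) :
    MemLocalIdeal M (centralChar (χ : G → ℂ) g -
      ((Finset.univ.filter (fun x => IsConj g x)).card : ℂ)) := by
  have hprime : M.IsPrime := isPrime_of_isPModular hM
  set K : Finset G := Finset.univ.filter (fun x => IsConj g x) with hKdef
  have hKmem : ∀ x, x ∈ K ↔ IsConj g x := fun x => by simp [hKdef]
  obtain ⟨k, hk⟩ := IsPGroup.iff_card.mp hQ
  have hpowQ : ∀ x ∈ Q, x ^ (p ^ k) = 1 := by
    intro x hx
    have h1 : (⟨x, hx⟩ : Q) ^ Nat.card Q = 1 := pow_card_eq_one'
    rw [hk] at h1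
    exact congrArg Subtype.val h1
  have hchar : CharP (MonoidAlgebra (ZMod p) G) p := charP_of_injective_algebraMap' (ZMod p) p
  -- Frobenius on the class sum
  have hcommK : ∀ x ∈ K, ∀ y ∈ K, Commute (MonoidAlgebra.single x (1 : ZMod p))
      (MonoidAlgebra.single y (1 : ZMod p)) := by
    intro x hx y hy
    have hxQ := (hg x ((hKmem x).mp hx)).1
    have hyC := (hg y ((hKmem y).mp hy)).2
    rw [Subgroup.mem_centralizer_iff] at hyC
    change MonoidAlgebra.single x (1 : ZMod p) * MonoidAlgebra.single y (1 : ZMod p) =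
      MonoidAlgebra.single y (1 : ZMod p) * MonoidAlgebra.single x (1 : ZMod p)
    rw [MonoidAlgebra.single_mul_single, MonoidAlgebra.single_mul_single, hyC x hxQ]
  have hz : (∑ x ∈ K, MonoidAlgebra.single x (1 : ZMod p)) ^ (p ^ k) =
      ((K.card : ℕ) : MonoidAlgebra (ZMod p) G) := by
    rw [sum_pow_char_pow_of_commute p k K _ hcommK]
    have h1 : ∀ x ∈ K, MonoidAlgebra.single x (1 : ZMod p) ^ (p ^ k) =
        (1 : MonoidAlgebra (ZMod p) G) := by
      intro x hx
      rw [MonoidAlgebra.single_pow, hpowQ x (hg x ((hKmem x).mp hx)).1, one_pow,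
        MonoidAlgebra.one_def]
    rw [Finset.sum_congr rfl h1, Finset.sum_const, nsmul_eq_mul, mul_one]
  -- transfer to the integral group ring
  have hmap : MonoidAlgebra.mapRingHom G (Int.castRingHom (ZMod p)) (zClassSum g) =
      ∑ x ∈ K, MonoidAlgebra.single x (1 : ZMod p) := by
    have h0 : zClassSum g = ∑ x ∈ K, MonoidAlgebra.single x (1 : ℤ) := by
      unfold zClassSum
      apply Finset.sum_congr _ (fun _ _ => rfl)
      ext x
      simp [hKdef]
    rw [h0, map_sum]
    simp only [MonoidAlgebra.mapRingHom_single, map_one]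
  set d : MonoidAlgebra ℤ G := (zClassSum g) ^ (p ^ k) - ((K.card : ℕ) : MonoidAlgebra ℤ G) with hd
  have hdvd : ∀ x : G, (p : ℤ) ∣ d.coeff x := by
    intro x
    have h1 : MonoidAlgebra.mapRingHom G (Int.castRingHom (ZMod p)) d = 0 := by
      rw [hd, map_sub, map_pow, hmap, hz, map_natCast, sub_self]
    have h2 := congrArg (fun a : MonoidAlgebra (ZMod p) G => a.coeff x) h1
    simp only [MonoidAlgebra.coeff_mapRingHom, MonoidAlgebra.coeff_zero, Finsupp.coe_zero,
      Pi.zero_apply] at h2
    exact (ZMod.intCast_zmod_eq_zero_iff_dvd _ p).mp h2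
  have hcoeffd : coeffFun d = coeffFun ((zClassSum g) ^ (p ^ k)) - (K.card : ℂ) • classInd 1 := by
    funext x
    rw [Pi.sub_apply, Pi.smul_apply, smul_eq_mul]
    unfold coeffFun classInd
    rw [hd, MonoidAlgebra.coeff_sub, MonoidAlgebra.natCast_def, MonoidAlgebra.coeff_single,
      Finsupp.coe_sub, Pi.sub_apply, Finsupp.single_apply]
    by_cases h : (1 : G) = x
    · rw [if_pos h, if_pos (by rw [h])]
      push_cast
      ring
    · rw [if_neg h, if_neg]
      · push_cast
        ring
      · intro hc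
        exact h (isConj_one_right.mp hc).symm
  have hp0 : (p : ℂ) ≠ 0 := Nat.cast_ne_zero.mpr hp.out.ne_zero
  have hdcls : IsClassFunction G (coeffFun d) := by
    rw [hcoeffd]
    exact IsClassFunction.sub (coeffFun_pow_isClassFunction g _)
      (IsClassFunction.smul _ (classInd_isClassFunction 1))
  set c' : G → ℂ := (p : ℂ)⁻¹ • coeffFun d with hc'
  have hc'cls : IsClassFunction G c' := IsClassFunction.smul _ hdcls
  have hc'R : ∀ x, MemLocalRing M (c' x) := by
    intro x
    obtain ⟨j, hj⟩ := hdvd x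
    have h1 : c' x = (j : ℂ) := by
      rw [hc', Pi.smul_apply, smul_eq_mul]
      unfold coeffFun
      rw [hj]
      push_cast
      field_simp
    rw [h1]
    exact memLocalRing_intCast j
  have hdc' : coeffFun d = (p : ℂ) • c' := by
    rw [hc', smul_smul, mul_inv_cancel₀ hp0, one_smul]
  have hω : (centralChar (χ : G → ℂ) g) ^ (p ^ k) - (K.card : ℂ) =
      (p : ℂ) * omegaFun (χ : G → ℂ) c' := by
    rw [← omegaFun_smul, ← hdc', hcoeffd, omegaFun_sub, omegaFun_smul, omegaFun_coeffFun_pow,
      omegaFun_classInd, centralChar_one, mul_one]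
  have hpM : MemLocalIdeal M (p : ℂ) := by
    have := memLocalIdeal_of_mem hM.2.2 hprime.one_notMem
    simpa using this
  apply memLocalIdeal_sub_natCast_of_pow hM (memLocalRing_centralChar χ g) K.card k
  rw [hω]
  exact memLocalIdeal_mul_right hpM (memLocalRing_omegaFun χ hc'cls hc'R)

/-- If `C_G(Q) ≤ Q` for a normal `p`-subgroup `Q`, the group has a single `p`-block. -/
theorem sameBlock_of_centralizer_le {p : ℕ} [hp : Fact p.Prime] (hM : IsPModular p M)
    (Q : Subgroup G) (hQ : IsPGroup p Q) [hQn : Q.Normal]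
    (hC : Subgroup.centralizer (Q : Set G) ≤ Q) (χ ψ : IrrCharacter G) :
    SameBlock M (χ : G → ℂ) (ψ : G → ℂ) := by
  classical
  let _ := Fintype.ofFinite G
  have hprime : M.IsPrime := isPrime_of_isPModular hM
  have hCn : (Subgroup.centralizer (Q : Set G)).Normal := Subgroup.normal_centralizer
  intro g
  by_cases hgc : g ∈ Subgroup.centralizer (Q : Set G)
  · have hg : ∀ x : G, IsConj g x → x ∈ Q ∧ x ∈ Subgroup.centralizer (Q : Set G) := by
      intro x hx
      obtain ⟨c, hc⟩ := isConj_iff.mp hx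
      have h1 : x ∈ Subgroup.centralizer (Q : Set G) := by
        rw [← hc]
        exact hCn.conj_mem g hgc c
      exact ⟨hC h1, h1⟩
    have h1 := memLocalIdeal_centralChar_sub_card hM Q hQ g hg χ
    have h2 := memLocalIdeal_centralChar_sub_card hM Q hQ g hg ψ
    have h3 := memLocalIdeal_sub h1 h2
    rwa [sub_sub_sub_cancel_right] at h3
  · have hg : ∀ x : G, IsConj g x → x ∉ Subgroup.centralizer (Q : Set G) := by
      intro x hx hxc
      apply hgc
      obtain ⟨c, hc⟩ := isConj_iff.mp hx
      have h1 := hCn.conj_mem x hxc c⁻¹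
      rw [← hc] at h1
      have h2 : c⁻¹ * (c * g * c⁻¹) * c⁻¹⁻¹ = g := by group
      rwa [h2] at h1
    exact memLocalIdeal_sub (memLocalIdeal_centralChar_of_not_centralizes hM Q hQ g hg χ)
      (memLocalIdeal_centralChar_of_not_centralizes hM Q hQ g hg ψ)

end oneBlock

end Cfsg.Agent.Lib.Helper6
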