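/-
helper6: Osima's construction of the block idempotent carried out inside an "ideal" of the centre
of the local group ring: if a set `I` of local-integer valued class functions is closed under
subtraction, local scalars and convolution with local-integer valued class functions, and contains
an element on which the central character of the block is a unit, then the block idempotent
(`blockCoeff`) lies in `I`.
-/
import Mathlib
import Cfsg.Agent.Lib.Helper6.Osima

set_option autoImplicit false

namespace Cfsg.Agent.Lib.Helper6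

open Cfsg Cfsg.Agent.CharLib Cfsg.Agent.Lib.Helper24
open scoped ComplexConjugate

universe u

section osimaIdeal

variable {G : Type u} [Group G] [Fintype G] {M : Ideal AlgInt} [hp : M.IsPrime]

/-- The closure properties of an ideal of the centre of the local group ring, phrased for a
predicate on functions. -/
structure IsCentIdeal (M : Ideal AlgInt) (I : (G → ℂ) → Prop) : Prop where
  cls : ∀ a, I a → IsClassFunction G a
  loc : ∀ a, I a → ∀ x, MemLocalRing M (a x)
  sub : ∀ a b, I a → I b → I (a - b)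
  smul : ∀ (c : ℂ) a, MemLocalRing M c → I a → I (c • a)
  conv : ∀ a b, I a → IsClassFunction G b → (∀ x, MemLocalRing M (b x)) →
    I (Cfsg.Agent.Lib.Helper6.conv a b)

theorem exists_annihilator_of_ideal {I : (G → ℂ) → Prop} (hI : IsCentIdeal M I)
    (χ₀ : IrrCharacter G) {a₀ : G → ℂ} (ha₀ : I a₀)
    (hω : ¬ MemLocalIdeal M (omegaFun (χ₀ : G → ℂ) a₀)) (S : Finset (IrrCharacter G))
    (hS : ∀ ψ ∈ S, ∃ g, ¬ MemLocalIdeal M
      (centralChar (χ₀ : G → ℂ) g - centralChar (ψ : G → ℂ) g)) :
    ∃ t : G → ℂ, I t ∧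
      (∀ ψ ∈ S, omegaFun (ψ : G → ℂ) t = 0) ∧ ¬ MemLocalIdeal M (omegaFun (χ₀ : G → ℂ) t) := by
  classical
  induction S using Finset.induction_on with
  | empty =>
    refine ⟨a₀, ha₀, ?_, hω⟩
    intro ψ hψ
    exact absurd hψ (Finset.notMem_empty ψ)
  | insert ψ S hψS ih =>
    obtain ⟨t, htI, htS, htχ⟩ := ih (fun φ hφ => hS φ (Finset.mem_insert_of_mem hφ))
    have ht := hI.cls t htI
    have htR := hI.loc t htI
    obtain ⟨g, hg⟩ := hS ψ (Finset.mem_insert_self ψ S)
    have hstep : ∀ φ : IrrCharacter G,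
        omegaFun (φ : G → ℂ) (conv t (classInd g) - centralChar (ψ : G → ℂ) g • t) =
          omegaFun (φ : G → ℂ) t *
            (centralChar (φ : G → ℂ) g - centralChar (ψ : G → ℂ) g) := by
      intro φ
      rw [omegaFun_sub, omegaFun_smul, omegaFun_conv φ ht (classInd_isClassFunction g),
        omegaFun_classInd]
      ring
    refine ⟨conv t (classInd g) - centralChar (ψ : G → ℂ) g • t, ?_, ?_, ?_⟩
    · exact hI.sub _ _ (hI.conv t _ htI (classInd_isClassFunction g) (memLocalRing_classInd g))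
        (hI.smul _ t (memLocalRing_centralChar ψ g) htI)
    · intro φ hφ
      rw [hstep]
      rcases Finset.mem_insert.mp hφ with h | h
      · rw [h, sub_self, mul_zero]
      · rw [htS φ h, zero_mul]
    · rw [hstep]
      exact not_memLocalIdeal_mul (memLocalRing_omegaFun χ₀ ht htR)
        (memLocalRing_sub (memLocalRing_centralChar χ₀ g) (memLocalRing_centralChar ψ g)) htχ hg

theorem exists_idempotent_aux_of_ideal {I : (G → ℂ) → Prop} (hI : IsCentIdeal M I)
    (χ₀ : IrrCharacter G) {a₀ : G → ℂ} (ha₀ : I a₀)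
    (hω : ¬ MemLocalIdeal M (omegaFun (χ₀ : G → ℂ) a₀)) (B : Set (IrrCharacter G))
    (hB : ∀ χ ∈ B, ∀ g, MemLocalIdeal M
      (centralChar (χ₀ : G → ℂ) g - centralChar (χ : G → ℂ) g))
    (hBc : ∀ ψ, ψ ∉ B → ∃ g, ¬ MemLocalIdeal M
      (centralChar (χ₀ : G → ℂ) g - centralChar (ψ : G → ℂ) g))
    (T : Finset (IrrCharacter G)) (hT : ∀ χ ∈ T, χ ∈ B) :
    ∃ s : G → ℂ, I s ∧
      (∀ ψ, ψ ∉ B → omegaFun (ψ : G → ℂ) s = 0) ∧ (∀ χ ∈ T, omegaFun (χ : G → ℂ) s = 1) ∧
      ¬ MemLocalIdeal M (omegaFun (χ₀ : G → ℂ) s) := by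
  classical
  let _ : Fintype (IrrCharacter G) := Fintype.ofFinite _
  induction T using Finset.induction_on with
  | empty =>
    obtain ⟨t, htI, htS, htχ⟩ := exists_annihilator_of_ideal hI χ₀ ha₀ hω
      (Finset.univ.filter (fun ψ => ψ ∉ B)) (fun ψ hψ => hBc ψ (Finset.mem_filter.mp hψ).2)
    refine ⟨t, htI, ?_, ?_, htχ⟩
    · intro ψ hψ
      exact htS ψ (Finset.mem_filter.mpr ⟨Finset.mem_univ _, hψ⟩)
    · intro χ hχ
      exact absurd hχ (Finset.notMem_empty χ)
  | insert χ' T hχ'T ih =>
    obtain ⟨s, hsI, hsB, hsT, hsχ⟩ := ih (fun φ hφ => hT φ (Finset.mem_insert_of_mem hφ))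
    have hs := hI.cls s hsI
    have hsR := hI.loc s hsI
    have hχ'B : χ' ∈ B := hT χ' (Finset.mem_insert_self χ' T)
    set v := omegaFun (χ' : G → ℂ) s with hv
    set x₀ := omegaFun (χ₀ : G → ℂ) s with hx₀
    have hvR : MemLocalRing M v := memLocalRing_omegaFun χ' hs hsR
    have hx₀R : MemLocalRing M x₀ := memLocalRing_omegaFun χ₀ hs hsR
    have hcong : MemLocalIdeal M (x₀ - v) := memLocalIdeal_omegaFun_sub χ₀ χ' (hB χ' hχ'B) hs hsR
    have hvM : ¬ MemLocalIdeal M v := by
      intro h
      apply hsχ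
      have h1 := memLocalIdeal_add hcong h
      have h2 : x₀ - v + v = x₀ := by ring
      rw [h2] at h1
      exact h1
    have hv0 : v ≠ 0 := by
      intro h
      apply hvM
      rw [h]
      exact memLocalIdeal_zero hp.one_notMem
    have hnegR : MemLocalRing M (-v) := memLocalRing_neg hvR
    have hnegM : ¬ MemLocalIdeal M (-v) := by
      intro h
      apply hvM
      have := memLocalIdeal_neg h
      rwa [neg_neg] at this
    have hinvR : MemLocalRing M (-v)⁻¹ := memLocalRing_inv hnegR hnegM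
    have hinvM : ¬ MemLocalIdeal M (-v)⁻¹ := by
      intro h
      have h1 := memLocalIdeal_mul_right h hnegR
      rw [inv_mul_cancel₀ (neg_ne_zero.mpr hv0)] at h1
      exact not_memLocalIdeal_one h1
    have hstep : ∀ φ : IrrCharacter G,
        omegaFun (φ : G → ℂ) ((-v)⁻¹ • (conv s s - (1 + v) • s)) =
          (-v)⁻¹ * (omegaFun (φ : G → ℂ) s * (omegaFun (φ : G → ℂ) s - (1 + v))) := by
      intro φ
      rw [omegaFun_smul, omegaFun_sub, omegaFun_smul, omegaFun_conv φ hs hs]
      ring
    refine ⟨(-v)⁻¹ • (conv s s - (1 + v) • s), ?_, ?_, ?_, ?_⟩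
    · exact hI.smul _ _ hinvR (hI.sub _ _ (hI.conv s s hsI hs hsR)
        (hI.smul _ s (memLocalRing_add memLocalRing_one hvR) hsI))
    · intro ψ hψ
      rw [hstep, hsB ψ hψ, zero_mul, mul_zero]
    · intro φ hφ
      rw [hstep]
      rcases Finset.mem_insert.mp hφ with h | h
      · rw [h, ← hv]
        field_simp
        ring
      · rw [hsT φ h]
        field_simp
        ring
    · rw [hstep, ← hx₀]
      exact not_memLocalIdeal_mul hinvR
        (memLocalRing_mul hx₀R (memLocalRing_sub hx₀R (memLocalRing_add memLocalRing_one hvR)))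
        hinvM (not_memLocalIdeal_mul hx₀R
          (memLocalRing_sub hx₀R (memLocalRing_add memLocalRing_one hvR)) hsχ
          (not_memLocalIdeal_sub_one_add hcong))

/-- If an ideal of the centre of the local group ring contains an element on which the central
character of a block is a unit, it contains the block idempotent. -/
theorem blockCoeff_mem_ideal {I : (G → ℂ) → Prop} (hI : IsCentIdeal M I)
    (χ₀ : IrrCharacter G) {a₀ : G → ℂ} (ha₀ : I a₀)
    (hω : ¬ MemLocalIdeal M (omegaFun (χ₀ : G → ℂ) a₀)) :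
    I (blockCoeff (blockOf M (χ₀ : G → ℂ))) := by
  classical
  let _ : Fintype (IrrCharacter G) := Fintype.ofFinite _
  set B := blockOf M (χ₀ : G → ℂ) with hBdef
  have hB : ∀ χ ∈ B, ∀ g, MemLocalIdeal M
      (centralChar (χ₀ : G → ℂ) g - centralChar (χ : G → ℂ) g) := fun χ hχ => hχ
  have hBc : ∀ ψ, ψ ∉ B → ∃ g, ¬ MemLocalIdeal M
      (centralChar (χ₀ : G → ℂ) g - centralChar (ψ : G → ℂ) g) := by
    intro ψ hψ
    by_contra hcon
    push Not at hcon
    exact hψ hcon
  obtain ⟨e, heI, heB, heT, -⟩ := exists_idempotent_aux_of_ideal hI χ₀ ha₀ hω B hB hBc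
    (Finset.univ.filter (fun χ => χ ∈ B)) (fun χ hχ => (Finset.mem_filter.mp hχ).2)
  have he := hI.cls e heI
  have hzero : e - blockCoeff B = 0 := by
    apply eq_zero_of_sum_mul_irr_eq_zero
      (IsClassFunction.sub he (blockCoeff_isClassFunction B))
    intro χ
    obtain ⟨d, hdpos, hd⟩ := IsIrrCharacter.apply_one_pos χ.2
    have hd0 : (χ : G → ℂ) 1 ≠ 0 := by rw [hd]; exact Nat.cast_ne_zero.mpr hdpos.ne'
    have h1 : omegaFun (χ : G → ℂ) (e - blockCoeff B) = 0 := by
      rw [omegaFun_sub, omegaFun_blockCoeff]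
      by_cases hχ : χ ∈ B
      · rw [if_pos hχ, heT χ (Finset.mem_filter.mpr ⟨Finset.mem_univ _, hχ⟩), sub_self]
      · rw [if_neg hχ, heB χ hχ, sub_self]
    unfold omegaFun at h1
    rw [div_eq_zero_iff] at h1
    rcases h1 with h1 | h1
    · exact h1
    · exact absurd h1 hd0
  have heq : e = blockCoeff B := sub_eq_zero.mp hzero
  rw [← heq]
  exact heI

end osimaIdeal

end Cfsg.Agent.Lib.Helper6
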