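/-
helper6: the min–max theorem for defect classes.  `CentLE p x y` says that every p-subgroup
centralising `x` centralises some conjugate of `y` (i.e. a Sylow p-subgroup of `C(x)` is conjugate
into one of `C(y)`).  The local-integer valued class functions that are `≡ 0` at all `x` with
`¬ CentLE p x y` form an ideal; Osima's construction inside this ideal gives the theorem.
-/
import Mathlib
import Cfsg.Agent.Lib.Helper6.OsimaIdeal
import Cfsg.Agent.Lib.Helper6.OneBlock

set_option autoImplicit false

namespace Cfsg.Agent.Lib.Helper6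

open Cfsg Cfsg.Agent.CharLib Cfsg.Agent.Lib.Helper24
open scoped ComplexConjugate

universe u

section fixedPointFree

variable {G : Type*} [Group G]

/-- A function invariant under a fixed-point-free conjugation action of a `p`-group on a finite set
sums to `p` times an element of the subgroup generated by its values. -/
theorem sum_eq_nsmul_of_pgroup_fixed_point_free [DecidableEq G] (p : ℕ) [hp : Fact p.Prime]
    (Q : Subgroup G) (hQ : IsPGroup p Q) (K : Finset G)
    (hK : ∀ x ∈ K, ∀ q ∈ Q, q * x * q⁻¹ ∈ K) (hfix : ∀ x ∈ K, ∃ q ∈ Q, q * x * q⁻¹ ≠ x)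
    {B : Type*} [AddCommGroup B] [DecidableEq B] (S : AddSubgroup B) (f : G → B)
    (hfS : ∀ x ∈ K, f x ∈ S)
    (hf : ∀ x ∈ K, ∀ q ∈ Q, f (q * x * q⁻¹) = f x) : ∃ t ∈ S, ∑ x ∈ K, f x = p • t := by
  have h1 := Finset.sum_comp (s := K) (fun b : B => b) f
  rw [h1]
  have key : ∀ b ∈ K.image f, p ∣ (K.filter (fun x => f x = b)).card := by
    intro b _
    let X : Finset G := K.filter (fun x => f x = b)
    have hX : ∀ x, x ∈ X ↔ x ∈ K ∧ f x = b := fun x => Finset.mem_filter
    let act : MulAction Q X :=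
      { smul := fun q x => ⟨(q : G) * x * (q : G)⁻¹, (hX _).mpr
          ⟨hK x ((hX x).mp x.2).1 q q.2, by
            rw [hf x ((hX x).mp x.2).1 q q.2]; exact ((hX x).mp x.2).2⟩⟩
        one_smul := by
          intro x
          apply Subtype.ext
          change ((1 : Q) : G) * x * ((1 : Q) : G)⁻¹ = x
          simp
        mul_smul := by
          intro q r x
          apply Subtype.ext
          change ((q * r : Q) : G) * x * ((q * r : Q) : G)⁻¹ =
            (q : G) * ((r : G) * x * (r : G)⁻¹) * (q : G)⁻¹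
          rw [Subgroup.coe_mul]
          group }
    have hfp : MulAction.fixedPoints Q X = ∅ := by
      rw [Set.eq_empty_iff_forall_notMem]
      intro x hx
      obtain ⟨q, hq, hne⟩ := hfix x ((hX x).mp x.2).1
      apply hne
      have := hx ⟨q, hq⟩
      have h2 := congrArg (fun y : X => (y : G)) this
      exact h2
    have hcard := hQ.card_modEq_card_fixedPoints X
    rw [hfp, Nat.card_eq_fintype_card, Fintype.card_coe] at hcard
    have : Nat.card (∅ : Set X) = 0 := by simp
    rw [this] at hcard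
    exact (Nat.modEq_zero_iff_dvd).mp hcard
  refine ⟨∑ b ∈ K.image f, ((K.filter (fun x => f x = b)).card / p) • b, ?_, ?_⟩
  · apply AddSubgroup.sum_mem
    intro b hb
    obtain ⟨x, hx, rfl⟩ := Finset.mem_image.mp hb
    exact S.nsmul_mem (hfS x hx) _
  · rw [Finset.smul_sum]
    apply Finset.sum_congr rfl
    intro b hb
    rw [← mul_smul, Nat.mul_div_cancel' (key b hb)]

end fixedPointFree

section centLE

variable {G : Type u} [Group G]

/-- Every `p`-subgroup centralising `x` centralises some conjugate of `y`. -/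
def CentLE (p : ℕ) (x y : G) : Prop :=
  ∀ P : Subgroup G, IsPGroup p P → P ≤ Subgroup.centralizer ({x} : Set G) →
    ∃ y' : G, IsConj y y' ∧ P ≤ Subgroup.centralizer ({y'} : Set G)

theorem CentLE.trans {p : ℕ} {x y z : G} (h1 : CentLE p x y) (h2 : CentLE p y z) :
    CentLE p x z := by
  intro P hP hPx
  obtain ⟨y', hy', hPy'⟩ := h1 P hP hPx
  obtain ⟨c, hc⟩ := isConj_iff.mp hy'
  -- conjugate back to `y`
  have hP' : IsPGroup p (P.map (MulAut.conj c⁻¹).toMonoidHom) := hP.map _
  have hP'y : P.map (MulAut.conj c⁻¹).toMonoidHom ≤ Subgroup.centralizer ({y} : Set G) := by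
    rintro _ ⟨u, hu, rfl⟩
    have h3 := Subgroup.mem_centralizer_singleton_iff.mp (hPy' hu)
    rw [Subgroup.mem_centralizer_singleton_iff]
    simp only [MulEquiv.coe_toMonoidHom, MulAut.conj_apply, inv_inv]
    rw [← hc] at h3
    calc c⁻¹ * u * c * y = c⁻¹ * (u * (c * y * c⁻¹)) * c := by group
      _ = c⁻¹ * ((c * y * c⁻¹) * u) * c := by rw [h3]
      _ = y * (c⁻¹ * u * c) := by group
  obtain ⟨z', hz', hPz'⟩ := h2 _ hP' hP'y
  refine ⟨c * z' * c⁻¹, hz'.trans (isConj_iff.mpr ⟨c, rfl⟩), ?_⟩
  intro u hu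
  have h3 := Subgroup.mem_centralizer_singleton_iff.mp
    (hPz' ⟨u, hu, rfl⟩ : (MulAut.conj c⁻¹).toMonoidHom u ∈ Subgroup.centralizer ({z'} : Set G))
  simp only [MulEquiv.coe_toMonoidHom, MulAut.conj_apply, inv_inv] at h3
  rw [Subgroup.mem_centralizer_singleton_iff]
  calc u * (c * z' * c⁻¹) = c * ((c⁻¹ * u * c) * z') * c⁻¹ := by group
    _ = c * (z' * (c⁻¹ * u * c)) * c⁻¹ := by rw [h3]
    _ = c * z' * c⁻¹ * u := by group

theorem centLE_of_isConj {p : ℕ} {x y : G} (h : IsConj y x) : CentLE p x y :=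
  fun _ _ hPx => ⟨x, h, hPx⟩

end centLE

section ideal

variable {G : Type u} [Group G] [Fintype G] {M : Ideal AlgInt}

/-- The ideal of local-integer valued class functions lying in the local ideal at all `x` with
`¬ CentLE p x y`. -/
def InCentIdeal (M : Ideal AlgInt) (p : ℕ) (y : G) (a : G → ℂ) : Prop :=
  IsClassFunction G a ∧ (∀ x, MemLocalRing M (a x)) ∧ ∀ x, ¬ CentLE p x y → MemLocalIdeal M (a x)

theorem isCentIdeal_inCentIdeal {p : ℕ} [hpp : Fact p.Prime] (hM : IsPModular p M) (y : G) :
    IsCentIdeal M (InCentIdeal M p y) := by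
  classical
  haveI hprime : M.IsPrime := isPrime_of_isPModular hM
  have hpM : MemLocalIdeal M (p : ℂ) := by
    have := memLocalIdeal_of_mem hM.2.2 hprime.one_notMem
    simpa using this
  refine ⟨fun a ha => ha.1, fun a ha => ha.2.1, ?_, ?_, ?_⟩
  · intro a b ha hb
    refine ⟨IsClassFunction.sub ha.1 hb.1, fun x => memLocalRing_sub (ha.2.1 x) (hb.2.1 x), ?_⟩
    intro x hx
    exact memLocalIdeal_sub (ha.2.2 x hx) (hb.2.2 x hx)
  · intro c a hc ha
    refine ⟨IsClassFunction.smul c ha.1, fun x => memLocalRing_mul hc (ha.2.1 x), ?_⟩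
    intro x hx
    exact memLocalIdeal_mul_left hc (ha.2.2 x hx)
  · intro a b ha hb hbR
    refine ⟨conv_isClassFunction ha.1 hb, memLocalRing_conv ha.2.1 hbR, ?_⟩
    intro z hz
    -- a `p`-subgroup centralising `z` but no conjugate of `y`
    unfold CentLE at hz
    push Not at hz
    obtain ⟨P, hP, hPz, hPy⟩ := hz
    unfold conv
    set K : Finset G := Finset.univ.filter (fun g => ¬ MemLocalIdeal M (a g)) with hK
    rw [← Finset.sum_filter_add_sum_filter_not Finset.univ (fun g => ¬ MemLocalIdeal M (a g))]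
    apply memLocalIdeal_add
    · -- the part on `K`
      have hKc : ∀ x ∈ K, ∀ q ∈ P, q * x * q⁻¹ ∈ K := by
        intro x hx q _
        rw [hK, Finset.mem_filter] at hx ⊢
        refine ⟨Finset.mem_univ _, ?_⟩
        rw [ha.1 x q]
        exact hx.2
      have hfix : ∀ x ∈ K, ∃ q ∈ P, q * x * q⁻¹ ≠ x := by
        intro x hx
        by_contra hcon
        push Not at hcon
        have hPx : P ≤ Subgroup.centralizer ({x} : Set G) := by
          intro q hq
          rw [Subgroup.mem_centralizer_singleton_iff]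
          have := hcon q hq
          calc q * x = q * x * q⁻¹ * q := by group
            _ = x * q := by rw [this]
        have hxy : CentLE p x y := by
          by_contra hne
          exact (Finset.mem_filter.mp hx).2 (ha.2.2 x hne)
        obtain ⟨y', hy', hPy'⟩ := hxy P hP hPx
        exact hPy y' hy' hPy'
      have hinv : ∀ x ∈ K, ∀ q ∈ P, a (q * x * q⁻¹) * b ((q * x * q⁻¹)⁻¹ * z) = a x * b (x⁻¹ * z) := by
        intro x _ q hq
        rw [ha.1 x q]
        congr 1
        have hqz : q * z = z * q := Subgroup.mem_centralizer_singleton_iff.mp (hPz hq)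
        have h1 : (q * x * q⁻¹)⁻¹ * z = q * (x⁻¹ * z) * q⁻¹ := by
          have : z = q * z * q⁻¹ := by rw [hqz]; group
          calc (q * x * q⁻¹)⁻¹ * z = q * x⁻¹ * q⁻¹ * z := by group
            _ = q * x⁻¹ * q⁻¹ * (q * z * q⁻¹) := by rw [← this]
            _ = q * (x⁻¹ * z) * q⁻¹ := by group
        rw [h1, hb _ q]
      obtain ⟨t, ht, hsum⟩ := sum_eq_nsmul_of_pgroup_fixed_point_free p P hP K hKc hfix
        (localSubring M).toAddSubgroup (fun g => a g * b (g⁻¹ * z))
        (fun x _ => memLocalRing_mul (ha.2.1 x) (hbR _)) hinv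
      rw [hsum, nsmul_eq_mul]
      exact memLocalIdeal_mul_right hpM ht
    · apply sum_memLocalIdeal
      intro g hg
      have hg' : MemLocalIdeal M (a g) := by
        have := (Finset.mem_filter.mp hg).2
        push Not at this
        exact this
      exact memLocalIdeal_mul_right hg' (hbR _)

/-- The key step of the min–max theorem: if the central character of the block of `χ₀` does not
vanish modulo the local ideal at `y`, then every `x` at which the block idempotent coefficient is
not in the local ideal satisfies `CentLE p x y`. -/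
theorem centLE_of_blockCoeff {p : ℕ} [hpp : Fact p.Prime] (hM : IsPModular p M)
    (χ₀ : IrrCharacter G) (y : G) (hy : ¬ MemLocalIdeal M (centralChar (χ₀ : G → ℂ) y)) (x : G)
    (hx : ¬ MemLocalIdeal M (blockCoeff (blockOf M (χ₀ : G → ℂ)) x)) : CentLE p x y := by
  haveI hprime : M.IsPrime := isPrime_of_isPModular hM
  have hI := isCentIdeal_inCentIdeal hM y
  have ha₀ : InCentIdeal M p y (classInd y) := by
    refine ⟨classInd_isClassFunction y, memLocalRing_classInd y, ?_⟩
    intro x hx
    have : classInd y x = 0 := by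
      classical
      unfold classInd
      rw [if_neg]
      intro hc
      exact hx (centLE_of_isConj hc)
    rw [this]
    exact memLocalIdeal_zero hprime.one_notMem
  have hω : ¬ MemLocalIdeal M (omegaFun (χ₀ : G → ℂ) (classInd y)) := by
    rw [omegaFun_classInd]
    exact hy
  have h := blockCoeff_mem_ideal hI χ₀ ha₀ hω
  by_contra hne
  exact hx (h.2.2 x hne)

end ideal

section sylowForm

variable {G : Type u} [Group G]

theorem map_conj_inv_le_centralizer {P : Subgroup G} {c g : G}
    (h : P ≤ Subgroup.centralizer ({c * g * c⁻¹} : Set G)) :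
    P.map (MulAut.conj c⁻¹).toMonoidHom ≤ Subgroup.centralizer ({g} : Set G) := by
  rintro _ ⟨u, hu, rfl⟩
  have h3 := Subgroup.mem_centralizer_singleton_iff.mp (h hu)
  rw [Subgroup.mem_centralizer_singleton_iff]
  simp only [MulEquiv.coe_toMonoidHom, MulAut.conj_apply, inv_inv]
  calc c⁻¹ * u * c * g = c⁻¹ * (u * (c * g * c⁻¹)) * c := by group
    _ = c⁻¹ * ((c * g * c⁻¹) * u) * c := by rw [h3]
    _ = g * (c⁻¹ * u * c) := by group

theorem map_conj_map_conj (P : Subgroup G) (a b : G) :
    (P.map (MulAut.conj a).toMonoidHom).map (MulAut.conj b).toMonoidHom =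
      P.map (MulAut.conj (b * a)).toMonoidHom := by
  rw [Subgroup.map_map]
  congr 1
  ext u
  simp [mul_assoc]

theorem exists_sylow_map_ge {p : ℕ} [Fact p.Prime] [Finite G] (H P : Subgroup G)
    (hP : IsPGroup p P) (hPH : P ≤ H) : ∃ Q : Sylow p H, P ≤ (Q : Subgroup H).map H.subtype := by
  have h1 : IsPGroup p (P.subgroupOf H) := hP.comap_subtype
  obtain ⟨Q, hQ⟩ := h1.exists_le_sylow
  refine ⟨Q, ?_⟩
  intro u hu
  exact ⟨⟨u, hPH hu⟩, hQ (Subgroup.mem_subgroupOf.mpr hu), rfl⟩

/-- Sylow form of `CentLE`, lower side: a Sylow `p`-subgroup of `C(x)` lies in a conjugate of any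
given Sylow `p`-subgroup of `C(y)`. -/
theorem CentLE.sylow_le {p : ℕ} [Fact p.Prime] [Finite G] {x y : G} (h : CentLE p x y)
    (Q : Sylow p (Subgroup.centralizer ({x} : Set G)))
    (D : Sylow p (Subgroup.centralizer ({y} : Set G))) :
    ∃ c : G, (Q : Subgroup (Subgroup.centralizer ({x} : Set G))).map
        (Subgroup.centralizer ({x} : Set G)).subtype ≤
      ((D : Subgroup (Subgroup.centralizer ({y} : Set G))).map
        (Subgroup.centralizer ({y} : Set G)).subtype).map (MulAut.conj c).toMonoidHom := by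
  set P := (Q : Subgroup (Subgroup.centralizer ({x} : Set G))).map
    (Subgroup.centralizer ({x} : Set G)).subtype with hPdef
  have hP : IsPGroup p P := Q.isPGroup'.map _
  have hPx : P ≤ Subgroup.centralizer ({x} : Set G) := by
    rintro _ ⟨u, _, rfl⟩
    exact u.2
  obtain ⟨y', hy', hPy'⟩ := h P hP hPx
  obtain ⟨c, rfl⟩ := isConj_iff.mp hy'
  have h1 := map_conj_inv_le_centralizer hPy'
  obtain ⟨D', hD'⟩ := exists_sylow_map_ge (Subgroup.centralizer ({y} : Set G)) _ (hP.map _) h1
  obtain ⟨u, hu⟩ := MulAction.exists_smul_eq (Subgroup.centralizer ({y} : Set G)) D D'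
  refine ⟨c * (u : G), ?_⟩
  have h2 : (D' : Subgroup (Subgroup.centralizer ({y} : Set G))).map
      (Subgroup.centralizer ({y} : Set G)).subtype =
      ((D : Subgroup (Subgroup.centralizer ({y} : Set G))).map
        (Subgroup.centralizer ({y} : Set G)).subtype).map (MulAut.conj (u : G)).toMonoidHom := by
    rw [← hu]
    ext w
    constructor
    · rintro ⟨v, hv, rfl⟩
      rw [Sylow.coe_subgroup_smul, SetLike.mem_coe, Subgroup.mem_smul_pointwise_iff_exists] at hv
      obtain ⟨d, hd, rfl⟩ := hv
      refine ⟨(d : G), ⟨d, hd, rfl⟩, ?_⟩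
      simp [MulAut.smul_def]
    · rintro ⟨_, ⟨d, hd, rfl⟩, rfl⟩
      refine ⟨u * d * u⁻¹, ?_, by simp⟩
      rw [Sylow.coe_subgroup_smul, SetLike.mem_coe, Subgroup.mem_smul_pointwise_iff_exists]
      exact ⟨d, hd, by simp [MulAut.smul_def]⟩
  rw [← map_conj_map_conj, ← h2]
  intro w hw
  have h3 : (MulAut.conj c⁻¹).toMonoidHom w ∈ P.map (MulAut.conj c⁻¹).toMonoidHom := ⟨w, hw, rfl⟩
  refine ⟨_, hD' h3, ?_⟩
  simp only [MulEquiv.coe_toMonoidHom, MulAut.conj_apply, inv_inv]
  group

/-- Sylow form of `CentLE`, upper side: some conjugate of a given Sylow `p`-subgroup of `C(x)` lies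
in a Sylow `p`-subgroup of `C(y)`. -/
theorem CentLE.sylow_ge {p : ℕ} [Fact p.Prime] [Finite G] {x y : G} (h : CentLE p x y)
    (D : Sylow p (Subgroup.centralizer ({x} : Set G))) :
    ∃ (c : G) (Q : Sylow p (Subgroup.centralizer ({y} : Set G))),
      ((D : Subgroup (Subgroup.centralizer ({x} : Set G))).map
        (Subgroup.centralizer ({x} : Set G)).subtype).map (MulAut.conj c).toMonoidHom ≤
      (Q : Subgroup (Subgroup.centralizer ({y} : Set G))).map
        (Subgroup.centralizer ({y} : Set G)).subtype := by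
  set P := (D : Subgroup (Subgroup.centralizer ({x} : Set G))).map
    (Subgroup.centralizer ({x} : Set G)).subtype with hPdef
  have hP : IsPGroup p P := D.isPGroup'.map _
  have hPx : P ≤ Subgroup.centralizer ({x} : Set G) := by
    rintro _ ⟨u, _, rfl⟩
    exact u.2
  obtain ⟨y', hy', hPy'⟩ := h P hP hPx
  obtain ⟨c, rfl⟩ := isConj_iff.mp hy'
  have h1 := map_conj_inv_le_centralizer hPy'
  obtain ⟨Q, hQ⟩ := exists_sylow_map_ge (Subgroup.centralizer ({y} : Set G)) _ (hP.map _) h1
  exact ⟨c⁻¹, Q, hQ⟩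

end sylowForm

end Cfsg.Agent.Lib.Helper6
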