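/-
helper6: Sylow subgroups of a subgroup, seen inside the ambient group (`IsSylowIn`), and the two
group-theoretic facts behind Brauer's first main theorem: fusion of elements with a common Sylow
centralizer subgroup is controlled by its normalizer, and a Sylow subgroup of `C_N(l)` normalised by
`N = N_G(D)` which equals `D` is already Sylow in `C_G(l)`.
-/
import Mathlib
import Cfsg.Agent.Lib.Helper6.MinMax

set_option autoImplicit false

namespace Cfsg.Agent.Lib.Helper6

universe u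

section sylowIn

variable {G : Type u} [Group G]

/-- `D` is (the image in `G` of) a Sylow `p`-subgroup of the subgroup `C`. -/
def IsSylowIn (p : ℕ) (C D : Subgroup G) : Prop :=
  ∃ P : Sylow p C, D = (P : Subgroup C).map C.subtype

theorem IsSylowIn.le {p : ℕ} {C D : Subgroup G} (h : IsSylowIn p C D) : D ≤ C := by
  obtain ⟨P, rfl⟩ := h
  rintro _ ⟨u, _, rfl⟩
  exact u.2

theorem IsSylowIn.isPGroup {p : ℕ} {C D : Subgroup G} (h : IsSylowIn p C D) : IsPGroup p D := by
  obtain ⟨P, rfl⟩ := h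
  exact P.isPGroup'.map _

/-- Maximality of Sylow subgroups, ambient form. -/
theorem IsSylowIn.eq_of_le {p : ℕ} {C D Q : Subgroup G} (h : IsSylowIn p C D)
    (hQ : IsPGroup p Q) (hQC : Q ≤ C) (hDQ : D ≤ Q) : Q = D := by
  obtain ⟨P, rfl⟩ := h
  have h1 : IsPGroup p (Q.subgroupOf C) := hQ.comap_subtype
  have h2 : (P : Subgroup C) ≤ Q.subgroupOf C := by
    intro u hu
    exact Subgroup.mem_subgroupOf.mpr (hDQ ⟨u, hu, rfl⟩)
  have h3 := P.is_maximal' h1 h2
  rw [← h3]
  exact (Subgroup.map_subgroupOf_eq_of_le hQC).symm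

theorem exists_isSylowIn_ge [Finite G] {p : ℕ} [Fact p.Prime] (C : Subgroup G) {Q : Subgroup G}
    (hQ : IsPGroup p Q) (hQC : Q ≤ C) : ∃ S : Subgroup G, IsSylowIn p C S ∧ Q ≤ S := by
  obtain ⟨P, hP⟩ := exists_sylow_map_ge C Q hQ hQC
  exact ⟨_, ⟨P, rfl⟩, hP⟩

theorem IsSylowIn.card_eq [Finite G] {p : ℕ} [Fact p.Prime] {C D₁ D₂ : Subgroup G}
    (h₁ : IsSylowIn p C D₁) (h₂ : IsSylowIn p C D₂) : Nat.card D₁ = Nat.card D₂ := by
  obtain ⟨P₁, rfl⟩ := h₁
  obtain ⟨P₂, rfl⟩ := h₂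
  rw [Subgroup.card_map_of_injective C.subtype_injective,
    Subgroup.card_map_of_injective C.subtype_injective, Sylow.card_eq_multiplicity,
    Sylow.card_eq_multiplicity]

/-- A `p`-subgroup of `C` of the order of a Sylow subgroup is Sylow. -/
theorem isSylowIn_of_card [Finite G] {p : ℕ} [Fact p.Prime] {C D Q : Subgroup G}
    (h : IsSylowIn p C D) (hQ : IsPGroup p Q) (hQC : Q ≤ C) (hcard : Nat.card D ≤ Nat.card Q) :
    IsSylowIn p C Q := by
  obtain ⟨S, hS, hQS⟩ := exists_isSylowIn_ge C hQ hQC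
  have : Q = S := Subgroup.eq_of_le_of_card_ge hQS (by rw [hS.card_eq h]; exact hcard)
  rw [this]
  exact hS

/-- Any `p`-subgroup of `C` is no larger than a Sylow subgroup. -/
theorem IsSylowIn.card_le [Finite G] {p : ℕ} [Fact p.Prime] {C D Q : Subgroup G}
    (h : IsSylowIn p C D) (hQ : IsPGroup p Q) (hQC : Q ≤ C) : Nat.card Q ≤ Nat.card D := by
  obtain ⟨S, hS, hQS⟩ := exists_isSylowIn_ge C hQ hQC
  rw [← hS.card_eq h]
  exact Subgroup.card_le_of_le hQS

/-- Sylow's conjugacy theorem, ambient form. -/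
theorem IsSylowIn.exists_conj [Finite G] {p : ℕ} [Fact p.Prime] {C D₁ D₂ : Subgroup G}
    (h₁ : IsSylowIn p C D₁) (h₂ : IsSylowIn p C D₂) :
    ∃ c ∈ C, D₂ = D₁.map (MulAut.conj c).toMonoidHom := by
  obtain ⟨P₁, rfl⟩ := h₁
  obtain ⟨P₂, rfl⟩ := h₂
  obtain ⟨u, hu⟩ := MulAction.exists_smul_eq C P₁ P₂
  refine ⟨(u : G), u.2, ?_⟩
  rw [← hu]
  ext w
  constructor
  · rintro ⟨v, hv, rfl⟩
    rw [Sylow.coe_subgroup_smul, SetLike.mem_coe, Subgroup.mem_smul_pointwise_iff_exists] at hv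
    obtain ⟨d, hd, rfl⟩ := hv
    refine ⟨(d : G), ⟨d, hd, rfl⟩, ?_⟩
    simp [MulAut.smul_def]
  · rintro ⟨_, ⟨d, hd, rfl⟩, rfl⟩
    refine ⟨u * d * u⁻¹, ?_, by simp⟩
    rw [Sylow.coe_subgroup_smul, SetLike.mem_coe, Subgroup.mem_smul_pointwise_iff_exists]
    exact ⟨d, hd, by simp [MulAut.smul_def]⟩

theorem mem_normalizer_of_map_conj_eq {D : Subgroup G} {m : G}
    (h : D.map (MulAut.conj m).toMonoidHom = D) : m ∈ Subgroup.normalizer (D : Set G) := by
  rw [Subgroup.mem_normalizer_iff]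
  intro d
  constructor
  · intro hd
    have h1 : m * d * m⁻¹ ∈ D.map (MulAut.conj m).toMonoidHom := ⟨d, hd, by simp⟩
    rwa [h] at h1
  · intro hd
    rw [← h] at hd
    obtain ⟨d', hd', he⟩ := hd
    have h2 : d' = d := by simpa using he
    rwa [← h2]

/-- **Fusion control**: if `D` is a Sylow `p`-subgroup of `C_G(x)` and also centralizes the
conjugate `g x g⁻¹`, then the conjugation can be realised inside `N_G(D)`. -/
theorem exists_mem_normalizer_conj [Finite G] {p : ℕ} [Fact p.Prime] {D : Subgroup G} {x g : G}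
    (hD : IsSylowIn p (Subgroup.centralizer ({x} : Set G)) D)
    (hDy : D ≤ Subgroup.centralizer ({g * x * g⁻¹} : Set G)) :
    ∃ n ∈ Subgroup.normalizer (D : Set G), n * x * n⁻¹ = g * x * g⁻¹ := by
  have h1 := map_conj_inv_le_centralizer hDy
  have h2 : IsSylowIn p (Subgroup.centralizer ({x} : Set G))
      (D.map (MulAut.conj g⁻¹).toMonoidHom) :=
    isSylowIn_of_card hD (hD.isPGroup.map _) h1
      (by rw [Subgroup.card_map_of_injective (MulAut.conj g⁻¹).injective])
  obtain ⟨c, hc, hcD⟩ := h2.exists_conj hD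
  rw [map_conj_map_conj] at hcD
  have hm : c * g⁻¹ ∈ Subgroup.normalizer (D : Set G) := mem_normalizer_of_map_conj_eq hcD.symm
  refine ⟨g * c⁻¹, ?_, ?_⟩
  · have := Subgroup.inv_mem _ hm
    rwa [mul_inv_rev, inv_inv] at this
  · have hcx : c * x = x * c := Subgroup.mem_centralizer_singleton_iff.mp hc
    have hcx' : c⁻¹ * x * c = x := by
      rw [mul_assoc, ← hcx, ← mul_assoc, inv_mul_cancel, one_mul]
    rw [mul_inv_rev, inv_inv]
    calc g * c⁻¹ * x * (c * g⁻¹) = g * (c⁻¹ * x * c) * g⁻¹ := by group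
      _ = g * x * g⁻¹ := by rw [hcx']

/-- If `D` (as a subgroup of `N = N_G(D)`) is a Sylow `p`-subgroup of `C_N(l)`, then `D` is a
Sylow `p`-subgroup of `C_G(l)`. -/
theorem isSylowIn_centralizer_of_normalizer [Finite G] {p : ℕ} [Fact p.Prime] {D : Subgroup G}
    (hDp : IsPGroup p D) (l : Subgroup.normalizer (D : Set G))
    (hl : IsSylowIn p (Subgroup.centralizer ({l} : Set (Subgroup.normalizer (D : Set G))))
      (D.subgroupOf (Subgroup.normalizer (D : Set G)))) :
    IsSylowIn p (Subgroup.centralizer ({(l : G)} : Set G)) D := by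
  have hDl : D ≤ Subgroup.centralizer ({(l : G)} : Set G) := by
    intro d hd
    have h1 : (⟨d, Subgroup.le_normalizer hd⟩ : Subgroup.normalizer (D : Set G)) ∈
        D.subgroupOf (Subgroup.normalizer (D : Set G)) := Subgroup.mem_subgroupOf.mpr hd
    have h2 := Subgroup.mem_centralizer_singleton_iff.mp (hl.le h1)
    rw [Subgroup.mem_centralizer_singleton_iff]
    exact congrArg Subtype.val h2
  obtain ⟨S, hS, hDS⟩ := exists_isSylowIn_ge (Subgroup.centralizer ({(l : G)} : Set G)) hDp hDl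
  by_cases hne : D = S
  · exact hne ▸ hS
  exfalso
  have hSp : IsPGroup p S := hS.isPGroup
  have hnil : Group.IsNilpotent S := hSp.isNilpotent
  have hnc : NormalizerCondition S := Group.normalizerCondition_of_isNilpotent
  have hlt : D.subgroupOf S < ⊤ := by
    rw [lt_top_iff_ne_top, Ne, Subgroup.subgroupOf_eq_top]
    intro h
    exact hne (le_antisymm hDS h)
  obtain ⟨s, hs1, hs2⟩ := SetLike.exists_of_lt (hnc _ hlt)
  rw [← Subgroup.subgroupOf_normalizer_eq hDS, Subgroup.mem_subgroupOf] at hs1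
  rw [Subgroup.mem_subgroupOf] at hs2
  -- the subgroup `S ⊓ N` of `N`
  set T : Subgroup (Subgroup.normalizer (D : Set G)) :=
    (S ⊓ Subgroup.normalizer (D : Set G)).subgroupOf (Subgroup.normalizer (D : Set G)) with hT
  have hTp : IsPGroup p T := (hSp.to_le inf_le_left).comap_subtype
  have hTl : T ≤ Subgroup.centralizer ({l} : Set (Subgroup.normalizer (D : Set G))) := by
    intro t ht
    have h1 : (t : G) ∈ S := (Subgroup.mem_subgroupOf.mp ht).1
    have h2 := Subgroup.mem_centralizer_singleton_iff.mp (hS.le h1)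
    rw [Subgroup.mem_centralizer_singleton_iff]
    exact Subtype.ext h2
  have hDT : D.subgroupOf (Subgroup.normalizer (D : Set G)) ≤ T := by
    intro d hd
    have h1 : (d : G) ∈ D := Subgroup.mem_subgroupOf.mp hd
    exact Subgroup.mem_subgroupOf.mpr ⟨hDS h1, d.2⟩
  have hTD := hl.eq_of_le hTp hTl hDT
  have hsT : (⟨(s : G), hs1⟩ : Subgroup.normalizer (D : Set G)) ∈ T :=
    Subgroup.mem_subgroupOf.mpr ⟨s.2, hs1⟩
  rw [hTD] at hsT
  exact hs2 (Subgroup.mem_subgroupOf.mp hsT)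

/-- Cardinality form of `CentLE`. -/
theorem card_le_of_centLE [Finite G] {p : ℕ} [Fact p.Prime] {x y : G} (h : CentLE p x y)
    {Q Dy : Subgroup G} (hQ : IsPGroup p Q) (hQx : Q ≤ Subgroup.centralizer ({x} : Set G))
    (hDy : IsSylowIn p (Subgroup.centralizer ({y} : Set G)) Dy) : Nat.card Q ≤ Nat.card Dy := by
  obtain ⟨y', hy', hQy'⟩ := h Q hQ hQx
  obtain ⟨c, rfl⟩ := isConj_iff.mp hy'
  have h1 := map_conj_inv_le_centralizer hQy'
  have h2 := hDy.card_le (hQ.map _) h1
  rwa [Subgroup.card_map_of_injective (MulAut.conj c⁻¹).injective] at h2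

/-- Centralizing `D` inside a subgroup `H ≥ D`. -/
theorem mem_centralizer_subgroupOf_iff {D H : Subgroup G} (hDH : D ≤ H) (n : H) :
    n ∈ Subgroup.centralizer ((D.subgroupOf H : Subgroup H) : Set H) ↔
      (n : G) ∈ Subgroup.centralizer (D : Set G) := by
  rw [Subgroup.mem_centralizer_iff, Subgroup.mem_centralizer_iff]
  constructor
  · intro h d hd
    have h1 := h ⟨d, hDH hd⟩ (Subgroup.mem_subgroupOf.mpr hd)
    exact congrArg Subtype.val h1
  · intro h d hd
    exact Subtype.ext (h (d : G) (Subgroup.mem_subgroupOf.mp hd))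

/-- The centralizer of a normal subgroup is closed under conjugation. -/
theorem mem_centralizer_of_isConj_of_normal {Q : Subgroup G} [hQn : Q.Normal] {x y : G}
    (h : IsConj x y) (hx : x ∈ Subgroup.centralizer (Q : Set G)) :
    y ∈ Subgroup.centralizer (Q : Set G) := by
  obtain ⟨c, rfl⟩ := isConj_iff.mp h
  rw [Subgroup.mem_centralizer_iff] at hx ⊢
  intro q hq
  have h1 : c⁻¹ * q * c⁻¹⁻¹ ∈ Q := hQn.conj_mem q hq c⁻¹
  have h2 := hx _ h1
  rw [inv_inv] at h2
  calc q * (c * x * c⁻¹) = c * ((c⁻¹ * q * c) * x) * c⁻¹ := by group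
    _ = c * (x * (c⁻¹ * q * c)) * c⁻¹ := by rw [h2]
    _ = c * x * c⁻¹ * q := by group

end sylowIn

end Cfsg.Agent.Lib.Helper6
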