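/-
helper6: Brauer's first main theorem on blocks, in the central-character formulation of
`Cfsg.IsInducedBlock` / `Cfsg.IsDefectGroup`: for a `p`-subgroup `D` with normalizer `N`, block
induction is a bijection from blocks of `N` with defect group `D` to blocks of `G` with defect
group `D`.
-/
import Mathlib
import Cfsg.Agent.Lib.Helper6.SylowIn
import Cfsg.Agent.Lib.Helper6.NilIdem
import Cfsg.Agent.Lib.Helper6.InducedDefect
import Cfsg.Agent.Lib.Helper6.ClassSumOmega

set_option autoImplicit false

namespace Cfsg.Agent.Lib.Helper6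

open Cfsg Cfsg.Agent.CharLib Cfsg.Agent.Lib.Helper24
open scoped ComplexConjugate

universe u

section sameBlock

variable {X : Type u} [Group X] {M : Ideal AlgInt}

theorem sameBlock_refl [hp : M.IsPrime] (χ : X → ℂ) : SameBlock M χ χ := fun g => by
  rw [sub_self]
  exact memLocalIdeal_zero hp.one_notMem

theorem sameBlock_symm {χ ψ : X → ℂ} (h : SameBlock M χ ψ) : SameBlock M ψ χ := fun g => by
  have := memLocalIdeal_neg (h g)
  rwa [neg_sub] at this

theorem sameBlock_trans [hp : M.IsPrime] {χ ψ φ : X → ℂ} (h1 : SameBlock M χ ψ)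
    (h2 : SameBlock M ψ φ) : SameBlock M χ φ := fun g => by
  have := memLocalIdeal_add (h1 g) (h2 g)
  rwa [sub_add_sub_cancel] at this

theorem mem_blockOf_self [hp : M.IsPrime] (χ : IrrCharacter X) : χ ∈ blockOf M (χ : X → ℂ) :=
  sameBlock_refl _

/-- Two blocks with a common member coincide. -/
theorem isPBlock_eq_of_mem [hp : M.IsPrime] {B₁ B₂ : Set (IrrCharacter X)} (h1 : IsPBlock M B₁)
    (h2 : IsPBlock M B₂) {χ : IrrCharacter X} (hχ1 : χ ∈ B₁) (hχ2 : χ ∈ B₂) : B₁ = B₂ := by
  obtain ⟨χ₁, rfl⟩ := h1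
  obtain ⟨χ₂, rfl⟩ := h2
  ext ψ
  constructor
  · intro hψ
    exact sameBlock_trans hχ2 (sameBlock_trans (sameBlock_symm hχ1) hψ)
  · intro hψ
    exact sameBlock_trans hχ1 (sameBlock_trans (sameBlock_symm hχ2) hψ)

end sameBlock

section idem

variable {G : Type u} [Group G] [Fintype G]

/-- A class function is determined by its central character values. -/
theorem eq_of_omegaFun_eq {a b : G → ℂ} (ha : IsClassFunction G a) (hb : IsClassFunction G b)
    (h : ∀ χ : IrrCharacter G, omegaFun (χ : G → ℂ) a = omegaFun (χ : G → ℂ) b) : a = b := by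
  have hzero : a - b = 0 := by
    apply eq_zero_of_sum_mul_irr_eq_zero (IsClassFunction.sub ha hb)
    intro χ
    obtain ⟨d, hdpos, hd⟩ := IsIrrCharacter.apply_one_pos χ.2
    have hd0 : (χ : G → ℂ) 1 ≠ 0 := by rw [hd]; exact Nat.cast_ne_zero.mpr hdpos.ne'
    have h1 : omegaFun (χ : G → ℂ) (a - b) = 0 := by rw [omegaFun_sub, h χ, sub_self]
    unfold omegaFun at h1
    rw [div_eq_zero_iff] at h1
    rcases h1 with h1 | h1
    · exact h1
    · exact absurd h1 hd0
  exact sub_eq_zero.mp hzero

/-- The block "idempotent" is idempotent for convolution. -/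
theorem conv_blockCoeff_self (A : Set (IrrCharacter G)) :
    conv (blockCoeff A) (blockCoeff A) = blockCoeff A := by
  classical
  apply eq_of_omegaFun_eq (conv_isClassFunction (blockCoeff_isClassFunction A)
    (blockCoeff_isClassFunction A)) (blockCoeff_isClassFunction A)
  intro χ
  rw [omegaFun_conv χ (blockCoeff_isClassFunction A) (blockCoeff_isClassFunction A),
    omegaFun_blockCoeff]
  split_ifs <;> simp

end idem

section defectGroups

variable {X : Type u} [Group X] [Finite X] {M : Ideal AlgInt}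

/-- Any two defect groups of a block have the same order (one inequality; use it twice). -/
theorem card_le_of_isDefectGroup {p : ℕ} [hpp : Fact p.Prime] (hM : IsPModular p M)
    {B : Set (IrrCharacter X)} (hB : IsPBlock M B) {E₁ E₂ : Subgroup X}
    (h₁ : IsDefectGroup p M B E₁) (h₂ : IsDefectGroup p M B E₂) : Nat.card E₁ ≤ Nat.card E₂ := by
  classical
  let _ := Fintype.ofFinite X
  have hprime : M.IsPrime := isPrime_of_isPModular hM
  obtain ⟨χ₀, rfl⟩ := hB
  obtain ⟨x, hx, hxS⟩ := h₁
  obtain ⟨y, hy, hyS⟩ := h₂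
  have hxS' : IsSylowIn p (Subgroup.centralizer ({x} : Set X)) E₁ := hxS
  have hyS' : IsSylowIn p (Subgroup.centralizer ({y} : Set X)) E₂ := hyS
  have hcle : CentLE p x y :=
    centLE_of_blockCoeff hM χ₀ y (hy.2.2 χ₀ (mem_blockOf_self χ₀)) x hx.2.1
  exact card_le_of_centLE hcle hxS'.isPGroup hxS'.le hyS'

/-- A normal `p`-subgroup is contained in every defect group of every block. -/
theorem le_of_isDefectGroup_of_normal {p : ℕ} [hpp : Fact p.Prime] (hM : IsPModular p M)
    (Q : Subgroup X) (hQ : IsPGroup p Q) [hQn : Q.Normal] {B : Set (IrrCharacter X)}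
    (hB : IsPBlock M B) {E : Subgroup X} (hE : IsDefectGroup p M B E) : Q ≤ E := by
  have hprime : M.IsPrime := isPrime_of_isPModular hM
  obtain ⟨χ₀, rfl⟩ := hB
  obtain ⟨l, hl, P, rfl⟩ := hE
  have h1 : ¬ MemLocalIdeal M (centralChar (χ₀ : X → ℂ) l) := hl.2.2 χ₀ (mem_blockOf_self χ₀)
  have h2 : l ∈ Subgroup.centralizer (Q : Set X) := by
    by_contra hcon
    apply h1
    apply memLocalIdeal_centralChar_of_not_centralizes hM Q hQ l _ χ₀
    intro x hx hxQ
    exact hcon (mem_centralizer_of_isConj_of_normal hx.symm hxQ)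
  have h3 : Q ≤ Subgroup.centralizer ({l} : Set X) := by
    intro q hq
    rw [Subgroup.mem_centralizer_singleton_iff]
    exact Subgroup.mem_centralizer_iff.mp h2 q hq
  have h4 : (Q.subgroupOf (Subgroup.centralizer ({l} : Set X))).Normal :=
    Subgroup.normal_subgroupOf
  have h4' : IsPGroup p (Q.subgroupOf (Subgroup.centralizer ({l} : Set X))) := hQ.comap_subtype
  have h5 := IsPGroup.le_sylow_of_normal h4' P
  intro q hq
  exact ⟨⟨q, h3 hq⟩, h5 (Subgroup.mem_subgroupOf.mpr hq), rfl⟩

end defectGroups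

section firstMain

variable {G : Type u} [Group G] {M : Ideal AlgInt}

/-- Classes of `N = N_G(D)` whose centralizer in `N` has Sylow `p`-subgroup `D`: the part of the
`G`-class inside `C_G(D)` is a single `N`-class. -/
theorem isConj_iff_of_sylow [Finite G] {p : ℕ} [Fact p.Prime] {D : Subgroup G}
    (hDp : IsPGroup p D) (l : Subgroup.normalizer (D : Set G))
    (hl : IsSylowIn p (Subgroup.centralizer ({l} : Set (Subgroup.normalizer (D : Set G))))
      (D.subgroupOf (Subgroup.normalizer (D : Set G))))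
    (h : Subgroup.normalizer (D : Set G)) :
    IsConj l h ↔ IsConj (l : G) (h : G) ∧ (h : G) ∈ Subgroup.centralizer (D : Set G) := by
  have hlD : (l : G) ∈ Subgroup.centralizer (D : Set G) := by
    rw [Subgroup.mem_centralizer_iff]
    intro d hd
    have h1 : (⟨d, Subgroup.le_normalizer hd⟩ : Subgroup.normalizer (D : Set G)) ∈
        D.subgroupOf (Subgroup.normalizer (D : Set G)) := Subgroup.mem_subgroupOf.mpr hd
    have h2 := Subgroup.mem_centralizer_singleton_iff.mp (hl.le h1)
    exact congrArg Subtype.val h2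
  constructor
  · intro hc
    obtain ⟨n, hn⟩ := isConj_iff.mp hc
    refine ⟨isConj_iff.mpr ⟨(n : G), by rw [← hn]; simp⟩, ?_⟩
    rw [← hn]
    have : ((n * l * n⁻¹ : Subgroup.normalizer (D : Set G)) : G) = (n : G) * (l : G) * (n : G)⁻¹ := by
      simp
    rw [this]
    exact (conj_mem_centralizer_iff n.2 (l : G)).mpr hlD
  · rintro ⟨hc, hh⟩
    obtain ⟨g, hg⟩ := isConj_iff.mp hc
    have hDy : D ≤ Subgroup.centralizer ({g * (l : G) * g⁻¹} : Set G) := by
      rw [hg]
      intro d hd
      rw [Subgroup.mem_centralizer_singleton_iff]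
      exact Subgroup.mem_centralizer_iff.mp hh d hd
    obtain ⟨n, hn, hnx⟩ := exists_mem_normalizer_conj
      (isSylowIn_centralizer_of_normalizer hDp l hl) hDy
    refine isConj_iff.mpr ⟨⟨n, hn⟩, Subtype.ext ?_⟩
    simp only [Subgroup.coe_mul, Subgroup.coe_inv]
    rw [hnx, hg]

variable [Fintype G]

/-- For such a class, the Brauer central character is the central character of `N`. -/
theorem brauerCentralChar_eq_centralChar_of_sylow {p : ℕ} [Fact p.Prime] {D : Subgroup G}
    [Fintype (Subgroup.normalizer (D : Set G))]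
    (hDp : IsPGroup p D) (l : Subgroup.normalizer (D : Set G))
    (hl : IsSylowIn p (Subgroup.centralizer ({l} : Set (Subgroup.normalizer (D : Set G))))
      (D.subgroupOf (Subgroup.normalizer (D : Set G))))
    (ξ : IrrCharacter (Subgroup.normalizer (D : Set G))) :
    brauerCentralChar D (Subgroup.normalizer (D : Set G))
      (ξ : Subgroup.normalizer (D : Set G) → ℂ) (l : G) =
      centralChar (ξ : Subgroup.normalizer (D : Set G) → ℂ) l := by
  classical
  rw [brauerCentralChar_eq_omegaFun, ← omegaFun_classInd]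
  congr 1
  funext h
  by_cases hh : (h : G) ∈ Subgroup.centralizer (D : Set G)
  · rw [brFun_of_mem D _ _ hh]
    unfold classInd
    by_cases hc : IsConj l h
    · rw [if_pos hc, if_pos ((isConj_iff_of_sylow hDp l hl h).mp hc).1]
    · rw [if_neg hc, if_neg]
      intro hc'
      exact hc ((isConj_iff_of_sylow hDp l hl h).mpr ⟨hc', hh⟩)
  · rw [brFun_of_not_mem D _ _ hh]
    unfold classInd
    rw [if_neg]
    intro hc
    exact hh ((isConj_iff_of_sylow hDp l hl h).mp hc).2

/-- For such a class and an induced block, the central characters of `N` and `G` agree modulo the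
local ideal. -/
theorem memLocalIdeal_centralChar_sub_of_sylow {p : ℕ} [hpp : Fact p.Prime] (hM : IsPModular p M)
    {D : Subgroup G} [Fintype (Subgroup.normalizer (D : Set G))]
    (hDp : IsPGroup p D) (l : Subgroup.normalizer (D : Set G))
    (hl : IsSylowIn p (Subgroup.centralizer ({l} : Set (Subgroup.normalizer (D : Set G))))
      (D.subgroupOf (Subgroup.normalizer (D : Set G))))
    {b : Set (IrrCharacter (Subgroup.normalizer (D : Set G)))} {B : Set (IrrCharacter G)}
    (hind : IsInducedBlock M (Subgroup.normalizer (D : Set G)) b B)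
    {ξ : IrrCharacter (Subgroup.normalizer (D : Set G))} (hξ : ξ ∈ b)
    {χ : IrrCharacter G} (hχ : χ ∈ B) :
    MemLocalIdeal M (centralChar (ξ : Subgroup.normalizer (D : Set G) → ℂ) l -
      centralChar (χ : G → ℂ) (l : G)) := by
  have hprime : M.IsPrime := isPrime_of_isPModular hM
  have e1 := brauerCentralChar_eq_centralChar_of_sylow hDp l hl ξ
  have e2 := memLocalIdeal_inducedCentralChar_sub_brauerCentralChar hM D
    (Subgroup.normalizer (D : Set G)) hDp Subgroup.le_normalizer le_rfl ξ (l : G)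
  have e3 := hind.2.2 ξ hξ χ hχ (l : G)
  rw [← e1]
  have h1 := memLocalIdeal_sub e3 e2
  have h2 : inducedCentralChar (Subgroup.normalizer (D : Set G))
      (ξ : Subgroup.normalizer (D : Set G) → ℂ) (l : G) - centralChar (χ : G → ℂ) (l : G) -
      (inducedCentralChar (Subgroup.normalizer (D : Set G))
        (ξ : Subgroup.normalizer (D : Set G) → ℂ) (l : G) -
        brauerCentralChar D (Subgroup.normalizer (D : Set G))
          (ξ : Subgroup.normalizer (D : Set G) → ℂ) (l : G)) =
      brauerCentralChar D (Subgroup.normalizer (D : Set G))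
          (ξ : Subgroup.normalizer (D : Set G) → ℂ) (l : G) - centralChar (χ : G → ℂ) (l : G) := by
    ring
  rwa [h2] at h1

end firstMain

section firstMainThm

variable {G : Type u} [Group G] [Finite G] {M : Ideal AlgInt}

/-- **First main theorem, part (i)**: if the block `b` of `N = N_G(D)` has defect group `D` and
induces `B`, then `B` has defect group `D`. -/
theorem isDefectGroup_of_induced_normalizer {p : ℕ} [hpp : Fact p.Prime] (hM : IsPModular p M)
    (D : Subgroup G) (hD : IsPGroup p D)
    (b : Set (IrrCharacter (Subgroup.normalizer (D : Set G)))) (B : Set (IrrCharacter G))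
    (hind : IsInducedBlock M (Subgroup.normalizer (D : Set G)) b B)
    (hbD : IsDefectGroup p M b (D.subgroupOf (Subgroup.normalizer (D : Set G)))) :
    IsDefectGroup p M B D := by
  classical
  let _ := Fintype.ofFinite G
  let _ := Fintype.ofFinite (Subgroup.normalizer (D : Set G))
  have hprime : M.IsPrime := isPrime_of_isPModular hM
  obtain ⟨E, hE, hDE⟩ := exists_defectGroup_ge_of_induced hM _ b B hind _ hbD
  rw [Subgroup.map_subgroupOf_eq_of_le Subgroup.le_normalizer] at hDE
  suffices hDE' : D = E from hDE' ▸ hE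
  obtain ⟨l, hl, hlS⟩ := hbD
  have hlS' : IsSylowIn p (Subgroup.centralizer ({l} : Set (Subgroup.normalizer (D : Set G))))
      (D.subgroupOf (Subgroup.normalizer (D : Set G))) := hlS
  have hDG : IsSylowIn p (Subgroup.centralizer ({(l : G)} : Set G)) D :=
    isSylowIn_centralizer_of_normalizer hD l hlS'
  obtain ⟨ξ₀, hb⟩ := hind.1
  obtain ⟨χ₀, hB⟩ := hind.2.1
  have hξ₀ : ξ₀ ∈ b := by rw [hb]; exact mem_blockOf_self ξ₀
  have hχ₀ : χ₀ ∈ B := by rw [hB]; exact mem_blockOf_self χ₀
  have h1 : ¬ MemLocalIdeal M (centralChar (χ₀ : G → ℂ) (l : G)) := by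
    intro hc
    apply hl.2.2 ξ₀ hξ₀
    have h2 := memLocalIdeal_centralChar_sub_of_sylow hM hD l hlS' hind hξ₀ hχ₀
    have h3 := memLocalIdeal_add h2 hc
    rwa [sub_add_cancel] at h3
  obtain ⟨y, hy, hyS⟩ := hE
  have hyS' : IsSylowIn p (Subgroup.centralizer ({y} : Set G)) E := hyS
  rw [hB] at hy
  have hcle : CentLE p y (l : G) := centLE_of_blockCoeff hM χ₀ (l : G) h1 y hy.2.1
  have hcard : Nat.card E ≤ Nat.card D := card_le_of_centLE hcle hyS'.isPGroup hyS'.le hDG
  exact Subgroup.eq_of_le_of_card_ge hDE hcard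

/-- **First main theorem, part (ii), existence**: a block `B` of `G` with defect group `D` is
induced from a block of `N = N_G(D)` with defect group `D`. -/
theorem exists_block_normalizer {p : ℕ} [hpp : Fact p.Prime] (hM : IsPModular p M)
    (D : Subgroup G) (hD : IsPGroup p D) (B : Set (IrrCharacter G)) (hB : IsPBlock M B)
    (hBD : IsDefectGroup p M B D) :
    ∃ b : Set (IrrCharacter (Subgroup.normalizer (D : Set G))), IsPBlock M b ∧
      IsDefectGroup p M b (D.subgroupOf (Subgroup.normalizer (D : Set G))) ∧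
      IsInducedBlock M (Subgroup.normalizer (D : Set G)) b B := by
  classical
  let _ := Fintype.ofFinite G
  let _ := Fintype.ofFinite (Subgroup.normalizer (D : Set G))
  have hprime : M.IsPrime := isPrime_of_isPModular hM
  have hBD' := hBD
  obtain ⟨χ₀, rfl⟩ := hB
  obtain ⟨x, hx, hxS⟩ := hBD
  have hxS' : IsSylowIn p (Subgroup.centralizer ({x} : Set G)) D := hxS
  have hxD : x ∈ Subgroup.centralizer (D : Set G) := by
    rw [Subgroup.mem_centralizer_iff]
    intro d hd
    exact Subgroup.mem_centralizer_singleton_iff.mp (hxS'.le hd)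
  have hxN : x ∈ Subgroup.normalizer (D : Set G) := Subgroup.centralizer_le_normalizer _ hxD
  have heC : IsClassFunction G (blockCoeff (blockOf M (χ₀ : G → ℂ))) :=
    blockCoeff_isClassFunction _
  have heR : ∀ g, MemLocalRing M (blockCoeff (blockOf M (χ₀ : G → ℂ)) g) :=
    memLocalRing_blockCoeff_blockOf χ₀
  have hβC : IsClassFunction (Subgroup.normalizer (D : Set G))
      (brFun D (Subgroup.normalizer (D : Set G)) (blockCoeff (blockOf M (χ₀ : G → ℂ)))) :=
    brFun_isClassFunction D _ le_rfl heC
  have hβR : ∀ h, MemLocalRing M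
      (brFun D (Subgroup.normalizer (D : Set G)) (blockCoeff (blockOf M (χ₀ : G → ℂ))) h) :=
    brFun_memLocalRing D _ heR
  have hidem : ∀ h, MemLocalIdeal M
      (conv (brFun D (Subgroup.normalizer (D : Set G)) (blockCoeff (blockOf M (χ₀ : G → ℂ))))
        (brFun D (Subgroup.normalizer (D : Set G)) (blockCoeff (blockOf M (χ₀ : G → ℂ)))) h -
        brFun D (Subgroup.normalizer (D : Set G)) (blockCoeff (blockOf M (χ₀ : G → ℂ))) h) := by
    intro h
    have h1 := brFun_conv_sub D (Subgroup.normalizer (D : Set G)) hM hD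
      (Subgroup.centralizer_le_normalizer _) heC heR heC heR h
    rw [conv_blockCoeff_self] at h1
    have := memLocalIdeal_neg h1
    rwa [neg_sub] at this
  have hβx : ¬ MemLocalIdeal M
      (brFun D (Subgroup.normalizer (D : Set G)) (blockCoeff (blockOf M (χ₀ : G → ℂ)))
        ⟨x, hxN⟩) := by
    rw [brFun_of_mem D _ _ (h := ⟨x, hxN⟩) hxD]
    exact hx.2.1
  obtain ⟨ξ, hξ⟩ : ∃ ξ : IrrCharacter (Subgroup.normalizer (D : Set G)), ¬ MemLocalIdeal M
      (omegaFun (ξ : Subgroup.normalizer (D : Set G) → ℂ)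
        (brFun D (Subgroup.normalizer (D : Set G)) (blockCoeff (blockOf M (χ₀ : G → ℂ))))) := by
    by_contra hcon
    push Not at hcon
    exact hβx (memLocalIdeal_of_idempotent hβC hβR hidem hcon _)
  have h2 : ¬ MemLocalIdeal M (omegaFun (ξ : Subgroup.normalizer (D : Set G) → ℂ)
      (resFun (Subgroup.normalizer (D : Set G)) (blockCoeff (blockOf M (χ₀ : G → ℂ))))) := by
    intro hc
    have h3 := memLocalIdeal_omegaFun_resFun_sub_brFun D (Subgroup.normalizer (D : Set G)) hM hD
      Subgroup.le_normalizer le_rfl heC heR ξ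
    have h4 := memLocalIdeal_sub hc h3
    rw [sub_sub_cancel] at h4
    exact hξ h4
  obtain ⟨B₁, hind⟩ := inducedBlockDefined_of_le_normalizer hM D (Subgroup.normalizer (D : Set G))
    hD Subgroup.le_normalizer (Subgroup.centralizer_le_normalizer _) le_rfl
    (blockOf M (ξ : Subgroup.normalizer (D : Set G) → ℂ)) ⟨ξ, rfl⟩
  have hξb : ξ ∈ blockOf M (ξ : Subgroup.normalizer (D : Set G) → ℂ) := mem_blockOf_self ξ
  obtain ⟨χ₁, hB₁⟩ := hind.2.1
  have hχ₁ : χ₁ ∈ B₁ := by rw [hB₁]; exact mem_blockOf_self χ₁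
  have h4 := memLocalIdeal_omegaFun_resFun_sub_of_induced (Subgroup.normalizer (D : Set G)) hind
    hξb hχ₁ heC heR
  have hχ₁B : χ₁ ∈ blockOf M (χ₀ : G → ℂ) := by
    by_contra hcon
    rw [omegaFun_blockCoeff, if_neg hcon, sub_zero] at h4
    exact h2 h4
  have hBB : B₁ = blockOf M (χ₀ : G → ℂ) := isPBlock_eq_of_mem hind.2.1 ⟨χ₀, rfl⟩ hχ₁ hχ₁B
  rw [hBB] at hind
  refine ⟨blockOf M (ξ : Subgroup.normalizer (D : Set G) → ℂ), ⟨ξ, rfl⟩, ?_, hind⟩
  -- the defect group
  obtain ⟨l, hl⟩ := Cfsg.Agent.S0906.result p M hM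
    (blockOf M (ξ : Subgroup.normalizer (D : Set G) → ℂ)) ⟨ξ, rfl⟩
  obtain ⟨P⟩ : Nonempty (Sylow p (Subgroup.centralizer
    ({l} : Set (Subgroup.normalizer (D : Set G))))) := inferInstance
  have hQ : IsDefectGroup p M (blockOf M (ξ : Subgroup.normalizer (D : Set G) → ℂ))
      ((P : Subgroup (Subgroup.centralizer ({l} : Set (Subgroup.normalizer (D : Set G))))).map
        (Subgroup.centralizer ({l} : Set (Subgroup.normalizer (D : Set G)))).subtype) :=
    ⟨l, hl, P, rfl⟩
  have hnorm : (D.subgroupOf (Subgroup.normalizer (D : Set G))).Normal :=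
    Subgroup.normal_in_normalizer
  have hD'p : IsPGroup p (D.subgroupOf (Subgroup.normalizer (D : Set G))) := hD.comap_subtype
  have hD'Q := le_of_isDefectGroup_of_normal hM (D.subgroupOf (Subgroup.normalizer (D : Set G)))
    hD'p ⟨ξ, rfl⟩ hQ
  obtain ⟨E, hE, hQE⟩ := exists_defectGroup_ge_of_induced hM (Subgroup.normalizer (D : Set G)) _ _
    hind _ hQ
  have hED : Nat.card E ≤ Nat.card D := card_le_of_isDefectGroup hM ⟨χ₀, rfl⟩ hE hBD'
  have hcard : Nat.card ((P : Subgroup (Subgroup.centralizer
      ({l} : Set (Subgroup.normalizer (D : Set G))))).map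
        (Subgroup.centralizer ({l} : Set (Subgroup.normalizer (D : Set G)))).subtype) ≤
      Nat.card (D.subgroupOf (Subgroup.normalizer (D : Set G))) := by
    have h5 := Subgroup.card_le_of_le hQE
    rw [Subgroup.card_map_of_injective (Subgroup.subtype_injective _)] at h5
    have h6 : Nat.card (D.subgroupOf (Subgroup.normalizer (D : Set G))) = Nat.card D := by
      rw [← Subgroup.card_map_of_injective (Subgroup.subtype_injective
        (Subgroup.normalizer (D : Set G))), Subgroup.map_subgroupOf_eq_of_le Subgroup.le_normalizer]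
    rw [h6]
    exact h5.trans hED
  have hfin := Subgroup.eq_of_le_of_card_ge hD'Q hcard
  exact hfin ▸ hQ

/-- **First main theorem, part (ii), uniqueness**: two blocks of `N = N_G(D)` with defect group
`D` inducing the same block of `G` coincide. -/
theorem block_normalizer_unique {p : ℕ} [hpp : Fact p.Prime] (hM : IsPModular p M)
    (D : Subgroup G) (hD : IsPGroup p D) (B : Set (IrrCharacter G))
    (b₁ b₂ : Set (IrrCharacter (Subgroup.normalizer (D : Set G))))
    (h₁ : IsInducedBlock M (Subgroup.normalizer (D : Set G)) b₁ B)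
    (h₂ : IsInducedBlock M (Subgroup.normalizer (D : Set G)) b₂ B)
    (hd₂ : IsDefectGroup p M b₂ (D.subgroupOf (Subgroup.normalizer (D : Set G)))) :
    b₁ = b₂ := by
  classical
  let _ := Fintype.ofFinite G
  let _ := Fintype.ofFinite (Subgroup.normalizer (D : Set G))
  let _ : Fintype (ConjClasses (Subgroup.normalizer (D : Set G))) := Fintype.ofFinite _
  have hprime : M.IsPrime := isPrime_of_isPModular hM
  obtain ⟨ξ₁, hb₁⟩ := h₁.1
  obtain ⟨ξ₂, hb₂⟩ := h₂.1
  obtain ⟨χ₀, hB⟩ := h₁.2.1
  have hξ₁ : ξ₁ ∈ b₁ := by rw [hb₁]; exact mem_blockOf_self ξ₁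
  have hξ₂ : ξ₂ ∈ b₂ := by rw [hb₂]; exact mem_blockOf_self ξ₂
  have hχ₀ : χ₀ ∈ B := by rw [hB]; exact mem_blockOf_self χ₀
  have hnorm : (D.subgroupOf (Subgroup.normalizer (D : Set G))).Normal :=
    Subgroup.normal_in_normalizer
  have hD'p : IsPGroup p (D.subgroupOf (Subgroup.normalizer (D : Set G))) := hD.comap_subtype
  have heC : IsClassFunction (Subgroup.normalizer (D : Set G)) (blockCoeff b₂) :=
    blockCoeff_isClassFunction _
  have heR : ∀ g, MemLocalRing M (blockCoeff b₂ g) := by
    rw [hb₂]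
    exact memLocalRing_blockCoeff_blockOf ξ₂
  obtain ⟨l₂, hl₂, hl₂S⟩ := hd₂
  have hl₂S' : IsSylowIn p (Subgroup.centralizer ({l₂} : Set (Subgroup.normalizer (D : Set G))))
      (D.subgroupOf (Subgroup.normalizer (D : Set G))) := hl₂S
  -- the key congruence
  have key : MemLocalIdeal M (omegaFun (ξ₁ : Subgroup.normalizer (D : Set G) → ℂ) (blockCoeff b₂) -
      omegaFun (ξ₂ : Subgroup.normalizer (D : Set G) → ℂ) (blockCoeff b₂)) := by
    rw [omegaFun_eq_sum_conjClasses ξ₁ heC, omegaFun_eq_sum_conjClasses ξ₂ heC,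
      ← Finset.sum_sub_distrib]
    apply sum_memLocalIdeal
    intro C _
    rw [← mul_sub]
    set c := Quotient.out C with hc
    by_cases hc1 : MemLocalIdeal M (blockCoeff b₂ c)
    · exact memLocalIdeal_mul_right hc1
        (memLocalRing_sub (memLocalRing_centralChar ξ₁ c) (memLocalRing_centralChar ξ₂ c))
    apply memLocalIdeal_mul_left (heR c)
    by_cases hc2 : (c : G) ∈ Subgroup.centralizer (D : Set G)
    · -- `D` is a Sylow subgroup of `C_N(c)`
      have hc2' : c ∈ Subgroup.centralizer
          ((D.subgroupOf (Subgroup.normalizer (D : Set G)) :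
            Subgroup (Subgroup.normalizer (D : Set G))) : Set (Subgroup.normalizer (D : Set G))) :=
        (mem_centralizer_subgroupOf_iff Subgroup.le_normalizer c).mpr hc2
      have hD'c : D.subgroupOf (Subgroup.normalizer (D : Set G)) ≤
          Subgroup.centralizer ({c} : Set (Subgroup.normalizer (D : Set G))) := by
        intro q hq
        rw [Subgroup.mem_centralizer_singleton_iff]
        exact Subgroup.mem_centralizer_iff.mp hc2' q hq
      obtain ⟨S, hS, hD'S⟩ := exists_isSylowIn_ge
        (Subgroup.centralizer ({c} : Set (Subgroup.normalizer (D : Set G)))) hD'p hD'c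
      have hcle : CentLE p c l₂ := by
        have hc1' := hc1
        rw [hb₂] at hc1' hl₂
        exact centLE_of_blockCoeff hM ξ₂ l₂ (hl₂.2.2 ξ₂ (mem_blockOf_self ξ₂)) c hc1'
      have hcard := card_le_of_centLE hcle hS.isPGroup hS.le hl₂S'
      have hSD := Subgroup.eq_of_le_of_card_ge hD'S hcard
      have hcS : IsSylowIn p (Subgroup.centralizer ({c} : Set (Subgroup.normalizer (D : Set G))))
          (D.subgroupOf (Subgroup.normalizer (D : Set G))) := hSD ▸ hS
      have e1 := memLocalIdeal_centralChar_sub_of_sylow hM hD c hcS h₁ hξ₁ hχ₀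
      have e2 := memLocalIdeal_centralChar_sub_of_sylow hM hD c hcS h₂ hξ₂ hχ₀
      have e3 := memLocalIdeal_sub e1 e2
      rwa [sub_sub_sub_cancel_right] at e3
    · have hg : ∀ x : Subgroup.normalizer (D : Set G), IsConj c x → x ∉ Subgroup.centralizer
          ((D.subgroupOf (Subgroup.normalizer (D : Set G)) :
            Subgroup (Subgroup.normalizer (D : Set G))) : Set (Subgroup.normalizer (D : Set G))) := by
        intro x hx hxD
        apply hc2
        exact (mem_centralizer_subgroupOf_iff Subgroup.le_normalizer c).mp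
          (mem_centralizer_of_isConj_of_normal hx.symm hxD)
      exact memLocalIdeal_sub
        (memLocalIdeal_centralChar_of_not_centralizes hM _ hD'p c hg ξ₁)
        (memLocalIdeal_centralChar_of_not_centralizes hM _ hD'p c hg ξ₂)
  have hξ₁b₂ : ξ₁ ∈ b₂ := by
    by_contra hcon
    rw [omegaFun_blockCoeff, omegaFun_blockCoeff, if_neg hcon, if_pos hξ₂, zero_sub] at key
    have := memLocalIdeal_neg key
    rw [neg_neg] at this
    exact not_memLocalIdeal_one this
  exact isPBlock_eq_of_mem h₁.1 h₂.1 hξ₁ hξ₁b₂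

end firstMainThm

end Cfsg.Agent.Lib.Helper6
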