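import Mathlib

set_option autoImplicit false

namespace Cfsg.Agent.Lib.Helper6

section orbitSum

open MulAction

/-- Invariance under a permutation gives invariance under its integer powers. -/
theorem apply_zpow_eq_of_invariant {α β : Type*} (σ : Equiv.Perm α) (F : α → β)
    (hF : ∀ w, F (σ w) = F w) (i : ℤ) (w : α) : F ((σ ^ i) w) = F w := by
  have hnat : ∀ (k : ℕ) (w : α), F ((σ ^ k) w) = F w := by
    intro k
    induction k with
    | zero => intro w; simp
    | succ k ih =>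
      intro w
      rw [pow_succ', Equiv.Perm.mul_apply, hF, ih]
  rcases Int.eq_nat_or_neg i with ⟨k, rfl | rfl⟩
  · rw [zpow_natCast]; exact hnat k w
  · rw [zpow_neg, zpow_natCast]
    have := hnat k ((σ ^ k)⁻¹ w)
    rw [← Equiv.Perm.mul_apply, mul_inv_cancel, Equiv.Perm.one_apply] at this
    exact this.symm

/-- **Orbit counting with `p`-power divisibility.** If `σ` has `p`-power order, `F` is `σ`-invariant
and vanishes at the points fixed by `σ ^ (p ^ j)`, then `∑ F` is `p ^ (j + 1)` times an element of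
the additive subgroup containing the values of `F`. -/
theorem sum_mem_pow_mul_of_perm {α : Type*} [Fintype α] (p : ℕ) [hp : Fact p.Prime] (n j : ℕ)
    (σ : Equiv.Perm α) (hσ : σ ^ (p ^ n) = 1) (S : AddSubgroup ℂ) (F : α → ℂ)
    (hFS : ∀ w, F w ∈ S) (hF : ∀ w, F (σ w) = F w)
    (hfix : ∀ w, (σ ^ (p ^ j)) w = w → F w = 0) :
    ∃ t ∈ S, ∑ w, F w = (p : ℂ) ^ (j + 1) * t := by
  classical
  let Γ := Subgroup.zpowers σ
  let Ω := MulAction.orbitRel.Quotient Γ α
  let _ : Fintype Ω := Fintype.ofFinite _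
  let T : AddSubgroup ℂ := S.map (AddMonoidHom.mulLeft ((p : ℂ) ^ (j + 1)))
  suffices hT : ∑ w, F w ∈ T by
    obtain ⟨t, ht, hte⟩ := hT
    exact ⟨t, ht, hte.symm⟩
  have h1 : ∑ w, F w = ∑ x : (Σ ω : Ω, orbit Γ (Quotient.out ω)), F (x.2 : α) := by
    apply Fintype.sum_equiv (MulAction.selfEquivSigmaOrbits Γ α)
    intro w
    rfl
  rw [h1, Fintype.sum_sigma]
  apply AddSubgroup.sum_mem
  intro ω _
  set w₀ : α := Quotient.out ω with hw₀
  have h2 : ∀ y : orbit Γ w₀, F (y : α) = F w₀ := by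
    rintro ⟨y, γ, rfl⟩
    obtain ⟨i, hi⟩ := γ.2
    change F ((γ : Equiv.Perm α) w₀) = F w₀
    rw [← hi]
    exact apply_zpow_eq_of_invariant σ F hF i w₀
  rw [Finset.sum_congr rfl (fun y _ => h2 y), Finset.sum_const, Finset.card_univ, nsmul_eq_mul]
  by_cases h0 : F w₀ = 0
  · rw [h0, mul_zero]; exact T.zero_mem
  have hcard : Fintype.card (orbit Γ w₀) = Function.minimalPeriod (σ • ·) w₀ :=
    (MulAction.minimalPeriod_eq_card (a := σ) (b := w₀)).symm
  have hper : Function.IsPeriodicPt (σ • ·) (p ^ n) w₀ := by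
    unfold Function.IsPeriodicPt Function.IsFixedPt
    rw [smul_iterate, hσ]
    exact one_smul _ _
  obtain ⟨i, hi, hdi⟩ := (Nat.dvd_prime_pow hp.out).mp hper.minimalPeriod_dvd
  have hij : j + 1 ≤ i := by
    by_contra hcon
    push Not at hcon
    apply h0
    apply hfix
    have h3 : Function.minimalPeriod (σ • ·) w₀ ∣ p ^ j := by
      rw [hdi]
      exact pow_dvd_pow p (by omega)
    have h4 := (Function.isPeriodicPt_iff_minimalPeriod_dvd).mpr h3
    unfold Function.IsPeriodicPt Function.IsFixedPt at h4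
    rw [smul_iterate] at h4
    exact h4
  rw [hcard, hdi]
  refine ⟨((p ^ (i - (j + 1)) : ℕ) : ℂ) * F w₀, ?_, ?_⟩
  · rw [← nsmul_eq_mul]
    exact S.nsmul_mem (hFS w₀) _
  · change (p : ℂ) ^ (j + 1) * (((p ^ (i - (j + 1)) : ℕ) : ℂ) * F w₀) = _
    have : i = (j + 1) + (i - (j + 1)) := by omega
    conv_rhs => rw [this]
    push_cast
    ring

end orbitSum

end Cfsg.Agent.Lib.Helper6
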