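import Mathlib
import Cfsg.Agent.Lib.Helper24.LocalRing
import Cfsg.Prelude.Def_Blocks

set_option autoImplicit false

namespace Cfsg.Agent.Lib.Helper6

open Cfsg Cfsg.Agent.Lib.Helper24 Polynomial

section padic

variable {M : Ideal AlgInt}

/-- A nonzero algebraic integer divides a nonzero natural number in the ring of algebraic
integers. -/
theorem exists_mul_eq_natCast {a : AlgInt} (ha : a ≠ 0) :
    ∃ (u : AlgInt) (C : ℕ), C ≠ 0 ∧ a * u = (C : AlgInt) := by
  have hint : IsIntegral ℤ (a : ℂ) := a.2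
  have ha' : (a : ℂ) ≠ 0 := fun h => ha (Subtype.ext h)
  have hQ : (minpoly ℚ (a : ℂ)).coeff 0 ≠ 0 :=
    minpoly.coeff_zero_ne_zero (hint.tower_top) ha'
  have hmap := minpoly.isIntegrallyClosed_eq_field_fractions' ℚ hint
  rw [hmap, coeff_map] at hQ
  have hc : (minpoly ℤ (a : ℂ)).coeff 0 ≠ 0 := by
    intro h
    rw [h] at hQ
    simp at hQ
  set P := minpoly ℤ (a : ℂ) with hP
  have h0 : aeval (a : ℂ) P = 0 := minpoly.aeval ℤ (a : ℂ)
  rw [← divX_mul_X_add P, map_add, map_mul, aeval_X, aeval_C] at h0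
  set c := P.coeff 0 with hcdef
  have h1 : aeval (a : ℂ) P.divX = ((aeval a P.divX : AlgInt) : ℂ) := Subalgebra.aeval_coe _ a _
  refine ⟨-(aeval a P.divX) * (c : AlgInt), c.natAbs * c.natAbs, ?_, ?_⟩
  · exact Nat.mul_ne_zero (Int.natAbs_ne_zero.mpr hc) (Int.natAbs_ne_zero.mpr hc)
  · apply Subtype.ext
    have h2 : (c.natAbs : ℂ) * (c.natAbs : ℂ) = (c : ℂ) * (c : ℂ) := by
      have := Int.natAbs_mul_self' c
      have h3 := congrArg (fun z : ℤ => (z : ℂ)) this
      simp only [Int.cast_mul, Int.cast_natCast] at h3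
      exact h3
    have h4 : (aeval (a : ℂ) P.divX) * (a : ℂ) = -(c : ℂ) := by
      have : (algebraMap ℤ ℂ) c = (c : ℂ) := rfl
      rw [this] at h0
      linear_combination h0
    push_cast
    rw [h2]
    linear_combination (-(c : ℂ)) * h4

/-- An element of the local ring divisible by every power of `p` is zero. -/
theorem eq_zero_of_forall_pow_mul {p : ℕ} [hpp : Fact p.Prime] (hM : IsPModular p M) {t : ℂ}
    (h : ∀ k : ℕ, ∃ s : ℂ, MemLocalRing M s ∧ t = (p : ℂ) ^ k * s) : t = 0 := by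
  have hprime : M.IsPrime := isPrime_of_isPModular hM
  by_contra ht
  obtain ⟨s₀, ⟨a, b, hb, hab⟩, hs₀⟩ := h 0
  rw [pow_zero, one_mul] at hs₀
  have hb0 := coe_ne_zero_of_not_mem hb
  have ha : a ≠ 0 := by
    intro h0
    apply ht
    rw [hs₀, ← hab, h0]
    simp
  obtain ⟨u, C, hC, hau⟩ := exists_mul_eq_natCast ha
  obtain ⟨j, C', hC', hCeq⟩ := Nat.exists_eq_pow_mul_and_not_dvd hC p hpp.out.ne_one
  obtain ⟨s, ⟨a', b', hb', hab'⟩, hs⟩ := h (j + 1)
  have hb0' := coe_ne_zero_of_not_mem hb'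
  -- a * b' = p^(j+1) * a' * b
  have h1 : (a : ℂ) * (b' : ℂ) = (p : ℂ) ^ (j + 1) * (a' : ℂ) * (b : ℂ) := by
    have h2 : (a : ℂ) / (b : ℂ) = (p : ℂ) ^ (j + 1) * ((a' : ℂ) / (b' : ℂ)) := by
      rw [hab, hab', ← hs₀, hs]
    field_simp at h2
    linear_combination h2
  have h3 : ((C' : AlgInt) * b' : AlgInt) = (p : AlgInt) * (a' * b * u) := by
    have hp0 : ((p : AlgInt) ^ j) ≠ 0 := by
      apply pow_ne_zero
      intro h0
      have := congrArg (fun z : AlgInt => (z : ℂ)) h0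
      simp only [SubringClass.coe_natCast, ZeroMemClass.coe_zero, Nat.cast_eq_zero] at this
      exact hpp.out.ne_zero this
    apply mul_left_cancel₀ hp0
    apply Subtype.ext
    have hau' : (a : ℂ) * (u : ℂ) = (C : ℂ) := by
      have := congrArg (fun z : AlgInt => (z : ℂ)) hau
      simpa using this
    have hCeq' : (C : ℂ) = (p : ℂ) ^ j * (C' : ℂ) := by
      rw [hCeq]; push_cast; ring
    push_cast
    linear_combination (u : ℂ) * h1 - (b' : ℂ) * hau' - (b' : ℂ) * hCeq'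
  have h4 : ((C' : AlgInt) * b' : AlgInt) ∈ M := by
    rw [h3]
    exact M.mul_mem_right _ hM.2.2
  rcases hprime.mem_or_mem h4 with h5 | h5
  · exact natCast_not_mem_of_not_dvd hM hC' h5
  · exact hb' h5

end padic

end Cfsg.Agent.Lib.Helper6
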