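import Mathlib
import Cfsg.Agent.Lib.Helper6.Osima

set_option autoImplicit false

namespace Cfsg.Agent.Lib.Helper6

open Cfsg Cfsg.Agent.CharLib Cfsg.Agent.Lib.Helper24

universe u

section lists

variable {G : Type u} [Group G]

/-- A list fixed by rotation by `m`, of length `q * m`, is the `q`-fold repetition of its first `m`
entries; in particular its product is a `q`-th power. -/
theorem prod_eq_pow_of_rotate_eq : ∀ (q m : ℕ) (l : List G), l.length = q * m → l.rotate m = l →
    l.prod = ((l.take m).prod) ^ q := by
  intro q
  induction q with
  | zero =>
    intro m l hlen _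
    rw [Nat.zero_mul] at hlen
    rw [List.length_eq_zero_iff.mp hlen]
    simp
  | succ q ih =>
    intro m l hlen hrot
    have hm : m ≤ l.length := by rw [hlen]; nlinarith
    rw [List.rotate_eq_drop_append_take hm] at hrot
    have hsplit : l.take m ++ l.drop m = l := List.take_append_drop m l
    have htlen : (l.take m).length = m := by rw [List.length_take]; omega
    have hdlen : (l.drop m).length = q * m := by rw [List.length_drop, hlen]; ring_nf; omega
    have hcomm : l.drop m ++ l.take m = l.take m ++ l.drop m := by rw [hrot, hsplit]
    have hprod : l.prod = (l.take m).prod * (l.drop m).prod := by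
      conv_lhs => rw [← hsplit]
      rw [List.prod_append]
    rcases Nat.eq_zero_or_pos q with hq | hq
    · subst hq
      rw [Nat.zero_mul] at hdlen
      rw [hprod, List.length_eq_zero_iff.mp hdlen]
      simp
    have hmd : m ≤ (l.drop m).length := by rw [hdlen]; nlinarith
    have h1 : (l.drop m).take m = l.take m := by
      have := congrArg (List.take m) hcomm
      rw [List.take_append_of_le_length hmd, List.take_left' htlen] at this
      exact this
    have h2 : (l.drop m).rotate m = l.drop m := by
      rw [List.rotate_eq_drop_append_take hmd, h1]
      have := congrArg (List.drop m) hcomm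
      rw [List.drop_append_of_le_length hmd, List.drop_left' htlen] at this
      exact this
    rw [hprod, ih m (l.drop m) hdlen h2, h1, pow_succ']

theorem isConj_prod_rotate_one (l : List G) : IsConj l.prod (l.rotate 1).prod := by
  cases l with
  | nil => simp
  | cons a t =>
    rw [List.rotate_cons_succ, List.rotate_zero, List.prod_cons, List.prod_append, List.prod_singleton]
    exact isConj_iff.mpr ⟨a⁻¹, by group⟩

omit [Group G] in
theorem prod_map_rotate (z : G → ℂ) (l : List G) (m : ℕ) :
    ((l.rotate m).map z).prod = (l.map z).prod := by
  rw [List.map_rotate]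
  exact (List.rotate_perm _ m).prod_eq

end lists

section rot

variable {G : Type u}

/-- Rotation of words of fixed length, as a permutation. -/
def rotPerm (k : ℕ) : Equiv.Perm (List.Vector G k) where
  toFun w := ⟨w.1.rotate 1, by rw [List.length_rotate]; exact w.2⟩
  invFun w := ⟨w.1.rotate (k - 1), by rw [List.length_rotate]; exact w.2⟩
  left_inv w := by
    apply Subtype.ext
    change (w.1.rotate 1).rotate (k - 1) = w.1
    rw [List.rotate_rotate]
    rcases Nat.eq_zero_or_pos k with hk | hk
    · have : w.1 = [] := List.length_eq_zero_iff.mp (by rw [w.2, hk])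
      rw [this, List.rotate_nil]
    · have : 1 + (k - 1) = w.1.length := by rw [w.2]; omega
      rw [this, List.rotate_length]
  right_inv w := by
    apply Subtype.ext
    change (w.1.rotate (k - 1)).rotate 1 = w.1
    rw [List.rotate_rotate]
    rcases Nat.eq_zero_or_pos k with hk | hk
    · have : w.1 = [] := List.length_eq_zero_iff.mp (by rw [w.2, hk])
      rw [this, List.rotate_nil]
    · have : (k - 1) + 1 = w.1.length := by rw [w.2]; omega
      rw [this, List.rotate_length]

theorem rotPerm_pow_apply (k m : ℕ) (w : List.Vector G k) :
    (((rotPerm k) ^ m) w).1 = w.1.rotate m := by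
  induction m with
  | zero => simp
  | succ m ih =>
    rw [pow_succ', Equiv.Perm.mul_apply]
    change (((rotPerm k ^ m) w).1).rotate 1 = _
    rw [ih, List.rotate_rotate]

theorem rotPerm_pow_self (k : ℕ) : (rotPerm (G := G) k) ^ k = 1 := by
  ext w : 1
  apply Subtype.ext
  rw [rotPerm_pow_apply, Equiv.Perm.one_apply]
  have h := List.rotate_length w.1
  rwa [w.2] at h

end rot

section wordSum

variable {G : Type u} [Group G] [Fintype G]

/-- The `k`-fold convolution power of `z`, written as a sum over words of length `k`. -/
noncomputable def wordSum (z : G → ℂ) (k : ℕ) (x : G) : ℂ := by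
  classical
  exact ∑ w : List.Vector G k, if w.1.prod = x then (w.1.map z).prod else 0

theorem wordSum_zero (z : G → ℂ) : wordSum z 0 = classInd 1 := by
  classical
  funext x
  unfold wordSum
  rw [Finset.sum_eq_single (List.Vector.nil : List.Vector G 0)]
  · change (if ([] : List G).prod = x then (([] : List G).map z).prod else 0) = classInd 1 x
    unfold classInd
    simp only [List.prod_nil, List.map_nil]
    by_cases hx : (1 : G) = x
    · rw [if_pos hx, if_pos (by rw [← hx])]
    · rw [if_neg hx, if_neg]
      intro h
      exact hx (isConj_one_left.mp h.symm).symm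
  · intro w _ hw
    exact absurd (List.Vector.eq_nil w) hw
  · intro h
    exact absurd (Finset.mem_univ _) h

theorem wordSum_succ (z : G → ℂ) (k : ℕ) : wordSum z (k + 1) = conv z (wordSum z k) := by
  classical
  funext x
  unfold wordSum conv
  let e : G × List.Vector G k ≃ List.Vector G (k + 1) :=
    { toFun := fun gv => gv.1 ::ᵥ gv.2
      invFun := fun w => (w.head, w.tail)
      left_inv := fun gv => by simp
      right_inv := fun w => by simp }
  rw [← Fintype.sum_equiv e (fun gv : G × List.Vector G k =>
    if gv.1 * gv.2.1.prod = x then z gv.1 * (gv.2.1.map z).prod else 0) _ (fun gv => by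
      change _ = if (gv.1 :: gv.2.1).prod = x then ((gv.1 :: gv.2.1).map z).prod else 0
      rw [List.prod_cons, List.map_cons, List.prod_cons])]
  rw [Fintype.sum_prod_type]
  apply Finset.sum_congr rfl
  intro g _
  rw [Finset.mul_sum]
  apply Finset.sum_congr rfl
  intro v _
  by_cases h : g * v.1.prod = x
  · rw [if_pos h, if_pos (by rw [← h]; group)]
  · rw [if_neg h, if_neg, mul_zero]
    intro h'
    apply h
    rw [h']
    group

end wordSum

end Cfsg.Agent.Lib.Helper6
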