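/-
helper6: the trace coefficients of an idempotent of the group algebra over the local ring at `M`
vanish on `p`-singular classes (Cliff–Zalesskii type theorem), more generally for `z` with
`z ^ (p ^ n) = z` for arbitrarily large `n`.  Proof: expand `z ^ (p ^ n)` over words, let the cyclic
group rotate the words, count orbits to get divisibility by `p ^ (n - a + 1)`, and let `n → ∞`.
-/
import Mathlib
import Cfsg.Agent.Lib.Helper6.PAdicZero
import Cfsg.Agent.Lib.Helper6.OrbitSum
import Cfsg.Agent.Lib.Helper6.Words
import Cfsg.Agent.Lib.Helper6.OneBlock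

set_option autoImplicit false

namespace Cfsg.Agent.Lib.Helper6

open Cfsg Cfsg.Agent.CharLib Cfsg.Agent.Lib.Helper24

universe u

section traceZero

variable {G : Type u} [Group G] [Fintype G] {M : Ideal AlgInt}

/-- Raising to the power `p ^ |G|` kills the `p`-part of every element. -/
theorem not_dvd_orderOf_pow_card (p : ℕ) [hpp : Fact p.Prime] (u : G) :
    ¬ p ∣ orderOf (u ^ (p ^ Fintype.card G)) := by
  have ho : orderOf u ≠ 0 := (orderOf_pos u).ne'
  obtain ⟨e, o', ho', hoe⟩ := Nat.exists_eq_pow_mul_and_not_dvd ho p hpp.out.ne_one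
  have he : e ≤ Fintype.card G := by
    have h1 : p ^ e ∣ Fintype.card G := (Dvd.intro _ hoe.symm).trans (orderOf_dvd_card)
    have h2 : p ^ e ≤ Fintype.card G := Nat.le_of_dvd Fintype.card_pos h1
    exact (Nat.lt_pow_self hpp.out.one_lt).le.trans h2
  have h3 : (u ^ (p ^ Fintype.card G)) ^ o' = 1 := by
    rw [← pow_mul]
    have : p ^ Fintype.card G * o' = orderOf u * p ^ (Fintype.card G - e) := by
      rw [hoe]
      have : Fintype.card G = e + (Fintype.card G - e) := by omega
      conv_lhs => rw [this, pow_add]
      ring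
    rw [this, pow_mul, pow_orderOf_eq_one, one_pow]
  intro h4
  exact ho' (h4.trans (orderOf_dvd_of_pow_eq_one h3))

/-- **Vanishing of trace coefficients on `p`-singular classes.**  If `z` has local-integer
coefficients and `z ^ (p ^ n) = z` for arbitrarily large `n`, then the sum of the coefficients of `z`
over any `p`-singular conjugacy class is zero. -/
theorem sum_classInd_mul_eq_zero_of_wordSum {p : ℕ} [hpp : Fact p.Prime] (hM : IsPModular p M)
    {z : G → ℂ} (hzR : ∀ x, MemLocalRing M (z x))
    (hper : ∀ n₀ : ℕ, ∃ n, n₀ ≤ n ∧ wordSum z (p ^ n) = z) (g : G) (hg : p ∣ orderOf g) :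
    ∑ h : G, classInd g h * z h = 0 := by
  classical
  have hprime : M.IsPrime := isPrime_of_isPModular hM
  apply eq_zero_of_forall_pow_mul hM
  intro k
  obtain ⟨n, hn, hzn⟩ := hper (k + Fintype.card G)
  set a := Fintype.card G with ha
  let F : List.Vector G (p ^ n) → ℂ :=
    fun w => if IsConj g w.1.prod then (w.1.map z).prod else 0
  have h1 : ∑ h : G, classInd g h * z h = ∑ w, F w := by
    have h2 : ∀ h : G, classInd g h * z h = ∑ w : List.Vector G (p ^ n),
        classInd g h * (if w.1.prod = h then (w.1.map z).prod else 0) := by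
      intro h
      have h3 := congrFun hzn h
      unfold wordSum at h3
      rw [← Finset.mul_sum]
      congr 1
      rw [← h3]
    rw [Finset.sum_congr rfl (fun h _ => h2 h), Finset.sum_comm]
    apply Finset.sum_congr rfl
    intro w _
    rw [Finset.sum_eq_single w.1.prod]
    · rw [if_pos rfl]
      change _ = if IsConj g w.1.prod then (w.1.map z).prod else 0
      by_cases hc : IsConj g w.1.prod
      · rw [if_pos hc, classInd_of_isConj hc, one_mul]
      · rw [if_neg hc, classInd_of_not_isConj hc, zero_mul]
    · intro h _ hh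
      rw [if_neg (Ne.symm hh), mul_zero]
    · intro h
      exact absurd (Finset.mem_univ _) h
  have hFS : ∀ w, F w ∈ (localSubring M).toAddSubgroup := by
    intro w
    change (if IsConj g w.1.prod then (w.1.map z).prod else 0) ∈ localSubring M
    split_ifs
    · apply Subring.list_prod_mem
      intro x hx
      obtain ⟨y, _, rfl⟩ := List.mem_map.mp hx
      exact hzR y
    · exact Subring.zero_mem _
  have hF : ∀ w, F ((rotPerm (p ^ n)) w) = F w := by
    intro w
    change (if IsConj g (w.1.rotate 1).prod then ((w.1.rotate 1).map z).prod else 0) =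
      if IsConj g w.1.prod then (w.1.map z).prod else 0
    rw [prod_map_rotate]
    have hc := isConj_prod_rotate_one w.1
    by_cases h : IsConj g w.1.prod
    · rw [if_pos h, if_pos (h.trans hc)]
    · rw [if_neg h, if_neg]
      intro h'
      exact h (h'.trans hc.symm)
  have hna : a ≤ n := by omega
  have hfix : ∀ w, ((rotPerm (p ^ n)) ^ (p ^ (n - a))) w = w → F w = 0 := by
    intro w hw
    have h2 := congrArg Subtype.val hw
    rw [rotPerm_pow_apply] at h2
    have hlen : w.1.length = p ^ a * p ^ (n - a) := by
      rw [w.2, ← pow_add]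
      congr 1
      omega
    have h3 := prod_eq_pow_of_rotate_eq _ _ w.1 hlen h2
    change (if IsConj g w.1.prod then (w.1.map z).prod else 0) = 0
    rw [if_neg]
    intro hc
    obtain ⟨c, hc'⟩ := isConj_iff.mp hc
    have hsc : SemiconjBy c g w.1.prod := by
      unfold SemiconjBy
      rw [← hc']
      group
    have h4 := hsc.orderOf_eq
    rw [h3] at h4
    rw [h4] at hg
    exact not_dvd_orderOf_pow_card p _ hg
  obtain ⟨t, ht, hsum⟩ := sum_mem_pow_mul_of_perm p n (n - a) (rotPerm (p ^ n))
    (rotPerm_pow_self _) (localSubring M).toAddSubgroup F hFS hF hfix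
  refine ⟨(p : ℂ) ^ (n - a + 1 - k) * t, ?_, ?_⟩
  · apply memLocalRing_mul _ ((mem_localSubring M t).mp ht)
    have : (p : ℂ) ^ (n - a + 1 - k) = ((p ^ (n - a + 1 - k) : ℕ) : ℂ) := by push_cast; rfl
    rw [this]
    exact memLocalRing_natCast _
  · rw [h1, hsum, ← mul_assoc, ← pow_add]
    congr 2
    omega

end traceZero

end Cfsg.Agent.Lib.Helper6
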