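/-
helper6: Osima's theorem, second part, and weak block orthogonality.  The block idempotent (in the
sense of `Cfsg.blockCoeff`) vanishes on `p`-singular elements, and
`∑_{χ ∈ B} χ(x) conj χ(y) = 0` for `x` `p`-regular and `y` `p`-singular.
-/
import Mathlib
import Cfsg.Agent.Lib.Helper6.TraceZero
import Cfsg.Agent.Lib.Helper6.FirstMain
import Cfsg.Agent.Lib.Helper24.IrrFacts

set_option autoImplicit false

namespace Cfsg.Agent.Lib.Helper6

open Cfsg Cfsg.Agent.CharLib Cfsg.Agent.Lib.Helper24
open scoped ComplexConjugate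

universe u

section powers

variable {G : Type u} [Group G] [Fintype G]

theorem conv_classInd_one_right (z : G → ℂ) : conv z (classInd 1) = z := by
  classical
  funext x
  unfold conv
  rw [Finset.sum_eq_single x]
  · rw [inv_mul_cancel, classInd_of_isConj (IsConj.refl 1), mul_one]
  · intro g _ hg
    rw [classInd_of_not_isConj, mul_zero]
    intro h
    apply hg
    have := isConj_one_left.mp h.symm
    have h2 : g⁻¹ * x = 1 := this
    rw [inv_mul_eq_one] at h2
    exact h2
  · intro h
    exact absurd (Finset.mem_univ _) h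

/-- Powers of the right translate `a · x` of a central idempotent `a`. -/
theorem wordSum_translate {a : G → ℂ} (ha : IsClassFunction G a) (hidem : conv a a = a) (x : G) :
    ∀ m : ℕ, wordSum (fun h => a (h * x⁻¹)) (m + 1) = fun h => a (h * (x ^ (m + 1))⁻¹) := by
  intro m
  induction m with
  | zero =>
    rw [zero_add, wordSum_succ, wordSum_zero, conv_classInd_one_right, pow_one]
  | succ m ih =>
    rw [wordSum_succ, ih]
    funext y
    unfold conv
    have h1 : a (y * (x ^ (m + 1 + 1))⁻¹) = conv a a (y * (x ^ (m + 1 + 1))⁻¹) := by rw [hidem]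
    rw [h1]
    unfold conv
    rw [← Equiv.sum_comp (Equiv.mulRight x)]
    apply Finset.sum_congr rfl
    intro g _
    simp only [Equiv.coe_mulRight]
    rw [mul_inv_cancel_right]
    congr 1
    have h2 : (g * x)⁻¹ * y * (x ^ (m + 1))⁻¹ =
        x⁻¹ * (g⁻¹ * (y * (x ^ (m + 1 + 1))⁻¹)) * x⁻¹⁻¹ := by
      rw [pow_succ' x (m + 1)]
      group
    rw [h2, ha]

/-- A central idempotent is fixed by all positive convolution powers. -/
theorem wordSum_of_idempotent {a : G → ℂ} (ha : IsClassFunction G a) (hidem : conv a a = a)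
    (m : ℕ) : wordSum a (m + 1) = a := by
  have h := wordSum_translate ha hidem 1 m
  simp only [inv_one, mul_one, one_pow] at h
  exact h

end powers

section osima2

variable {G : Type u} [Group G] [Fintype G] {M : Ideal AlgInt}

/-- **Weak block orthogonality, idempotent form**: for `x` `p`-regular and `y` `p`-singular, the sum
of the block idempotent coefficients over `K_y · x⁻¹` vanishes. -/
theorem sum_classInd_mul_blockCoeff_translate {p : ℕ} [hpp : Fact p.Prime] (hM : IsPModular p M)
    (χ₀ : IrrCharacter G) (x y : G) (hx : ¬ p ∣ orderOf x) (hy : p ∣ orderOf y) :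
    ∑ h : G, classInd y h * blockCoeff (blockOf M (χ₀ : G → ℂ)) (h * x⁻¹) = 0 := by
  have hprime : M.IsPrime := isPrime_of_isPModular hM
  set a := blockCoeff (blockOf M (χ₀ : G → ℂ)) with hadef
  have ha : IsClassFunction G a := blockCoeff_isClassFunction _
  have hidem : conv a a = a := conv_blockCoeff_self _
  apply sum_classInd_mul_eq_zero_of_wordSum hM (z := fun h => a (h * x⁻¹))
    (fun h => memLocalRing_blockCoeff_blockOf χ₀ _) _ y hy
  intro n₀
  have hcop : Nat.Coprime p (orderOf x) := (Nat.Prime.coprime_iff_not_dvd hpp.out).mpr hx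
  have hpos : 0 < Nat.totient (orderOf x) := Nat.totient_pos.mpr (orderOf_pos x)
  refine ⟨Nat.totient (orderOf x) * n₀, Nat.le_mul_of_pos_left _ hpos, ?_⟩
  have hmod : p ^ (Nat.totient (orderOf x) * n₀) ≡ 1 [MOD orderOf x] := by
    have h1 := (Nat.ModEq.pow_totient hcop).pow n₀
    rwa [← pow_mul, one_pow] at h1
  have hxp : x ^ (p ^ (Nat.totient (orderOf x) * n₀)) = x := by
    have := (pow_eq_pow_iff_modEq (x := x)).mpr hmod
    rwa [pow_one] at this
  obtain ⟨m, hm⟩ : ∃ m, p ^ (Nat.totient (orderOf x) * n₀) = m + 1 :=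
    ⟨p ^ (Nat.totient (orderOf x) * n₀) - 1, by
      have := Nat.pow_pos (n := Nat.totient (orderOf x) * n₀) hpp.out.pos
      omega⟩
  rw [hm, wordSum_translate ha hidem x m, ← hm, hxp]

/-- **Osima's theorem, second part**: the block idempotent vanishes on `p`-singular elements. -/
theorem blockCoeff_eq_zero_of_dvd_orderOf {p : ℕ} [hpp : Fact p.Prime] (hM : IsPModular p M)
    (χ₀ : IrrCharacter G) (y : G) (hy : p ∣ orderOf y) :
    blockCoeff (blockOf M (χ₀ : G → ℂ)) y = 0 := by
  have h := sum_classInd_mul_blockCoeff_translate hM χ₀ 1 y (by simp [hpp.out.one_lt.ne']) hy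
  simp only [inv_one, mul_one] at h
  have ha : IsClassFunction G (blockCoeff (blockOf M (χ₀ : G → ℂ))) := blockCoeff_isClassFunction _
  have h1 : ∀ g : G, classInd y g * blockCoeff (blockOf M (χ₀ : G → ℂ)) g =
      classInd y g * blockCoeff (blockOf M (χ₀ : G → ℂ)) y := by
    intro g
    by_cases hc : IsConj y g
    · rw [IsClassFunction.of_isConj ha hc]
    · rw [classInd_of_not_isConj hc, zero_mul, zero_mul]
  rw [Finset.sum_congr rfl (fun g _ => h1 g), ← Finset.sum_mul, sum_classInd] at h
  rcases mul_eq_zero.mp h with h2 | h2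
  · exact absurd h2 (index_centralizer_ne_zero y)
  · exact h2

end osima2

section weakOrth

variable {G : Type u} [Group G] [Fintype G] {M : Ideal AlgInt}

/-- A class sum acts as a scalar: `∑ a(g) χ(g u) = ω_χ(a) χ(u)` for a class function `a`. -/
theorem sum_mul_char_mul_right (χ : IrrCharacter G) {a : G → ℂ} (ha : IsClassFunction G a)
    (u : G) :
    ∑ g : G, a g * (χ : G → ℂ) (g * u) = omegaFun (χ : G → ℂ) a * (χ : G → ℂ) u := by
  obtain ⟨n, ρ, hρ, hχ⟩ := χ.2
  have h1 := coeffSum_eq_omega_smul ρ a (fun g h => ha g h)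
  have h2 : LinearMap.trace ℂ (Fin n → ℂ) (coeffSum ρ a * ρ u) =
      ∑ g : G, a g * ρ.character (g * u) := by
    unfold coeffSum
    rw [Finset.sum_mul, map_sum]
    apply Finset.sum_congr rfl
    intro g _
    rw [smul_mul_assoc, map_smul, smul_eq_mul, ← map_mul]
    rfl
  have h3 : LinearMap.trace ℂ (Fin n → ℂ) (coeffSum ρ a * ρ u) = omega ρ a * ρ.character u := by
    rw [h1, smul_mul_assoc, one_mul, map_smul, smul_eq_mul]
    rfl
  have h4 : omega ρ a = omegaFun (χ : G → ℂ) a := by
    unfold omega omegaFun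
    rw [← hχ, Representation.char_one]
  rw [hχ] at h2 h3
  rw [← h4, ← h3, h2]

/-- **Weak block orthogonality**: for a block `B`, `x` of order prime to `p` and `y` of order
divisible by `p`, `∑_{χ ∈ B} χ(x) conj χ(y) = 0`. -/
theorem weak_block_orthogonality {p : ℕ} [hpp : Fact p.Prime] (hM : IsPModular p M)
    (χ₀ : IrrCharacter G) (x y : G) (hx : ¬ p ∣ orderOf x) (hy : p ∣ orderOf y) :
    ∑ᶠ χ ∈ blockOf M (χ₀ : G → ℂ), (χ : G → ℂ) x * conj ((χ : G → ℂ) y) = 0 := by
  classical
  let _ := fintypeIrr G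
  have h0 := sum_classInd_mul_blockCoeff_translate hM χ₀ x y hx hy
  have hG0 : (Nat.card G : ℂ) ≠ 0 := Nat.cast_ne_zero.mpr Nat.card_pos.ne'
  have hidx := index_centralizer_ne_zero y
  have key : ∀ χ : IrrCharacter G, ∑ h : G, classInd y h * conj ((χ : G → ℂ) (h * x⁻¹)) =
      ((Subgroup.centralizer ({y} : Set G)).index : ℂ) * conj ((χ : G → ℂ) y) * (χ : G → ℂ) x /
        (χ : G → ℂ) 1 := by
    intro χ
    obtain ⟨d, hdpos, hd⟩ := IsIrrCharacter.apply_one_pos χ.2
    have h1 := sum_mul_char_mul_right χ (classInd_isClassFunction y) x⁻¹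
    rw [omegaFun_classInd] at h1
    have h2 : ∑ h : G, classInd y h * conj ((χ : G → ℂ) (h * x⁻¹)) =
        conj (∑ h : G, classInd y h * (χ : G → ℂ) (h * x⁻¹)) := by
      rw [map_sum]
      apply Finset.sum_congr rfl
      intro h _
      rw [map_mul]
      congr 1
      unfold classInd
      split_ifs <;> simp
    rw [h2, h1, map_mul, irr_apply_inv, Complex.conj_conj]
    unfold centralChar
    rw [map_div₀, map_mul, Complex.conj_natCast, hd, Complex.conj_natCast]
    ring
  have h1 : ∑ h : G, classInd y h * blockCoeff (blockOf M (χ₀ : G → ℂ)) (h * x⁻¹) =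
      (Nat.card G : ℂ)⁻¹ * ((Subgroup.centralizer ({y} : Set G)).index : ℂ) *
        ∑ χ : IrrCharacter G, if χ ∈ blockOf M (χ₀ : G → ℂ) then
          (χ : G → ℂ) x * conj ((χ : G → ℂ) y) else 0 := by
    simp_rw [blockCoeff_eq_sum, Finset.mul_sum]
    rw [Finset.sum_comm]
    apply Finset.sum_congr rfl
    intro χ _
    by_cases hχ : χ ∈ blockOf M (χ₀ : G → ℂ)
    · simp only [if_pos hχ]
      obtain ⟨d, hdpos, hd⟩ := IsIrrCharacter.apply_one_pos χ.2
      have hd0 : (χ : G → ℂ) 1 ≠ 0 := by rw [hd]; exact Nat.cast_ne_zero.mpr hdpos.ne'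
      have h3 : ∀ h : G, classInd y h * ((Nat.card G : ℂ)⁻¹ *
          ((χ : G → ℂ) 1 * conj ((χ : G → ℂ) (h * x⁻¹)))) =
          (Nat.card G : ℂ)⁻¹ * (χ : G → ℂ) 1 * (classInd y h * conj ((χ : G → ℂ) (h * x⁻¹))) := by
        intro h; ring
      rw [Finset.sum_congr rfl (fun h _ => h3 h), ← Finset.mul_sum, key χ]
      field_simp
    · simp only [if_neg hχ, mul_zero, Finset.sum_const_zero]
  rw [h1] at h0
  rw [finsum_mem_eq_sum_ite]
  rcases mul_eq_zero.mp h0 with h2 | h2
  · rcases mul_eq_zero.mp h2 with h3 | h3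
    · exact absurd (inv_eq_zero.mp h3) hG0
    · exact absurd h3 hidx
  · exact h2

end weakOrth

end Cfsg.Agent.Lib.Helper6
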