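/-
helper6: the order of a defect group is `p ^ d(B)`.  Tools: averaged character values
`(1/|D|) ∑_{u ∈ D} χ(u y)` for `D ≤ C_G(y)` are algebraic integers; the block character
`∑_{χ ∈ B} χ(1) χ` vanishes on `p`-singular elements (Osima).
-/
import Mathlib
import Cfsg.Agent.Lib.Helper6.Osima2
import Cfsg.Agent.Lib.Lead.CharEquiv
import Cfsg.Agent.Lib.Lead.CharDecomp

set_option autoImplicit false

namespace Cfsg.Agent.Lib.Helper6

open Cfsg Cfsg.Agent.CharLib Cfsg.Agent.Lib.Helper24
open scoped ComplexConjugate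

universe u

section average

variable {H : Type u} [Group H] [Fintype H]

/-- A central element acts by the scalar `centralChar ξ z`. -/
theorem irr_mul_central (ξ : IrrCharacter H) (z : H) (hz : ∀ h : H, h * z = z * h) (u : H) :
    (ξ : H → ℂ) (u * z) = centralChar (ξ : H → ℂ) z * (ξ : H → ℂ) u := by
  classical
  have h1 := sum_mul_char_mul_right ξ (classInd_isClassFunction z) u
  rw [omegaFun_classInd] at h1
  rw [← h1, Finset.sum_eq_single z]
  · rw [classInd_of_isConj (IsConj.refl z), one_mul, hz u]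
  · intro g _ hg
    rw [classInd_of_not_isConj, zero_mul]
    intro hc
    obtain ⟨c, hc'⟩ := isConj_iff.mp hc
    apply hg
    rw [← hc', hz c, mul_inv_cancel_right]
  · intro h
    exact absurd (Finset.mem_univ _) h

theorem isIntegral_centralChar (ξ : IrrCharacter H) (z : H) :
    IsIntegral ℤ (centralChar (ξ : H → ℂ) z) := by
  obtain ⟨n, ρ, hρ, hχ⟩ := ξ.2
  have h := isIntegral_index_mul_char_div ρ z
  unfold centralChar
  rw [← hχ, Representation.char_one]
  exact h

/-- The sum of an irreducible character over a subgroup is the order of the subgroup times a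
natural number. -/
theorem exists_sum_subgroup_eq (ψ : H → ℂ) (hψ : IsCharacter H ψ) (D : Subgroup H) [Fintype D] :
    ∃ n : ℕ, ∑ u : D, ψ (u : H) = (Nat.card D : ℂ) * (n : ℂ) := by
  obtain ⟨n, hn⟩ := IsCharacter.classInner_nat (IsCharacter.restrict hψ D)
    (isCharacter_one (G := D))
  refine ⟨n, ?_⟩
  unfold classInner at hn
  have h1 : ∑ u : D, ψ (u : H) * conj ((1 : ↥D → ℂ) u) = ∑ u : D, ψ (u : H) := by
    apply Finset.sum_congr rfl
    intro u _
    simp
  rw [h1] at hn
  have hD0 : (Nat.card D : ℂ) ≠ 0 := Nat.cast_ne_zero.mpr Nat.card_pos.ne'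
  field_simp at hn
  rw [hn]

/-- Averaging a character over the translate `D z` of a subgroup by a central element gives an
algebraic integer. -/
theorem exists_isIntegral_sum_mul_central (ψ : H → ℂ) (hψ : IsCharacter H ψ) (z : H)
    (hz : ∀ h : H, h * z = z * h) (D : Subgroup H) [Fintype D] :
    ∃ t : ℂ, IsIntegral ℤ t ∧ ∑ u : D, ψ ((u : H) * z) = (Nat.card D : ℂ) * t := by
  classical
  let _ := fintypeIrr H
  obtain ⟨m, hm⟩ := IsCharacter.exists_decomp hψ
  rw [finsum_eq_sum_of_fintype] at hm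
  have key : ∀ ξ : IrrCharacter H, ∃ t : ℂ, IsIntegral ℤ t ∧
      ∑ u : D, (ξ : H → ℂ) ((u : H) * z) = (Nat.card D : ℂ) * t := by
    intro ξ
    obtain ⟨n, hn⟩ := exists_sum_subgroup_eq (ξ : H → ℂ) (IsIrrCharacter.isCharacter ξ.2) D
    refine ⟨centralChar (ξ : H → ℂ) z * (n : ℂ), ?_, ?_⟩
    · exact (isIntegral_centralChar ξ z).mul (isIntegral_natCast n)
    · have h3 : ∀ u : D, (ξ : H → ℂ) ((u : H) * z) =
          centralChar (ξ : H → ℂ) z * (ξ : H → ℂ) (u : H) := fun u => irr_mul_central ξ z hz (u : H)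
      rw [Finset.sum_congr rfl (fun u _ => h3 u), ← Finset.mul_sum, hn]
      ring
  choose t ht1 ht2 using key
  refine ⟨∑ ξ : IrrCharacter H, (m ξ : ℂ) * t ξ, ?_, ?_⟩
  · apply IsIntegral.sum
    intro ξ _
    exact (isIntegral_natCast (m ξ)).mul (ht1 ξ)
  · have h1 : ∀ u : D, ψ ((u : H) * z) =
        ∑ ξ : IrrCharacter H, (m ξ : ℂ) * (ξ : H → ℂ) ((u : H) * z) := by
      intro u
      conv_lhs => rw [hm]
      rw [Finset.sum_apply]
      apply Finset.sum_congr rfl
      intro ξ _
      rw [Pi.smul_apply, nsmul_eq_mul]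
    rw [Finset.sum_congr rfl (fun u _ => h1 u), Finset.sum_comm, Finset.mul_sum]
    apply Finset.sum_congr rfl
    intro ξ _
    rw [← Finset.mul_sum, ht2 ξ]
    ring

end average

section averageG

variable {G : Type u} [Group G] [Fintype G]

/-- For a subgroup `D` of `C_G(y)`, the average `(1/|D|) ∑_{u ∈ D} χ(u y)` is an algebraic
integer. -/
theorem exists_isIntegral_sum_mul_of_le_centralizer (χ : G → ℂ) (hχ : IsCharacter G χ) (y : G)
    (D : Subgroup G) [Fintype D] (hD : D ≤ Subgroup.centralizer ({y} : Set G)) :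
    ∃ t : ℂ, IsIntegral ℤ t ∧ ∑ u : D, χ ((u : G) * y) = (Nat.card D : ℂ) * t := by
  classical
  let _ : Fintype (Subgroup.centralizer ({y} : Set G)) := Fintype.ofFinite _
  let _ : Fintype (D.subgroupOf (Subgroup.centralizer ({y} : Set G))) := Fintype.ofFinite _
  have hy : y ∈ Subgroup.centralizer ({y} : Set G) := by
    rw [Subgroup.mem_centralizer_singleton_iff]
  have hz : ∀ h : Subgroup.centralizer ({y} : Set G), h * ⟨y, hy⟩ = ⟨y, hy⟩ * h := by
    intro h
    apply Subtype.ext
    exact Subgroup.mem_centralizer_singleton_iff.mp h.2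
  obtain ⟨t, ht, hsum⟩ := exists_isIntegral_sum_mul_central
    (fun h : Subgroup.centralizer ({y} : Set G) => χ h)
    (IsCharacter.restrict hχ _) ⟨y, hy⟩ hz (D.subgroupOf (Subgroup.centralizer ({y} : Set G)))
  refine ⟨t, ht, ?_⟩
  have hcard : Nat.card (D.subgroupOf (Subgroup.centralizer ({y} : Set G))) = Nat.card D :=
    Nat.card_congr (Subgroup.subgroupOfEquivOfLe hD).toEquiv
  rw [← hcard, ← hsum]
  symm
  apply Fintype.sum_equiv (Subgroup.subgroupOfEquivOfLe hD).toEquiv
  intro u
  rfl

end averageG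

section singular

variable {G : Type u} [Group G]

/-- The product of a nontrivial `p`-element and a commuting `p`-regular element is `p`-singular. -/
theorem dvd_orderOf_mul_of_commute {p : ℕ} [hpp : Fact p.Prime] {u y : G} (hc : Commute u y)
    (hu : ∃ k : ℕ, orderOf u = p ^ k) (hu1 : u ≠ 1) (hy : ¬ p ∣ orderOf y) (hyfin : 0 < orderOf y) :
    p ∣ orderOf (u * y) := by
  by_contra h
  obtain ⟨j, hj⟩ := hu
  have hj0 : j ≠ 0 := by
    intro h0
    rw [h0, pow_zero, orderOf_eq_one_iff] at hj
    exact hu1 hj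
  have h1 : (u * y) ^ orderOf (u * y) = 1 := pow_orderOf_eq_one _
  rw [hc.mul_pow] at h1
  have h2 : u ^ (orderOf (u * y) * orderOf y) = 1 := by
    have h3 : u ^ orderOf (u * y) = (y ^ orderOf (u * y))⁻¹ := eq_inv_of_mul_eq_one_left h1
    rw [pow_mul, h3, inv_pow, ← pow_mul, mul_comm, pow_mul, pow_orderOf_eq_one, one_pow, inv_one]
  have h4 : orderOf u ∣ orderOf (u * y) * orderOf y := orderOf_dvd_of_pow_eq_one h2
  have h5 : p ∣ orderOf (u * y) * orderOf y := by
    refine dvd_trans ?_ h4
    rw [hj]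
    exact dvd_pow_self p hj0
  rcases (Nat.Prime.dvd_mul hpp.out).mp h5 with h6 | h6
  · exact h h6
  · exact hy h6

end singular

section defectOrder

variable {G : Type u} [Group G] [Finite G] {M : Ideal AlgInt}

theorem memLocalIdeal_natCast_prime {p : ℕ} (hM : IsPModular p M) : MemLocalIdeal M (p : ℂ) := by
  have hprime : M.IsPrime := isPrime_of_isPModular hM
  have h := memLocalIdeal_of_mem hM.2.2 hprime.one_notMem
  simpa using h

/-- **The order of a defect group**: a defect group of `B` has order `p ^ d(B)`. -/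
theorem card_defectGroup_eq {p : ℕ} [hpp : Fact p.Prime] (hM : IsPModular p M)
    (B : Set (IrrCharacter G)) (hB : IsPBlock M B) (D : Subgroup G)
    (hD : IsDefectGroup p M B D) : Nat.card D = p ^ blockDefect p B := by
  classical
  let _ := Fintype.ofFinite G
  let _ := fintypeIrr G
  have hprime : M.IsPrime := isPrime_of_isPModular hM
  have hpM : MemLocalIdeal M (p : ℂ) := memLocalIdeal_natCast_prime hM
  obtain ⟨χ₀, rfl⟩ := hB
  set B := blockOf M (χ₀ : G → ℂ) with hBdef
  have hχ₀ : χ₀ ∈ B := mem_blockOf_self χ₀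
  obtain ⟨y, hy, hyS⟩ := hD
  have hyS' : IsSylowIn p (Subgroup.centralizer ({y} : Set G)) D := hyS
  have hDp : IsPGroup p D := hyS'.isPGroup
  have hDy : D ≤ Subgroup.centralizer ({y} : Set G) := hyS'.le
  -- notation
  set a := (Nat.card G).factorization p with hadef
  set δ := (Nat.card (Subgroup.centralizer ({y} : Set G))).factorization p with hδdef
  set idx := (Subgroup.centralizer ({y} : Set G)).index with hidx
  set f := idx.factorization p with hfdef
  have hidx0 : idx ≠ 0 := by
    intro h0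
    have := Subgroup.card_mul_index (Subgroup.centralizer ({y} : Set G))
    rw [← hidx, h0, mul_zero] at this
    exact Nat.card_pos.ne' this.symm
  have haδf : a = δ + f := by
    have := Subgroup.card_mul_index (Subgroup.centralizer ({y} : Set G))
    rw [hadef, ← this, Nat.factorization_mul Nat.card_pos.ne' hidx0]
    rfl
  have hcardD : Nat.card D = p ^ δ := by
    obtain ⟨P, hP⟩ := hyS'
    rw [hP, Subgroup.card_map_of_injective (Subgroup.subtype_injective _)]
    exact P.card_eq_multiplicity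
  -- `y` is `p`-regular
  have hyreg : ¬ p ∣ orderOf y := by
    intro hc
    apply hy.2.1
    rw [blockCoeff_eq_zero_of_dvd_orderOf hM χ₀ y hc]
    exact memLocalIdeal_zero hprime.one_notMem
  -- Claim 1: every degree in `B` is divisible by `p ^ f`
  have claim1 : ∀ χ ∈ B, f ≤ (charDegree (χ : G → ℂ)).factorization p := by
    intro χ hχ
    by_contra hlt
    push Not at hlt
    apply hy.2.2 χ hχ
    set d := charDegree (χ : G → ℂ) with hd
    set e := d.factorization p with he
    have hd0 : d ≠ 0 := (irr_charDegree_pos χ).ne'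
    obtain ⟨k, hk⟩ : ∃ k : ℕ, idx = p ^ f * k := ⟨idx / p ^ f, by
      rw [hfdef, Nat.ordProj_mul_ordCompl_eq_self]⟩
    obtain ⟨c, hc, hcp⟩ : ∃ c : ℕ, d = p ^ e * c ∧ ¬ p ∣ c := ⟨d / p ^ e, by
      rw [he, Nat.ordProj_mul_ordCompl_eq_self], Nat.not_dvd_ordCompl hpp.out hd0⟩
    have hc0 : c ≠ 0 := by
      intro h0
      rw [h0, mul_zero] at hc
      exact hd0 hc
    have h1 : centralChar (χ : G → ℂ) y = (p : ℂ) * (((p ^ (f - e - 1) * k : ℕ) : ℂ) *
        (χ : G → ℂ) y * (((1 : AlgInt) : ℂ) / ((c : ℕ) : AlgInt))) := by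
      unfold centralChar
      rw [irr_apply_one, ← hd, ← hidx, hk, hc]
      have h5 : (c : ℂ) ≠ 0 := Nat.cast_ne_zero.mpr hc0
      have hp0 : (p : ℂ) ≠ 0 := Nat.cast_ne_zero.mpr hpp.out.ne_zero
      have h6 : f = e + (f - e - 1) + 1 := by omega
      conv_lhs => rw [h6]
      push_cast
      field_simp
      ring
    rw [h1]
    apply memLocalIdeal_mul_right hpM
    apply memLocalRing_mul (memLocalRing_mul (memLocalRing_natCast _) _) _
    · exact memLocalRing_of_algInt ⟨_, irr_isIntegral χ y⟩ hprime.one_notMem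
    · exact ⟨1, ((c : ℕ) : AlgInt), natCast_not_mem_of_not_dvd hM hcp, rfl⟩
  -- Claim 2: some degree in `B` is not divisible by `p ^ (f + 1)`
  have claim2 : ∃ χ ∈ B, (charDegree (χ : G → ℂ)).factorization p ≤ f := by
    by_contra hcon
    push Not at hcon
    apply hy.2.1
    -- the character `Ψ`
    let n : IrrCharacter G → ℕ := fun χ => charDegree (χ : G → ℂ) / p ^ (f + 1)
    have hn : ∀ χ ∈ B, charDegree (χ : G → ℂ) = p ^ (f + 1) * n χ := by
      intro χ hχ
      have h1 : p ^ (f + 1) ∣ charDegree (χ : G → ℂ) :=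
        (pow_dvd_pow p (hcon χ hχ)).trans (Nat.ordProj_dvd _ p)
      exact (Nat.mul_div_cancel' h1).symm
    let Ψ : G → ℂ := fun g => ∑ χ : IrrCharacter G, if χ ∈ B then (n χ : ℂ) * (χ : G → ℂ) g else 0
    have hΨ : ∀ g : G, blockCoeff B g = (Nat.card G : ℂ)⁻¹ * ((p : ℂ) ^ (f + 1) * conj (Ψ g)) := by
      intro g
      rw [blockCoeff_eq_sum]
      congr 1
      change _ = (p : ℂ) ^ (f + 1) * conj (∑ χ : IrrCharacter G,
        if χ ∈ B then (n χ : ℂ) * (χ : G → ℂ) g else 0)
      rw [map_sum, Finset.mul_sum]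
      apply Finset.sum_congr rfl
      intro χ _
      by_cases hχ : χ ∈ B
      · rw [if_pos hχ, if_pos hχ, irr_apply_one, hn χ hχ, map_mul, Complex.conj_natCast]
        push_cast
        ring
      · rw [if_neg hχ, if_neg hχ, map_zero, mul_zero]
    have hG0 : (Nat.card G : ℂ) ≠ 0 := Nat.cast_ne_zero.mpr Nat.card_pos.ne'
    have hp0 : (p : ℂ) ≠ 0 := Nat.cast_ne_zero.mpr hpp.out.ne_zero
    have hΨvan : ∀ g : G, p ∣ orderOf g → Ψ g = 0 := by
      intro g hg
      have h1 := blockCoeff_eq_zero_of_dvd_orderOf hM χ₀ g hg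
      rw [hΨ g] at h1
      rcases mul_eq_zero.mp h1 with h2 | h2
      · exact absurd (inv_eq_zero.mp h2) hG0
      · rcases mul_eq_zero.mp h2 with h3 | h3
        · exact absurd h3 (pow_ne_zero _ hp0)
        · exact (map_eq_zero _).mp h3
    -- averaging over `D`
    let _ : Fintype D := Fintype.ofFinite _
    have hsum1 : ∑ u : D, Ψ ((u : G) * y) = Ψ y := by
      rw [Finset.sum_eq_single (1 : D)]
      · simp
      · intro u _ hu
        apply hΨvan
        have hc : Commute (u : G) y := (Subgroup.mem_centralizer_singleton_iff.mp (hDy u.2))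
        obtain ⟨k, hk⟩ := (IsPGroup.iff_orderOf.mp hDp) u
        refine dvd_orderOf_mul_of_commute hc ⟨k, by rw [Subgroup.orderOf_coe, hk]⟩ ?_ hyreg
          (orderOf_pos y)
        intro h1
        exact hu (Subtype.ext h1)
      · intro h
        exact absurd (Finset.mem_univ _) h
    have hsum2 : ∃ T : ℂ, IsIntegral ℤ T ∧ ∑ u : D, Ψ ((u : G) * y) = (Nat.card D : ℂ) * T := by
      have key : ∀ χ : IrrCharacter G, ∃ t : ℂ, IsIntegral ℤ t ∧
          ∑ u : D, (χ : G → ℂ) ((u : G) * y) = (Nat.card D : ℂ) * t :=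
        fun χ => exists_isIntegral_sum_mul_of_le_centralizer (χ : G → ℂ)
          (IsIrrCharacter.isCharacter χ.2) y D hDy
      choose t ht1 ht2 using key
      refine ⟨∑ χ : IrrCharacter G, if χ ∈ B then (n χ : ℂ) * t χ else 0, ?_, ?_⟩
      · apply IsIntegral.sum
        intro χ _
        split_ifs
        · exact (isIntegral_natCast (n χ)).mul (ht1 χ)
        · exact isIntegral_zero
      · change ∑ u : D, (∑ χ : IrrCharacter G,
          if χ ∈ B then (n χ : ℂ) * (χ : G → ℂ) ((u : G) * y) else 0) = _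
        rw [Finset.sum_comm, Finset.mul_sum]
        apply Finset.sum_congr rfl
        intro χ _
        by_cases hχ : χ ∈ B
        · simp only [if_pos hχ]
          rw [← Finset.mul_sum, ht2 χ]
          ring
        · simp only [if_neg hχ, Finset.sum_const_zero, mul_zero]
    obtain ⟨T, hT, hsum3⟩ := hsum2
    rw [hsum1, hcardD] at hsum3
    -- now the coefficient at `y` is divisible by `p`
    have hGfac : (Nat.card G : ℂ) = (p : ℂ) ^ a * ((Nat.card G / p ^ a : ℕ) : ℂ) := by
      have := Nat.ordProj_mul_ordCompl_eq_self (Nat.card G) p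
      rw [← hadef] at this
      conv_lhs => rw [← this]
      push_cast
      ring
    have hm0 : ((Nat.card G / p ^ a : ℕ) : ℂ) ≠ 0 := by
      intro h0
      rw [h0, mul_zero] at hGfac
      exact hG0 hGfac
    have h7 : blockCoeff B y = (p : ℂ) * (conj T *
        (((1 : AlgInt) : ℂ) / ((Nat.card G / p ^ a : ℕ) : AlgInt))) := by
      rw [hΨ y, hsum3, hGfac, map_mul]
      have h10 : (starRingEnd ℂ) ((p ^ δ : ℕ) : ℂ) = (p : ℂ) ^ δ := by
        rw [Complex.conj_natCast]; push_cast; rfl
      rw [h10]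
      have h8 : a + 1 = (f + 1) + δ := by omega
      have h9 : (p : ℂ) ^ (f + 1) * ((p : ℂ) ^ δ * conj T) = (p : ℂ) ^ (a + 1) * conj T := by
        rw [h8, pow_add]; ring
      rw [h9, pow_succ]
      push_cast
      field_simp
    rw [h7]
    apply memLocalIdeal_mul_right hpM
    apply memLocalRing_mul
    · exact memLocalRing_of_algInt ⟨_, map_isIntegral_int (starRingEnd ℂ) hT⟩ hprime.one_notMem
    · exact ⟨1, ((Nat.card G / p ^ a : ℕ) : AlgInt),
        natCast_not_mem_of_not_dvd hM (Nat.not_dvd_ordCompl hpp.out Nat.card_pos.ne'), rfl⟩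
  -- conclusion
  have hne : ((fun χ : IrrCharacter G => (charDegree (χ : G → ℂ)).factorization p) '' B).Nonempty :=
    ⟨_, χ₀, hχ₀, rfl⟩
  have hinf : sInf ((fun χ : IrrCharacter G => (charDegree (χ : G → ℂ)).factorization p) '' B) = f := by
    apply le_antisymm
    · obtain ⟨χ, hχ, hle⟩ := claim2
      have hmem : (charDegree (χ : G → ℂ)).factorization p ∈
          ((fun χ : IrrCharacter G => (charDegree (χ : G → ℂ)).factorization p) '' B) :=
        ⟨χ, hχ, rfl⟩
      exact (Nat.sInf_le hmem).trans hle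
    · obtain ⟨χ, hχ, hχe⟩ := Nat.sInf_mem hne
      rw [← hχe]
      exact claim1 χ hχ
  unfold blockDefect
  rw [hinf, hcardD, ← hadef, haδf, Nat.add_sub_cancel]

end defectOrder

end Cfsg.Agent.Lib.Helper6
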