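/-
helper6: Knörr's theorem — an irreducible character vanishing on all elements of order `p` has
`p`-defect zero.  Proof: the sum `Ω⁺` of the elements of order dividing `p` has `ω_χ(Ω⁺) = 1`;
if the block of `χ` had a non-trivial defect group `D`, pass to the block of `N_G(D)` inducing it
and to the Brauer map: the image of `Ω⁺` has square divisible by `p` (it is invariant under
translation by a central element of order `p` of `D`), so its central character value lies in the
local ideal — a contradiction.
-/
import Mathlib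
import Cfsg.Agent.Lib.Helper6.DefectOrder
import Cfsg.Agent.Lib.Helper6.OrbitSum
import Cfsg.Agent.Lib.Helper24.IntLemmas
import Cfsg.Agent.Lib.Lead.BlockBasic

set_option autoImplicit false

namespace Cfsg.Agent.Lib.Helper6

open Cfsg Cfsg.Agent.CharLib Cfsg.Agent.Lib.Helper24
open scoped ComplexConjugate

universe u

/-- There is a maximal ideal of the algebraic integers containing `p`. -/
theorem exists_isPModular (p : ℕ) [hp : Fact p.Prime] : ∃ M : Ideal AlgInt, IsPModular p M := by
  have hI : Ideal.span {(p : AlgInt)} ≠ ⊤ := by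
    intro h
    rw [Ideal.eq_top_iff_one, Ideal.mem_span_singleton] at h
    obtain ⟨b, hb⟩ := h
    have h1 : ((1 : ℕ) : ℂ) = (p : ℂ) * (b : ℂ) := by
      have := congrArg (fun t : AlgInt => (t : ℂ)) hb
      simpa using this
    have h2 := nat_dvd_of_eq_mul_isIntegral hp.out.pos b.2 h1
    exact hp.out.one_lt.ne' (Nat.dvd_one.mp h2)
  obtain ⟨M, hM, hIM⟩ := Ideal.exists_le_maximal _ hI
  exact ⟨M, hp.out, hM, hIM (Ideal.subset_span (Set.mem_singleton _))⟩

section ordP

variable {G : Type u} [Group G]

/-- The indicator function of the elements of order dividing `p`. -/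
noncomputable def ordPInd (p : ℕ) : G → ℂ := fun x => by
  classical exact if x ^ p = 1 then 1 else 0

theorem ordPInd_isClassFunction (p : ℕ) : IsClassFunction G (ordPInd p) := by
  intro g h
  have h1 : (h * g * h⁻¹) ^ p = 1 ↔ g ^ p = 1 := by
    rw [conj_pow]
    constructor
    · intro h2
      have := congrArg (fun t => h⁻¹ * t * h) h2
      simpa [mul_assoc] using this
    · intro h2
      rw [h2]
      simp
  unfold ordPInd
  by_cases h2 : g ^ p = 1
  · rw [if_pos h2, if_pos (h1.mpr h2)]
  · rw [if_neg h2, if_neg (fun h3 => h2 (h1.mp h3))]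

theorem memLocalRing_ordPInd {M : Ideal AlgInt} [hp : M.IsPrime] (p : ℕ) (x : G) :
    MemLocalRing M (ordPInd p x) := by
  classical
  unfold ordPInd
  split_ifs
  · exact memLocalRing_one
  · exact memLocalRing_zero

/-- For a character vanishing on the elements of order `p`, `ω_χ(Ω⁺) = 1`. -/
theorem omegaFun_ordPInd_eq_one [Fintype G] {p : ℕ} [hp : Fact p.Prime] (χ : IrrCharacter G)
    (hvan : ∀ g : G, orderOf g = p → (χ : G → ℂ) g = 0) :
    omegaFun (χ : G → ℂ) (ordPInd p) = 1 := by
  classical
  unfold omegaFun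
  have h1 : ∑ g : G, ordPInd p g * (χ : G → ℂ) g = (χ : G → ℂ) 1 := by
    rw [Finset.sum_eq_single (1 : G)]
    · unfold ordPInd
      rw [if_pos (one_pow p), one_mul]
    · intro g _ hg
      unfold ordPInd
      by_cases hgp : g ^ p = 1
      · rw [hvan g (orderOf_eq_prime hgp hg), mul_zero]
      · rw [if_neg hgp, zero_mul]
    · intro h
      exact absurd (Finset.mem_univ _) h
  rw [h1, div_self (irr_apply_one_ne_zero χ)]

end ordP

section nilpotent

variable {G : Type u} [Group G] [Fintype G] {M : Ideal AlgInt}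

theorem mulLeft_pow_apply {X : Type*} [Group X] (z : X) (k : ℕ) (h : X) :
    ((Equiv.mulLeft z) ^ k) h = z ^ k * h := by
  induction k generalizing h with
  | zero => simp
  | succ k ih =>
    rw [pow_succ, Equiv.Perm.mul_apply, ih, Equiv.coe_mulLeft, pow_succ, mul_assoc]

/-- The Brauer image of `Ω⁺` squares into `p` times the local group ring, when the `p`-group `D`
has a central element of order `p`. -/
theorem memLocalIdeal_conv_brFun_ordPInd {p : ℕ} [hpp : Fact p.Prime] (hM : IsPModular p M)
    (D H : Subgroup G) [Fintype H] (hDH : D ≤ H) {z : G} (hzD : z ∈ D)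
    (hzC : z ∈ Subgroup.centralizer (D : Set G)) (hz : orderOf z = p) (x : H) :
    MemLocalIdeal M (conv (brFun D H (ordPInd p)) (brFun D H (ordPInd p)) x) := by
  classical
  have hprime : M.IsPrime := isPrime_of_isPModular hM
  set c := brFun D H (ordPInd p : G → ℂ) with hc
  let zH : H := ⟨z, hDH hzD⟩
  have hzp : z ^ p = 1 := by rw [← hz]; exact pow_orderOf_eq_one z
  have hmemC : ∀ h : H, ((zH * h : H) : G) ∈ Subgroup.centralizer (D : Set G) ↔
      (h : G) ∈ Subgroup.centralizer (D : Set G) := by
    intro h
    change z * (h : G) ∈ _ ↔ _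
    exact Subgroup.mul_mem_cancel_left _ hzC
  have hinv : ∀ h : H, c (zH * h) = c h := by
    intro h
    by_cases hh : (h : G) ∈ Subgroup.centralizer (D : Set G)
    · rw [hc, brFun_of_mem D H _ hh, brFun_of_mem D H _ ((hmemC h).mpr hh)]
      have hcomm : Commute z (h : G) := (Subgroup.mem_centralizer_iff.mp hh z hzD)
      have h1 : (((zH * h : H) : G)) ^ p = (h : G) ^ p := by
        change (z * (h : G)) ^ p = _
        rw [hcomm.mul_pow, hzp, one_mul]
      unfold ordPInd
      simp only [h1]
    · rw [hc, brFun_of_not_mem D H _ hh,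
        brFun_of_not_mem D H _ (fun h1 => hh ((hmemC h).mp h1))]
  have hcomm : ∀ g : H, (g : G) ∈ Subgroup.centralizer (D : Set G) → zH * g = g * zH := by
    intro g hg
    apply Subtype.ext
    change z * (g : G) = (g : G) * z
    exact Subgroup.mem_centralizer_iff.mp hg z hzD
  let F : H → ℂ := fun g => c g * c (g⁻¹ * x)
  have hF : ∀ g, F ((Equiv.mulLeft zH) g) = F g := by
    intro g
    change c (zH * g) * c ((zH * g)⁻¹ * x) = c g * c (g⁻¹ * x)
    by_cases hg : (g : G) ∈ Subgroup.centralizer (D : Set G)
    · rw [hinv g]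
      congr 1
      have h1 : (zH * g)⁻¹ * x = zH⁻¹ * (g⁻¹ * x) := by
        rw [hcomm g hg]
        group
      rw [h1]
      have h2 := hinv (zH⁻¹ * (g⁻¹ * x))
      rw [mul_inv_cancel_left] at h2
      exact h2.symm
    · have h1 : c g = 0 := by rw [hc, brFun_of_not_mem D H _ hg]
      have h2 : c (zH * g) = 0 := by rw [hinv g, h1]
      rw [h1, h2, zero_mul, zero_mul]
  have hcR : ∀ h : H, MemLocalRing M (c h) :=
    brFun_memLocalRing (M := M) D H (memLocalRing_ordPInd p)
  have hFS : ∀ g, F g ∈ (localSubring M).toAddSubgroup := fun g =>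
    memLocalRing_mul (hcR g) (hcR _)
  have hσ : (Equiv.mulLeft zH) ^ (p ^ 1) = 1 := by
    ext h
    rw [pow_one, mulLeft_pow_apply, Equiv.Perm.one_apply]
    have : zH ^ p = 1 := Subtype.ext (by rw [Subgroup.coe_pow]; exact hzp)
    rw [this, one_mul]
  have hfix : ∀ w, ((Equiv.mulLeft zH) ^ (p ^ 0)) w = w → F w = 0 := by
    intro w hw
    exfalso
    rw [pow_zero, pow_one, Equiv.coe_mulLeft] at hw
    have h1 : zH = 1 := mul_eq_right.mp hw
    have h2 : z = 1 := congrArg Subtype.val h1
    rw [h2, orderOf_one] at hz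
    exact hpp.out.one_lt.ne' hz.symm
  obtain ⟨t, ht, hsum⟩ := sum_mem_pow_mul_of_perm p 1 0 (Equiv.mulLeft zH) hσ
    (localSubring M).toAddSubgroup F hFS hF hfix
  have h3 : conv c c x = ∑ g : H, F g := rfl
  rw [h3, hsum, zero_add, pow_one]
  exact memLocalIdeal_mul_right (memLocalIdeal_natCast_of_dvd hM (dvd_refl p))
    ((mem_localSubring M t).mp ht)

/-- Consequently its central character values lie in the local ideal. -/
theorem memLocalIdeal_omegaFun_brFun_ordPInd {p : ℕ} [hpp : Fact p.Prime] (hM : IsPModular p M)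
    (D H : Subgroup G) [Fintype H] (hDH : D ≤ H) (hHN : H ≤ Subgroup.normalizer (D : Set G))
    {z : G} (hzD : z ∈ D) (hzC : z ∈ Subgroup.centralizer (D : Set G)) (hz : orderOf z = p)
    (ξ : IrrCharacter H) :
    MemLocalIdeal M (omegaFun (ξ : H → ℂ) (brFun D H (ordPInd p))) := by
  have hprime : M.IsPrime := isPrime_of_isPModular hM
  have hc : IsClassFunction H (brFun D H (ordPInd p : G → ℂ)) :=
    brFun_isClassFunction D H hHN (ordPInd_isClassFunction p)
  have hcR : ∀ h : H, MemLocalRing M (brFun D H (ordPInd p : G → ℂ) h) :=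
    brFun_memLocalRing (M := M) D H (memLocalRing_ordPInd p)
  have h1 : MemLocalIdeal M (omegaFun (ξ : H → ℂ)
      (conv (brFun D H (ordPInd p)) (brFun D H (ordPInd p)))) := by
    apply memLocalIdeal_omegaFun_of_forall ξ (conv_isClassFunction hc hc)
      (memLocalRing_conv hcR hcR)
    intro x
    left
    exact memLocalIdeal_conv_brFun_ordPInd hM D H hDH hzD hzC hz x
  rw [omegaFun_conv ξ hc hc] at h1
  have hωR := memLocalRing_omegaFun (M := M) ξ hc hcR
  rcases memLocalIdeal_or_of_mul hωR hωR h1 with h2 | h2 <;> exact h2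

end nilpotent

section knoerr

variable {G : Type u} [Group G] [Finite G]

/-- **Knörr's theorem**: an irreducible character vanishing on all elements of order `p` has
`p`-defect zero. -/
theorem factorization_charDegree_eq_of_vanishing (p : ℕ) [hpp : Fact p.Prime]
    (χ : IrrCharacter G) (hvan : ∀ g : G, orderOf g = p → (χ : G → ℂ) g = 0) :
    (charDegree (χ : G → ℂ)).factorization p = (Nat.card G).factorization p := by
  classical
  let _ := Fintype.ofFinite G
  obtain ⟨M, hM⟩ := exists_isPModular p
  have hprime : M.IsPrime := isPrime_of_isPModular hM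
  set B := blockOf M (χ : G → ℂ) with hBdef
  have hB : IsPBlock M B := ⟨χ, rfl⟩
  have hχB : χ ∈ B := mem_blockOf_self χ
  obtain ⟨y, hy⟩ := Cfsg.Agent.S0906.result p M hM B hB
  let P : Sylow p (Subgroup.centralizer ({y} : Set G)) := default
  set D : Subgroup G := (P : Subgroup (Subgroup.centralizer ({y} : Set G))).map
    (Subgroup.centralizer ({y} : Set G)).subtype with hDdef
  have hD : IsDefectGroup p M B D := ⟨y, hy, P, rfl⟩
  have hDp : IsPGroup p D := P.isPGroup'.map _
  have hcard := card_defectGroup_eq hM B hB D hD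
  by_cases hbot : D = ⊥
  · -- defect zero
    rw [hbot, Subgroup.card_bot] at hcard
    have hd0 : blockDefect p B = 0 := by
      by_contra h
      have : 1 < p ^ blockDefect p B := Nat.one_lt_pow h hpp.out.one_lt
      omega
    unfold blockDefect at hd0
    have h1 : (Nat.card G).factorization p ≤
        sInf ((fun χ : IrrCharacter G => (charDegree (χ : G → ℂ)).factorization p) '' B) :=
      Nat.sub_eq_zero_iff_le.mp hd0
    have h2 : sInf ((fun χ : IrrCharacter G => (charDegree (χ : G → ℂ)).factorization p) '' B) ≤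
        (charDegree (χ : G → ℂ)).factorization p := Nat.sInf_le ⟨χ, hχB, rfl⟩
    have h3 : (charDegree (χ : G → ℂ)).factorization p ≤ (Nat.card G).factorization p :=
      (Nat.factorization_le_iff_dvd (irr_charDegree_pos χ).ne' Nat.card_pos.ne').mpr
        (irr_charDegree_dvd_card χ) p
    omega
  · exfalso
    -- a central element of order `p` of `D`
    have hDnt : Nontrivial D := (Subgroup.nontrivial_iff_ne_bot D).mpr hbot
    have hcnt : Nontrivial (Subgroup.center D) := hDp.center_nontrivial
    have hcp : IsPGroup p (Subgroup.center D) := hDp.to_subgroup _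
    obtain ⟨k, hk⟩ := IsPGroup.iff_card.mp hcp
    have hk0 : k ≠ 0 := by
      intro h
      rw [h, pow_zero] at hk
      have := (Nat.card_eq_one_iff_unique.mp hk).1
      exact not_subsingleton _ this
    have hdvd : p ∣ Nat.card (Subgroup.center D) := by
      rw [hk]
      exact dvd_pow_self p hk0
    obtain ⟨x, hx⟩ := exists_prime_orderOf_dvd_card' p hdvd
    set z : G := ((x : D) : G) with hzdef
    have hzD : z ∈ D := (x : D).2
    have hzC : z ∈ Subgroup.centralizer (D : Set G) := by
      rw [Subgroup.mem_centralizer_iff]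
      intro d hd
      have h1 := Subgroup.mem_center_iff.mp x.2 ⟨d, hd⟩
      exact congrArg Subtype.val h1
    have hz : orderOf z = p := by
      rw [hzdef, Subgroup.orderOf_coe, Subgroup.orderOf_coe, hx]
    -- the block of the normalizer
    obtain ⟨b, hbB, -, hind⟩ := exists_block_normalizer hM D hDp B hB hD
    let _ : Fintype (Subgroup.normalizer (D : Set G)) := Fintype.ofFinite _
    obtain ⟨ξ₀, hb⟩ := hbB
    have hξ₀ : ξ₀ ∈ b := by rw [hb]; exact mem_blockOf_self ξ₀
    have h1 := memLocalIdeal_omegaFun_resFun_sub_of_induced (Subgroup.normalizer (D : Set G))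
      hind hξ₀ hχB (ordPInd_isClassFunction p) (memLocalRing_ordPInd p)
    rw [omegaFun_ordPInd_eq_one χ hvan] at h1
    have h2 := memLocalIdeal_omegaFun_resFun_sub_brFun D (Subgroup.normalizer (D : Set G)) hM hDp
      Subgroup.le_normalizer le_rfl (ordPInd_isClassFunction p) (memLocalRing_ordPInd p) ξ₀
    have h3 := memLocalIdeal_omegaFun_brFun_ordPInd hM D (Subgroup.normalizer (D : Set G))
      Subgroup.le_normalizer le_rfl hzD hzC hz ξ₀
    have h4 := memLocalIdeal_sub (memLocalIdeal_add h2 h3) h1
    rw [sub_add_cancel, sub_sub_cancel] at h4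
    exact not_memLocalIdeal_one h4

end knoerr

end Cfsg.Agent.Lib.Helper6
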