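/-
helper6: linear characters <-> homomorphisms to ℂˣ; their number is the index of the commutator subgroup.
-/
import Mathlib
import Cfsg.Agent.Lib.Lead.CharBurnside
import Cfsg.Agent.Lib.Helper6.CharNorm

set_option autoImplicit false

namespace Cfsg.Agent.Lib.Helper6

open Cfsg Cfsg.Agent.CharLib Module

universe u

variable {G : Type u} [Group G]

/-- The one-dimensional representation attached to a homomorphism `G →* ℂˣ`. -/
noncomputable def homRep (φ : G →* ℂˣ) : Representation ℂ G ℂ :=
  ((algebraMap ℂ (Module.End ℂ ℂ) : ℂ →+* Module.End ℂ ℂ) : ℂ →* Module.End ℂ ℂ).comp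
    ((Units.coeHom ℂ).comp φ)

theorem homRep_apply (φ : G →* ℂˣ) (g : G) :
    homRep φ g = ((φ g : ℂˣ) : ℂ) • (1 : Module.End ℂ ℂ) := by
  change algebraMap ℂ (Module.End ℂ ℂ) ((φ g : ℂˣ) : ℂ) = _
  exact Algebra.algebraMap_eq_smul_one _

theorem homRep_character (φ : G →* ℂˣ) (g : G) : (homRep φ).character g = ((φ g : ℂˣ) : ℂ) := by
  unfold Representation.character
  rw [homRep_apply, map_smul, LinearMap.trace_one, Module.finrank_self]
  simp

/-- A homomorphism `G →* ℂˣ` is an irreducible character. -/
theorem isIrrCharacter_of_hom (φ : G →* ℂˣ) : IsIrrCharacter G (fun g => ((φ g : ℂˣ) : ℂ)) := by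
  have h1 : (homRep φ).IsIrreducible := isIrreducible_of_finrank_eq_one _ (Module.finrank_self ℂ)
  have := isIrrCharacter_of_rep (homRep φ) h1
  convert this using 1
  funext g
  exact (homRep_character φ g).symm

theorem isCharacter_of_hom (φ : G →* ℂˣ) : IsCharacter G (fun g => ((φ g : ℂˣ) : ℂ)) :=
  IsIrrCharacter.isCharacter (isIrrCharacter_of_hom φ)

/-- A degree one character as a homomorphism to the units. -/
noncomputable def linCharUnitsHom {lam : G → ℂ} (hlam : IsCharacter G lam) (h1 : lam 1 = 1) :
    G →* ℂˣ :=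
  (linCharHom hlam h1).toHomUnits

theorem linCharUnitsHom_apply {lam : G → ℂ} (hlam : IsCharacter G lam) (h1 : lam 1 = 1) (g : G) :
    ((linCharUnitsHom hlam h1 g : ℂˣ) : ℂ) = lam g := rfl

/-- A character of degree one is irreducible. -/
theorem IsCharacter.isIrrCharacter_of_apply_one {lam : G → ℂ} (hlam : IsCharacter G lam)
    (h1 : lam 1 = 1) : IsIrrCharacter G lam := by
  exact isIrrCharacter_of_hom (linCharUnitsHom hlam h1)

/-- Irreducible characters of degree one correspond to homomorphisms `G →* ℂˣ`. -/
noncomputable def linIrrEquivHom :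
    {χ : IrrCharacter G // (χ : G → ℂ) 1 = 1} ≃ (G →* ℂˣ) where
  toFun χ := linCharUnitsHom (IsIrrCharacter.isCharacter χ.1.2) χ.2
  invFun φ := ⟨⟨fun g => ((φ g : ℂˣ) : ℂ), isIrrCharacter_of_hom φ⟩, by simp⟩
  left_inv χ := by
    apply Subtype.ext
    apply Subtype.ext
    funext g
    rfl
  right_inv φ := by
    apply MonoidHom.ext
    intro g
    apply Units.ext
    rfl

/-- The number of homomorphisms `G →* ℂˣ` is the index of the commutator subgroup. -/
theorem card_hom_units [Finite G] : Nat.card (G →* ℂˣ) = (commutator G).index := by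
  have hne : NeZero ((Monoid.exponent (Abelianization G) : ℕ) : ℂ) :=
    ⟨by exact_mod_cast Monoid.exponent_ne_zero_of_finite⟩
  rw [Nat.card_congr (Abelianization.lift (G := G) (A := ℂˣ)),
    CommGroup.card_monoidHom_of_hasEnoughRootsOfUnity (Abelianization G) ℂ]
  rfl

/-- The number of irreducible characters of degree one is the index of the commutator subgroup. -/
theorem card_linear_irr [Finite G] :
    Nat.card {χ : IrrCharacter G // (χ : G → ℂ) 1 = 1} = (commutator G).index := by
  rw [Nat.card_congr linIrrEquivHom, card_hom_units]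

end Cfsg.Agent.Lib.Helper6
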