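/-
helper6: products with extendible characters (Isaacs 6.16) and Gallagher's theorem,
at the function level.
-/
import Mathlib
import Cfsg.Agent.Lib.Lead.CharEquiv
import Cfsg.Agent.Lib.Helper6.Clifford
import Cfsg.Agent.Lib.Helper6.CharNorm

set_option autoImplicit false

namespace Cfsg.Agent.Lib.Helper6

open Cfsg Cfsg.Agent.CharLib
open scoped ComplexConjugate

universe u

variable {G : Type u} [Group G] [Fintype G]

/-- `Ind (θ · Res χ) = Ind θ · χ` for a class function `χ`. -/
theorem indFun_mul_resFun (H : Subgroup G) (θ : H → ℂ) {χ : G → ℂ} (hχ : IsClassFunction G χ) :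
    indFun H (θ * resFun H χ) = indFun H θ * χ := by
  classical
  funext g
  rw [Pi.mul_apply, indFun_apply, indFun_apply, mul_assoc, Finset.sum_mul]
  congr 1
  apply Finset.sum_congr rfl
  intro x _
  have hx : χ (x⁻¹ * g * x) = χ g := by
    have := hχ g x⁻¹
    rwa [inv_inv] at this
  by_cases hmem : x⁻¹ * g * x ∈ H
  · rw [extendByZero_mem H _ hmem, extendByZero_mem H _ hmem, Pi.mul_apply, resFun_apply]
    change θ _ * χ (x⁻¹ * g * x) = _
    rw [hx]
  · rw [extendByZero_not_mem H _ hmem, extendByZero_not_mem H _ hmem, zero_mul]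

/-- The norm of the function induced from an invariant irreducible character of a normal
subgroup is the index. -/
theorem classInner_indFun_self_of_invariant (N : Subgroup G) [hN : N.Normal] [Fintype N]
    {θ : N → ℂ} (hθ : IsIrrCharacter N θ) (hinv : ∀ g : G, conjFun N g θ = θ) :
    classInner (indFun N θ) (indFun N θ) = (N.index : ℂ) := by
  classical
  rw [frobenius_reciprocity N θ (indFun_isClassFunction N θ)]
  have h1 : (fun h : N => indFun N θ h) = resFun N (indFun N θ) := rfl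
  rw [h1, resFun_indFun]
  have h2 : ∑ x : G, conjFun N x θ = (Fintype.card G : ℂ) • θ := by
    rw [Finset.sum_congr rfl (fun x _ => hinv x), Finset.sum_const, Finset.card_univ,
      Nat.cast_smul_eq_nsmul]
  rw [h2, smul_smul, classInner_smul_right, classInner_irr hθ hθ, if_pos rfl, mul_one]
  have h3 : (Fintype.card G : ℂ) = (Nat.card N : ℂ) * (N.index : ℂ) := by
    rw [← Nat.cast_mul, Subgroup.card_mul_index, Nat.card_eq_fintype_card]
  have h4 : (Nat.card N : ℂ) ≠ 0 := by
    exact_mod_cast (Nat.card_pos (α := N)).ne'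
  rw [h3, ← mul_assoc, inv_mul_cancel₀ h4, one_mul, Complex.conj_natCast]

/-- A sum of natural numbers dominated termwise by another sum with the same total agrees
termwise. -/
theorem nat_sum_sq_rigidity {ι : Type*} [DecidableEq ι] (s : Finset ι) (e : ι → ℕ) (T : ι → ι → ℕ)
    (hdiag : ∀ β ∈ s, e β ^ 2 ≤ T β β)
    (htot : ∑ β ∈ s, ∑ γ ∈ s, T β γ = ∑ β ∈ s, e β ^ 2) :
    (∀ β ∈ s, T β β = e β ^ 2) ∧ ∀ β ∈ s, ∀ γ ∈ s, β ≠ γ → T β γ = 0 := by
  have hle : ∀ β ∈ s, e β ^ 2 ≤ ∑ γ ∈ s, T β γ := fun β hβ =>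
    (hdiag β hβ).trans (Finset.single_le_sum (f := fun γ => T β γ) (fun _ _ => Nat.zero_le _) hβ)
  have heq := (Finset.sum_eq_sum_iff_of_le hle).mp htot.symm
  have hsplit : ∀ β ∈ s, ∑ γ ∈ s, T β γ = T β β + ∑ γ ∈ s.erase β, T β γ := fun β hβ =>
    (Finset.add_sum_erase s (fun γ => T β γ) hβ).symm
  constructor
  · intro β hβ
    have h1 := heq β hβ
    have h2 := hsplit β hβ
    have h3 := hdiag β hβ
    omega
  · intro β hβ γ hγ hne
    have h1 := heq β hβ
    have h2 := hsplit β hβ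
    have h3 := hdiag β hβ
    have h4 : ∑ γ ∈ s.erase β, T β γ = 0 := by omega
    exact (Finset.sum_eq_zero_iff.mp h4) γ (Finset.mem_erase.mpr ⟨hne.symm, hγ⟩)

/-- **Isaacs 6.16**: if `φ`, `φ * ϑ` are invariant irreducible characters of the normal subgroup `N`
and `ϑ` extends to the irreducible character `χ` of `G`, then multiplication by `χ` is a bijection
from `Irr(G | φ)` to `Irr(G | φ ϑ)`. -/
theorem mul_bijOn (N : Subgroup G) [hN : N.Normal] [Fintype N] {φ ϑ : N → ℂ}
    (hφ : IsIrrCharacter N φ) (hφinv : ∀ g : G, conjFun N g φ = φ)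
    (hprod : IsIrrCharacter N (φ * ϑ)) (hprodinv : ∀ g : G, conjFun N g (φ * ϑ) = φ * ϑ)
    {χ : G → ℂ} (hχ : IsIrrCharacter G χ) (hext : resFun N χ = ϑ) :
    Set.BijOn (fun β : G → ℂ => β * χ)
      {β | IsIrrCharacter G β ∧ classInner (indFun N φ) β ≠ 0}
      {ψ | IsIrrCharacter G ψ ∧ classInner (indFun N (φ * ϑ)) ψ ≠ 0} := by
  classical
  let _ := fintypeIrr G
  have hχc : IsCharacter G χ := IsIrrCharacter.isCharacter hχ
  have hχcf : IsClassFunction G χ := IsCharacter.isClassFunction hχc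
  have hIndφ : IsCharacter G (indFun N φ) := IsCharacter.indFun N (IsIrrCharacter.isCharacter hφ)
  -- multiplicities
  have hex : ∀ β : IrrCharacter G, ∃ n : ℕ, classInner (indFun N φ) (β : G → ℂ) = n :=
    fun β => IsCharacter.classInner_nat hIndφ (IsIrrCharacter.isCharacter β.2)
  choose e he using hex
  have hdec : indFun N φ = ∑ β : IrrCharacter G, (e β : ℂ) • (β : G → ℂ) := by
    conv_lhs => rw [classFunction_eq_sum (indFun_isClassFunction N φ)]
    exact Finset.sum_congr rfl (fun β _ => by rw [he β])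
  have hdec2 : indFun N (φ * ϑ) = ∑ β : IrrCharacter G, (e β : ℂ) • ((β : G → ℂ) * χ) := by
    rw [← hext, indFun_mul_resFun N φ hχcf, hdec, Finset.sum_mul]
    exact Finset.sum_congr rfl (fun β _ => by rw [smul_mul_assoc])
  -- pairings
  have hmex : ∀ β γ : IrrCharacter G, ∃ n : ℕ,
      classInner ((β : G → ℂ) * χ) ((γ : G → ℂ) * χ) = n := fun β γ =>
    IsCharacter.classInner_nat (IsCharacter.mul (IsIrrCharacter.isCharacter β.2) hχc)
      (IsCharacter.mul (IsIrrCharacter.isCharacter γ.2) hχc)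
  choose m hm using hmex
  have hmpos : ∀ β, 1 ≤ m β β := by
    intro β
    rw [Nat.one_le_iff_ne_zero]
    intro h0
    have h1 := hm β β
    rw [h0, Nat.cast_zero] at h1
    have h2 := classInner_self_eq_zero h1
    have h3 := congrFun h2 1
    rw [Pi.mul_apply, Pi.zero_apply] at h3
    obtain ⟨a, ha, ha1⟩ := IsIrrCharacter.apply_one_pos β.2
    obtain ⟨b, hb, hb1⟩ := IsIrrCharacter.apply_one_pos hχ
    rw [ha1, hb1] at h3
    have h4 : a * b = 0 := by exact_mod_cast h3
    rcases Nat.mul_eq_zero.mp h4 with h | h <;> omega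
  -- norms
  have hnorm1 : ((∑ β : IrrCharacter G, e β ^ 2 : ℕ) : ℂ) = (N.index : ℂ) := by
    rw [← classInner_indFun_self_of_invariant N hφ hφinv]
    conv_rhs => rw [hdec]
    rw [classInner_sum_left]
    push_cast
    apply Finset.sum_congr rfl
    intro β _
    rw [classInner_smul_left, classInner_sum_right, Finset.sum_eq_single β]
    · rw [classInner_smul_right, classInner_irr' β β, if_pos rfl, Complex.conj_natCast]
      ring
    · intro γ _ hγ
      rw [classInner_smul_right, classInner_irr' β γ, if_neg (Ne.symm hγ), mul_zero]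
    · intro h; exact absurd (Finset.mem_univ _) h
  have hnorm2 : ((∑ β : IrrCharacter G, ∑ γ : IrrCharacter G, e β * e γ * m β γ : ℕ) : ℂ) =
      (N.index : ℂ) := by
    rw [← classInner_indFun_self_of_invariant N hprod hprodinv]
    conv_rhs => rw [hdec2]
    rw [classInner_sum_left]
    push_cast
    apply Finset.sum_congr rfl
    intro β _
    rw [classInner_smul_left, classInner_sum_right, Finset.mul_sum]
    apply Finset.sum_congr rfl
    intro γ _
    rw [classInner_smul_right, hm β γ, Complex.conj_natCast]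
    ring
  have htot : ∑ β : IrrCharacter G, ∑ γ : IrrCharacter G, e β * e γ * m β γ =
      ∑ β : IrrCharacter G, e β ^ 2 := by
    have := hnorm2.trans hnorm1.symm
    exact_mod_cast this
  obtain ⟨hdiag, hoff⟩ := nat_sum_sq_rigidity Finset.univ e (fun β γ => e β * e γ * m β γ)
    (fun β _ => by
      have := hmpos β
      calc e β ^ 2 = e β * e β * 1 := by ring
        _ ≤ e β * e β * m β β := Nat.mul_le_mul_left _ this) htot
  -- consequences for the constituents
  have hA : ∀ β : IrrCharacter G, e β ≠ 0 → m β β = 1 := by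
    intro β hβ
    have h1 := hdiag β (Finset.mem_univ _)
    have h2 : e β * e β * m β β = e β * e β * 1 := by rw [h1]; ring
    exact Nat.eq_of_mul_eq_mul_left (Nat.mul_pos (Nat.pos_of_ne_zero hβ) (Nat.pos_of_ne_zero hβ)) h2
  have hB : ∀ β γ : IrrCharacter G, e β ≠ 0 → e γ ≠ 0 → β ≠ γ → m β γ = 0 := by
    intro β γ hβ hγ hne
    have h1 := hoff β (Finset.mem_univ _) γ (Finset.mem_univ _) hne
    rcases Nat.mul_eq_zero.mp h1 with h | h
    · rcases Nat.mul_eq_zero.mp h with h | h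
      · exact absurd h hβ
      · exact absurd h hγ
    · exact h
  have hirr : ∀ β : IrrCharacter G, e β ≠ 0 → IsIrrCharacter G ((β : G → ℂ) * χ) := by
    intro β hβ
    apply isIrrCharacter_of_classInner_self_eq_one
      (IsCharacter.mul (IsIrrCharacter.isCharacter β.2) hχc)
    rw [hm β β, hA β hβ, Nat.cast_one]
  have hmult : ∀ β : IrrCharacter G, e β ≠ 0 →
      classInner (indFun N (φ * ϑ)) ((β : G → ℂ) * χ) = e β := by
    intro β hβ
    rw [hdec2, classInner_sum_left, Finset.sum_eq_single β]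
    · rw [classInner_smul_left, hm β β, hA β hβ, Nat.cast_one, mul_one]
    · intro γ _ hγ
      rw [classInner_smul_left, hm γ β]
      by_cases hγ0 : e γ = 0
      · rw [hγ0, Nat.cast_zero, zero_mul]
      · rw [hB γ β hγ0 hβ hγ, Nat.cast_zero, mul_zero]
    · intro h; exact absurd (Finset.mem_univ _) h
  have he0 : ∀ β : IrrCharacter G, classInner (indFun N φ) (β : G → ℂ) ≠ 0 ↔ e β ≠ 0 := by
    intro β
    rw [he β]
    exact Nat.cast_ne_zero
  refine ⟨?_, ?_, ?_⟩
  · -- maps to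
    rintro β ⟨hβ, hβ0⟩
    have hβ' : e ⟨β, hβ⟩ ≠ 0 := (he0 ⟨β, hβ⟩).mp hβ0
    refine ⟨hirr ⟨β, hβ⟩ hβ', ?_⟩
    have := hmult ⟨β, hβ⟩ hβ'
    change classInner (indFun N (φ * ϑ)) (β * χ) ≠ 0
    rw [this]
    exact Nat.cast_ne_zero.mpr hβ'
  · -- injective
    rintro β ⟨hβ, hβ0⟩ γ ⟨hγ, hγ0⟩ heq
    have hβ' : e ⟨β, hβ⟩ ≠ 0 := (he0 ⟨β, hβ⟩).mp hβ0
    have hγ' : e ⟨γ, hγ⟩ ≠ 0 := (he0 ⟨γ, hγ⟩).mp hγ0
    by_contra hne
    have hne' : (⟨β, hβ⟩ : IrrCharacter G) ≠ ⟨γ, hγ⟩ := fun h => hne (congrArg Subtype.val h)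
    have h1 := hm ⟨β, hβ⟩ ⟨γ, hγ⟩
    rw [hB _ _ hβ' hγ' hne', Nat.cast_zero] at h1
    change classInner (β * χ) (γ * χ) = 0 at h1
    have heq' : β * χ = γ * χ := heq
    rw [heq'] at h1
    have h2 := hm ⟨γ, hγ⟩ ⟨γ, hγ⟩
    change classInner (γ * χ) (γ * χ) = _ at h2
    rw [h1, hA _ hγ', Nat.cast_one] at h2
    exact zero_ne_one h2
  · -- surjective
    rintro ψ ⟨hψ, hψ0⟩
    rw [hdec2, classInner_sum_left] at hψ0
    obtain ⟨β, -, hβ⟩ := Finset.exists_ne_zero_of_sum_ne_zero hψ0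
    rw [classInner_smul_left] at hβ
    have hβ0 : e β ≠ 0 := by
      intro h
      rw [h, Nat.cast_zero, zero_mul] at hβ
      exact hβ rfl
    have hβ1 : classInner ((β : G → ℂ) * χ) ψ ≠ 0 := right_ne_zero_of_mul hβ
    rw [classInner_irr (hirr β hβ0) hψ] at hβ1
    have hβ2 : (β : G → ℂ) * χ = ψ := by
      by_contra h
      rw [if_neg h] at hβ1
      exact hβ1 rfl
    exact ⟨(β : G → ℂ), ⟨β.2, (he0 β).mpr hβ0⟩, hβ2⟩

end Cfsg.Agent.Lib.Helper6
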