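/-
helper6: Gallagher's theorem and averaging over a normal subgroup, at the function level.
-/
import Mathlib
import Cfsg.Agent.Lib.Lead.CharCount
import Cfsg.Agent.Lib.Helper6.Gallagher
import Cfsg.Agent.Lib.Helper6.LinChar

set_option autoImplicit false

namespace Cfsg.Agent.Lib.Helper6

open Cfsg Cfsg.Agent.CharLib
open scoped ComplexConjugate

universe u

variable {G : Type u} [Group G] [Fintype G]

/-- Function-level class-multiplication formula for irreducible characters. -/
theorem IsIrrCharacter.sum_conj_mul {β : G → ℂ} (hβ : IsIrrCharacter G β) (y x : G) :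
    ∑ a : G, β (a * y * a⁻¹ * x) = (Nat.card G : ℂ) * β y * β x / β 1 := by
  obtain ⟨n, ρ, hirr, rfl⟩ := hβ
  rw [sum_char_conj_mul ρ y x]
  congr 1
  simp

/-- Averaging an irreducible character over the cosets of a normal subgroup. -/
theorem IsIrrCharacter.sum_normal_mul (N : Subgroup G) [hN : N.Normal] [Fintype N] {β : G → ℂ}
    (hβ : IsIrrCharacter G β) (g : G) :
    ∑ n : N, β ((n : G) * g) = (∑ n : N, β n) * β g / β 1 := by
  have hG : (Nat.card G : ℂ) ≠ 0 := by exact_mod_cast (Nat.card_pos (α := G)).ne'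
  have h1 : ∀ a : G, ∑ n : N, β ((n : G) * g) = ∑ n : N, β (a * (n : G) * a⁻¹ * g) := by
    intro a
    symm
    apply Fintype.sum_equiv (MulAut.conjNormal a : N ≃* N).toEquiv
    intro n
    rfl
  have h2 : (Nat.card G : ℂ) * ∑ n : N, β ((n : G) * g) =
      (Nat.card G : ℂ) * ((∑ n : N, β n) * β g / β 1) := by
    calc (Nat.card G : ℂ) * ∑ n : N, β ((n : G) * g)
        = ∑ a : G, ∑ n : N, β ((n : G) * g) := by
          rw [Finset.sum_const, Finset.card_univ, nsmul_eq_mul, Nat.card_eq_fintype_card]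
      _ = ∑ a : G, ∑ n : N, β (a * (n : G) * a⁻¹ * g) := Finset.sum_congr rfl (fun a _ => h1 a)
      _ = ∑ n : N, ∑ a : G, β (a * (n : G) * a⁻¹ * g) := Finset.sum_comm
      _ = ∑ n : N, (Nat.card G : ℂ) * β n * β g / β 1 :=
          Finset.sum_congr rfl (fun n _ => IsIrrCharacter.sum_conj_mul hβ n g)
      _ = (Nat.card G : ℂ) * ((∑ n : N, β n) * β g / β 1) := by
          rw [Finset.sum_mul, Finset.sum_div, Finset.mul_sum]
          apply Finset.sum_congr rfl
          intro n _
          ring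
  exact mul_left_cancel₀ hG h2

/-- The trivial character is irreducible. -/
theorem isIrrCharacter_one (H : Type u) [Group H] : IsIrrCharacter H (1 : H → ℂ) := by
  have h := isIrrCharacter_of_hom (1 : H →* ℂˣ)
  have h2 : (fun g : H => (((1 : H →* ℂˣ) g : ℂˣ) : ℂ)) = 1 := by
    funext g
    simp
  rwa [h2] at h

/-- Multiplicity of an irreducible character in the permutation character on the cosets of `N`. -/
theorem classInner_indFun_one (N : Subgroup G) [Fintype N] {β : G → ℂ}
    (hβ : IsClassFunction G β) :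
    classInner (indFun N (1 : N → ℂ)) β = (Nat.card N : ℂ)⁻¹ * conj (∑ n : N, β n) := by
  rw [frobenius_reciprocity N _ hβ, classInner, map_sum]
  congr 1
  apply Finset.sum_congr rfl
  intro n _
  rw [Pi.one_apply, one_mul]

/-- Irreducible characters of `G` lying over the trivial character of the normal subgroup `N` are
constant on the cosets of `N`. -/
theorem apply_mul_of_indFun_one_ne_zero (N : Subgroup G) [hN : N.Normal] [Fintype N] {β : G → ℂ}
    (hβ : IsIrrCharacter G β) (h : classInner (indFun N (1 : N → ℂ)) β ≠ 0) :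
    (∑ n : N, β n = (Nat.card N : ℂ) * β 1) ∧ (∀ (m : N) (g : G), β ((m : G) * g) = β g) := by
  classical
  have hβcf : IsClassFunction G β := IsCharacter.isClassFunction (IsIrrCharacter.isCharacter hβ)
  have hN0 : (Nat.card N : ℂ) ≠ 0 := by exact_mod_cast (Nat.card_pos (α := N)).ne'
  obtain ⟨d, hdpos, hd⟩ := IsIrrCharacter.apply_one_pos hβ
  have hd0 : β 1 ≠ 0 := by rw [hd]; exact_mod_cast hdpos.ne'
  -- Clifford
  have h1 : classInner (resFun N β) (1 : N → ℂ) ≠ 0 := by
    rw [frobenius_reciprocity N _ hβcf] at h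
    intro h0
    apply h
    rw [← classInner_conj_symm]
    change conj (classInner (resFun N β) 1) = 0
    rw [h0, map_zero]
  have hinv : ∀ g : G, conjFun N g (1 : N → ℂ) = 1 := fun g => rfl
  have hcl := clifford_of_invariant N hβ (isIrrCharacter_one N) h1 hinv
  have hc : classInner (resFun N β) (1 : N → ℂ) = β 1 := by
    have := congrFun hcl 1
    rw [resFun_apply, Pi.smul_apply, Pi.one_apply, smul_eq_mul, mul_one] at this
    exact this.symm
  rw [hc] at hcl
  have hsum : ∑ n : N, β n = (Nat.card N : ℂ) * β 1 := by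
    have : ∀ n : N, β n = β 1 := by
      intro n
      have := congrFun hcl n
      rw [resFun_apply, Pi.smul_apply, Pi.one_apply, smul_eq_mul, mul_one] at this
      exact this
    rw [Finset.sum_congr rfl (fun n _ => this n), Finset.sum_const, Finset.card_univ, nsmul_eq_mul,
      Nat.card_eq_fintype_card]
  refine ⟨hsum, ?_⟩
  have havg : ∀ g : G, ∑ n : N, β ((n : G) * g) = (Nat.card N : ℂ) * β g := by
    intro g
    rw [IsIrrCharacter.sum_normal_mul N hβ g, hsum]
    field_simp
  intro m g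
  have h2 : ∑ n : N, β ((n : G) * ((m : G) * g)) = ∑ n : N, β ((n : G) * g) := by
    apply Fintype.sum_equiv (Equiv.mulRight m)
    intro n
    rw [Equiv.coe_mulRight, Subgroup.coe_mul, mul_assoc]
  rw [havg, havg] at h2
  exact mul_left_cancel₀ hN0 h2

/-- Irreducible characters of `G` not lying over the trivial character of the normal subgroup `N`
have zero average on every coset of `N`. -/
theorem sum_normal_mul_eq_zero (N : Subgroup G) [hN : N.Normal] [Fintype N] {β : G → ℂ}
    (hβ : IsIrrCharacter G β) (h : classInner (indFun N (1 : N → ℂ)) β = 0) (g : G) :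
    ∑ n : N, β ((n : G) * g) = 0 := by
  have hβcf : IsClassFunction G β := IsCharacter.isClassFunction (IsIrrCharacter.isCharacter hβ)
  have hN0 : (Nat.card N : ℂ) ≠ 0 := by exact_mod_cast (Nat.card_pos (α := N)).ne'
  rw [classInner_indFun_one N hβcf] at h
  have h1 : ∑ n : N, β n = 0 := by
    rcases mul_eq_zero.mp h with h | h
    · exact absurd (inv_eq_zero.mp h) hN0
    · exact (map_eq_zero (starRingEnd ℂ)).mp h
  rw [IsIrrCharacter.sum_normal_mul N hβ g, h1, zero_mul, zero_div]

/-- **Gallagher's theorem**: if `χ` restricts irreducibly to the normal subgroup `N`, then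
`β ↦ β χ` is a bijection from `Irr(G/N)` (the irreducible characters over `1_N`) to the
irreducible characters over `χ_N`. -/
theorem gallagher_bijOn (N : Subgroup G) [hN : N.Normal] [Fintype N] {χ : G → ℂ}
    (hχ : IsIrrCharacter G χ) (hχN : IsIrrCharacter N (resFun N χ)) :
    Set.BijOn (fun β : G → ℂ => β * χ)
      {β | IsIrrCharacter G β ∧ classInner (indFun N (1 : N → ℂ)) β ≠ 0}
      {ψ | IsIrrCharacter G ψ ∧ classInner (indFun N (resFun N χ)) ψ ≠ 0} := by
  have hχcf : IsClassFunction G χ := IsCharacter.isClassFunction (IsIrrCharacter.isCharacter hχ)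
  have h1 : (1 : N → ℂ) * resFun N χ = resFun N χ := one_mul _
  have hinv1 : ∀ g : G, conjFun N g (1 : N → ℂ) = 1 := fun g => rfl
  have hinv2 : ∀ g : G, conjFun N g ((1 : N → ℂ) * resFun N χ) = (1 : N → ℂ) * resFun N χ := by
    intro g
    rw [h1]
    exact conjFun_resFun N hχcf g
  have := mul_bijOn N (isIrrCharacter_one N) hinv1 (by rw [h1]; exact hχN) hinv2 hχ rfl
  rwa [h1] at this

/-- The function `g ↦ |N|⁻¹ ∑_{n ∈ N} ψ(ng) conj χ(ng)`. -/
noncomputable def avgMulConj (N : Subgroup G) [Fintype N] (ψ χ : G → ℂ) : G → ℂ :=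
  fun g => (Nat.card N : ℂ)⁻¹ * ∑ n : N, ψ ((n : G) * g) * conj (χ ((n : G) * g))

theorem avgMulConj_isClassFunction (N : Subgroup G) [hN : N.Normal] [Fintype N] {ψ χ : G → ℂ}
    (hψ : IsClassFunction G ψ) (hχ : IsClassFunction G χ) :
    IsClassFunction G (avgMulConj N ψ χ) := by
  intro g h
  unfold avgMulConj
  congr 1
  apply Fintype.sum_equiv (MulAut.conjNormal h⁻¹ : N ≃* N).toEquiv
  intro n
  have e : ((MulAut.conjNormal h⁻¹ : N ≃* N).toEquiv n : G) * g = h⁻¹ * ((n : G) * (h * g * h⁻¹)) * h⁻¹⁻¹ := by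
    change (((MulAut.conjNormal h⁻¹ : N ≃* N) n : N) : G) * g = _
    rw [MulAut.conjNormal_apply]
    group
  rw [e, hψ, hχ]

/-- The inner product of `avgMulConj N ψ χ` with an irreducible character. -/
theorem classInner_avgMulConj (N : Subgroup G) [hN : N.Normal] [Fintype N] (ψ χ : G → ℂ)
    {γ : G → ℂ} (hγ : IsIrrCharacter G γ) :
    classInner (avgMulConj N ψ χ) γ =
      if classInner (indFun N (1 : N → ℂ)) γ ≠ 0 then classInner ψ (γ * χ) else 0 := by
  classical
  have hN0 : (Nat.card N : ℂ) ≠ 0 := by exact_mod_cast (Nat.card_pos (α := N)).ne'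
  have key : ∑ g : G, (∑ n : N, ψ ((n : G) * g) * conj (χ ((n : G) * g))) * conj (γ g) =
      ∑ g : G, ψ g * conj (χ g) * conj (∑ n : N, γ ((n : G) * g)) := by
    calc ∑ g : G, (∑ n : N, ψ ((n : G) * g) * conj (χ ((n : G) * g))) * conj (γ g)
        = ∑ g : G, ∑ n : N, ψ ((n : G) * g) * conj (χ ((n : G) * g)) * conj (γ g) := by
          apply Finset.sum_congr rfl; intro g _; rw [Finset.sum_mul]
      _ = ∑ n : N, ∑ g : G, ψ ((n : G) * g) * conj (χ ((n : G) * g)) * conj (γ g) :=
          Finset.sum_comm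
      _ = ∑ n : N, ∑ g : G, ψ g * conj (χ g) * conj (γ ((n : G)⁻¹ * g)) := by
          apply Finset.sum_congr rfl
          intro n _
          apply Fintype.sum_equiv (Equiv.mulLeft (n : G))
          intro g
          rw [Equiv.coe_mulLeft, inv_mul_cancel_left]
      _ = ∑ g : G, ∑ n : N, ψ g * conj (χ g) * conj (γ ((n : G)⁻¹ * g)) := Finset.sum_comm
      _ = ∑ g : G, ψ g * conj (χ g) * conj (∑ n : N, γ ((n : G) * g)) := by
          apply Finset.sum_congr rfl
          intro g _
          rw [map_sum, Finset.mul_sum]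
          apply Fintype.sum_equiv (Equiv.inv N)
          intro n
          rw [Equiv.inv_apply, Subgroup.coe_inv]
  unfold classInner avgMulConj
  have h1 : ∑ g : G, ((Nat.card N : ℂ)⁻¹ * ∑ n : N, ψ ((n : G) * g) * conj (χ ((n : G) * g))) *
      conj (γ g) = (Nat.card N : ℂ)⁻¹ *
        ∑ g : G, (∑ n : N, ψ ((n : G) * g) * conj (χ ((n : G) * g))) * conj (γ g) := by
    rw [Finset.mul_sum]
    apply Finset.sum_congr rfl
    intro g _
    rw [mul_assoc]
  rw [h1, key]
  split_ifs with hB
  · have h2 := (apply_mul_of_indFun_one_ne_zero N hγ hB).2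
    congr 1
    rw [Finset.mul_sum]
    apply Finset.sum_congr rfl
    intro g _
    rw [Finset.sum_congr rfl (fun n _ => h2 n g), Finset.sum_const, Finset.card_univ, nsmul_eq_mul,
      ← Nat.card_eq_fintype_card, map_mul, Complex.conj_natCast, Pi.mul_apply, map_mul]
    field_simp
  · rw [not_not] at hB
    rw [Finset.sum_eq_zero, mul_zero, mul_zero]
    intro g _
    rw [sum_normal_mul_eq_zero N hγ hB g, map_zero, mul_zero]

/-- **Gallagher, explicit form**: for `χ` restricting irreducibly to `N` and `ψ` irreducible,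
`avgMulConj N ψ χ` is the unique `β ∈ Irr(G/N)` with `β χ = ψ` if `ψ` lies over `χ_N`, and is zero
otherwise. -/
theorem gallagher_avg (N : Subgroup G) [hN : N.Normal] [Fintype N] {χ ψ : G → ℂ}
    (hχ : IsIrrCharacter G χ) (hχN : IsIrrCharacter N (resFun N χ)) (hψ : IsIrrCharacter G ψ) :
    (classInner (resFun N ψ) (resFun N χ) ≠ 0 →
        IsIrrCharacter G (avgMulConj N ψ χ) ∧ avgMulConj N ψ χ * χ = ψ ∧
          classInner (indFun N (1 : N → ℂ)) (avgMulConj N ψ χ) ≠ 0) ∧
      (classInner (resFun N ψ) (resFun N χ) = 0 → avgMulConj N ψ χ = 0) ∧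
      (ψ = χ → avgMulConj N ψ χ = 1) := by
  classical
  let _ := fintypeIrr G
  have hχcf : IsClassFunction G χ := IsCharacter.isClassFunction (IsIrrCharacter.isCharacter hχ)
  have hψcf : IsClassFunction G ψ := IsCharacter.isClassFunction (IsIrrCharacter.isCharacter hψ)
  have hbij := gallagher_bijOn N hχ hχN
  have hηcf := avgMulConj_isClassFunction N hψcf hχcf
  have hdec := classFunction_eq_sum hηcf
  have hover : classInner (indFun N (resFun N χ)) ψ = conj (classInner (resFun N ψ) (resFun N χ)) := by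
    rw [frobenius_reciprocity N _ hψcf, classInner_conj_symm]
    rfl
  have hcoef : ∀ γ : IrrCharacter G, classInner (avgMulConj N ψ χ) (γ : G → ℂ) =
      if classInner (indFun N (1 : N → ℂ)) (γ : G → ℂ) ≠ 0 ∧ (γ : G → ℂ) * χ = ψ then 1 else 0 := by
    intro γ
    rw [classInner_avgMulConj N ψ χ γ.2]
    by_cases hB : classInner (indFun N (1 : N → ℂ)) (γ : G → ℂ) ≠ 0
    · rw [if_pos hB]
      have hirr := (hbij.mapsTo ⟨γ.2, hB⟩).1
      rw [classInner_irr hψ hirr]
      by_cases he : (γ : G → ℂ) * χ = ψ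
      · rw [if_pos he.symm, if_pos ⟨hB, he⟩]
      · rw [if_neg (fun h => he h.symm), if_neg (fun h => he h.2)]
    · rw [if_neg hB, if_neg (fun h => hB h.1)]
  have hcase1 : classInner (resFun N ψ) (resFun N χ) ≠ 0 →
      ∃ β₀ : IrrCharacter G, classInner (indFun N (1 : N → ℂ)) (β₀ : G → ℂ) ≠ 0 ∧
        (β₀ : G → ℂ) * χ = ψ ∧ avgMulConj N ψ χ = (β₀ : G → ℂ) := by
    intro h0
    have hmem : ψ ∈ {ψ | IsIrrCharacter G ψ ∧ classInner (indFun N (resFun N χ)) ψ ≠ 0} := by
      refine ⟨hψ, ?_⟩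
      rw [hover]
      intro h
      exact h0 ((map_eq_zero (starRingEnd ℂ)).mp h)
    obtain ⟨β₀, ⟨hβ₀, hβ₀B⟩, hβ₀ψ⟩ := hbij.surjOn hmem
    refine ⟨⟨β₀, hβ₀⟩, hβ₀B, hβ₀ψ, ?_⟩
    rw [hdec, Finset.sum_eq_single ⟨β₀, hβ₀⟩]
    · rw [hcoef, if_pos ⟨hβ₀B, hβ₀ψ⟩, one_smul]
    · intro γ _ hγ
      rw [hcoef, if_neg, zero_smul]
      rintro ⟨hγB, hγψ⟩
      apply hγ
      apply Subtype.ext
      exact hbij.injOn ⟨γ.2, hγB⟩ ⟨hβ₀, hβ₀B⟩ (hγψ.trans hβ₀ψ.symm)
    · intro h; exact absurd (Finset.mem_univ _) h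
  refine ⟨?_, ?_, ?_⟩
  · intro h0
    obtain ⟨β₀, hB, hmul, heq⟩ := hcase1 h0
    rw [heq]
    exact ⟨β₀.2, hmul, hB⟩
  · intro h0
    rw [hdec]
    apply Finset.sum_eq_zero
    intro γ _
    rw [hcoef, if_neg, zero_smul]
    rintro ⟨hγB, hγψ⟩
    have h1 := (hbij.mapsTo ⟨γ.2, hγB⟩).2
    change classInner (indFun N (resFun N χ)) ((γ : G → ℂ) * χ) ≠ 0 at h1
    rw [hγψ, hover, h0, map_zero] at h1
    exact h1 rfl
  · intro hψχ
    have h0 : classInner (resFun N ψ) (resFun N χ) ≠ 0 := by
      rw [hψχ, classInner_irr hχN hχN, if_pos rfl]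
      exact one_ne_zero
    obtain ⟨β₀, hB, hmul, heq⟩ := hcase1 h0
    rw [heq]
    have h1B : classInner (indFun N (1 : N → ℂ)) (1 : G → ℂ) ≠ 0 := by
      rw [frobenius_reciprocity N _
        (IsCharacter.isClassFunction (IsIrrCharacter.isCharacter (isIrrCharacter_one G)))]
      have : (fun h : N => (1 : G → ℂ) h) = (1 : N → ℂ) := rfl
      rw [this, classInner_irr (isIrrCharacter_one N) (isIrrCharacter_one N), if_pos rfl]
      exact one_ne_zero
    exact hbij.injOn ⟨β₀.2, hB⟩ ⟨isIrrCharacter_one G, h1B⟩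
      (by change (β₀ : G → ℂ) * χ = 1 * χ; rw [hmul, one_mul, hψχ])

end Cfsg.Agent.Lib.Helper6
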