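/-
helper6: blocks and normal subgroups of order prime to p.  For a normal subgroup `N` and an
irreducible character `θ` of `N`, the orbit sum of the central idempotents of the conjugates of
`θ` gives a class function of `G` on which the central character functional of `χ` takes the value
`|N|` or `0` according as `θ` occurs in `χ_N` or not.  Hence characters in the same p-block
have the same constituents on a normal p'-subgroup.
-/
import Mathlib
import Cfsg.Agent.Lib.Helper6.Osima
import Cfsg.Agent.Lib.Helper6.Clifford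
import Cfsg.Agent.Lib.Helper6.IndFun
import Cfsg.Agent.Lib.Helper6.CharExtra2
import Cfsg.Agent.Lib.Helper24.IrrFacts
import Cfsg.Agent.Lib.Helper24.LocalRing

set_option autoImplicit false

namespace Cfsg.Agent.Lib.Helper6

open Cfsg Cfsg.Agent.CharLib Cfsg.Agent.Lib.Helper24
open scoped ComplexConjugate

universe u

section orbit

variable {G : Type u} [Group G] [Fintype G] (N : Subgroup G) [hN : N.Normal]

/-- The sum of the `G`-conjugates of a function on the normal subgroup `N`. -/
noncomputable def orbitSum (θ : N → ℂ) : N → ℂ := ∑ ψ ∈ conjOrbit N θ, ψ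

theorem conjFun_orbitSum (x : G) (θ : N → ℂ) : conjFun N x (orbitSum N θ) = orbitSum N θ := by
  unfold orbitSum
  rw [conjFun_sum]
  apply Finset.sum_nbij' (conjFun N x) (conjFun N x⁻¹)
  · intro ψ hψ
    obtain ⟨g, rfl⟩ := (mem_conjOrbit N).mp hψ
    exact (mem_conjOrbit N).mpr ⟨g * x, conjFun_mul N g x θ⟩
  · intro ψ hψ
    obtain ⟨g, rfl⟩ := (mem_conjOrbit N).mp hψ
    exact (mem_conjOrbit N).mpr ⟨g * x⁻¹, conjFun_mul N g x⁻¹ θ⟩
  · intro ψ _
    exact conjFun_inv_conjFun N x ψ
  · intro ψ _
    exact conjFun_conjFun_inv N x ψ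
  · intro ψ _
    rfl

/-- The class function of `G` supported on `N` given by `θ(1)` times the conjugate of the
orbit sum of `θ`. -/
noncomputable def orbitFun (θ : N → ℂ) : G → ℂ :=
  extendByZero N (fun n => θ 1 * conj (orbitSum N θ n))

theorem orbitFun_isClassFunction (θ : N → ℂ) : IsClassFunction G (orbitFun N θ) := by
  intro g h
  unfold orbitFun
  by_cases hg : g ∈ N
  · have hg' : h * g * h⁻¹ ∈ N := hN.conj_mem g hg h
    rw [extendByZero_mem N _ hg, extendByZero_mem N _ hg']
    have h1 := congrFun (conjFun_orbitSum N h θ) ⟨g, hg⟩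
    rw [conjFun_apply] at h1
    rw [← h1]
  · have hg' : h * g * h⁻¹ ∉ N := by
      intro hc
      apply hg
      have := hN.conj_mem _ hc h⁻¹
      simpa [mul_assoc] using this
    rw [extendByZero_not_mem N _ hg, extendByZero_not_mem N _ hg']

theorem orbitFun_memLocalRing {M : Ideal AlgInt} [hp : M.IsPrime] {θ : N → ℂ}
    (hθ : IsIrrCharacter N θ) (g : G) : MemLocalRing M (orbitFun N θ g) := by
  have hM1 : (1 : AlgInt) ∉ M := fun h => hp.ne_top ((Ideal.eq_top_iff_one M).mpr h)
  unfold orbitFun
  by_cases hg : g ∈ N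
  · rw [extendByZero_mem N _ hg]
    have h1 : IsIntegral ℤ (θ 1 * conj (orbitSum N θ ⟨g, hg⟩)) := by
      apply IsIntegral.mul (irr_isIntegral ⟨θ, hθ⟩ 1)
      unfold orbitSum
      rw [Finset.sum_apply, map_sum]
      apply IsIntegral.sum
      intro ψ hψ
      obtain ⟨x, rfl⟩ := (mem_conjOrbit N).mp hψ
      have h2 := irr_isIntegral ⟨_, isIrrCharacter_conjFun N hθ x⟩ ⟨g, hg⟩
      exact h2.map (starRingEnd ℂ).toIntAlgHom
    exact memLocalRing_of_algInt ⟨_, h1⟩ hM1
  · rw [extendByZero_not_mem N _ hg]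
    exact memLocalRing_zero

/-- The value of the central character functional on the orbit function. -/
theorem omegaFun_orbitFun [Fintype N] {χ : G → ℂ} (hχ : IsIrrCharacter G χ) {θ : N → ℂ}
    (hθ : IsIrrCharacter N θ) :
    omegaFun χ (orbitFun N θ) =
      if classInner (resFun N χ) θ ≠ 0 then (Nat.card N : ℂ) else 0 := by
  classical
  have hcls : IsClassFunction G χ := IsCharacter.isClassFunction (IsIrrCharacter.isCharacter hχ)
  have h0 : (Nat.card N : ℂ) ≠ 0 := Nat.cast_ne_zero.mpr Nat.card_pos.ne'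
  have hsum : ∑ g : G, orbitFun N θ g * χ g =
      θ 1 * ∑ ψ ∈ conjOrbit N θ, (Nat.card N : ℂ) * classInner (resFun N χ) ψ := by
    rw [sum_eq_sum_subgroup_add N]
    have hz : ∑ g ∈ Finset.univ.filter (fun g : G => g ∉ N), orbitFun N θ g * χ g = 0 := by
      apply Finset.sum_eq_zero
      intro g hg
      have hg' : g ∉ N := (Finset.mem_filter.mp hg).2
      unfold orbitFun
      rw [extendByZero_not_mem N _ hg', zero_mul]
    rw [hz, add_zero]
    have h1 : ∀ n : N, orbitFun N θ n * χ n =
        θ 1 * ∑ ψ ∈ conjOrbit N θ, χ n * conj (ψ n) := by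
      intro n
      unfold orbitFun
      rw [extendByZero_coe, orbitSum, Finset.sum_apply, map_sum, mul_assoc, Finset.sum_mul]
      congr 1
      apply Finset.sum_congr rfl
      intro ψ _
      ring
    rw [Finset.sum_congr rfl (fun n _ => h1 n), ← Finset.mul_sum, Finset.sum_comm]
    congr 1
    apply Finset.sum_congr rfl
    intro ψ _
    unfold classInner
    rw [← mul_assoc, mul_inv_cancel₀ h0, one_mul]
    rfl
  unfold omegaFun
  rw [hsum]
  have hconst : ∀ ψ ∈ conjOrbit N θ, classInner (resFun N χ) ψ = classInner (resFun N χ) θ := by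
    intro ψ hψ
    obtain ⟨x, rfl⟩ := (mem_conjOrbit N).mp hψ
    exact classInner_resFun_conjFun N hcls x θ
  rw [Finset.sum_congr rfl (fun ψ hψ => by rw [hconst ψ hψ]), Finset.sum_const, nsmul_eq_mul]
  split_ifs with h
  · have hd := clifford_degree N hχ hθ h
    have hχ1 : χ 1 ≠ 0 := irr_apply_one_ne_zero ⟨χ, hχ⟩
    rw [div_eq_iff hχ1, hd]
    ring
  · push Not at h
    rw [h]
    simp

end orbit

section block

variable {G : Type u} [Group G] [Fintype G]

/-- Characters in the same `p`-block have the same irreducible constituents on a normal subgroup of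
order prime to `p`. -/
theorem constituent_iff_of_sameBlock {p : ℕ} {M : Ideal AlgInt}
    (hM : IsPModular p M) (N : Subgroup G) [N.Normal] [Fintype N] (hNp : ¬ p ∣ Nat.card N)
    (χ ψ : IrrCharacter G) (h : SameBlock M (χ : G → ℂ) (ψ : G → ℂ)) {θ : N → ℂ}
    (hθ : IsIrrCharacter N θ) :
    classInner (resFun N (χ : G → ℂ)) θ ≠ 0 ↔ classInner (resFun N (ψ : G → ℂ)) θ ≠ 0 := by
  have : M.IsPrime := isPrime_of_isPModular hM
  have hkey := memLocalIdeal_omegaFun_sub χ ψ h (orbitFun_isClassFunction N θ)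
    (fun x => orbitFun_memLocalRing (M := M) N hθ x)
  rw [omegaFun_orbitFun N χ.2 hθ, omegaFun_orbitFun N ψ.2 hθ] at hkey
  have hcard : ¬ MemLocalIdeal M (Nat.card N : ℂ) := by
    intro hc
    have h1 : ((Nat.card N : AlgInt) : ℂ) = (Nat.card N : ℂ) := by simp
    rw [← h1, memLocalIdeal_coe_iff] at hc
    exact natCast_not_mem_of_not_dvd hM hNp hc
  by_cases h1 : classInner (resFun N (χ : G → ℂ)) θ ≠ 0 <;>
    by_cases h2 : classInner (resFun N (ψ : G → ℂ)) θ ≠ 0
  · exact ⟨fun _ => h2, fun _ => h1⟩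
  · rw [if_pos h1, if_neg h2, sub_zero] at hkey
    exact absurd hkey hcard
  · rw [if_neg h1, if_pos h2, zero_sub] at hkey
    have := memLocalIdeal_neg hkey
    rw [neg_neg] at this
    exact absurd this hcard
  · exact ⟨fun h => absurd h h1, fun h => absurd h h2⟩

end block

end Cfsg.Agent.Lib.Helper6
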