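/-
helper6: blocks and quotient groups.  Inflation from `G ⧸ N` preserves the relation "same block";
deflation of irreducible characters with `N` in the kernel; the principal block of a group with a
normal p-complement.
-/
import Mathlib
import Cfsg.Agent.Lib.Helper6.NormalBlock
import Cfsg.Agent.Lib.Helper6.OneBlock
import Cfsg.Agent.Lib.Helper6.Gallagher2
import Cfsg.Agent.Lib.Helper24.Deflation

set_option autoImplicit false

namespace Cfsg.Agent.Lib.Helper6

open Cfsg Cfsg.Agent.CharLib Cfsg.Agent.Lib.Helper24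
open scoped ComplexConjugate

universe u

section quot

variable {G : Type u} [Group G] (N : Subgroup G) [hN : N.Normal]

/-- The class size in the quotient divides the class size in the group. -/
theorem index_centralizer_mk_dvd (g : G) :
    (Subgroup.centralizer ({(g : G ⧸ N)} : Set (G ⧸ N))).index ∣
      (Subgroup.centralizer ({g} : Set G)).index := by
  have h1 : Subgroup.centralizer ({g} : Set G) ≤
      (Subgroup.centralizer ({(g : G ⧸ N)} : Set (G ⧸ N))).comap (QuotientGroup.mk' N) := by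
    intro x hx
    rw [Subgroup.mem_comap, Subgroup.mem_centralizer_singleton_iff]
    rw [Subgroup.mem_centralizer_singleton_iff] at hx
    change ((x : G ⧸ N)) * (g : G ⧸ N) = (g : G ⧸ N) * (x : G ⧸ N)
    rw [← QuotientGroup.mk_mul, ← QuotientGroup.mk_mul, hx]
  have h2 := Subgroup.index_dvd_of_le h1
  rwa [Subgroup.index_comap_of_surjective _ (QuotientGroup.mk'_surjective N)] at h2

/-- Inflation preserves the relation of lying in the same block. -/
theorem sameBlock_inflate {M : Ideal AlgInt} [hp : M.IsPrime] (β β' : G ⧸ N → ℂ)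
    (h : SameBlock M β β') :
    SameBlock M (fun g : G => β (g : G ⧸ N)) (fun g : G => β' (g : G ⧸ N)) := by
  intro g
  obtain ⟨m, hm⟩ := index_centralizer_mk_dvd N g
  have h1 := h (g : G ⧸ N)
  unfold centralChar at h1 ⊢
  have h2 : ((Subgroup.centralizer ({g} : Set G)).index : ℂ) * β (g : G ⧸ N) / β ((1 : G) : G ⧸ N) -
      ((Subgroup.centralizer ({g} : Set G)).index : ℂ) * β' (g : G ⧸ N) / β' ((1 : G) : G ⧸ N) =
      (m : ℂ) * (((Subgroup.centralizer ({(g : G ⧸ N)} : Set (G ⧸ N))).index : ℂ) * β (g : G ⧸ N)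
        / β 1 - ((Subgroup.centralizer ({(g : G ⧸ N)} : Set (G ⧸ N))).index : ℂ) * β' (g : G ⧸ N)
        / β' 1) := by
    rw [hm, QuotientGroup.mk_one]
    push_cast
    ring
  rw [h2]
  exact memLocalIdeal_mul_left (memLocalRing_natCast m) h1

/-- An irreducible character with `N` in its kernel is inflated from an irreducible character of the
quotient. -/
theorem exists_deflation [Finite G] (χ : IrrCharacter G)
    (h : ∀ n ∈ N, (χ : G → ℂ) n = (χ : G → ℂ) 1) :
    ∃ β : IrrCharacter (G ⧸ N), ∀ g : G, (β : G ⧸ N → ℂ) (g : G ⧸ N) = (χ : G → ℂ) g := by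
  obtain ⟨n, ρ, hirr, hρ⟩ := χ.2
  have h1 : ∀ x ∈ N, ρ.character x = (Module.finrank ℂ (Fin n → ℂ) : ℂ) := by
    intro x hx
    rw [hρ, h x hx, ← hρ]
    simp [Representation.character]
  have hN' : ∀ x ∈ N, ρ x = 1 := fun x hx => rep_eq_one_of_char_eq_finrank ρ x (h1 x hx)
  have hirr' := deflate_isIrreducible N ρ hN'
  refine ⟨⟨(deflate N ρ hN').character, n, deflate N ρ hN', hirr', rfl⟩, ?_⟩
  intro g
  change (deflate N ρ hN').character (g : G ⧸ N) = _
  rw [deflate_character, hρ]

end quot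

section pcomplement

variable {G : Type u} [Group G] [Finite G]

/-- If `G ⧸ N` is a `p`-group, every irreducible character with `N` in its kernel lies in the
principal block. -/
theorem sameBlock_one_of_le_ker {p : ℕ} [hp : Fact p.Prime] {M : Ideal AlgInt}
    (hM : IsPModular p M) (N : Subgroup G) [N.Normal] (hNp : IsPGroup p (G ⧸ N))
    (χ : IrrCharacter G) (h : ∀ n ∈ N, (χ : G → ℂ) n = (χ : G → ℂ) 1) :
    SameBlock M (fun _ : G => (1 : ℂ)) (χ : G → ℂ) := by
  have hprime : M.IsPrime := isPrime_of_isPModular hM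
  obtain ⟨β, hβ⟩ := exists_deflation N χ h
  have hQ : IsPGroup p (⊤ : Subgroup (G ⧸ N)) := fun x => by
    obtain ⟨k, hk⟩ := hNp x.1
    exact ⟨k, Subtype.ext hk⟩
  have h1 := sameBlock_of_centralizer_le hM (⊤ : Subgroup (G ⧸ N)) hQ le_top
    ⟨(1 : G ⧸ N → ℂ), isIrrCharacter_one (G ⧸ N)⟩ β
  have h2 := sameBlock_inflate N _ _ h1
  have h3 : (fun g : G => (β : G ⧸ N → ℂ) (g : G ⧸ N)) = (χ : G → ℂ) := funext hβ
  rw [h3] at h2
  exact h2

/-- Conversely (for any normal `p'`-subgroup), characters in the principal block have `N` in the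
kernel. -/
theorem le_ker_of_sameBlock_one {p : ℕ} {M : Ideal AlgInt}
    (hM : IsPModular p M) (N : Subgroup G) [N.Normal] (hNp : ¬ p ∣ Nat.card N)
    (χ : IrrCharacter G) (h : SameBlock M (fun _ : G => (1 : ℂ)) (χ : G → ℂ)) :
    ∀ n ∈ N, (χ : G → ℂ) n = (χ : G → ℂ) 1 := by
  classical
  let _ := Fintype.ofFinite G
  let _ := Fintype.ofFinite N
  have h1 := (constituent_iff_of_sameBlock hM N hNp ⟨(1 : G → ℂ), isIrrCharacter_one G⟩ χ h
    (isIrrCharacter_one N)).mp (by
      have h2 : resFun N (1 : G → ℂ) = (1 : N → ℂ) := rfl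
      rw [h2, classInner_irr (isIrrCharacter_one N) (isIrrCharacter_one N), if_pos rfl]
      exact one_ne_zero)
  have h3 := clifford_of_invariant N χ.2 (isIrrCharacter_one N) h1 (fun g => rfl)
  intro n hn
  have h4 := congrFun h3 ⟨n, hn⟩
  have h5 := congrFun h3 1
  rw [resFun_apply] at h4 h5
  rw [Pi.smul_apply] at h4 h5
  change (χ : G → ℂ) n = _ at h4
  change (χ : G → ℂ) 1 = _ at h5
  rw [h4, h5]
  rfl

end pcomplement

end Cfsg.Agent.Lib.Helper6
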