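/-
helper6: a right-invertible `r × κ` matrix over a field has an invertible `r × r` column minor.
-/
import Mathlib

set_option autoImplicit false

namespace Cfsg.Agent.Lib.Helper6.SepClasses

/-- If `P * Q = 1` for an `r × κ` matrix `P` over a field, then some `r` distinct columns of `P`
form an invertible square matrix. -/
theorem exists_injective_det_ne_zero {F : Type*} [Field F] {r : ℕ} {κ : Type*} [Fintype κ]
    [DecidableEq κ] (P : Matrix (Fin r) κ F) (Q : Matrix κ (Fin r) F) (h : P * Q = 1) :
    ∃ f : Fin r → κ, Function.Injective f ∧ (Matrix.of fun i j => P j (f i)).det ≠ 0 := by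
  classical
  let v : κ → (Fin r → F) := fun k j => P j k
  have hspan : Submodule.span F (Set.range v) = ⊤ := by
    rw [eq_top_iff]
    intro w _
    have h1 : w = ∑ k, (Q.mulVec w) k • v k := by
      have h2 : P.mulVec (Q.mulVec w) = w := by
        rw [Matrix.mulVec_mulVec, h, Matrix.one_mulVec]
      ext j
      have h3 := congrFun h2 j
      rw [← h3]
      simp only [Finset.sum_apply, Pi.smul_apply, smul_eq_mul, v]
      rw [Matrix.mulVec, dotProduct]
      apply Finset.sum_congr rfl
      intro k _
      rw [mul_comm]
    rw [h1]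
    exact Submodule.sum_mem _ (fun k _ => Submodule.smul_mem _ _ (Submodule.subset_span ⟨k, rfl⟩))
  obtain ⟨f, hf1, hf2, hf3⟩ := Submodule.exists_fun_fin_finrank_span_eq F (Set.range v)
  have hn : Module.finrank F (Submodule.span F (Set.range v)) = r := by
    rw [hspan, finrank_top, Module.finrank_fin_fun]
  revert f
  rw [hn]
  intro f hf1 hf2 hf3
  choose k hk using hf1
  refine ⟨k, ?_, ?_⟩
  · intro i j hij
    apply hf3.injective
    rw [← hk i, ← hk j, hij]
  · have h1 : (Matrix.of fun i j => P j (k i)) = Matrix.of f := by
      ext i j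
      simp only [Matrix.of_apply]
      rw [← hk i]
    rw [h1]
    have h2 : IsUnit (Matrix.of f) := by
      rw [← Matrix.linearIndependent_rows_iff_isUnit]
      exact hf3
    exact ((Matrix.isUnit_iff_isUnit_det _).mp h2).ne_zero

end Cfsg.Agent.Lib.Helper6.SepClasses
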