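/-
helper6: the residue field of the local ring at `M`, and the minor-extraction lemma modulo `M`.
-/
import Mathlib
import Cfsg.Agent.Lib.Helper23.RankModM
import Cfsg.Agent.Lib.Helper6.MinorExists

set_option autoImplicit false

namespace Cfsg.Agent.Lib.Helper6.SepClasses

open Cfsg Cfsg.Agent.Lib.Helper24

section

variable (M : Ideal AlgInt) [hp : M.IsPrime]

/-- The local ideal is maximal in the local ring. -/
theorem localIdeal_isMaximal : (Helper23.localIdeal M).IsMaximal := by
  rw [Ideal.isMaximal_iff]
  refine ⟨fun h => not_memLocalIdeal_one (M := M) h, ?_⟩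
  intro J x _ hx hxJ
  have hx' : ¬ MemLocalIdeal M (x : ℂ) := hx
  have hinv : MemLocalRing M ((x : ℂ))⁻¹ := Helper6.memLocalRing_inv x.2 hx'
  have hne : (x : ℂ) ≠ 0 := by
    intro h0
    apply hx'
    rw [h0]
    exact memLocalIdeal_zero hp.one_notMem
  have h1 : (1 : Helper23.localSubring M) = ⟨(x : ℂ)⁻¹, hinv⟩ * x := by
    apply Subtype.ext
    change (1 : ℂ) = (x : ℂ)⁻¹ * (x : ℂ)
    rw [inv_mul_cancel₀ hne]
  rw [h1]
  exact J.mul_mem_left _ hxJ

/-- The residue field of the local ring at `M`. -/
abbrev ResF : Type := Helper23.localSubring M ⧸ Helper23.localIdeal M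

noncomputable instance resFField : Field (ResF M) :=
  @Ideal.Quotient.field _ _ (Helper23.localIdeal M) (localIdeal_isMaximal M)

/-- Reduction modulo the local ideal. -/
noncomputable def resMk : Helper23.localSubring M →+* ResF M :=
  Ideal.Quotient.mk (Helper23.localIdeal M)

variable {M}

theorem resMk_eq_zero_iff (z : Helper23.localSubring M) :
    resMk M z = 0 ↔ MemLocalIdeal M (z : ℂ) := by
  unfold resMk
  rw [Ideal.Quotient.eq_zero_iff_mem]
  rfl

theorem resMk_eq_iff (z w : Helper23.localSubring M) :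
    resMk M z = resMk M w ↔ MemLocalIdeal M ((z : ℂ) - (w : ℂ)) := by
  rw [← sub_eq_zero, ← map_sub, resMk_eq_zero_iff]
  rfl

/-- Membership of a determinant in the local ideal, read in the residue field. -/
theorem memLocalIdeal_det_iff {n : Type*} [Fintype n] [DecidableEq n] (A : n → n → ℂ)
    (hA : ∀ i j, MemLocalRing M (A i j)) :
    MemLocalIdeal M (Matrix.det (Matrix.of A)) ↔
      Matrix.det (Matrix.of fun i j => resMk M ⟨A i j, hA i j⟩) = 0 := by
  let A' : Matrix n n (Helper23.localSubring M) := Matrix.of fun i j => ⟨A i j, hA i j⟩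
  have h1 : Matrix.det (Matrix.of A) = ((Matrix.det A' : Helper23.localSubring M) : ℂ) := by
    have := RingHom.map_det (Helper23.localSubring M).subtype A'
    rw [Subring.coe_subtype] at this
    rw [this]
    congr 1
  have h2 : (Matrix.of fun i j => resMk M ⟨A i j, hA i j⟩) = (resMk M).mapMatrix A' := by
    ext i j
    rfl
  rw [h1, h2, ← RingHom.map_det, resMk_eq_zero_iff]

/-- **Minor extraction modulo `M`**: if `P Qᵀ ≡ 1` modulo the local ideal, with `P`, `Q` of shape
`r × κ` over the local ring, then some `r` columns of `P` give a matrix which stays invertible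
modulo the local ideal, and so does any matrix congruent to it. -/
theorem exists_injective_det_not_memLocalIdeal {r : ℕ} {κ : Type*} [Fintype κ] [DecidableEq κ]
    (P Q : Fin r → κ → ℂ) (hP : ∀ j k, MemLocalRing M (P j k))
    (hQ : ∀ i k, MemLocalRing M (Q i k))
    (h : ∀ i j, MemLocalIdeal M ((∑ k, P j k * Q i k) - if j = i then 1 else 0)) :
    ∃ f : Fin r → κ, Function.Injective f ∧
      ∀ A : Fin r → Fin r → ℂ, (∀ i j, MemLocalIdeal M (A i j - P j (f i))) →
        ¬ MemLocalIdeal M (Matrix.det (Matrix.of A)) := by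
  classical
  let P' : Matrix (Fin r) κ (ResF M) := Matrix.of fun j k => resMk M ⟨P j k, hP j k⟩
  let Q' : Matrix κ (Fin r) (ResF M) := Matrix.of fun k i => resMk M ⟨Q i k, hQ i k⟩
  have hmul : P' * Q' = 1 := by
    ext j i
    rw [Matrix.mul_apply, Matrix.one_apply]
    have h1 : ∑ k, P' j k * Q' k i = resMk M
        (∑ k, (⟨P j k, hP j k⟩ : Helper23.localSubring M) * ⟨Q i k, hQ i k⟩) := by
      rw [map_sum]
      apply Finset.sum_congr rfl
      intro k _
      rw [map_mul]
      rfl
    rw [h1]
    have h2 : (if j = i then (1 : ResF M) else 0) =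
        resMk M (if j = i then 1 else 0) := by
      split_ifs <;> simp
    rw [h2, resMk_eq_iff]
    have h3 : (((∑ k, (⟨P j k, hP j k⟩ : Helper23.localSubring M) * ⟨Q i k, hQ i k⟩ :
        Helper23.localSubring M) : ℂ) - ((if j = i then (1 : Helper23.localSubring M) else 0 :
        Helper23.localSubring M) : ℂ)) = (∑ k, P j k * Q i k) - if j = i then 1 else 0 := by
      push_cast
      congr 1
      split_ifs <;> simp
    rw [h3]
    exact h i j
  obtain ⟨f, hf, hdet⟩ := exists_injective_det_ne_zero P' Q' hmul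
  refine ⟨f, hf, ?_⟩
  intro A hA hmem
  have hAR : ∀ i j, MemLocalRing M (A i j) := by
    intro i j
    have h1 := memLocalRing_add (memLocalRing_of_memLocalIdeal (hA i j)) (hP j (f i))
    rwa [sub_add_cancel] at h1
  rw [memLocalIdeal_det_iff A hAR] at hmem
  apply hdet
  rw [← hmem]
  congr 1
  ext i j
  simp only [Matrix.of_apply, P']
  rw [resMk_eq_iff]
  have := hA i j
  have h2 := memLocalIdeal_neg this
  rwa [neg_sub] at h2

end

end Cfsg.Agent.Lib.Helper6.SepClasses
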