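/-
helper6: central characters at the function level; irreducible characters trivial on the
commutator subgroup are linear.
-/
import Mathlib
import Cfsg.Agent.Lib.Lead.CharBurnside
import Cfsg.Agent.Lib.Helper24.CentralElt
import Cfsg.Agent.Lib.Helper24.Deflation

set_option autoImplicit false

namespace Cfsg.Agent.Lib.Helper6

open Cfsg Cfsg.Agent.CharLib Cfsg.Agent.Lib.Helper24 Module
open scoped commutatorElement

universe u v

variable {G : Type u} [Group G]

/-- An irreducible representation with pairwise commuting operators is one-dimensional. -/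
theorem finrank_eq_one_of_forall_comm {V : Type v} [AddCommGroup V] [Module ℂ V]
    [FiniteDimensional ℂ V] (ρ : Representation ℂ G V) [hirr : ρ.IsIrreducible]
    (h : ∀ g k : G, ρ g ∘ₗ ρ k = ρ k ∘ₗ ρ g) : finrank ℂ V = 1 := by
  have hV : Nontrivial V := nontrivial_of_isIrreducible ρ
  have hsc : ∀ g : G, ∃ c : ℂ, ρ g = c • (1 : Module.End ℂ V) :=
    fun g => exists_eq_smul_one_of_comm ρ (ρ g) (fun k => h g k)
  obtain ⟨v, hv⟩ := exists_ne (0 : V)
  let W : Subrepresentation ρ := ⟨Submodule.span ℂ {v}, by
    intro g w hw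
    obtain ⟨c, hc⟩ := hsc g
    rw [hc]
    exact Submodule.smul_mem _ c hw⟩
  have hW : W = ⊤ := by
    rcases hirr.eq_bot_or_eq_top W with h1 | h1
    · exfalso
      have : v ∈ W.toSubmodule := Submodule.mem_span_singleton_self v
      rw [h1] at this
      exact hv ((Submodule.mem_bot ℂ).mp this)
    · exact h1
  have hspan : Submodule.span ℂ {v} = ⊤ := congrArg Subrepresentation.toSubmodule hW
  have := finrank_span_singleton (K := ℂ) hv
  rw [hspan, finrank_top] at this
  exact this

/-- An irreducible character whose kernel contains all commutators has degree one. -/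
theorem IsIrrCharacter.apply_one_eq_one_of_commutator [Finite G] {χ : G → ℂ}
    (hχ : IsIrrCharacter G χ) (h : ∀ g k : G, χ ⁅g, k⁆ = χ 1) : χ 1 = 1 := by
  obtain ⟨n, ρ, hirr, rfl⟩ := hχ
  have hone : ∀ g k : G, ρ ⁅g, k⁆ = 1 := by
    intro g k
    apply rep_eq_one_of_char_eq_finrank
    rw [h g k, Representation.char_one]
  have hcomm : ∀ g k : G, ρ g ∘ₗ ρ k = ρ k ∘ₗ ρ g := by
    intro g k
    rw [← Module.End.mul_eq_comp, ← Module.End.mul_eq_comp, ← map_mul, ← map_mul]
    have : g * k = ⁅g, k⁆ * (k * g) := by rw [commutatorElement_def]; group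
    rw [this, map_mul, hone, one_mul]
  have := finrank_eq_one_of_forall_comm ρ hcomm
  rw [Representation.char_one, this]
  norm_num

/-- The central character of an irreducible character, at the function level. -/
theorem IsIrrCharacter.exists_central_hom [Finite G] {χ : G → ℂ} (hχ : IsIrrCharacter G χ) :
    ∃ c : Subgroup.center G →* ℂ, (∀ (z : Subgroup.center G) (g : G), χ ((z : G) * g) = c z * χ g) ∧
      (∀ z : Subgroup.center G, ‖c z‖ = 1) := by
  obtain ⟨n, ρ, hirr, rfl⟩ := hχ
  have hV : Nontrivial (Fin n → ℂ) := nontrivial_of_isIrreducible ρ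
  have hone : (1 : Module.End ℂ (Fin n → ℂ)) ≠ 0 := one_ne_zero
  choose c hc using fun z : Subgroup.center G => exists_central_scalar ρ (z : G) z.2
  have hinj : ∀ a b : ℂ, a • (1 : Module.End ℂ (Fin n → ℂ)) = b • 1 → a = b := by
    intro a b hab
    rw [← Algebra.algebraMap_eq_smul_one, ← Algebra.algebraMap_eq_smul_one] at hab
    exact (algebraMap ℂ (Module.End ℂ (Fin n → ℂ))).injective hab
  let cm : Subgroup.center G →* ℂ :=
    { toFun := c
      map_one' := by
        apply hinj
        rw [← hc, one_smul]
        exact map_one ρ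
      map_mul' := by
        intro z w
        apply hinj
        rw [← hc, Subgroup.coe_mul, map_mul, hc z, hc w, smul_mul_smul_comm, one_mul] }
  refine ⟨cm, ?_, ?_⟩
  · intro z g
    exact char_scalar_mul ρ (z : G) (c z) (hc z) g
  · intro z
    have hpow : cm z ^ orderOf z = 1 := by
      rw [← map_pow, pow_orderOf_eq_one, map_one]
    have hpos : 0 < orderOf z := orderOf_pos z
    have h2 : ‖cm z‖ ^ orderOf z = 1 := by rw [← norm_pow, hpow, norm_one]
    exact (pow_eq_one_iff_of_nonneg (norm_nonneg _) hpos.ne').mp h2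

end Cfsg.Agent.Lib.Helper6
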