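/-
helper6: the Clifford correspondence at the function level.
-/
import Mathlib
import Cfsg.Agent.Lib.Helper6.Clifford
import Cfsg.Agent.Lib.Helper6.CharExtra

set_option autoImplicit false

namespace Cfsg.Agent.Lib.Helper6

open Cfsg Cfsg.Agent.CharLib
open scoped ComplexConjugate

universe u

variable {G : Type u} [Group G]

/-! ### Transport between `H` and `H.subgroupOf T` -/

section transport

/-- Restriction from a subgroup `T` to a smaller subgroup `H`. -/
def resLE {H T : Subgroup G} (hHT : H ≤ T) : (T → ℂ) →ₗ[ℂ] (H → ℂ) where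
  toFun ψ := fun n : H => ψ ⟨n, hHT n.2⟩
  map_add' _ _ := rfl
  map_smul' _ _ := rfl

theorem resLE_apply {H T : Subgroup G} (hHT : H ≤ T) (ψ : T → ℂ) (n : H) :
    resLE hHT ψ n = ψ ⟨n, hHT n.2⟩ := rfl

theorem resLE_resFun {H T : Subgroup G} (hHT : H ≤ T) (χ : G → ℂ) :
    resLE hHT (resFun T χ) = resFun H χ := rfl

theorem isCharacter_resLE {H T : Subgroup G} (hHT : H ≤ T) {ψ : T → ℂ} (hψ : IsCharacter T ψ) :
    IsCharacter H (resLE hHT ψ) :=
  IsCharacter.comp_hom hψ (Subgroup.inclusion hHT)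

theorem classInner_comp_mulEquiv {A B : Type*} [Group A] [Group B] [Fintype A] [Fintype B]
    (e : A ≃* B) (f g : B → ℂ) : classInner (f ∘ e) (g ∘ e) = classInner f g := by
  unfold classInner
  rw [Nat.card_congr e.toEquiv]
  congr 1
  exact Fintype.sum_equiv e.toEquiv _ _ (fun a => rfl)

theorem isIrrCharacter_comp_mulEquiv' {A B : Type*} [Group A] [Group B] (e : A ≃* B) {θ : B → ℂ}
    (hθ : IsIrrCharacter B θ) : IsIrrCharacter A (θ ∘ e) := by
  obtain ⟨n, ρ, hρ, rfl⟩ := hθ
  exact ⟨n, ρ.comp e.toMonoidHom, Cfsg.Agent.Lib.Helper10.isIrreducible_comp_mulEquiv ρ e hρ, rfl⟩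

theorem resFun_subgroupOf {H T : Subgroup G} (hHT : H ≤ T) (ψ : T → ℂ) :
    resFun (H.subgroupOf T) ψ = resLE hHT ψ ∘ (Subgroup.subgroupOfEquivOfLe hHT) := by
  funext x
  rfl

theorem conjFun_subgroupOf {H T : Subgroup G} [hN : H.Normal] (hHT : H ≤ T) (t : T) (θ : H → ℂ) :
    conjFun (H.subgroupOf T) t (θ ∘ (Subgroup.subgroupOfEquivOfLe hHT)) =
      (conjFun H (t : G) θ) ∘ (Subgroup.subgroupOfEquivOfLe hHT) := by
  funext x
  rfl

/-- Clifford's theorem inside a subgroup `T` stabilising `θ`. -/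
theorem resLE_eq_smul_of_invariant {H T : Subgroup G} [hN : H.Normal] [Fintype T] [Fintype H]
    (hHT : H ≤ T) {ψ : T → ℂ} (hψ : IsIrrCharacter T ψ) {θ : H → ℂ} (hθ : IsIrrCharacter H θ)
    (hinv : ∀ t ∈ T, conjFun H t θ = θ) (hf : classInner (resLE hHT ψ) θ ≠ 0) :
    resLE hHT ψ = classInner (resLE hHT ψ) θ • θ := by
  classical
  let e := Subgroup.subgroupOfEquivOfLe hHT
  let _ : Fintype (H.subgroupOf T) := Fintype.ofFinite _
  have hθ' : IsIrrCharacter (H.subgroupOf T) (θ ∘ e) := isIrrCharacter_comp_mulEquiv' e hθ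
  have hres : resFun (H.subgroupOf T) ψ = resLE hHT ψ ∘ e := resFun_subgroupOf hHT ψ
  have hinner : classInner (resFun (H.subgroupOf T) ψ) (θ ∘ e) = classInner (resLE hHT ψ) θ := by
    rw [hres, classInner_comp_mulEquiv]
  have hinv' : ∀ t : T, conjFun (H.subgroupOf T) t (θ ∘ e) = θ ∘ e := by
    intro t
    rw [conjFun_subgroupOf, hinv t t.2]
  have h := clifford_of_invariant (H.subgroupOf T) hψ hθ' (by rw [hinner]; exact hf) hinv'
  rw [hinner, hres] at h
  funext n
  have h2 := congrFun h (e.symm n)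
  simpa using h2

end transport

/-! ### General facts -/

/-- A nonzero character has an irreducible constituent. -/
theorem IsCharacter.exists_constituent [Fintype G] {Φ : G → ℂ} (hΦ : IsCharacter G Φ)
    (h : Φ ≠ 0) : ∃ χ : G → ℂ, IsIrrCharacter G χ ∧ classInner Φ χ ≠ 0 := by
  classical
  let _ := fintypeIrr G
  obtain ⟨m, hm, hcoef⟩ := IsCharacter.exists_decomp_sum hΦ
  by_contra hcon
  push Not at hcon
  apply h
  rw [hm]
  apply Finset.sum_eq_zero
  intro ψ _
  have h1 := hcon ψ ψ.2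
  rw [hcoef ψ] at h1
  have : m ψ = 0 := by exact_mod_cast h1
  rw [this, zero_smul]

/-! ### The correspondence -/

section corr
variable {H T : Subgroup G} [hN : H.Normal] [Fintype G] [Fintype T] [Fintype H]

/-- The inertia group has the order of the stabiliser. -/
theorem card_eq_card_stab {θ : H → ℂ} (hT : ∀ g : G, g ∈ T ↔ conjFun H g θ = θ) :
    Nat.card T = Nat.card {g : G // conjFun H g θ = θ} := by
  apply Nat.card_congr
  exact Equiv.subtypeEquivRight hT

/-- Degree of a character induced from the inertia group, for a character lying over `θ`. -/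
theorem indFun_inertia_apply_one (hHT : H ≤ T) {θ : H → ℂ} (hθ : IsIrrCharacter H θ)
    (hT : ∀ g : G, g ∈ T ↔ conjFun H g θ = θ) {ψ : T → ℂ} (hψ : IsIrrCharacter T ψ)
    (hf : classInner (resLE hHT ψ) θ ≠ 0) :
    indFun T ψ 1 = ((conjOrbit H θ).card : ℂ) * classInner (resLE hHT ψ) θ * θ 1 := by
  have hψH := resLE_eq_smul_of_invariant hHT hψ hθ (fun t ht => (hT t).mp ht) hf
  have hψ1 : ψ 1 = classInner (resLE hHT ψ) θ * θ 1 := by
    have := congrFun hψH 1
    rw [Pi.smul_apply, smul_eq_mul] at this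
    exact this
  have hcard := card_conjOrbit_mul H θ
  rw [← card_eq_card_stab hT] at hcard
  have hT0 : (Nat.card T : ℂ) ≠ 0 := Nat.cast_ne_zero.mpr Nat.card_pos.ne'
  rw [indFun_apply_one, hψ1, ← hcard]
  push_cast
  field_simp

/-- Core of the Clifford correspondence. -/
theorem clifford_corr_core (hHT : H ≤ T) {θ : H → ℂ} (hθ : IsIrrCharacter H θ)
    (hT : ∀ g : G, g ∈ T ↔ conjFun H g θ = θ) {ψ : T → ℂ} (hψ : IsIrrCharacter T ψ)
    (hf : classInner (resLE hHT ψ) θ ≠ 0) {χ : G → ℂ} (hχ : IsIrrCharacter G χ)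
    (hc : classInner (indFun T ψ) χ ≠ 0) :
    indFun T ψ = χ ∧ classInner (resFun H χ) θ = classInner (resLE hHT ψ) θ := by
  classical
  have hχc : IsCharacter G χ := IsIrrCharacter.isCharacter hχ
  have hψc : IsCharacter T ψ := IsIrrCharacter.isCharacter hψ
  have hθc : IsCharacter H θ := IsIrrCharacter.isCharacter hθ
  -- the multiplicity f
  obtain ⟨nf, hnf⟩ := IsCharacter.classInner_nat (isCharacter_resLE hHT hψc) hθc
  have hnf0 : nf ≠ 0 := by
    intro h0
    apply hf
    rw [hnf, h0, Nat.cast_zero]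
  -- ψ is a constituent of χ_T
  have hconst : classInner (resFun T χ) ψ ≠ 0 := by
    intro h0
    apply hc
    rw [frobenius_reciprocity T ψ (IsCharacter.isClassFunction hχc), ← classInner_conj_symm]
    change conj (classInner (resFun T χ) ψ) = 0
    rw [h0, map_zero]
  have hΦ : IsCharacter T (resFun T χ - ψ) :=
    IsCharacter.sub_constituent (isCharacter_resFun T hχc) hψ hconst
  obtain ⟨k, hk⟩ := IsCharacter.classInner_nat (isCharacter_resLE hHT hΦ) hθc
  have he : classInner (resFun H χ) θ = ((nf + k : ℕ) : ℂ) := by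
    have h1 : resFun H χ = resLE hHT ψ + resLE hHT (resFun T χ - ψ) := by
      rw [map_sub, resLE_resFun]
      abel
    rw [h1, classInner_add_left, hnf, hk]
    push_cast
    rfl
  have he0 : classInner (resFun H χ) θ ≠ 0 := by
    rw [he]
    exact_mod_cast (by omega : nf + k ≠ 0)
  -- degrees
  obtain ⟨dθ, hdθpos, hdθ⟩ := IsIrrCharacter.apply_one_pos hθ
  have hdegχ := clifford_degree H hχ hθ he0
  have hdegInd := indFun_inertia_apply_one hHT hθ hT hψ hf
  rw [he, hdθ] at hdegχ
  rw [hnf, hdθ] at hdegInd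
  have horb : 0 < (conjOrbit H θ).card :=
    Finset.card_pos.mpr ⟨θ, self_mem_conjOrbit H θ⟩
  have hD : indFun T ψ 1 = (((conjOrbit H θ).card * nf * dθ : ℕ) : ℂ) := by
    rw [hdegInd]; push_cast; ring
  have hd : χ 1 = (((nf + k) * (conjOrbit H θ).card * dθ : ℕ) : ℂ) := by
    rw [hdegχ]; push_cast; ring
  have hle : (conjOrbit H θ).card * nf * dθ ≤ (nf + k) * (conjOrbit H θ).card * dθ := by
    apply Nat.mul_le_mul_right
    rw [mul_comm]
    apply Nat.mul_le_mul_right
    omega
  have heq := IsCharacter.eq_of_constituent_of_degree_le (IsCharacter.indFun T hψc) hχ hc hD hd hle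
  refine ⟨heq, ?_⟩
  rw [heq, hd] at hD
  have hD' : (nf + k) * (conjOrbit H θ).card * dθ = (conjOrbit H θ).card * nf * dθ := by
    exact_mod_cast hD
  have h3 : (nf + k) * (conjOrbit H θ).card = (conjOrbit H θ).card * nf :=
    Nat.eq_of_mul_eq_mul_right hdθpos hD'
  rw [mul_comm] at h3
  have h4 : nf + k = nf := Nat.eq_of_mul_eq_mul_left horb h3
  rw [he, hnf, h4]

/-- Characters of the inertia group over `θ` induce irreducibly. -/
theorem isIrrCharacter_indFun_inertia (hHT : H ≤ T) {θ : H → ℂ} (hθ : IsIrrCharacter H θ)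
    (hT : ∀ g : G, g ∈ T ↔ conjFun H g θ = θ) {ψ : T → ℂ} (hψ : IsIrrCharacter T ψ)
    (hf : classInner (resLE hHT ψ) θ ≠ 0) :
    IsIrrCharacter G (indFun T ψ) ∧
      classInner (resFun H (indFun T ψ)) θ = classInner (resLE hHT ψ) θ := by
  have hψc : IsCharacter T ψ := IsIrrCharacter.isCharacter hψ
  have hne : indFun T ψ ≠ 0 := by
    intro h0
    have h1 := indFun_inertia_apply_one hHT hθ hT hψ hf
    rw [h0, Pi.zero_apply] at h1
    obtain ⟨dθ, hdθpos, hdθ⟩ := IsIrrCharacter.apply_one_pos hθ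
    have horb : (conjOrbit H θ).card ≠ 0 :=
      (Finset.card_pos.mpr ⟨θ, self_mem_conjOrbit H θ⟩).ne'
    have : ((conjOrbit H θ).card : ℂ) * classInner (resLE hHT ψ) θ * θ 1 ≠ 0 := by
      apply mul_ne_zero (mul_ne_zero (Nat.cast_ne_zero.mpr horb) hf)
      rw [hdθ]
      exact Nat.cast_ne_zero.mpr hdθpos.ne'
    exact this h1.symm
  obtain ⟨χ, hχ, hc⟩ := IsCharacter.exists_constituent (IsCharacter.indFun T hψc) hne
  obtain ⟨h1, h2⟩ := clifford_corr_core hHT hθ hT hψ hf hχ hc
  rw [h1]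
  exact ⟨hχ, h2⟩

/-- Induction from the inertia group is injective on characters over `θ`. -/
theorem indFun_inertia_injective (hHT : H ≤ T) {θ : H → ℂ} (hθ : IsIrrCharacter H θ)
    (hT : ∀ g : G, g ∈ T ↔ conjFun H g θ = θ) {ψ ψ' : T → ℂ} (hψ : IsIrrCharacter T ψ)
    (hψ' : IsIrrCharacter T ψ') (hf : classInner (resLE hHT ψ) θ ≠ 0)
    (hf' : classInner (resLE hHT ψ') θ ≠ 0) (heq : indFun T ψ = indFun T ψ') : ψ = ψ' := by
  classical
  by_contra hne
  obtain ⟨hχ, he⟩ := isIrrCharacter_indFun_inertia hHT hθ hT hψ hf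
  set χ := indFun T ψ with hχdef
  have hχc : IsCharacter G χ := IsIrrCharacter.isCharacter hχ
  have hψc : IsCharacter T ψ := IsIrrCharacter.isCharacter hψ
  have hψ'c : IsCharacter T ψ' := IsIrrCharacter.isCharacter hψ'
  have hθc : IsCharacter H θ := IsIrrCharacter.isCharacter hθ
  have hself : classInner χ χ ≠ 0 := by rw [classInner_irr hχ hχ, if_pos rfl]; exact one_ne_zero
  have hconst : classInner (resFun T χ) ψ ≠ 0 := by
    intro h0
    apply hself
    have h9 : classInner χ χ = classInner (indFun T ψ) χ :=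
      congrArg (fun f => classInner f χ) hχdef
    rw [h9, frobenius_reciprocity T ψ (IsCharacter.isClassFunction hχc), ← classInner_conj_symm]
    change conj (classInner (resFun T χ) ψ) = 0
    rw [h0, map_zero]
  have hconst' : classInner (resFun T χ) ψ' ≠ 0 := by
    intro h0
    apply hself
    have h9 : classInner χ χ = classInner (indFun T ψ') χ :=
      congrArg (fun f => classInner f χ) heq
    rw [h9, frobenius_reciprocity T ψ' (IsCharacter.isClassFunction hχc), ← classInner_conj_symm]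
    change conj (classInner (resFun T χ) ψ') = 0
    rw [h0, map_zero]
  have hΦ : IsCharacter T (resFun T χ - ψ) :=
    IsCharacter.sub_constituent (isCharacter_resFun T hχc) hψ hconst
  have hconst2 : classInner (resFun T χ - ψ) ψ' ≠ 0 := by
    rw [classInner_sub_left, classInner_irr hψ hψ', if_neg hne, sub_zero]
    exact hconst'
  have hΦ2 : IsCharacter T (resFun T χ - ψ - ψ') := IsCharacter.sub_constituent hΦ hψ' hconst2
  obtain ⟨nf, hnf⟩ := IsCharacter.classInner_nat (isCharacter_resLE hHT hψc) hθc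
  obtain ⟨nf', hnf'⟩ := IsCharacter.classInner_nat (isCharacter_resLE hHT hψ'c) hθc
  obtain ⟨k, hk⟩ := IsCharacter.classInner_nat (isCharacter_resLE hHT hΦ2) hθc
  have hnf'0 : nf' ≠ 0 := by
    intro h0
    apply hf'
    rw [hnf', h0, Nat.cast_zero]
  have h1 : resFun H χ = resLE hHT ψ + resLE hHT ψ' + resLE hHT (resFun T χ - ψ - ψ') := by
    rw [map_sub, map_sub, resLE_resFun]
    abel
  rw [h1, classInner_add_left, classInner_add_left, hnf, hnf', hk] at he
  have he' : nf + nf' + k = nf := by exact_mod_cast he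
  omega

/-- Every irreducible character of `G` over `θ` is induced from the inertia group. -/
theorem exists_indFun_inertia_eq (hHT : H ≤ T) {θ : H → ℂ} (hθ : IsIrrCharacter H θ)
    (hT : ∀ g : G, g ∈ T ↔ conjFun H g θ = θ) {χ : G → ℂ} (hχ : IsIrrCharacter G χ)
    (he : classInner (resFun H χ) θ ≠ 0) :
    ∃ ψ : T → ℂ, IsIrrCharacter T ψ ∧ indFun T ψ = χ ∧
      classInner (resLE hHT ψ) θ = classInner (resFun H χ) θ := by
  classical
  let _ := fintypeIrr T
  have hχc : IsCharacter G χ := IsIrrCharacter.isCharacter hχ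
  obtain ⟨m, hm, hcoef⟩ := IsCharacter.exists_decomp_sum (isCharacter_resFun T hχc)
  have hex : ∃ ψ : IrrCharacter T, m ψ ≠ 0 ∧ classInner (resLE hHT (ψ : T → ℂ)) θ ≠ 0 := by
    by_contra hcon
    push Not at hcon
    apply he
    rw [← resLE_resFun hHT χ, hm, map_sum, classInner_sum_left]
    apply Finset.sum_eq_zero
    intro ψ _
    rw [← Nat.cast_smul_eq_nsmul ℂ, map_smul, classInner_smul_left]
    by_cases h0 : m ψ = 0
    · rw [h0, Nat.cast_zero, zero_mul]
    · rw [hcon ψ h0, mul_zero]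
  obtain ⟨ψ, hmψ, hf⟩ := hex
  have hc : classInner (indFun T (ψ : T → ℂ)) χ ≠ 0 := by
    rw [frobenius_reciprocity T (ψ : T → ℂ) (IsCharacter.isClassFunction hχc),
      ← classInner_conj_symm]
    change conj (classInner (resFun T χ) (ψ : T → ℂ)) ≠ 0
    rw [hcoef ψ, Complex.conj_natCast]
    exact Nat.cast_ne_zero.mpr hmψ
  obtain ⟨h1, h2⟩ := clifford_corr_core hHT hθ hT ψ.2 hf hχ hc
  exact ⟨ψ, ψ.2, h1, h2.symm⟩

end corr

end Cfsg.Agent.Lib.Helper6
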