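/-
helper6: characters over an invariant character of a normal subgroup with abelian quotient.
-/
import Mathlib
import Cfsg.Agent.Lib.Helper6.Gallagher2
import Cfsg.Agent.Lib.Helper6.CentralHom
import Cfsg.Agent.Lib.Helper6.CliffordCorr

set_option autoImplicit false

namespace Cfsg.Agent.Lib.Helper6

open Cfsg Cfsg.Agent.CharLib
open scoped ComplexConjugate commutatorElement

universe u

variable {G : Type u} [Group G] [Fintype G]

/-- The product of a linear character with an irreducible character is irreducible. -/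
theorem isIrrCharacter_linear_mul {lam ψ : G → ℂ} (hlam : IsCharacter G lam) (h1 : lam 1 = 1)
    (hψ : IsIrrCharacter G ψ) : IsIrrCharacter G (lam * ψ) := by
  apply isIrrCharacter_of_classInner_self_eq_one (IsCharacter.mul hlam (IsIrrCharacter.isCharacter hψ))
  have hself : classInner ψ ψ = 1 := by rw [classInner_irr hψ hψ, if_pos rfl]
  rw [← hself]
  unfold classInner
  congr 1
  apply Finset.sum_congr rfl
  intro g _
  rw [Pi.mul_apply, map_mul]
  have := IsCharacter.mul_conj_eq_one_of_apply_one hlam h1 g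
  calc lam g * ψ g * (conj (lam g) * conj (ψ g)) = (lam g * conj (lam g)) * (ψ g * conj (ψ g)) := by ring
    _ = ψ g * conj (ψ g) := by rw [this, one_mul]

/-- Irreducible characters of `G` over `1_N` are linear when `G/N` is abelian. -/
theorem apply_one_eq_one_of_indFun_one_ne_zero (N : Subgroup G) [hN : N.Normal] [Fintype N]
    (hab : ∀ x y : G, ⁅x, y⁆ ∈ N) {lam : G → ℂ} (hlam : IsIrrCharacter G lam)
    (h : classInner (indFun N (1 : N → ℂ)) lam ≠ 0) : lam 1 = 1 := by
  have h2 := (apply_mul_of_indFun_one_ne_zero N hlam h).2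
  apply IsIrrCharacter.apply_one_eq_one_of_commutator hlam
  intro g k
  have := h2 ⟨⁅g, k⁆, hab g k⟩ 1
  rwa [mul_one] at this

/-- With abelian quotient, any two irreducible characters of `G` over the invariant character `θ`
of `N` differ by a linear character of `G/N`. -/
theorem exists_linear_mul_eq_of_abelian_quotient (N : Subgroup G) [hN : N.Normal] [Fintype N]
    (hab : ∀ x y : G, ⁅x, y⁆ ∈ N) {θ : N → ℂ} (hθ : IsIrrCharacter N θ)
    (hinv : ∀ g : G, conjFun N g θ = θ) {ψ ψ' : G → ℂ} (hψ : IsIrrCharacter G ψ)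
    (hψ' : IsIrrCharacter G ψ') (h : classInner (resFun N ψ) θ ≠ 0)
    (h' : classInner (resFun N ψ') θ ≠ 0) :
    ∃ lam : G → ℂ, IsIrrCharacter G lam ∧ lam 1 = 1 ∧
      (∀ (n : N) (g : G), lam ((n : G) * g) = lam g) ∧ ψ' = lam * ψ := by
  classical
  let _ := fintypeIrr G
  have hψcf : IsClassFunction G ψ := IsCharacter.isClassFunction (IsIrrCharacter.isCharacter hψ)
  have hψ'cf : IsClassFunction G ψ' := IsCharacter.isClassFunction (IsIrrCharacter.isCharacter hψ')
  have hc := clifford_of_invariant N hψ hθ h hinv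
  have hc' := clifford_of_invariant N hψ' hθ h' hinv
  have h1 : indFun N (resFun N ψ) = indFun N (1 : N → ℂ) * ψ := by
    rw [← indFun_mul_resFun N (1 : N → ℂ) hψcf, one_mul]
  have h2 : classInner (indFun N (resFun N ψ)) ψ' ≠ 0 := by
    rw [frobenius_reciprocity N _ hψ'cf]
    change classInner (resFun N ψ) (resFun N ψ') ≠ 0
    rw [hc, hc', classInner_smul_left, classInner_smul_right, classInner_irr hθ hθ, if_pos rfl,
      mul_one]
    exact mul_ne_zero h (fun h0 => h' ((map_eq_zero (starRingEnd ℂ)).mp h0))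
  rw [h1, classFunction_eq_sum (indFun_isClassFunction N (1 : N → ℂ)), Finset.sum_mul,
    classInner_sum_left] at h2
  obtain ⟨lam, -, hlam⟩ := Finset.exists_ne_zero_of_sum_ne_zero h2
  rw [smul_mul_assoc, classInner_smul_left] at hlam
  have hlamB : classInner (indFun N (1 : N → ℂ)) (lam : G → ℂ) ≠ 0 := left_ne_zero_of_mul hlam
  have hlam2 : classInner ((lam : G → ℂ) * ψ) ψ' ≠ 0 := right_ne_zero_of_mul hlam
  have hlam1 : (lam : G → ℂ) 1 = 1 := apply_one_eq_one_of_indFun_one_ne_zero N hab lam.2 hlamB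
  have hirr := isIrrCharacter_linear_mul (IsIrrCharacter.isCharacter lam.2) hlam1 hψ
  rw [classInner_irr hirr hψ'] at hlam2
  have heq : (lam : G → ℂ) * ψ = ψ' := by
    by_contra hne
    rw [if_neg hne] at hlam2
    exact hlam2 rfl
  exact ⟨lam, lam.2, hlam1, (apply_mul_of_indFun_one_ne_zero N lam.2 hlamB).2, heq.symm⟩

/-- With abelian quotient, all irreducible characters of `G` over the invariant character `θ`
of `N` have the same restriction to `N`. -/
theorem resFun_eq_of_abelian_quotient (N : Subgroup G) [hN : N.Normal] [Fintype N]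
    (hab : ∀ x y : G, ⁅x, y⁆ ∈ N) {θ : N → ℂ} (hθ : IsIrrCharacter N θ)
    (hinv : ∀ g : G, conjFun N g θ = θ) {ψ ψ' : G → ℂ} (hψ : IsIrrCharacter G ψ)
    (hψ' : IsIrrCharacter G ψ') (h : classInner (resFun N ψ) θ ≠ 0)
    (h' : classInner (resFun N ψ') θ ≠ 0) : resFun N ψ' = resFun N ψ := by
  obtain ⟨lam, -, hlam1, hlamN, rfl⟩ :=
    exists_linear_mul_eq_of_abelian_quotient N hab hθ hinv hψ hψ' h h'
  funext n
  rw [resFun_apply, resFun_apply, Pi.mul_apply]
  have := hlamN n 1
  rw [mul_one, hlam1] at this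
  rw [this, one_mul]

end Cfsg.Agent.Lib.Helper6
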