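/-
helper6: fixed-point counts on coset spaces ("permutation characters"), orbit decomposition and the
Mackey product formula in natural-number form.
-/
import Mathlib
import Cfsg.Prelude.Def_Characters
import Cfsg.Agent.Lib.Helper6.IndFun

set_option autoImplicit false

namespace Cfsg.Agent.Lib.Helper6

open Cfsg MulAction

section orbit
variable {G X : Type*} [Group G] [MulAction G X]

/-- Fixed points of `x` inside the orbit of `b` correspond to fixed cosets of the stabilizer. -/
theorem card_fixed_orbit (b : X) (x : G) :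
    Nat.card {y : X // y ∈ MulAction.orbit G b ∧ x • y = y} =
      Nat.card {q : G ⧸ MulAction.stabilizer G b // x • q = q} := by
  symm
  apply Nat.card_congr
  refine Equiv.ofBijective
    (fun q => ⟨MulAction.ofQuotientStabilizer G b q.1,
      MulAction.ofQuotientStabilizer_mem_orbit G b q.1, by
        rw [← MulAction.ofQuotientStabilizer_smul, q.2]⟩) ⟨?_, ?_⟩
  · intro q₁ q₂ h
    apply Subtype.ext
    apply MulAction.injective_ofQuotientStabilizer G b
    exact congrArg Subtype.val h
  · rintro ⟨y, ⟨g, rfl⟩, hy⟩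
    refine ⟨⟨QuotientGroup.mk g, ?_⟩, ?_⟩
    · apply MulAction.injective_ofQuotientStabilizer G b
      rw [MulAction.ofQuotientStabilizer_smul, MulAction.ofQuotientStabilizer_mk]
      exact hy
    · apply Subtype.ext
      exact MulAction.ofQuotientStabilizer_mk G b g

/-- Orbit decomposition of the fixed points of `x` on a finite `G`-set. -/
theorem card_fixed_eq_sum_orbits [Finite X]
    [Fintype (MulAction.orbitRel.Quotient G X)]
    (φ : MulAction.orbitRel.Quotient G X → X)
    (hφ : ∀ ω, (Quotient.mk'' (φ ω) : MulAction.orbitRel.Quotient G X) = ω) (x : G) :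
    Nat.card {y : X // x • y = y} =
      ∑ ω : MulAction.orbitRel.Quotient G X,
        Nat.card {q : G ⧸ MulAction.stabilizer G (φ ω) // x • q = q} := by
  classical
  have : Fintype X := Fintype.ofFinite X
  rw [Nat.card_eq_fintype_card, Fintype.card_subtype]
  rw [Finset.card_eq_sum_card_fiberwise (f := fun y : X =>
      (Quotient.mk'' y : MulAction.orbitRel.Quotient G X))
    (s := Finset.univ.filter (fun y : X => x • y = y)) (t := Finset.univ)
    (fun _ _ => Finset.mem_coe.mpr (Finset.mem_univ _))]
  apply Finset.sum_congr rfl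
  intro ω _
  rw [← card_fixed_orbit (φ ω) x, Nat.card_eq_fintype_card, Fintype.card_subtype]
  congr 1
  ext y
  simp only [Finset.mem_filter, Finset.mem_univ, true_and]
  constructor
  · rintro ⟨hy, hω⟩
    refine ⟨?_, hy⟩
    rw [← hφ ω] at hω
    exact (MulAction.orbitRel_apply).mp (Quotient.exact' hω)
  · rintro ⟨hmem, hy⟩
    refine ⟨hy, ?_⟩
    rw [← hφ ω]
    exact Quotient.sound' ((MulAction.orbitRel_apply).mpr hmem)

end orbit

section mackey
variable {G : Type*} [Group G] [Fintype G]

/-- Mackey's formula for products of permutation characters, in natural-number form. -/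
theorem mackey_nat (H K : Subgroup G) :
    ∃ a : Subgroup G → ℕ, (∀ U, a U ≠ 0 → U ≤ H) ∧
      ∀ x : G, Nat.card {q : G ⧸ H // x • q = q} * Nat.card {q : G ⧸ K // x • q = q} =
        ∑ U : Subgroup G, a U * Nat.card {q : G ⧸ U // x • q = q} := by
  classical
  -- the G-set X = G/H × G/K
  have : Fintype (MulAction.orbitRel.Quotient G ((G ⧸ H) × (G ⧸ K))) :=
    Fintype.ofFinite _
  -- representatives of the form (H, q)
  have hrep : ∀ ω : MulAction.orbitRel.Quotient G ((G ⧸ H) × (G ⧸ K)),
      ∃ q : G ⧸ K, (Quotient.mk'' ((QuotientGroup.mk 1 : G ⧸ H), q) :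
        MulAction.orbitRel.Quotient G ((G ⧸ H) × (G ⧸ K))) = ω := by
    intro ω
    induction ω using Quotient.inductionOn' with
    | h y =>
      obtain ⟨q₁, q₂⟩ := y
      obtain ⟨g, rfl⟩ := QuotientGroup.mk_surjective q₁
      refine ⟨g⁻¹ • q₂, ?_⟩
      apply Quotient.sound'
      rw [MulAction.orbitRel_apply]
      refine ⟨g⁻¹, ?_⟩
      ext
      · simp [MulAction.Quotient.smul_mk]
      · simp
  choose ψ hψ using hrep
  let φ : MulAction.orbitRel.Quotient G ((G ⧸ H) × (G ⧸ K)) → (G ⧸ H) × (G ⧸ K) :=
    fun ω => ((QuotientGroup.mk 1 : G ⧸ H), ψ ω)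
  let S : MulAction.orbitRel.Quotient G ((G ⧸ H) × (G ⧸ K)) → Subgroup G :=
    fun ω => MulAction.stabilizer G (φ ω)
  refine ⟨fun U => (Finset.univ.filter (fun ω => S ω = U)).card, ?_, ?_⟩
  · intro U hU
    obtain ⟨ω, hω⟩ := Finset.card_pos.mp (Nat.pos_of_ne_zero hU)
    rw [Finset.mem_filter] at hω
    rw [← hω.2]
    intro g hg
    have h1 : g • φ ω = φ ω := MulAction.mem_stabilizer_iff.mp hg
    have h2 := congrArg Prod.fst h1
    simp only [φ, Prod.smul_fst, MulAction.Quotient.smul_mk, smul_eq_mul, mul_one] at h2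
    have h3 := QuotientGroup.eq.mp h2
    simpa using H.inv_mem h3
  · intro x
    -- product of fixed point counts = fixed points on the product
    have hprod : Nat.card {q : G ⧸ H // x • q = q} * Nat.card {q : G ⧸ K // x • q = q} =
        Nat.card {y : (G ⧸ H) × (G ⧸ K) // x • y = y} := by
      rw [← Nat.card_prod]
      apply Nat.card_congr
      refine
        { toFun := fun y => ⟨(y.1.1, y.2.1), by
            ext
            · exact y.1.2
            · exact y.2.2⟩
          invFun := fun y => (⟨y.1.1, congrArg Prod.fst y.2⟩, ⟨y.1.2, congrArg Prod.snd y.2⟩)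
          left_inv := fun y => rfl
          right_inv := fun y => rfl }
    rw [hprod, card_fixed_eq_sum_orbits φ hψ x]
    rw [← Finset.sum_fiberwise (Finset.univ) S]
    apply Finset.sum_congr rfl
    intro U _
    rw [← smul_eq_mul, ← Finset.sum_const]
    apply Finset.sum_congr rfl
    intro ω hω
    rw [Finset.mem_filter] at hω
    have : MulAction.stabilizer G (φ ω) = U := hω.2
    rw [this]

end mackey

end Cfsg.Agent.Lib.Helper6
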