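/-
helper6: characters in different `p`-blocks are orthogonal on the `p`-regular elements
(a consequence of weak block orthogonality).
-/
import Mathlib
import Cfsg.Agent.Lib.Helper6.Osima2
import Cfsg.Agent.Lib.Lead.CharOrtho

set_option autoImplicit false

namespace Cfsg.Agent.Lib.Helper6

open Cfsg Cfsg.Agent.CharLib Cfsg.Agent.Lib.Helper24
open scoped ComplexConjugate

universe u

section blockOrth

variable {G : Type u} [Group G] [Fintype G] {M : Ideal AlgInt}

/-- Unnormalised first orthogonality relation. -/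
theorem sum_irr_mul_conj_irr (χ φ : IrrCharacter G) :
    ∑ y : G, (χ : G → ℂ) y * conj ((φ : G → ℂ) y) = if χ = φ then (Nat.card G : ℂ) else 0 := by
  have h := classInner_irr' χ φ
  unfold classInner at h
  have hG0 : (Nat.card G : ℂ) ≠ 0 := Nat.cast_ne_zero.mpr Nat.card_pos.ne'
  have h2 : ∑ y : G, (χ : G → ℂ) y * conj ((φ : G → ℂ) y) =
      (Nat.card G : ℂ) * ((Nat.card G : ℂ)⁻¹ * ∑ g : G, (χ : G → ℂ) g * conj ((φ : G → ℂ) g)) := by
    field_simp
  rw [h2, h]
  split_ifs <;> simp

/-- **Block orthogonality on `p`-regular elements**: if `χ` is not in the block of `ψ₀`, then for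
every `φ` in that block, `∑_{x p-regular} χ(x) conj φ(x) = 0`. -/
theorem sum_regular_eq_zero_of_not_mem_block {p : ℕ} [hpp : Fact p.Prime] (hM : IsPModular p M)
    (ψ₀ χ : IrrCharacter G) (hχ : χ ∉ blockOf M (ψ₀ : G → ℂ)) [DecidablePred fun x : G => ¬ p ∣ orderOf x]
    (φ₀ : IrrCharacter G) (hφ₀ : φ₀ ∈ blockOf M (ψ₀ : G → ℂ)) :
    ∑ x : G, (if ¬ p ∣ orderOf x then (χ : G → ℂ) x * conj ((φ₀ : G → ℂ) x) else 0) = 0 := by
  classical
  let _ := fintypeIrr G
  set B' := blockOf M (ψ₀ : G → ℂ) with hB'
  -- the regular inner products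
  let c : IrrCharacter G → ℂ := fun φ =>
    ∑ x : G, (if ¬ p ∣ orderOf x then (χ : G → ℂ) x * conj ((φ : G → ℂ) x) else 0)
  -- the `B'`-part of `χ` restricted to `p`-regular elements
  let v : G → ℂ := fun y => ∑ φ : IrrCharacter G, if φ ∈ B' then c φ * (φ : G → ℂ) y else 0
  -- (a) `v` vanishes on `p`-singular elements
  have hv : ∀ y : G, p ∣ orderOf y → v y = 0 := by
    intro y hy
    have h1 : v y = ∑ x : G, (if ¬ p ∣ orderOf x then (χ : G → ℂ) x *
        ∑ φ : IrrCharacter G, (if φ ∈ B' then conj ((φ : G → ℂ) x) * (φ : G → ℂ) y else 0)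
        else 0) := by
      change (∑ φ : IrrCharacter G, if φ ∈ B' then (∑ x : G, (if ¬ p ∣ orderOf x then
        (χ : G → ℂ) x * conj ((φ : G → ℂ) x) else 0)) * (φ : G → ℂ) y else 0) = _
      have h2 : ∀ φ : IrrCharacter G, (if φ ∈ B' then (∑ x : G, (if ¬ p ∣ orderOf x then
          (χ : G → ℂ) x * conj ((φ : G → ℂ) x) else 0)) * (φ : G → ℂ) y else 0) =
          ∑ x : G, (if ¬ p ∣ orderOf x then (χ : G → ℂ) x *
            (if φ ∈ B' then conj ((φ : G → ℂ) x) * (φ : G → ℂ) y else 0) else 0) := by
        intro φ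
        by_cases hφ : φ ∈ B'
        · simp only [if_pos hφ]
          rw [Finset.sum_mul]
          apply Finset.sum_congr rfl
          intro x _
          by_cases hx : p ∣ orderOf x
          · rw [if_neg (not_not.mpr hx), if_neg (not_not.mpr hx), zero_mul]
          · rw [if_pos hx, if_pos hx]; ring
        · simp only [if_neg hφ, mul_zero, ite_self, Finset.sum_const_zero]
      rw [Finset.sum_congr rfl (fun φ _ => h2 φ), Finset.sum_comm]
      apply Finset.sum_congr rfl
      intro x _
      by_cases hx : p ∣ orderOf x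
      · simp only [if_neg (not_not.mpr hx)]
        exact Finset.sum_const_zero
      · simp only [if_pos hx]
        rw [Finset.mul_sum]
    rw [h1]
    apply Finset.sum_eq_zero
    intro x _
    by_cases hx' : p ∣ orderOf x
    · rw [if_neg (not_not.mpr hx')]
    rw [if_pos hx']
    have hx := hx'
    · have h3 := weak_block_orthogonality hM ψ₀ x y hx hy
      rw [finsum_mem_eq_sum_ite] at h3
      have h4 : ∑ φ : IrrCharacter G, (if φ ∈ B' then conj ((φ : G → ℂ) x) * (φ : G → ℂ) y
          else 0) = conj (∑ φ : IrrCharacter G, (if φ ∈ B' then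
            (φ : G → ℂ) x * conj ((φ : G → ℂ) y) else 0)) := by
        rw [map_sum]
        apply Finset.sum_congr rfl
        intro φ _
        split_ifs
        · rw [map_mul, Complex.conj_conj]
        · rw [map_zero]
      rw [h4, h3, map_zero, mul_zero]
  -- (b) `χ` is orthogonal to `v`
  have hb : ∑ y : G, (χ : G → ℂ) y * conj (v y) = 0 := by
    have h1 : ∀ y : G, (χ : G → ℂ) y * conj (v y) = ∑ φ : IrrCharacter G,
        (if φ ∈ B' then conj (c φ) * ((χ : G → ℂ) y * conj ((φ : G → ℂ) y)) else 0) := by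
      intro y
      change (χ : G → ℂ) y * conj (∑ φ : IrrCharacter G,
        if φ ∈ B' then c φ * (φ : G → ℂ) y else 0) = _
      rw [map_sum, Finset.mul_sum]
      apply Finset.sum_congr rfl
      intro φ _
      split_ifs
      · rw [map_mul]; ring
      · rw [map_zero, mul_zero]
    rw [Finset.sum_congr rfl (fun y _ => h1 y), Finset.sum_comm]
    apply Finset.sum_eq_zero
    intro φ _
    by_cases hφ : φ ∈ B'
    · simp only [if_pos hφ]
      rw [← Finset.mul_sum, sum_irr_mul_conj_irr, if_neg, mul_zero]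
      intro h
      exact hχ (h ▸ hφ)
    · simp only [if_neg hφ, Finset.sum_const_zero]
  -- (c) the same sum is the sum of the squares of the `c φ`
  have hc : ∑ y : G, (χ : G → ℂ) y * conj (v y) =
      ∑ φ : IrrCharacter G, if φ ∈ B' then conj (c φ) * c φ else 0 := by
    have h1 : ∀ y : G, (χ : G → ℂ) y * conj (v y) = ∑ φ : IrrCharacter G,
        (if φ ∈ B' then conj (c φ) * (if ¬ p ∣ orderOf y then
          (χ : G → ℂ) y * conj ((φ : G → ℂ) y) else 0) else 0) := by
      intro y
      by_cases hy : p ∣ orderOf y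
      · rw [hv y hy, map_zero, mul_zero]
        symm
        apply Finset.sum_eq_zero
        intro φ _
        rw [if_neg (not_not.mpr hy), mul_zero, ite_self]
      · change (χ : G → ℂ) y * conj (∑ φ : IrrCharacter G,
          if φ ∈ B' then c φ * (φ : G → ℂ) y else 0) = _
        rw [map_sum, Finset.mul_sum]
        apply Finset.sum_congr rfl
        intro φ _
        rw [if_pos hy]
        split_ifs
        · rw [map_mul]; ring
        · rw [map_zero, mul_zero]
    rw [Finset.sum_congr rfl (fun y _ => h1 y), Finset.sum_comm]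
    apply Finset.sum_congr rfl
    intro φ _
    by_cases hφ : φ ∈ B'
    · simp only [if_pos hφ]
      rw [← Finset.mul_sum]
    · simp only [if_neg hφ, Finset.sum_const_zero]
  rw [hc] at hb
  -- nonnegativity
  have hnn : ∑ φ : IrrCharacter G, (if φ ∈ B' then Complex.normSq (c φ) else 0) = 0 := by
    have h1 : ((∑ φ : IrrCharacter G, (if φ ∈ B' then Complex.normSq (c φ) else 0) : ℝ) : ℂ) =
        ∑ φ : IrrCharacter G, if φ ∈ B' then conj (c φ) * c φ else 0 := by
      push_cast
      apply Finset.sum_congr rfl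
      intro φ _
      split_ifs
      · rw [Complex.normSq_eq_conj_mul_self]
      · rfl
    rw [hb] at h1
    exact_mod_cast h1
  have h0 := (Finset.sum_eq_zero_iff_of_nonneg (fun φ _ => by
    split_ifs
    · exact Complex.normSq_nonneg _
    · exact le_refl _)).mp hnn φ₀ (Finset.mem_univ _)
  rw [if_pos hφ₀] at h0
  exact Complex.normSq_eq_zero.mp h0

end blockOrth

end Cfsg.Agent.Lib.Helper6
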