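/-
helper6: character values modulo the local ideal depend only on the p-regular part of the element.
-/
import Mathlib
import Cfsg.Prelude.Def_Blocks
import Cfsg.Agent.Lib.Helper6.OneBlock
import Cfsg.Agent.Lib.Lead.CharBasic

set_option autoImplicit false

namespace Cfsg.Agent.Lib.Helper6

open Cfsg Cfsg.Agent.CharLib Cfsg.Agent.Lib.Helper24 Module
open scoped ComplexConjugate

universe u

section preg

variable {G : Type u} [Group G] [Finite G] {M : Ideal AlgInt}

/-- If `x = x ^ c * x ^ d` with `x ^ d` of `p`-power order, then `χ x ≡ χ (x ^ c)` modulo the local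
ideal. -/
theorem memLocalIdeal_char_sub_char_pow {p : ℕ} [hp : Fact p.Prime] (hM : IsPModular p M)
    {χ : G → ℂ} (hχ : IsCharacter G χ) (x : G) (c d k : ℕ)
    (hcd : x ^ (c + d) = x) (hd : (x ^ d) ^ (p ^ k) = 1) :
    MemLocalIdeal M (χ x - χ (x ^ c)) := by
  have hprime : M.IsPrime := isPrime_of_isPModular hM
  obtain ⟨n, ρ, rfl⟩ := hχ
  obtain ⟨ι, hι, b, μ, h1, h2, -, -⟩ := exists_eigenbasis ρ x
  have hpow : ∀ (j : ℕ) (i : ι), ρ (x ^ j) (b i) = μ i ^ j • b i := by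
    intro j i
    induction j with
    | zero => simp
    | succ j ih =>
      rw [pow_succ, map_mul, Module.End.mul_apply, h2 i, map_smul, ih, smul_smul, pow_succ,
        mul_comm]
  have hb0 : ∀ i, b i ≠ 0 := fun i => b.ne_zero i
  have hμcd : ∀ i, μ i ^ (c + d) = μ i := by
    intro i
    have h3 := hpow (c + d) i
    rw [hcd, h2 i] at h3
    have h4 : (μ i - μ i ^ (c + d)) • b i = 0 := by rw [sub_smul, h3, sub_self]
    rcases smul_eq_zero.mp h4 with h5 | h5
    · exact (sub_eq_zero.mp h5).symm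
    · exact absurd h5 (hb0 i)
  have hμd : ∀ i, (μ i ^ d) ^ (p ^ k) = 1 := by
    intro i
    have h3 := hpow (d * p ^ k) i
    rw [pow_mul, hd, map_one, Module.End.one_apply] at h3
    have h4 : (1 - μ i ^ (d * p ^ k)) • b i = 0 := by rw [sub_smul, one_smul, ← h3, sub_self]
    rcases smul_eq_zero.mp h4 with h5 | h5
    · rw [← pow_mul]; exact (sub_eq_zero.mp h5).symm
    · exact absurd h5 (hb0 i)
  have hint : ∀ i, IsIntegral ℤ (μ i) := by
    intro i
    apply IsIntegral.of_pow (orderOf_pos x)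
    rw [h1 i]
    exact isIntegral_one
  have hR : ∀ (i : ι) (j : ℕ), MemLocalRing M (μ i ^ j) := fun i j =>
    memLocalRing_of_algInt ⟨μ i ^ j, (hint i).pow j⟩ hprime.one_notMem
  change MemLocalIdeal M (LinearMap.trace ℂ _ (ρ x) - LinearMap.trace ℂ _ (ρ (x ^ c)))
  rw [trace_eq_sum_of_eigenbasis b (ρ x) μ h2,
    trace_eq_sum_of_eigenbasis b (ρ (x ^ c)) (fun i => μ i ^ c) (hpow c), ← Finset.sum_sub_distrib]
  apply sum_memLocalIdeal
  intro i _
  have h3 : μ i - μ i ^ c = μ i ^ c * (μ i ^ d - 1) := by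
    rw [mul_sub, ← pow_add, hμcd i, mul_one]
  rw [h3]
  apply memLocalIdeal_mul_left (hR i c)
  have h4 := memLocalIdeal_sub_natCast_of_pow hM (hR i d) 1 k (by
    rw [hμd i]
    simp only [Nat.cast_one, sub_self]
    exact memLocalIdeal_zero hprime.one_notMem)
  simpa using h4

/-- The `p`-regular part `a⁻¹ * x` of an element with `p`-part `a`, with its basic properties. -/
theorem IsPPart.exists_pow {p : ℕ} [hp : Fact p.Prime] {x a : G} (h : IsPPart p x a) :
    Commute a (a⁻¹ * x) ∧ (∃ k : ℕ, orderOf a = p ^ k) ∧ ¬ p ∣ orderOf (a⁻¹ * x) ∧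
    ∃ c d k : ℕ, x ^ c = a⁻¹ * x ∧ x ^ (c + d) = x ∧ (x ^ d) ^ (p ^ k) = 1 := by
  obtain ⟨y, hxy, hcomm, ⟨k, hk⟩, hy⟩ := h
  have hy' : a⁻¹ * x = y := by rw [← hxy, inv_mul_cancel_left]
  rw [hy']
  refine ⟨hcomm, ⟨k, hk⟩, hy, ?_⟩
  have hcop : Nat.Coprime (p ^ k) (orderOf y) :=
    Nat.Coprime.pow_left k ((Nat.Prime.coprime_iff_not_dvd hp.out).mpr hy)
  obtain ⟨c, hc1, hc2⟩ := Nat.chineseRemainder hcop 0 1
  obtain ⟨d, hd1, hd2⟩ := Nat.chineseRemainder hcop 1 0
  have hac : a ^ c = 1 := by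
    apply orderOf_dvd_iff_pow_eq_one.mp
    rw [hk]
    exact (Nat.modEq_zero_iff_dvd).mp hc1
  have hyc : y ^ c = y := by
    have := pow_eq_pow_iff_modEq.mpr hc2
    rw [this, pow_one]
  have had : a ^ d = a := by
    have h1 : d ≡ 1 [MOD orderOf a] := by rw [hk]; exact hd1
    have := pow_eq_pow_iff_modEq.mpr h1
    rw [this, pow_one]
  have hyd : y ^ d = 1 := by
    apply orderOf_dvd_iff_pow_eq_one.mp
    exact (Nat.modEq_zero_iff_dvd).mp hd2
  refine ⟨c, d, k, ?_, ?_, ?_⟩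
  · rw [← hxy, hcomm.mul_pow, hac, hyc, one_mul]
  · rw [← hxy, hcomm.mul_pow, pow_add, pow_add, hac, hyc, had, hyd, one_mul, mul_one, hcomm.eq]
  · rw [← hxy, hcomm.mul_pow, had, hyd, mul_one, ← hk, pow_orderOf_eq_one]

/-- A character takes congruent values at an element and at its `p`-regular part. -/
theorem memLocalIdeal_char_sub_pRegPart {p : ℕ} [hp : Fact p.Prime] (hM : IsPModular p M)
    {χ : G → ℂ} (hχ : IsCharacter G χ) {x a : G} (h : IsPPart p x a) :
    MemLocalIdeal M (χ x - χ (a⁻¹ * x)) := by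
  obtain ⟨-, -, -, c, d, k, h1, h2, h3⟩ := IsPPart.exists_pow h
  rw [← h1]
  exact memLocalIdeal_char_sub_char_pow hM hχ x c d k h2 h3

end preg

end Cfsg.Agent.Lib.Helper6
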