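/-
helper6: the permutation character `Ind_S^G 1` of a Sylow subgroup paired against class functions:
`|S| ∑_χ m_χ ∑_g c(g) χ(g) = |G| ∑_{z ∈ S} c(z)`, and its specialisation to products of two class sums.
-/
import Mathlib
import Cfsg.Agent.Lib.Helper23.HeightZeroB
import Cfsg.Agent.Lib.Helper6.Osima
import Cfsg.Agent.Lib.Lead.CharMain

set_option autoImplicit false

namespace Cfsg.Agent.Lib.Helper6.SepClasses

open Cfsg Cfsg.Agent.CharLib Cfsg.Agent.Lib.Helper24 Cfsg.Agent.Lib.Helper6 Cfsg.Agent.Lib.Helper23
open scoped ComplexConjugate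

universe u

variable {G : Type u} [Group G] [Fintype G] [Fintype (IrrCharacter G)] {p : ℕ} [hpp : Fact p.Prime]

theorem sylowMult_eq_conj (S : Sylow p G) [Fintype (S : Subgroup G)] (χ : IrrCharacter G) :
    ∑ z : (S : Subgroup G), conj ((χ : G → ℂ) (z : G)) =
      (Nat.card (S : Subgroup G) : ℂ) * (sylowMult S χ : ℂ) := by
  have h := congrArg conj (sylowMult_spec S χ)
  rw [map_sum, map_mul, Complex.conj_natCast, Complex.conj_natCast] at h
  exact h

/-- Pairing the permutation character of `G` on the cosets of `S` with a class function. -/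
theorem sum_sylowMult_mul (S : Sylow p G) [Fintype (S : Subgroup G)] {c : G → ℂ}
    (hc : IsClassFunction G c) :
    (Nat.card (S : Subgroup G) : ℂ) *
        ∑ χ : IrrCharacter G, (sylowMult S χ : ℂ) * ∑ g : G, c g * (χ : G → ℂ) g =
      (Nat.card G : ℂ) * ∑ z : (S : Subgroup G), c (z : G) := by
  classical
  rw [Finset.mul_sum]
  have h1 : ∀ χ : IrrCharacter G,
      (Nat.card (S : Subgroup G) : ℂ) * ((sylowMult S χ : ℂ) * ∑ g : G, c g * (χ : G → ℂ) g) =
        ∑ z : (S : Subgroup G), ∑ g : G, c g * ((χ : G → ℂ) g * conj ((χ : G → ℂ) (z : G))) := by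
    intro χ
    rw [← mul_assoc, ← sylowMult_eq_conj S χ, Finset.sum_mul]
    apply Finset.sum_congr rfl
    intro z _
    rw [Finset.mul_sum]
    apply Finset.sum_congr rfl
    intro g _
    ring
  rw [Finset.sum_congr rfl (fun χ _ => h1 χ), Finset.sum_comm, Finset.mul_sum]
  apply Finset.sum_congr rfl
  intro z _
  rw [Finset.sum_comm]
  have h2 : ∀ g : G, ∑ χ : IrrCharacter G, c g * ((χ : G → ℂ) g * conj ((χ : G → ℂ) (z : G))) =
      c (z : G) * (classIndicator (z : G) g *
        (Nat.card (Subgroup.centralizer ({(z : G)} : Set G)) : ℂ)) := by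
    intro g
    rw [← Finset.mul_sum, sum_irr_mul_conj]
    by_cases hgz : IsConj g (z : G)
    · rw [IsClassFunction.of_isConj hc hgz]
    · have : classIndicator (z : G) g = 0 := by
        unfold classIndicator
        exact if_neg hgz
      rw [this, zero_mul, mul_zero, mul_zero]
  rw [Finset.sum_congr rfl (fun g _ => h2 g), ← Finset.mul_sum, ← Finset.sum_mul]
  have h3 : ∑ g : G, classIndicator (z : G) g = (Nat.card {x : G // IsConj x (z : G)} : ℂ) := by
    have h3' : ∀ g : G, classIndicator (z : G) g = if IsConj g (z : G) then (1 : ℂ) else 0 := by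
      intro g
      by_cases hg : IsConj g (z : G)
      · rw [if_pos hg]
        unfold classIndicator
        exact if_pos hg
      · rw [if_neg hg]
        unfold classIndicator
        exact if_neg hg
    rw [Finset.sum_congr rfl (fun g _ => h3' g)]
    rw [Finset.sum_ite, Finset.sum_const_zero, add_zero, Finset.sum_const, nsmul_eq_mul, mul_one,
      Nat.card_eq_fintype_card, Fintype.card_subtype]
  rw [h3, mul_comm (Nat.card G : ℂ)]
  congr 1
  exact_mod_cast card_conj_mul_card_centralizer (z : G)

omit [Fintype (IrrCharacter G)] hpp in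
/-- Pairing an irreducible character with a product of two class sums. -/
theorem sum_conv_classInd_mul (χ : IrrCharacter G) (u v : G) :
    ∑ g : G, conv (classInd u) (classInd v) g * (χ : G → ℂ) g =
      (χ : G → ℂ) 1 * (centralChar (χ : G → ℂ) u * centralChar (χ : G → ℂ) v) := by
  have h := omegaFun_conv χ (classInd_isClassFunction u) (classInd_isClassFunction v)
  rw [omegaFun_classInd, omegaFun_classInd] at h
  rw [← h]
  unfold omegaFun
  have hne : (χ : G → ℂ) 1 ≠ 0 := by
    have hpos := irr_charDegree_pos χ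
    intro h0
    unfold charDegree at hpos
    rw [h0] at hpos
    simp at hpos
  rw [mul_div_cancel₀ _ hne]

/-- The basic identity: `|S| ∑_χ m_χ χ(1) ω_χ(u) ω_χ(v) = |G| ∑_{z∈S} (K_u K_v)(z)`. -/
theorem sum_sylowMult_centralChar (S : Sylow p G) [Fintype (S : Subgroup G)] (u v : G) :
    (Nat.card (S : Subgroup G) : ℂ) *
        ∑ χ : IrrCharacter G, (sylowMult S χ : ℂ) *
          ((χ : G → ℂ) 1 * (centralChar (χ : G → ℂ) u * centralChar (χ : G → ℂ) v)) =
      (Nat.card G : ℂ) * ∑ z : (S : Subgroup G), conv (classInd u) (classInd v) (z : G) := by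
  rw [← sum_sylowMult_mul S (conv_isClassFunction (classInd_isClassFunction u)
    (classInd_isClassFunction v))]
  congr 1
  apply Finset.sum_congr rfl
  intro χ _
  rw [sum_conv_classInd_mul]

end Cfsg.Agent.Lib.Helper6.SepClasses
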