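/-
helper6: `p`-separated classes, part A: the permutation-character identity
`∑_χ m_χ ω_χ(x_j) χ(x_i⁻¹) = δ_ij |G : S|`.
-/
import Mathlib
import Cfsg.Agent.Lib.Helper6.PermIdentity

set_option autoImplicit false

namespace Cfsg.Agent.Lib.Helper6.SepClasses

open Cfsg Cfsg.Agent.CharLib Cfsg.Agent.Lib.Helper24 Cfsg.Agent.Lib.Helper6 Cfsg.Agent.Lib.Helper23
open scoped ComplexConjugate

universe u

section basic

variable {G : Type u} [Group G]

theorem isConj_inv_inv_iff (v g : G) : IsConj v⁻¹ g⁻¹ ↔ IsConj v g := by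
  constructor
  · intro h
    obtain ⟨c, hc⟩ := isConj_iff.mp h
    refine isConj_iff.mpr ⟨c, ?_⟩
    have h1 : (c * v⁻¹ * c⁻¹)⁻¹ = (g⁻¹)⁻¹ := by rw [hc]
    rw [inv_inv] at h1
    rw [← h1]
    group
  · intro h
    obtain ⟨c, hc⟩ := isConj_iff.mp h
    refine isConj_iff.mpr ⟨c, ?_⟩
    rw [← hc]
    group

theorem classInd_inv_inv (v g : G) : classInd v⁻¹ g⁻¹ = classInd v g := by
  classical
  by_cases h : IsConj v g
  · rw [classInd_of_isConj h, classInd_of_isConj ((isConj_inv_inv_iff v g).mpr h)]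
  · rw [classInd_of_not_isConj h,
      classInd_of_not_isConj (fun h' => h ((isConj_inv_inv_iff v g).mp h'))]

theorem centralizer_singleton_inv (g : G) :
    Subgroup.centralizer ({g⁻¹} : Set G) = Subgroup.centralizer ({g} : Set G) := by
  ext c
  rw [Subgroup.mem_centralizer_singleton_iff, Subgroup.mem_centralizer_singleton_iff]
  constructor
  · intro h
    calc c * g = g * (g⁻¹ * c) * g := by group
      _ = g * (c * g⁻¹) * g := by rw [h]
      _ = g * c := by group
  · intro h
    calc c * g⁻¹ = g⁻¹ * (g * c) * g⁻¹ := by group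
      _ = g⁻¹ * (c * g) * g⁻¹ := by rw [h]
      _ = g⁻¹ * c := by group

variable [Fintype G]

/-- The coefficient of `1` in `K_u K_{v⁻¹}`. -/
theorem conv_classInd_one (u v : G) [Decidable (IsConj u v)] :
    conv (classInd u) (classInd v⁻¹) 1 =
      if IsConj u v then ((Subgroup.centralizer ({u} : Set G)).index : ℂ) else 0 := by
  unfold conv
  have h1 : ∀ g : G, classInd u g * classInd v⁻¹ (g⁻¹ * 1) = classInd u g * classInd v g := by
    intro g
    rw [mul_one, classInd_inv_inv]
  rw [Finset.sum_congr rfl (fun g _ => h1 g)]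
  split_ifs with huv
  · have h2 : ∀ g : G, classInd u g * classInd v g = classInd u g := by
      intro g
      by_cases hg : IsConj u g
      · rw [classInd_of_isConj hg, classInd_of_isConj (huv.symm.trans hg), mul_one]
      · rw [classInd_of_not_isConj hg, zero_mul]
    rw [Finset.sum_congr rfl (fun g _ => h2 g), sum_classInd]
  · apply Finset.sum_eq_zero
    intro g _
    by_cases hg : IsConj u g
    · have hvg : ¬ IsConj v g := fun hv => huv (hg.trans hv.symm)
      rw [classInd_of_not_isConj hvg, mul_zero]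
    · rw [classInd_of_not_isConj hg, zero_mul]

/-- Under the separation hypothesis, `K_u K_{v⁻¹}` has no nonidentity `p`-elements of `S` in its
support. -/
theorem conv_classInd_eq_zero_of_sep {p : ℕ} [hpp : Fact p.Prime] {u v : G}
    (hsep : ∀ g h : G, IsConj u g → IsConj v h → ∀ k : ℕ, 0 < k → orderOf (g * h⁻¹) ≠ p ^ k)
    (S : Sylow p G) (z : (S : Subgroup G)) (hz : z ≠ 1) :
    conv (classInd u) (classInd v⁻¹) (z : G) = 0 := by
  unfold conv
  apply Finset.sum_eq_zero
  intro g _
  by_cases hg : IsConj u g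
  · by_cases hv : IsConj v⁻¹ (g⁻¹ * (z : G))
    · exfalso
      have hv' : IsConj v (g⁻¹ * (z : G))⁻¹ := by
        rw [← isConj_inv_inv_iff, inv_inv]
        exact hv
      obtain ⟨k, hk⟩ := (IsPGroup.iff_orderOf.mp S.2) z
      rw [Subgroup.orderOf_mk] at hk
      have hk0 : 0 < k := by
        rcases Nat.eq_zero_or_pos k with h0 | h0
        · exfalso
          rw [h0, pow_zero, orderOf_eq_one_iff] at hk
          apply hz
          exact Subtype.ext hk
        · exact h0
      have h1 := hsep g (g⁻¹ * (z : G))⁻¹ hg hv' k hk0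
      apply h1
      rw [inv_inv, mul_inv_cancel_left]
      exact hk
    · rw [classInd_of_not_isConj hv, mul_zero]
  · rw [classInd_of_not_isConj hg, zero_mul]

end basic

section identity

variable {G : Type u} [Group G] [Fintype G] [Fintype (IrrCharacter G)] {p : ℕ} [hpp : Fact p.Prime]

omit [Fintype (IrrCharacter G)] hpp in
theorem irr_apply_one_mul_centralChar (χ : IrrCharacter G) (g : G) :
    (χ : G → ℂ) 1 * centralChar (χ : G → ℂ) g =
      ((Subgroup.centralizer ({g} : Set G)).index : ℂ) * (χ : G → ℂ) g := by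
  have hne : (χ : G → ℂ) 1 ≠ 0 := by
    have hpos := irr_charDegree_pos χ
    rw [irr_apply_one]
    exact_mod_cast hpos.ne'
  unfold centralChar
  field_simp

/-- **The separated-class identity**: `∑_χ m_χ ω_χ(x_j) χ(x_i⁻¹) = δ_ij |G : S|`. -/
theorem sum_sylowMult_centralChar_mul_inv (S : Sylow p G) {r : ℕ} (x : Fin r → G)
    (hx : ∀ i j : Fin r, IsConj (x i) (x j) → i = j)
    (hsep : ∀ i j : Fin r, ∀ g h : G, IsConj (x i) g → IsConj (x j) h → ∀ k : ℕ, 0 < k →
      orderOf (g * h⁻¹) ≠ p ^ k) (i j : Fin r) :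
    ∑ χ : IrrCharacter G, (sylowMult S χ : ℂ) *
        (centralChar (χ : G → ℂ) (x j) * (χ : G → ℂ) (x i)⁻¹) =
      if j = i then (((S : Subgroup G).index : ℕ) : ℂ) else 0 := by
  classical
  let _ : Fintype (S : Subgroup G) := Fintype.ofFinite _
  have h := sum_sylowMult_centralChar S (x j) (x i)⁻¹
  -- the right-hand side
  have hR : ∑ z : (S : Subgroup G), conv (classInd (x j)) (classInd (x i)⁻¹) (z : G) =
      if j = i then ((Subgroup.centralizer ({x i} : Set G)).index : ℂ) else 0 := by
    rw [Finset.sum_eq_single (1 : (S : Subgroup G))]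
    · rw [Subgroup.coe_one, conv_classInd_one]
      by_cases hji : j = i
      · subst hji
        rw [if_pos (IsConj.refl _), if_pos rfl]
      · rw [if_neg hji, if_neg]
        intro hc
        exact hji (hx j i hc)
    · intro z _ hz
      exact conv_classInd_eq_zero_of_sep (hsep j i) S z hz
    · intro h1
      exact absurd (Finset.mem_univ _) h1
  -- the left-hand side
  have hL : ∀ χ : IrrCharacter G, (sylowMult S χ : ℂ) *
      ((χ : G → ℂ) 1 * (centralChar (χ : G → ℂ) (x j) * centralChar (χ : G → ℂ) (x i)⁻¹)) =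
      ((Subgroup.centralizer ({x i} : Set G)).index : ℂ) * ((sylowMult S χ : ℂ) *
        (centralChar (χ : G → ℂ) (x j) * (χ : G → ℂ) (x i)⁻¹)) := by
    intro χ
    have h1 := irr_apply_one_mul_centralChar χ (x i)⁻¹
    rw [centralizer_singleton_inv] at h1
    calc (sylowMult S χ : ℂ) *
        ((χ : G → ℂ) 1 * (centralChar (χ : G → ℂ) (x j) * centralChar (χ : G → ℂ) (x i)⁻¹))
        = (sylowMult S χ : ℂ) * (centralChar (χ : G → ℂ) (x j) *
          ((χ : G → ℂ) 1 * centralChar (χ : G → ℂ) (x i)⁻¹)) := by ring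
      _ = _ := by rw [h1]; ring
  rw [Finset.sum_congr rfl (fun χ _ => hL χ), ← Finset.mul_sum, hR] at h
  have hidx : ((Subgroup.centralizer ({x i} : Set G)).index : ℂ) ≠ 0 := index_centralizer_ne_zero _
  have hS0 : (Nat.card (S : Subgroup G) : ℂ) ≠ 0 := by
    have : Nat.card (S : Subgroup G) ≠ 0 := Nat.card_pos.ne'
    exact_mod_cast this
  have hG : (Nat.card G : ℂ) = (Nat.card (S : Subgroup G) : ℂ) * (((S : Subgroup G).index : ℕ) : ℂ) := by
    exact_mod_cast ((S : Subgroup G).card_mul_index).symm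
  by_cases hji : j = i
  · rw [if_pos hji] at h ⊢
    rw [hG] at h
    have h2 : (Nat.card (S : Subgroup G) : ℂ) * ((Subgroup.centralizer ({x i} : Set G)).index : ℂ) *
        ∑ χ : IrrCharacter G, (sylowMult S χ : ℂ) *
          (centralChar (χ : G → ℂ) (x j) * (χ : G → ℂ) (x i)⁻¹) =
        (Nat.card (S : Subgroup G) : ℂ) * ((Subgroup.centralizer ({x i} : Set G)).index : ℂ) *
          (((S : Subgroup G).index : ℕ) : ℂ) := by
      rw [mul_assoc, h]
      ring
    exact mul_left_cancel₀ (mul_ne_zero hS0 hidx) h2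
  · rw [if_neg hji] at h ⊢
    rw [mul_zero] at h
    rcases mul_eq_zero.mp h with h1 | h1
    · exact absurd h1 hS0
    · rcases mul_eq_zero.mp h1 with h2 | h2
      · exact absurd h2 hidx
      · exact h2

end identity

end Cfsg.Agent.Lib.Helper6.SepClasses
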