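/-
helper6: `p`-separated classes, part B: `r` separated classes with defect group `D` produce `r` blocks
with defect group `D` whose central characters on these classes are independent modulo `M`.
-/
import Mathlib
import Cfsg.Agent.Lib.Helper6.SepClassesA
import Cfsg.Agent.Lib.Helper6.ResidueField
import Cfsg.Agent.Lib.Helper6.MinMax
import Cfsg.Agent.Lib.Helper6.DefectOrder
import Cfsg.Agent.Lib.Helper6.FirstMain
import Cfsg.Agent.Lib.Helper23.QuotDefectAux
import Cfsg.Agent.Lib.Helper23.BrauerInduced
import Cfsg.Agent.Lib.Helper23.HeightZeroD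
import Cfsg.Agent.Lib.Lead.CharDecomp

set_option autoImplicit false

namespace Cfsg.Agent.Lib.Helper6.SepClasses

open Cfsg Cfsg.Agent.CharLib Cfsg.Agent.Lib.Helper24 Cfsg.Agent.Lib.Helper6 Cfsg.Agent.Lib.Helper23
open scoped ComplexConjugate

universe u

variable {G : Type u} [Group G] [Finite G] {M : Ideal AlgInt} {p : ℕ} [hpp : Fact p.Prime]

omit hpp in
theorem memLocalRing_irr_apply [hp : M.IsPrime] (χ : IrrCharacter G) (g : G) :
    MemLocalRing M ((χ : G → ℂ) g) :=
  memLocalRing_of_algInt ⟨_, irr_isIntegral χ g⟩ hp.one_notMem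

/-- A character value vanishes modulo `M` when the degree is more divisible by `p` than the
class size. -/
theorem memLocalIdeal_irr_apply_of_lt (hM : IsPModular p M) (χ : IrrCharacter G) (g : G)
    (h : (Subgroup.centralizer ({g} : Set G)).index.factorization p <
      (charDegree (χ : G → ℂ)).factorization p) :
    MemLocalIdeal M ((χ : G → ℂ) g) := by
  classical
  let _ := Fintype.ofFinite G
  haveI hprime : M.IsPrime := isPrime_of_isPModular hM
  have hN0 : (Subgroup.centralizer ({g} : Set G)).index ≠ 0 := Subgroup.index_ne_zero_of_finite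
  have hN0' : ((Subgroup.centralizer ({g} : Set G)).index : ℂ) ≠ 0 := by exact_mod_cast hN0
  have h1 : (χ : G → ℂ) g = (((charDegree (χ : G → ℂ) : ℤ) : ℂ) /
      ((Subgroup.centralizer ({g} : Set G)).index : ℂ)) * centralChar (χ : G → ℂ) g := by
    have h2 := irr_apply_one_mul_centralChar χ g
    rw [irr_apply_one] at h2
    rw [Int.cast_natCast, div_mul_eq_mul_div, h2, mul_div_cancel_left₀ _ hN0']
  rw [h1]
  apply memLocalIdeal_mul_right _ (memLocalRing_centralChar χ g)
  rw [memLocalIdeal_intCast_div_natCast_iff hM hN0]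
  have h2 : p ^ ((Subgroup.centralizer ({g} : Set G)).index.factorization p + 1) ∣
      charDegree (χ : G → ℂ) :=
    dvd_trans (pow_dvd_pow p (Nat.succ_le_of_lt h)) (Nat.ordProj_dvd _ p)
  exact_mod_cast h2

/-- If `D` is a Sylow `p`-subgroup of `C(y)` and of `C(g)` but not a defect group of the block of
`χ`, then `ω_χ(y) χ(g)` vanishes modulo `M`. -/
theorem memLocalIdeal_centralChar_mul_of_not_isDefectGroup (hM : IsPModular p M) (D : Subgroup G)
    (y g : G) (Sy : Sylow p (Subgroup.centralizer ({y} : Set G)))
    (hSy : (Sy : Subgroup (Subgroup.centralizer ({y} : Set G))).map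
      (Subgroup.centralizer ({y} : Set G)).subtype = D)
    (hg : (Subgroup.centralizer ({g} : Set G)).index.factorization p +
      (Nat.card D).factorization p = (Nat.card G).factorization p)
    (χ : IrrCharacter G) (hχ : ¬ IsDefectGroup p M (blockOf M (χ : G → ℂ)) D) :
    MemLocalIdeal M (centralChar (χ : G → ℂ) y * (χ : G → ℂ) g) := by
  classical
  let _ := Fintype.ofFinite G
  haveI hprime : M.IsPrime := isPrime_of_isPModular hM
  by_cases hω : MemLocalIdeal M (centralChar (χ : G → ℂ) y)
  · exact memLocalIdeal_mul_right hω (memLocalRing_irr_apply χ g)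
  · apply memLocalIdeal_mul_left (memLocalRing_centralChar χ y)
    apply memLocalIdeal_irr_apply_of_lt hM
    have hB : IsPBlock M (blockOf M (χ : G → ℂ)) := ⟨χ, rfl⟩
    obtain ⟨E, hE⟩ := exists_isDefectGroup hM _ hB
    have hEcard := card_defectGroup_eq hM _ hB E hE
    obtain ⟨l, hl, Q, hQ⟩ := id hE
    have hcent : CentLE p l y := centLE_of_blockCoeff hM χ y hω l hl.2.1
    obtain ⟨c, hc⟩ := hcent.sylow_le Q Sy
    rw [← hQ, hSy] at hc
    have hle : Nat.card E ≤ Nat.card D := by
      have h1 := Subgroup.card_le_of_le hc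
      rwa [Subgroup.card_map_of_injective (MulAut.conj c).injective] at h1
    have hlt : Nat.card E < Nat.card D := by
      rcases lt_or_eq_of_le hle with h1 | h1
      · exact h1
      · exfalso
        apply hχ
        have heq : E = D.map (MulAut.conj c).toMonoidHom := by
          apply Subgroup.eq_of_le_of_card_ge hc
          rw [Subgroup.card_map_of_injective (MulAut.conj c).injective, h1]
        have h2 := isDefectGroup_conj hM hB hE c⁻¹
        rw [heq, map_conj_map_conj, inv_mul_cancel] at h2
        have h3 : D.map (MulAut.conj (1 : G)).toMonoidHom = D := by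
          rw [map_one]
          exact Subgroup.map_id D
        rwa [h3] at h2
    have hDcard : Nat.card D = p ^ (Nat.card D).factorization p := by
      have hDp : IsPGroup p D := by
        rw [← hSy]
        exact Sy.isPGroup'.map _
      obtain ⟨n, hn⟩ := IsPGroup.iff_card.mp hDp
      rw [hn, Nat.factorization_pow]
      simp [Nat.Prime.factorization_self hpp.out]
    rw [hEcard, hDcard] at hlt
    have hlt' : blockDefect p (blockOf M (χ : G → ℂ)) < (Nat.card D).factorization p :=
      (Nat.pow_lt_pow_iff_right hpp.out.one_lt).mp hlt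
    have hmin := minVal_le (p := p) (B := blockOf M (χ : G → ℂ)) (χ := χ) (mem_blockOf_self χ)
    have hmina : minVal p (blockOf M (χ : G → ℂ)) ≤ (Nat.card G).factorization p :=
      minVal_le_factorization_card ⟨χ, mem_blockOf_self χ⟩
    have hdef : blockDefect p (blockOf M (χ : G → ℂ)) =
        (Nat.card G).factorization p - minVal p (blockOf M (χ : G → ℂ)) := rfl
    omega

/-- **Blocks from separated classes** (central character form). -/
theorem exists_blocks_of_sep (hM : IsPModular p M) (D : Subgroup G) {r : ℕ} (x : Fin r → G)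
    (hx : ∀ i j : Fin r, IsConj (x i) (x j) → i = j)
    (hD : ∀ i : Fin r, ∃ S : Sylow p ↥(Subgroup.centralizer ({x i} : Set G)),
      (S : Subgroup ↥(Subgroup.centralizer ({x i} : Set G))).map
        (Subgroup.centralizer ({x i} : Set G)).subtype = D)
    (hsep : ∀ i j : Fin r, ∀ g h : G, IsConj (x i) g → IsConj (x j) h → ∀ k : ℕ, 0 < k →
      orderOf (g * h⁻¹) ≠ p ^ k) :
    ∃ B : Fin r → Set (IrrCharacter G), Function.Injective B ∧
      (∀ i, IsPBlock M (B i) ∧ IsDefectGroup p M (B i) D) ∧
      ∀ χ : Fin r → IrrCharacter G, (∀ i, χ i ∈ B i) →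
        ¬ MemLocalIdeal M (Matrix.det (Matrix.of fun i j : Fin r =>
          centralChar (χ i : G → ℂ) (x j))) := by
  classical
  let _ := Fintype.ofFinite G
  let _ := fintypeIrr G
  haveI hprime : M.IsPrime := isPrime_of_isPModular hM
  obtain ⟨S⟩ : Nonempty (Sylow p G) := inferInstance
  let 𝔅 := {B : Set (IrrCharacter G) // IsPBlock M B ∧ IsDefectGroup p M B D}
  let _ : Fintype 𝔅 := Fintype.ofFinite _
  have hrep' : ∀ B : 𝔅, ∃ χ : IrrCharacter G, B.1 = blockOf M (χ : G → ℂ) := fun B => B.2.1
  choose rep hrep using hrep'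
  have hup : ¬ p ∣ (S : Subgroup G).index := S.not_dvd_index
  have hu0 : (((S : Subgroup G).index : ℕ) : ℂ) ≠ 0 := by
    have : (S : Subgroup G).index ≠ 0 := Subgroup.index_ne_zero_of_finite
    exact_mod_cast this
  have huinv : MemLocalRing M ((((S : Subgroup G).index : ℕ) : ℂ))⁻¹ :=
    memLocalRing_inv_natCast_of_not_dvd hM hup
  let P : Fin r → 𝔅 → ℂ := fun j B => centralChar (rep B : G → ℂ) (x j)
  let Q : Fin r → 𝔅 → ℂ := fun i B => ((((S : Subgroup G).index : ℕ) : ℂ))⁻¹ *
    ∑ χ : IrrCharacter G, if χ ∈ B.1 then (sylowMult S χ : ℂ) * (χ : G → ℂ) (x i)⁻¹ else 0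
  have hP : ∀ j B, MemLocalRing M (P j B) := fun j B => memLocalRing_centralChar _ _
  have hQ : ∀ i B, MemLocalRing M (Q i B) := by
    intro i B
    apply memLocalRing_mul huinv
    apply sum_memLocalRing
    intro χ _
    split_ifs
    · exact memLocalRing_mul (memLocalRing_natCast _) (memLocalRing_irr_apply χ _)
    · exact memLocalRing_zero
  have hidx : ∀ i : Fin r, (Subgroup.centralizer ({(x i)⁻¹} : Set G)).index.factorization p +
      (Nat.card D).factorization p = (Nat.card G).factorization p := by
    intro i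
    rw [centralizer_singleton_inv]
    obtain ⟨Si, hSi⟩ := hD i
    have h1 : Nat.card D = p ^ (Nat.card (Subgroup.centralizer ({x i} : Set G))).factorization p := by
      rw [← hSi, Subgroup.card_map_of_injective (Subgroup.subtype_injective _)]
      exact Si.card_eq_multiplicity
    have h2 := (Subgroup.centralizer ({x i} : Set G)).card_mul_index
    have h3 : (Nat.card D).factorization p =
        (Nat.card (Subgroup.centralizer ({x i} : Set G))).factorization p := by
      rw [h1, Nat.factorization_pow]
      simp [Nat.Prime.factorization_self hpp.out]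
    rw [h3, ← h2, Nat.factorization_mul Nat.card_pos.ne' Subgroup.index_ne_zero_of_finite]
    simp [add_comm]
  have hmain : ∀ i j, MemLocalIdeal M ((∑ B, P j B * Q i B) - if j = i then 1 else 0) := by
    intro i j
    have hI := sum_sylowMult_centralChar_mul_inv S x hx hsep i j
    have h1 : (if j = i then (1 : ℂ) else 0) = ((((S : Subgroup G).index : ℕ) : ℂ))⁻¹ *
        ∑ χ : IrrCharacter G, (sylowMult S χ : ℂ) *
          (centralChar (χ : G → ℂ) (x j) * (χ : G → ℂ) (x i)⁻¹) := by
      rw [hI]
      split_ifs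
      · rw [inv_mul_cancel₀ hu0]
      · rw [mul_zero]
    have h2 : ∑ B, P j B * Q i B = ((((S : Subgroup G).index : ℕ) : ℂ))⁻¹ *
        ∑ χ : IrrCharacter G, ∑ B : 𝔅, if χ ∈ B.1 then centralChar (rep B : G → ℂ) (x j) *
          ((sylowMult S χ : ℂ) * (χ : G → ℂ) (x i)⁻¹) else 0 := by
      rw [Finset.sum_comm, Finset.mul_sum]
      apply Finset.sum_congr rfl
      intro B _
      simp only [P, Q]
      rw [mul_left_comm, Finset.mul_sum]
      congr 1
      apply Finset.sum_congr rfl
      intro χ _
      split_ifs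
      · rfl
      · rw [mul_zero]
    rw [h1, h2, ← mul_sub, ← Finset.sum_sub_distrib]
    apply memLocalIdeal_mul_left huinv
    apply sum_memLocalIdeal
    intro χ _
    by_cases hgood : IsDefectGroup p M (blockOf M (χ : G → ℂ)) D
    · let B₀ : 𝔅 := ⟨blockOf M (χ : G → ℂ), ⟨χ, rfl⟩, hgood⟩
      rw [Finset.sum_eq_single B₀]
      · rw [if_pos (mem_blockOf_self χ)]
        have h3 : centralChar (rep B₀ : G → ℂ) (x j) *
            ((sylowMult S χ : ℂ) * (χ : G → ℂ) (x i)⁻¹) -
            (sylowMult S χ : ℂ) * (centralChar (χ : G → ℂ) (x j) * (χ : G → ℂ) (x i)⁻¹) =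
            (centralChar (rep B₀ : G → ℂ) (x j) - centralChar (χ : G → ℂ) (x j)) *
              ((sylowMult S χ : ℂ) * (χ : G → ℂ) (x i)⁻¹) := by ring
        rw [h3]
        apply memLocalIdeal_mul_right _
          (memLocalRing_mul (memLocalRing_natCast _) (memLocalRing_irr_apply χ _))
        have h4 : χ ∈ blockOf M (rep B₀ : G → ℂ) := by
          rw [← hrep B₀]
          exact mem_blockOf_self χ
        exact h4 (x j)
      · intro B _ hB
        rw [if_neg]
        intro hχB
        apply hB
        apply Subtype.ext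
        exact isPBlock_eq_of_mem B.2.1 ⟨χ, rfl⟩ hχB (mem_blockOf_self χ)
      · intro h
        exact absurd (Finset.mem_univ _) h
    · rw [Finset.sum_eq_zero, zero_sub]
      · apply memLocalIdeal_neg
        obtain ⟨Sj, hSj⟩ := hD j
        have h3 := memLocalIdeal_centralChar_mul_of_not_isDefectGroup hM D (x j) (x i)⁻¹ Sj hSj
          (hidx i) χ hgood
        exact memLocalIdeal_mul_left (memLocalRing_natCast (M := M) (sylowMult S χ)) h3
      · intro B _
        rw [if_neg]
        intro hχB
        apply hgood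
        have h5 : B.1 = blockOf M (χ : G → ℂ) :=
          isPBlock_eq_of_mem B.2.1 ⟨χ, rfl⟩ hχB (mem_blockOf_self χ)
        rw [← h5]
        exact B.2.2
  obtain ⟨f, hf, hdet⟩ := exists_injective_det_not_memLocalIdeal P Q hP hQ hmain
  refine ⟨fun i => (f i).1, ?_, fun i => (f i).2, ?_⟩
  · intro i j hij
    exact hf (Subtype.ext hij)
  · intro χ hχ
    apply hdet
    intro i j
    have h4 : χ i ∈ blockOf M (rep (f i) : G → ℂ) := by
      rw [← hrep (f i)]
      exact hχ i
    have h5 := memLocalIdeal_neg (h4 (x j))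
    rwa [neg_sub] at h5

end Cfsg.Agent.Lib.Helper6.SepClasses
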