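/-
helper6: `p`-separated classes, part C: from central characters to character values.
-/
import Mathlib
import Cfsg.Agent.Lib.Helper6.SepClassesB

set_option autoImplicit false

namespace Cfsg.Agent.Lib.Helper6.SepClasses

open Cfsg Cfsg.Agent.CharLib Cfsg.Agent.Lib.Helper24 Cfsg.Agent.Lib.Helper6 Cfsg.Agent.Lib.Helper23
open scoped ComplexConjugate

universe u

variable {G : Type u} [Group G] [Finite G] {M : Ideal AlgInt} {p : ℕ} [hpp : Fact p.Prime]

/-- `ν_p |K_g| + ν_p |D| = ν_p |G|` when `D` is a Sylow `p`-subgroup of `C(g)`. -/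
theorem factorization_index_centralizer_add (D : Subgroup G) (g : G)
    (Sg : Sylow p (Subgroup.centralizer ({g} : Set G)))
    (hSg : (Sg : Subgroup (Subgroup.centralizer ({g} : Set G))).map
      (Subgroup.centralizer ({g} : Set G)).subtype = D) :
    (Subgroup.centralizer ({g} : Set G)).index.factorization p + (Nat.card D).factorization p =
      (Nat.card G).factorization p := by
  have h1 : Nat.card D = p ^ (Nat.card (Subgroup.centralizer ({g} : Set G))).factorization p := by
    rw [← hSg, Subgroup.card_map_of_injective (Subgroup.subtype_injective _)]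
    exact Sg.card_eq_multiplicity
  have h2 := (Subgroup.centralizer ({g} : Set G)).card_mul_index
  have h3 : (Nat.card D).factorization p =
      (Nat.card (Subgroup.centralizer ({g} : Set G))).factorization p := by
    rw [h1, Nat.factorization_pow]
    simp [Nat.Prime.factorization_self hpp.out]
  rw [h3, ← h2, Nat.factorization_mul Nat.card_pos.ne' Subgroup.index_ne_zero_of_finite]
  simp [add_comm]

theorem not_memLocalIdeal_natCast_of_not_dvd (hM : IsPModular p M) {k : ℕ} (hk : ¬ p ∣ k) :
    ¬ MemLocalIdeal M (k : ℂ) := by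
  intro h
  have h1 : MemLocalIdeal M (((k : ℤ) : ℤ) : ℂ) := by
    rw [Int.cast_natCast]
    exact h
  have h2 := int_dvd_of_memLocalIdeal hM h1
  exact hk (Int.natCast_dvd_natCast.mp h2)

theorem not_memLocalIdeal_inv_natCast (hM : IsPModular p M) {k : ℕ} (hk : ¬ p ∣ k) :
    ¬ MemLocalIdeal M ((k : ℂ)⁻¹) := by
  haveI hprime : M.IsPrime := isPrime_of_isPModular hM
  intro h
  have hk0 : (k : ℂ) ≠ 0 := by
    have : k ≠ 0 := by
      rintro rfl
      exact hk (dvd_zero p)
    exact_mod_cast this
  have h1 := memLocalIdeal_mul_left (OneBlock_natCast k) h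
  rw [mul_inv_cancel₀ hk0] at h1
  exact not_memLocalIdeal_one (M := M) h1
where
  OneBlock_natCast (k : ℕ) : MemLocalRing M (k : ℂ) := by
    haveI hprime : M.IsPrime := isPrime_of_isPModular hM
    exact memLocalRing_natCast k

omit [Finite G] hpp in
theorem prod_unit [hp : M.IsPrime] {ι : Type*} (s : Finset ι) (f : ι → ℂ)
    (h : ∀ i ∈ s, MemLocalRing M (f i) ∧ ¬ MemLocalIdeal M (f i)) :
    MemLocalRing M (∏ i ∈ s, f i) ∧ ¬ MemLocalIdeal M (∏ i ∈ s, f i) := by
  apply Finset.prod_induction f (fun z => MemLocalRing M z ∧ ¬ MemLocalIdeal M z)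
  · intro a b ha hb
    exact ⟨memLocalRing_mul ha.1 hb.1, not_memLocalIdeal_mul ha.1 hb.1 ha.2 hb.2⟩
  · exact ⟨memLocalRing_one, not_memLocalIdeal_one⟩
  · exact h

/-- If the degrees of the `χ i` and the class sizes of the `x j` all have the same `p`-part, then
the character matrix is invertible modulo `M` as soon as the central character matrix is. -/
theorem det_irr_not_memLocalIdeal (hM : IsPModular p M) (e : ℕ) {r : ℕ}
    (χ : Fin r → IrrCharacter G) (x : Fin r → G)
    (hχ : ∀ i, (charDegree (χ i : G → ℂ)).factorization p = e)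
    (hx : ∀ j, (Subgroup.centralizer ({x j} : Set G)).index.factorization p = e)
    (hdet : ¬ MemLocalIdeal M (Matrix.det (Matrix.of fun i j : Fin r =>
      centralChar (χ i : G → ℂ) (x j)))) :
    ¬ MemLocalIdeal M (Matrix.det (Matrix.of fun i j : Fin r => (χ i : G → ℂ) (x j))) := by
  classical
  let _ := Fintype.ofFinite G
  haveI hprime : M.IsPrime := isPrime_of_isPModular hM
  have hp : p.Prime := hpp.out
  have hpe : ((p : ℂ) ^ e) ≠ 0 := pow_ne_zero _ (Nat.cast_ne_zero.mpr hp.ne_zero)
  let m : Fin r → ℕ := fun i => charDegree (χ i : G → ℂ) / p ^ e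
  let n : Fin r → ℕ := fun j => (Subgroup.centralizer ({x j} : Set G)).index / p ^ e
  have hm : ∀ i, charDegree (χ i : G → ℂ) = p ^ e * m i := by
    intro i
    have := Nat.ordProj_mul_ordCompl_eq_self (charDegree (χ i : G → ℂ)) p
    rw [hχ i] at this
    exact this.symm
  have hn : ∀ j, (Subgroup.centralizer ({x j} : Set G)).index = p ^ e * n j := by
    intro j
    have := Nat.ordProj_mul_ordCompl_eq_self (Subgroup.centralizer ({x j} : Set G)).index p
    rw [hx j] at this
    exact this.symm
  have hmp : ∀ i, ¬ p ∣ m i := by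
    intro i
    have := Nat.not_dvd_ordCompl hp (irr_charDegree_pos (χ i)).ne'
    rw [hχ i] at this
    exact this
  have hnp : ∀ j, ¬ p ∣ n j := by
    intro j
    have := Nat.not_dvd_ordCompl hp
      (Subgroup.index_ne_zero_of_finite (H := Subgroup.centralizer ({x j} : Set G)))
    rw [hx j] at this
    exact this
  have hn0 : ∀ j, (n j : ℂ) ≠ 0 := by
    intro j
    have : n j ≠ 0 := by
      intro h0
      exact hnp j (h0 ▸ dvd_zero p)
    exact_mod_cast this
  have hentry : ∀ i j, (χ i : G → ℂ) (x j) =
      (m i : ℂ) * ((n j : ℂ)⁻¹ * centralChar (χ i : G → ℂ) (x j)) := by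
    intro i j
    have h1 := irr_apply_one_mul_centralChar (χ i) (x j)
    rw [irr_apply_one, hm i, hn j] at h1
    push_cast at h1
    have h2 : (m i : ℂ) * centralChar (χ i : G → ℂ) (x j) = (n j : ℂ) * (χ i : G → ℂ) (x j) := by
      apply mul_left_cancel₀ hpe
      linear_combination h1
    rw [← mul_assoc, mul_comm (m i : ℂ), mul_assoc, h2, ← mul_assoc, inv_mul_cancel₀ (hn0 j),
      one_mul]
  have hmat : (Matrix.of fun i j : Fin r => (χ i : G → ℂ) (x j)) =
      Matrix.of fun i j : Fin r => (m i : ℂ) * (Matrix.of fun i j : Fin r => (n j : ℂ)⁻¹ *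
        (Matrix.of fun i j : Fin r => centralChar (χ i : G → ℂ) (x j)) i j) i j := by
    ext i j
    simp only [Matrix.of_apply]
    exact hentry i j
  rw [hmat, Matrix.det_mul_column, Matrix.det_mul_row]
  have h1 := prod_unit (M := M) Finset.univ (fun i : Fin r => (m i : ℂ))
    (fun i _ => ⟨memLocalRing_natCast _, not_memLocalIdeal_natCast_of_not_dvd hM (hmp i)⟩)
  have h2 := prod_unit (M := M) Finset.univ (fun j : Fin r => ((n j : ℂ))⁻¹)
    (fun j _ => ⟨memLocalRing_inv_natCast_of_not_dvd hM (hnp j),
      not_memLocalIdeal_inv_natCast hM (hnp j)⟩)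
  have hdetR : MemLocalRing M (Matrix.det (Matrix.of fun i j : Fin r =>
      centralChar (χ i : G → ℂ) (x j))) := by
    rw [Matrix.det_apply]
    apply sum_memLocalRing
    intro σ _
    have h3 : MemLocalRing M (∏ i : Fin r, (Matrix.of fun i j : Fin r =>
        centralChar (χ i : G → ℂ) (x j)) (σ i) i) := by
      apply Finset.prod_induction _ (fun z => MemLocalRing M z)
      · intro a b ha hb
        exact memLocalRing_mul ha hb
      · exact memLocalRing_one
      · intro i _
        exact memLocalRing_centralChar _ _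
    rcases Int.units_eq_one_or (Equiv.Perm.sign σ) with hs | hs
    · rw [hs, one_smul]
      exact h3
    · rw [hs, Units.neg_smul, one_smul]
      exact memLocalRing_neg h3
  exact not_memLocalIdeal_mul h1.1 (memLocalRing_mul h2.1 hdetR) h1.2
    (not_memLocalIdeal_mul h2.1 hdetR h2.2 hdet)

end Cfsg.Agent.Lib.Helper6.SepClasses
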