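/-
helper6: the number of `p`-regular elements of a finite group is not divisible by `p`.
-/
import Mathlib

set_option autoImplicit false

namespace Cfsg.Agent.Lib.Helper6

universe u

section central

variable {C : Type u} [Group C] [Finite C]

/-- Every element is the product of a `p`-element and a `p`-regular element, both powers of it. -/
theorem exists_pPart_mul_pRegPart (p : ℕ) [hp : Fact p.Prime] (c : C) :
    ∃ u v : C, c = u * v ∧ (∃ k : ℕ, orderOf u = p ^ k) ∧ ¬ p ∣ orderOf v := by
  have ho : orderOf c ≠ 0 := (orderOf_pos c).ne'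
  obtain ⟨e, r, hr, hor⟩ := Nat.exists_eq_pow_mul_and_not_dvd ho p hp.out.ne_one
  have hcop : Nat.Coprime (p ^ e) r :=
    Nat.Coprime.pow_left e ((Nat.Prime.coprime_iff_not_dvd hp.out).mpr hr)
  obtain ⟨s, t, hst⟩ := Nat.isCoprime_iff_coprime.mpr hcop
  refine ⟨c ^ (t * (r : ℤ)), c ^ (s * ((p ^ e : ℕ) : ℤ)), ?_, ?_, ?_⟩
  · rw [← zpow_add, add_comm, hst, zpow_one]
  · have h1 : (c ^ (t * (r : ℤ))) ^ (p ^ e) = 1 := by
      rw [← zpow_natCast, ← zpow_mul, mul_assoc, ← Nat.cast_mul, mul_comm r, ← hor, mul_comm,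
        zpow_mul, zpow_natCast, pow_orderOf_eq_one, one_zpow]
    obtain ⟨k, -, hk⟩ := (Nat.dvd_prime_pow hp.out).mp (orderOf_dvd_of_pow_eq_one h1)
    exact ⟨k, hk⟩
  · have h1 : (c ^ (s * ((p ^ e : ℕ) : ℤ))) ^ r = 1 := by
      rw [← zpow_natCast, ← zpow_mul, mul_assoc, ← Nat.cast_mul, ← hor, mul_comm,
        zpow_mul, zpow_natCast, pow_orderOf_eq_one, one_zpow]
    intro h2
    exact hr (h2.trans (orderOf_dvd_of_pow_eq_one h1))

/-- If a central `p`-subgroup `Z` contains all `p`-elements, the number of `p`-regular elements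
is the index of `Z`, which is prime to `p`. -/
theorem not_dvd_card_pRegular_of_central (p : ℕ) [hp : Fact p.Prime] (Z : Subgroup C)
    (hZ : ∀ z ∈ Z, ∃ k : ℕ, orderOf z = p ^ k)
    (hcent : Z ≤ Subgroup.center C) (hall : ∀ u : C, (∃ k : ℕ, orderOf u = p ^ k) → u ∈ Z) :
    ¬ p ∣ Nat.card {y : C // ¬ p ∣ orderOf y} := by
  classical
  -- the bijection `Z × Y → C`
  let f : Z × {y : C // ¬ p ∣ orderOf y} → C := fun zy => (zy.1 : C) * (zy.2 : C)
  have hinj : Function.Injective f := by
    rintro ⟨z, y⟩ ⟨z', y'⟩ h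
    change (z : C) * (y : C) = (z' : C) * (y' : C) at h
    -- `w = z'⁻¹ z` is a central `p`-element with `y' = w y`
    have hwZ : (z' : C)⁻¹ * (z : C) ∈ Z := Z.mul_mem (Z.inv_mem z'.2) z.2
    have hy' : (y' : C) = ((z' : C)⁻¹ * (z : C)) * (y : C) := by
      rw [mul_assoc, h, inv_mul_cancel_left]
    have hcomm : Commute ((z' : C)⁻¹ * (z : C)) (y : C) :=
      (Subgroup.mem_center_iff.mp (hcent hwZ) (y : C)).symm
    set n := orderOf (y : C) * orderOf (y' : C) with hn
    have hpn : ¬ p ∣ n := by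
      intro h1
      rcases (Nat.Prime.dvd_mul hp.out).mp h1 with h2 | h2
      · exact y.2 h2
      · exact y'.2 h2
    have h1 : (y' : C) ^ n = 1 := by
      rw [hn, mul_comm, pow_mul, pow_orderOf_eq_one, one_pow]
    have h2 : (y : C) ^ n = 1 := by
      rw [hn, pow_mul, pow_orderOf_eq_one, one_pow]
    have h3 : ((z' : C)⁻¹ * (z : C)) ^ n = 1 := by
      have := h1
      rw [hy', hcomm.mul_pow, h2, mul_one] at this
      exact this
    -- so `w` has order prime to `p`; it also has `p`-power order after a detour through `hall`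
    have h4 : orderOf ((z' : C)⁻¹ * (z : C)) ∣ n := orderOf_dvd_of_pow_eq_one h3
    obtain ⟨k, hk⟩ := hZ _ hwZ
    have hk0 : k = 0 := by
      by_contra hk0
      apply hpn
      refine dvd_trans ?_ h4
      rw [hk]
      exact dvd_pow_self p hk0
    rw [hk0, pow_zero, orderOf_eq_one_iff] at hk
    have hzz : z = z' := by
      apply Subtype.ext
      have := congrArg (fun t => (z' : C) * t) hk
      simpa using this
    have hyy : y = y' := by
      apply Subtype.ext
      rw [hy', hk, one_mul]
    rw [hzz, hyy]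
  have hsurj : Function.Surjective f := by
    intro c
    obtain ⟨u, v, hc, hu, hv⟩ := exists_pPart_mul_pRegPart p c
    exact ⟨(⟨u, hall u hu⟩, ⟨v, hv⟩), hc.symm⟩
  have hcard : Nat.card C = Nat.card Z * Nat.card {y : C // ¬ p ∣ orderOf y} := by
    rw [← Nat.card_prod]
    exact (Nat.card_congr (Equiv.ofBijective f ⟨hinj, hsurj⟩)).symm
  intro hdvd
  have hZp : IsPGroup p Z := by
    rw [IsPGroup.iff_orderOf]
    intro z
    obtain ⟨k, hk⟩ := hZ z z.2
    exact ⟨k, by rw [← hk, Subgroup.orderOf_coe]⟩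
  obtain ⟨k, hk⟩ := IsPGroup.iff_card.mp hZp
  have h1 : p ^ (k + 1) ∣ Nat.card C := by
    rw [hcard, hk, pow_succ]
    exact Nat.mul_dvd_mul_left _ hdvd
  let S : Sylow p C := default
  have hS : (S : Subgroup C) ≤ Z := by
    intro s hs
    apply hall
    obtain ⟨j, hj⟩ := (IsPGroup.iff_orderOf.mp S.isPGroup') ⟨s, hs⟩
    exact ⟨j, by rw [← hj, Subgroup.orderOf_mk]⟩
  have h2 : Nat.card (S : Subgroup C) ≤ Nat.card Z := Subgroup.card_le_of_le hS
  rw [Sylow.card_eq_multiplicity, hk] at h2
  have h3 : k + 1 ≤ (Nat.card C).factorization p :=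
    (Nat.Prime.pow_dvd_iff_le_factorization hp.out Nat.card_pos.ne').mp h1
  have h4 : (Nat.card C).factorization p ≤ k := (Nat.pow_le_pow_iff_right hp.out.one_lt).mp h2
  omega

end central

section main

variable {G : Type u} [Group G]

theorem orderOf_conj_eq (g x : G) : orderOf (g * x * g⁻¹) = orderOf x := by
  rw [← MulAut.conj_apply, MulEquiv.orderOf_eq]

/-- The conjugation action of a subgroup on the set of `p`-regular elements. -/
@[instance_reducible]
def pRegConjAction (p : ℕ) (P : Subgroup G) : MulAction P {x : G // ¬ p ∣ orderOf x} where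
  smul g x := ⟨(g : G) * x.1 * (g : G)⁻¹, by rw [orderOf_conj_eq]; exact x.2⟩
  one_smul x := Subtype.ext (by
    change ((1 : P) : G) * x.1 * ((1 : P) : G)⁻¹ = x.1
    simp)
  mul_smul g h x := Subtype.ext (by
    change ((g * h : P) : G) * x.1 * ((g * h : P) : G)⁻¹ = (g : G) * ((h : G) * x.1 * (h : G)⁻¹) * (g : G)⁻¹
    simp [mul_assoc])

/-- **The number of `p`-regular elements of a finite group is prime to `p`.** -/
theorem not_dvd_card_pRegular [Finite G] (p : ℕ) [hp : Fact p.Prime] :
    ¬ p ∣ Nat.card {x : G // ¬ p ∣ orderOf x} := by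
  classical
  let P : Sylow p G := default
  let _ : MulAction (P : Subgroup G) {x : G // ¬ p ∣ orderOf x} := pRegConjAction p (P : Subgroup G)
  have hmod := IsPGroup.card_modEq_card_fixedPoints P.isPGroup' {x : G // ¬ p ∣ orderOf x}
  set C : Subgroup G := Subgroup.centralizer ((P : Subgroup G) : Set G) with hC
  -- the fixed points are the `p`-regular elements of the centralizer
  have hfix : ∀ x : {x : G // ¬ p ∣ orderOf x},
      x ∈ MulAction.fixedPoints (P : Subgroup G) {x : G // ¬ p ∣ orderOf x} ↔ x.1 ∈ C := by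
    intro x
    rw [MulAction.mem_fixedPoints, hC, Subgroup.mem_centralizer_iff]
    constructor
    · intro h g hg
      have h1 := congrArg Subtype.val (h ⟨g, hg⟩)
      change g * x.1 * g⁻¹ = x.1 at h1
      rw [mul_inv_eq_iff_eq_mul] at h1
      exact h1
    · intro h g
      apply Subtype.ext
      change (g : G) * x.1 * (g : G)⁻¹ = x.1
      rw [mul_inv_eq_iff_eq_mul]
      exact h g g.2
  let e : MulAction.fixedPoints (P : Subgroup G) {x : G // ¬ p ∣ orderOf x} ≃
      {y : C // ¬ p ∣ orderOf y} :=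
    { toFun := fun x => ⟨⟨x.1.1, (hfix x.1).mp x.2⟩, by
        rw [← Subgroup.orderOf_coe]; exact x.1.2⟩
      invFun := fun y => ⟨⟨(y.1 : G), by rw [Subgroup.orderOf_coe]; exact y.2⟩,
        (hfix _).mpr y.1.2⟩
      left_inv := fun x => rfl
      right_inv := fun y => rfl }
  rw [Nat.card_congr e] at hmod
  -- the central `p`-subgroup of the centralizer
  have hcentral := not_dvd_card_pRegular_of_central (C := C) p ((P : Subgroup G).subgroupOf C)
    (by
      intro z hz
      rw [Subgroup.mem_subgroupOf] at hz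
      obtain ⟨k, hk⟩ := (IsPGroup.iff_orderOf.mp P.isPGroup') ⟨(z : G), hz⟩
      exact ⟨k, by rw [← hk, Subgroup.orderOf_mk, ← Subgroup.orderOf_coe]⟩)
    (by
      intro z hz
      rw [Subgroup.mem_subgroupOf] at hz
      rw [Subgroup.mem_center_iff]
      intro c
      apply Subtype.ext
      rw [Subgroup.coe_mul, Subgroup.coe_mul]
      have : (c : G) ∈ Subgroup.centralizer ((P : Subgroup G) : Set G) := c.2
      rw [Subgroup.mem_centralizer_iff] at this
      exact (this (z : G) hz).symm)
    (by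
      rintro u ⟨k, hk⟩
      rw [Subgroup.mem_subgroupOf]
      -- `⟨u⟩ P` is a `p`-group containing `P`
      have hu : IsPGroup p (Subgroup.zpowers (u : G)) := by
        rw [IsPGroup.iff_card, Nat.card_zpowers, Subgroup.orderOf_coe]
        exact ⟨k, hk⟩
      have hnorm : Subgroup.zpowers (u : G) ≤ Subgroup.normalizer ((P : Subgroup G) : Set G) := by
        rw [Subgroup.zpowers_le]
        have h1 : (u : G) ∈ Subgroup.centralizer ((P : Subgroup G) : Set G) := u.2
        exact Subgroup.centralizer_le_normalizer _ h1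
      have hsup := IsPGroup.to_sup_of_normal_right' hu P.isPGroup' hnorm
      have heq := P.is_maximal' hsup le_sup_right
      have : (u : G) ∈ Subgroup.zpowers (u : G) ⊔ (P : Subgroup G) :=
        (le_sup_left : Subgroup.zpowers (u : G) ≤ _) (Subgroup.mem_zpowers _)
      rw [heq] at this
      exact this)
  intro hdvd
  apply hcentral
  exact (Nat.modEq_zero_iff_dvd).mp (hmod.symm.trans ((Nat.modEq_zero_iff_dvd).mpr hdvd))

end main

end Cfsg.Agent.Lib.Helper6
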