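/-
helper6: towards Brauer's third main theorem.  The indicator function of the `p`-regular elements
detects the principal block: `χ` lies in the principal block iff `ω_χ` of it is a unit.
-/
import Mathlib
import Cfsg.Agent.Lib.Helper6.PRegCount
import Cfsg.Agent.Lib.Helper6.BlockOrth
import Cfsg.Agent.Lib.Helper6.FirstMain
import Cfsg.Agent.Lib.Lead.BlockBasic

set_option autoImplicit false

namespace Cfsg.Agent.Lib.Helper6

open Cfsg Cfsg.Agent.CharLib Cfsg.Agent.Lib.Helper24
open scoped ComplexConjugate

universe u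

section pRegInd

variable {G : Type u} [Group G]

/-- The indicator function of the `p`-regular elements. -/
noncomputable def pRegInd (p : ℕ) : G → ℂ := fun x => by
  classical exact if ¬ p ∣ orderOf x then 1 else 0

theorem pRegInd_isClassFunction (p : ℕ) : IsClassFunction G (pRegInd p) := by
  intro g h
  unfold pRegInd
  simp only [orderOf_conj_eq]

theorem memLocalRing_pRegInd {M : Ideal AlgInt} [hp : M.IsPrime] (p : ℕ) (x : G) :
    MemLocalRing M (pRegInd p x) := by
  classical
  unfold pRegInd
  by_cases h : p ∣ orderOf x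
  · rw [if_neg (not_not.mpr h)]
    exact memLocalRing_zero
  · rw [if_pos h]
    exact memLocalRing_one

theorem resFun_pRegInd (p : ℕ) (H : Subgroup G) :
    resFun H (pRegInd p : G → ℂ) = (pRegInd p : H → ℂ) := by
  funext h
  rw [resFun_apply]
  unfold pRegInd
  simp only [Subgroup.orderOf_coe]

theorem omegaFun_trivIrr_pRegInd [Fintype G] (p : ℕ) :
    omegaFun ((trivIrr G : IrrCharacter G) : G → ℂ) (pRegInd p) =
      (Nat.card {x : G // ¬ p ∣ orderOf x} : ℂ) := by
  classical
  unfold omegaFun
  change (∑ g : G, pRegInd p g * (1 : ℂ)) / (1 : ℂ) = _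
  rw [div_one]
  simp only [mul_one]
  unfold pRegInd
  rw [Finset.sum_ite, Finset.sum_const_zero, add_zero, Finset.sum_const, nsmul_eq_mul, mul_one,
    Nat.card_eq_fintype_card, Fintype.card_subtype]

/-- Outside the principal block, the sum of a character over the `p`-regular elements vanishes. -/
theorem omegaFun_pRegInd_eq_zero [Fintype G] {M : Ideal AlgInt} {p : ℕ} [hpp : Fact p.Prime]
    (hM : IsPModular p M) (χ : IrrCharacter G) (hχ : χ ∉ principalBlock M G) :
    omegaFun (χ : G → ℂ) (pRegInd p) = 0 := by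
  classical
  have hprime : M.IsPrime := isPrime_of_isPModular hM
  have h1 := sum_regular_eq_zero_of_not_mem_block hM (trivIrr G) χ hχ (trivIrr G)
    (mem_blockOf_self (trivIrr G))
  unfold omegaFun
  rw [div_eq_zero_iff]
  left
  refine Eq.trans ?_ h1
  apply Finset.sum_congr rfl
  intro x _
  unfold pRegInd
  have h2 : ((trivIrr G : IrrCharacter G) : G → ℂ) x = 1 := rfl
  by_cases hx : p ∣ orderOf x
  · rw [if_neg (not_not.mpr hx), if_neg (not_not.mpr hx), zero_mul]
  · rw [if_pos hx, if_pos hx, one_mul, h2, map_one, mul_one]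

/-- **Detection of the principal block** by the sum over the `p`-regular elements. -/
theorem mem_principalBlock_iff [Fintype G] {M : Ideal AlgInt} {p : ℕ} [hpp : Fact p.Prime]
    (hM : IsPModular p M) (χ : IrrCharacter G) :
    χ ∈ principalBlock M G ↔ ¬ MemLocalIdeal M (omegaFun (χ : G → ℂ) (pRegInd p)) := by
  have hprime : M.IsPrime := isPrime_of_isPModular hM
  constructor
  · intro hχ hmem
    have h1 := memLocalIdeal_omegaFun_sub (M := M) (trivIrr G) χ hχ (pRegInd_isClassFunction p)
      (memLocalRing_pRegInd p)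
    have h2 := memLocalIdeal_add h1 hmem
    rw [sub_add_cancel, omegaFun_trivIrr_pRegInd] at h2
    have h3 : ((Nat.card {x : G // ¬ p ∣ orderOf x} : AlgInt) : ℂ) =
        (Nat.card {x : G // ¬ p ∣ orderOf x} : ℂ) := by simp
    rw [← h3, memLocalIdeal_coe_iff] at h2
    exact natCast_not_mem_of_not_dvd hM (not_dvd_card_pRegular p) h2
  · intro h
    by_contra hχ
    apply h
    rw [omegaFun_pRegInd_eq_zero hM χ hχ]
    exact memLocalIdeal_zero hprime.one_notMem

/-- A congruence with the number of `p`-regular elements forces a unit. -/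
theorem not_memLocalIdeal_of_sub_card_pRegular {M : Ideal AlgInt} {p : ℕ} [hpp : Fact p.Prime]
    (hM : IsPModular p M) (X : Type u) [Group X] [Finite X] {z : ℂ}
    (h : MemLocalIdeal M (z - (Nat.card {x : X // ¬ p ∣ orderOf x} : ℂ))) :
    ¬ MemLocalIdeal M z := by
  have hprime : M.IsPrime := isPrime_of_isPModular hM
  intro hz
  have h2 := memLocalIdeal_sub hz h
  rw [sub_sub_cancel] at h2
  have h3 : ((Nat.card {x : X // ¬ p ∣ orderOf x} : AlgInt) : ℂ) =
      (Nat.card {x : X // ¬ p ∣ orderOf x} : ℂ) := by simp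
  rw [← h3, memLocalIdeal_coe_iff] at h2
  exact natCast_not_mem_of_not_dvd hM (not_dvd_card_pRegular p) h2

end pRegInd

end Cfsg.Agent.Lib.Helper6
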