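/-
helper6: characters of the principal block are constant on `u · O_{p'}(C_G(u))` for a
`p`-element `u` (consequence of Brauer's second and third main theorems).
-/
import Mathlib
import Cfsg.Agent.Lib.Helper6.QuotBlock
import Cfsg.Agent.Lib.Helper12.Cores
import Cfsg.Agent.Lib.Helper1.Fitting
import Cfsg.Agent.Lib.Lead.SecondMain3
import Cfsg.Agent.S0923
import Cfsg.Agent.S0936

set_option autoImplicit false

namespace Cfsg.Agent.Lib.Helper6

open Cfsg Cfsg.Agent.CharLib Cfsg.Agent.Lib.Helper24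
open scoped ComplexConjugate

universe u

section fiberwise

variable {X : Type u} [Group X] [Fintype X] {M : Ideal AlgInt}

/-- A sum over the irreducible characters vanishes if it vanishes on every block. -/
theorem sum_irr_eq_zero_of_forall_block [hp : M.IsPrime] [Fintype (IrrCharacter X)]
    (F : IrrCharacter X → ℂ)
    (h : ∀ ψ : IrrCharacter X, ∑ᶠ φ ∈ blockOf M (ψ : X → ℂ), F φ = 0) : ∑ ψ, F ψ = 0 := by
  classical
  set t : Finset (Set (IrrCharacter X)) :=
    Finset.univ.image (fun ψ : IrrCharacter X => blockOf M (ψ : X → ℂ)) with ht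
  have hmaps : ∀ ψ ∈ (Finset.univ : Finset (IrrCharacter X)),
      (fun ψ : IrrCharacter X => blockOf M (ψ : X → ℂ)) ψ ∈ t := by
    intro ψ _
    exact Finset.mem_image_of_mem _ (Finset.mem_univ ψ)
  rw [← Finset.sum_fiberwise_of_maps_to hmaps F]
  apply Finset.sum_eq_zero
  intro b' hb'
  obtain ⟨ψ', -, rfl⟩ := Finset.mem_image.mp hb'
  have h2 := h ψ'
  rw [finsum_mem_eq_sum_ite] at h2
  rw [← h2, Finset.sum_filter]
  apply Finset.sum_congr rfl
  intro φ _
  have hiff : blockOf M (φ : X → ℂ) = blockOf M (ψ' : X → ℂ) ↔ φ ∈ blockOf M (ψ' : X → ℂ) := by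
    constructor
    · intro heq
      rw [← heq]
      exact mem_blockOf_self φ
    · intro hmem
      exact isPBlock_eq_of_mem ⟨φ, rfl⟩ ⟨ψ', rfl⟩ (mem_blockOf_self φ) hmem
  by_cases hc : φ ∈ blockOf M (ψ' : X → ℂ)
  · rw [if_pos (hiff.mpr hc), if_pos hc]
  · rw [if_neg (fun h' => hc (hiff.mp h')), if_neg hc]

end fiberwise

section principal

variable {G : Type u} [Group G] [Finite G] {M : Ideal AlgInt}

/-- **Characters of the principal block are constant on `u · O_{p'}(C_G(u))`.** -/
theorem principalBlock_apply_mul_core {p : ℕ} [hpp : Fact p.Prime] (hM : IsPModular p M) (u : G)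
    (hu : ∃ k : ℕ, orderOf u = p ^ k) (v : G) (hv : v ∈ centralizerPPrimeCore p u)
    (χ : IrrCharacter G) (hχ : χ ∈ principalBlock M G) :
    (χ : G → ℂ) (u * v) = (χ : G → ℂ) u := by
  classical
  have hprime : M.IsPrime := isPrime_of_isPModular hM
  set C := Subgroup.centralizer ({u} : Set G) with hC
  let _ : Fintype C := Fintype.ofFinite C
  let _ := fintypeIrr C
  obtain ⟨w, hw, rfl⟩ := hv
  set K : Subgroup C := pPrimeCore p C with hK
  have hKn : K.Normal := Cfsg.Agent.Lib.Helper1.pPrimeCore_normal p C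
  have hKp : ¬ p ∣ Nat.card K := by
    have h1 : (Nat.card K).Coprime p := Cfsg.Agent.Lib.Helper12.pPrimeCore_coprime p
    intro h2
    have := Nat.Coprime.eq_one_of_dvd h1.symm h2
    exact hpp.out.one_lt.ne' this
  -- `w` is `p`-regular
  have hwreg : ¬ p ∣ orderOf w := by
    intro h
    apply hKp
    have h1 : orderOf (⟨w, hw⟩ : K) ∣ Nat.card K := orderOf_dvd_natCard _
    rw [Subgroup.orderOf_mk] at h1
    exact h.trans h1
  have h1reg : ¬ p ∣ orderOf (1 : C) := by
    rw [orderOf_one]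
    exact fun h => hpp.out.one_lt.ne' (Nat.dvd_one.mp h)
  set ϑ : C → ℂ := fun c => (χ : G → ℂ) (u * (c : G)) with hϑ
  have hχcls : IsClassFunction G (χ : G → ℂ) :=
    IsCharacter.isClassFunction (IsIrrCharacter.isCharacter χ.2)
  have hϑcls : IsClassFunction C ϑ := by
    intro c h
    change (χ : G → ℂ) (u * ((h * c * h⁻¹ : C) : G)) = (χ : G → ℂ) (u * (c : G))
    have hcomm : (h : G) * u = u * (h : G) := Subgroup.mem_centralizer_singleton_iff.mp h.2
    have h1 : u * ((h * c * h⁻¹ : C) : G) = (h : G) * (u * (c : G)) * (h : G)⁻¹ := by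
      push_cast
      rw [← mul_assoc, ← mul_assoc, ← mul_assoc, hcomm]
    rw [h1, hχcls]
  have hdec := classFunction_eq_sum hϑcls
  have hval : ∀ y : C, ϑ y = ∑ ψ : IrrCharacter C, classInner ϑ (ψ : C → ℂ) * (ψ : C → ℂ) y := by
    intro y
    have := congrFun hdec y
    rw [Finset.sum_apply] at this
    simpa only [Pi.smul_apply, smul_eq_mul] using this
  -- the difference as a sum over the irreducible characters
  have hdiff : ϑ w - ϑ 1 = ∑ ψ : IrrCharacter C,
      classInner ϑ (ψ : C → ℂ) * ((ψ : C → ℂ) w - (ψ : C → ℂ) 1) := by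
    rw [hval w, hval 1, ← Finset.sum_sub_distrib]
    apply Finset.sum_congr rfl
    intro ψ _
    ring
  have hzero : ∑ ψ : IrrCharacter C,
      classInner ϑ (ψ : C → ℂ) * ((ψ : C → ℂ) w - (ψ : C → ℂ) 1) = 0 := by
    apply sum_irr_eq_zero_of_forall_block (M := M)
    intro ψ'
    by_cases hψ' : ψ' ∈ principalBlock M C
    · -- the principal block: `K` lies in the kernels
      have hb : blockOf M (ψ' : C → ℂ) = principalBlock M C :=
        isPBlock_eq_of_mem ⟨ψ', rfl⟩ ⟨Cfsg.Agent.CharLib.trivIrr C, rfl⟩ (mem_blockOf_self ψ') hψ'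
      rw [hb]
      apply finsum_mem_eq_zero_of_forall_eq_zero
      intro φ hφ
      have h1 := le_ker_of_sameBlock_one hM K hKp φ hφ w hw
      rw [h1, sub_self, mul_zero]
    · -- the other blocks: second and third main theorems
      have hnot : ¬ IsInducedBlock M C (blockOf M (ψ' : C → ℂ)) (principalBlock M G) := by
        intro hind
        have h3 := (Cfsg.Agent.S0936.result p M hM C (blockOf M (ψ' : C → ℂ)) ⟨_, hind⟩).mp hind
        apply hψ'
        rw [← h3]
        exact mem_blockOf_self ψ'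
      have h4 := fun y hy => Cfsg.Agent.S0923.result p M hM u hu (principalBlock M G)
        ⟨Cfsg.Agent.CharLib.trivIrr G, rfl⟩ χ hχ (blockOf M (ψ' : C → ℂ)) ⟨ψ', rfl⟩ hnot y hy
      have h5 := h4 w hwreg
      have h6 := h4 1 h1reg
      rw [blockPart_apply] at h5 h6
      have h7 : ∑ᶠ φ ∈ blockOf M (ψ' : C → ℂ),
          classInner ϑ (φ : C → ℂ) * ((φ : C → ℂ) w - (φ : C → ℂ) 1) =
          (∑ᶠ φ ∈ blockOf M (ψ' : C → ℂ), classInner ϑ (φ : C → ℂ) * (φ : C → ℂ) w) -
          ∑ᶠ φ ∈ blockOf M (ψ' : C → ℂ), classInner ϑ (φ : C → ℂ) * (φ : C → ℂ) 1 := by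
        rw [← finsum_mem_sub_distrib _ _ (Set.toFinite _)]
        apply finsum_mem_congr rfl
        intro φ _
        ring
      rw [h7, h5, h6, sub_self]
  rw [hzero] at hdiff
  have h8 : ϑ w = ϑ 1 := sub_eq_zero.mp hdiff
  change (χ : G → ℂ) (u * ((w : C) : G)) = (χ : G → ℂ) (u * ((1 : C) : G)) at h8
  change (χ : G → ℂ) (u * ((w : C) : G)) = (χ : G → ℂ) u
  rw [h8, Subgroup.coe_one, mul_one]

end principal

end Cfsg.Agent.Lib.Helper6
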