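/-
helper6: blocks and a normal `p`-subgroup `P` with `G / C_G(P)` a `p`-group: inflation from `G ⧸ P`
is a bijection on blocks.  Also the `p`-regular criterion for lying in the same block.
-/
import Mathlib
import Cfsg.Agent.Lib.Helper6.DefectOrder
import Cfsg.Agent.Lib.Helper6.QuotBlock
import Cfsg.Agent.Lib.Helper6.Gallagher2

set_option autoImplicit false

namespace Cfsg.Agent.Lib.Helper6

open Cfsg Cfsg.Agent.CharLib Cfsg.Agent.Lib.Helper24
open scoped ComplexConjugate

universe u

section criterion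

variable {G : Type u} [Group G] [Fintype G] {M : Ideal AlgInt}

/-- **The `p`-regular criterion**: two irreducible characters whose central characters agree
modulo the local ideal on the `p`-regular elements lie in the same block. -/
theorem sameBlock_of_forall_pRegular {p : ℕ} [hpp : Fact p.Prime] (hM : IsPModular p M)
    (χ ψ : IrrCharacter G)
    (h : ∀ g : G, ¬ p ∣ orderOf g →
      MemLocalIdeal M (centralChar (χ : G → ℂ) g - centralChar (ψ : G → ℂ) g)) :
    SameBlock M (χ : G → ℂ) (ψ : G → ℂ) := by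
  classical
  let _ : Fintype (ConjClasses G) := Fintype.ofFinite _
  have hprime : M.IsPrime := isPrime_of_isPModular hM
  set B := blockOf M (χ : G → ℂ) with hB
  have ha : IsClassFunction G (blockCoeff B) := blockCoeff_isClassFunction B
  have h1 : omegaFun (χ : G → ℂ) (blockCoeff B) = 1 := by
    rw [omegaFun_blockCoeff, if_pos (mem_blockOf_self χ)]
  have h2 := omegaFun_blockCoeff B ψ
  have hdiff : MemLocalIdeal M (omegaFun (χ : G → ℂ) (blockCoeff B) -
      omegaFun (ψ : G → ℂ) (blockCoeff B)) := by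
    rw [omegaFun_eq_sum_conjClasses χ ha, omegaFun_eq_sum_conjClasses ψ ha,
      ← Finset.sum_sub_distrib]
    apply sum_memLocalIdeal
    intro C _
    rw [← mul_sub]
    by_cases hC : p ∣ orderOf (Quotient.out C)
    · rw [blockCoeff_eq_zero_of_dvd_orderOf hM χ _ hC, zero_mul]
      exact memLocalIdeal_zero hprime.one_notMem
    · exact memLocalIdeal_mul_left (memLocalRing_blockCoeff_blockOf χ _) (h _ hC)
  by_contra hψ
  have hψ' : ψ ∉ B := hψ
  rw [h1, h2, if_neg hψ', sub_zero] at hdiff
  exact not_memLocalIdeal_one hdiff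

end criterion

section normalP

variable {G : Type u} [Group G] [Finite G] (P : Subgroup G) [hPn : P.Normal]

/-- If `G / C_G(P)` is a `p`-group, the `p`-regular elements centralise `P`. -/
theorem mem_centralizer_of_pRegular {p : ℕ} [hpp : Fact p.Prime]
    (hC : ∃ k : ℕ, (Subgroup.centralizer (P : Set G)).index = p ^ k) {x : G}
    (hx : ¬ p ∣ orderOf x) : x ∈ Subgroup.centralizer (P : Set G) := by
  obtain ⟨k, hk⟩ := hC
  rw [← QuotientGroup.eq_one_iff, ← orderOf_eq_one_iff]
  have h1 : orderOf ((x : G) : G ⧸ Subgroup.centralizer (P : Set G)) ∣ orderOf x :=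
    orderOf_map_dvd (QuotientGroup.mk' _) x
  have h2 : orderOf ((x : G) : G ⧸ Subgroup.centralizer (P : Set G)) ∣ p ^ k := by
    rw [← hk, Subgroup.index_eq_card]
    exact orderOf_dvd_natCard _
  obtain ⟨j, -, hj⟩ := (Nat.dvd_prime_pow hpp.out).mp h2
  rcases Nat.eq_zero_or_pos j with rfl | hj0
  · rw [hj, pow_zero]
  · exfalso
    apply hx
    refine dvd_trans ?_ h1
    rw [hj]
    exact dvd_pow_self p hj0.ne'

/-- For `p`-regular `x` centralising the normal `p`-subgroup `P`, the centralizer of the image of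
`x` in `G ⧸ P` is the image of the centralizer of `x`. -/
theorem comap_centralizer_mk_eq {p : ℕ} [hpp : Fact p.Prime] (hP : IsPGroup p P) {x : G}
    (hx : ¬ p ∣ orderOf x) (hxC : x ∈ Subgroup.centralizer (P : Set G)) :
    (Subgroup.centralizer ({(x : G ⧸ P)} : Set (G ⧸ P))).comap (QuotientGroup.mk' P) =
      Subgroup.centralizer ({x} : Set G) := by
  ext g
  rw [Subgroup.mem_comap, Subgroup.mem_centralizer_singleton_iff,
    Subgroup.mem_centralizer_singleton_iff]
  constructor
  · intro h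
    -- `u = g x g⁻¹ x⁻¹ ∈ P`
    have h1 : ((g * x * g⁻¹ * x⁻¹ : G) : G ⧸ P) = 1 := by
      have h2 : ((g : G) : G ⧸ P) * (x : G ⧸ P) = (x : G ⧸ P) * (g : G ⧸ P) := h
      rw [QuotientGroup.mk_mul, QuotientGroup.mk_mul, QuotientGroup.mk_mul, h2]
      simp
    rw [QuotientGroup.eq_one_iff] at h1
    set u := g * x * g⁻¹ * x⁻¹ with hu
    have hux : Commute u x := (Subgroup.mem_centralizer_iff.mp hxC u h1)
    have hconj : u * x = g * x * g⁻¹ := by rw [hu]; group
    have hu1 : u = 1 := by
      by_contra hne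
      have hup : ∃ k : ℕ, orderOf u = p ^ k := by
        obtain ⟨k, hk⟩ := (IsPGroup.iff_orderOf.mp hP) ⟨u, h1⟩
        exact ⟨k, by rw [← hk, Subgroup.orderOf_mk]⟩
      have h3 := dvd_orderOf_mul_of_commute hux hup hne hx (orderOf_pos x)
      rw [hconj, ← MulAut.conj_apply, MulEquiv.orderOf_eq] at h3
      exact hx h3
    rw [hu1, one_mul] at hconj
    have := congrArg (fun t => t * g) hconj
    simp only [inv_mul_cancel_right] at this
    exact this.symm
  · intro h
    change ((g : G) : G ⧸ P) * (x : G ⧸ P) = (x : G ⧸ P) * (g : G ⧸ P)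
    rw [← QuotientGroup.mk_mul, ← QuotientGroup.mk_mul, h]

/-- The class sizes of `x` and of its image agree. -/
theorem index_centralizer_mk_eq {p : ℕ} [hpp : Fact p.Prime] (hP : IsPGroup p P) {x : G}
    (hx : ¬ p ∣ orderOf x) (hxC : x ∈ Subgroup.centralizer (P : Set G)) :
    (Subgroup.centralizer ({(x : G ⧸ P)} : Set (G ⧸ P))).index =
      (Subgroup.centralizer ({x} : Set G)).index := by
  rw [← comap_centralizer_mk_eq P hP hx hxC,
    Subgroup.index_comap_of_surjective _ (QuotientGroup.mk'_surjective P)]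

/-- `p`-regular elements of `G ⧸ P` lift to `p`-regular elements. -/
theorem exists_pRegular_lift {p : ℕ} [hpp : Fact p.Prime] (y : G ⧸ P) (hy : ¬ p ∣ orderOf y) :
    ∃ x : G, ¬ p ∣ orderOf x ∧ (x : G ⧸ P) = y := by
  classical
  let _ := Fintype.ofFinite G
  obtain ⟨g, rfl⟩ := QuotientGroup.mk_surjective y
  have hcop : Nat.Coprime p (orderOf (g : G ⧸ P)) :=
    (Nat.Prime.coprime_iff_not_dvd hpp.out).mpr hy
  have htot : 0 < Nat.totient (orderOf (g : G ⧸ P)) := Nat.totient_pos.mpr (orderOf_pos _)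
  obtain ⟨s, hs⟩ : ∃ s, Nat.totient (orderOf (g : G ⧸ P)) = s + 1 :=
    ⟨Nat.totient (orderOf (g : G ⧸ P)) - 1, by omega⟩
  refine ⟨g ^ (p ^ ((s + 1) * Fintype.card G)), ?_, ?_⟩
  · have h1 : p ^ ((s + 1) * Fintype.card G) = p ^ Fintype.card G * p ^ (s * Fintype.card G) := by
      rw [← pow_add]
      congr 1
      ring
    rw [h1, pow_mul]
    intro h
    exact not_dvd_orderOf_pow_card p g (h.trans (orderOf_pow_dvd _))
  · rw [QuotientGroup.mk_pow]
    have hmod : p ^ ((s + 1) * Fintype.card G) ≡ 1 [MOD orderOf (g : G ⧸ P)] := by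
      have h1 := (Nat.ModEq.pow_totient hcop).pow (Fintype.card G)
      rwa [← pow_mul, one_pow, hs] at h1
    have := (pow_eq_pow_iff_modEq (x := (g : G ⧸ P))).mpr hmod
    rwa [pow_one] at this

/-- The central character of an inflated function at a `p`-regular element. -/
theorem centralChar_inflate_eq {p : ℕ} [hpp : Fact p.Prime] (hP : IsPGroup p P) {x : G}
    (hx : ¬ p ∣ orderOf x) (hxC : x ∈ Subgroup.centralizer (P : Set G)) (β : G ⧸ P → ℂ) :
    centralChar (β ∘ (QuotientGroup.mk : G → G ⧸ P)) x = centralChar β (x : G ⧸ P) := by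
  unfold centralChar
  rw [index_centralizer_mk_eq P hP hx hxC]
  rfl

/-- **Blocks of `G ⧸ P` and of `G`** for a normal `p`-subgroup `P` with `G / C_G(P)` a `p`-group. -/
theorem sameBlock_inflate_iff {p : ℕ} [hpp : Fact p.Prime] {M : Ideal AlgInt}
    (hM : IsPModular p M) (hP : IsPGroup p P)
    (hC : ∃ k : ℕ, (Subgroup.centralizer (P : Set G)).index = p ^ k)
    (χ ψ : IrrCharacter (G ⧸ P)) :
    SameBlock M (χ : G ⧸ P → ℂ) (ψ : G ⧸ P → ℂ) ↔
      SameBlock M ((χ : G ⧸ P → ℂ) ∘ QuotientGroup.mk) ((ψ : G ⧸ P → ℂ) ∘ QuotientGroup.mk) := by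
  classical
  have hprime : M.IsPrime := isPrime_of_isPModular hM
  constructor
  · intro h
    exact sameBlock_inflate P _ _ h
  · intro h
    let _ := Fintype.ofFinite (G ⧸ P)
    apply sameBlock_of_forall_pRegular hM χ ψ
    intro y hy
    obtain ⟨x, hx, rfl⟩ := exists_pRegular_lift P y hy
    have hxC := mem_centralizer_of_pRegular P hC hx
    rw [← centralChar_inflate_eq P hP hx hxC, ← centralChar_inflate_eq P hP hx hxC]
    exact h x

/-- Every block of `G` contains an inflated character. -/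
theorem exists_inflation_mem_block {p : ℕ} [hpp : Fact p.Prime] {M : Ideal AlgInt}
    (hM : IsPModular p M) (hP : IsPGroup p P)
    (hC : ∃ k : ℕ, (Subgroup.centralizer (P : Set G)).index = p ^ k)
    (B : Set (IrrCharacter G)) (hB : IsPBlock M B) :
    ∃ χ : IrrCharacter (G ⧸ P), ∃ θ ∈ B,
      (θ : G → ℂ) = (χ : G ⧸ P → ℂ) ∘ QuotientGroup.mk := by
  classical
  let _ := Fintype.ofFinite G
  let _ := fintypeIrr G
  let _ : Fintype P := Fintype.ofFinite P
  have hprime : M.IsPrime := isPrime_of_isPModular hM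
  by_contra hcon
  push Not at hcon
  -- no member of `B` lies over the trivial character of `P`
  have h1 : ∀ θ ∈ B, ∀ g : G, ∑ n : P, (θ : G → ℂ) ((n : G) * g) = 0 := by
    intro θ hθ g
    apply sum_normal_mul_eq_zero P θ.2
    by_contra hne
    obtain ⟨-, h2⟩ := apply_mul_of_indFun_one_ne_zero P θ.2 hne
    obtain ⟨β, hβ⟩ := exists_deflation P θ (fun n hn => by
      have := h2 ⟨n, hn⟩ 1
      rwa [mul_one] at this)
    apply hcon β θ hθ
    funext g
    exact (hβ g).symm
  have h2 : ∀ g : G, ∑ n : P, blockCoeff B ((n : G) * g) = 0 := by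
    intro g
    simp_rw [blockCoeff_eq_sum B]
    rw [← Finset.mul_sum, Finset.sum_comm]
    apply mul_eq_zero_of_right
    apply Finset.sum_eq_zero
    intro θ _
    by_cases hθ : θ ∈ B
    · simp only [if_pos hθ]
      rw [← Finset.mul_sum, ← map_sum, h1 θ hθ g, map_zero, mul_zero]
    · simp only [if_neg hθ, Finset.sum_const_zero]
  -- a defect class representative
  obtain ⟨y, hy⟩ := Cfsg.Agent.S0906.result p M hM B hB
  obtain ⟨χ₀, rfl⟩ := hB
  have hy0 : blockCoeff (blockOf M (χ₀ : G → ℂ)) y ≠ 0 := by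
    intro h0
    apply hy.2.1
    rw [h0]
    exact memLocalIdeal_zero hprime.one_notMem
  have hyreg : ¬ p ∣ orderOf y := fun h => hy0 (blockCoeff_eq_zero_of_dvd_orderOf hM χ₀ y h)
  have hyC := mem_centralizer_of_pRegular P hC hyreg
  have h3 := h2 y
  rw [Finset.sum_eq_single (1 : P)] at h3
  · rw [Subgroup.coe_one, one_mul] at h3
    exact hy0 h3
  · intro n _ hn
    apply blockCoeff_eq_zero_of_dvd_orderOf hM χ₀
    have hcomm : Commute (n : G) y := (Subgroup.mem_centralizer_iff.mp hyC n n.2)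
    have hnp : ∃ k : ℕ, orderOf (n : G) = p ^ k := by
      obtain ⟨k, hk⟩ := (IsPGroup.iff_orderOf.mp hP) n
      exact ⟨k, by rw [← hk, Subgroup.orderOf_coe]⟩
    have hn1 : (n : G) ≠ 1 := fun h => hn (Subtype.ext h)
    exact dvd_orderOf_mul_of_commute hcomm hnp hn1 hyreg (orderOf_pos y)
  · intro h
    exact absurd (Finset.mem_univ _) h

end normalP

end Cfsg.Agent.Lib.Helper6
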