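/-
helper6: extending invariant linear characters of normal subgroups by the transfer.
-/
import Mathlib
import Cfsg.Agent.Lib.Helper6.LinChar
import Cfsg.Agent.Lib.Helper8.TransferMod

set_option autoImplicit false

namespace Cfsg.Agent.Lib.Helper6

open Cfsg Cfsg.Agent.CharLib

universe u

variable {G : Type u} [Group G]

/-- The function `G → ℂ` of a homomorphism `G →* ℂˣ`, as a monoid homomorphism into the functions
under pointwise multiplication. -/
def unitsHomToFun (G : Type u) [Group G] : (G →* ℂˣ) →* (G → ℂ) where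
  toFun φ := fun g => ((φ g : ℂˣ) : ℂ)
  map_one' := by funext g; simp
  map_mul' := by intro φ ψ; funext g; simp

theorem unitsHomToFun_apply (φ : G →* ℂˣ) (g : G) : unitsHomToFun G φ g = ((φ g : ℂˣ) : ℂ) := rfl

theorem unitsHomToFun_injective : Function.Injective (unitsHomToFun G) := by
  intro φ ψ h
  apply MonoidHom.ext
  intro g
  apply Units.ext
  exact congrFun h g

theorem orderOf_unitsHomToFun (φ : G →* ℂˣ) : orderOf (unitsHomToFun G φ) = orderOf φ :=
  orderOf_injective (unitsHomToFun G) unitsHomToFun_injective φ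

theorem unitsHomToFun_linCharUnitsHom {lam : G → ℂ} (hlam : IsCharacter G lam) (h1 : lam 1 = 1) :
    unitsHomToFun G (linCharUnitsHom hlam h1) = lam := rfl

/-- The transfer of an extension `ν` (to `H ≥ N`) of an invariant homomorphism on a normal subgroup
`N` restricts to `N` as the `[G:H]`-th power. -/
theorem transfer_apply_of_mem_normal {N H : Subgroup G} [hN : N.Normal] [H.FiniteIndex]
    (hNH : N ≤ H) (ν : H →* ℂˣ)
    (hinv : ∀ (g : G) (n : N), ν ⟨g * n * g⁻¹, hNH (hN.conj_mem n n.2 g)⟩ = ν ⟨n, hNH n.2⟩)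
    (n : N) : MonoidHom.transfer ν (n : G) = (ν ⟨n, hNH n.2⟩) ^ H.index := by
  apply Cfsg.Agent.Lib.Helper8.transfer_eq_pow_mod ν (n : G) (hNH n.2)
  intro k g₀ hk
  have h1 := hinv g₀⁻¹ (n ^ k)
  have h2 : (⟨g₀⁻¹ * (n : G) ^ k * g₀, hk⟩ : H) =
      ⟨g₀⁻¹ * ((n ^ k : N) : G) * g₀⁻¹⁻¹, hNH (hN.conj_mem _ (n ^ k).2 g₀⁻¹)⟩ := by
    apply Subtype.ext
    simp
  rw [h2, h1]
  have h3 : (⟨((n ^ k : N) : G), hNH (n ^ k).2⟩ : H) = (⟨(n : G), hNH n.2⟩ : H) ^ k := by
    apply Subtype.ext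
    simp
  rw [h3, map_pow]

/-- A homomorphism `G →* ℂˣ` trivial on the normal subgroup `N` has order dividing the index. -/
theorem pow_index_eq_one_of_trivial_on {N : Subgroup G} [N.Normal] (ν : G →* ℂˣ)
    (h : ∀ n : N, ν n = 1) : ν ^ N.index = 1 := by
  apply MonoidHom.ext
  intro g
  rw [MonoidHom.pow_apply, ← map_pow, MonoidHom.one_apply]
  exact h ⟨g ^ N.index, Subgroup.pow_index_mem N g⟩

end Cfsg.Agent.Lib.Helper6
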