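/-
helper6: the determinantal character `Cfsg.detChar`: independence of the representation,
linearity, products with linear characters, pullbacks.
-/
import Mathlib
import Cfsg.Prelude.Def_CharExt
import Cfsg.Agent.Lib.Lead.CharEquiv
import Cfsg.Agent.Lib.Helper6.LinExt
import Cfsg.Agent.Lib.Helper6.Clifford

set_option autoImplicit false

namespace Cfsg.Agent.Lib.Helper6

open Cfsg Cfsg.Agent.CharLib

universe u

variable {G : Type u} [Group G]

/-- The determinantal character can be computed from any representation affording the character. -/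
theorem detChar_eq_of_rep [Finite G] {n : ℕ} (ρ : Representation ℂ G (Fin n → ℂ)) :
    detChar ρ.character = fun g => LinearMap.det (ρ g) := by
  have h : IsCharacter G ρ.character := ⟨n, ρ, rfl⟩
  unfold detChar
  rw [dif_pos h]
  funext g
  have hspec := Classical.choose_spec (Classical.choose_spec h)
  obtain ⟨φ⟩ := nonempty_equiv_of_character_eq (Classical.choose (Classical.choose_spec h)) ρ hspec
  have h1 : ρ g = (φ.toLinearEquiv : _ →ₗ[ℂ] _) ∘ₗ
      (Classical.choose (Classical.choose_spec h)) g ∘ₗ (φ.toLinearEquiv.symm : _ →ₗ[ℂ] _) := by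
    have h2 := φ.toIntertwiningMap.isIntertwining' g
    apply LinearMap.ext
    intro v
    have h3 := LinearMap.congr_fun h2 (φ.toLinearEquiv.symm v)
    have h4 : φ.toLinearEquiv (φ.toLinearEquiv.symm v) = v := φ.toLinearEquiv.apply_symm_apply v
    have h5 : (ρ g ∘ₗ φ.toIntertwiningMap.toLinearMap) (φ.toLinearEquiv.symm v) = ρ g v := by
      rw [LinearMap.comp_apply]
      congr 1
    rw [← h5, ← h3]
    rfl
  rw [h1, LinearMap.det_conj]

/-- The determinant of a representation, as a homomorphism to `ℂˣ`. -/
noncomputable def repDetHom {n : ℕ} (ρ : Representation ℂ G (Fin n → ℂ)) : G →* ℂˣ :=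
  MonoidHom.toHomUnits ((LinearMap.det : Module.End ℂ (Fin n → ℂ) →* ℂ).comp ρ)

theorem repDetHom_apply {n : ℕ} (ρ : Representation ℂ G (Fin n → ℂ)) (g : G) :
    ((repDetHom ρ g : ℂˣ) : ℂ) = LinearMap.det (ρ g) := rfl

theorem detChar_eq_unitsHomToFun [Finite G] {n : ℕ} (ρ : Representation ℂ G (Fin n → ℂ)) :
    detChar ρ.character = unitsHomToFun G (repDetHom ρ) := by
  rw [detChar_eq_of_rep]
  rfl

/-- The determinantal character of a character is a character of degree one. -/
theorem detChar_isCharacter [Finite G] {χ : G → ℂ} (hχ : IsCharacter G χ) :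
    IsCharacter G (detChar χ) ∧ detChar χ 1 = 1 := by
  obtain ⟨n, ρ, rfl⟩ := hχ
  rw [detChar_eq_unitsHomToFun]
  refine ⟨isCharacter_of_hom (repDetHom ρ), ?_⟩
  rw [unitsHomToFun_apply, map_one, Units.val_one]

/-- Determinantal characters commute with pullbacks. -/
theorem detChar_comp_hom [Finite G] {H : Type*} [Group H] [Finite H] (f : H →* G) {χ : G → ℂ}
    (hχ : IsCharacter G χ) : detChar (χ ∘ f) = detChar χ ∘ f := by
  obtain ⟨n, ρ, rfl⟩ := hχ
  let σ : Representation ℂ H (Fin n → ℂ) := MonoidHom.comp ρ f
  have h1 : ρ.character ∘ f = σ.character := rfl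
  rw [h1, detChar_eq_of_rep, detChar_eq_of_rep]
  rfl

theorem detChar_resFun [Finite G] (H : Subgroup G) {χ : G → ℂ} (hχ : IsCharacter G χ) :
    detChar (resFun H χ) = resFun H (detChar χ) :=
  detChar_comp_hom H.subtype hχ

theorem detChar_conjFun [Finite G] (N : Subgroup G) [hN : N.Normal] (g : G) {θ : N → ℂ}
    (hθ : IsCharacter N θ) : detChar (conjFun N g θ) = conjFun N g (detChar θ) :=
  detChar_comp_hom (MulAut.conjNormal g : N ≃* N).toMonoidHom hθ

/-- The determinantal character of the product with a linear character. -/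
theorem detChar_linear_mul [Finite G] {lam χ : G → ℂ} (hlam : IsCharacter G lam) (h1 : lam 1 = 1)
    (hχ : IsCharacter G χ) {d : ℕ} (hd : χ 1 = d) : detChar (lam * χ) = lam ^ d * detChar χ := by
  obtain ⟨n, ρ, rfl⟩ := hχ
  have hn : n = d := by
    rw [Representation.char_one, Module.finrank_fin_fun] at hd
    exact_mod_cast hd
  subst hn
  let σ : Representation ℂ G (Fin n → ℂ) :=
    { toFun := fun g => lam g • ρ g
      map_one' := by rw [h1, one_smul, map_one]
      map_mul' := by
        intro g h
        rw [IsCharacter.map_mul_of_apply_one hlam h1, map_mul, smul_mul_smul_comm] }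
  have hσ : σ.character = lam * ρ.character := by
    funext g
    change LinearMap.trace ℂ _ (lam g • ρ g) = lam g * LinearMap.trace ℂ _ (ρ g)
    rw [map_smul, smul_eq_mul]
  rw [← hσ, detChar_eq_of_rep, detChar_eq_of_rep]
  funext g
  change LinearMap.det (lam g • ρ g) = (lam ^ n * fun g => LinearMap.det (ρ g)) g
  rw [LinearMap.det_smul, Module.finrank_fin_fun, Pi.mul_apply, Pi.pow_apply]

end Cfsg.Agent.Lib.Helper6
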