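/-
helper6: S4503 (Brauer: p ∥ |G|, no normal subgroup of order p, χ faithful ⇒ p ≤ 2 χ(1) + 1), PART H
(the principal-block argument), vocabulary.   `P ≤ G` a Sylow `p`-subgroup of order `p`, `C = Cz P`, `N = Nz P`,
`f = |N : C| = (Cz P).relIndex (Nz P)`.
* `LamData p P lam` : `lam u` (`u : ZMod p`) are the `p` linear characters `λ_u × 1_K` of `C = P × K`
  (= the principal block of `C`): pairwise different, `lam 0 = 1`, all equal to `1` on the `p`-regular elements,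
  and `∑_u lam u` vanishes on the `p`-singular elements of `C`;
* `B0 p P X Y v ε` : the principal block `B_0 = X ∪ Y` of `G`: `X` = the `f` non-exceptional characters, constant
  `v η = ±1` on the `p`-singular elements; `Y` = the `(p-1)/f` exceptional characters, sign `ε`.
-/
import Mathlib
import Cfsg.Prelude.Def_BlockRank
import Cfsg.Agent.Lib.Helper27.DODefs
import Cfsg.Agent.Lib.Lead.BlockBasic
import Cfsg.Agent.Lib.Lead.CharOrtho

set_option autoImplicit false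

namespace Cfsg.Agent.Lib.Helper6.BRH

open Cfsg Cfsg.Agent.Lib.Helper8.DOM Cfsg.Agent.Lib.Helper27.DO Cfsg.Agent.CharLib
open scoped ComplexConjugate

universe u

variable {G : Type u} [Group G]

/-- the linear characters `λ_u × 1_K` of `C_G(P) = P × K` -/
structure LamData (p : ℕ) (P : Subgroup G) (lam : ZMod p → IrrCharacter (Cz P)) : Prop where
  inj : Function.Injective lam
  zero : ∀ c : Cz P, (lam 0 : Cz P → ℂ) c = 1
  reg : ∀ u : ZMod p, ∀ c : Cz P, ¬ p ∣ orderOf c → (lam u : Cz P → ℂ) c = 1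
  sing : ∀ c : Cz P, p ∣ orderOf c → ∑ᶠ u : ZMod p, (lam u : Cz P → ℂ) c = 0

/-- the principal block `B_0 = X ∪ Y` of a group with a Sylow `p`-subgroup `P` of order `p` -/
structure B0 (p : ℕ) (P : Subgroup G) (X Y : Set (IrrCharacter G)) (v : IrrCharacter G → ℤ) (ε : ℤ) :
    Prop where
  dvd : (Cz P).relIndex (Nz P) ∣ p - 1
  disj : Disjoint X Y
  cardX : Nat.card X = (Cz P).relIndex (Nz P)
  cardY : Nat.card Y = (p - 1) / (Cz P).relIndex (Nz P)
  sgnX : ∀ η ∈ X, v η = 1 ∨ v η = -1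
  sgn : ε = 1 ∨ ε = -1
  trivX : trivIrr G ∈ X
  valX : ∀ η ∈ X, ∀ g : G, p ∣ orderOf g → (η : G → ℂ) g = (v η : ℂ)
  sumY : ∀ g : G, p ∣ orderOf g → ∑ᶠ ψ0 ∈ Y, (ψ0 : G → ℂ) g = -(ε : ℂ)
  psumY : ∀ ψ0 ∈ Y, ∑ᶠ x ∈ {x : G | x ∈ P ∧ x ≠ 1}, (ψ0 : G → ℂ) x =
    -(ε : ℂ) * ((Cz P).relIndex (Nz P) : ℂ)
  degY : ∀ ψ0 ∈ Y, ε * (charDegree (ψ0 : G → ℂ) : ℤ) =
    ∑ᶠ η ∈ X, v η * (charDegree (η : G → ℂ) : ℤ)

/-- the value at `1` of an irreducible character is its `charDegree` -/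
theorem apply_one_eq (χ : IrrCharacter G) : (χ : G → ℂ) 1 = (charDegree (χ : G → ℂ) : ℂ) := by
  obtain ⟨k, _, hk1⟩ := IsIrrCharacter.apply_one_pos χ.2
  rw [charDegree_eq_of_apply_one hk1, hk1]

theorem charDegree_pos (χ : IrrCharacter G) : 0 < charDegree (χ : G → ℂ) := by
  obtain ⟨k, hk, hk1⟩ := IsIrrCharacter.apply_one_pos χ.2
  rw [charDegree_eq_of_apply_one hk1]
  exact hk

end Cfsg.Agent.Lib.Helper6.BRH
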