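/-
helper6: trace coefficients of `p`-power convolution powers.  For `z` with local-integer
coefficients and a conjugation-invariant set `T`,
`∑_{x ∈ T} (z ^ (p^n))(x) ≡ ∑_{y, y^(p^n) ∈ T} z(y) ^ (p^n)` modulo the local ideal
(rotation of words), together with the Frobenius congruence for finite sums.
-/
import Mathlib
import Cfsg.Agent.Lib.Helper6.TraceZero
import Cfsg.Agent.Lib.Helper6.Osima2
import Cfsg.Agent.Lib.Lead.BlockBasic

set_option autoImplicit false

namespace Cfsg.Agent.Lib.Helper6

open Cfsg Cfsg.Agent.CharLib Cfsg.Agent.Lib.Helper24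

universe u

section frobenius

/-- Frobenius additivity modulo `p` for finite sums in a commutative ring. -/
theorem exists_sum_pow_prime_pow_eq {R : Type*} [CommRing R] {p : ℕ} (hp : p.Prime) {ι : Type*}
    (s : Finset ι) (f : ι → R) (n : ℕ) :
    ∃ r : R, (∑ i ∈ s, f i) ^ (p ^ n) = ∑ i ∈ s, f i ^ (p ^ n) + (p : R) * r := by
  classical
  induction s using Finset.induction_on with
  | empty =>
    refine ⟨0, ?_⟩
    rw [Finset.sum_empty, Finset.sum_empty, zero_pow (pow_ne_zero n hp.ne_zero), mul_zero, add_zero]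
  | insert a s ha ih =>
    obtain ⟨r, hr⟩ := ih
    obtain ⟨r', hr'⟩ := exists_add_pow_prime_pow_eq hp (f a) (∑ i ∈ s, f i) n
    refine ⟨r + f a * (∑ i ∈ s, f i) * r', ?_⟩
    rw [Finset.sum_insert ha, Finset.sum_insert ha, hr', hr]
    ring

variable {M : Ideal AlgInt}

/-- Frobenius additivity modulo the local ideal. -/
theorem memLocalIdeal_sum_pow_sub {p : ℕ} [hpp : Fact p.Prime] (hM : IsPModular p M)
    {ι : Type*} (s : Finset ι) (f : ι → ℂ) (hf : ∀ i, MemLocalRing M (f i)) (n : ℕ) :
    MemLocalIdeal M ((∑ i ∈ s, f i) ^ (p ^ n) - ∑ i ∈ s, f i ^ (p ^ n)) := by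
  have hprime : M.IsPrime := isPrime_of_isPModular hM
  let f' : ι → localSubring M := fun i => ⟨f i, hf i⟩
  obtain ⟨r, hr⟩ := exists_sum_pow_prime_pow_eq hpp.out s f' n
  have h1 := congrArg (fun t : localSubring M => (t : ℂ)) hr
  simp only [Subring.coe_add, Subring.coe_mul, Subring.coe_pow, Subring.coe_natCast,
    AddSubmonoidClass.coe_finset_sum] at h1
  change (∑ i ∈ s, f i) ^ (p ^ n) = ∑ i ∈ s, f i ^ (p ^ n) + (p : ℂ) * (r : ℂ) at h1
  rw [h1, add_sub_cancel_left]
  exact memLocalIdeal_mul_right (memLocalIdeal_natCast_of_dvd hM (dvd_refl p)) r.2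

end frobenius

section traceOne

variable {G : Type u} [Group G] [Fintype G] {M : Ideal AlgInt}

/-- The constant word. -/
def constWord (q : ℕ) (y : G) : List.Vector G q := ⟨List.replicate q y, List.length_replicate⟩

omit [Group G] [Fintype G] in
theorem constWord_injective {q : ℕ} (hq : q ≠ 0) : Function.Injective (constWord (G := G) q) := by
  intro y y' h
  have h1 := congrArg Subtype.val h
  exact (List.replicate_right_inj hq).mp h1

omit [Group G] [Fintype G] in
theorem rotPerm_eq_self_iff [Nonempty G] (q : ℕ) (w : List.Vector G q) :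
    rotPerm q w = w ↔ ∃ y, constWord q y = w := by
  constructor
  · intro h
    have h1 : w.1.rotate 1 = w.1 := congrArg Subtype.val h
    obtain ⟨a, ha⟩ := List.rotate_one_eq_self_iff_eq_replicate.mp h1
    refine ⟨a, ?_⟩
    apply Subtype.ext
    change List.replicate q a = w.1
    rw [ha, w.2]
  · rintro ⟨y, rfl⟩
    apply Subtype.ext
    change (List.replicate q y).rotate 1 = List.replicate q y
    rw [List.rotate_replicate]

/-- **Trace congruence**: modulo the local ideal, the sum over a conjugation-invariant set `T` of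
the coefficients of the `p ^ (n+1)`-th convolution power of `z` is the sum of the
`p ^ (n+1)`-th powers of the coefficients `z y` over the `y` with `y ^ (p ^ (n+1)) ∈ T`. -/
theorem memLocalIdeal_sum_wordSum_sub {p : ℕ} [hpp : Fact p.Prime] (hM : IsPModular p M)
    {z : G → ℂ} (hzR : ∀ x, MemLocalRing M (z x)) (T : G → Prop) [DecidablePred T]
    (hT : ∀ g h : G, IsConj g h → (T g ↔ T h)) (n : ℕ) :
    MemLocalIdeal M (∑ x : G, (if T x then wordSum z (p ^ (n + 1)) x else 0) -
      ∑ y : G, (if T (y ^ (p ^ (n + 1))) then z y ^ (p ^ (n + 1)) else 0)) := by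
  classical
  have hprime : M.IsPrime := isPrime_of_isPModular hM
  have : Nonempty G := ⟨1⟩
  set q := p ^ (n + 1) with hq
  have hq0 : q ≠ 0 := pow_ne_zero _ hpp.out.ne_zero
  let F : List.Vector G q → ℂ := fun w => if T w.1.prod then (w.1.map z).prod else 0
  have h1 : ∑ x : G, (if T x then wordSum z q x else 0) = ∑ w, F w := by
    have h2 : ∀ x : G, (if T x then wordSum z q x else 0) = ∑ w : List.Vector G q,
        (if T x then (if w.1.prod = x then (w.1.map z).prod else 0) else 0) := by
      intro x
      by_cases hx : T x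
      · simp only [if_pos hx]
        unfold wordSum
        rfl
      · simp only [if_neg hx, Finset.sum_const_zero]
    rw [Finset.sum_congr rfl (fun x _ => h2 x), Finset.sum_comm]
    apply Finset.sum_congr rfl
    intro w _
    rw [Finset.sum_eq_single w.1.prod]
    · rw [if_pos rfl]
    · intro x _ hx
      rw [if_neg (Ne.symm hx), ite_self]
    · intro h
      exact absurd (Finset.mem_univ _) h
  have hF : ∀ w, F ((rotPerm q) w) = F w := by
    intro w
    change (if T (w.1.rotate 1).prod then ((w.1.rotate 1).map z).prod else 0) =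
      if T w.1.prod then (w.1.map z).prod else 0
    rw [prod_map_rotate]
    have hc := hT _ _ (isConj_prod_rotate_one w.1)
    by_cases h : T w.1.prod
    · rw [if_pos h, if_pos (hc.mp h)]
    · rw [if_neg h, if_neg (fun h' => h (hc.mpr h'))]
  let F' : List.Vector G q → ℂ := fun w => if rotPerm q w = w then 0 else F w
  have hFR : ∀ w, F w ∈ (localSubring M).toAddSubgroup := by
    intro w
    change (if T w.1.prod then (w.1.map z).prod else 0) ∈ localSubring M
    split_ifs
    · apply Subring.list_prod_mem
      intro x hx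
      obtain ⟨y, _, rfl⟩ := List.mem_map.mp hx
      exact hzR y
    · exact Subring.zero_mem _
  have hF'S : ∀ w, F' w ∈ (localSubring M).toAddSubgroup := by
    intro w
    change (if rotPerm q w = w then 0 else F w) ∈ (localSubring M).toAddSubgroup
    split_ifs
    · exact AddSubgroup.zero_mem _
    · exact hFR w
  have hF' : ∀ w, F' ((rotPerm q) w) = F' w := by
    intro w
    change (if rotPerm q (rotPerm q w) = rotPerm q w then 0 else F (rotPerm q w)) =
      if rotPerm q w = w then 0 else F w
    rw [hF]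
    by_cases hw : rotPerm q w = w
    · rw [if_pos hw, if_pos (congrArg (rotPerm q) hw)]
    · rw [if_neg hw, if_neg (fun h => hw ((rotPerm q).injective h))]
  have hfix : ∀ w, ((rotPerm q) ^ (p ^ 0)) w = w → F' w = 0 := by
    intro w hw
    rw [pow_zero, pow_one] at hw
    change (if rotPerm q w = w then 0 else F w) = 0
    rw [if_pos hw]
  obtain ⟨t, ht, hsum⟩ := sum_mem_pow_mul_of_perm p (n + 1) 0 (rotPerm q)
    (rotPerm_pow_self _) (localSubring M).toAddSubgroup F' hF'S hF' hfix
  -- the fixed words
  have h3 : ∑ w, F w = ∑ w, F' w + ∑ y : G, F (constWord q y) := by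
    have h4 : ∀ w, F w = F' w + (if rotPerm q w = w then F w else 0) := by
      intro w
      change F w = (if rotPerm q w = w then 0 else F w) + (if rotPerm q w = w then F w else 0)
      split_ifs <;> simp
    rw [Finset.sum_congr rfl (fun w _ => h4 w), Finset.sum_add_distrib]
    congr 1
    rw [← Finset.sum_filter]
    have h5 : (Finset.univ.filter fun w : List.Vector G q => rotPerm q w = w) =
        Finset.univ.image (constWord q) := by
      ext w
      rw [Finset.mem_filter, Finset.mem_image]
      simp only [Finset.mem_univ, true_and]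
      exact rotPerm_eq_self_iff q w
    rw [h5, Finset.sum_image (fun y _ y' _ h => constWord_injective hq0 h)]
  have h6 : ∀ y : G, F (constWord q y) = if T (y ^ q) then z y ^ q else 0 := by
    intro y
    change (if T (List.replicate q y).prod then ((List.replicate q y).map z).prod else 0) = _
    rw [List.prod_replicate, List.map_replicate, List.prod_replicate]
  rw [h1, h3, Finset.sum_congr rfl (fun y _ => h6 y), add_sub_cancel_right, hsum, zero_add,
    pow_one]
  exact memLocalIdeal_mul_right (memLocalIdeal_natCast_of_dvd hM (dvd_refl p))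
    ((mem_localSubring M t).mp ht)

end traceOne

section translate

variable {G : Type u} [Group G] [Fintype G] {M : Ideal AlgInt}

/-- Convolution with a class function is commutative. -/
theorem conv_comm_of_isClassFunction (a : G → ℂ) {b : G → ℂ} (hb : IsClassFunction G b) :
    conv a b = conv b a := by
  funext x
  unfold conv
  symm
  rw [← Equiv.sum_comp ((Equiv.inv G).trans (Equiv.mulLeft x))]
  apply Finset.sum_congr rfl
  intro g _
  simp only [Equiv.trans_apply, Equiv.inv_apply, Equiv.coe_mulLeft]
  have h1 : (x * g⁻¹)⁻¹ * x = g := by group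
  have h2 : b (x * g⁻¹) = b (g⁻¹ * x) := by
    have h := hb (x * g⁻¹) g⁻¹
    rw [← h]
    congr 1
    group
  rw [h1, h2, mul_comm]

theorem wordSum_eq_convPow {z : G → ℂ} (hz : IsClassFunction G z) (n : ℕ) :
    wordSum z n = convPow z n := by
  induction n with
  | zero => rw [wordSum_zero]; rfl
  | succ n ih =>
    rw [wordSum_succ, ih]
    change _ = conv (convPow z n) z
    exact (conv_comm_of_isClassFunction _ hz).symm

theorem wordSum_isClassFunction {z : G → ℂ} (hz : IsClassFunction G z) (n : ℕ) :
    IsClassFunction G (wordSum z n) := by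
  rw [wordSum_eq_convPow hz]
  exact convPow_isClassFunction hz n

/-- The coefficient function of `a · x`: right translation. -/
def transl (a : G → ℂ) (x : G) : G → ℂ := fun h => a (h * x⁻¹)

omit [Fintype G] in
theorem transl_one (a : G → ℂ) : transl a 1 = a := by
  funext h
  unfold transl
  rw [inv_one, mul_one]

/-- `(a x)(b y) = (a b)(x y)` for central `b`. -/
theorem conv_transl (a : G → ℂ) {b : G → ℂ} (hb : IsClassFunction G b) (x y : G) :
    conv (transl a x) (transl b y) = transl (conv a b) (x * y) := by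
  funext h
  unfold conv transl
  rw [← Equiv.sum_comp (Equiv.mulRight x)]
  apply Finset.sum_congr rfl
  intro g _
  simp only [Equiv.coe_mulRight]
  rw [mul_inv_cancel_right]
  congr 1
  have h2 : (g * x)⁻¹ * h * y⁻¹ = x⁻¹ * (g⁻¹ * (h * (x * y)⁻¹)) * x⁻¹⁻¹ := by group
  rw [h2, hb]

/-- Powers of `u · x` for central `u`. -/
theorem wordSum_transl {u : G → ℂ} (hu : IsClassFunction G u) (x : G) (k : ℕ) :
    wordSum (transl u x) k = transl (wordSum u k) (x ^ k) := by
  induction k with
  | zero => rw [wordSum_zero, pow_zero, transl_one, wordSum_zero]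
  | succ k ih =>
    rw [wordSum_succ, ih, conv_transl _ (wordSum_isClassFunction hu k), wordSum_succ, pow_succ']

/-- Once a convolution power lies in the local ideal, so do all higher ones. -/
theorem memLocalIdeal_wordSum_of_le [hp : M.IsPrime] {u : G → ℂ} (hu : IsClassFunction G u)
    (huR : ∀ x, MemLocalRing M (u x)) {k : ℕ} (hk : ∀ x, MemLocalIdeal M (convPow u k x))
    {m : ℕ} (hkm : k ≤ m) : ∀ x, MemLocalIdeal M (wordSum u m x) := by
  rw [wordSum_eq_convPow hu]
  induction m, hkm using Nat.le_induction with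
  | base => exact hk
  | succ m _ ih =>
    intro x
    change MemLocalIdeal M (conv (convPow u m) u x)
    unfold conv
    apply sum_memLocalIdeal
    intro g _
    exact memLocalIdeal_mul_right (ih g) (huR _)

end translate

section pElements

variable {G : Type u} [Group G] [Fintype G] {M : Ideal AlgInt}

theorem pow_eq_one_of_pElement {p : ℕ} [hpp : Fact p.Prime] {n : ℕ} (hn : Fintype.card G ≤ n)
    {y : G} (hy : ∃ k : ℕ, orderOf y = p ^ k) : y ^ (p ^ n) = 1 := by
  obtain ⟨k, hk⟩ := hy
  have h1 : p ^ k ≤ Fintype.card G := by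
    rw [← hk]
    exact orderOf_le_card_univ
  have h2 : k ≤ n := ((Nat.lt_pow_self hpp.out.one_lt).le.trans h1).trans hn
  apply orderOf_dvd_iff_pow_eq_one.mp
  rw [hk]
  exact pow_dvd_pow p h2

omit [Fintype G] in
theorem pElement_of_pow_eq_one {p : ℕ} [hpp : Fact p.Prime] {n : ℕ} {y : G}
    (hy : y ^ (p ^ n) = 1) : ∃ k : ℕ, orderOf y = p ^ k := by
  obtain ⟨k, -, hk⟩ := (Nat.dvd_prime_pow hpp.out).mp (orderOf_dvd_of_pow_eq_one hy)
  exact ⟨k, hk⟩

theorem pow_eq_one_of_pElement_pow {p : ℕ} [hpp : Fact p.Prime] {n : ℕ}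
    (hn : Fintype.card G ≤ n) {y : G} (hy : ∃ k : ℕ, orderOf (y ^ (p ^ n)) = p ^ k) :
    y ^ (p ^ n) = 1 := by
  obtain ⟨k, hk⟩ := hy
  have h1 : y ^ (p ^ (n + k)) = 1 := by
    rw [pow_add, pow_mul, ← hk, pow_orderOf_eq_one]
  exact pow_eq_one_of_pElement hn (pElement_of_pow_eq_one h1)

/-- Modulo the local ideal, the sum of the coefficients of a high `p`-power convolution power over
the `p`-elements equals its coefficient at the identity. -/
theorem memLocalIdeal_sum_pElements_wordSum_sub {p : ℕ} [hpp : Fact p.Prime]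
    (hM : IsPModular p M) {z : G → ℂ} (hzR : ∀ x, MemLocalRing M (z x)) {n : ℕ}
    (hn : Fintype.card G ≤ n + 1) [DecidablePred fun x : G => ∃ k : ℕ, orderOf x = p ^ k] :
    MemLocalIdeal M (∑ x : G, (if ∃ k : ℕ, orderOf x = p ^ k then wordSum z (p ^ (n + 1)) x else 0)
      - wordSum z (p ^ (n + 1)) 1) := by
  classical
  have hprime : M.IsPrime := isPrime_of_isPModular hM
  have h1 := memLocalIdeal_sum_wordSum_sub hM hzR (fun x : G => ∃ k : ℕ, orderOf x = p ^ k)
    (by
      intro g h hgh
      obtain ⟨c, hc⟩ := isConj_iff.mp hgh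
      rw [← hc, ← MulAut.conj_apply, MulEquiv.orderOf_eq]) n
  have h2 := memLocalIdeal_sum_wordSum_sub hM hzR (fun x : G => x = 1)
    (by
      intro g h hgh
      constructor
      · rintro rfl
        exact (isConj_one_right.mp hgh)
      · rintro rfl
        exact (isConj_one_left.mp hgh)) n
  have h3 : ∑ x : G, (if x = 1 then wordSum z (p ^ (n + 1)) x else 0) =
      wordSum z (p ^ (n + 1)) 1 := by
    rw [Finset.sum_ite_eq' Finset.univ (1 : G)]
    simp
  have h4 : ∑ y : G, (if ∃ k : ℕ, orderOf (y ^ (p ^ (n + 1))) = p ^ k then z y ^ (p ^ (n + 1))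
      else 0) = ∑ y : G, (if y ^ (p ^ (n + 1)) = 1 then z y ^ (p ^ (n + 1)) else 0) := by
    apply Finset.sum_congr rfl
    intro y _
    have : (∃ k : ℕ, orderOf (y ^ (p ^ (n + 1))) = p ^ k) ↔ y ^ (p ^ (n + 1)) = 1 :=
      ⟨fun h => pow_eq_one_of_pElement_pow hn h, fun h => ⟨0, by rw [h, orderOf_one, pow_zero]⟩⟩
    simp only [this]
  rw [h3] at h2
  rw [h4] at h1
  have h5 := memLocalIdeal_sub h1 h2
  rwa [sub_sub_sub_cancel_right] at h5

/-- Modulo the local ideal, the coefficient at the identity of a high `p`-power convolution power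
is the corresponding power of the sum of the coefficients over the `p`-elements. -/
theorem memLocalIdeal_wordSum_one_sub_pow {p : ℕ} [hpp : Fact p.Prime]
    (hM : IsPModular p M) {z : G → ℂ} (hzR : ∀ x, MemLocalRing M (z x)) {n : ℕ}
    (hn : Fintype.card G ≤ n + 1) [DecidablePred fun x : G => ∃ k : ℕ, orderOf x = p ^ k] :
    MemLocalIdeal M (wordSum z (p ^ (n + 1)) 1 -
      (∑ y : G, (if ∃ k : ℕ, orderOf y = p ^ k then z y else 0)) ^ (p ^ (n + 1))) := by
  classical
  have hprime : M.IsPrime := isPrime_of_isPModular hM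
  have h2 := memLocalIdeal_sum_wordSum_sub hM hzR (fun x : G => x = 1)
    (by
      intro g h hgh
      constructor
      · rintro rfl
        exact (isConj_one_right.mp hgh)
      · rintro rfl
        exact (isConj_one_left.mp hgh)) n
  have h3 : ∑ x : G, (if x = 1 then wordSum z (p ^ (n + 1)) x else 0) =
      wordSum z (p ^ (n + 1)) 1 := by
    rw [Finset.sum_ite_eq' Finset.univ (1 : G)]
    simp
  rw [h3] at h2
  have h4 : ∑ y : G, (if y ^ (p ^ (n + 1)) = 1 then z y ^ (p ^ (n + 1)) else 0) =
      ∑ y : G, (if ∃ k : ℕ, orderOf y = p ^ k then z y else 0) ^ (p ^ (n + 1)) := by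
    apply Finset.sum_congr rfl
    intro y _
    have : y ^ (p ^ (n + 1)) = 1 ↔ ∃ k : ℕ, orderOf y = p ^ k :=
      ⟨pElement_of_pow_eq_one, pow_eq_one_of_pElement hn⟩
    by_cases hy : ∃ k : ℕ, orderOf y = p ^ k
    · rw [if_pos (this.mpr hy), if_pos hy]
    · rw [if_neg (fun h => hy (this.mp h)), if_neg hy,
        zero_pow (pow_ne_zero _ hpp.out.ne_zero)]
  rw [h4] at h2
  have h5 := memLocalIdeal_sum_pow_sub hM Finset.univ
    (fun y : G => if ∃ k : ℕ, orderOf y = p ^ k then z y else 0)
    (by
      intro y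
      by_cases hy : ∃ k : ℕ, orderOf y = p ^ k
      · rw [if_pos hy]; exact hzR y
      · rw [if_neg hy]; exact memLocalRing_zero) (n + 1)
  have h6 := memLocalIdeal_sub h2 h5
  rwa [sub_sub_sub_cancel_right] at h6

end pElements

end Cfsg.Agent.Lib.Helper6
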