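/-
helper6: counting blocks.  For a finite group `X` with a normal Sylow `p`-subgroup `Q`, the number
of `p`-blocks equals the number of conjugacy classes of `p`-regular elements centralising `Q`.
With Brauer's first main theorem: the number of blocks of `G` with a Sylow `p`-subgroup `P` as
defect group is the number of `p`-regular classes of `N_G(P)` centralising `P`.
-/
import Mathlib
import Cfsg.Agent.Lib.Helper6.TraceOne
import Cfsg.Agent.Lib.Helper6.PRegCount
import Cfsg.Agent.Lib.Helper6.NormalPBlock
import Cfsg.Agent.Lib.Helper23.BlockCount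
import Cfsg.Agent.S0920

set_option autoImplicit false

namespace Cfsg.Agent.Lib.Helper6

open Cfsg Cfsg.Agent.CharLib Cfsg.Agent.Lib.Helper24
open scoped ComplexConjugate

universe u

section linalg

variable {M : Ideal AlgInt} [hp : M.IsPrime]

/-- **Injectivity modulo `M` bounds the number of columns**: if a `κ × ι` matrix `W` of local
integers has trivial kernel modulo the local ideal, then `#ι ≤ #κ`. -/
theorem card_le_of_injective_mod {ι κ : Type*} [Fintype ι] [Fintype κ]
    (W : κ → ι → ℂ) (hW : ∀ k i, MemLocalRing M (W k i))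
    (h : ∀ v : ι → ℂ, (∀ i, MemLocalRing M (v i)) →
      (∀ k, MemLocalIdeal M (∑ i, W k i * v i)) → ∀ i, MemLocalIdeal M (v i)) :
    Fintype.card ι ≤ Fintype.card κ := by
  classical
  have hnt : Nontrivial (Helper23.localSubring M ⧸ Helper23.localIdeal M) :=
    Ideal.Quotient.nontrivial_iff.mpr (Helper23.localIdeal_ne_top M)
  let W' : Matrix κ ι (Helper23.localSubring M ⧸ Helper23.localIdeal M) :=
    fun k i => Ideal.Quotient.mk (Helper23.localIdeal M) ⟨W k i, hW k i⟩
  apply card_le_of_injective (Helper23.localSubring M ⧸ Helper23.localIdeal M)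
    (Matrix.mulVecLin W')
  rw [injective_iff_map_eq_zero]
  intro v' hv'
  have hlift : ∀ i, ∃ z : Helper23.localSubring M,
      Ideal.Quotient.mk (Helper23.localIdeal M) z = v' i :=
    fun i => Ideal.Quotient.mk_surjective (v' i)
  choose v hv using hlift
  have h1 := h (fun i => (v i : ℂ)) (fun i => (v i).2) (by
    intro k
    have h2 := congrFun hv' k
    rw [Matrix.mulVecLin_apply, Matrix.mulVec, Pi.zero_apply] at h2
    unfold dotProduct at h2
    have h3 : ∑ i, W' k i * v' i = Ideal.Quotient.mk (Helper23.localIdeal M)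
        (∑ i, (⟨W k i, hW k i⟩ : Helper23.localSubring M) * v i) := by
      rw [map_sum]
      apply Finset.sum_congr rfl
      intro i _
      rw [map_mul, hv i]
    rw [h3, Ideal.Quotient.eq_zero_iff_mem] at h2
    have h4 : MemLocalIdeal M (((∑ i, (⟨W k i, hW k i⟩ : Helper23.localSubring M) * v i :
        Helper23.localSubring M)) : ℂ) := h2
    have h5 : (((∑ i, (⟨W k i, hW k i⟩ : Helper23.localSubring M) * v i :
        Helper23.localSubring M)) : ℂ) = ∑ i, W k i * (v i : ℂ) := by
      push_cast
      rfl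
    rwa [h5] at h4)
  funext i
  rw [← hv i, Pi.zero_apply, Ideal.Quotient.eq_zero_iff_mem]
  exact h1 i

end linalg

section normalSylow

variable {X : Type u} [Group X] [Finite X] {M : Ideal AlgInt}

/-- The `p`-regular elements centralising `Q`. -/
def IsGoodElt (p : ℕ) (Q : Subgroup X) (n : X) : Prop :=
  ¬ p ∣ orderOf n ∧ n ∈ Subgroup.centralizer (Q : Set X)

omit [Finite X] in
theorem isGoodElt_of_isConj {p : ℕ} {Q : Subgroup X} [hQn : Q.Normal] {n n' : X}
    (h : IsConj n n') (hn : IsGoodElt p Q n) : IsGoodElt p Q n' := by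
  obtain ⟨c, rfl⟩ := isConj_iff.mp h
  refine ⟨by rw [orderOf_conj_eq]; exact hn.1, ?_⟩
  exact (Subgroup.normal_centralizer (H := Q)).conj_mem n hn.2 c

/-- The classes of `p`-regular elements centralising `Q`. -/
def goodClasses (p : ℕ) (Q : Subgroup X) : Set (ConjClasses X) :=
  {C | ∀ n : X, ConjClasses.mk n = C → ¬ p ∣ orderOf n ∧ n ∈ Subgroup.centralizer (Q : Set X)}

omit [Finite X] in
theorem mem_goodClasses_iff {p : ℕ} {Q : Subgroup X} [hQn : Q.Normal] (x : X) :
    ConjClasses.mk x ∈ goodClasses p Q ↔ IsGoodElt p Q x := by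
  constructor
  · intro h
    exact h x rfl
  · intro h n hn
    exact isGoodElt_of_isConj (ConjClasses.mk_eq_mk_iff_isConj.mp hn.symm) h

/-- **Upper bound**: with a normal `p`-subgroup `Q`, the number of blocks is at most the number of
classes of `p`-regular elements centralising `Q`. -/
theorem card_blocks_le_card_goodClasses {p : ℕ} [hpp : Fact p.Prime] (hM : IsPModular p M)
    (Q : Subgroup X) [hQn : Q.Normal] (hQ : IsPGroup p Q) :
    Nat.card {B : Set (IrrCharacter X) | IsPBlock M B} ≤ Nat.card (goodClasses p Q) := by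
  classical
  let _ := Fintype.ofFinite X
  have hprime : M.IsPrime := isPrime_of_isPModular hM
  apply Helper23.card_blocks_le_card_classes _ (fun B hB => hB)
  intro B hB B' _ C hC
  have hC' : ¬ IsGoodElt p Q (Quotient.out C) := by
    intro h
    apply hC
    rw [← conjClasses_mk_out C]
    exact (mem_goodClasses_iff _).mpr h
  by_cases hreg : p ∣ orderOf (Quotient.out C)
  · left
    obtain ⟨χ₀, rfl⟩ := hB
    rw [blockCoeff_eq_zero_of_dvd_orderOf hM χ₀ _ hreg]
    exact memLocalIdeal_zero hprime.one_notMem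
  · right
    intro χ _
    apply memLocalIdeal_centralChar_of_not_centralizes hM Q hQ
    intro x hx hxc
    apply hC'
    exact isGoodElt_of_isConj hx.symm ⟨by
      obtain ⟨c, rfl⟩ := isConj_iff.mp hx
      rw [orderOf_conj_eq]
      exact hreg, hxc⟩

/-- A power `p ^ (n+1) ≥ k` fixing all `p`-regular elements. -/
theorem exists_pow_fixing_pRegular (p : ℕ) [hpp : Fact p.Prime] (k : ℕ) :
    ∃ n : ℕ, k ≤ p ^ (n + 1) ∧ ∀ y : X, ¬ p ∣ orderOf y → y ^ (p ^ (n + 1)) = y := by
  classical
  set m := Nat.card X with hm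
  have hm0 : m ≠ 0 := Nat.card_pos.ne'
  set m' := ordCompl[p] m with hm'
  have hm'0 : 0 < m' := Nat.ordCompl_pos p hm0
  have hcop : Nat.Coprime p m' := by
    rw [Nat.Prime.coprime_iff_not_dvd hpp.out]
    exact Nat.not_dvd_ordCompl hpp.out hm0
  have htot : 0 < Nat.totient m' := Nat.totient_pos.mpr hm'0
  obtain ⟨n, hn⟩ : ∃ n, Nat.totient m' * (k + 1) = n + 1 :=
    ⟨Nat.totient m' * (k + 1) - 1, by
      have : 0 < Nat.totient m' * (k + 1) := Nat.mul_pos htot (Nat.succ_pos k)
      omega⟩
  refine ⟨n, ?_, ?_⟩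
  · have h1 : k + 1 ≤ n + 1 := by
      rw [← hn]
      exact Nat.le_mul_of_pos_left _ htot
    have := (Nat.lt_pow_self (n := n + 1) hpp.out.one_lt).le
    omega
  · intro y hy
    have hmod : p ^ (n + 1) ≡ 1 [MOD m'] := by
      have h1 := (Nat.ModEq.pow_totient hcop).pow (k + 1)
      rwa [← pow_mul, one_pow, hn] at h1
    have hdvd : orderOf y ∣ m' := by
      have h1 : orderOf y ∣ ordProj[p] m * m' := by
        rw [Nat.ordProj_mul_ordCompl_eq_self]
        exact orderOf_dvd_natCard y
      have h2 : Nat.Coprime (orderOf y) (ordProj[p] m) := by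
        apply Nat.Coprime.pow_right
        exact ((Nat.Prime.coprime_iff_not_dvd hpp.out).mpr hy).symm
      exact h2.dvd_of_dvd_mul_left h1
    have := (pow_eq_pow_iff_modEq (x := y)).mpr (hmod.of_dvd hdvd)
    rwa [pow_one] at this

/-- **Lower bound**: with a normal Sylow `p`-subgroup `Q`, the number of classes of `p`-regular
elements centralising `Q` is at most the number of blocks. -/
theorem card_goodClasses_le_card_blocks {p : ℕ} [hpp : Fact p.Prime] (hM : IsPModular p M)
    (Q : Subgroup X) [hQn : Q.Normal] (hQS : ¬ p ∣ Q.index) :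
    Nat.card (goodClasses p Q) ≤ Nat.card {B : Set (IrrCharacter X) | IsPBlock M B} := by
  classical
  let _ := Fintype.ofFinite X
  let _ : Fintype (ConjClasses X) := Fintype.ofFinite _
  let _ := fintypeIrr X
  let _ : Fintype (goodClasses p Q) := Fintype.ofFinite _
  let _ : Fintype {B : Set (IrrCharacter X) | IsPBlock M B} := Fintype.ofFinite _
  have hprime : M.IsPrime := isPrime_of_isPModular hM
  rw [Nat.card_eq_fintype_card, Nat.card_eq_fintype_card]
  -- representatives of the blocks
  have hrep : ∀ B : {B : Set (IrrCharacter X) | IsPBlock M B}, ∃ χ : IrrCharacter X,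
      (B : Set (IrrCharacter X)) = blockOf M (χ : X → ℂ) := fun B => B.2
  choose rep hrep using hrep
  apply card_le_of_injective_mod (M := M)
    (fun (B : {B : Set (IrrCharacter X) | IsPBlock M B}) (C : goodClasses p Q) =>
      centralChar (rep B : X → ℂ) (Quotient.out (C : ConjClasses X)))
  · intro B C
    exact memLocalRing_centralChar _ _
  intro v hvR hker C₀
  -- the class function with coefficients `v`
  let vh : ConjClasses X → ℂ := fun C => if h : C ∈ goodClasses p Q then v ⟨C, h⟩ else 0
  have hvh : ∀ C : goodClasses p Q, vh C.1 = v C := by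
    intro C
    change (if h : C.1 ∈ goodClasses p Q then v ⟨C.1, h⟩ else 0) = v C
    rw [dif_pos C.2]
  have hvh0 : ∀ C : ConjClasses X, C ∉ goodClasses p Q → vh C = 0 := by
    intro C hC
    change (if h : C ∈ goodClasses p Q then v ⟨C, h⟩ else 0) = 0
    rw [dif_neg hC]
  have hvhR : ∀ C, MemLocalRing M (vh C) := by
    intro C
    by_cases hC : C ∈ goodClasses p Q
    · have h : vh C = v ⟨C, hC⟩ := hvh ⟨C, hC⟩
      rw [h]
      exact hvR ⟨C, hC⟩
    · rw [hvh0 C hC]
      exact memLocalRing_zero
  let V : X → ℂ := fun x => vh (ConjClasses.mk x)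
  have hV : IsClassFunction X V := by
    intro g h
    change vh (ConjClasses.mk (h * g * h⁻¹)) = vh (ConjClasses.mk g)
    rw [ConjClasses.mk_eq_mk_iff_isConj.mpr (isConj_iff.mpr ⟨h, rfl⟩ : IsConj g (h * g * h⁻¹))]
  have hVR : ∀ x, MemLocalRing M (V x) := fun x => hvhR _
  -- all central character values of `V` lie in the local ideal
  have hω : ∀ ξ : IrrCharacter X, MemLocalIdeal M (omegaFun (ξ : X → ℂ) V) := by
    intro ξ
    let b : {B : Set (IrrCharacter X) | IsPBlock M B} := ⟨blockOf M (ξ : X → ℂ), ξ, rfl⟩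
    have hξb : ξ ∈ blockOf M (rep b : X → ℂ) := by
      rw [← hrep b]
      exact mem_blockOf_self ξ
    have h1 := hker b
    have h2 : ∑ C : goodClasses p Q, centralChar (rep b : X → ℂ)
        (Quotient.out (C : ConjClasses X)) * v C =
        ∑ C : ConjClasses X, vh C * centralChar (rep b : X → ℂ) (Quotient.out C) := by
      have h3 : ∑ C : ConjClasses X, vh C * centralChar (rep b : X → ℂ) (Quotient.out C) =
          ∑ C : ConjClasses X, if C ∈ goodClasses p Q then
            vh C * centralChar (rep b : X → ℂ) (Quotient.out C) else 0 := by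
        apply Finset.sum_congr rfl
        intro C _
        by_cases hC : C ∈ goodClasses p Q
        · rw [if_pos hC]
        · rw [if_neg hC, hvh0 C hC, zero_mul]
      rw [h3, ← Finset.sum_filter,
        Finset.sum_subtype (Finset.univ.filter (fun C : ConjClasses X => C ∈ goodClasses p Q))
          (p := fun C : ConjClasses X => C ∈ goodClasses p Q) (fun C => by simp)
          (fun C : ConjClasses X => vh C * centralChar (rep b : X → ℂ) (Quotient.out C))]
      apply Fintype.sum_equiv (Equiv.refl _)
      intro C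
      rw [Equiv.refl_apply]
      have h : vh C.1 = v C := hvh C
      rw [h, mul_comm]
    rw [h2] at h1
    rw [omegaFun_eq_sum_conjClasses ξ hV]
    have h4 : ∀ C : ConjClasses X, V (Quotient.out C) = vh C := by
      intro C
      change vh (ConjClasses.mk (Quotient.out C)) = vh C
      rw [conjClasses_mk_out]
    have h5 : MemLocalIdeal M (∑ C : ConjClasses X, vh C * centralChar (rep b : X → ℂ) (Quotient.out C) -
        ∑ C : ConjClasses X, V (Quotient.out C) * centralChar (ξ : X → ℂ) (Quotient.out C)) := by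
      rw [← Finset.sum_sub_distrib]
      apply sum_memLocalIdeal
      intro C _
      rw [h4, ← mul_sub]
      exact memLocalIdeal_mul_left (hvhR C) (hξb _)
    have h6 := memLocalIdeal_sub h1 h5
    rwa [sub_sub_cancel] at h6
  obtain ⟨k, hk⟩ := exists_convPow_memLocalIdeal hV hVR hω
  obtain ⟨n, hkq, hfix⟩ := exists_pow_fixing_pRegular (X := X) p k
  set x₀ : X := Quotient.out (C₀ : ConjClasses X) with hx₀
  have hx₀good : IsGoodElt p Q x₀ := by
    rw [← mem_goodClasses_iff, hx₀, conjClasses_mk_out]
    exact C₀.2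
  have htr := memLocalIdeal_sum_wordSum_sub hM hVR (fun x => IsConj x₀ x)
    (fun g h hgh => ⟨fun h1 => h1.trans hgh, fun h1 => h1.trans hgh.symm⟩) n
  have h1 : MemLocalIdeal M (∑ x : X, if IsConj x₀ x then wordSum V (p ^ (n + 1)) x else 0) := by
    apply sum_memLocalIdeal
    intro x _
    split_ifs
    · exact memLocalIdeal_wordSum_of_le hV hVR hk hkq x
    · exact memLocalIdeal_zero hprime.one_notMem
  have h2 : ∑ y : X, (if IsConj x₀ (y ^ (p ^ (n + 1))) then V y ^ (p ^ (n + 1)) else 0) =
      ((Subgroup.centralizer ({x₀} : Set X)).index : ℂ) * v C₀ ^ (p ^ (n + 1)) := by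
    rw [← sum_classInd, Finset.sum_mul]
    apply Finset.sum_congr rfl
    intro y _
    by_cases hy : ConjClasses.mk y ∈ goodClasses p Q
    · have hyg : IsGoodElt p Q y := (mem_goodClasses_iff y).mp hy
      rw [hfix y hyg.1]
      by_cases hc : IsConj x₀ y
      · rw [if_pos hc, classInd_of_isConj hc, one_mul]
        congr 1
        have h3 : ConjClasses.mk y = (C₀ : ConjClasses X) := by
          rw [← ConjClasses.mk_eq_mk_iff_isConj.mpr hc, hx₀, conjClasses_mk_out]
        change vh (ConjClasses.mk y) = v C₀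
        rw [h3, hvh]
      · rw [if_neg hc, classInd_of_not_isConj hc, zero_mul]
    · have hVy : V y = 0 := hvh0 _ hy
      have hc : ¬ IsConj x₀ y := by
        intro hc
        apply hy
        rw [← ConjClasses.mk_eq_mk_iff_isConj.mpr hc, hx₀, conjClasses_mk_out]
        exact C₀.2
      rw [hVy, zero_pow (pow_ne_zero _ hpp.out.ne_zero), ite_self, classInd_of_not_isConj hc,
        zero_mul]
  rw [h2] at htr
  have h3 := memLocalIdeal_sub h1 htr
  rw [sub_sub_cancel] at h3
  -- the class size is prime to `p`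
  have hidx : ¬ p ∣ (Subgroup.centralizer ({x₀} : Set X)).index := by
    intro hdvd
    apply hQS
    refine dvd_trans hdvd (Subgroup.index_dvd_of_le ?_)
    intro u hu
    rw [Subgroup.mem_centralizer_singleton_iff]
    exact (Subgroup.mem_centralizer_iff.mp hx₀good.2 u hu)
  have hidx' : ¬ MemLocalIdeal M ((Subgroup.centralizer ({x₀} : Set X)).index : ℂ) := by
    intro h
    have h4 : (((Subgroup.centralizer ({x₀} : Set X)).index : AlgInt) : ℂ) =
        ((Subgroup.centralizer ({x₀} : Set X)).index : ℂ) := by simp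
    rw [← h4, memLocalIdeal_coe_iff] at h
    exact natCast_not_mem_of_not_dvd hM hidx h
  have hvq : MemLocalRing M (v C₀ ^ (p ^ (n + 1))) := by
    have := Subring.pow_mem (localSubring M) (hvR C₀) (p ^ (n + 1))
    exact this
  rcases memLocalIdeal_or_of_mul (memLocalRing_natCast _) hvq h3 with h4 | h4
  · exact absurd h4 hidx'
  · exact memLocalIdeal_of_pow (hvR C₀) _ h4

/-- **The number of blocks of a group with a normal Sylow `p`-subgroup `Q`** is the number of
classes of `p`-regular elements centralising `Q`. -/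
theorem card_blocks_eq_card_goodClasses {p : ℕ} [hpp : Fact p.Prime] (hM : IsPModular p M)
    (Q : Subgroup X) [hQn : Q.Normal] (hQ : IsPGroup p Q) (hQS : ¬ p ∣ Q.index) :
    Nat.card {B : Set (IrrCharacter X) | IsPBlock M B} = Nat.card (goodClasses p Q) :=
  le_antisymm (card_blocks_le_card_goodClasses hM Q hQ) (card_goodClasses_le_card_blocks hM Q hQS)

end normalSylow

section sylowDefect

variable {G : Type u} [Group G] [Finite G] {M : Ideal AlgInt}

/-- A block induces at most one block. -/
theorem isInducedBlock_unique [hp : M.IsPrime] {H : Subgroup G} {b : Set (IrrCharacter H)}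
    {B B' : Set (IrrCharacter G)} (h : IsInducedBlock M H b B) (h' : IsInducedBlock M H b B') :
    B = B' := by
  obtain ⟨ξ₀, hb⟩ := h.1
  obtain ⟨χ₀, hB⟩ := h.2.1
  obtain ⟨χ₀', hB'⟩ := h'.2.1
  have hξ₀ : ξ₀ ∈ b := by rw [hb]; exact mem_blockOf_self ξ₀
  have hχ₀ : χ₀ ∈ B := by rw [hB]; exact mem_blockOf_self χ₀
  have hχ₀' : χ₀' ∈ B' := by rw [hB']; exact mem_blockOf_self χ₀'
  apply isPBlock_eq_of_mem h.2.1 h'.2.1 hχ₀
  rw [hB']
  intro g
  have h1 := h.2.2 ξ₀ hξ₀ χ₀ hχ₀ g
  have h2 := h'.2.2 ξ₀ hξ₀ χ₀' hχ₀' g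
  have h3 := memLocalIdeal_sub h1 h2
  rwa [sub_sub_sub_cancel_left] at h3

/-- In a group with a normal Sylow `p`-subgroup `Q`, every block has defect group `Q`. -/
theorem isDefectGroup_of_normal_sylow {p : ℕ} [hpp : Fact p.Prime] (hM : IsPModular p M)
    (Q : Subgroup G) [hQn : Q.Normal] (hQ : IsPGroup p Q) (hQS : ¬ p ∣ Q.index)
    (b : Set (IrrCharacter G)) (hb : IsPBlock M b) : IsDefectGroup p M b Q := by
  obtain ⟨y, hy⟩ := Cfsg.Agent.S0906.result p M hM b hb
  let S : Sylow p (Subgroup.centralizer ({y} : Set G)) := default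
  have hE : IsDefectGroup p M b ((S : Subgroup (Subgroup.centralizer ({y} : Set G))).map
      (Subgroup.centralizer ({y} : Set G)).subtype) := ⟨y, hy, S, rfl⟩
  have hQE := le_of_isDefectGroup_of_normal hM Q hQ hb hE
  have hEp : IsPGroup p ((S : Subgroup (Subgroup.centralizer ({y} : Set G))).map
      (Subgroup.centralizer ({y} : Set G)).subtype) := S.isPGroup'.map _
  have heq := (hQ.toSylow hQS).is_maximal' hEp hQE
  have heq' : (S : Subgroup (Subgroup.centralizer ({y} : Set G))).map
      (Subgroup.centralizer ({y} : Set G)).subtype = Q := heq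
  rw [← heq']
  exact hE

/-- **The number of blocks with a Sylow `p`-subgroup as defect group.** -/
theorem card_blocks_sylow_defect {p : ℕ} [hpp : Fact p.Prime] (hM : IsPModular p M)
    (P : Sylow p G) :
    Nat.card {B : Set (IrrCharacter G) // IsPBlock M B ∧ IsDefectGroup p M B (P : Subgroup G)} =
      Nat.card {C : ConjClasses (Subgroup.normalizer ((P : Subgroup G) : Set G)) //
        ∀ n : Subgroup.normalizer ((P : Subgroup G) : Set G), ConjClasses.mk n = C →
          ¬ p ∣ orderOf n ∧ (n : G) ∈ Subgroup.centralizer ((P : Subgroup G) : Set G)} := by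
  classical
  have hprime : M.IsPrime := isPrime_of_isPModular hM
  set N := Subgroup.normalizer ((P : Subgroup G) : Set G) with hN
  set Q : Subgroup N := (P : Subgroup G).subgroupOf N with hQdef
  have hQn : Q.Normal := Subgroup.normal_in_normalizer
  have hQ : IsPGroup p Q := P.isPGroup'.comap_subtype
  have hQS : ¬ p ∣ Q.index := by
    intro hdvd
    have h1 : (P : Subgroup G).relIndex N * N.index = (P : Subgroup G).index :=
      Subgroup.relIndex_mul_index Subgroup.le_normalizer
    apply P.not_dvd_index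
    rw [← h1]
    exact Dvd.dvd.mul_right hdvd _
  obtain ⟨hi, hii⟩ := Cfsg.Agent.S0920.result p M hM (P : Subgroup G) P.isPGroup'
  -- the bijection of the first main theorem
  let f : {B : Set (IrrCharacter G) // IsPBlock M B ∧ IsDefectGroup p M B (P : Subgroup G)} →
      {b : Set (IrrCharacter N) | IsPBlock M b} :=
    fun B => ⟨Classical.choose (hii B.1 B.2.1 B.2.2),
      (Classical.choose_spec (hii B.1 B.2.1 B.2.2)).1.1⟩
  have hf : ∀ B, IsInducedBlock M N (f B : Set (IrrCharacter N)) B.1 := fun B =>
    (Classical.choose_spec (hii B.1 B.2.1 B.2.2)).1.2.2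
  have hfu : ∀ B (b : Set (IrrCharacter N)), IsPBlock M b → IsDefectGroup p M b Q →
      IsInducedBlock M N b B.1 → b = (f B : Set (IrrCharacter N)) := fun B b h1 h2 h3 =>
    (Classical.choose_spec (hii B.1 B.2.1 B.2.2)).2 b ⟨h1, h2, h3⟩
  have hinj : Function.Injective f := by
    intro B B' hBB'
    apply Subtype.ext
    have h1 := hf B
    have h2 := hf B'
    rw [hBB'] at h1
    exact isInducedBlock_unique h1 h2
  have hsurj : Function.Surjective f := by
    intro b
    have hbD := isDefectGroup_of_normal_sylow hM Q hQ hQS b.1 b.2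
    obtain ⟨B, hB, hBD, hind⟩ := hi b.1 b.2 hbD
    refine ⟨⟨B, hB, hBD⟩, ?_⟩
    apply Subtype.ext
    exact (hfu ⟨B, hB, hBD⟩ b.1 b.2 hbD hind).symm
  rw [Nat.card_congr (Equiv.ofBijective f ⟨hinj, hsurj⟩),
    card_blocks_eq_card_goodClasses hM Q hQ hQS]
  apply Nat.card_congr
  apply Equiv.subtypeEquivRight
  intro C
  change (∀ n : N, ConjClasses.mk n = C → ¬ p ∣ orderOf n ∧
    n ∈ Subgroup.centralizer (Q : Set N)) ↔ _
  constructor
  · intro h n hn
    exact ⟨(h n hn).1, (mem_centralizer_subgroupOf_iff Subgroup.le_normalizer n).mp (h n hn).2⟩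
  · intro h n hn
    exact ⟨(h n hn).1, (mem_centralizer_subgroupOf_iff Subgroup.le_normalizer n).mpr (h n hn).2⟩

end sylowDefect

end Cfsg.Agent.Lib.Helper6
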