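/-
helper6: transport of blocks, block idempotents, defect classes and defect groups along a group
isomorphism.
-/
import Mathlib
import Cfsg.Agent.Lib.Helper24.PrincipalPairs
import Cfsg.Agent.Lib.Helper6.SylowIn

set_option autoImplicit false

namespace Cfsg.Agent.Lib.Helper6

open Cfsg Cfsg.Agent.CharLib Cfsg.Agent.Lib.Helper24
open scoped ComplexConjugate

universe u

namespace BlockIso

section basic

variable {A A' : Type u} [Group A] [Group A'] {M : Ideal AlgInt}

theorem irrCompIso_symm_irrCompIso (ψ : A ≃* A') (θ : IrrCharacter A') :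
    irrCompIso ψ.symm (irrCompIso ψ θ) = θ := by
  apply Subtype.ext
  funext x
  change (θ : A' → ℂ) (ψ (ψ.symm x)) = _
  rw [ψ.apply_symm_apply]

theorem irrCompIso_irrCompIso_symm (ψ : A ≃* A') (θ : IrrCharacter A) :
    irrCompIso ψ (irrCompIso ψ.symm θ) = θ := by
  apply Subtype.ext
  funext x
  change (θ : A → ℂ) (ψ.symm (ψ x)) = _
  rw [ψ.symm_apply_apply]

/-- Pullback of a set of irreducible characters along an isomorphism. -/
def pullBlock (ψ : A ≃* A') (b : Set (IrrCharacter A')) : Set (IrrCharacter A) :=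
  {θ | irrCompIso ψ.symm θ ∈ b}

theorem mem_pullBlock_iff (ψ : A ≃* A') (b : Set (IrrCharacter A')) (θ : IrrCharacter A) :
    θ ∈ pullBlock ψ b ↔ irrCompIso ψ.symm θ ∈ b := Iff.rfl

theorem irrCompIso_mem_pullBlock (ψ : A ≃* A') {b : Set (IrrCharacter A')} {θ : IrrCharacter A'}
    (h : θ ∈ b) : irrCompIso ψ θ ∈ pullBlock ψ b := by
  rw [mem_pullBlock_iff, irrCompIso_symm_irrCompIso]
  exact h

theorem pullBlock_symm_pullBlock (ψ : A ≃* A') (b : Set (IrrCharacter A')) :
    pullBlock ψ.symm (pullBlock ψ b) = b := by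
  ext θ
  rw [mem_pullBlock_iff, mem_pullBlock_iff]
  have : irrCompIso ψ.symm (irrCompIso ψ.symm.symm θ) = θ := irrCompIso_symm_irrCompIso ψ θ
  rw [this]

theorem pullBlock_blockOf (ψ : A ≃* A') (θ₀ : IrrCharacter A') :
    pullBlock ψ (blockOf M (θ₀ : A' → ℂ)) =
      blockOf M ((irrCompIso ψ θ₀ : IrrCharacter A) : A → ℂ) := by
  ext θ
  constructor
  · intro h
    have h1 : SameBlock M (θ₀ : A' → ℂ) ((irrCompIso ψ.symm θ : IrrCharacter A') : A' → ℂ) := h
    have h2 := sameBlock_compIso M ψ h1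
    have h3 : ((irrCompIso ψ.symm θ : IrrCharacter A') : A' → ℂ) ∘ ψ = (θ : A → ℂ) :=
      congrArg Subtype.val (irrCompIso_irrCompIso_symm ψ θ)
    rw [h3] at h2
    exact h2
  · intro h
    have h1 : SameBlock M ((irrCompIso ψ θ₀ : IrrCharacter A) : A → ℂ) (θ : A → ℂ) := h
    have h2 := sameBlock_compIso M ψ.symm h1
    have h3 : ((irrCompIso ψ θ₀ : IrrCharacter A) : A → ℂ) ∘ ψ.symm = (θ₀ : A' → ℂ) :=
      congrArg Subtype.val (irrCompIso_symm_irrCompIso ψ θ₀)
    rw [h3] at h2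
    exact h2

theorem isPBlock_pullBlock (ψ : A ≃* A') {b : Set (IrrCharacter A')} (hb : IsPBlock M b) :
    IsPBlock M (pullBlock ψ b) := by
  obtain ⟨θ₀, rfl⟩ := hb
  exact ⟨irrCompIso ψ θ₀, pullBlock_blockOf ψ θ₀⟩

theorem bijOn_pullBlock (ψ : A ≃* A') (b : Set (IrrCharacter A')) :
    Set.BijOn (irrCompIso ψ.symm) (pullBlock ψ b) b := by
  refine ⟨fun θ hθ => hθ, ?_, ?_⟩
  · intro θ₁ _ θ₂ _ h
    have := congrArg (irrCompIso ψ) h
    rwa [irrCompIso_irrCompIso_symm, irrCompIso_irrCompIso_symm] at this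
  · intro θ' hθ'
    exact ⟨irrCompIso ψ θ', irrCompIso_mem_pullBlock ψ hθ', irrCompIso_symm_irrCompIso ψ θ'⟩

theorem blockCoeff_pullBlock (ψ : A ≃* A') (b : Set (IrrCharacter A')) (a : A) :
    blockCoeff (pullBlock ψ b) a = blockCoeff b (ψ a) := by
  unfold blockCoeff
  rw [Nat.card_congr ψ.toEquiv]
  congr 1
  apply finsum_mem_eq_of_bijOn (irrCompIso ψ.symm) (bijOn_pullBlock ψ b)
  intro θ _
  rw [irrCompIso_apply, irrCompIso_apply, map_one, ψ.symm_apply_apply]

theorem isDefectClass_pullBlock (ψ : A ≃* A') {b : Set (IrrCharacter A')} {a : A}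
    (h : IsDefectClass M b (ψ a)) : IsDefectClass M (pullBlock ψ b) a := by
  obtain ⟨h1, h2, h3⟩ := h
  refine ⟨?_, ?_, ?_⟩
  · rw [blockCoeff_pullBlock]; exact h1
  · rw [blockCoeff_pullBlock]; exact h2
  · intro θ hθ
    have h4 := h3 _ hθ
    have h5 : ((irrCompIso ψ.symm θ : IrrCharacter A') : A' → ℂ) ∘ ψ = (θ : A → ℂ) :=
      congrArg Subtype.val (irrCompIso_irrCompIso_symm ψ θ)
    rw [← h5, centralChar_compIso]
    exact h4

end basic

section defect

variable {A A' : Type u} [Group A] [Group A'] [Finite A] {M : Ideal AlgInt}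

theorem isDefectGroup_pullBlock {p : ℕ} [hpp : Fact p.Prime] (ψ : A ≃* A')
    {b : Set (IrrCharacter A')} {D' : Subgroup A'} (hD : IsDefectGroup p M b D') :
    IsDefectGroup p M (pullBlock ψ b) (D'.comap ψ.toMonoidHom) := by
  obtain ⟨g', hg', hS⟩ := hD
  have hS' : IsSylowIn p (Subgroup.centralizer ({g'} : Set A')) D' := hS
  set g : A := ψ.symm g' with hg
  have hψg : ψ g = g' := ψ.apply_symm_apply g'
  have hcls : IsDefectClass M (pullBlock ψ b) g := by
    apply isDefectClass_pullBlock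
    rw [hψg]
    exact hg'
  set Q : Subgroup A := D'.comap ψ.toMonoidHom with hQdef
  have hQ : IsPGroup p Q := hS'.isPGroup.comap_of_injective _ ψ.injective
  have hQC : Q ≤ Subgroup.centralizer ({g} : Set A) := by
    intro q hq
    rw [Subgroup.mem_centralizer_singleton_iff]
    have h1 : ψ q ∈ D' := hq
    have h2 := Subgroup.mem_centralizer_singleton_iff.mp (hS'.le h1)
    apply ψ.injective
    rw [map_mul, map_mul, hψg]
    exact h2
  obtain ⟨S, hSyl, hQS⟩ := exists_isSylowIn_ge (Subgroup.centralizer ({g} : Set A)) hQ hQC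
  have hS'p : IsPGroup p (S.map ψ.toMonoidHom) := hSyl.isPGroup.map _
  have hS'C : S.map ψ.toMonoidHom ≤ Subgroup.centralizer ({g'} : Set A') := by
    rintro _ ⟨s, hs, rfl⟩
    rw [Subgroup.mem_centralizer_singleton_iff]
    have h2 := Subgroup.mem_centralizer_singleton_iff.mp (hSyl.le hs)
    change ψ s * g' = g' * ψ s
    rw [← hψg, ← map_mul, ← map_mul, h2]
  have hD'S' : D' ≤ S.map ψ.toMonoidHom := by
    intro d hd
    refine ⟨ψ.symm d, hQS ?_, ψ.apply_symm_apply d⟩
    change ψ (ψ.symm d) ∈ D'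
    rw [ψ.apply_symm_apply]
    exact hd
  have heq : S.map ψ.toMonoidHom = D' := hS'.eq_of_le hS'p hS'C hD'S'
  have hSQ : S = Q := by
    rw [hQdef, ← heq, Subgroup.comap_map_eq_self_of_injective ψ.injective]
  rw [hSQ] at hSyl
  exact ⟨g, hcls, hSyl⟩

end defect

end BlockIso

end Cfsg.Agent.Lib.Helper6
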