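/-
helper6: the Clifford correspondence for a subgroup `T` containing the inertia group of `θ`
(not necessarily equal to it).
-/
import Mathlib
import Cfsg.Agent.Lib.Helper6.CliffordCorr

set_option autoImplicit false

namespace Cfsg.Agent.Lib.Helper6

open Cfsg Cfsg.Agent.CharLib
open scoped ComplexConjugate

universe u

variable {G : Type u} [Group G]

section corrGen
variable {H T : Subgroup G} [hN : H.Normal] [Fintype G] [Fintype T] [Fintype H]

/-- Degree of a character induced from a subgroup containing the inertia group, for a character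
lying over `θ`. -/
theorem indFun_apply_one_of_inertia_le (hHT : H ≤ T) {θ : H → ℂ} (hθ : IsIrrCharacter H θ)
    (hT : ∀ g : G, conjFun H g θ = θ → g ∈ T) {ψ : T → ℂ} (hψ : IsIrrCharacter T ψ)
    (hf : classInner (resLE hHT ψ) θ ≠ 0) :
    indFun T ψ 1 = ((conjOrbit H θ).card : ℂ) * classInner (resLE hHT ψ) θ * θ 1 := by
  classical
  let e := Subgroup.subgroupOfEquivOfLe hHT
  let _ : Fintype (H.subgroupOf T) := Fintype.ofFinite _
  have hθ' : IsIrrCharacter (H.subgroupOf T) (θ ∘ e) := isIrrCharacter_comp_mulEquiv' e hθ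
  have hres : resFun (H.subgroupOf T) ψ = resLE hHT ψ ∘ e := resFun_subgroupOf hHT ψ
  have hinner : classInner (resFun (H.subgroupOf T) ψ) (θ ∘ e) = classInner (resLE hHT ψ) θ := by
    rw [hres, classInner_comp_mulEquiv]
  have hdeg := clifford_degree (H.subgroupOf T) hψ hθ' (by rw [hinner]; exact hf)
  rw [hinner] at hdeg
  have h1 : (θ ∘ e) 1 = θ 1 := by
    rw [Function.comp_apply, map_one]
  rw [h1] at hdeg
  have horbT := card_conjOrbit_mul (H.subgroupOf T) (θ ∘ e)
  have horbG := card_conjOrbit_mul H θ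
  have hstab : Nat.card {t : T // conjFun (H.subgroupOf T) t (θ ∘ e) = θ ∘ e} =
      Nat.card {g : G // conjFun H g θ = θ} := by
    have hiff : ∀ t : T, conjFun (H.subgroupOf T) t (θ ∘ e) = θ ∘ e ↔
        conjFun H (t : G) θ = θ := by
      intro t
      rw [conjFun_subgroupOf]
      exact (e.surjective.injective_comp_right).eq_iff
    apply Nat.card_congr
    refine ⟨fun t => ⟨(t.1 : G), (hiff t.1).mp t.2⟩,
      fun g => ⟨⟨g.1, hT g.1 g.2⟩, (hiff ⟨g.1, hT g.1 g.2⟩).mpr g.2⟩, ?_, ?_⟩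
    · intro t
      rfl
    · intro g
      rfl
  rw [hstab] at horbT
  set s := Nat.card {g : G // conjFun H g θ = θ} with hs
  have hT0 : (Nat.card T : ℂ) ≠ 0 := Nat.cast_ne_zero.mpr Nat.card_pos.ne'
  have hkey : (Nat.card G : ℂ) * ((conjOrbit (H.subgroupOf T) (θ ∘ e)).card : ℂ) =
      ((conjOrbit H θ).card : ℂ) * (Nat.card T : ℂ) := by
    have : Nat.card G * (conjOrbit (H.subgroupOf T) (θ ∘ e)).card =
        (conjOrbit H θ).card * Nat.card T := by
      rw [← horbG, ← horbT]
      ring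
    exact_mod_cast this
  rw [indFun_apply_one, hdeg]
  have h2 : (Nat.card T : ℂ)⁻¹ * (Nat.card G : ℂ) *
      (classInner (resLE hHT ψ) θ * ((conjOrbit (H.subgroupOf T) (θ ∘ e)).card : ℂ) * θ 1) =
      (Nat.card T : ℂ)⁻¹ * ((Nat.card G : ℂ) *
        ((conjOrbit (H.subgroupOf T) (θ ∘ e)).card : ℂ)) * (classInner (resLE hHT ψ) θ * θ 1) := by
    ring
  rw [h2, hkey]
  have h3 : (Nat.card T : ℂ)⁻¹ * (((conjOrbit H θ).card : ℂ) * (Nat.card T : ℂ)) =
      ((conjOrbit H θ).card : ℂ) := by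
    rw [mul_comm ((conjOrbit H θ).card : ℂ), ← mul_assoc, inv_mul_cancel₀ hT0, one_mul]
  rw [h3]
  ring

/-- Core of the Clifford correspondence. -/
theorem clifford_corr_core' (hHT : H ≤ T) {θ : H → ℂ} (hθ : IsIrrCharacter H θ)
    (hT : ∀ g : G, conjFun H g θ = θ → g ∈ T) {ψ : T → ℂ} (hψ : IsIrrCharacter T ψ)
    (hf : classInner (resLE hHT ψ) θ ≠ 0) {χ : G → ℂ} (hχ : IsIrrCharacter G χ)
    (hc : classInner (indFun T ψ) χ ≠ 0) :
    indFun T ψ = χ ∧ classInner (resFun H χ) θ = classInner (resLE hHT ψ) θ := by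
  classical
  have hχc : IsCharacter G χ := IsIrrCharacter.isCharacter hχ
  have hψc : IsCharacter T ψ := IsIrrCharacter.isCharacter hψ
  have hθc : IsCharacter H θ := IsIrrCharacter.isCharacter hθ
  -- the multiplicity f
  obtain ⟨nf, hnf⟩ := IsCharacter.classInner_nat (isCharacter_resLE hHT hψc) hθc
  have hnf0 : nf ≠ 0 := by
    intro h0
    apply hf
    rw [hnf, h0, Nat.cast_zero]
  -- ψ is a constituent of χ_T
  have hconst : classInner (resFun T χ) ψ ≠ 0 := by
    intro h0
    apply hc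
    rw [frobenius_reciprocity T ψ (IsCharacter.isClassFunction hχc), ← classInner_conj_symm]
    change conj (classInner (resFun T χ) ψ) = 0
    rw [h0, map_zero]
  have hΦ : IsCharacter T (resFun T χ - ψ) :=
    IsCharacter.sub_constituent (isCharacter_resFun T hχc) hψ hconst
  obtain ⟨k, hk⟩ := IsCharacter.classInner_nat (isCharacter_resLE hHT hΦ) hθc
  have he : classInner (resFun H χ) θ = ((nf + k : ℕ) : ℂ) := by
    have h1 : resFun H χ = resLE hHT ψ + resLE hHT (resFun T χ - ψ) := by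
      rw [map_sub, resLE_resFun]
      abel
    rw [h1, classInner_add_left, hnf, hk]
    push_cast
    rfl
  have he0 : classInner (resFun H χ) θ ≠ 0 := by
    rw [he]
    exact_mod_cast (by omega : nf + k ≠ 0)
  -- degrees
  obtain ⟨dθ, hdθpos, hdθ⟩ := IsIrrCharacter.apply_one_pos hθ
  have hdegχ := clifford_degree H hχ hθ he0
  have hdegInd := indFun_apply_one_of_inertia_le hHT hθ hT hψ hf
  rw [he, hdθ] at hdegχ
  rw [hnf, hdθ] at hdegInd
  have horb : 0 < (conjOrbit H θ).card :=
    Finset.card_pos.mpr ⟨θ, self_mem_conjOrbit H θ⟩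
  have hD : indFun T ψ 1 = (((conjOrbit H θ).card * nf * dθ : ℕ) : ℂ) := by
    rw [hdegInd]; push_cast; ring
  have hd : χ 1 = (((nf + k) * (conjOrbit H θ).card * dθ : ℕ) : ℂ) := by
    rw [hdegχ]; push_cast; ring
  have hle : (conjOrbit H θ).card * nf * dθ ≤ (nf + k) * (conjOrbit H θ).card * dθ := by
    apply Nat.mul_le_mul_right
    rw [mul_comm]
    apply Nat.mul_le_mul_right
    omega
  have heq := IsCharacter.eq_of_constituent_of_degree_le (IsCharacter.indFun T hψc) hχ hc hD hd hle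
  refine ⟨heq, ?_⟩
  rw [heq, hd] at hD
  have hD' : (nf + k) * (conjOrbit H θ).card * dθ = (conjOrbit H θ).card * nf * dθ := by
    exact_mod_cast hD
  have h3 : (nf + k) * (conjOrbit H θ).card = (conjOrbit H θ).card * nf :=
    Nat.eq_of_mul_eq_mul_right hdθpos hD'
  rw [mul_comm] at h3
  have h4 : nf + k = nf := Nat.eq_of_mul_eq_mul_left horb h3
  rw [he, hnf, h4]

/-- Characters of the inertia group over `θ` induce irreducibly. -/
theorem isIrrCharacter_indFun_of_inertia_le (hHT : H ≤ T) {θ : H → ℂ} (hθ : IsIrrCharacter H θ)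
    (hT : ∀ g : G, conjFun H g θ = θ → g ∈ T) {ψ : T → ℂ} (hψ : IsIrrCharacter T ψ)
    (hf : classInner (resLE hHT ψ) θ ≠ 0) :
    IsIrrCharacter G (indFun T ψ) ∧
      classInner (resFun H (indFun T ψ)) θ = classInner (resLE hHT ψ) θ := by
  have hψc : IsCharacter T ψ := IsIrrCharacter.isCharacter hψ
  have hne : indFun T ψ ≠ 0 := by
    intro h0
    have h1 := indFun_apply_one_of_inertia_le hHT hθ hT hψ hf
    rw [h0, Pi.zero_apply] at h1
    obtain ⟨dθ, hdθpos, hdθ⟩ := IsIrrCharacter.apply_one_pos hθ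
    have horb : (conjOrbit H θ).card ≠ 0 :=
      (Finset.card_pos.mpr ⟨θ, self_mem_conjOrbit H θ⟩).ne'
    have : ((conjOrbit H θ).card : ℂ) * classInner (resLE hHT ψ) θ * θ 1 ≠ 0 := by
      apply mul_ne_zero (mul_ne_zero (Nat.cast_ne_zero.mpr horb) hf)
      rw [hdθ]
      exact Nat.cast_ne_zero.mpr hdθpos.ne'
    exact this h1.symm
  obtain ⟨χ, hχ, hc⟩ := IsCharacter.exists_constituent (IsCharacter.indFun T hψc) hne
  obtain ⟨h1, h2⟩ := clifford_corr_core' hHT hθ hT hψ hf hχ hc
  rw [h1]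
  exact ⟨hχ, h2⟩

/-- Induction from the inertia group is injective on characters over `θ`. -/
theorem indFun_injective_of_inertia_le (hHT : H ≤ T) {θ : H → ℂ} (hθ : IsIrrCharacter H θ)
    (hT : ∀ g : G, conjFun H g θ = θ → g ∈ T) {ψ ψ' : T → ℂ} (hψ : IsIrrCharacter T ψ)
    (hψ' : IsIrrCharacter T ψ') (hf : classInner (resLE hHT ψ) θ ≠ 0)
    (hf' : classInner (resLE hHT ψ') θ ≠ 0) (heq : indFun T ψ = indFun T ψ') : ψ = ψ' := by
  classical
  by_contra hne
  obtain ⟨hχ, he⟩ := isIrrCharacter_indFun_of_inertia_le hHT hθ hT hψ hf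
  set χ := indFun T ψ with hχdef
  have hχc : IsCharacter G χ := IsIrrCharacter.isCharacter hχ
  have hψc : IsCharacter T ψ := IsIrrCharacter.isCharacter hψ
  have hψ'c : IsCharacter T ψ' := IsIrrCharacter.isCharacter hψ'
  have hθc : IsCharacter H θ := IsIrrCharacter.isCharacter hθ
  have hself : classInner χ χ ≠ 0 := by rw [classInner_irr hχ hχ, if_pos rfl]; exact one_ne_zero
  have hconst : classInner (resFun T χ) ψ ≠ 0 := by
    intro h0
    apply hself
    have h9 : classInner χ χ = classInner (indFun T ψ) χ :=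
      congrArg (fun f => classInner f χ) hχdef
    rw [h9, frobenius_reciprocity T ψ (IsCharacter.isClassFunction hχc), ← classInner_conj_symm]
    change conj (classInner (resFun T χ) ψ) = 0
    rw [h0, map_zero]
  have hconst' : classInner (resFun T χ) ψ' ≠ 0 := by
    intro h0
    apply hself
    have h9 : classInner χ χ = classInner (indFun T ψ') χ :=
      congrArg (fun f => classInner f χ) heq
    rw [h9, frobenius_reciprocity T ψ' (IsCharacter.isClassFunction hχc), ← classInner_conj_symm]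
    change conj (classInner (resFun T χ) ψ') = 0
    rw [h0, map_zero]
  have hΦ : IsCharacter T (resFun T χ - ψ) :=
    IsCharacter.sub_constituent (isCharacter_resFun T hχc) hψ hconst
  have hconst2 : classInner (resFun T χ - ψ) ψ' ≠ 0 := by
    rw [classInner_sub_left, classInner_irr hψ hψ', if_neg hne, sub_zero]
    exact hconst'
  have hΦ2 : IsCharacter T (resFun T χ - ψ - ψ') := IsCharacter.sub_constituent hΦ hψ' hconst2
  obtain ⟨nf, hnf⟩ := IsCharacter.classInner_nat (isCharacter_resLE hHT hψc) hθc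
  obtain ⟨nf', hnf'⟩ := IsCharacter.classInner_nat (isCharacter_resLE hHT hψ'c) hθc
  obtain ⟨k, hk⟩ := IsCharacter.classInner_nat (isCharacter_resLE hHT hΦ2) hθc
  have hnf'0 : nf' ≠ 0 := by
    intro h0
    apply hf'
    rw [hnf', h0, Nat.cast_zero]
  have h1 : resFun H χ = resLE hHT ψ + resLE hHT ψ' + resLE hHT (resFun T χ - ψ - ψ') := by
    rw [map_sub, map_sub, resLE_resFun]
    abel
  rw [h1, classInner_add_left, classInner_add_left, hnf, hnf', hk] at he
  have he' : nf + nf' + k = nf := by exact_mod_cast he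
  omega

/-- Every irreducible character of `G` over `θ` is induced from the inertia group. -/
theorem exists_indFun_eq_of_inertia_le (hHT : H ≤ T) {θ : H → ℂ} (hθ : IsIrrCharacter H θ)
    (hT : ∀ g : G, conjFun H g θ = θ → g ∈ T) {χ : G → ℂ} (hχ : IsIrrCharacter G χ)
    (he : classInner (resFun H χ) θ ≠ 0) :
    ∃ ψ : T → ℂ, IsIrrCharacter T ψ ∧ indFun T ψ = χ ∧
      classInner (resLE hHT ψ) θ = classInner (resFun H χ) θ := by
  classical
  let _ := fintypeIrr T
  have hχc : IsCharacter G χ := IsIrrCharacter.isCharacter hχ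
  obtain ⟨m, hm, hcoef⟩ := IsCharacter.exists_decomp_sum (isCharacter_resFun T hχc)
  have hex : ∃ ψ : IrrCharacter T, m ψ ≠ 0 ∧ classInner (resLE hHT (ψ : T → ℂ)) θ ≠ 0 := by
    by_contra hcon
    push Not at hcon
    apply he
    rw [← resLE_resFun hHT χ, hm, map_sum, classInner_sum_left]
    apply Finset.sum_eq_zero
    intro ψ _
    rw [← Nat.cast_smul_eq_nsmul ℂ, map_smul, classInner_smul_left]
    by_cases h0 : m ψ = 0
    · rw [h0, Nat.cast_zero, zero_mul]
    · rw [hcon ψ h0, mul_zero]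
  obtain ⟨ψ, hmψ, hf⟩ := hex
  have hc : classInner (indFun T (ψ : T → ℂ)) χ ≠ 0 := by
    rw [frobenius_reciprocity T (ψ : T → ℂ) (IsCharacter.isClassFunction hχc),
      ← classInner_conj_symm]
    change conj (classInner (resFun T χ) (ψ : T → ℂ)) ≠ 0
    rw [hcoef ψ, Complex.conj_natCast]
    exact Nat.cast_ne_zero.mpr hmψ
  obtain ⟨h1, h2⟩ := clifford_corr_core' hHT hθ hT ψ.2 hf hχ hc
  exact ⟨ψ, ψ.2, h1, h2.symm⟩

end corrGen

end Cfsg.Agent.Lib.Helper6
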