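/-
helper6: the Fong–Reynolds correspondence.  `N ⊴ G`, `b` a block of `N`, `T` the stabiliser of `b`
in `G`.  Induction is a bijection from the blocks of `T` covering `b` to the blocks of `G`
covering `b`, compatible with characters, heights and defect groups.
-/
import Mathlib
import Cfsg.Agent.Lib.Helper6.CliffordCorrGen
import Cfsg.Agent.Lib.Helper23.Covering
import Cfsg.Agent.Lib.Helper24.PrincipalPairs
import Cfsg.Agent.Lib.Helper6.InducedDefect
import Cfsg.Agent.Lib.Helper6.DefectOrder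
import Cfsg.Agent.Lib.Lead.SecondMain4

set_option autoImplicit false

namespace Cfsg.Agent.Lib.Helper6

open Cfsg Cfsg.Agent.CharLib Cfsg.Agent.Lib.Helper24 Cfsg.Agent.Lib.Helper23
open scoped ComplexConjugate

universe u

namespace FongReynolds

section stab

variable {G : Type u} [Group G] {M : Ideal AlgInt} {N : Subgroup G} [hN : N.Normal]
  {b : Set (IrrCharacter N)} {T : Subgroup G}

/-- The conjugate of an irreducible character of `N`, bundled. -/
noncomputable def conjIrr (g : G) (θ : IrrCharacter N) : IrrCharacter N :=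
  ⟨conjFun N g (θ : N → ℂ), isIrrCharacter_conjFun N θ.2 g⟩

theorem conjIrr_coe (g : G) (θ : IrrCharacter N) :
    ((conjIrr g θ : IrrCharacter N) : N → ℂ) = conjFun N g (θ : N → ℂ) := rfl

/-- The stabiliser condition of the statements, in terms of `conjIrr`. -/
theorem stab_iff (g : G) :
    (∀ θ ∈ b, ∀ θ' : IrrCharacter N, (∀ n : N, (θ' : N → ℂ) n =
      (θ : N → ℂ) ⟨g * n * g⁻¹, hN.conj_mem n n.2 g⟩) → θ' ∈ b) ↔
    ∀ θ ∈ b, conjIrr g θ ∈ b := by
  constructor
  · intro h θ hθ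
    exact h θ hθ (conjIrr g θ) (fun n => rfl)
  · intro h θ hθ θ' hθ'
    have : θ' = conjIrr g θ := by
      apply Subtype.ext
      funext n
      exact hθ' n
    rw [this]
    exact h θ hθ

variable [Finite G]

/-- If one member of the block `b` is conjugated into `b` by `g`, then `g` stabilises `b`. -/
theorem conjIrr_mem_of_conjIrr_mem [hp : M.IsPrime] (hb : IsPBlock M b) {g : G}
    {θ : IrrCharacter N} (hθ : θ ∈ b) (hg : conjIrr g θ ∈ b) {θ₂ : IrrCharacter N}
    (hθ₂ : θ₂ ∈ b) : conjIrr g θ₂ ∈ b := by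
  have h1 : blockOf M (θ : N → ℂ) = b := blockOf_eq_of_mem hb hθ
  have h2 : SameBlock M (θ : N → ℂ) (θ₂ : N → ℂ) := by
    have : θ₂ ∈ blockOf M (θ : N → ℂ) := by rw [h1]; exact hθ₂
    exact this
  have h3 := sameBlock_conjFun N h2 g
  have h4 : blockOf M ((conjIrr g θ : IrrCharacter N) : N → ℂ) = b := blockOf_eq_of_mem hb hg
  rw [← h4]
  exact h3

end stab

section tcover

variable {G : Type u} [Group G] [Fintype G] {p : ℕ} {M : Ideal AlgInt} {N : Subgroup G}
  [hN : N.Normal] [Fintype N] {b : Set (IrrCharacter N)} {T : Subgroup G} [Fintype T]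

/-- Inside the stabiliser `T`, the members of a block lie over `b` together. -/
theorem mem_of_sameBlock_T (hM : IsPModular p M) (hb : IsPBlock M b) (hNT : N ≤ T)
    (hstab : ∀ t ∈ T, ∀ θ ∈ b, conjIrr t θ ∈ b)
    {ψ ψ' : IrrCharacter T} (hsame : SameBlock M (ψ : T → ℂ) (ψ' : T → ℂ))
    {θ : IrrCharacter N} (hθ : θ ∈ b)
    (hcon : classInner (resLE hNT (ψ : T → ℂ)) (θ : N → ℂ) ≠ 0)
    {θ' : IrrCharacter N} (hcon' : classInner (resLE hNT (ψ' : T → ℂ)) (θ' : N → ℂ) ≠ 0) :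
    θ' ∈ b := by
  classical
  have hp : M.IsPrime := isPrime_of_isPModular hM
  let e := Subgroup.subgroupOfEquivOfLe hNT
  let _ : Fintype (N.subgroupOf T) := Fintype.ofFinite _
  set b' : Set (IrrCharacter (N.subgroupOf T)) := {φ | irrCompIso e.symm φ ∈ b} with hb'def
  have hround : ∀ φ : IrrCharacter (N.subgroupOf T), irrCompIso e (irrCompIso e.symm φ) = φ := by
    intro φ
    apply Subtype.ext
    funext x
    change (φ : N.subgroupOf T → ℂ) (e.symm (e x)) = _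
    rw [e.symm_apply_apply]
  have hround' : ∀ φ : IrrCharacter N, irrCompIso e.symm (irrCompIso e φ) = φ := by
    intro φ
    apply Subtype.ext
    funext x
    change (φ : N → ℂ) (e (e.symm x)) = _
    rw [e.apply_symm_apply]
  have hb' : IsPBlock M b' := by
    obtain ⟨θ₀, rfl⟩ := hb
    refine ⟨irrCompIso e θ₀, ?_⟩
    ext φ
    constructor
    · intro h
      have h1 : SameBlock M (θ₀ : N → ℂ) ((irrCompIso e.symm φ : IrrCharacter N) : N → ℂ) := h
      have h2 := sameBlock_compIso M e h1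
      have h3 : ((irrCompIso e.symm φ : IrrCharacter N) : N → ℂ) ∘ e = (φ : N.subgroupOf T → ℂ) :=
        congrArg Subtype.val (hround φ)
      rw [h3] at h2
      exact h2
    · intro h
      have h1 : SameBlock M ((irrCompIso e θ₀ : IrrCharacter (N.subgroupOf T)) : _ → ℂ)
          (φ : N.subgroupOf T → ℂ) := h
      have h2 := sameBlock_compIso M e.symm h1
      have h3 : ((irrCompIso e θ₀ : IrrCharacter (N.subgroupOf T)) : _ → ℂ) ∘ e.symm =
          (θ₀ : N → ℂ) := congrArg Subtype.val (hround' θ₀)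
      rw [h3] at h2
      exact h2
  have hθ' : irrCompIso e θ ∈ b' := by
    change irrCompIso e.symm (irrCompIso e θ) ∈ b
    rw [hround']
    exact hθ
  have hres : ∀ ξ : T → ℂ, ∀ φ : N → ℂ, classInner (fun n : N.subgroupOf T => ξ n) (φ ∘ e) =
      classInner (resLE hNT ξ) φ := by
    intro ξ φ
    have : (fun n : N.subgroupOf T => ξ n) = resLE hNT ξ ∘ e := resFun_subgroupOf hNT ξ
    rw [this, classInner_comp_mulEquiv]
  have key := mem_conjUnion_of_sameBlock (N.subgroupOf T) hM hb' ψ ψ' hsame (irrCompIso e θ) hθ'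
    (by
      change classInner (fun n : N.subgroupOf T => (ψ : T → ℂ) n) ((θ : N → ℂ) ∘ e) ≠ 0
      rw [hres]; exact hcon) (irrCompIso e θ')
    (by
      change classInner (fun n : N.subgroupOf T => (ψ' : T → ℂ) n) ((θ' : N → ℂ) ∘ e) ≠ 0
      rw [hres]; exact hcon')
  obtain ⟨t, φ, hφ, hconj⟩ := key
  have hφ' : (φ : N.subgroupOf T → ℂ) =
      ((irrCompIso e.symm φ : IrrCharacter N) : N → ℂ) ∘ e :=
    (congrArg Subtype.val (hround φ)).symm
  rw [hφ', conjFun_subgroupOf] at hconj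
  have h5 : (θ' : N → ℂ) = conjFun N (t : G) ((irrCompIso e.symm φ : IrrCharacter N) : N → ℂ) := by
    funext n
    have := congrFun hconj (e.symm n)
    change (θ' : N → ℂ) (e (e.symm n)) = conjFun N (t : G) _ (e (e.symm n)) at this
    rwa [e.apply_symm_apply] at this
  have h6 : θ' = conjIrr (t : G) (irrCompIso e.symm φ) := Subtype.ext h5
  rw [h6]
  exact hstab t t.2 _ hφ

end tcover

section corr

variable {G : Type u} [Group G] [Fintype G] {p : ℕ} {M : Ideal AlgInt} {N : Subgroup G}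
  [hN : N.Normal] [Fintype N] {b : Set (IrrCharacter N)} {T : Subgroup G} [Fintype T]

omit [Fintype G] [Fintype T] in
/-- The restriction to `N` of a class function of `T` is `T`-invariant. -/
theorem classInner_resLE_conjFun (hNT : N ≤ T) {ψ : T → ℂ} (hψ : IsClassFunction T ψ) {t : G}
    (ht : t ∈ T) (θ : N → ℂ) :
    classInner (resLE hNT ψ) (conjFun N t θ) = classInner (resLE hNT ψ) θ := by
  rw [classInner_conjFun_right]
  congr 1
  funext n
  have := hψ ⟨n, hNT n.2⟩ ⟨t⁻¹, T.inv_mem ht⟩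
  exact this

/-- The inertia group of a member of `b` lies in `T`. -/
theorem inertia_le (hTb : ∀ g : G, ∀ θ ∈ b, conjIrr g θ ∈ b → g ∈ T) {θ : IrrCharacter N}
    (hθ : θ ∈ b) : ∀ g : G, conjFun N g (θ : N → ℂ) = (θ : N → ℂ) → g ∈ T := by
  intro g hg
  apply hTb g θ hθ
  have : conjIrr g θ = θ := Subtype.ext hg
  rw [this]
  exact hθ

/-- Characters of `T` over `b` induce irreducibly. -/
theorem isIrr_ind (hNT : N ≤ T) (hTb : ∀ g : G, ∀ θ ∈ b, conjIrr g θ ∈ b → g ∈ T)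
    {ψ : IrrCharacter T} {θ : IrrCharacter N} (hθ : θ ∈ b)
    (h : classInner (resLE hNT (ψ : T → ℂ)) (θ : N → ℂ) ≠ 0) :
    IsIrrCharacter G (indFun T (ψ : T → ℂ)) ∧
      classInner (resFun N (indFun T (ψ : T → ℂ))) (θ : N → ℂ) =
        classInner (resLE hNT (ψ : T → ℂ)) (θ : N → ℂ) :=
  isIrrCharacter_indFun_of_inertia_le hNT θ.2 (inertia_le hTb hθ) ψ.2 h

/-- Induction is injective on the characters of `T` over `b`. -/
theorem ind_inj (hNT : N ≤ T) (hTb : ∀ g : G, ∀ θ ∈ b, conjIrr g θ ∈ b → g ∈ T)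
    {ψ₁ ψ₂ : IrrCharacter T} {θ₁ θ₂ : IrrCharacter N} (hθ₁ : θ₁ ∈ b) (hθ₂ : θ₂ ∈ b)
    (h1 : classInner (resLE hNT (ψ₁ : T → ℂ)) (θ₁ : N → ℂ) ≠ 0)
    (h2 : classInner (resLE hNT (ψ₂ : T → ℂ)) (θ₂ : N → ℂ) ≠ 0)
    (heq : indFun T (ψ₁ : T → ℂ) = indFun T (ψ₂ : T → ℂ)) : ψ₁ = ψ₂ := by
  obtain ⟨hirr1, he1⟩ := isIrr_ind hNT hTb hθ₁ h1
  obtain ⟨hirr2, he2⟩ := isIrr_ind hNT hTb hθ₂ h2
  have hc1 : classInner (resFun N (indFun T (ψ₁ : T → ℂ))) (θ₁ : N → ℂ) ≠ 0 := by
    rw [he1]; exact h1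
  have hc2 : classInner (resFun N (indFun T (ψ₁ : T → ℂ))) (θ₂ : N → ℂ) ≠ 0 := by
    rw [heq, he2]; exact h2
  obtain ⟨g, hg⟩ := exists_conjFun_eq_of_constituent N hirr1 θ₁.2 θ₂.2 hc1 hc2
  have hgT : g ∈ T := by
    apply hTb g θ₁ hθ₁
    have : conjIrr g θ₁ = θ₂ := Subtype.ext hg
    rw [this]
    exact hθ₂
  have h1' : classInner (resLE hNT (ψ₁ : T → ℂ)) (θ₂ : N → ℂ) ≠ 0 := by
    rw [← hg, classInner_resLE_conjFun hNT
      (IsCharacter.isClassFunction (IsIrrCharacter.isCharacter ψ₁.2)) hgT]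
    exact h1
  exact Subtype.ext
    (indFun_injective_of_inertia_le hNT θ₂.2 (inertia_le hTb hθ₂) ψ₁.2 ψ₂.2 h1' h2 heq)

/-- Every irreducible character of `G` over a member of `b` is induced from `T`. -/
theorem exists_ind_eq (hNT : N ≤ T) (hTb : ∀ g : G, ∀ θ ∈ b, conjIrr g θ ∈ b → g ∈ T)
    (χ : IrrCharacter G) {θ : IrrCharacter N} (hθ : θ ∈ b)
    (h : classInner (resFun N (χ : G → ℂ)) (θ : N → ℂ) ≠ 0) :
    ∃ ψ : IrrCharacter T, indFun T (ψ : T → ℂ) = (χ : G → ℂ) ∧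
      classInner (resLE hNT (ψ : T → ℂ)) (θ : N → ℂ) ≠ 0 := by
  obtain ⟨ψ, hψ, h1, h2⟩ := exists_indFun_eq_of_inertia_le hNT θ.2 (inertia_le hTb hθ) χ.2 h
  exact ⟨⟨ψ, hψ⟩, h1, by rw [h2]; exact h⟩

end corr

section central

variable {G : Type u} [Group G] [Fintype G] {M : Ideal AlgInt} {T : Subgroup G} [Fintype T]

/-- The central character of an induced function is the induced central character. -/
theorem centralChar_indFun (ψ : T → ℂ) (hψ1 : ψ 1 ≠ 0) (g : G) :
    centralChar (indFun T ψ) g = inducedCentralChar T ψ g := by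
  rw [Cfsg.Agent.Lib.Helper2.inducedCentralChar_eq_indFun]
  unfold centralChar
  rw [indFun_apply_one]
  have hC0 : (Nat.card (Subgroup.centralizer ({g} : Set G)) : ℂ) ≠ 0 :=
    Nat.cast_ne_zero.mpr Nat.card_pos.ne'
  have hT0 : (Nat.card T : ℂ) ≠ 0 := Nat.cast_ne_zero.mpr Nat.card_pos.ne'
  have hG0 : (Nat.card G : ℂ) ≠ 0 := Nat.cast_ne_zero.mpr Nat.card_pos.ne'
  have hidx : ((Subgroup.centralizer ({g} : Set G)).index : ℂ) =
      (Nat.card G : ℂ) / (Nat.card (Subgroup.centralizer ({g} : Set G)) : ℂ) := by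
    rw [eq_div_iff hC0]
    have := (Subgroup.centralizer ({g} : Set G)).index_mul_card
    exact_mod_cast this
  rw [hidx]
  field_simp

/-- Characters in the same block of `T` have congruent induced central characters. -/
theorem memLocalIdeal_inducedCentralChar_sub [hp : M.IsPrime] {ψ ψ' : IrrCharacter T}
    (h : SameBlock M (ψ : T → ℂ) (ψ' : T → ℂ)) (g : G) :
    MemLocalIdeal M (inducedCentralChar T (ψ : T → ℂ) g - inducedCentralChar T (ψ' : T → ℂ) g) := by
  rw [inducedCentralChar_eq_omegaFun, inducedCentralChar_eq_omegaFun]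
  apply memLocalIdeal_omegaFun_sub ψ ψ' h
  · intro x t
    exact classInd_isClassFunction g _ _
  · intro x
    exact memLocalRing_classInd g x

end central

section coset

variable {G : Type u} [Group G] [Fintype G]

/-- `(q, t) ↦ q.out * t` as an equivalence `(G ⧸ T) × T ≃ G`. -/
noncomputable def cosetEquiv (T : Subgroup G) : (G ⧸ T) × T ≃ G where
  toFun qt := qt.1.out * (qt.2 : G)
  invFun x := ((x : G ⧸ T), ⟨((x : G ⧸ T)).out⁻¹ * x,
    QuotientGroup.eq.mp (QuotientGroup.out_eq' (x : G ⧸ T))⟩)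
  left_inv := by
    rintro ⟨q, t⟩
    have h : ((q.out * (t : G) : G) : G ⧸ T) = q := by
      rw [QuotientGroup.mk_mul_of_mem _ t.2, QuotientGroup.out_eq']
    apply Prod.ext
    · exact h
    · apply Subtype.ext
      change ((q.out * (t : G) : G) : G ⧸ T).out⁻¹ * (q.out * (t : G)) = (t : G)
      rw [h]
      group
  right_inv := by
    intro x
    change ((x : G ⧸ T)).out * (((x : G ⧸ T)).out⁻¹ * x) = x
    group

/-- Summation over `G` of a right `T`-invariant function. -/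
theorem sum_eq_card_mul_sum_out (T : Subgroup G) [Fintype T] [Fintype (G ⧸ T)] (F : G → ℂ)
    (hF : ∀ x : G, ∀ t ∈ T, F (x * t) = F x) :
    ∑ x : G, F x = (Nat.card T : ℂ) * ∑ q : G ⧸ T, F q.out := by
  rw [← Fintype.sum_equiv (cosetEquiv T) (fun qt => F (qt.1.out * (qt.2 : G))) F (fun _ => rfl),
    Fintype.sum_prod_type, Finset.mul_sum]
  apply Finset.sum_congr rfl
  intro q _
  have h1 : ∀ t : T, F (Quotient.out (q, t).1 * ((q, t).2 : G)) = F q.out := fun t =>
    hF q.out (t : G) t.2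
  rw [Finset.sum_congr rfl (fun t _ => h1 t), Finset.sum_const, Finset.card_univ,
    nsmul_eq_mul, Nat.card_eq_fintype_card]

variable {M : Ideal AlgInt}

/-- Inducing a class function with local-integer values gives local-integer values. -/
theorem memLocalRing_indFun [hp : M.IsPrime] (T : Subgroup G) [Fintype T] {f : T → ℂ}
    (hf : IsClassFunction T f) (hfR : ∀ t, MemLocalRing M (f t)) (g : G) :
    MemLocalRing M (indFun T f g) := by
  classical
  let _ : Fintype (G ⧸ T) := Fintype.ofFinite _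
  have hT0 : (Nat.card T : ℂ) ≠ 0 := Nat.cast_ne_zero.mpr Nat.card_pos.ne'
  have hF : ∀ x : G, ∀ t ∈ T, extendByZero T f ((x * t)⁻¹ * g * (x * t)) =
      extendByZero T f (x⁻¹ * g * x) := by
    intro x t ht
    have := extendByZero_conj T hf (T.inv_mem ht) (x⁻¹ * g * x)
    rw [← this]
    congr 1
    group
  rw [indFun_apply, sum_eq_card_mul_sum_out T (fun x => extendByZero T f (x⁻¹ * g * x)) hF,
    ← mul_assoc, inv_mul_cancel₀ hT0, one_mul]
  apply sum_memLocalRing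
  intro q _
  by_cases h : q.out⁻¹ * g * q.out ∈ T
  · rw [extendByZero_mem T f h]
    exact hfR _
  · rw [extendByZero_not_mem T f h]
    exact memLocalRing_zero

end coset

section closed

variable {G : Type u} [Group G] [Fintype G] {M : Ideal AlgInt} {T : Subgroup G} [Fintype T]

omit [Fintype G] in
theorem extendByZero_blockCoeff (B' : Set (IrrCharacter T)) (y : G) :
    extendByZero T (blockCoeff B') y =
      (Nat.card T : ℂ)⁻¹ * ∑ᶠ ψ ∈ B', (ψ : T → ℂ) 1 * conj (extendByZero T (ψ : T → ℂ) y) := by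
  by_cases hy : y ∈ T
  · rw [extendByZero_mem T _ hy]
    unfold blockCoeff
    congr 1
    apply finsum_mem_congr rfl
    intro ψ _
    rw [extendByZero_mem T _ hy]
  · rw [extendByZero_not_mem T _ hy]
    have : ∀ ψ ∈ B', (ψ : T → ℂ) 1 * conj (extendByZero T (ψ : T → ℂ) y) = 0 := by
      intro ψ _
      rw [extendByZero_not_mem T _ hy, map_zero, mul_zero]
    rw [finsum_mem_congr rfl this, finsum_mem_zero, mul_zero]

/-- The set of irreducible characters of `G` induced from members of `B'`. -/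
def indSet (T : Subgroup G) [Fintype T] (B' : Set (IrrCharacter T)) : Set (IrrCharacter G) :=
  {χ | ∃ ψ ∈ B', (χ : G → ℂ) = indFun T (ψ : T → ℂ)}

/-- The idempotent of the induced set is the induced idempotent. -/
theorem blockCoeff_indSet (B' : Set (IrrCharacter T))
    (hirr : ∀ ψ ∈ B', IsIrrCharacter G (indFun T (ψ : T → ℂ)))
    (hinj : ∀ ψ₁ ∈ B', ∀ ψ₂ ∈ B', indFun T (ψ₁ : T → ℂ) = indFun T (ψ₂ : T → ℂ) → ψ₁ = ψ₂)
    (g : G) : blockCoeff (indSet T B') g = indFun T (blockCoeff B') g := by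
  classical
  let _ := fintypeIrr T
  let Φ : IrrCharacter T → IrrCharacter G := fun ψ =>
    if h : IsIrrCharacter G (indFun T (ψ : T → ℂ)) then ⟨_, h⟩ else Cfsg.Agent.CharLib.trivIrr G
  have hΦ : ∀ ψ ∈ B', ((Φ ψ : IrrCharacter G) : G → ℂ) = indFun T (ψ : T → ℂ) := by
    intro ψ hψ
    simp only [Φ, dif_pos (hirr ψ hψ)]
  have himg : indSet T B' = Φ '' B' := by
    ext χ
    constructor
    · rintro ⟨ψ, hψ, h⟩
      exact ⟨ψ, hψ, Subtype.ext ((hΦ ψ hψ).trans h.symm)⟩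
    · rintro ⟨ψ, hψ, rfl⟩
      exact ⟨ψ, hψ, hΦ ψ hψ⟩
  have hinjΦ : Set.InjOn Φ B' := by
    intro ψ₁ h1 ψ₂ h2 h
    apply hinj ψ₁ h1 ψ₂ h2
    rw [← hΦ ψ₁ h1, ← hΦ ψ₂ h2, h]
  have hT0 : (Nat.card T : ℂ) ≠ 0 := Nat.cast_ne_zero.mpr Nat.card_pos.ne'
  have hG0 : (Nat.card G : ℂ) ≠ 0 := Nat.cast_ne_zero.mpr Nat.card_pos.ne'
  have hL : blockCoeff (indSet T B') g = (Nat.card G : ℂ)⁻¹ *
      ∑ᶠ ψ ∈ B', indFun T (ψ : T → ℂ) 1 * conj (indFun T (ψ : T → ℂ) g) := by
    unfold blockCoeff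
    rw [himg, finsum_mem_image hinjΦ]
    congr 1
    apply finsum_mem_congr rfl
    intro ψ hψ
    rw [hΦ ψ hψ]
  rw [hL, indFun_apply, Finset.sum_congr rfl (fun x _ => extendByZero_blockCoeff B' _),
    finsum_mem_eq_finite_toFinset_sum _ (Set.toFinite B')]
  simp only [finsum_mem_eq_finite_toFinset_sum _ (Set.toFinite B')]
  set s := (Set.toFinite B').toFinset
  have h1 : ∀ ψ : IrrCharacter T, indFun T (ψ : T → ℂ) 1 * conj (indFun T (ψ : T → ℂ) g) =
      (Nat.card G : ℂ) * ((Nat.card T : ℂ)⁻¹ * (Nat.card T : ℂ)⁻¹) *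
        ∑ x : G, (ψ : T → ℂ) 1 * conj (extendByZero T (ψ : T → ℂ) (x⁻¹ * g * x)) := by
    intro ψ
    rw [indFun_apply_one, indFun_apply, map_mul, map_sum, map_inv₀, Complex.conj_natCast]
    simp only [Finset.mul_sum]
    apply Finset.sum_congr rfl
    intro x _
    ring
  rw [Finset.sum_congr rfl (fun ψ _ => h1 ψ), ← Finset.mul_sum, ← mul_assoc, ← mul_assoc,
    inv_mul_cancel₀ hG0, one_mul, Finset.sum_comm, mul_assoc]
  congr 1
  rw [Finset.mul_sum]

end closed

section main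

variable {G : Type u} [Group G] [Fintype G] {p : ℕ} {M : Ideal AlgInt} {N : Subgroup G}
  [hN : N.Normal] [Fintype N] {b : Set (IrrCharacter N)} {T : Subgroup G} [Fintype T]

omit [Fintype T] in
/-- A set of irreducible characters whose idempotent has local-integer coefficients is a union
of blocks. -/
theorem mem_of_sameBlock_of_memLocalRing [hp : M.IsPrime] (S : Set (IrrCharacter G))
    (hS : ∀ g, MemLocalRing M (blockCoeff S g)) {χ χ' : IrrCharacter G} (hχ : χ ∈ S)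
    (h : SameBlock M (χ : G → ℂ) (χ' : G → ℂ)) : χ' ∈ S := by
  classical
  have key := memLocalIdeal_omegaFun_sub (M := M) χ χ' h (blockCoeff_isClassFunction S) hS
  rw [omegaFun_blockCoeff, omegaFun_blockCoeff, if_pos hχ] at key
  by_contra hne
  rw [if_neg hne, sub_zero] at key
  exact not_memLocalIdeal_one key

/-- The covering hypothesis of the statements, for blocks of `T`. -/
def CoversT (hNT : N ≤ T) (b : Set (IrrCharacter N)) (B' : Set (IrrCharacter T)) : Prop :=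
  ∃ ψ ∈ B', ∃ θ ∈ b, classInner (resLE hNT (ψ : T → ℂ)) (θ : N → ℂ) ≠ 0

/-- The covering hypothesis of the statements, for blocks of `G`. -/
def CoversG (b : Set (IrrCharacter N)) (B : Set (IrrCharacter G)) : Prop :=
  ∃ χ ∈ B, ∃ θ ∈ b, classInner (resFun N (χ : G → ℂ)) (θ : N → ℂ) ≠ 0

/-- Every member of a block of `T` covering `b` lies over a member of `b`. -/
theorem exists_over (hM : IsPModular p M) (hb : IsPBlock M b) (hNT : N ≤ T)
    (hstab : ∀ t ∈ T, ∀ θ ∈ b, conjIrr t θ ∈ b) {B' : Set (IrrCharacter T)}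
    (hB' : IsPBlock M B') (hcov : CoversT hNT b B') {ψ : IrrCharacter T} (hψ : ψ ∈ B') :
    ∃ θ ∈ b, classInner (resLE hNT (ψ : T → ℂ)) (θ : N → ℂ) ≠ 0 := by
  have hp : M.IsPrime := isPrime_of_isPModular hM
  obtain ⟨ψ₀, hψ₀, θ₀, hθ₀, h0⟩ := hcov
  have hsame : SameBlock M (ψ₀ : T → ℂ) (ψ : T → ℂ) := by
    have h1 : blockOf M (ψ₀ : T → ℂ) = B' := blockOf_eq_of_mem hB' hψ₀
    have : ψ ∈ blockOf M (ψ₀ : T → ℂ) := by rw [h1]; exact hψ
    exact this
  have hψc : IsCharacter T (ψ : T → ℂ) := IsIrrCharacter.isCharacter ψ.2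
  have hne : resLE hNT (ψ : T → ℂ) ≠ 0 := by
    intro h
    have h1 := congrFun h 1
    have h2 : resLE hNT (ψ : T → ℂ) 1 = (ψ : T → ℂ) 1 := rfl
    rw [h2] at h1
    exact Cfsg.Agent.Lib.Helper10.irr_one_ne_zero ψ.2 h1
  obtain ⟨θ', hθ', hc⟩ := IsCharacter.exists_constituent (isCharacter_resLE hNT hψc) hne
  have hmem := mem_of_sameBlock_T hM hb hNT hstab hsame hθ₀ h0 (θ' := ⟨θ', hθ'⟩) hc
  exact ⟨⟨θ', hθ'⟩, hmem, hc⟩

/-- **Fong–Reynolds, part (i)**. -/
theorem induced_block (hM : IsPModular p M) (hb : IsPBlock M b) (hNT : N ≤ T)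
    (hstab : ∀ t ∈ T, ∀ θ ∈ b, conjIrr t θ ∈ b)
    (hTb : ∀ g : G, ∀ θ ∈ b, conjIrr g θ ∈ b → g ∈ T) {B' : Set (IrrCharacter T)}
    (hB' : IsPBlock M B') (hcov : CoversT hNT b B') :
    ∃ B : Set (IrrCharacter G), IsInducedBlock M T B' B ∧ CoversG b B ∧
      (∀ ψ ∈ B', IsIrrCharacter G (indFun T (ψ : T → ℂ))) ∧ B = indSet T B' := by
  classical
  have hp : M.IsPrime := isPrime_of_isPModular hM
  have hover := fun (ψ : IrrCharacter T) (hψ : ψ ∈ B') => exists_over hM hb hNT hstab hB' hcov hψ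
  have hirr : ∀ ψ ∈ B', IsIrrCharacter G (indFun T (ψ : T → ℂ)) := by
    intro ψ hψ
    obtain ⟨θ, hθ, hc⟩ := hover ψ hψ
    exact (isIrr_ind hNT hTb hθ hc).1
  have hinj : ∀ ψ₁ ∈ B', ∀ ψ₂ ∈ B', indFun T (ψ₁ : T → ℂ) = indFun T (ψ₂ : T → ℂ) → ψ₁ = ψ₂ := by
    intro ψ₁ h1 ψ₂ h2 heq
    obtain ⟨θ₁, hθ₁, hc₁⟩ := hover ψ₁ h1
    obtain ⟨θ₂, hθ₂, hc₂⟩ := hover ψ₂ h2
    exact ind_inj hNT hTb hθ₁ hθ₂ hc₁ hc₂ heq
  obtain ⟨ψ₀, hψ₀, θ₀, hθ₀, h0⟩ := hcov
  set χ₀ : IrrCharacter G := ⟨indFun T (ψ₀ : T → ℂ), hirr ψ₀ hψ₀⟩ with hχ₀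
  have hψ1 : ∀ ψ : IrrCharacter T, (ψ : T → ℂ) 1 ≠ 0 := fun ψ =>
    Cfsg.Agent.Lib.Helper10.irr_one_ne_zero ψ.2
  have hBlk : blockOf M (ψ₀ : T → ℂ) = B' := blockOf_eq_of_mem hB' hψ₀
  have hsameT : ∀ ψ ∈ B', SameBlock M (ψ₀ : T → ℂ) (ψ : T → ℂ) := by
    intro ψ hψ
    have : ψ ∈ blockOf M (ψ₀ : T → ℂ) := by rw [hBlk]; exact hψ
    exact this
  -- members of the induced set lie in the block of χ₀
  have hsub : ∀ χ ∈ indSet T B', SameBlock M (χ₀ : G → ℂ) (χ : G → ℂ) := by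
    rintro χ ⟨ψ, hψ, hχ⟩ g
    rw [hχ]
    change MemLocalIdeal M (centralChar (indFun T (ψ₀ : T → ℂ)) g -
      centralChar (indFun T (ψ : T → ℂ)) g)
    rw [centralChar_indFun _ (hψ1 ψ₀), centralChar_indFun _ (hψ1 ψ)]
    exact memLocalIdeal_inducedCentralChar_sub (hsameT ψ hψ) g
  -- the induced set is a union of blocks
  have hloc : ∀ g, MemLocalRing M (blockCoeff (indSet T B') g) := by
    intro g
    rw [blockCoeff_indSet B' hirr hinj]
    apply memLocalRing_indFun T (blockCoeff_isClassFunction B')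
    intro t
    rw [← hBlk]
    exact memLocalRing_blockCoeff_blockOf ψ₀ t
  have hχ₀mem : χ₀ ∈ indSet T B' := ⟨ψ₀, hψ₀, rfl⟩
  have hBeq : blockOf M (χ₀ : G → ℂ) = indSet T B' := by
    ext χ
    constructor
    · intro h
      exact mem_of_sameBlock_of_memLocalRing _ hloc hχ₀mem h
    · intro h
      exact hsub χ h
  refine ⟨blockOf M (χ₀ : G → ℂ), ⟨hB', ⟨χ₀, rfl⟩, ?_⟩, ?_, hirr, hBeq⟩
  · intro ξ hξ χ hχ g
    have h1 := memLocalIdeal_inducedCentralChar_sub (sameBlock_symm (hsameT ξ hξ)) g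
    have h2 : MemLocalIdeal M (centralChar (χ₀ : G → ℂ) g - centralChar (χ : G → ℂ) g) := hχ g
    have h3 : centralChar (χ₀ : G → ℂ) g = inducedCentralChar T (ψ₀ : T → ℂ) g :=
      centralChar_indFun _ (hψ1 ψ₀) g
    rw [h3] at h2
    have := memLocalIdeal_add h1 h2
    rwa [sub_add_sub_cancel] at this
  · refine ⟨χ₀, mem_blockOf_self χ₀, θ₀, hθ₀, ?_⟩
    rw [(isIrr_ind hNT hTb hθ₀ h0).2]
    exact h0

end main

section main2

variable {G : Type u} [Group G] [Fintype G] {p : ℕ} {M : Ideal AlgInt} {N : Subgroup G}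
  [hN : N.Normal] [Fintype N] {b : Set (IrrCharacter N)} {T : Subgroup G} [Fintype T]

/-- **Fong–Reynolds, part (ii)**: induction is injective on blocks of `T` covering `b`. -/
theorem induced_block_inj (hM : IsPModular p M) (hb : IsPBlock M b) (hNT : N ≤ T)
    (hstab : ∀ t ∈ T, ∀ θ ∈ b, conjIrr t θ ∈ b)
    (hTb : ∀ g : G, ∀ θ ∈ b, conjIrr g θ ∈ b → g ∈ T) {B'₁ B'₂ : Set (IrrCharacter T)}
    (h1 : IsPBlock M B'₁) (h2 : IsPBlock M B'₂) (hc1 : CoversT hNT b B'₁)
    (hc2 : CoversT hNT b B'₂) {B : Set (IrrCharacter G)} (hi1 : IsInducedBlock M T B'₁ B)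
    (hi2 : IsInducedBlock M T B'₂ B) : B'₁ = B'₂ := by
  have hp : M.IsPrime := isPrime_of_isPModular hM
  obtain ⟨B₁, hI1, -, hirr1, hB1⟩ := induced_block hM hb hNT hstab hTb h1 hc1
  obtain ⟨B₂, hI2, -, hirr2, hB2⟩ := induced_block hM hb hNT hstab hTb h2 hc2
  have e1 : B = B₁ := isInducedBlock_unique hi1 hI1
  have e2 : B = B₂ := isInducedBlock_unique hi2 hI2
  obtain ⟨ψ₁, hψ₁, θ₁, hθ₁, hcon1⟩ := hc1
  have hmem : (⟨indFun T (ψ₁ : T → ℂ), hirr1 ψ₁ hψ₁⟩ : IrrCharacter G) ∈ indSet T B'₂ := by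
    rw [← hB2, ← e2, e1, hB1]
    exact ⟨ψ₁, hψ₁, rfl⟩
  obtain ⟨ψ₂, hψ₂, heq⟩ := hmem
  obtain ⟨θ₂, hθ₂, hcon2⟩ := exists_over hM hb hNT hstab h2 hc2 hψ₂
  have : ψ₁ = ψ₂ := ind_inj hNT hTb hθ₁ hθ₂ hcon1 hcon2 heq
  rw [← this] at hψ₂
  exact isPBlock_eq_of_mem h1 h2 hψ₁ hψ₂

/-- **Fong–Reynolds, part (iii)**: every block of `G` covering `b` is induced from `T`. -/
theorem exists_block_T (hM : IsPModular p M) (hb : IsPBlock M b) (hNT : N ≤ T)
    (hstab : ∀ t ∈ T, ∀ θ ∈ b, conjIrr t θ ∈ b)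
    (hTb : ∀ g : G, ∀ θ ∈ b, conjIrr g θ ∈ b → g ∈ T) {B : Set (IrrCharacter G)}
    (hB : IsPBlock M B) (hcov : CoversG b B) :
    ∃ B' : Set (IrrCharacter T), IsPBlock M B' ∧ CoversT hNT b B' ∧ IsInducedBlock M T B' B := by
  have hp : M.IsPrime := isPrime_of_isPModular hM
  obtain ⟨χ₀, hχ₀, θ₀, hθ₀, h0⟩ := hcov
  obtain ⟨ψ, hind, hc⟩ := exists_ind_eq hNT hTb χ₀ hθ₀ h0
  have hcovT : CoversT hNT b (blockOf M (ψ : T → ℂ)) := ⟨ψ, mem_blockOf_self ψ, θ₀, hθ₀, hc⟩
  obtain ⟨B₁, hI, -, -, hB1⟩ := induced_block hM hb hNT hstab hTb ⟨ψ, rfl⟩ hcovT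
  have hmem : χ₀ ∈ B₁ := by
    rw [hB1]
    exact ⟨ψ, mem_blockOf_self ψ, hind.symm⟩
  have : B₁ = B := isPBlock_eq_of_mem hI.2.1 hB hmem hχ₀
  rw [this] at hI
  exact ⟨_, ⟨ψ, rfl⟩, hcovT, hI⟩

end main2

section heights

variable {G : Type u} [Group G] [Fintype G] {p : ℕ} {M : Ideal AlgInt} {T : Subgroup G} [Fintype T]

/-- Degree of an induced irreducible character. -/
theorem charDegree_indFun (ψ : IrrCharacter T) :
    charDegree (indFun T (ψ : T → ℂ)) = T.index * charDegree (ψ : T → ℂ) := by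
  obtain ⟨d, hd, hψ⟩ := IsIrrCharacter.apply_one_pos ψ.2
  have hT0 : (Nat.card T : ℂ) ≠ 0 := Nat.cast_ne_zero.mpr Nat.card_pos.ne'
  have h1 : indFun T (ψ : T → ℂ) 1 = ((T.index * d : ℕ) : ℂ) := by
    rw [indFun_apply_one, hψ]
    have := T.index_mul_card
    have h2 : (Nat.card G : ℂ) = (T.index : ℂ) * (Nat.card T : ℂ) := by exact_mod_cast this.symm
    rw [h2]
    push_cast
    field_simp
  unfold charDegree
  rw [h1, hψ, Complex.natCast_re, Complex.natCast_re, Nat.floor_natCast, Nat.floor_natCast]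

theorem sInf_image_add (a : ℕ) {S : Set ℕ} (hS : S.Nonempty) :
    sInf ((fun k => a + k) '' S) = a + sInf S := by
  apply le_antisymm
  · exact Nat.sInf_le ⟨sInf S, Nat.sInf_mem hS, rfl⟩
  · apply le_csInf (hS.image _)
    rintro x ⟨k, hk, rfl⟩
    exact Nat.add_le_add_left (Nat.sInf_le hk) a

/-- The degree valuations over the induced set are translates. -/
theorem image_indSet (p : ℕ) (B' : Set (IrrCharacter T))
    (hirr : ∀ ψ ∈ B', IsIrrCharacter G (indFun T (ψ : T → ℂ))) :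
    (fun χ : IrrCharacter G => (charDegree (χ : G → ℂ)).factorization p) '' (indSet T B') =
      (fun k => T.index.factorization p + k) ''
        ((fun ψ : IrrCharacter T => (charDegree (ψ : T → ℂ)).factorization p) '' B') := by
  have hidx : T.index ≠ 0 := Subgroup.index_ne_zero_of_finite
  have hdeg : ∀ ψ : IrrCharacter T, charDegree (ψ : T → ℂ) ≠ 0 := by
    intro ψ
    obtain ⟨d, hd, hψ⟩ := IsIrrCharacter.apply_one_pos ψ.2
    unfold charDegree
    rw [hψ, Complex.natCast_re, Nat.floor_natCast]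
    exact hd.ne'
  have hfac : ∀ ψ : IrrCharacter T, (charDegree (indFun T (ψ : T → ℂ))).factorization p =
      T.index.factorization p + (charDegree (ψ : T → ℂ)).factorization p := by
    intro ψ
    rw [charDegree_indFun, Nat.factorization_mul hidx (hdeg ψ)]
    rfl
  ext k
  constructor
  · rintro ⟨χ, ⟨ψ, hψ, hχ⟩, rfl⟩
    refine ⟨_, ⟨ψ, hψ, rfl⟩, ?_⟩
    change _ = (charDegree (χ : G → ℂ)).factorization p
    rw [hχ, hfac]
  · rintro ⟨_, ⟨ψ, hψ, rfl⟩, rfl⟩
    refine ⟨⟨_, hirr ψ hψ⟩, ⟨ψ, hψ, rfl⟩, ?_⟩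
    change (charDegree (indFun T (ψ : T → ℂ))).factorization p = _
    rw [hfac]

end heights

section main3

variable {G : Type u} [Group G] [Fintype G] {p : ℕ} {M : Ideal AlgInt} {N : Subgroup G}
  [hN : N.Normal] [Fintype N] {b : Set (IrrCharacter N)} {T : Subgroup G} [Fintype T]

/-- **Fong–Reynolds**: heights and defect groups. -/
theorem heights_defects [hpp : Fact p.Prime] (hM : IsPModular p M) (hb : IsPBlock M b)
    (hNT : N ≤ T) (hstab : ∀ t ∈ T, ∀ θ ∈ b, conjIrr t θ ∈ b)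
    (hTb : ∀ g : G, ∀ θ ∈ b, conjIrr g θ ∈ b → g ∈ T) {B' : Set (IrrCharacter T)}
    (hB' : IsPBlock M B') (hcov : CoversT hNT b B') {B : Set (IrrCharacter G)}
    (hind : IsInducedBlock M T B' B) :
    (∀ D : Subgroup T, IsDefectGroup p M B' D → IsDefectGroup p M B (D.map T.subtype)) ∧
      ∀ ψ ∈ B', ∃ χ ∈ B, (χ : G → ℂ) = indFun T (ψ : T → ℂ) ∧
        blockHeight p B (χ : G → ℂ) = blockHeight p B' (ψ : T → ℂ) := by
  have hp : M.IsPrime := isPrime_of_isPModular hM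
  obtain ⟨B₁, hI1, -, hirr, hB1⟩ := induced_block hM hb hNT hstab hTb hB' hcov
  have e1 : B = B₁ := isInducedBlock_unique hind hI1
  have hBeq : B = indSet T B' := e1.trans hB1
  have hne : B'.Nonempty := by
    obtain ⟨ψ, hψ, -⟩ := hcov
    exact ⟨ψ, hψ⟩
  have hidx : T.index ≠ 0 := Subgroup.index_ne_zero_of_finite
  have himg := image_indSet (G := G) p B' hirr
  have hsInf : sInf ((fun χ : IrrCharacter G => (charDegree (χ : G → ℂ)).factorization p) '' B) =
      T.index.factorization p +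
        sInf ((fun ψ : IrrCharacter T => (charDegree (ψ : T → ℂ)).factorization p) '' B') := by
    rw [hBeq, himg, sInf_image_add _ (hne.image _)]
  constructor
  · intro D hD
    obtain ⟨E, hE, hle⟩ := exists_defectGroup_ge_of_induced hM T B' B hind D hD
    have hcE := card_defectGroup_eq hM B hind.2.1 E hE
    have hcD := card_defectGroup_eq hM B' hB' D hD
    have hdef : blockDefect p B = blockDefect p B' := by
      unfold blockDefect
      rw [hsInf]
      have h1 : (Nat.card G).factorization p =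
          T.index.factorization p + (Nat.card T).factorization p := by
        rw [← T.index_mul_card, Nat.factorization_mul hidx Nat.card_pos.ne']
        rfl
      rw [h1, Nat.add_sub_add_left]
    have hcmap : Nat.card (D.map T.subtype) = Nat.card D :=
      Subgroup.card_map_of_injective T.subtype_injective
    have : D.map T.subtype = E := by
      apply Subgroup.eq_of_le_of_card_ge hle
      rw [hcmap, hcE, hcD, hdef]
    rw [this]
    exact hE
  · intro ψ hψ
    refine ⟨⟨_, hirr ψ hψ⟩, ?_, rfl, ?_⟩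
    · rw [hBeq]
      exact ⟨ψ, hψ, rfl⟩
    · unfold blockHeight
      rw [hsInf]
      change (charDegree (indFun T (ψ : T → ℂ))).factorization p - _ = _
      have hdeg : charDegree (ψ : T → ℂ) ≠ 0 := by
        obtain ⟨d, hd, hψ1⟩ := IsIrrCharacter.apply_one_pos ψ.2
        unfold charDegree
        rw [hψ1, Complex.natCast_re, Nat.floor_natCast]
        exact hd.ne'
      rw [charDegree_indFun, Nat.factorization_mul hidx hdeg]
      change T.index.factorization p + _ - _ = _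
      rw [Nat.add_sub_add_left]

end main3

section hyps

variable {G : Type u} [Group G] [Finite G] {M : Ideal AlgInt} {N : Subgroup G} [hN : N.Normal]
  {b : Set (IrrCharacter N)} {T : Subgroup G}

/-- The two stabiliser properties used above, from the hypothesis of the statements. -/
theorem hyps_of_hT [hp : M.IsPrime] (hb : IsPBlock M b)
    (hT : ∀ g : G, g ∈ T ↔ ∀ θ ∈ b, ∀ θ' : IrrCharacter N, (∀ n : N, (θ' : N → ℂ) n =
      (θ : N → ℂ) ⟨g * n * g⁻¹, hN.conj_mem n n.2 g⟩) → θ' ∈ b) :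
    (∀ t ∈ T, ∀ θ ∈ b, conjIrr t θ ∈ b) ∧ (∀ g : G, ∀ θ ∈ b, conjIrr g θ ∈ b → g ∈ T) := by
  constructor
  · intro t ht
    exact (stab_iff t).mp ((hT t).mp ht)
  · intro g θ hθ hg
    apply (hT g).mpr
    apply (stab_iff g).mpr
    intro θ₂ hθ₂
    exact conjIrr_mem_of_conjIrr_mem hb hθ hg hθ₂

end hyps

end FongReynolds

end Cfsg.Agent.Lib.Helper6
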