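/-
helper6: the Brauer map of a block idempotent, refined.  For `P C_G(P) ≤ H ≤ N_G(P)`: if the
idempotent of the block `B` of `G` has a coefficient outside the local ideal at `x ∈ C_G(P)`, then
some block `b` of `H` with `b^G = B` has idempotent coefficient outside the local ideal at `x`.
-/
import Mathlib
import Cfsg.Agent.Lib.Helper24.BrauerPairs2
import Cfsg.Agent.Lib.Helper23.BrauerInduced
import Cfsg.Agent.Lib.Helper23.BlockCount
import Cfsg.Agent.Lib.Lead.SecondMain4

set_option autoImplicit false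

namespace Cfsg.Agent.Lib.Helper6

open Cfsg Cfsg.Agent.CharLib Cfsg.Agent.Lib.Helper24 Cfsg.Agent.Lib.Helper23
open scoped ComplexConjugate

universe u

namespace BrauerIdem

section decomp

variable {X : Type u} [Group X] [Finite X] {M : Ideal AlgInt}

/-- The unit element is the sum of the block idempotents. -/
theorem blockCoeff_univ_eq_sum_blocks [hp : M.IsPrime] [Fintype (IrrCharacter X)]
    [DecidableEq (Set (IrrCharacter X))] (x : X) :
    blockCoeff (Set.univ : Set (IrrCharacter X)) x =
      ∑ f ∈ (Finset.univ : Finset (IrrCharacter X)).image (fun η : IrrCharacter X => blockOf M (η : X → ℂ)),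
        blockCoeff f x := by
  classical
  set fn : IrrCharacter X → ℂ := fun β => (β : X → ℂ) 1 * conj ((β : X → ℂ) x) with hfn
  set blk : IrrCharacter X → Set (IrrCharacter X) := fun β => blockOf M (β : X → ℂ) with hblk
  have h1 : blockCoeff (Set.univ : Set (IrrCharacter X)) x =
      (Nat.card X : ℂ)⁻¹ * ∑ β : IrrCharacter X, fn β := by
    rw [blockCoeff_eq_sum]
    simp only [Set.mem_univ, if_true, hfn]
  have h2 : ∑ β : IrrCharacter X, fn β =
      ∑ b ∈ (Finset.univ : Finset (IrrCharacter X)).image blk,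
        ∑ β ∈ (Finset.univ : Finset (IrrCharacter X)) with blk β = b, fn β :=
    (Finset.sum_fiberwise_of_maps_to (fun β hβ => Finset.mem_image_of_mem blk hβ) fn).symm
  rw [h1, h2, Finset.mul_sum]
  apply Finset.sum_congr rfl
  intro b hb
  obtain ⟨β₀, -, rfl⟩ := Finset.mem_image.mp hb
  rw [blockCoeff_eq_sum, ← Finset.sum_filter]
  congr 1
  apply Finset.sum_congr _ (fun _ _ => rfl)
  ext β
  simp only [Finset.mem_filter, Finset.mem_univ, true_and]
  constructor
  · intro hβ
    have : β ∈ blk β := mem_blockOf_self β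
    rw [hβ] at this
    exact this
  · intro hβ
    exact blockOf_eq_of_mem ⟨β₀, rfl⟩ hβ

end decomp

section key

variable {G : Type u} [Group G] [Finite G] {M : Ideal AlgInt}

/-- **Refined Brauer map of a block idempotent.** -/
theorem exists_induced_block_coeff {p : ℕ} [hpp : Fact p.Prime] (hM : IsPModular p M)
    (P H : Subgroup G) (hP : IsPGroup p P) (hPH : P ≤ H)
    (hCH : Subgroup.centralizer (P : Set G) ≤ H) (hHN : H ≤ Subgroup.normalizer (P : Set G))
    (B : Set (IrrCharacter G)) (hB : IsPBlock M B) (x : G)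
    (hxP : x ∈ Subgroup.centralizer (P : Set G))
    (hx : ¬ MemLocalIdeal M (blockCoeff B x)) :
    ∃ b : Set (IrrCharacter H), IsInducedBlock M H b B ∧
      ¬ MemLocalIdeal M (blockCoeff b ⟨x, hCH hxP⟩) := by
  classical
  let _ := Fintype.ofFinite G
  let _ := Fintype.ofFinite H
  let _ := fintypeIrr H
  have hprime : M.IsPrime := isPrime_of_isPModular hM
  obtain ⟨χ₀, rfl⟩ := hB
  have hχ₀ : χ₀ ∈ blockOf M (χ₀ : G → ℂ) := mem_blockOf_self χ₀
  have hxH : x ∈ H := hCH hxP
  set e := blockCoeff (blockOf M (χ₀ : G → ℂ)) with he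
  have heC : IsClassFunction G e := blockCoeff_isClassFunction _
  have heR : ∀ g, MemLocalRing M (e g) := memLocalRing_blockCoeff_blockOf χ₀
  set β := brFun P H e with hβ
  have hβC : IsClassFunction H β := brFun_isClassFunction P _ hHN heC
  have hβR : ∀ h, MemLocalRing M (β h) := brFun_memLocalRing P _ heR
  have hidem : ∀ h, MemLocalIdeal M (conv β β h - β h) := by
    intro h
    have h1 := brFun_conv_sub P H hM hP hCH heC heR heC heR h
    rw [conv_blockCoeff_self] at h1
    have := memLocalIdeal_neg h1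
    rwa [neg_sub] at this
  have hβx : ¬ MemLocalIdeal M (β ⟨x, hxH⟩) := by
    rw [hβ, brFun_of_mem P _ _ (h := ⟨x, hxH⟩) hxP]
    exact hx
  by_contra hcon
  push Not at hcon
  apply hβx
  -- every product `β * e_f` lies in the ideal at `x`
  have hprod : ∀ η₀ : IrrCharacter H,
      MemLocalIdeal M (conv β (blockCoeff (blockOf M (η₀ : H → ℂ))) ⟨x, hxH⟩) := by
    intro η₀
    obtain ⟨B₁, hind⟩ := inducedBlockDefined_of_le_normalizer hM P H hP hPH hCH hHN
      (blockOf M (η₀ : H → ℂ)) ⟨η₀, rfl⟩
    obtain ⟨χ₁, hB₁⟩ := hind.2.1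
    have hχ₁ : χ₁ ∈ B₁ := by rw [hB₁]; exact mem_blockOf_self χ₁
    have hω : ∀ η ∈ blockOf M (η₀ : H → ℂ), MemLocalIdeal M (omegaFun (η : H → ℂ) β -
        omegaFun (χ₁ : G → ℂ) e) := by
      intro η hη
      have h1 := memLocalIdeal_omegaFun_resFun_sub_brFun P H hM hP hPH hHN heC heR η
      have h2 := memLocalIdeal_omegaFun_resFun_sub_of_induced H hind hη hχ₁ heC heR
      have h3 := memLocalIdeal_sub h2 h1
      have h4 : omegaFun (η : H → ℂ) (resFun H e) - omegaFun (χ₁ : G → ℂ) e -
          (omegaFun (η : H → ℂ) (resFun H e) - omegaFun (η : H → ℂ) (brFun P H e)) =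
          omegaFun (η : H → ℂ) β - omegaFun (χ₁ : G → ℂ) e := by
        rw [hβ]; ring
      rwa [h4] at h3
    by_cases hBB : χ₁ ∈ blockOf M (χ₀ : G → ℂ)
    · -- the block induces `B`
      have hBeq : B₁ = blockOf M (χ₀ : G → ℂ) := isPBlock_eq_of_mem hind.2.1 ⟨χ₀, rfl⟩ hχ₁ hBB
      rw [hBeq] at hind
      have h5 := hcon _ hind
      have h6 := memLocalIdeal_blockCoeff_sub_conv (M := M) hβC hβR hidem η₀ (by
        intro η hη
        have := hω η hη
        rwa [he, omegaFun_blockCoeff, if_pos hBB] at this) ⟨x, hxH⟩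
      have h7 := memLocalIdeal_sub h5 h6
      rwa [sub_sub_cancel] at h7
    · exact memLocalIdeal_conv_blockCoeff (M := M) hβC hβR hidem η₀ (by
        intro η hη
        have := hω η hη
        rwa [he, omegaFun_blockCoeff, if_neg hBB, sub_zero] at this) ⟨x, hxH⟩
  -- decompose the unit
  have h1 : β = conv β (blockCoeff (Set.univ : Set (IrrCharacter H))) := by
    rw [blockCoeff_univ, Cfsg.Agent.Lib.Helper6.conv_classInd_one_right]
  rw [h1]
  unfold Cfsg.Agent.Lib.Helper6.conv
  have h2 : ∀ g : H, β g * blockCoeff (Set.univ : Set (IrrCharacter H)) (g⁻¹ * ⟨x, hxH⟩) =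
      ∑ f ∈ (Finset.univ : Finset (IrrCharacter H)).image (fun η : IrrCharacter H => blockOf M (η : H → ℂ)),
        β g * blockCoeff f (g⁻¹ * ⟨x, hxH⟩) := by
    intro g
    rw [blockCoeff_univ_eq_sum_blocks (M := M), Finset.mul_sum]
  rw [Finset.sum_congr rfl (fun g _ => h2 g), Finset.sum_comm]
  apply sum_memLocalIdeal
  intro f hf
  obtain ⟨η₀, -, rfl⟩ := Finset.mem_image.mp hf
  exact hprod η₀

end key

section dec

variable {G : Type u} [Group G] [Finite G] {M : Ideal AlgInt}

/-- **The Brauer map of a block idempotent** is, modulo the local ideal, the sum of the idempotents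
of the blocks of `H` inducing `B`. -/
theorem brFun_blockCoeff_sub_sum {p : ℕ} [hpp : Fact p.Prime] (hM : IsPModular p M)
    (P H : Subgroup G) (hP : IsPGroup p P) (hPH : P ≤ H)
    (hCH : Subgroup.centralizer (P : Set G) ≤ H) (hHN : H ≤ Subgroup.normalizer (P : Set G))
    (B : Set (IrrCharacter G)) (hB : IsPBlock M B) [Fintype (IrrCharacter H)]
    [DecidableEq (Set (IrrCharacter H))]
    [DecidablePred (fun f : Set (IrrCharacter H) => IsInducedBlock M H f B)] (h : H) :
    MemLocalIdeal M (brFun P H (blockCoeff B) h -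
      ∑ f ∈ ((Finset.univ : Finset (IrrCharacter H)).image
        (fun η : IrrCharacter H => blockOf M (η : H → ℂ))).filter
          (fun f => IsInducedBlock M H f B), blockCoeff f h) := by
  classical
  let _ := Fintype.ofFinite G
  let _ := Fintype.ofFinite H
  have hprime : M.IsPrime := isPrime_of_isPModular hM
  obtain ⟨χ₀, rfl⟩ := hB
  have hχ₀ : χ₀ ∈ blockOf M (χ₀ : G → ℂ) := mem_blockOf_self χ₀
  set e := blockCoeff (blockOf M (χ₀ : G → ℂ)) with he
  have heC : IsClassFunction G e := blockCoeff_isClassFunction _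
  have heR : ∀ g, MemLocalRing M (e g) := memLocalRing_blockCoeff_blockOf χ₀
  set β := brFun P H e with hβ
  have hβC : IsClassFunction H β := brFun_isClassFunction P _ hHN heC
  have hβR : ∀ h, MemLocalRing M (β h) := brFun_memLocalRing P _ heR
  have hidem : ∀ h, MemLocalIdeal M (conv β β h - β h) := by
    intro h
    have h1 := brFun_conv_sub P H hM hP hCH heC heR heC heR h
    rw [conv_blockCoeff_self] at h1
    have := memLocalIdeal_neg h1
    rwa [neg_sub] at this
  -- the products `β * e_f`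
  have hprod : ∀ η₀ : IrrCharacter H, MemLocalIdeal M
      (conv β (blockCoeff (blockOf M (η₀ : H → ℂ))) h -
        if IsInducedBlock M H (blockOf M (η₀ : H → ℂ)) (blockOf M (χ₀ : G → ℂ)) then
          blockCoeff (blockOf M (η₀ : H → ℂ)) h else 0) := by
    intro η₀
    obtain ⟨B₁, hind⟩ := inducedBlockDefined_of_le_normalizer hM P H hP hPH hCH hHN
      (blockOf M (η₀ : H → ℂ)) ⟨η₀, rfl⟩
    obtain ⟨χ₁, hB₁⟩ := hind.2.1
    have hχ₁ : χ₁ ∈ B₁ := by rw [hB₁]; exact mem_blockOf_self χ₁
    have hω : ∀ η ∈ blockOf M (η₀ : H → ℂ), MemLocalIdeal M (omegaFun (η : H → ℂ) β -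
        omegaFun (χ₁ : G → ℂ) e) := by
      intro η hη
      have h1 := memLocalIdeal_omegaFun_resFun_sub_brFun P H hM hP hPH hHN heC heR η
      have h2 := memLocalIdeal_omegaFun_resFun_sub_of_induced H hind hη hχ₁ heC heR
      have h3 := memLocalIdeal_sub h2 h1
      have h4 : omegaFun (η : H → ℂ) (resFun H e) - omegaFun (χ₁ : G → ℂ) e -
          (omegaFun (η : H → ℂ) (resFun H e) - omegaFun (η : H → ℂ) (brFun P H e)) =
          omegaFun (η : H → ℂ) β - omegaFun (χ₁ : G → ℂ) e := by
        rw [hβ]; ring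
      rwa [h4] at h3
    by_cases hBB : χ₁ ∈ blockOf M (χ₀ : G → ℂ)
    · have hBeq : B₁ = blockOf M (χ₀ : G → ℂ) := isPBlock_eq_of_mem hind.2.1 ⟨χ₀, rfl⟩ hχ₁ hBB
      rw [hBeq] at hind
      rw [if_pos hind]
      have h6 := memLocalIdeal_blockCoeff_sub_conv (M := M) hβC hβR hidem η₀ (by
        intro η hη
        have := hω η hη
        rwa [he, omegaFun_blockCoeff, if_pos hBB] at this) h
      have := memLocalIdeal_neg h6
      rwa [neg_sub] at this
    · have hnot : ¬ IsInducedBlock M H (blockOf M (η₀ : H → ℂ)) (blockOf M (χ₀ : G → ℂ)) := by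
        intro h'
        have : B₁ = blockOf M (χ₀ : G → ℂ) := isInducedBlock_unique hind h'
        rw [this] at hχ₁
        exact hBB hχ₁
      rw [if_neg hnot, sub_zero]
      exact memLocalIdeal_conv_blockCoeff (M := M) hβC hβR hidem η₀ (by
        intro η hη
        have := hω η hη
        rwa [he, omegaFun_blockCoeff, if_neg hBB, sub_zero] at this) h
  -- decompose the unit
  have h1 : β h = ∑ f ∈ (Finset.univ : Finset (IrrCharacter H)).image
      (fun η : IrrCharacter H => blockOf M (η : H → ℂ)), conv β (blockCoeff f) h := by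
    have h0 : β = conv β (blockCoeff (Set.univ : Set (IrrCharacter H))) := by
      rw [blockCoeff_univ, Cfsg.Agent.Lib.Helper6.conv_classInd_one_right]
    conv_lhs => rw [h0]
    unfold Cfsg.Agent.Lib.Helper6.conv
    have h2 : ∀ g : H, β g * blockCoeff (Set.univ : Set (IrrCharacter H)) (g⁻¹ * h) =
        ∑ f ∈ (Finset.univ : Finset (IrrCharacter H)).image
          (fun η : IrrCharacter H => blockOf M (η : H → ℂ)), β g * blockCoeff f (g⁻¹ * h) := by
      intro g
      rw [blockCoeff_univ_eq_sum_blocks (M := M), Finset.mul_sum]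
    rw [Finset.sum_congr rfl (fun g _ => h2 g), Finset.sum_comm]
  rw [h1, Finset.sum_filter, ← Finset.sum_sub_distrib]
  apply sum_memLocalIdeal
  intro f hf
  obtain ⟨η₀, -, rfl⟩ := Finset.mem_image.mp hf
  exact hprod η₀

end dec

end BrauerIdem

end Cfsg.Agent.Lib.Helper6
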