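/-
helper6: the Brauer correspondence over a subgroup `H ⊇ N_G(P)`, in terms of the Brauer-map images
of the block idempotents.
-/
import Mathlib
import Cfsg.Agent.Lib.Helper6.BrauerIdem
import Cfsg.Agent.Lib.Helper6.BlockIso
import Cfsg.Agent.Lib.Helper6.FirstMain

set_option autoImplicit false

namespace Cfsg.Agent.Lib.Helper6

open Cfsg Cfsg.Agent.CharLib Cfsg.Agent.Lib.Helper24 Cfsg.Agent.Lib.Helper23
open scoped ComplexConjugate

universe u

namespace BrauerCorrH

section BR

variable {G : Type u} [Group G] [Finite G] {M : Ideal AlgInt}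

/-- For a block `B` with defect group `P` and its Brauer correspondent `b` in `N_G(P)`: the Brauer
map of the idempotent of `B` is the idempotent of `b` modulo the local ideal. -/
theorem brFun_blockCoeff_sub_blockCoeff {p : ℕ} [hpp : Fact p.Prime] (hM : IsPModular p M)
    (P : Subgroup G) (hP : IsPGroup p P) (B : Set (IrrCharacter G))
    (b : Set (IrrCharacter (Subgroup.normalizer (P : Set G))))
    (hind : IsInducedBlock M (Subgroup.normalizer (P : Set G)) b B)
    (hbD : IsDefectGroup p M b (P.subgroupOf (Subgroup.normalizer (P : Set G))))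
    (n : Subgroup.normalizer (P : Set G)) :
    MemLocalIdeal M
      (brFun P (Subgroup.normalizer (P : Set G)) (blockCoeff B) n - blockCoeff b n) := by
  classical
  let _ := fintypeIrr (Subgroup.normalizer (P : Set G))
  have key := BrauerIdem.brFun_blockCoeff_sub_sum hM P (Subgroup.normalizer (P : Set G)) hP
    Subgroup.le_normalizer (Subgroup.centralizer_le_normalizer _) le_rfl B hind.2.1 n
  have hfilter : ((Finset.univ : Finset (IrrCharacter (Subgroup.normalizer (P : Set G)))).image
      (fun η : IrrCharacter (Subgroup.normalizer (P : Set G)) =>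
        blockOf M (η : Subgroup.normalizer (P : Set G) → ℂ))).filter
        (fun f => IsInducedBlock M (Subgroup.normalizer (P : Set G)) f B) = {b} := by
    ext f
    rw [Finset.mem_filter, Finset.mem_singleton]
    constructor
    · rintro ⟨-, hf⟩
      exact block_normalizer_unique hM P hP B f b hf hind hbD
    · rintro rfl
      obtain ⟨ξ₀, hb⟩ := hind.1
      exact ⟨Finset.mem_image.mpr ⟨ξ₀, Finset.mem_univ _, hb.symm⟩, hind⟩
  rw [hfilter, Finset.sum_singleton] at key
  exact key

/-- Two blocks with the same Brauer-map image of their idempotents, nonzero modulo the local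
ideal, coincide. -/
theorem block_eq_of_brauer_eq {p : ℕ} [hpp : Fact p.Prime] (hM : IsPModular p M)
    (P : Subgroup G) (hP : IsPGroup p P) (B B' : Set (IrrCharacter G)) (hB : IsPBlock M B)
    (hB' : IsPBlock M B') (x : G) (hxP : x ∈ Subgroup.centralizer (P : Set G))
    (hx : ¬ MemLocalIdeal M (blockCoeff B x))
    (h : ∀ y ∈ Subgroup.centralizer (P : Set G),
      MemLocalIdeal M (blockCoeff B y - blockCoeff B' y)) : B = B' := by
  classical
  let _ := Fintype.ofFinite G
  let _ := Fintype.ofFinite (Subgroup.normalizer (P : Set G))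
  have hprime : M.IsPrime := isPrime_of_isPModular hM
  by_contra hne
  have hdisj : Disjoint B B' := by
    rw [Set.disjoint_left]
    intro χ h1 h2
    exact hne (isPBlock_eq_of_mem hB hB' h1 h2)
  have hCN : Subgroup.centralizer (P : Set G) ≤ Subgroup.normalizer (P : Set G) :=
    Subgroup.centralizer_le_normalizer _
  have heC : IsClassFunction G (blockCoeff B) := blockCoeff_isClassFunction _
  have he'C : IsClassFunction G (blockCoeff B') := blockCoeff_isClassFunction _
  have heR : ∀ g, MemLocalRing M (blockCoeff B g) := by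
    obtain ⟨χ₀, rfl⟩ := hB
    exact memLocalRing_blockCoeff_blockOf χ₀
  have he'R : ∀ g, MemLocalRing M (blockCoeff B' g) := by
    obtain ⟨χ₀, rfl⟩ := hB'
    exact memLocalRing_blockCoeff_blockOf χ₀
  set β := brFun P (Subgroup.normalizer (P : Set G)) (blockCoeff B) with hβ
  set β' := brFun P (Subgroup.normalizer (P : Set G)) (blockCoeff B') with hβ'
  have hβR : ∀ n, MemLocalRing M (β n) := brFun_memLocalRing P _ heR
  have hdiff : ∀ n, MemLocalIdeal M (β n - β' n) := by
    intro n
    by_cases hn : (n : G) ∈ Subgroup.centralizer (P : Set G)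
    · rw [hβ, hβ', brFun_of_mem P _ _ hn, brFun_of_mem P _ _ hn]
      exact h _ hn
    · rw [hβ, hβ', brFun_of_not_mem P _ _ hn, brFun_of_not_mem P _ _ hn, sub_zero]
      exact memLocalIdeal_zero hprime.one_notMem
  have hidem : ∀ n, MemLocalIdeal M (conv β β n - β n) := by
    intro n
    have h1 := brFun_conv_sub P (Subgroup.normalizer (P : Set G)) hM hP hCN heC heR heC heR n
    rw [conv_blockCoeff_self] at h1
    have := memLocalIdeal_neg h1
    rwa [neg_sub] at this
  have hzero : ∀ n, MemLocalIdeal M (conv β β' n) := by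
    intro n
    have h1 := brFun_conv_sub P (Subgroup.normalizer (P : Set G)) hM hP hCN heC heR he'C he'R n
    rw [conv_blockCoeff_of_disjoint B B' hdisj] at h1
    have h2 : brFun P (Subgroup.normalizer (P : Set G)) (0 : G → ℂ) n = 0 := by
      by_cases hn : (n : G) ∈ Subgroup.centralizer (P : Set G)
      · rw [brFun_of_mem P _ _ hn]; rfl
      · rw [brFun_of_not_mem P _ _ hn]
    rw [h2, zero_sub] at h1
    have := memLocalIdeal_neg h1
    rwa [neg_neg] at this
  have hsame : ∀ n, MemLocalIdeal M (conv β β n - conv β β' n) := by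
    intro n
    unfold Cfsg.Agent.Lib.Helper6.conv
    rw [← Finset.sum_sub_distrib]
    apply sum_memLocalIdeal
    intro g _
    rw [← mul_sub]
    exact memLocalIdeal_mul_left (hβR g) (hdiff _)
  have hall : ∀ n, MemLocalIdeal M (β n) := by
    intro n
    have h1 := memLocalIdeal_add (hsame n) (hzero n)
    rw [sub_add_cancel] at h1
    have h2 := memLocalIdeal_sub h1 (hidem n)
    rwa [sub_sub_cancel] at h2
  apply hx
  have := hall ⟨x, hCN hxP⟩
  rwa [hβ, brFun_of_mem P _ _ (h := ⟨x, hCN hxP⟩) hxP] at this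

end BR

section corr

variable {G : Type u} [Group G] [Finite G] {M : Ideal AlgInt}

/-- The normalizer of `P` computed inside `H ⊇ N_G(P)` is `N_G(P)`. -/
noncomputable def normEquiv {P H : Subgroup G} (hPH : P ≤ H)
    (hH : Subgroup.normalizer (P : Set G) ≤ H) :
    Subgroup.normalizer ((P.subgroupOf H : Subgroup H) : Set H) ≃*
      Subgroup.normalizer (P : Set G) where
  toFun n' := ⟨((n' : H) : G), by
    have h1 : (n' : H) ∈ Subgroup.normalizer ((P.subgroupOf H : Subgroup H) : Set H) := n'.2
    have h2 : (n' : H) ∈ (Subgroup.normalizer (P : Set G)).subgroupOf H :=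
      (Subgroup.subgroupOf_normalizer_eq hPH).symm ▸ h1
    exact Subgroup.mem_subgroupOf.mp h2⟩
  invFun n := ⟨⟨(n : G), hH n.2⟩, by
    have h2 : (⟨(n : G), hH n.2⟩ : H) ∈ (Subgroup.normalizer (P : Set G)).subgroupOf H :=
      Subgroup.mem_subgroupOf.mpr n.2
    exact (Subgroup.subgroupOf_normalizer_eq hPH) ▸ h2⟩
  left_inv _ := rfl
  right_inv _ := rfl
  map_mul' _ _ := rfl

theorem normEquiv_coe {P H : Subgroup G} (hPH : P ≤ H)
    (hH : Subgroup.normalizer (P : Set G) ≤ H)
    (n' : Subgroup.normalizer ((P.subgroupOf H : Subgroup H) : Set H)) :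
    ((normEquiv hPH hH n' : Subgroup.normalizer (P : Set G)) : G) = ((n' : H) : G) := rfl

theorem comap_normEquiv {P H : Subgroup G} (hPH : P ≤ H)
    (hH : Subgroup.normalizer (P : Set G) ≤ H) :
    (P.subgroupOf (Subgroup.normalizer (P : Set G))).comap (normEquiv hPH hH).toMonoidHom =
      (P.subgroupOf H).subgroupOf (Subgroup.normalizer ((P.subgroupOf H : Subgroup H) : Set H)) := by
  ext n'
  rfl

theorem comap_normEquiv_symm {P H : Subgroup G} (hPH : P ≤ H)
    (hH : Subgroup.normalizer (P : Set G) ≤ H) :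
    ((P.subgroupOf H).subgroupOf
      (Subgroup.normalizer ((P.subgroupOf H : Subgroup H) : Set H))).comap
        (normEquiv hPH hH).symm.toMonoidHom = P.subgroupOf (Subgroup.normalizer (P : Set G)) := by
  ext n
  rfl

/-- Core comparison: blocks of `G` and of `H` induced from corresponding blocks of the two
copies of `N_G(P)` have idempotents agreeing on `C_G(P)`. -/
theorem coeff_sub_of_corr {p : ℕ} [hpp : Fact p.Prime] (hM : IsPModular p M)
    (P H : Subgroup G) (hP : IsPGroup p P) (hH : Subgroup.normalizer (P : Set G) ≤ H)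
    (b : Set (IrrCharacter (Subgroup.normalizer (P : Set G))))
    (hbD : IsDefectGroup p M b (P.subgroupOf (Subgroup.normalizer (P : Set G))))
    (B : Set (IrrCharacter G))
    (hind : IsInducedBlock M (Subgroup.normalizer (P : Set G)) b B)
    (c : Set (IrrCharacter H))
    (hindc : IsInducedBlock M (Subgroup.normalizer ((P.subgroupOf H : Subgroup H) : Set H))
      (BlockIso.pullBlock (normEquiv (Subgroup.le_normalizer.trans hH) hH) b) c)
    (x : G) (hx : x ∈ Subgroup.centralizer (P : Set G)) :
    MemLocalIdeal M (blockCoeff B x - subgroupBlockCoeff H c x) := by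
  classical
  have hprime : M.IsPrime := isPrime_of_isPModular hM
  have hPH : P ≤ H := Subgroup.le_normalizer.trans hH
  set φ := normEquiv hPH hH with hφ
  have hxN : x ∈ Subgroup.normalizer (P : Set G) := Subgroup.centralizer_le_normalizer _ hx
  have hxH : x ∈ H := hH hxN
  have hxH' : (⟨x, hxH⟩ : H) ∈ Subgroup.centralizer ((P.subgroupOf H : Subgroup H) : Set H) :=
    (mem_centralizer_subgroupOf_iff hPH ⟨x, hxH⟩).mpr hx
  have hxN' : (⟨x, hxH⟩ : H) ∈ Subgroup.normalizer ((P.subgroupOf H : Subgroup H) : Set H) :=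
    Subgroup.centralizer_le_normalizer _ hxH'
  have hb'D : IsDefectGroup p M (BlockIso.pullBlock φ b) ((P.subgroupOf H).subgroupOf
      (Subgroup.normalizer ((P.subgroupOf H : Subgroup H) : Set H))) := by
    rw [← comap_normEquiv hPH hH]
    exact BlockIso.isDefectGroup_pullBlock φ hbD
  have h1 := brFun_blockCoeff_sub_blockCoeff hM P hP B b hind hbD ⟨x, hxN⟩
  rw [brFun_of_mem P _ _ (h := ⟨x, hxN⟩) hx] at h1
  have h2 := brFun_blockCoeff_sub_blockCoeff hM (P.subgroupOf H) hP.comap_subtype c
    (BlockIso.pullBlock φ b) hindc hb'D ⟨⟨x, hxH⟩, hxN'⟩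
  rw [brFun_of_mem (P.subgroupOf H) _ _ (h := ⟨⟨x, hxH⟩, hxN'⟩) hxH',
    BlockIso.blockCoeff_pullBlock] at h2
  have h3 : φ ⟨⟨x, hxH⟩, hxN'⟩ = ⟨x, hxN⟩ := rfl
  rw [h3] at h2
  have h4 : subgroupBlockCoeff H c x = blockCoeff c ⟨x, hxH⟩ :=
    subgroupBlockCoeff_coe H c ⟨x, hxH⟩
  rw [h4]
  have h5 := memLocalIdeal_sub h1 h2
  have h6 : blockCoeff B x - blockCoeff b ⟨x, hxN⟩ -
      (blockCoeff c ⟨x, hxH⟩ - blockCoeff b ⟨x, hxN⟩) =
      blockCoeff B x - blockCoeff c ⟨x, hxH⟩ := by ring
  rwa [h6] at h5

/-- **Brauer correspondence over `H`, from `G` to `H`.** -/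
theorem exists_block_H {p : ℕ} [hpp : Fact p.Prime] (hM : IsPModular p M)
    (P H : Subgroup G) (hP : IsPGroup p P) (hH : Subgroup.normalizer (P : Set G) ≤ H)
    (B : Set (IrrCharacter G)) (hB : IsPBlock M B) (hBD : IsDefectGroup p M B P) :
    ∃ c : Set (IrrCharacter H), IsPBlock M c ∧ IsDefectGroup p M c (P.subgroupOf H) ∧
      ∀ x : G, x ∈ Subgroup.centralizer (P : Set G) →
        MemLocalIdeal M (blockCoeff B x - subgroupBlockCoeff H c x) := by
  have hPH : P ≤ H := Subgroup.le_normalizer.trans hH
  obtain ⟨b, hb, hbD, hind⟩ := exists_block_normalizer hM P hP B hB hBD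
  set φ := normEquiv hPH hH with hφ
  have hb' : IsPBlock M (BlockIso.pullBlock φ b) := BlockIso.isPBlock_pullBlock φ hb
  have hb'D : IsDefectGroup p M (BlockIso.pullBlock φ b) ((P.subgroupOf H).subgroupOf
      (Subgroup.normalizer ((P.subgroupOf H : Subgroup H) : Set H))) := by
    rw [← comap_normEquiv hPH hH]
    exact BlockIso.isDefectGroup_pullBlock φ hbD
  obtain ⟨c, hindc⟩ := inducedBlockDefined_of_le_normalizer hM (P.subgroupOf H)
    (Subgroup.normalizer ((P.subgroupOf H : Subgroup H) : Set H)) hP.comap_subtype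
    Subgroup.le_normalizer (Subgroup.centralizer_le_normalizer _) le_rfl _ hb'
  have hcD := isDefectGroup_of_induced_normalizer hM (P.subgroupOf H) hP.comap_subtype _ c hindc
    hb'D
  exact ⟨c, hindc.2.1, hcD, fun x hx => coeff_sub_of_corr hM P H hP hH b hbD B hind c hindc x hx⟩

/-- **Brauer correspondence over `H`, from `H` to `G`.** -/
theorem exists_block_G {p : ℕ} [hpp : Fact p.Prime] (hM : IsPModular p M)
    (P H : Subgroup G) (hP : IsPGroup p P) (hH : Subgroup.normalizer (P : Set G) ≤ H)
    (c : Set (IrrCharacter H)) (hc : IsPBlock M c)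
    (hcD : IsDefectGroup p M c (P.subgroupOf H)) :
    ∃ B : Set (IrrCharacter G), IsPBlock M B ∧ IsDefectGroup p M B P ∧
      ∀ x : G, x ∈ Subgroup.centralizer (P : Set G) →
        MemLocalIdeal M (blockCoeff B x - subgroupBlockCoeff H c x) := by
  have hPH : P ≤ H := Subgroup.le_normalizer.trans hH
  obtain ⟨b', hb', hb'D, hindc⟩ := exists_block_normalizer hM (P.subgroupOf H) hP.comap_subtype
    c hc hcD
  set φ := normEquiv hPH hH with hφ
  set b := BlockIso.pullBlock φ.symm b' with hbdef
  have hb : IsPBlock M b := BlockIso.isPBlock_pullBlock φ.symm hb'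
  have hbD : IsDefectGroup p M b (P.subgroupOf (Subgroup.normalizer (P : Set G))) := by
    rw [← comap_normEquiv_symm hPH hH]
    exact BlockIso.isDefectGroup_pullBlock φ.symm hb'D
  have hb'eq : BlockIso.pullBlock φ b = b' := BlockIso.pullBlock_symm_pullBlock φ.symm b'
  obtain ⟨B, hind⟩ := inducedBlockDefined_of_le_normalizer hM P
    (Subgroup.normalizer (P : Set G)) hP Subgroup.le_normalizer
    (Subgroup.centralizer_le_normalizer _) le_rfl b hb
  have hBD := isDefectGroup_of_induced_normalizer hM P hP b B hind hbD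
  rw [← hb'eq] at hindc
  exact ⟨B, hind.2.1, hBD, fun x hx => coeff_sub_of_corr hM P H hP hH b hbD B hind c hindc x hx⟩

end corr

end BrauerCorrH

end Cfsg.Agent.Lib.Helper6
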