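/-
helper6: Brauer's extended first main theorem: blocks of `P C_G(P)` inducing a block with defect
group `P`.
-/
import Mathlib
import Cfsg.Agent.Lib.Helper6.BrauerCorrH
import Cfsg.Agent.Lib.Helper6.DefectOrder
import Cfsg.Agent.Lib.Helper23.BrauerInduced
import Cfsg.Agent.Lib.Helper23.Covering2
import Cfsg.Agent.Lib.Lead.OddIndexBlock
import Cfsg.Agent.Lib.Helper6.FongReynolds

set_option autoImplicit false

namespace Cfsg.Agent.Lib.Helper6

open Cfsg Cfsg.Agent.CharLib Cfsg.Agent.Lib.Helper24 Cfsg.Agent.Lib.Helper23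
open scoped ComplexConjugate

universe u

namespace ExtFirstMain

section A

variable {G : Type u} [Group G] [Finite G] {M : Ideal AlgInt}

theorem isPGroup_of_isDefectGroup {p : ℕ} [hpp : Fact p.Prime] {B : Set (IrrCharacter G)}
    {D : Subgroup G} (hD : IsDefectGroup p M B D) : IsPGroup p D := by
  obtain ⟨y, hy, hyS⟩ := hD
  have hyS' : IsSylowIn p (Subgroup.centralizer ({y} : Set G)) D := hyS
  exact hyS'.isPGroup

/-- A block `b` of `H` with `P ≤ H ≤ N_G(P)` inducing a block `B` with defect group `P` has defect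
group `P`. -/
theorem isDefectGroup_of_induced {p : ℕ} [hpp : Fact p.Prime] (hM : IsPModular p M)
    (B : Set (IrrCharacter G)) (P : Subgroup G) (hP : IsDefectGroup p M B P)
    (H : Subgroup G) (hPH : P ≤ H) (hHN : H ≤ Subgroup.normalizer (P : Set G))
    (b : Set (IrrCharacter H)) (hind : IsInducedBlock M H b B) :
    IsDefectGroup p M b (P.subgroupOf H) := by
  have hPp : IsPGroup p P := isPGroup_of_isDefectGroup hP
  obtain ⟨Q, hQ⟩ := exists_isDefectGroup (p := p) hM b hind.1
  have hn : (P.subgroupOf H).Normal := Subgroup.normal_subgroupOf_of_le_normalizer hHN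
  have h1 : P.subgroupOf H ≤ Q :=
    le_of_isDefectGroup_of_normal hM (P.subgroupOf H) hPp.comap_subtype hind.1 hQ
  obtain ⟨E, hE, hQE⟩ := exists_defectGroup_ge_of_induced hM H b B hind Q hQ
  have hcE : Nat.card E = Nat.card P := by
    rw [card_defectGroup_eq hM B hind.2.1 E hE, card_defectGroup_eq hM B hind.2.1 P hP]
  have hcQ : Nat.card Q ≤ Nat.card (P.subgroupOf H) := by
    have h2 : Nat.card Q = Nat.card (Q.map H.subtype) :=
      (Subgroup.card_map_of_injective H.subtype_injective).symm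
    have h3 : Nat.card (Q.map H.subtype) ≤ Nat.card E := Subgroup.card_le_of_le hQE
    have h4 : Nat.card (P.subgroupOf H) = Nat.card P :=
      Nat.card_congr (Subgroup.subgroupOfEquivOfLe hPH).toEquiv
    omega
  have : P.subgroupOf H = Q := Subgroup.eq_of_le_of_card_ge h1 hcQ
  rw [this]
  exact hQ

/-- Existence part of the extended first main theorem. -/
theorem exists_block_PC {p : ℕ} [hpp : Fact p.Prime] (hM : IsPModular p M)
    (B : Set (IrrCharacter G)) (hB : IsPBlock M B) (P : Subgroup G)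
    (hP : IsDefectGroup p M B P) :
    ∃ b : Set (IrrCharacter ↥(P ⊔ Subgroup.centralizer (P : Set G))),
      IsDefectGroup p M b (P.subgroupOf (P ⊔ Subgroup.centralizer (P : Set G))) ∧
      IsInducedBlock M (P ⊔ Subgroup.centralizer (P : Set G)) b B := by
  have hPp : IsPGroup p P := isPGroup_of_isDefectGroup hP
  have hHN : P ⊔ Subgroup.centralizer (P : Set G) ≤ Subgroup.normalizer (P : Set G) :=
    sup_le Subgroup.le_normalizer (Subgroup.centralizer_le_normalizer _)
  obtain ⟨b, hind⟩ := (induced_from_iff_le_defectGroup p hM P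
    (P ⊔ Subgroup.centralizer (P : Set G)) hPp le_rfl hHN B hB).mpr
    ⟨P, hP, 1, by
      intro w hw
      obtain ⟨q, hq, rfl⟩ := hw
      simpa using hq⟩
  exact ⟨b, isDefectGroup_of_induced hM B P hP _ le_sup_left hHN b hind, hind⟩

end A

section B

variable {G : Type u} [Group G] [Fintype G] {M : Ideal AlgInt}

/-- If `C_G(P) ≤ H ≤ K ≤ N_G(P)` with `H` normal in `K`, and `χ₁ ∈ Irr(K)` lies over
`θ ∈ Irr(H)`, then the Brauer central characters of `χ₁` and `θ` agree. -/
theorem brauerCentralChar_over (P H K : Subgroup G)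
    (hCH : Subgroup.centralizer (P : Set G) ≤ H) (hHK : H ≤ K)
    (hKN : K ≤ Subgroup.normalizer (P : Set G)) [hn : (H.subgroupOf K).Normal]
    [Fintype H] [Fintype K] [Fintype (H.subgroupOf K)]
    (χ₁ : IrrCharacter K) (θ : IrrCharacter H)
    (hover : classInner (fun n : H.subgroupOf K => (χ₁ : K → ℂ) n)
      ((θ : H → ℂ) ∘ (Subgroup.subgroupOfEquivOfLe hHK)) ≠ 0) (g : G) :
    brauerCentralChar P K (χ₁ : K → ℂ) g = brauerCentralChar P H (θ : H → ℂ) g := by
  classical
  set e := Subgroup.subgroupOfEquivOfLe hHK with he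
  have hecoe : ∀ n : H.subgroupOf K, ((e n : H) : G) = ((n : K) : G) := fun n => rfl
  rw [brauerCentralChar_eq_omegaFun, brauerCentralChar_eq_omegaFun]
  set F : K → ℂ := brFun P K (classInd g) with hF
  have hFc : IsClassFunction K F := brFun_isClassFunction P K hKN (classInd_isClassFunction g)
  set a : H.subgroupOf K → ℂ := fun n => F (n : K) with ha
  have hFa : F = extN (H.subgroupOf K) a := by
    funext k
    by_cases hk : k ∈ H.subgroupOf K
    · have := extN_apply_mem (H.subgroupOf K) a ⟨k, hk⟩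
      rw [show ((⟨k, hk⟩ : H.subgroupOf K) : K) = k from rfl] at this
      rw [this]
    · rw [extN_apply_not_mem _ a hk]
      apply brFun_of_not_mem
      intro hc
      exact hk (Subgroup.mem_subgroupOf.mpr (hCH hc))
  have hainv : ∀ (k : K) (n : H.subgroupOf K), a (conjN (H.subgroupOf K) k n) = a n := by
    intro k n
    exact hFc (n : K) k
  have hθ₂ : IsIrrCharacter (H.subgroupOf K) ((θ : H → ℂ) ∘ e) :=
    (irrCompIso e θ).2
  rw [hFa, omegaFun_extN, omega_restrict_eq (H.subgroupOf K) χ₁.2 hθ₂ hover a hainv]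
  unfold omegaFun
  have h1 : ((θ : H → ℂ) ∘ e) 1 = (θ : H → ℂ) 1 := by
    rw [Function.comp_apply, map_one]
  rw [h1]
  congr 1
  rw [← Equiv.sum_comp e.toEquiv]
  apply Finset.sum_congr rfl
  intro n _
  have h2 : brFun P H (classInd g) (e n) = a n := by
    by_cases hc : ((n : K) : G) ∈ Subgroup.centralizer (P : Set G)
    · have hc' : ((e n : H) : G) ∈ Subgroup.centralizer (P : Set G) := hc
      rw [brFun_of_mem P H _ hc', ha]
      simp only
      rw [hF, brFun_of_mem P K _ hc]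
      rfl
    · have hc' : ((e n : H) : G) ∉ Subgroup.centralizer (P : Set G) := hc
      rw [brFun_of_not_mem P H _ hc', ha]
      simp only
      rw [hF, brFun_of_not_mem P K _ hc]
  change a n * (θ : H → ℂ) (e n) = brFun P H (classInd g) (e n) * (θ : H → ℂ) (e n)
  rw [h2]

/-- **Transitivity**: if `b` (a block of `H`) induces `B`, `H ⊴ K ≤ N_G(P)`, and `χ₁ ∈ Irr(K)` lies
over a member of `b`, then the block of `χ₁` induces `B`. -/
theorem isInducedBlock_of_over {p : ℕ} [hpp : Fact p.Prime] (hM : IsPModular p M)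
    (P H K : Subgroup G) (hP : IsPGroup p P) (hPH : P ≤ H)
    (hCH : Subgroup.centralizer (P : Set G) ≤ H) (hHK : H ≤ K)
    (hKN : K ≤ Subgroup.normalizer (P : Set G)) [hn : (H.subgroupOf K).Normal]
    [Fintype H] [Fintype K] [Fintype (H.subgroupOf K)]
    (b : Set (IrrCharacter H)) (B : Set (IrrCharacter G)) (hind : IsInducedBlock M H b B)
    (χ₁ : IrrCharacter K) (θ : IrrCharacter H) (hθ : θ ∈ b)
    (hover : classInner (fun n : H.subgroupOf K => (χ₁ : K → ℂ) n)
      ((θ : H → ℂ) ∘ (Subgroup.subgroupOfEquivOfLe hHK)) ≠ 0) :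
    IsInducedBlock M K (blockOf M (χ₁ : K → ℂ)) B := by
  classical
  have hprime : M.IsPrime := isPrime_of_isPModular hM
  refine ⟨⟨χ₁, rfl⟩, hind.2.1, ?_⟩
  intro ξ hξ χ hχ g
  have h1 := FongReynolds.memLocalIdeal_inducedCentralChar_sub (M := M) (T := K)
    (ψ := ξ) (ψ' := χ₁) (sameBlock_symm hξ) g
  have h2 := memLocalIdeal_inducedCentralChar_sub_brauerCentralChar hM P K hP (hPH.trans hHK) hKN
    χ₁ g
  have h3 := brauerCentralChar_over P H K hCH hHK hKN χ₁ θ hover g
  have h4 := memLocalIdeal_inducedCentralChar_sub_brauerCentralChar hM P H hP hPH (hHK.trans hKN)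
    θ g
  have h5 := hind.2.2 θ hθ χ hχ g
  rw [h3] at h2
  have h6 := memLocalIdeal_add (memLocalIdeal_add h1 h2) (memLocalIdeal_add (memLocalIdeal_neg h4) h5)
  have h7 : inducedCentralChar K (ξ : K → ℂ) g - centralChar (χ : G → ℂ) g =
      (inducedCentralChar K (ξ : K → ℂ) g - inducedCentralChar K (χ₁ : K → ℂ) g +
        (inducedCentralChar K (χ₁ : K → ℂ) g - brauerCentralChar P H (θ : H → ℂ) g)) +
      (-(inducedCentralChar H (θ : H → ℂ) g - brauerCentralChar P H (θ : H → ℂ) g) +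
        (inducedCentralChar H (θ : H → ℂ) g - centralChar (χ : G → ℂ) g)) := by ring
  rw [h7]
  exact h6

end B

section C

variable {G : Type u} [Group G] [Finite G] {M : Ideal AlgInt}

theorem normalizer_le_normalizer_sup_centralizer (P : Subgroup G) :
    Subgroup.normalizer (P : Set G) ≤
      Subgroup.normalizer ((P ⊔ Subgroup.centralizer (P : Set G) : Subgroup G) : Set G) := by
  have key : ∀ n ∈ Subgroup.normalizer (P : Set G), ∀ h ∈ P ⊔ Subgroup.centralizer (P : Set G),
      n * h * n⁻¹ ∈ P ⊔ Subgroup.centralizer (P : Set G) := by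
    intro n hn
    have h1 : P ⊔ Subgroup.centralizer (P : Set G) ≤
        (P ⊔ Subgroup.centralizer (P : Set G)).comap (MulAut.conj n).toMonoidHom := by
      apply sup_le
      · intro x hx
        rw [Subgroup.mem_comap]
        apply Subgroup.mem_sup_left
        have := (Subgroup.mem_normalizer_iff.mp hn x).mp hx
        simpa using this
      · intro x hx
        rw [Subgroup.mem_comap]
        apply Subgroup.mem_sup_right
        have := (conj_mem_centralizer_iff hn x).mpr hx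
        simpa using this
    intro h hh
    have := h1 hh
    rw [Subgroup.mem_comap] at this
    simpa using this
  intro n hn
  rw [Subgroup.mem_normalizer_iff]
  intro h
  constructor
  · exact key n hn h
  · intro hh
    have := key n⁻¹ (inv_mem hn) _ hh
    simpa [mul_assoc] using this

/-- Conjugacy part of the extended first main theorem, for a general `P C_G(P) ≤ H ⊴ N_G(P)`. -/
theorem conj_of_induced_gen {p : ℕ} [hpp : Fact p.Prime] (hM : IsPModular p M)
    (B : Set (IrrCharacter G)) (hB : IsPBlock M B) (P : Subgroup G)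
    (hP : IsDefectGroup p M B P) (H : Subgroup G) (hPH : P ≤ H)
    (hCH : Subgroup.centralizer (P : Set G) ≤ H) (hHN : H ≤ Subgroup.normalizer (P : Set G))
    (hnorm : Subgroup.normalizer (P : Set G) ≤ Subgroup.normalizer (H : Set G))
    (b b' : Set (IrrCharacter H))
    (hb : IsInducedBlock M H b B) (hb' : IsInducedBlock M H b' B) :
    ∃ n ∈ Subgroup.normalizer (P : Set G), ∀ θ ∈ b, ∃ θ' ∈ b',
      ∀ x : H, ∀ hx : n * (x : G) * n⁻¹ ∈ H,
      (θ' : H → ℂ) x = (θ : H → ℂ) ⟨n * (x : G) * n⁻¹, hx⟩ := by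
  classical
  let _ := Fintype.ofFinite G
  have hprime : M.IsPrime := isPrime_of_isPModular hM
  have hPp : IsPGroup p P := isPGroup_of_isDefectGroup hP
  set N₀ : Subgroup G := Subgroup.normalizer (P : Set G) with hN₀
  have hn : (H.subgroupOf N₀).Normal := Subgroup.normal_subgroupOf_of_le_normalizer hnorm
  let _ := Fintype.ofFinite H
  let _ := Fintype.ofFinite N₀
  let _ := Fintype.ofFinite (H.subgroupOf N₀)
  set e := Subgroup.subgroupOfEquivOfLe hHN with he
  obtain ⟨θ₀, hθ₀⟩ : ∃ θ₀, θ₀ ∈ b := by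
    obtain ⟨θ₀, hθ₀⟩ := hb.1
    exact ⟨θ₀, by rw [hθ₀]; exact mem_blockOf_self θ₀⟩
  obtain ⟨θ₀', hθ₀'⟩ : ∃ θ₀', θ₀' ∈ b' := by
    obtain ⟨θ₀', hθ₀'⟩ := hb'.1
    exact ⟨θ₀', by rw [hθ₀']; exact mem_blockOf_self θ₀'⟩
  obtain ⟨χ₁, hχ₁⟩ := exists_irr_over_constituent (H.subgroupOf N₀) (irrCompIso e θ₀)
  obtain ⟨χ₁', hχ₁'⟩ := exists_irr_over_constituent (H.subgroupOf N₀) (irrCompIso e θ₀')
  have hi1 : IsInducedBlock M N₀ (blockOf M (χ₁ : N₀ → ℂ)) B :=
    isInducedBlock_of_over hM P H N₀ hPp hPH hCH hHN le_rfl b B hb χ₁ θ₀ hθ₀ hχ₁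
  have hi2 : IsInducedBlock M N₀ (blockOf M (χ₁' : N₀ → ℂ)) B :=
    isInducedBlock_of_over hM P H N₀ hPp hPH hCH hHN le_rfl b' B hb' χ₁' θ₀' hθ₀' hχ₁'
  obtain ⟨b₁, hb₁, hb₁D, hb₁i⟩ := exists_block_normalizer hM P hPp B hB hP
  have e1 := block_normalizer_unique hM P hPp B _ b₁ hi1 hb₁i hb₁D
  have e2 := block_normalizer_unique hM P hPp B _ b₁ hi2 hb₁i hb₁D
  have hsame : SameBlock M (χ₁ : N₀ → ℂ) (χ₁' : N₀ → ℂ) := by
    have : χ₁' ∈ blockOf M (χ₁ : N₀ → ℂ) := by
      rw [e1, ← e2]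
      exact mem_blockOf_self χ₁'
    exact this
  have hpb : IsPBlock M (BlockIso.pullBlock e b) := BlockIso.isPBlock_pullBlock e hb.1
  have hpb' : IsPBlock M (BlockIso.pullBlock e b') := BlockIso.isPBlock_pullBlock e hb'.1
  obtain ⟨a, θ₂, hθ₂, hconj⟩ := mem_conjUnion_of_sameBlock (H.subgroupOf N₀) hM hpb χ₁ χ₁' hsame
    (irrCompIso e θ₀) (BlockIso.irrCompIso_mem_pullBlock e hθ₀) hχ₁ (irrCompIso e θ₀') hχ₁'
  refine ⟨(a : G), a.2, ?_⟩
  intro θ hθ
  set ψ : IrrCharacter (H.subgroupOf N₀) :=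
    ⟨conjFun (H.subgroupOf N₀) a ((irrCompIso e θ : IrrCharacter (H.subgroupOf N₀)) :
      (H.subgroupOf N₀) → ℂ), isIrrCharacter_conjFun (H.subgroupOf N₀) (irrCompIso e θ).2 a⟩
    with hψ
  have hψmem : ψ ∈ BlockIso.pullBlock e b' := by
    have h1 : blockOf M ((irrCompIso e θ₀' : IrrCharacter (H.subgroupOf N₀)) :
        (H.subgroupOf N₀) → ℂ) = BlockIso.pullBlock e b' :=
      blockOf_eq_of_mem hpb' (BlockIso.irrCompIso_mem_pullBlock e hθ₀')
    rw [← h1]
    have h2 : blockOf M ((θ₂ : IrrCharacter (H.subgroupOf N₀)) : (H.subgroupOf N₀) → ℂ) =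
        BlockIso.pullBlock e b := blockOf_eq_of_mem hpb hθ₂
    have h3 : SameBlock M ((θ₂ : IrrCharacter (H.subgroupOf N₀)) : (H.subgroupOf N₀) → ℂ)
        ((irrCompIso e θ : IrrCharacter (H.subgroupOf N₀)) : (H.subgroupOf N₀) → ℂ) := by
      have : irrCompIso e θ ∈ blockOf M
          ((θ₂ : IrrCharacter (H.subgroupOf N₀)) : (H.subgroupOf N₀) → ℂ) := by
        rw [h2]
        exact BlockIso.irrCompIso_mem_pullBlock e hθ
      exact this
    have h4 := sameBlock_conjFun (H.subgroupOf N₀) h3 a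
    rw [← hconj] at h4
    exact h4
  refine ⟨irrCompIso e.symm ψ, hψmem, ?_⟩
  intro x hx
  change (θ : H → ℂ) (e ⟨a * (e.symm x) * a⁻¹, _⟩) = _
  congr 1

/-- Conjugacy part of the extended first main theorem. -/
theorem conj_of_induced {p : ℕ} [hpp : Fact p.Prime] (hM : IsPModular p M)
    (B : Set (IrrCharacter G)) (hB : IsPBlock M B) (P : Subgroup G)
    (hP : IsDefectGroup p M B P)
    (b b' : Set (IrrCharacter ↥(P ⊔ Subgroup.centralizer (P : Set G))))
    (hb : IsInducedBlock M (P ⊔ Subgroup.centralizer (P : Set G)) b B)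
    (hb' : IsInducedBlock M (P ⊔ Subgroup.centralizer (P : Set G)) b' B) :
    ∃ n ∈ Subgroup.normalizer (P : Set G), ∀ θ ∈ b, ∃ θ' ∈ b',
      ∀ x : ↥(P ⊔ Subgroup.centralizer (P : Set G)),
      ∀ hx : n * (x : G) * n⁻¹ ∈ P ⊔ Subgroup.centralizer (P : Set G),
      (θ' : ↥(P ⊔ Subgroup.centralizer (P : Set G)) → ℂ) x =
        (θ : ↥(P ⊔ Subgroup.centralizer (P : Set G)) → ℂ) ⟨n * (x : G) * n⁻¹, hx⟩ :=
  conj_of_induced_gen hM B hB P hP _ le_sup_left le_sup_right
    (sup_le Subgroup.le_normalizer (Subgroup.centralizer_le_normalizer _))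
    (normalizer_le_normalizer_sup_centralizer P) b b' hb hb'

end C

end ExtFirstMain

end Cfsg.Agent.Lib.Helper6
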