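/-
helper6: Blau's theorem (height-zero constituents of restrictions for induced blocks) and Okuyama's
criterion, built on helper23's `HeightZero` libs.
-/
import Mathlib
import Cfsg.Agent.Lib.Helper23.HeightZeroE
import Cfsg.Agent.Lib.Helper6.CharExtra
import Cfsg.Agent.Lib.Lead.CharOrtho
import Cfsg.Agent.Lib.Helper23.BlockCount

set_option autoImplicit false

namespace Cfsg.Agent.Lib.Helper6

open Cfsg Cfsg.Agent.CharLib Cfsg.Agent.Lib.Helper24 Cfsg.Agent.Lib.Helper23
open scoped ComplexConjugate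

universe u

namespace Blau

section A

variable {H : Type u} [Group H] [Fintype H] {M : Ideal AlgInt} {p : ℕ} [hpp : Fact p.Prime]

theorem memLocalIdeal_finset_sum [hp : M.IsPrime] {ι : Type*} (s : Finset ι) (f : ι → ℂ)
    (hf : ∀ i ∈ s, MemLocalIdeal M (f i)) : MemLocalIdeal M (∑ i ∈ s, f i) := by
  classical
  induction s using Finset.induction_on with
  | empty => rw [Finset.sum_empty]; exact memLocalIdeal_zero hp.one_notMem
  | insert a s ha ih =>
    rw [Finset.sum_insert ha]
    exact memLocalIdeal_add (hf a (Finset.mem_insert_self a s))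
      (ih fun i hi => hf i (Finset.mem_insert_of_mem hi))

omit hpp in
/-- The scaled `p`-regular part of a character, paired with an irreducible character. -/
theorem classInner_tildeFun_char [Fintype (IrrCharacter H)] [hpp : Fact p.Prime] {Φ : H → ℂ}
    (m : IrrCharacter H → ℕ) (hΦ : Φ = ∑ ξ : IrrCharacter H, m ξ • (ξ : H → ℂ))
    (ψ : IrrCharacter H) :
    classInner (tildeFun p Φ) (ψ : H → ℂ) =
      ∑ ξ : IrrCharacter H, (m ξ : ℂ) * (tildeInt p ξ ψ : ℂ) := by
  have h1 : tildeFun p Φ = ∑ ξ : IrrCharacter H, (m ξ : ℂ) • tildeFun p (ξ : H → ℂ) := by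
    funext x
    rw [Finset.sum_apply]
    unfold tildeFun
    by_cases hx : p ∣ orderOf x
    · simp only [Pi.smul_apply, if_pos hx, smul_zero, Finset.sum_const_zero]
    · simp only [Pi.smul_apply, if_neg hx]
      rw [hΦ, Finset.sum_apply, Finset.mul_sum]
      apply Finset.sum_congr rfl
      intro ξ _
      simp only [Pi.smul_apply, smul_eq_mul, nsmul_eq_mul]
      ring
  rw [h1, classInner_sum_left]
  apply Finset.sum_congr rfl
  intro ξ _
  rw [classInner_smul_left, tildeInt_spec]

end A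

section B

variable {G : Type u} [Group G] [Fintype G] {M : Ideal AlgInt} {p : ℕ} [hpp : Fact p.Prime]

/-- **Blau's theorem**. -/
theorem blau (hM : IsPModular p M) (H : Subgroup G) [Fintype H]
    {b : Set (IrrCharacter H)} {B : Set (IrrCharacter G)} (hind : IsInducedBlock M H b B)
    (χ : IrrCharacter G) (hχ : χ ∈ B) (h0 : blockHeight p B (χ : G → ℂ) = 0) :
    ∃ ξ ∈ b, blockHeight p b (ξ : H → ℂ) = 0 ∧ ∃ n : ℕ,
      classInner (fun h : H => (χ : G → ℂ) h) (ξ : H → ℂ) = (n : ℂ) ∧ ¬ p ∣ n := by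
  classical
  let _ := fintypeIrr H
  have hprime : M.IsPrime := isPrime_of_isPModular hM
  have hres : IsCharacter H (fun h : H => (χ : G → ℂ) h) :=
    isCharacter_resFun H (IsIrrCharacter.isCharacter χ.2)
  obtain ⟨m, hm, hmi⟩ := IsCharacter.exists_decomp_sum hres
  have hbne : b.Nonempty := by
    obtain ⟨θ₀, hθ₀⟩ := hind.1
    exact ⟨θ₀, by rw [hθ₀]; exact mem_blockOf_self θ₀⟩
  obtain ⟨ψ, hψ, hψmin⟩ := exists_minVal (p := p) hbne
  by_contra hcon
  push Not at hcon
  have crit := (induced_restriction_criterion hM H hind χ hψ).2 hχ h0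
  apply crit
  rw [classInner_tildeFun_char m hm ψ, Finset.sum_div]
  apply memLocalIdeal_finset_sum
  intro ξ _
  have hdiv : (m ξ : ℂ) * (tildeInt p ξ ψ : ℂ) / (ψ : H → ℂ) 1 =
      (m ξ : ℂ) * ((tildeInt p ξ ψ : ℂ) / (charDegree (ψ : H → ℂ) : ℂ)) := by
    rw [irr_apply_one, mul_div_assoc]
  rw [hdiv]
  by_cases hξ : ξ ∈ b
  · by_cases hξ0 : blockHeight p b (ξ : H → ℂ) = 0
    · have hp_dvd : p ∣ m ξ := hcon ξ hξ hξ0 (m ξ) (hmi ξ)
      obtain ⟨k, hk⟩ := hp_dvd
      apply memLocalIdeal_mul_right _ (memLocalRing_tildeInt_div hM ξ ψ)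
      rw [hk]
      push_cast
      exact memLocalIdeal_mul_right (memLocalIdeal_natCast_prime hM) (memLocalRing_natCast k)
    · apply memLocalIdeal_mul_left (memLocalRing_natCast (m ξ))
      rw [memLocalIdeal_intCast_div_natCast_iff hM (irr_charDegree_pos ψ).ne']
      by_contra hnd
      apply hξ0
      rw [blockHeight_eq_zero_iff hξ]
      exact (minimal_iff_not_dvd hM hind.1 hξ hψ).mpr hnd
  · have hz : tildeInt p ξ ψ = 0 := by
      rw [tildeInt_symm]
      exact tildeInt_eq_zero hM hind.1 hψ hξ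
    rw [hz]
    simp only [Int.cast_zero, zero_div, mul_zero]
    exact memLocalIdeal_zero hprime.one_notMem

/-- **Okuyama's criterion**. -/
theorem okuyama (hM : IsPModular p M) (H : Subgroup G) [Fintype H] (χ : IrrCharacter G)
    (hres : IsIrrCharacter H (fun h : H => (χ : G → ℂ) h))
    (hχ0 : blockHeight p (blockOf M (χ : G → ℂ)) (χ : G → ℂ) = 0)
    (hψ0 : blockHeight p (blockOf M (fun h : H => (χ : G → ℂ) h))
      (fun h : H => (χ : G → ℂ) h) = 0)
    (e : Set (IrrCharacter H)) (he : InducedBlockDefined M H e) :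
    IsInducedBlock M H e (blockOf M (χ : G → ℂ)) ↔
      e = blockOf M (fun h : H => (χ : G → ℂ) h) := by
  classical
  have hprime : M.IsPrime := isPrime_of_isPModular hM
  set ζ : IrrCharacter H := ⟨fun h : H => (χ : G → ℂ) h, hres⟩ with hζ
  have hζb : ζ ∈ blockOf M (ζ : H → ℂ) := mem_blockOf_self ζ
  have hbB : IsPBlock M (blockOf M (ζ : H → ℂ)) := ⟨ζ, rfl⟩
  have hspec : ∀ ψ : IrrCharacter H,
      classInner (tildeFun p (fun h : H => (χ : G → ℂ) h)) (ψ : H → ℂ) =
        (tildeInt p ζ ψ : ℂ) := fun ψ => tildeInt_spec (p := p) ζ ψ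
  constructor
  · intro hind
    obtain ⟨ψ, hψ⟩ : ∃ ψ, ψ ∈ e := by
      obtain ⟨θ₀, hθ₀⟩ := hind.1
      exact ⟨θ₀, by rw [hθ₀]; exact mem_blockOf_self θ₀⟩
    have crit := (induced_restriction_criterion hM H hind χ hψ).2 (mem_blockOf_self χ) hχ0
    have hψb : ψ ∈ blockOf M (ζ : H → ℂ) := by
      by_contra hnot
      apply crit
      rw [hspec ψ, tildeInt_eq_zero hM hbB hζb hnot]
      simp only [Int.cast_zero, zero_div]
      exact memLocalIdeal_zero hprime.one_notMem
    exact isPBlock_eq_of_mem hind.1 hbB hψ hψb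
  · intro heq
    obtain ⟨B₀, hind⟩ := he
    rw [heq] at hind
    have hχB₀ : χ ∈ B₀ := by
      by_contra hnot
      have crit := (induced_restriction_criterion hM H hind χ hζb).1 hnot
      rw [hspec ζ, irr_apply_one,
        memLocalIdeal_intCast_div_natCast_iff hM (irr_charDegree_pos ζ).ne'] at crit
      have hmin : (charDegree (ζ : H → ℂ)).factorization p =
          minVal p (blockOf M (ζ : H → ℂ)) := (blockHeight_eq_zero_iff hζb).mp hψ0
      exact (minimal_iff_not_dvd hM hbB hζb hζb).mp hmin crit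
    have hBB : blockOf M (χ : G → ℂ) = B₀ := blockOf_eq_of_mem hind.2.1 hχB₀
    rw [heq, hBB]
    exact hind

end B

end Blau

end Cfsg.Agent.Lib.Helper6
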