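/-
helper6: Fong's theorem on blocks of maximal defect covering an invariant block of a normal subgroup.
-/
import Mathlib
import Cfsg.Agent.Lib.Helper23.Covering2
import Cfsg.Agent.Lib.Helper23.HeightZeroD
import Cfsg.Agent.Lib.Helper23.HeightZeroH
import Cfsg.Agent.Lib.Helper23.BrauerInduced
import Cfsg.Agent.Lib.Helper23.QuotDefectAux
import Cfsg.Agent.Lib.Helper6.ExtFirstMain
import Cfsg.Agent.Lib.Helper6.BlockCoeff
import Cfsg.Agent.Lib.Helper6.Blau

set_option autoImplicit false

namespace Cfsg.Agent.Lib.Helper6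

open Cfsg Cfsg.Agent.CharLib Cfsg.Agent.Lib.Helper24 Cfsg.Agent.Lib.Helper23
open scoped ComplexConjugate

universe u

namespace Fong

section A

variable {G : Type u} [Group G] [Fintype G] (N : Subgroup G) [hN : N.Normal] [Fintype N]
  {M : Ideal AlgInt}

omit [Fintype G] [Fintype N] in
/-- Statement-form invariance of `b` gives `conjUnion N b = b`. -/
theorem conjUnion_eq_of_inv (b : Set (IrrCharacter N))
    (hinv : ∀ g : G, ∀ θ ∈ b, ∀ θ' : IrrCharacter N,
      (∀ n : N, (θ' : N → ℂ) n = (θ : N → ℂ) ⟨g * n * g⁻¹, hN.conj_mem n n.2 g⟩) → θ' ∈ b) :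
    conjUnion N b = b := by
  apply Set.Subset.antisymm
  · rintro ψ ⟨g, θ, hθ, hψ⟩
    apply hinv g θ hθ ψ
    intro n
    rw [hψ]
    rfl
  · exact subset_conjUnion N b

/-- The set of irreducible characters of `G` lying over a member of `b`. -/
def coverSet (b : Set (IrrCharacter N)) : Set (IrrCharacter G) :=
  {χ | ∃ θ ∈ b, classInner (fun n : N => (χ : G → ℂ) n) (θ : N → ℂ) ≠ 0}

/-- The cover set of an invariant block is closed under block linkage. -/
theorem coverSet_closed {p : ℕ} (hM : IsPModular p M) {b : Set (IrrCharacter N)}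
    (hb : IsPBlock M b) (hcu : conjUnion N b = b) {χ χ' : IrrCharacter G}
    (hχ : χ ∈ coverSet N b) (hsame : SameBlock M (χ : G → ℂ) (χ' : G → ℂ)) :
    χ' ∈ coverSet N b := by
  obtain ⟨θ, hθ, hover⟩ := hχ
  obtain ⟨ψ, hψ⟩ := exists_constituent_res N χ'
  have := mem_conjUnion_of_sameBlock N hM hb χ χ' hsame θ hθ hover ψ hψ
  rw [hcu] at this
  exact ⟨ψ, this, hψ⟩

/-- Every constituent of the restriction of a member of the cover set lies in `b`. -/
theorem mem_of_coverSet {p : ℕ} (hM : IsPModular p M) {b : Set (IrrCharacter N)}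
    (hb : IsPBlock M b) (hcu : conjUnion N b = b) {χ : IrrCharacter G}
    (hχ : χ ∈ coverSet N b) (ψ : IrrCharacter N)
    (hψ : classInner (fun n : N => (χ : G → ℂ) n) (ψ : N → ℂ) ≠ 0) : ψ ∈ b := by
  have hp : M.IsPrime := isPrime_of_isPModular hM
  obtain ⟨θ, hθ, hover⟩ := hχ
  have := mem_conjUnion_of_sameBlock N hM hb χ χ (sameBlock_refl _) θ hθ hover ψ hψ
  rw [hcu] at this
  exact this

/-- For an invariant block `b`, the extension by zero of its idempotent is the idempotent of the
cover set. -/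
theorem extN_blockCoeff_eq {p : ℕ} (hM : IsPModular p M) {b : Set (IrrCharacter N)}
    (hb : IsPBlock M b) (hcu : conjUnion N b = b) :
    extN N (blockCoeff b) = blockCoeff (coverSet N b) := by
  classical
  have hcls : IsClassFunction G (extN N (blockCoeff b)) := by
    have := extN_conjUnion_isClassFunction N b
    rwa [hcu] at this
  apply eq_of_omegaFun_eq hcls (blockCoeff_isClassFunction _)
  intro χ
  rw [omegaFun_blockCoeff]
  obtain ⟨ψ, hψ⟩ := exists_constituent_res N χ
  have h1 := omegaFun_extN_conjUnion N b χ ψ hψ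
  simp only [hcu] at h1
  rw [h1]
  by_cases hχ : χ ∈ coverSet N b
  · rw [if_pos hχ, if_pos (mem_of_coverSet N hM hb hcu hχ ψ hψ)]
  · rw [if_neg hχ, if_neg]
    intro hψb
    exact hχ ⟨ψ, hψb, hψ⟩

end A

section B

variable {G : Type u} [Group G] [Fintype G] (N : Subgroup G) [hN : N.Normal] [Fintype N]
  {M : Ideal AlgInt} {p : ℕ} [hpp : Fact p.Prime]

omit hpp in
open Classical in
/-- Dimension identity: `|N| ∑_{χ over b} χ(1)² = |G| ∑_{θ ∈ b} θ(1)²`. -/
theorem card_mul_sum_coverSet [Fintype (IrrCharacter G)] [Fintype (IrrCharacter N)]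
    (hM : IsPModular p M) {b : Set (IrrCharacter N)}
    (hb : IsPBlock M b) (hcu : conjUnion N b = b) :
    Nat.card N * ∑ χ : IrrCharacter G,
        (if χ ∈ coverSet N b then charDegree (χ : G → ℂ) ^ 2 else 0) =
      Nat.card G * ∑ θ : IrrCharacter N, (if θ ∈ b then charDegree (θ : N → ℂ) ^ 2 else 0) := by
  have h1 := congrFun (extN_blockCoeff_eq N hM hb hcu) 1
  have h2 : extN N (blockCoeff b) (1 : G) = blockCoeff b 1 := extN_apply_mem N (blockCoeff b) 1
  rw [h2, blockCoeff_eq_sum, blockCoeff_eq_sum] at h1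
  have hG0 : (Nat.card G : ℂ) ≠ 0 := Nat.cast_ne_zero.mpr Nat.card_pos.ne'
  have hN0 : (Nat.card N : ℂ) ≠ 0 := Nat.cast_ne_zero.mpr Nat.card_pos.ne'
  have e1 : ∑ θ : IrrCharacter N,
      (if θ ∈ b then (θ : N → ℂ) 1 * conj ((θ : N → ℂ) 1) else 0) =
      ((∑ θ : IrrCharacter N, (if θ ∈ b then charDegree (θ : N → ℂ) ^ 2 else 0) : ℕ) : ℂ) := by
    push_cast
    apply Finset.sum_congr rfl
    intro θ _
    split_ifs
    · rw [irr_apply_one, Complex.conj_natCast]; ring
    · rfl
  have e2 : ∑ χ : IrrCharacter G,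
      (if χ ∈ coverSet N b then (χ : G → ℂ) 1 * conj ((χ : G → ℂ) 1) else 0) =
      ((∑ χ : IrrCharacter G,
        (if χ ∈ coverSet N b then charDegree (χ : G → ℂ) ^ 2 else 0) : ℕ) : ℂ) := by
    push_cast
    apply Finset.sum_congr rfl
    intro χ _
    split_ifs
    · rw [irr_apply_one, Complex.conj_natCast]; ring
    · rfl
  rw [e1, e2] at h1
  have h3 : ((Nat.card N * ∑ χ : IrrCharacter G,
        (if χ ∈ coverSet N b then charDegree (χ : G → ℂ) ^ 2 else 0) : ℕ) : ℂ) =
      ((Nat.card G * ∑ θ : IrrCharacter N,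
        (if θ ∈ b then charDegree (θ : N → ℂ) ^ 2 else 0) : ℕ) : ℂ) := by
    rw [Nat.cast_mul, Nat.cast_mul]
    field_simp at h1
    linear_combination -h1
  exact_mod_cast h3

open Classical in
/-- If every block meeting the cover set has least degree valuation at least `k`, then
`p ^ (a_G + k)` divides the dimension of the cover set. -/
theorem pow_dvd_sum_coverSet [Fintype (IrrCharacter G)] (hM : IsPModular p M)
    {b : Set (IrrCharacter N)} (hb : IsPBlock M b) (hcu : conjUnion N b = b) (k : ℕ)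
    (hk : ∀ χ' ∈ coverSet N b, k ≤ minVal p (blockOf M (χ' : G → ℂ))) :
    p ^ ((Nat.card G).factorization p + k) ∣ ∑ χ : IrrCharacter G,
      (if χ ∈ coverSet N b then charDegree (χ : G → ℂ) ^ 2 else 0) := by
  have hprime : M.IsPrime := isPrime_of_isPModular hM
  set T : Finset (IrrCharacter G) := Finset.univ.filter (fun χ => χ ∈ coverSet N b) with hT
  set blk : IrrCharacter G → Set (IrrCharacter G) := fun β => blockOf M (β : G → ℂ) with hblk
  have h1 : ∑ χ : IrrCharacter G,
      (if χ ∈ coverSet N b then charDegree (χ : G → ℂ) ^ 2 else 0) =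
      ∑ β ∈ T, charDegree (β : G → ℂ) ^ 2 := by
    rw [hT, Finset.sum_filter]
  have h2 : ∑ β ∈ T, charDegree (β : G → ℂ) ^ 2 =
      ∑ c ∈ T.image blk, ∑ β ∈ T with blk β = c, charDegree (β : G → ℂ) ^ 2 :=
    (Finset.sum_fiberwise_of_maps_to (fun β hβ => Finset.mem_image_of_mem blk hβ) _).symm
  rw [h1, h2]
  apply Finset.dvd_sum
  intro c hc
  obtain ⟨β₀, hβ₀T, rfl⟩ := Finset.mem_image.mp hc
  have hβ₀S : β₀ ∈ coverSet N b := (Finset.mem_filter.mp hβ₀T).2
  have h3 : ∑ β ∈ T with blk β = blk β₀, charDegree (β : G → ℂ) ^ 2 =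
      ∑ β : IrrCharacter G,
        (if β ∈ blockOf M (β₀ : G → ℂ) then charDegree (β : G → ℂ) ^ 2 else 0) := by
    rw [Finset.sum_filter, hT, Finset.sum_filter]
    apply Finset.sum_congr rfl
    intro β _
    by_cases hβ : β ∈ blockOf M (β₀ : G → ℂ)
    · have hβS : β ∈ coverSet N b := coverSet_closed N hM hb hcu hβ₀S hβ
      have hbb : blk β = blk β₀ := blockOf_eq_of_mem ⟨β₀, rfl⟩ hβ
      rw [if_pos hβS, if_pos hbb, if_pos hβ]
    · by_cases hβS : β ∈ coverSet N b
      · rw [if_pos hβS, if_neg hβ, if_neg]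
        intro hbb
        apply hβ
        have : β ∈ blk β := mem_blockOf_self β
        rw [hbb] at this
        exact this
      · rw [if_neg hβS, if_neg hβ]
  rw [h3]
  have h4 := factorization_sum_degree_sq (p := p) hM (B := blockOf M (β₀ : G → ℂ)) ⟨β₀, rfl⟩
  have h5 : p ^ ((Nat.card G).factorization p + minVal p (blockOf M (β₀ : G → ℂ))) ∣
      ∑ β : IrrCharacter G,
        (if β ∈ blockOf M (β₀ : G → ℂ) then charDegree (β : G → ℂ) ^ 2 else 0) := by
    rw [← h4]
    exact Nat.ordProj_dvd _ p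
  exact dvd_trans (pow_dvd_pow p (Nat.add_le_add_left (hk β₀ hβ₀S) _)) h5

/-- **Lower bound**: a block of maximal defect covering the invariant block `b` has defect at least
`d(b) + ν_p |G : N|`. -/
theorem defect_lower_bound (hM : IsPModular p M) {b : Set (IrrCharacter N)}
    (hb : IsPBlock M b) (hcu : conjUnion N b = b) (B : Set (IrrCharacter G)) (hB : IsPBlock M B)
    (hmax : ∀ χ' ∈ coverSet N b, blockDefect p (blockOf M (χ' : G → ℂ)) ≤ blockDefect p B) :
    blockDefect p b + N.index.factorization p ≤ blockDefect p B := by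
  classical
  let _ := fintypeIrr G
  let _ := fintypeIrr N
  have hprime : M.IsPrime := isPrime_of_isPModular hM
  have hp : p.Prime := hpp.out
  set aG := (Nat.card G).factorization p with haG
  set aN := (Nat.card N).factorization p with haN
  have hidx : aG = aN + N.index.factorization p := by
    rw [haG, haN, ← N.card_mul_index,
      Nat.factorization_mul Nat.card_pos.ne' (Subgroup.index_ne_zero_of_finite)]
    rfl
  have hbne : b.Nonempty := by
    obtain ⟨θ₀, rfl⟩ := hb
    exact ⟨θ₀, mem_blockOf_self θ₀⟩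
  have hBne : B.Nonempty := by
    obtain ⟨χ₀, rfl⟩ := hB
    exact ⟨χ₀, mem_blockOf_self χ₀⟩
  have hmb : minVal p b ≤ aN := minVal_le_factorization_card hbne
  have hmB : minVal p B ≤ aG := minVal_le_factorization_card hBne
  have hdB : blockDefect p B = aG - minVal p B := rfl
  have hdb : blockDefect p b = aN - minVal p b := rfl
  set k := minVal p B with hk
  have hkS : ∀ χ' ∈ coverSet N b, k ≤ minVal p (blockOf M (χ' : G → ℂ)) := by
    intro χ' hχ'
    have h1 := hmax χ' hχ'
    have h2 : blockDefect p (blockOf M (χ' : G → ℂ)) =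
        aG - minVal p (blockOf M (χ' : G → ℂ)) := rfl
    have h3 : minVal p (blockOf M (χ' : G → ℂ)) ≤ aG :=
      minVal_le_factorization_card ⟨χ', mem_blockOf_self χ'⟩
    omega
  have hdvd := pow_dvd_sum_coverSet N hM hb hcu k hkS
  have hdim := card_mul_sum_coverSet N hM hb hcu
  have hfb := factorization_sum_degree_sq (p := p) hM hb
  set Sb := ∑ θ : IrrCharacter N, (if θ ∈ b then charDegree (θ : N → ℂ) ^ 2 else 0) with hSb
  have hSb0 : Sb ≠ 0 := by
    obtain ⟨θ₀, hθ₀⟩ := hbne
    have h1 : (if θ₀ ∈ b then charDegree (θ₀ : N → ℂ) ^ 2 else 0) ≤ Sb :=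
      Finset.single_le_sum (f := fun θ : IrrCharacter N =>
        (if θ ∈ b then charDegree (θ : N → ℂ) ^ 2 else 0)) (fun _ _ => Nat.zero_le _)
        (Finset.mem_univ θ₀)
    rw [if_pos hθ₀] at h1
    have h2 : 0 < charDegree (θ₀ : N → ℂ) ^ 2 := pow_pos (irr_charDegree_pos θ₀) 2
    omega
  have h4 : p ^ (aN + (aG + k)) ∣ Nat.card G * Sb := by
    rw [← hdim, pow_add]
    exact Nat.mul_dvd_mul (Nat.ordProj_dvd _ p) hdvd
  have h5 := (hp.pow_dvd_iff_le_factorization (Nat.mul_ne_zero Nat.card_pos.ne' hSb0)).mp h4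
  rw [Nat.factorization_mul Nat.card_pos.ne' hSb0] at h5
  simp only [Finsupp.coe_add, Pi.add_apply] at h5
  rw [hfb] at h5
  omega

/-- **Upper bound step**: for a block `B` inside the cover set of the invariant block `b`, with
defect group `P`, the subgroup `P ∩ N` is `N`-conjugate into any defect group of `b`. -/
theorem exists_conj_le_defectGroup (hM : IsPModular p M) {b : Set (IrrCharacter N)}
    (hb : IsPBlock M b) (hcu : conjUnion N b = b) (B : Set (IrrCharacter G)) (hB : IsPBlock M B)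
    (hBS : ∀ χ ∈ B, χ ∈ coverSet N b) (P : Subgroup G) (hP : IsDefectGroup p M B P)
    (D : Subgroup N) (hD : IsDefectGroup p M b D) :
    ∃ x : N, ((P ⊓ N).subgroupOf N).map (MulAut.conj x).toMonoidHom ≤ D := by
  classical
  have hprime : M.IsPrime := isPrime_of_isPModular hM
  have hPp : IsPGroup p P := ExtFirstMain.isPGroup_of_isDefectGroup hP
  set E : G → ℂ := extN N (blockCoeff b) with hEdef
  have hE : E = blockCoeff (coverSet N b) := extN_blockCoeff_eq N hM hb hcu
  have hEcls : IsClassFunction G E := by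
    rw [hE]; exact blockCoeff_isClassFunction _
  have hER : ∀ g, MemLocalRing M (E g) := by
    intro g
    have := extN_conjUnion_memLocalRing N hb g
    rwa [hcu] at this
  have hecls : IsClassFunction G (blockCoeff B) := blockCoeff_isClassFunction B
  have heR : ∀ g, MemLocalRing M (blockCoeff B g) := by
    obtain ⟨χ₀, rfl⟩ := hB
    exact memLocalRing_blockCoeff_blockOf χ₀
  have hconv : conv (blockCoeff B) E = blockCoeff B := by
    apply eq_of_omegaFun_eq (conv_isClassFunction hecls hEcls) hecls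
    intro χ
    rw [omegaFun_conv χ hecls hEcls, hE, omegaFun_blockCoeff, omegaFun_blockCoeff]
    by_cases hχ : χ ∈ B
    · rw [if_pos hχ, if_pos (hBS χ hχ), mul_one]
    · rw [if_neg hχ, zero_mul]
  obtain ⟨g, hgR, hgI, c, hgc, hcP⟩ := (brauer_unit_coeff_iff p hM B hB P hP P hPp).mpr
    ⟨1, by
      intro w hw
      obtain ⟨q, hq, rfl⟩ := hw
      simpa using hq⟩
  have hcg : blockCoeff B c = blockCoeff B g := by
    obtain ⟨k, hk⟩ := isConj_iff.mp hgc
    rw [← hk]
    exact hecls g k
  set Q : Subgroup G := P ⊓ N with hQ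
  have hQp : IsPGroup p Q := hPp.to_le inf_le_left
  have hcQ : c ∈ Subgroup.centralizer (Q : Set G) :=
    Subgroup.centralizer_le (show (Q : Set G) ⊆ (P : Set G) from fun _ hx => hx.1) hcP
  have hCH : Subgroup.centralizer (Q : Set G) ≤ Subgroup.normalizer (Q : Set G) :=
    Subgroup.centralizer_le_normalizer _
  by_contra hno
  push Not at hno
  -- all values of `E` on `C_G(Q)` lie in the local ideal
  have hEI : ∀ n : G, n ∈ Subgroup.centralizer (Q : Set G) → MemLocalIdeal M (E n) := by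
    intro n hn
    by_cases hnN : n ∈ N
    · have h1 : E n = blockCoeff b ⟨n, hnN⟩ := extN_apply_mem N (blockCoeff b) ⟨n, hnN⟩
      rw [h1]
      by_contra hnI
      have hnR : MemLocalRing M (blockCoeff b ⟨n, hnN⟩) := by
        obtain ⟨θ₀, rfl⟩ := hb
        exact memLocalRing_blockCoeff_blockOf θ₀ _
      obtain ⟨x, hx⟩ := (brauer_unit_coeff_iff p hM b hb D hD (Q.subgroupOf N)
        hQp.comap_subtype).mp ⟨⟨n, hnN⟩, hnR, hnI, ⟨n, hnN⟩, IsConj.refl _, by
          rw [Subgroup.mem_centralizer_iff]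
          intro q hq
          apply Subtype.ext
          exact (Subgroup.mem_centralizer_iff.mp hn) q (Subgroup.mem_subgroupOf.mp hq)⟩
      exact hno x hx
    · rw [hEdef, extN_apply_not_mem N _ hnN]
      exact memLocalIdeal_zero hprime.one_notMem
  have key := brFun_conv_sub Q (Subgroup.normalizer (Q : Set G)) hM hQp hCH hecls heR hEcls hER
    ⟨c, hCH hcQ⟩
  rw [hconv, brFun_of_mem Q _ _ (h := ⟨c, hCH hcQ⟩) hcQ] at key
  have hsum : MemLocalIdeal M (conv (brFun Q (Subgroup.normalizer (Q : Set G)) (blockCoeff B))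
      (brFun Q (Subgroup.normalizer (Q : Set G)) E) ⟨c, hCH hcQ⟩) := by
    unfold conv
    apply Blau.memLocalIdeal_finset_sum
    intro k _
    apply memLocalIdeal_mul_left (brFun_memLocalRing Q _ heR k)
    by_cases hy : ((k⁻¹ * ⟨c, hCH hcQ⟩ : Subgroup.normalizer (Q : Set G)) : G) ∈
        Subgroup.centralizer (Q : Set G)
    · rw [brFun_of_mem Q _ _ hy]
      exact hEI _ hy
    · rw [brFun_of_not_mem Q _ _ hy]
      exact memLocalIdeal_zero hprime.one_notMem
  have := memLocalIdeal_add key hsum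
  rw [sub_add_cancel] at this
  apply hgI
  rw [← hcg]
  exact this

/-- **Fong's theorem**. -/
theorem fong (hM : IsPModular p M) (b : Set (IrrCharacter N)) (hb : IsPBlock M b)
    (hinv : ∀ g : G, ∀ θ ∈ b, ∀ θ' : IrrCharacter N,
      (∀ n : N, (θ' : N → ℂ) n = (θ : N → ℂ) ⟨g * n * g⁻¹, hN.conj_mem n n.2 g⟩) → θ' ∈ b)
    (B : Set (IrrCharacter G)) (hB : IsPBlock M B)
    (hcov : ∃ χ ∈ B, ∃ θ ∈ b, classInner (fun n : N => (χ : G → ℂ) n) (θ : N → ℂ) ≠ 0)
    (hmax : ∀ B' : Set (IrrCharacter G), IsPBlock M B' →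
      (∃ χ ∈ B', ∃ θ ∈ b, classInner (fun n : N => (χ : G → ℂ) n) (θ : N → ℂ) ≠ 0) →
      blockDefect p B' ≤ blockDefect p B)
    (P : Subgroup G) (hP : IsDefectGroup p M B P) :
    ¬ p ∣ (P ⊔ N).index ∧ IsDefectGroup p M b ((P ⊓ N).subgroupOf N) ∧
      blockDefect p B = blockDefect p b + N.index.factorization p := by
  classical
  have hprime : M.IsPrime := isPrime_of_isPModular hM
  have hp : p.Prime := hpp.out
  have hcu := conjUnion_eq_of_inv N b hinv
  have hBS : ∀ χ ∈ B, χ ∈ coverSet N b := by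
    obtain ⟨χ₀, hχ₀, θ, hθ, h⟩ := hcov
    intro χ hχ
    exact coverSet_closed N hM hb hcu ⟨θ, hθ, h⟩ (sameBlock_of_mem hM hB hχ₀ hχ)
  have hmax' : ∀ χ' ∈ coverSet N b,
      blockDefect p (blockOf M (χ' : G → ℂ)) ≤ blockDefect p B := by
    rintro χ' ⟨θ, hθ, h⟩
    exact hmax _ ⟨χ', rfl⟩ ⟨χ', mem_blockOf_self χ', θ, hθ, h⟩
  have hlow := defect_lower_bound N hM hb hcu B hB hmax'
  obtain ⟨D, hD⟩ := exists_isDefectGroup (p := p) hM b hb
  obtain ⟨x, hx⟩ := exists_conj_le_defectGroup N hM hb hcu B hB hBS P hP D hD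
  have hcP : Nat.card P = p ^ blockDefect p B := card_defectGroup_eq hM B hB P hP
  have hcD : Nat.card D = p ^ blockDefect p b := card_defectGroup_eq hM b hb D hD
  set QN : Subgroup N := (P ⊓ N).subgroupOf N with hQN
  have hcQN : Nat.card QN = Nat.card (P ⊓ N : Subgroup G) :=
    Nat.card_congr (Subgroup.subgroupOfEquivOfLe inf_le_right).toEquiv
  have hcQle : Nat.card QN ≤ Nat.card D := by
    rw [← Subgroup.card_map_of_injective (f := (MulAut.conj x).toMonoidHom)
      (MulAut.conj x).injective (K := QN)]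
    exact Subgroup.card_le_of_le hx
  -- |P| = |P ∩ N| * |P : P ∩ N|
  have hmul : Nat.card (P ⊓ N : Subgroup G) * N.relIndex P = Nat.card P := by
    have h1 := ((P ⊓ N).subgroupOf P).card_mul_index
    have h2 : Nat.card ((P ⊓ N).subgroupOf P) = Nat.card (P ⊓ N : Subgroup G) :=
      Nat.card_congr (Subgroup.subgroupOfEquivOfLe inf_le_left).toEquiv
    have h3 : ((P ⊓ N).subgroupOf P).index = N.relIndex P := Subgroup.inf_relIndex_left P N
    rw [h2, h3] at h1
    exact h1
  -- the relative index is a power of `p` dividing `|G : N|`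
  obtain ⟨j, hjle, hj⟩ : ∃ j ≤ blockDefect p B, N.relIndex P = p ^ j := by
    apply (Nat.dvd_prime_pow hp).mp
    rw [← hcP, ← hmul]
    exact Dvd.intro_left _ rfl
  obtain ⟨i, hile, hi⟩ : ∃ i ≤ blockDefect p B, Nat.card (P ⊓ N : Subgroup G) = p ^ i := by
    apply (Nat.dvd_prime_pow hp).mp
    rw [← hcP, ← hmul]
    exact Dvd.intro _ rfl
  have hjν : j ≤ N.index.factorization p := by
    apply (hp.pow_dvd_iff_le_factorization Subgroup.index_ne_zero_of_finite).mp
    rw [← hj]
    exact Subgroup.relIndex_dvd_index_of_normal N P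
  have hib : i ≤ blockDefect p b := by
    apply (Nat.pow_le_pow_iff_right hp.one_lt).mp
    rw [← hi, ← hcQN, ← hcD]
    exact hcQle
  have hsum : blockDefect p B = i + j := by
    apply Nat.pow_right_injective hp.two_le
    show p ^ blockDefect p B = p ^ (i + j)
    rw [pow_add, ← hi, ← hj, hmul, hcP]
  have hi' : i = blockDefect p b := by omega
  have hj' : j = N.index.factorization p := by omega
  refine ⟨?_, ?_, by omega⟩
  · -- index of `P ⊔ N`
    have h1 := Subgroup.relIndex_mul_index (show N ≤ P ⊔ N from le_sup_right)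
    rw [Subgroup.relIndex_sup_right, hj, hj'] at h1
    intro hdiv
    have h2 : (P ⊔ N).index = N.index / p ^ N.index.factorization p :=
      (Nat.div_eq_of_eq_mul_right (pow_pos hp.pos _) h1.symm).symm
    rw [h2] at hdiv
    exact Nat.not_dvd_ordCompl hp Subgroup.index_ne_zero_of_finite hdiv
  · -- `P ∩ N` is a defect group of `b`
    have hD' := isDefectGroup_conj hM hb hD x⁻¹
    have hle : QN ≤ D.map (MulAut.conj x⁻¹).toMonoidHom := by
      intro y hy
      have h1 : x * y * x⁻¹ ∈ D := hx ⟨y, hy, by simp⟩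
      refine ⟨x * y * x⁻¹, h1, ?_⟩
      simp only [MulEquiv.coe_toMonoidHom, MulAut.conj_apply, inv_inv]
      group
    have heq : QN = D.map (MulAut.conj x⁻¹).toMonoidHom := by
      apply Subgroup.eq_of_le_of_card_ge hle
      rw [Subgroup.card_map_of_injective (f := (MulAut.conj x⁻¹).toMonoidHom)
        (MulAut.conj x⁻¹).injective, hcD, hcQN, hi, hi']
    rw [heq]
    exact hD'

end B

end Fong

end Cfsg.Agent.Lib.Helper6
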