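/-
helper6: defect groups of covering blocks: if `B` covers the block `b` of the normal subgroup `N`
and `P` is a defect group of `B`, then `|P ∩ N| ≤ p^{d(b)}`; consequences via Fong–Reynolds.
-/
import Mathlib
import Cfsg.Agent.Lib.Helper6.Fong
import Cfsg.Agent.Lib.Helper6.FongReynolds

set_option autoImplicit false

namespace Cfsg.Agent.Lib.Helper6

open Cfsg Cfsg.Agent.CharLib Cfsg.Agent.Lib.Helper24 Cfsg.Agent.Lib.Helper23
open scoped ComplexConjugate

universe u

namespace CoverDefect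

open Fong

section A

variable {G : Type u} [Group G] [Fintype G] (N : Subgroup G) [hN : N.Normal] [Fintype N]
  {M : Ideal AlgInt}

/-- A character with a constituent in the orbit of `b` lies over `b`. -/
theorem mem_coverSet_of_constituent {b : Set (IrrCharacter N)} {χ : IrrCharacter G}
    {ψ : IrrCharacter N} (hψU : ψ ∈ conjUnion N b)
    (hψ : classInner (fun n : N => (χ : G → ℂ) n) (ψ : N → ℂ) ≠ 0) : χ ∈ coverSet N b := by
  obtain ⟨g, θ, hθ, hg⟩ := hψU
  refine ⟨θ, hθ, ?_⟩
  have hcls : IsClassFunction G (χ : G → ℂ) :=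
    IsCharacter.isClassFunction (IsIrrCharacter.isCharacter χ.2)
  have h1 : classInner (resFun N (χ : G → ℂ)) (ψ : N → ℂ) =
      classInner (resFun N (χ : G → ℂ)) (θ : N → ℂ) := by
    rw [hg]
    exact classInner_resFun_conjFun N hcls g (θ : N → ℂ)
  have h2 : classInner (fun n : N => (χ : G → ℂ) n) (θ : N → ℂ) =
      classInner (resFun N (χ : G → ℂ)) (θ : N → ℂ) := rfl
  rw [h2, ← h1]
  exact hψ

/-- Constituents of members of the cover set lie in the orbit of `b`. -/
theorem mem_conjUnion_of_coverSet {p : ℕ} (hM : IsPModular p M) {b : Set (IrrCharacter N)}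
    (hb : IsPBlock M b) {χ : IrrCharacter G} (hχ : χ ∈ coverSet N b) (ψ : IrrCharacter N)
    (hψ : classInner (fun n : N => (χ : G → ℂ) n) (ψ : N → ℂ) ≠ 0) : ψ ∈ conjUnion N b := by
  have hp : M.IsPrime := isPrime_of_isPModular hM
  obtain ⟨θ, hθ, hover⟩ := hχ
  exact mem_conjUnion_of_sameBlock N hM hb χ χ (sameBlock_refl _) θ hθ hover ψ hψ

/-- The cover set of a block is closed under block linkage. -/
theorem coverSet_closed' {p : ℕ} (hM : IsPModular p M) {b : Set (IrrCharacter N)}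
    (hb : IsPBlock M b) {χ χ' : IrrCharacter G}
    (hχ : χ ∈ coverSet N b) (hsame : SameBlock M (χ : G → ℂ) (χ' : G → ℂ)) :
    χ' ∈ coverSet N b := by
  obtain ⟨θ, hθ, hover⟩ := hχ
  obtain ⟨ψ, hψ⟩ := exists_constituent_res N χ'
  have := mem_conjUnion_of_sameBlock N hM hb χ χ' hsame θ hθ hover ψ hψ
  exact mem_coverSet_of_constituent N this hψ

/-- The extension by zero of the orbit idempotent of `b` is the idempotent of the cover set. -/
theorem extN_blockCoeff_conjUnion_eq {p : ℕ} (hM : IsPModular p M) {b : Set (IrrCharacter N)}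
    (hb : IsPBlock M b) :
    extN N (blockCoeff (conjUnion N b)) = blockCoeff (coverSet N b) := by
  classical
  apply eq_of_omegaFun_eq (extN_conjUnion_isClassFunction N b) (blockCoeff_isClassFunction _)
  intro χ
  rw [omegaFun_blockCoeff]
  obtain ⟨ψ, hψ⟩ := exists_constituent_res N χ
  rw [omegaFun_extN_conjUnion N b χ ψ hψ]
  by_cases hχ : χ ∈ coverSet N b
  · rw [if_pos hχ, if_pos (mem_conjUnion_of_coverSet N hM hb hχ ψ hψ)]
  · rw [if_neg hχ, if_neg]
    intro hψU
    exact hχ (mem_coverSet_of_constituent N hψU hψ)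

omit [Fintype G] [Fintype N] in
theorem charDegree_conjFun (g : G) (ψ : N → ℂ) : charDegree (conjFun N g ψ) = charDegree ψ := by
  unfold charDegree
  rw [conjFun_apply_one]

omit [Fintype G] [Fintype N] in
/-- Conjugate blocks have the same defect. -/
theorem blockDefect_blockOf_conj {p : ℕ} (g : G) (θ β₀ : IrrCharacter N)
    (h : (β₀ : N → ℂ) = conjFun N g (θ : N → ℂ)) :
    blockDefect p (blockOf M (β₀ : N → ℂ)) = blockDefect p (blockOf M (θ : N → ℂ)) := by
  unfold blockDefect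
  congr 2
  ext v
  constructor
  · rintro ⟨ψ, hψ, rfl⟩
    have h1 : SameBlock M (β₀ : N → ℂ) (ψ : N → ℂ) := hψ
    have h2 := sameBlock_conjFun N h1 g⁻¹
    rw [h, conjFun_inv_conjFun] at h2
    refine ⟨FongReynolds.conjIrr g⁻¹ ψ, h2, ?_⟩
    show (charDegree (conjFun N g⁻¹ (ψ : N → ℂ))).factorization p = _
    rw [charDegree_conjFun]
  · rintro ⟨ψ, hψ, rfl⟩
    have h1 : SameBlock M (θ : N → ℂ) (ψ : N → ℂ) := hψ
    have h2 := sameBlock_conjFun N h1 g
    rw [← h] at h2
    refine ⟨FongReynolds.conjIrr g ψ, h2, ?_⟩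
    show (charDegree (conjFun N g (ψ : N → ℂ))).factorization p = _
    rw [charDegree_conjFun]

/-- If the idempotent of a set closed under linkage has a unit coefficient at `n`, so does the
idempotent of one of its blocks. -/
theorem exists_block_coeff_of_closed [hp : M.IsPrime] (S : Set (IrrCharacter N))
    (hS : ∀ β ∈ S, ∀ β' : IrrCharacter N, SameBlock M (β : N → ℂ) (β' : N → ℂ) → β' ∈ S) (n : N)
    (hn : ¬ MemLocalIdeal M (blockCoeff S n)) :
    ∃ β₀ ∈ S, ¬ MemLocalIdeal M (blockCoeff (blockOf M (β₀ : N → ℂ)) n) := by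
  classical
  let _ := fintypeIrr N
  by_contra hcon
  push Not at hcon
  apply hn
  set f : IrrCharacter N → ℂ := fun β => (β : N → ℂ) 1 * conj ((β : N → ℂ) n) with hf
  set T : Finset (IrrCharacter N) := Finset.univ.filter (fun β => β ∈ S) with hT
  set blk : IrrCharacter N → Set (IrrCharacter N) := fun β => blockOf M (β : N → ℂ) with hblk
  have h1 : blockCoeff S n = (Nat.card N : ℂ)⁻¹ * ∑ β ∈ T, f β := by
    rw [blockCoeff_eq_sum, hT, Finset.sum_filter]
  have h2 : ∑ β ∈ T, f β = ∑ c ∈ T.image blk, ∑ β ∈ T with blk β = c, f β :=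
    (Finset.sum_fiberwise_of_maps_to (fun β hβ => Finset.mem_image_of_mem blk hβ) f).symm
  rw [h1, h2, Finset.mul_sum]
  apply Blau.memLocalIdeal_finset_sum
  intro c hc
  obtain ⟨β₀, hβ₀T, rfl⟩ := Finset.mem_image.mp hc
  have hβ₀S : β₀ ∈ S := (Finset.mem_filter.mp hβ₀T).2
  have h3 : (Nat.card N : ℂ)⁻¹ * ∑ β ∈ T with blk β = blk β₀, f β =
      blockCoeff (blockOf M (β₀ : N → ℂ)) n := by
    rw [blockCoeff_eq_sum, Finset.sum_filter, hT, Finset.sum_filter]
    congr 1
    apply Finset.sum_congr rfl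
    intro β _
    by_cases hβ : β ∈ blockOf M (β₀ : N → ℂ)
    · have hβS : β ∈ S := hS β₀ hβ₀S β hβ
      have hbb : blk β = blk β₀ := blockOf_eq_of_mem ⟨β₀, rfl⟩ hβ
      rw [if_pos hβS, if_pos hbb, if_pos hβ]
    · by_cases hβS : β ∈ S
      · rw [if_pos hβS, if_neg hβ, if_neg]
        intro hbb
        apply hβ
        have : β ∈ blk β := mem_blockOf_self β
        rw [hbb] at this
        exact this
      · rw [if_neg hβS, if_neg hβ]
  rw [h3]
  exact hcon β₀ hβ₀S

end A

section B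

variable {G : Type u} [Group G] [Fintype G] (N : Subgroup G) [hN : N.Normal] [Fintype N]
  {M : Ideal AlgInt} {p : ℕ} [hpp : Fact p.Prime]

/-- **Covering blocks**: if `B` covers the block `b` of the normal subgroup `N` and `P` is a defect
group of `B`, then `|P ∩ N| ≤ p^{d(b)}`. -/
theorem card_inf_le (hM : IsPModular p M) {b : Set (IrrCharacter N)} (hb : IsPBlock M b)
    (B : Set (IrrCharacter G)) (hB : IsPBlock M B) (hcov : ∃ χ ∈ B, χ ∈ coverSet N b)
    (P : Subgroup G) (hP : IsDefectGroup p M B P) :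
    Nat.card (P ⊓ N : Subgroup G) ≤ p ^ blockDefect p b := by
  classical
  have hprime : M.IsPrime := isPrime_of_isPModular hM
  have hPp : IsPGroup p P := ExtFirstMain.isPGroup_of_isDefectGroup hP
  have hBS : ∀ χ ∈ B, χ ∈ coverSet N b := by
    obtain ⟨χ₀, hχ₀, hχ₀S⟩ := hcov
    intro χ hχ
    exact coverSet_closed' N hM hb hχ₀S (sameBlock_of_mem hM hB hχ₀ hχ)
  set E : G → ℂ := extN N (blockCoeff (conjUnion N b)) with hEdef
  have hE : E = blockCoeff (coverSet N b) := extN_blockCoeff_conjUnion_eq N hM hb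
  have hEcls : IsClassFunction G E := by
    rw [hE]; exact blockCoeff_isClassFunction _
  have hER : ∀ g, MemLocalRing M (E g) := extN_conjUnion_memLocalRing N hb
  have hecls : IsClassFunction G (blockCoeff B) := blockCoeff_isClassFunction B
  have heR : ∀ g, MemLocalRing M (blockCoeff B g) := by
    obtain ⟨χ₀, rfl⟩ := hB
    exact memLocalRing_blockCoeff_blockOf χ₀
  have hconv : conv (blockCoeff B) E = blockCoeff B := by
    apply eq_of_omegaFun_eq (conv_isClassFunction hecls hEcls) hecls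
    intro χ
    rw [omegaFun_conv χ hecls hEcls, hE, omegaFun_blockCoeff, omegaFun_blockCoeff]
    by_cases hχ : χ ∈ B
    · rw [if_pos hχ, if_pos (hBS χ hχ), mul_one]
    · rw [if_neg hχ, zero_mul]
  obtain ⟨g, hgR, hgI, c, hgc, hcP⟩ := (brauer_unit_coeff_iff p hM B hB P hP P hPp).mpr
    ⟨1, by
      intro w hw
      obtain ⟨q, hq, rfl⟩ := hw
      simpa using hq⟩
  have hcg : blockCoeff B c = blockCoeff B g := by
    obtain ⟨k, hk⟩ := isConj_iff.mp hgc
    rw [← hk]
    exact hecls g k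
  set Q : Subgroup G := P ⊓ N with hQ
  have hQp : IsPGroup p Q := hPp.to_le inf_le_left
  have hcQ : c ∈ Subgroup.centralizer (Q : Set G) :=
    Subgroup.centralizer_le (show (Q : Set G) ⊆ (P : Set G) from fun _ hx => hx.1) hcP
  have hCH : Subgroup.centralizer (Q : Set G) ≤ Subgroup.normalizer (Q : Set G) :=
    Subgroup.centralizer_le_normalizer _
  -- some value of `E` on `C_G(Q)` is a unit
  obtain ⟨n, hn, hnE⟩ : ∃ n : G, n ∈ Subgroup.centralizer (Q : Set G) ∧
      ¬ MemLocalIdeal M (E n) := by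
    by_contra hall
    push Not at hall
    have key := brFun_conv_sub Q (Subgroup.normalizer (Q : Set G)) hM hQp hCH hecls heR hEcls hER
      ⟨c, hCH hcQ⟩
    rw [hconv, brFun_of_mem Q _ _ (h := ⟨c, hCH hcQ⟩) hcQ] at key
    have hsum : MemLocalIdeal M (conv (brFun Q (Subgroup.normalizer (Q : Set G)) (blockCoeff B))
        (brFun Q (Subgroup.normalizer (Q : Set G)) E) ⟨c, hCH hcQ⟩) := by
      unfold conv
      apply Blau.memLocalIdeal_finset_sum
      intro k _
      apply memLocalIdeal_mul_left (brFun_memLocalRing Q _ heR k)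
      by_cases hy : ((k⁻¹ * ⟨c, hCH hcQ⟩ : Subgroup.normalizer (Q : Set G)) : G) ∈
          Subgroup.centralizer (Q : Set G)
      · rw [brFun_of_mem Q _ _ hy]
        exact hall _ hy
      · rw [brFun_of_not_mem Q _ _ hy]
        exact memLocalIdeal_zero hprime.one_notMem
    have := memLocalIdeal_add key hsum
    rw [sub_add_cancel] at this
    apply hgI
    rw [← hcg]
    exact this
  have hnN : n ∈ N := by
    by_contra hnN
    apply hnE
    rw [hEdef, extN_apply_not_mem N _ hnN]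
    exact memLocalIdeal_zero hprime.one_notMem
  have h1 : E n = blockCoeff (conjUnion N b) ⟨n, hnN⟩ :=
    extN_apply_mem N (blockCoeff (conjUnion N b)) ⟨n, hnN⟩
  rw [h1] at hnE
  obtain ⟨β₀, hβ₀U, hβ₀⟩ := exists_block_coeff_of_closed N (conjUnion N b)
    (conjUnion_closed N hb) ⟨n, hnN⟩ hnE
  obtain ⟨D₀, hD₀⟩ := exists_isDefectGroup (p := p) hM (blockOf M (β₀ : N → ℂ)) ⟨β₀, rfl⟩
  obtain ⟨x, hx⟩ := (brauer_unit_coeff_iff p hM (blockOf M (β₀ : N → ℂ)) ⟨β₀, rfl⟩ D₀ hD₀
    (Q.subgroupOf N) hQp.comap_subtype).mp ⟨⟨n, hnN⟩, memLocalRing_blockCoeff_blockOf β₀ _, hβ₀,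
      ⟨n, hnN⟩, IsConj.refl _, by
        rw [Subgroup.mem_centralizer_iff]
        intro q hq
        apply Subtype.ext
        exact (Subgroup.mem_centralizer_iff.mp hn) q (Subgroup.mem_subgroupOf.mp hq)⟩
  have hcD₀ : Nat.card D₀ = p ^ blockDefect p (blockOf M (β₀ : N → ℂ)) :=
    card_defectGroup_eq hM _ ⟨β₀, rfl⟩ D₀ hD₀
  have hdef : blockDefect p (blockOf M (β₀ : N → ℂ)) = blockDefect p b := by
    obtain ⟨g₀, θ, hθ, hg₀⟩ := hβ₀U
    rw [blockDefect_blockOf_conj N g₀ θ β₀ hg₀, blockOf_eq_of_mem hb hθ]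
  have hcQN : Nat.card (Q.subgroupOf N) = Nat.card Q :=
    Nat.card_congr (Subgroup.subgroupOfEquivOfLe inf_le_right).toEquiv
  rw [← hcQN, ← hdef, ← hcD₀,
    ← Subgroup.card_map_of_injective (f := (MulAut.conj x).toMonoidHom)
      (MulAut.conj x).injective (K := Q.subgroupOf N)]
  exact Subgroup.card_le_of_le hx

/-- If the stabilizer `T` of the block `b` of `N ⊴ G` has `p ∤ |T : N|`, every block of `G` covering
`b` has defect at most `d(b)`. -/
theorem card_defectGroup_le_of_stab (hM : IsPModular p M) {b : Set (IrrCharacter N)}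
    (hb : IsPBlock M b) {T : Subgroup G} [Fintype T] (hNT : N ≤ T)
    (hstab : ∀ t ∈ T, ∀ θ ∈ b, FongReynolds.conjIrr t θ ∈ b)
    (hTb : ∀ g : G, ∀ θ ∈ b, FongReynolds.conjIrr g θ ∈ b → g ∈ T)
    (hidx : ¬ p ∣ N.relIndex T) (B₁ : Set (IrrCharacter G)) (hB₁ : IsPBlock M B₁)
    (hcov : FongReynolds.CoversG b B₁) (D₁ : Subgroup G) (hD₁ : IsDefectGroup p M B₁ D₁) :
    Nat.card D₁ ≤ p ^ blockDefect p b := by
  classical
  have hprime : M.IsPrime := isPrime_of_isPModular hM
  have hp : p.Prime := hpp.out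
  obtain ⟨B', hB', hcovT, hind⟩ := FongReynolds.exists_block_T hM hb hNT hstab hTb hB₁ hcov
  obtain ⟨D', hD'⟩ := exists_isDefectGroup (p := p) hM B' hB'
  have hDm := (FongReynolds.heights_defects hM hb hNT hstab hTb hB' hcovT hind).1 D' hD'
  have hc1 : Nat.card D₁ = Nat.card (D'.map T.subtype) := by
    rw [card_defectGroup_eq hM B₁ hB₁ D₁ hD₁, card_defectGroup_eq hM B₁ hB₁ _ hDm]
  have hD'p : IsPGroup p D' := ExtFirstMain.isPGroup_of_isDefectGroup hD'
  -- `D' ≤ N` inside `T`
  have hle : D' ≤ N.subgroupOf T := by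
    rw [← Subgroup.relIndex_eq_one]
    have h1 : (N.subgroupOf T).relIndex D' ∣ N.relIndex T :=
      Subgroup.relIndex_dvd_index_of_normal (N.subgroupOf T) D'
    have h2 : (N.subgroupOf T).relIndex D' ∣ Nat.card D' := Subgroup.relIndex_dvd_card _ _
    obtain ⟨k, hk⟩ := IsPGroup.iff_card.mp hD'p
    rw [hk] at h2
    obtain ⟨j, -, hj⟩ := (Nat.dvd_prime_pow hp).mp h2
    rcases Nat.eq_zero_or_pos j with h0 | hpos
    · rw [hj, h0, pow_zero]
    · exfalso
      apply hidx
      refine dvd_trans ?_ h1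
      rw [hj]
      exact dvd_pow_self p hpos.ne'
  have hmle : D'.map T.subtype ≤ N := by
    rintro _ ⟨d, hd, rfl⟩
    exact Subgroup.mem_subgroupOf.mp (hle hd)
  have h3 := card_inf_le N hM hb B₁ hB₁ hcov (D'.map T.subtype) hDm
  rw [inf_eq_left.mpr hmle] at h3
  rw [hc1]
  exact h3

end B

end CoverDefect

end Cfsg.Agent.Lib.Helper6
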