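/-
helper6: a graded Rosenberg lemma for the convolution algebra of a finite group `G` graded by the
cosets of a normal subgroup `N`.  If a multiplicatively closed family `I` of local-integer valued
functions is stable under taking coset components, and every product of `n₀` members of `I`
supported on `N` has values in the local ideal, then every idempotent in `I` has values in the local
ideal.  (Pigeonhole on the walk of partial degrees of a word in the components.)
-/
import Mathlib
import Cfsg.Agent.Lib.Lead.ConvAlg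
import Cfsg.Agent.Lib.Helper24.TraceIdem
import Cfsg.Agent.Lib.Helper6.NilIdem

set_option autoImplicit false
set_option linter.unusedSectionVars false

namespace Cfsg.Agent.Lib.Helper6.GradedNil

open Cfsg Cfsg.Agent.CharLib Cfsg.Agent.Lib.Helper24 Cfsg.Agent.Lib.Helper6

universe u

section list

variable {G : Type u} [Group G] [Fintype G] {M : Ideal AlgInt}

/-- Convolution product of a list of functions. -/
noncomputable def convList : List (G → ℂ) → (G → ℂ)
  | [] => classInd 1
  | f :: l => conv f (convList l)

theorem convList_nil : convList ([] : List (G → ℂ)) = classInd 1 := rfl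

theorem convList_cons (f : G → ℂ) (l : List (G → ℂ)) :
    convList (f :: l) = conv f (convList l) := rfl

theorem convList_append (l₁ l₂ : List (G → ℂ)) :
    convList (l₁ ++ l₂) = conv (convList l₁) (convList l₂) := by
  induction l₁ with
  | nil => rw [List.nil_append, convList_nil, conv_classInd_one]
  | cons f l ih => rw [List.cons_append, convList_cons, convList_cons, ih, conv_assoc]

theorem convList_memLocalRing [hp : M.IsPrime] (l : List (G → ℂ))
    (h : ∀ f ∈ l, ∀ x, MemLocalRing M (f x)) : ∀ x, MemLocalRing M (convList l x) := by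
  induction l with
  | nil => exact memLocalRing_classInd 1
  | cons f l ih =>
    intro x
    rw [convList_cons]
    exact memLocalRing_conv (h f List.mem_cons_self)
      (ih fun g hg => h g (List.mem_cons_of_mem _ hg)) x

theorem memLocalIdeal_conv_of_left [hp : M.IsPrime] {a b : G → ℂ}
    (ha : ∀ x, MemLocalIdeal M (a x)) (hb : ∀ x, MemLocalRing M (b x)) (x : G) :
    MemLocalIdeal M (conv a b x) :=
  sum_memLocalIdeal _ _ (fun g _ => memLocalIdeal_mul_right (ha g) (hb _))

theorem memLocalIdeal_conv_of_right [hp : M.IsPrime] {a b : G → ℂ}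
    (ha : ∀ x, MemLocalRing M (a x)) (hb : ∀ x, MemLocalIdeal M (b x)) (x : G) :
    MemLocalIdeal M (conv a b x) :=
  sum_memLocalIdeal _ _ (fun g _ => memLocalIdeal_mul_left (ha g) (hb _))

end list

section comp

variable {G : Type u} [Group G] [Fintype G] {M : Ideal AlgInt} (N : Subgroup G) [hN : N.Normal]

/-- The component of `f` on the coset `γ` of `N`. -/
noncomputable def comp (γ : G ⧸ N) (f : G → ℂ) : G → ℂ := fun x => by
  classical exact if (x : G ⧸ N) = γ then f x else 0

theorem comp_apply_of_eq {γ : G ⧸ N} (f : G → ℂ) {x : G} (h : (x : G ⧸ N) = γ) :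
    comp N γ f x = f x := by
  unfold comp
  rw [if_pos h]

theorem comp_apply_of_ne {γ : G ⧸ N} (f : G → ℂ) {x : G} (h : (x : G ⧸ N) ≠ γ) :
    comp N γ f x = 0 := by
  unfold comp
  rw [if_neg h]

/-- `f` vanishes off the coset `γ`. -/
def SuppCoset (γ : G ⧸ N) (f : G → ℂ) : Prop := ∀ x : G, (x : G ⧸ N) ≠ γ → f x = 0

theorem suppCoset_comp (γ : G ⧸ N) (f : G → ℂ) : SuppCoset N γ (comp N γ f) :=
  fun _ hx => comp_apply_of_ne N f hx

theorem suppCoset_classInd_one : SuppCoset N 1 (classInd (1 : G)) := by
  intro x hx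
  apply classInd_of_not_isConj
  intro h
  apply hx
  have h1 : x = 1 := isConj_one_left.mp h.symm
  rw [h1]
  rfl

theorem suppCoset_conv {γ δ : G ⧸ N} {a b : G → ℂ} (ha : SuppCoset N γ a)
    (hb : SuppCoset N δ b) : SuppCoset N (γ * δ) (conv a b) := by
  intro x hx
  unfold conv
  apply Finset.sum_eq_zero
  intro g _
  by_cases hg : (g : G ⧸ N) = γ
  · have h2 : ((g⁻¹ * x : G) : G ⧸ N) ≠ δ := by
      intro h
      apply hx
      have h3 : (x : G ⧸ N) = (g : G ⧸ N) * ((g⁻¹ * x : G) : G ⧸ N) := by
        rw [← QuotientGroup.mk_mul, mul_inv_cancel_left]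
      rw [h3, hg, h]
    rw [hb _ h2, mul_zero]
  · rw [ha _ hg, zero_mul]

theorem sum_comp [Fintype (G ⧸ N)] (f : G → ℂ) : ∑ γ : G ⧸ N, comp N γ f = f := by
  classical
  funext x
  rw [Finset.sum_apply, Finset.sum_eq_single ((x : G ⧸ N))]
  · exact comp_apply_of_eq N f rfl
  · intro γ _ hγ
    exact comp_apply_of_ne N f (Ne.symm hγ)
  · intro h
    exact absurd (Finset.mem_univ _) h

theorem comp_memLocalRing [hp : M.IsPrime] (γ : G ⧸ N) {f : G → ℂ}
    (hf : ∀ x, MemLocalRing M (f x)) : ∀ x, MemLocalRing M (comp N γ f x) := by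
  intro x
  by_cases h : (x : G ⧸ N) = γ
  · rw [comp_apply_of_eq N f h]
    exact hf x
  · rw [comp_apply_of_ne N f h]
    exact memLocalRing_zero

/-- The word in the components of `e` spelled by a list of cosets. -/
noncomputable def word (e : G → ℂ) : List (G ⧸ N) → (G → ℂ)
  | [] => classInd 1
  | γ :: w => conv (comp N γ e) (word e w)

theorem word_nil (e : G → ℂ) : word N e [] = classInd 1 := rfl

theorem word_cons (e : G → ℂ) (γ : G ⧸ N) (w : List (G ⧸ N)) :
    word N e (γ :: w) = conv (comp N γ e) (word N e w) := rfl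

theorem word_append (e : G → ℂ) (w₁ w₂ : List (G ⧸ N)) :
    word N e (w₁ ++ w₂) = conv (word N e w₁) (word N e w₂) := by
  induction w₁ with
  | nil => rw [List.nil_append, word_nil, conv_classInd_one]
  | cons γ w ih => rw [List.cons_append, word_cons, word_cons, ih, conv_assoc]

theorem suppCoset_word (e : G → ℂ) (w : List (G ⧸ N)) : SuppCoset N w.prod (word N e w) := by
  induction w with
  | nil =>
    rw [List.prod_nil, word_nil]
    exact suppCoset_classInd_one N
  | cons γ w ih =>
    rw [List.prod_cons, word_cons]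
    exact suppCoset_conv N (suppCoset_comp N γ e) ih

theorem word_memLocalRing [hp : M.IsPrime] {e : G → ℂ} (he : ∀ x, MemLocalRing M (e x))
    (w : List (G ⧸ N)) : ∀ x, MemLocalRing M (word N e w x) := by
  induction w with
  | nil => exact memLocalRing_classInd 1
  | cons γ w ih =>
    intro x
    rw [word_cons]
    exact memLocalRing_conv (comp_memLocalRing N γ he) ih x

end comp

section count

variable {Γ : Type*} [Group Γ]

/-- Number of visits to `σ` of the walk starting at `cur` and multiplying on the right by the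
letters of the word. -/
noncomputable def cnt (σ : Γ) : Γ → List Γ → ℕ
  | cur, [] => by classical exact if cur = σ then 1 else 0
  | cur, γ :: w => (by classical exact if cur = σ then 1 else 0) + cnt σ (cur * γ) w

theorem cnt_nil (σ cur : Γ) [Decidable (cur = σ)] : cnt σ cur [] = if cur = σ then 1 else 0 := by
  unfold cnt
  congr

theorem cnt_cons (σ cur γ : Γ) (w : List Γ) [Decidable (cur = σ)] :
    cnt σ cur (γ :: w) = (if cur = σ then 1 else 0) + cnt σ (cur * γ) w := by
  rw [cnt]
  congr

theorem sum_cnt [Fintype Γ] (cur : Γ) (w : List Γ) : ∑ σ : Γ, cnt σ cur w = w.length + 1 := by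
  classical
  induction w generalizing cur with
  | nil =>
    simp only [cnt_nil, List.length_nil, zero_add]
    rw [Finset.sum_ite_eq]
    simp
  | cons γ w ih =>
    simp only [cnt_cons, List.length_cons]
    rw [Finset.sum_add_distrib, ih, Finset.sum_ite_eq]
    simp
    ring

/-- Splitting at the first visit. -/
theorem exists_first_visit (σ : Γ) (w : List Γ) (cur : Γ) (h : 1 ≤ cnt σ cur w) :
    ∃ m w' : List Γ, w = m ++ w' ∧ cur * m.prod = σ ∧ cnt σ σ w' = cnt σ cur w := by
  classical
  induction w generalizing cur with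
  | nil =>
    by_cases hc : cur = σ
    · exact ⟨[], [], rfl, by rw [List.prod_nil, mul_one, hc], by rw [hc]⟩
    · rw [cnt_nil, if_neg hc] at h
      omega
  | cons γ w ih =>
    by_cases hc : cur = σ
    · exact ⟨[], γ :: w, rfl, by rw [List.prod_nil, mul_one, hc], by rw [hc]⟩
    · rw [cnt_cons, if_neg hc, zero_add] at h
      obtain ⟨m, w', hw, hprod, hcnt⟩ := ih (cur * γ) h
      refine ⟨γ :: m, w', by rw [hw, List.cons_append], ?_, ?_⟩
      · rw [List.prod_cons, ← mul_assoc, hprod]
      · rw [hcnt, cnt_cons, if_neg hc, zero_add]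

end count

section pw

variable {G : Type u} [Group G] [Fintype G]

/-- Right convolution powers. -/
noncomputable def pw (e : G → ℂ) : ℕ → (G → ℂ)
  | 0 => classInd 1
  | j + 1 => conv (pw e j) e

theorem pw_zero (e : G → ℂ) : pw e 0 = classInd 1 := rfl

theorem pw_succ (e : G → ℂ) (j : ℕ) : pw e (j + 1) = conv (pw e j) e := rfl

theorem pw_of_idem {e : G → ℂ} (h : conv e e = e) (j : ℕ) : pw e (j + 1) = e := by
  induction j with
  | zero => rw [pw_succ, pw_zero, conv_classInd_one]
  | succ j ih => rw [pw_succ, ih, h]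

end pw

section main

variable {G : Type u} [Group G] [Fintype G] {M : Ideal AlgInt} [hp : M.IsPrime]
  (N : Subgroup G) [hN : N.Normal]

/-- Nonempty words in the components of a member of a multiplicatively closed, component-stable
family belong to the family. -/
theorem word_mem (I : (G → ℂ) → Prop)
    (hmul : ∀ f h, I f → I h → I (conv f h))
    (hcomp : ∀ f (γ : G ⧸ N), I f → I (comp N γ f)) {e : G → ℂ} (he : I e) :
    ∀ w : List (G ⧸ N), w ≠ [] → I (word N e w) := by
  intro w
  induction w with
  | nil => intro h; exact absurd rfl h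
  | cons γ w ih =>
    intro _
    by_cases hw : w = []
    · rw [hw, word_cons, word_nil, conv_classInd_one_right]
      exact hcomp e γ he
    · rw [word_cons]
      exact hmul _ _ (hcomp e γ he) (ih hw)

/-- `r + 1` visits to the starting point give `r` adjacent closed blocks at the start. -/
theorem exists_blocks_of_cnt (I : (G → ℂ) → Prop)
    (hR : ∀ f, I f → ∀ x, MemLocalRing M (f x))
    (hmul : ∀ f h, I f → I h → I (conv f h))
    (hcomp : ∀ f (γ : G ⧸ N), I f → I (comp N γ f)) {e : G → ℂ} (he : I e) (σ : G ⧸ N) :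
    ∀ (r : ℕ) (w : List (G ⧸ N)), r + 1 ≤ cnt σ σ w →
      ∃ zs : List (G → ℂ), zs.length = r ∧ (∀ z ∈ zs, I z ∧ SuppCoset N 1 z) ∧
        ∃ suf : G → ℂ, (∀ x, MemLocalRing M (suf x)) ∧
          word N e w = conv (convList zs) suf := by
  classical
  intro r
  induction r with
  | zero =>
    intro w _
    refine ⟨[], rfl, fun z hz => absurd hz List.not_mem_nil, word N e w,
      word_memLocalRing N (hR e he) w, ?_⟩
    rw [convList_nil, conv_classInd_one]
  | succ r ih =>
    intro w hw
    cases w with
    | nil =>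
      rw [cnt_nil, if_pos rfl] at hw
      omega
    | cons γ w' =>
      rw [cnt_cons, if_pos rfl] at hw
      have h1 : 1 ≤ cnt σ (σ * γ) w' := by omega
      obtain ⟨m, w'', hw', hprod, hcnt⟩ := exists_first_visit σ w' (σ * γ) h1
      have h2 : r + 1 ≤ cnt σ σ w'' := by rw [hcnt]; omega
      obtain ⟨zs, hlen, hzs, suf, hsuf, heq⟩ := ih w'' h2
      have hdeg : (γ :: m).prod = 1 := by
        rw [List.prod_cons]
        have : σ * (γ * m.prod) = σ * 1 := by rw [← mul_assoc, hprod, mul_one]
        exact mul_left_cancel this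
      have hz : I (word N e (γ :: m)) ∧ SuppCoset N 1 (word N e (γ :: m)) := by
        refine ⟨word_mem N I hmul hcomp he _ (List.cons_ne_nil _ _), ?_⟩
        have := suppCoset_word N e (γ :: m)
        rwa [hdeg] at this
      refine ⟨word N e (γ :: m) :: zs, by rw [List.length_cons, hlen], ?_, suf, hsuf, ?_⟩
      · intro z hz'
        rcases List.mem_cons.mp hz' with h | h
        · rw [h]; exact hz
        · exact hzs z h
      · have : γ :: w' = (γ :: m) ++ w'' := by rw [hw', List.cons_append]
        rw [this, word_append, heq, convList_cons, conv_assoc]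

/-- A word whose walk visits some point more than `n₀` times has values in the local ideal. -/
theorem word_memLocalIdeal (I : (G → ℂ) → Prop)
    (hR : ∀ f, I f → ∀ x, MemLocalRing M (f x))
    (hmul : ∀ f h, I f → I h → I (conv f h))
    (hcomp : ∀ f (γ : G ⧸ N), I f → I (comp N γ f)) (n₀ : ℕ)
    (hnil : ∀ zs : List (G → ℂ), (∀ z ∈ zs, I z ∧ SuppCoset N 1 z) → zs.length = n₀ →
      ∀ x, MemLocalIdeal M (convList zs x))
    {e : G → ℂ} (he : I e) [Fintype (G ⧸ N)] (w : List (G ⧸ N))
    (hw : n₀ * Fintype.card (G ⧸ N) ≤ w.length) : ∀ x, MemLocalIdeal M (word N e w x) := by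
  classical
  -- pigeonhole
  have hsum := sum_cnt (1 : G ⧸ N) w
  obtain ⟨σ, hσ⟩ : ∃ σ : G ⧸ N, n₀ + 1 ≤ cnt σ 1 w := by
    by_contra hcon
    push Not at hcon
    have h1 : ∑ σ : G ⧸ N, cnt σ 1 w ≤ ∑ _σ : G ⧸ N, n₀ :=
      Finset.sum_le_sum (fun σ _ => by have := hcon σ; omega)
    rw [Finset.sum_const, Finset.card_univ, smul_eq_mul, hsum] at h1
    have h2 : n₀ * Fintype.card (G ⧸ N) = Fintype.card (G ⧸ N) * n₀ := mul_comm _ _
    omega
  obtain ⟨m, w', hw', -, hcnt⟩ := exists_first_visit σ w 1 (by omega)
  have h2 : n₀ + 1 ≤ cnt σ σ w' := by rw [hcnt]; exact hσ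
  obtain ⟨zs, hlen, hzs, suf, hsuf, heq⟩ := exists_blocks_of_cnt N I hR hmul hcomp he σ n₀ w' h2
  rw [hw', word_append, heq]
  have h3 := hnil zs hzs hlen
  exact memLocalIdeal_conv_of_right (word_memLocalRing N (hR e he) m)
    (memLocalIdeal_conv_of_left h3 hsuf)

/-- **Graded Rosenberg lemma**: an idempotent in `I` has values in the local ideal. -/
theorem memLocalIdeal_of_idem (I : (G → ℂ) → Prop)
    (hR : ∀ f, I f → ∀ x, MemLocalRing M (f x))
    (hmul : ∀ f h, I f → I h → I (conv f h))
    (hcomp : ∀ f (γ : G ⧸ N), I f → I (comp N γ f)) (n₀ : ℕ)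
    (hnil : ∀ zs : List (G → ℂ), (∀ z ∈ zs, I z ∧ SuppCoset N 1 z) → zs.length = n₀ →
      ∀ x, MemLocalIdeal M (convList zs x))
    {e : G → ℂ} (he : I e) (hidem : conv e e = e) : ∀ x, MemLocalIdeal M (e x) := by
  classical
  let _ : Fintype (G ⧸ N) := Fintype.ofFinite _
  -- powers of `e` as sums of words
  have key : ∀ (j : ℕ) (u : G → ℂ),
      (∀ w : List (G ⧸ N), w.length = j → ∀ x, MemLocalIdeal M (conv (word N e w) u x)) →
      ∀ x, MemLocalIdeal M (conv (pw e j) u x) := by
    intro j
    induction j with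
    | zero =>
      intro u h
      have := h [] rfl
      rwa [word_nil] at this
    | succ j ih =>
      intro u h x
      rw [pw_succ, conv_assoc]
      have h1 : conv e u = ∑ γ : G ⧸ N, conv (comp N γ e) u := by
        conv_lhs => rw [← sum_comp N e]
        rw [conv_sum_left]
      rw [h1, conv_sum_right, Finset.sum_apply]
      apply sum_memLocalIdeal
      intro γ _
      apply ih
      intro w hw y
      have h2 : conv (word N e w) (conv (comp N γ e) u) = conv (word N e (w ++ [γ])) u := by
        rw [word_append, word_cons, word_nil, conv_classInd_one_right, conv_assoc]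
      rw [h2]
      exact h (w ++ [γ]) (by rw [List.length_append, hw]; rfl) y
  set k := n₀ * Fintype.card (G ⧸ N) with hk
  have h1 := key (k + 1) (classInd 1) (fun w hw x => by
    rw [conv_classInd_one_right]
    exact word_memLocalIdeal N I hR hmul hcomp n₀ hnil he w (by rw [hw]; omega) x)
  intro x
  have h2 := h1 x
  rwa [conv_classInd_one_right, pw_of_idem hidem] at h2

end main

end Cfsg.Agent.Lib.Helper6.GradedNil
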