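/-
helper6: nilpotency of products of central elements with central character values in the local
ideal (list form), and the passage from functions on a normal subgroup to functions on the group
supported on it.  Companion to `GradedNil.lean`.
-/
import Mathlib
import Cfsg.Agent.Lib.Helper6.GradedNil
import Cfsg.Agent.Lib.Lead.OddIndexBlock

set_option autoImplicit false
set_option linter.unusedSectionVars false

namespace Cfsg.Agent.Lib.Helper6.GradedNil

open Cfsg Cfsg.Agent.CharLib Cfsg.Agent.Lib.Helper24 Cfsg.Agent.Lib.Helper6

universe u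

section central

variable {X : Type u} [Group X] [Fintype X] {M : Ideal AlgInt} [hp : M.IsPrime]

/-- A product of as many central elements as there are irreducible characters, each with all
central character values in the local ideal, has values in the local ideal. -/
theorem convList_memLocalIdeal_of_central (zs : List (X → ℂ))
    (h : ∀ z ∈ zs, IsClassFunction X z ∧ (∀ x, MemLocalRing M (z x)) ∧
      ∀ ξ : IrrCharacter X, MemLocalIdeal M (omegaFun (ξ : X → ℂ) z))
    (hlen : Nat.card (IrrCharacter X) ≤ zs.length) : ∀ x, MemLocalIdeal M (convList zs x) := by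
  classical
  let _ : Fintype (IrrCharacter X) := Fintype.ofFinite _
  have key : ∀ S : Finset (IrrCharacter X), ∀ zs : List (X → ℂ),
      (∀ z ∈ zs, IsClassFunction X z ∧ (∀ x, MemLocalRing M (z x)) ∧
        ∀ ξ : IrrCharacter X, MemLocalIdeal M (omegaFun (ξ : X → ℂ) z)) →
      zs.length = S.card → ∃ w : X → ℂ, IsClassFunction X w ∧
      (∀ x, MemLocalRing M (w x)) ∧ (∀ ψ ∈ S, omegaFun (ψ : X → ℂ) w = 0) ∧
      ∀ x, MemLocalIdeal M (w x - convList zs x) := by
    intro S
    induction S using Finset.induction_on with
    | empty =>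
      intro zs _ hl
      rw [Finset.card_empty, List.length_eq_zero_iff] at hl
      refine ⟨classInd 1, classInd_isClassFunction 1, memLocalRing_classInd 1,
        fun ψ hψ => absurd hψ (Finset.notMem_empty ψ), ?_⟩
      intro x
      rw [hl, convList_nil, sub_self]
      exact memLocalIdeal_zero hp.one_notMem
    | insert ξ S hξS ih =>
      intro zs hzs hl
      rw [Finset.card_insert_of_notMem hξS] at hl
      obtain ⟨z, zs', rfl⟩ : ∃ z zs', zs = z :: zs' := by
        cases zs with
        | nil => simp at hl
        | cons z zs' => exact ⟨z, zs', rfl⟩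
      have hl' : zs'.length = S.card := by
        rw [List.length_cons] at hl
        omega
      obtain ⟨hz, hzR, hω⟩ := hzs z List.mem_cons_self
      obtain ⟨w, hw, hwR, hwS, hwz⟩ := ih zs' (fun y hy => hzs y (List.mem_cons_of_mem _ hy)) hl'
      have hstep : ∀ φ : IrrCharacter X,
          omegaFun (φ : X → ℂ) (conv w z - omegaFun (ξ : X → ℂ) z • w) =
            omegaFun (φ : X → ℂ) w *
              (omegaFun (φ : X → ℂ) z - omegaFun (ξ : X → ℂ) z) := by
        intro φ
        rw [omegaFun_sub, omegaFun_smul, omegaFun_conv φ hw hz]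
        ring
      have hωR : MemLocalRing M (omegaFun (ξ : X → ℂ) z) := memLocalRing_omegaFun ξ hz hzR
      refine ⟨conv w z - omegaFun (ξ : X → ℂ) z • w, ?_, ?_, ?_, ?_⟩
      · exact IsClassFunction.sub (conv_isClassFunction hw hz) (IsClassFunction.smul _ hw)
      · intro x
        rw [Pi.sub_apply, Pi.smul_apply, smul_eq_mul]
        exact memLocalRing_sub (memLocalRing_conv hwR hzR x) (memLocalRing_mul hωR (hwR x))
      · intro φ hφ
        rw [hstep]
        rcases Finset.mem_insert.mp hφ with h | h
        · rw [h, sub_self, mul_zero]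
        · rw [hwS φ h, zero_mul]
      · intro x
        rw [convList_cons, conv_comm_of_isClassFunction hz]
        rw [Pi.sub_apply, Pi.smul_apply, smul_eq_mul]
        have h1 := memLocalIdeal_conv_sub hwz hzR x
        have h2 : MemLocalIdeal M (omegaFun (ξ : X → ℂ) z * w x) :=
          memLocalIdeal_mul_right (hω ξ) (hwR x)
        have h3 := memLocalIdeal_sub h1 h2
        have h4 : conv w z x - conv (convList zs') z x - omegaFun (ξ : X → ℂ) z * w x =
            conv w z x - omegaFun (ξ : X → ℂ) z * w x - conv (convList zs') z x := by ring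
        rwa [h4] at h3
  -- split the list
  set n := Fintype.card (IrrCharacter X) with hn
  have hlen' : n ≤ zs.length := by
    rw [hn, ← Nat.card_eq_fintype_card]
    exact hlen
  have hsplit : zs = zs.take n ++ zs.drop n := (List.take_append_drop n zs).symm
  have htake : (zs.take n).length = (Finset.univ : Finset (IrrCharacter X)).card := by
    rw [List.length_take, Finset.card_univ]
    omega
  obtain ⟨w, hw, hwR, hwS, hwz⟩ := key Finset.univ (zs.take n)
    (fun z hz => h z (List.mem_of_mem_take hz)) htake
  have hzero : w = 0 := by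
    apply eq_zero_of_sum_mul_irr_eq_zero hw
    intro χ
    obtain ⟨d, hdpos, hd⟩ := IsIrrCharacter.apply_one_pos χ.2
    have hd0 : (χ : X → ℂ) 1 ≠ 0 := by rw [hd]; exact Nat.cast_ne_zero.mpr hdpos.ne'
    have h1 := hwS χ (Finset.mem_univ χ)
    unfold omegaFun at h1
    rw [div_eq_zero_iff] at h1
    rcases h1 with h1 | h1
    · exact h1
    · exact absurd h1 hd0
  have h1 : ∀ x, MemLocalIdeal M (convList (zs.take n) x) := by
    intro x
    have h2 := hwz x
    rw [hzero, Pi.zero_apply, zero_sub] at h2
    have := memLocalIdeal_neg h2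
    rwa [neg_neg] at this
  rw [hsplit, convList_append]
  exact memLocalIdeal_conv_of_left h1
    (convList_memLocalRing _ (fun f hf => (h f (List.mem_of_mem_drop hf)).2.1))

end central

section ext

variable {G : Type u} [Group G] [Fintype G] {M : Ideal AlgInt} [hp : M.IsPrime]
  (N : Subgroup G) [hN : N.Normal] [Fintype N]

theorem extN_eq_extendByZero (a : N → ℂ) : extN N a = extendByZero N a := by
  funext g
  by_cases hg : g ∈ N
  · rw [extendByZero_mem N a hg]
    exact extN_apply_mem N a ⟨g, hg⟩
  · rw [extendByZero_not_mem N a hg, extN_apply_not_mem N a hg]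

theorem convList_map_extN (ζs : List (N → ℂ)) :
    convList (ζs.map (extN N)) = extN N (convList ζs) := by
  induction ζs with
  | nil =>
    rw [List.map_nil, convList_nil, convList_nil, extN_eq_extendByZero]
    exact classInd_one_eq_extendByZero N
  | cons ζ l ih =>
    rw [List.map_cons, convList_cons, convList_cons, ih, extN_eq_extendByZero,
      extN_eq_extendByZero, extN_eq_extendByZero, conv_extendByZero]

theorem mem_of_mk_eq_one {x : G} (h : (x : G ⧸ N) = 1) : x ∈ N :=
  (QuotientGroup.eq_one_iff x).mp h

theorem eq_extN_resFun_of_suppCoset {z : G → ℂ} (hz : SuppCoset N 1 z) :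
    z = extN N (resFun N z) := by
  funext x
  by_cases hx : x ∈ N
  · have := extN_apply_mem N (resFun N z) ⟨x, hx⟩
    rw [this, resFun_apply]
  · rw [extN_apply_not_mem N _ hx]
    apply hz
    intro h
    exact hx (mem_of_mk_eq_one N h)

/-- The nilpotency hypothesis of `memLocalIdeal_of_idem`, from central character values. -/
theorem hnil_of_omega (I : (G → ℂ) → Prop)
    (hI : ∀ z, I z → SuppCoset N 1 z → IsClassFunction N (resFun N z) ∧
      (∀ n, MemLocalRing M (resFun N z n)) ∧
      ∀ ξ : IrrCharacter N, MemLocalIdeal M (omegaFun (ξ : N → ℂ) (resFun N z))) :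
    ∀ zs : List (G → ℂ), (∀ z ∈ zs, I z ∧ SuppCoset N 1 z) →
      zs.length = Nat.card (IrrCharacter N) → ∀ x, MemLocalIdeal M (convList zs x) := by
  intro zs hzs hlen
  have h1 : zs = (zs.map (resFun N)).map (extN N) := by
    rw [List.map_map]
    symm
    have : ∀ z ∈ zs, (extN N ∘ resFun N) z = id z := by
      intro z hz
      exact (eq_extN_resFun_of_suppCoset N (hzs z hz).2).symm
    rw [List.map_congr_left this, List.map_id]
  have h2 : ∀ n, MemLocalIdeal M (convList (zs.map (resFun N)) n) := by
    apply convList_memLocalIdeal_of_central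
    · intro ζ hζ
      obtain ⟨z, hz, rfl⟩ := List.mem_map.mp hζ
      exact hI z (hzs z hz).1 (hzs z hz).2
    · rw [List.length_map, hlen]
  intro x
  rw [h1, convList_map_extN]
  by_cases hx : x ∈ N
  · have := extN_apply_mem N (convList (zs.map (resFun N))) ⟨x, hx⟩
    rw [this]
    exact h2 _
  · rw [extN_apply_not_mem N _ hx]
    exact memLocalIdeal_zero hp.one_notMem

end ext

end Cfsg.Agent.Lib.Helper6.GradedNil
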