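/-
helper6: functions on `G` invariant under conjugation by a normal subgroup `N` (the centraliser of
`N` in the group algebra): stability under convolution and coset components, restriction to `N`.
Companion to `GradedNil.lean`.
-/
import Mathlib
import Cfsg.Agent.Lib.Helper6.GradedNilB
import Cfsg.Agent.Lib.Helper6.FirstMain

set_option autoImplicit false
set_option linter.unusedSectionVars false

namespace Cfsg.Agent.Lib.Helper6.GradedNil

open Cfsg Cfsg.Agent.CharLib Cfsg.Agent.Lib.Helper24 Cfsg.Agent.Lib.Helper6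

universe u

section ninv

variable {G : Type u} [Group G] [Fintype G] {M : Ideal AlgInt} (N : Subgroup G) [hN : N.Normal]

/-- Invariance under conjugation by the elements of `N`. -/
def NInv (f : G → ℂ) : Prop := ∀ n ∈ N, ∀ g : G, f (n * g * n⁻¹) = f g

theorem NInv.of_isClassFunction {f : G → ℂ} (hf : IsClassFunction G f) : NInv N f :=
  fun n _ g => hf g n

theorem NInv.conv {f h : G → ℂ} (hf : NInv N f) (hh : NInv N h) : NInv N (conv f h) := by
  intro n hn g
  unfold Cfsg.Agent.Lib.Helper6.conv
  rw [← Equiv.sum_comp (MulAut.conj n).toEquiv]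
  apply Finset.sum_congr rfl
  intro u _
  have h1 : (MulAut.conj n).toEquiv u = n * u * n⁻¹ := rfl
  rw [h1, hf n hn u]
  congr 1
  have h2 : (n * u * n⁻¹)⁻¹ * (n * g * n⁻¹) = n * (u⁻¹ * g) * n⁻¹ := by group
  rw [h2, hh n hn]

theorem mk_conj_eq (n : G) (hn : n ∈ N) (g : G) : ((n * g * n⁻¹ : G) : G ⧸ N) = (g : G ⧸ N) := by
  rw [QuotientGroup.mk_mul, QuotientGroup.mk_mul, QuotientGroup.mk_inv,
    (QuotientGroup.eq_one_iff n).mpr hn]
  simp

theorem NInv.comp {f : G → ℂ} (hf : NInv N f) (γ : G ⧸ N) : NInv N (comp N γ f) := by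
  intro n hn g
  by_cases hg : (g : G ⧸ N) = γ
  · rw [comp_apply_of_eq N f hg, comp_apply_of_eq N f (by rw [mk_conj_eq N n hn g, hg]), hf n hn g]
  · rw [comp_apply_of_ne N f hg, comp_apply_of_ne N f (by rw [mk_conj_eq N n hn g]; exact hg)]

/-- Components commute with right multiplication by a function supported on `N`. -/
theorem conv_comp_of_suppCoset (γ : G ⧸ N) (f : G → ℂ) {ε : G → ℂ} (hε : SuppCoset N 1 ε) :
    conv (comp N γ f) ε = comp N γ (conv f ε) := by
  funext x
  by_cases hx : (x : G ⧸ N) = γ
  · rw [comp_apply_of_eq N _ hx]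
    unfold Cfsg.Agent.Lib.Helper6.conv
    apply Finset.sum_congr rfl
    intro u _
    by_cases hu : ((u⁻¹ * x : G) : G ⧸ N) = 1
    · have h1 : (u : G ⧸ N) = γ := by
        rw [← hx]
        have h2 : (x : G ⧸ N) = (u : G ⧸ N) * ((u⁻¹ * x : G) : G ⧸ N) := by
          rw [← QuotientGroup.mk_mul, mul_inv_cancel_left]
        rw [h2, hu, mul_one]
      rw [comp_apply_of_eq N f h1]
    · rw [hε _ hu, mul_zero, mul_zero]
  · rw [comp_apply_of_ne N _ hx]
    unfold Cfsg.Agent.Lib.Helper6.conv
    apply Finset.sum_eq_zero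
    intro u _
    by_cases hu : ((u⁻¹ * x : G) : G ⧸ N) = 1
    · have h1 : (u : G ⧸ N) ≠ γ := by
        intro h
        apply hx
        have h2 : (x : G ⧸ N) = (u : G ⧸ N) * ((u⁻¹ * x : G) : G ⧸ N) := by
          rw [← QuotientGroup.mk_mul, mul_inv_cancel_left]
        rw [h2, hu, mul_one, h]
      rw [comp_apply_of_ne N f h1, zero_mul]
    · rw [hε _ hu, mul_zero]

theorem suppCoset_extN [Fintype N] (a : N → ℂ) : SuppCoset N 1 (extN N a) := by
  intro x hx
  apply extN_apply_not_mem
  intro h
  exact hx ((QuotientGroup.eq_one_iff x).mpr h)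

theorem isClassFunction_resFun_of_nInv {z : G → ℂ} (hz : NInv N z) :
    IsClassFunction N (resFun N z) := by
  intro g h
  rw [resFun_apply, resFun_apply]
  exact hz h h.2 g

end ninv

section idem

variable {G : Type u} [Group G] [Fintype G] {M : Ideal AlgInt} [hp : M.IsPrime]
  (N : Subgroup G) [hN : N.Normal] [Fintype N]

/-- A function supported on `N` that is fixed by right multiplication by the idempotent of a set
`b` of irreducible characters of `N` is killed by the central characters outside `b`. -/
theorem omegaFun_resFun_eq_zero_of_not_mem (b : Set (IrrCharacter N)) {z : G → ℂ}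
    (hz : NInv N z) (hsupp : SuppCoset N 1 z)
    (hfix : conv z (extN N (blockCoeff b)) = z) {ξ : IrrCharacter N} (hξ : ξ ∉ b) :
    omegaFun (ξ : N → ℂ) (resFun N z) = 0 := by
  classical
  have h1 : z = extN N (resFun N z) := eq_extN_resFun_of_suppCoset N hsupp
  have h2 : extN N (resFun N z) = extN N (conv (resFun N z) (blockCoeff b)) := by
    conv_lhs => rw [← h1, ← hfix, h1]
    rw [extN_eq_extendByZero, extN_eq_extendByZero, extN_eq_extendByZero, conv_extendByZero]
  have h3 : resFun N z = conv (resFun N z) (blockCoeff b) := by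
    funext n
    have := congrFun h2 (n : G)
    rwa [extN_apply_mem, extN_apply_mem] at this
  rw [h3, omegaFun_conv ξ (isClassFunction_resFun_of_nInv N hz) (blockCoeff_isClassFunction b),
    omegaFun_blockCoeff, if_neg hξ, mul_zero]

/-- The idempotent of a subset is fixed by multiplication with the idempotent of the set. -/
theorem conv_blockCoeff_of_subset {A S : Set (IrrCharacter G)} (h : A ⊆ S) :
    conv (blockCoeff A) (blockCoeff S) = blockCoeff A := by
  classical
  apply eq_of_omegaFun_eq (conv_isClassFunction (blockCoeff_isClassFunction A)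
    (blockCoeff_isClassFunction S)) (blockCoeff_isClassFunction A)
  intro χ
  rw [omegaFun_conv χ (blockCoeff_isClassFunction A) (blockCoeff_isClassFunction S),
    omegaFun_blockCoeff, omegaFun_blockCoeff]
  by_cases hχ : χ ∈ A
  · rw [if_pos hχ, if_pos (h hχ), mul_one]
  · rw [if_neg hχ, zero_mul]

end idem

end Cfsg.Agent.Lib.Helper6.GradedNil
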