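/-
helper6: Knörr's theorem for an invariant block.  If `B` covers the `G`-invariant block `b` of the
normal subgroup `N` and `P` is a defect group of `B`, then `P ∩ N` is a defect group of `b`.
The lower bound `|D| ≤ |P ∩ N|` comes from the graded Rosenberg lemma applied to the ideal of
`N`-invariant functions concentrated on elements centralised only by small `p`-subgroups of `N`.
-/
import Mathlib
import Cfsg.Agent.Lib.Helper6.GradedNilC
import Cfsg.Agent.Lib.Helper6.Fong
import Cfsg.Agent.Lib.Helper6.MinMax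
import Cfsg.Agent.Lib.Helper6.SylowIn
import Cfsg.Agent.Lib.Helper6.CoverDefect

set_option autoImplicit false
set_option linter.unusedSectionVars false

namespace Cfsg.Agent.Lib.Helper6.KnoerrInv

open Cfsg Cfsg.Agent.CharLib Cfsg.Agent.Lib.Helper24 Cfsg.Agent.Lib.Helper23
  Cfsg.Agent.Lib.Helper6 Cfsg.Agent.Lib.Helper6.GradedNil Cfsg.Agent.Lib.Helper6.Fong
  Cfsg.Agent.Lib.Helper6.CoverDefect

universe u

section ideal

variable {G : Type u} [Group G] [Fintype G] (N : Subgroup G) [hN : N.Normal] [Fintype N]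
  {M : Ideal AlgInt} {p : ℕ} [hpp : Fact p.Prime]

/-- `y` is centralised by a `p`-subgroup of `N` of order more than `c`. -/
def Big (p c : ℕ) (y : G) : Prop :=
  ∃ S : Subgroup G, IsPGroup p S ∧ S ≤ Subgroup.centralizer ({y} : Set G) ∧ S ≤ N ∧ c < Nat.card S

/-- The ideal of `N`-invariant local-integer valued functions, fixed by `ε`, lying in the local
ideal at all big elements. -/
def InIdeal (M : Ideal AlgInt) (p c : ℕ) (ε : G → ℂ) (f : G → ℂ) : Prop :=
  (∀ x, MemLocalRing M (f x)) ∧ NInv N f ∧ conv f ε = f ∧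
    ∀ y, Big N p c y → MemLocalIdeal M (f y)

theorem inIdeal_conv (hM : IsPModular p M) (c : ℕ) (ε : G → ℂ) {f h : G → ℂ}
    (hf : InIdeal N M p c ε f) (hh : InIdeal N M p c ε h) : InIdeal N M p c ε (conv f h) := by
  classical
  have hprime : M.IsPrime := isPrime_of_isPModular hM
  have hpM : MemLocalIdeal M (p : ℂ) := by
    have := memLocalIdeal_of_mem hM.2.2 hprime.one_notMem
    simpa using this
  refine ⟨memLocalRing_conv hf.1 hh.1, NInv.conv N hf.2.1 hh.2.1, ?_, ?_⟩
  · rw [conv_assoc, hh.2.2.1]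
  · rintro y ⟨S, hS, hSy, hSN, hcS⟩
    unfold Cfsg.Agent.Lib.Helper6.conv
    set K : Finset G := Finset.univ.filter (fun g => ¬ MemLocalIdeal M (f g)) with hK
    rw [← Finset.sum_filter_add_sum_filter_not Finset.univ (fun g => ¬ MemLocalIdeal M (f g))]
    apply memLocalIdeal_add
    · have hKc : ∀ x ∈ K, ∀ q ∈ S, q * x * q⁻¹ ∈ K := by
        intro x hx q hq
        rw [hK, Finset.mem_filter] at hx ⊢
        refine ⟨Finset.mem_univ _, ?_⟩
        rw [hf.2.1 q (hSN hq) x]
        exact hx.2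
      have hfix : ∀ x ∈ K, ∃ q ∈ S, q * x * q⁻¹ ≠ x := by
        intro x hx
        by_contra hcon
        push Not at hcon
        have hSx : S ≤ Subgroup.centralizer ({x} : Set G) := by
          intro q hq
          rw [Subgroup.mem_centralizer_singleton_iff]
          have := hcon q hq
          calc q * x = q * x * q⁻¹ * q := by group
            _ = x * q := by rw [this]
        exact (Finset.mem_filter.mp hx).2 (hf.2.2.2 x ⟨S, hS, hSx, hSN, hcS⟩)
      have hinv : ∀ x ∈ K, ∀ q ∈ S,
          f (q * x * q⁻¹) * h ((q * x * q⁻¹)⁻¹ * y) = f x * h (x⁻¹ * y) := by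
        intro x _ q hq
        rw [hf.2.1 q (hSN hq) x]
        congr 1
        have hqy : q * y = y * q := Subgroup.mem_centralizer_singleton_iff.mp (hSy hq)
        have h1 : (q * x * q⁻¹)⁻¹ * y = q * (x⁻¹ * y) * q⁻¹ := by
          have : y = q * y * q⁻¹ := by rw [hqy]; group
          calc (q * x * q⁻¹)⁻¹ * y = q * x⁻¹ * q⁻¹ * y := by group
            _ = q * x⁻¹ * q⁻¹ * (q * y * q⁻¹) := by rw [← this]
            _ = q * (x⁻¹ * y) * q⁻¹ := by group
        rw [h1, hh.2.1 q (hSN hq)]
      obtain ⟨t, ht, hsum⟩ := sum_eq_nsmul_of_pgroup_fixed_point_free p S hS K hKc hfix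
        (localSubring M).toAddSubgroup (fun g => f g * h (g⁻¹ * y))
        (fun x _ => memLocalRing_mul (hf.1 x) (hh.1 _)) hinv
      rw [hsum, nsmul_eq_mul]
      exact memLocalIdeal_mul_right hpM ht
    · apply sum_memLocalIdeal
      intro g hg
      have hg' : MemLocalIdeal M (f g) := by
        have := (Finset.mem_filter.mp hg).2
        push Not at this
        exact this
      exact memLocalIdeal_mul_right hg' (hh.1 _)

theorem inIdeal_comp [hprime : M.IsPrime] (c : ℕ) {ε : G → ℂ} (hε : SuppCoset N 1 ε)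
    {f : G → ℂ} (hf : InIdeal N M p c ε f) (γ : G ⧸ N) :
    InIdeal N M p c ε (comp N γ f) := by
  refine ⟨comp_memLocalRing N γ hf.1, NInv.comp N hf.2.1 γ, ?_, ?_⟩
  · rw [conv_comp_of_suppCoset N γ f hε, hf.2.2.1]
  · intro y hy
    by_cases h : (y : G ⧸ N) = γ
    · rw [comp_apply_of_eq N f h]
      exact hf.2.2.2 y hy
    · rw [comp_apply_of_ne N f h]
      exact memLocalIdeal_zero hprime.one_notMem

end ideal

section omega

variable {G : Type u} [Group G] [Fintype G] (N : Subgroup G) [hN : N.Normal] [Fintype N]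
  {M : Ideal AlgInt} {p : ℕ} [hpp : Fact p.Prime]

/-- If the central character of `ξ ∈ b` does not vanish at `y ∈ N` modulo the local ideal, then `y`
is centralised by a conjugate of the defect group of `b`. -/
theorem big_of_centralChar (hM : IsPModular p M) {b : Set (IrrCharacter N)} (hb : IsPBlock M b)
    {D : Subgroup N} (hD : IsDefectGroup p M b D) {c : ℕ} (hc : c < Nat.card D)
    {ξ : IrrCharacter N} (hξ : ξ ∈ b) (y : N)
    (hy : ¬ MemLocalIdeal M (centralChar (ξ : N → ℂ) y)) : Big N p c (y : G) := by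
  have hprime : M.IsPrime := isPrime_of_isPModular hM
  obtain ⟨x₀, hx₀, P₀, hDP⟩ := hD
  have hbξ : blockOf M (ξ : N → ℂ) = b := blockOf_eq_of_mem hb hξ
  have hcle : CentLE p x₀ y := by
    apply centLE_of_blockCoeff hM ξ y hy x₀
    rw [hbξ]
    exact hx₀.2.1
  have hDp : IsPGroup p D := by rw [hDP]; exact P₀.isPGroup'.map _
  have hDx : D ≤ Subgroup.centralizer ({x₀} : Set N) := by
    rw [hDP]
    rintro _ ⟨u, _, rfl⟩
    exact u.2
  obtain ⟨y', hy', hDy'⟩ := hcle D hDp hDx
  obtain ⟨k, rfl⟩ := isConj_iff.mp hy'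
  have h1 := map_conj_inv_le_centralizer hDy'
  refine ⟨(D.map (MulAut.conj k⁻¹).toMonoidHom).map N.subtype, (hDp.map _).map _, ?_, ?_, ?_⟩
  · rintro _ ⟨u, hu, rfl⟩
    have h2 := Subgroup.mem_centralizer_singleton_iff.mp (h1 hu)
    rw [Subgroup.mem_centralizer_singleton_iff]
    exact congrArg Subtype.val h2
  · rintro _ ⟨u, _, rfl⟩
    exact u.2
  · rw [Subgroup.card_map_of_injective N.subtype_injective,
      Subgroup.card_map_of_injective (MulAut.conj k⁻¹).injective]
    exact hc

/-- Members of the ideal supported on `N` have all central character values in the local ideal. -/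
theorem omega_mem (hM : IsPModular p M) {b : Set (IrrCharacter N)} (hb : IsPBlock M b)
    {c : ℕ} (hc : c < p ^ blockDefect p b)
    {z : G → ℂ} (hz : InIdeal N M p c (extN N (blockCoeff (conjUnion N b))) z)
    (hsupp : SuppCoset N 1 z) :
    IsClassFunction N (resFun N z) ∧ (∀ n, MemLocalRing M (resFun N z n)) ∧
      ∀ ξ : IrrCharacter N, MemLocalIdeal M (omegaFun (ξ : N → ℂ) (resFun N z)) := by
  classical
  have hprime : M.IsPrime := isPrime_of_isPModular hM
  have hcls := isClassFunction_resFun_of_nInv N hz.2.1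
  have hR : ∀ n, MemLocalRing M (resFun N z n) := fun n => hz.1 n
  refine ⟨hcls, hR, ?_⟩
  intro ξ
  by_cases hξ : ξ ∈ conjUnion N b
  · obtain ⟨D₁, hD₁⟩ := exists_isDefectGroup (p := p) hM (blockOf M (ξ : N → ℂ)) ⟨ξ, rfl⟩
    have hcD₁ : Nat.card D₁ = p ^ blockDefect p (blockOf M (ξ : N → ℂ)) :=
      card_defectGroup_eq hM _ ⟨ξ, rfl⟩ D₁ hD₁
    have hdef : blockDefect p (blockOf M (ξ : N → ℂ)) = blockDefect p b := by
      obtain ⟨g₀, θ, hθ, hg₀⟩ := hξ
      rw [blockDefect_blockOf_conj N g₀ θ ξ hg₀, blockOf_eq_of_mem hb hθ]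
    have hc' : c < Nat.card D₁ := by rw [hcD₁, hdef]; exact hc
    apply memLocalIdeal_omegaFun_of_forall ξ hcls hR
    intro y
    by_cases hy : MemLocalIdeal M (centralChar (ξ : N → ℂ) y)
    · exact Or.inr hy
    · left
      rw [resFun_apply]
      exact hz.2.2.2 _ (big_of_centralChar N hM ⟨ξ, rfl⟩ hD₁ hc' (mem_blockOf_self ξ) y hy)
  · rw [omegaFun_resFun_eq_zero_of_not_mem N (conjUnion N b) hz.2.1 hsupp hz.2.2.1 hξ]
    exact memLocalIdeal_zero hprime.one_notMem

end omega

section main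

variable {G : Type u} [Group G] [Fintype G] (N : Subgroup G) [hN : N.Normal] [Fintype N]
  {M : Ideal AlgInt} {p : ℕ} [hpp : Fact p.Prime]

/-- A `p`-subgroup of `N` centralising `y` is no larger than `P ∩ N`, when `CentLE p y x` and `P` is
a Sylow `p`-subgroup of `C(x)`. -/
theorem card_le_inf_of_centLE {x y : G} (h : CentLE p y x) {S P : Subgroup G}
    (hS : IsPGroup p S) (hSy : S ≤ Subgroup.centralizer ({y} : Set G)) (hSN : S ≤ N)
    (hP : IsSylowIn p (Subgroup.centralizer ({x} : Set G)) P) :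
    Nat.card S ≤ Nat.card (P ⊓ N : Subgroup G) := by
  obtain ⟨x', hx', hSx'⟩ := h S hS hSy
  obtain ⟨k, rfl⟩ := isConj_iff.mp hx'
  have h1 := map_conj_inv_le_centralizer hSx'
  obtain ⟨S', hS', hle⟩ := exists_isSylowIn_ge (Subgroup.centralizer ({x} : Set G)) (hS.map _) h1
  obtain ⟨u, -, hu⟩ := hP.exists_conj hS'
  -- conjugate into `P`
  have h2 : (S.map (MulAut.conj k⁻¹).toMonoidHom).map (MulAut.conj u⁻¹).toMonoidHom ≤ P ⊓ N := by
    rintro _ ⟨_, ⟨s, hs, rfl⟩, rfl⟩
    constructor
    · have h3 : (MulAut.conj k⁻¹).toMonoidHom s ∈ S' := hle ⟨s, hs, rfl⟩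
      rw [hu] at h3
      obtain ⟨q, hq, hqs⟩ := h3
      rw [← hqs]
      simp only [MulEquiv.coe_toMonoidHom, MulAut.conj_apply, inv_inv]
      have : u⁻¹ * (u * q * u⁻¹) * u = q := by group
      rw [this]
      exact hq
    · simp only [MulEquiv.coe_toMonoidHom, MulAut.conj_apply, inv_inv]
      have h4 : k⁻¹ * s * k ∈ N := by
        have := hN.conj_mem s (hSN hs) k⁻¹
        rwa [inv_inv] at this
      have := hN.conj_mem _ h4 u⁻¹
      rwa [inv_inv] at this
  have h5 := Subgroup.card_le_of_le h2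
  rwa [Subgroup.card_map_of_injective (MulAut.conj u⁻¹).injective,
    Subgroup.card_map_of_injective (MulAut.conj k⁻¹).injective] at h5

/-- The block idempotent of a block covering the block `b` lies in the ideal. -/
theorem blockCoeff_inIdeal (hM : IsPModular p M) {b : Set (IrrCharacter N)}
    (hb : IsPBlock M b) (B : Set (IrrCharacter G)) (hB : IsPBlock M B)
    (hBS : ∀ χ ∈ B, χ ∈ coverSet N b) (P : Subgroup G) (hP : IsDefectGroup p M B P) :
    InIdeal N M p (Nat.card (P ⊓ N : Subgroup G)) (extN N (blockCoeff (conjUnion N b)))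
      (blockCoeff B) := by
  classical
  have hprime : M.IsPrime := isPrime_of_isPModular hM
  have hE : extN N (blockCoeff (conjUnion N b)) = blockCoeff (coverSet N b) :=
    extN_blockCoeff_conjUnion_eq N hM hb
  have heR : ∀ g, MemLocalRing M (blockCoeff B g) := by
    obtain ⟨χ₀, rfl⟩ := hB
    exact memLocalRing_blockCoeff_blockOf χ₀
  refine ⟨heR, NInv.of_isClassFunction N (blockCoeff_isClassFunction B), ?_, ?_⟩
  · rw [hE]
    exact conv_blockCoeff_of_subset hBS
  · rintro y ⟨S, hS, hSy, hSN, hcS⟩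
    by_contra hy
    obtain ⟨x, hx, P₀, hPP⟩ := hP
    obtain ⟨χ₀, rfl⟩ := hB
    have hcle : CentLE p y x :=
      centLE_of_blockCoeff hM χ₀ x (hx.2.2 χ₀ (mem_blockOf_self χ₀)) y hy
    have := card_le_inf_of_centLE N hcle hS hSy hSN ⟨P₀, hPP⟩
    omega

/-- **Knörr's theorem, order form**: if `B` covers the block `b` of the normal subgroup `N` and `P`
is a defect group of `B`, then `p ^ d(b) ≤ |P ∩ N|`. -/
theorem pow_blockDefect_le_card_inf (hM : IsPModular p M) {b : Set (IrrCharacter N)}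
    (hb : IsPBlock M b) (B : Set (IrrCharacter G)) (hB : IsPBlock M B)
    (hBS : ∀ χ ∈ B, χ ∈ coverSet N b) (P : Subgroup G) (hP : IsDefectGroup p M B P) :
    p ^ blockDefect p b ≤ Nat.card (P ⊓ N : Subgroup G) := by
  classical
  have hprime : M.IsPrime := isPrime_of_isPModular hM
  by_contra hlt
  push Not at hlt
  set c := Nat.card (P ⊓ N : Subgroup G) with hc
  set ε : G → ℂ := extN N (blockCoeff (conjUnion N b)) with hε
  have hεs : SuppCoset N 1 ε := suppCoset_extN N _
  have hmem := blockCoeff_inIdeal N hM hb B hB hBS P hP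
  have hnil := hnil_of_omega N (M := M) (InIdeal N M p c ε)
    (fun z hz hs => omega_mem N hM hb hlt hz hs)
  have hall := memLocalIdeal_of_idem N (InIdeal N M p c ε) (fun f hf => hf.1)
    (fun f h hf hh => inIdeal_conv N hM c ε hf hh)
    (fun f γ hf => inIdeal_comp N c hεs hf γ) _ hnil hmem (conv_blockCoeff_self B)
  obtain ⟨χ₀, rfl⟩ := hB
  have h1 : MemLocalIdeal M (omegaFun (χ₀ : G → ℂ) (blockCoeff (blockOf M (χ₀ : G → ℂ)))) :=
    memLocalIdeal_omegaFun_of_forall χ₀ (blockCoeff_isClassFunction _)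
      (memLocalRing_blockCoeff_blockOf χ₀) (fun x => Or.inl (hall x))
  rw [omegaFun_blockCoeff, if_pos (mem_blockOf_self χ₀)] at h1
  exact not_memLocalIdeal_one h1

end main

end Cfsg.Agent.Lib.Helper6.KnoerrInv
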