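/-
helper6: Knörr's theorem.  If the block `B` of `G` covers the block `b` of the normal subgroup `N`,
then `B` has a defect group `P` such that `P ∩ N` is a defect group of `b`; and `P` can be chosen
with `P ∩ N` equal to any prescribed defect group of `b`.
-/
import Mathlib
import Cfsg.Agent.Lib.Helper6.KnoerrInv
import Cfsg.Agent.Lib.Helper6.BlockIso

set_option autoImplicit false
set_option linter.unusedSectionVars false

namespace Cfsg.Agent.Lib.Helper6.KnoerrGen

open Cfsg Cfsg.Agent.CharLib Cfsg.Agent.Lib.Helper24 Cfsg.Agent.Lib.Helper23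
  Cfsg.Agent.Lib.Helper6 Cfsg.Agent.Lib.Helper6.GradedNil Cfsg.Agent.Lib.Helper6.Fong
  Cfsg.Agent.Lib.Helper6.CoverDefect Cfsg.Agent.Lib.Helper6.KnoerrInv

universe u

section upper

variable {G : Type u} [Group G] [Fintype G] (N : Subgroup G) [hN : N.Normal] [Fintype N]
  {M : Ideal AlgInt} {p : ℕ} [hpp : Fact p.Prime]

/-- **Upper bound step, general form**: if `B` covers `b` and `P` is a defect group of `B`, then
`P ∩ N` is `N`-conjugate into a defect group of some `G`-conjugate of `b`. -/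
theorem exists_conj_le_defectGroup_gen (hM : IsPModular p M) {b : Set (IrrCharacter N)}
    (hb : IsPBlock M b) (B : Set (IrrCharacter G)) (hB : IsPBlock M B)
    (hBS : ∀ χ ∈ B, χ ∈ coverSet N b) (P : Subgroup G) (hP : IsDefectGroup p M B P) :
    ∃ β₀ ∈ conjUnion N b, ∃ D₀ : Subgroup N, IsDefectGroup p M (blockOf M (β₀ : N → ℂ)) D₀ ∧
      ∃ x : N, ((P ⊓ N).subgroupOf N).map (MulAut.conj x).toMonoidHom ≤ D₀ := by
  classical
  have hprime : M.IsPrime := isPrime_of_isPModular hM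
  have hPp : IsPGroup p P := ExtFirstMain.isPGroup_of_isDefectGroup hP
  set E : G → ℂ := extN N (blockCoeff (conjUnion N b)) with hEdef
  have hE : E = blockCoeff (coverSet N b) := extN_blockCoeff_conjUnion_eq N hM hb
  have hEcls : IsClassFunction G E := by
    rw [hE]; exact blockCoeff_isClassFunction _
  have hER : ∀ g, MemLocalRing M (E g) := extN_conjUnion_memLocalRing N hb
  have hecls : IsClassFunction G (blockCoeff B) := blockCoeff_isClassFunction B
  have heR : ∀ g, MemLocalRing M (blockCoeff B g) := by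
    obtain ⟨χ₀, rfl⟩ := hB
    exact memLocalRing_blockCoeff_blockOf χ₀
  have hconv : conv (blockCoeff B) E = blockCoeff B := by
    rw [hE]
    exact conv_blockCoeff_of_subset hBS
  obtain ⟨g, hgR, hgI, c, hgc, hcP⟩ := (brauer_unit_coeff_iff p hM B hB P hP P hPp).mpr
    ⟨1, by
      intro w hw
      obtain ⟨q, hq, rfl⟩ := hw
      simpa using hq⟩
  have hcg : blockCoeff B c = blockCoeff B g := by
    obtain ⟨k, hk⟩ := isConj_iff.mp hgc
    rw [← hk]
    exact hecls g k
  set Q : Subgroup G := P ⊓ N with hQ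
  have hQp : IsPGroup p Q := hPp.to_le inf_le_left
  have hcQ : c ∈ Subgroup.centralizer (Q : Set G) :=
    Subgroup.centralizer_le (show (Q : Set G) ⊆ (P : Set G) from fun _ hx => hx.1) hcP
  have hCH : Subgroup.centralizer (Q : Set G) ≤ Subgroup.normalizer (Q : Set G) :=
    Subgroup.centralizer_le_normalizer _
  -- some value of `E` on `C_G(Q)` is a unit
  obtain ⟨n, hn, hnE⟩ : ∃ n : G, n ∈ Subgroup.centralizer (Q : Set G) ∧
      ¬ MemLocalIdeal M (E n) := by
    by_contra hall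
    push Not at hall
    have key := brFun_conv_sub Q (Subgroup.normalizer (Q : Set G)) hM hQp hCH hecls heR hEcls hER
      ⟨c, hCH hcQ⟩
    rw [hconv, brFun_of_mem Q _ _ (h := ⟨c, hCH hcQ⟩) hcQ] at key
    have hsum : MemLocalIdeal M (conv (brFun Q (Subgroup.normalizer (Q : Set G)) (blockCoeff B))
        (brFun Q (Subgroup.normalizer (Q : Set G)) E) ⟨c, hCH hcQ⟩) := by
      unfold Cfsg.Agent.Lib.Helper6.conv
      apply Blau.memLocalIdeal_finset_sum
      intro k _
      apply memLocalIdeal_mul_left (brFun_memLocalRing Q _ heR k)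
      by_cases hy : ((k⁻¹ * ⟨c, hCH hcQ⟩ : Subgroup.normalizer (Q : Set G)) : G) ∈
          Subgroup.centralizer (Q : Set G)
      · rw [brFun_of_mem Q _ _ hy]
        exact hall _ hy
      · rw [brFun_of_not_mem Q _ _ hy]
        exact memLocalIdeal_zero hprime.one_notMem
    have := memLocalIdeal_add key hsum
    rw [sub_add_cancel] at this
    apply hgI
    rw [← hcg]
    exact this
  have hnN : n ∈ N := by
    by_contra hnN
    apply hnE
    rw [hEdef, extN_apply_not_mem N _ hnN]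
    exact memLocalIdeal_zero hprime.one_notMem
  have h1 : E n = blockCoeff (conjUnion N b) ⟨n, hnN⟩ :=
    extN_apply_mem N (blockCoeff (conjUnion N b)) ⟨n, hnN⟩
  rw [h1] at hnE
  obtain ⟨β₀, hβ₀U, hβ₀⟩ := exists_block_coeff_of_closed N (conjUnion N b)
    (conjUnion_closed N hb) ⟨n, hnN⟩ hnE
  obtain ⟨D₀, hD₀⟩ := exists_isDefectGroup (p := p) hM (blockOf M (β₀ : N → ℂ)) ⟨β₀, rfl⟩
  obtain ⟨x, hx⟩ := (brauer_unit_coeff_iff p hM (blockOf M (β₀ : N → ℂ)) ⟨β₀, rfl⟩ D₀ hD₀
    (Q.subgroupOf N) hQp.comap_subtype).mp ⟨⟨n, hnN⟩, memLocalRing_blockCoeff_blockOf β₀ _, hβ₀,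
      ⟨n, hnN⟩, IsConj.refl _, by
        rw [Subgroup.mem_centralizer_iff]
        intro q hq
        apply Subtype.ext
        exact (Subgroup.mem_centralizer_iff.mp hn) q (Subgroup.mem_subgroupOf.mp hq)⟩
  exact ⟨β₀, hβ₀U, D₀, hD₀, x, hx⟩

end upper

section conjNormal

variable {G : Type u} [Group G] (N : Subgroup G) [hN : N.Normal] {M : Ideal AlgInt}

theorem irrCompIso_conjNormal (g : G) (θ : IrrCharacter N) :
    ((irrCompIso (MulAut.conjNormal g : N ≃* N) θ : IrrCharacter N) : N → ℂ) =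
      conjFun N g (θ : N → ℂ) := by
  funext n
  rw [irrCompIso_apply, conjFun_apply]
  congr 1

/-- The block of a conjugate character is the pullback of the block along conjugation. -/
theorem blockOf_conjFun_eq_pullBlock (g : G) (θ β₀ : IrrCharacter N)
    (h : (β₀ : N → ℂ) = conjFun N g (θ : N → ℂ)) :
    blockOf M (β₀ : N → ℂ) =
      BlockIso.pullBlock (MulAut.conjNormal g : N ≃* N) (blockOf M (θ : N → ℂ)) := by
  rw [BlockIso.pullBlock_blockOf, irrCompIso_conjNormal, ← h]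

end conjNormal

section main

variable {G : Type u} [Group G] [Fintype G] (N : Subgroup G) [hN : N.Normal] [Fintype N]
  {M : Ideal AlgInt} {p : ℕ} [hpp : Fact p.Prime]

/-- If `B` covers `b` and `P` is a defect group of `B`, then `P ∩ N` is a defect group of some
`G`-conjugate of `b`. -/
theorem exists_conj_block (hM : IsPModular p M) {b : Set (IrrCharacter N)}
    (hb : IsPBlock M b) (B : Set (IrrCharacter G)) (hB : IsPBlock M B)
    (hBS : ∀ χ ∈ B, χ ∈ coverSet N b) (P : Subgroup G) (hP : IsDefectGroup p M B P) :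
    ∃ β₀ ∈ conjUnion N b,
      IsDefectGroup p M (blockOf M (β₀ : N → ℂ)) ((P ⊓ N).subgroupOf N) := by
  classical
  have hprime : M.IsPrime := isPrime_of_isPModular hM
  obtain ⟨β₀, hβ₀U, D₀, hD₀, x, hx⟩ := exists_conj_le_defectGroup_gen N hM hb B hB hBS P hP
  refine ⟨β₀, hβ₀U, ?_⟩
  have hlow := pow_blockDefect_le_card_inf N hM hb B hB hBS P hP
  have hcD₀ : Nat.card D₀ = p ^ blockDefect p (blockOf M (β₀ : N → ℂ)) :=
    card_defectGroup_eq hM _ ⟨β₀, rfl⟩ D₀ hD₀
  have hdef : blockDefect p (blockOf M (β₀ : N → ℂ)) = blockDefect p b := by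
    obtain ⟨g₀, θ, hθ, hg₀⟩ := hβ₀U
    rw [blockDefect_blockOf_conj N g₀ θ β₀ hg₀, blockOf_eq_of_mem hb hθ]
  have hcQN : Nat.card ((P ⊓ N).subgroupOf N) = Nat.card (P ⊓ N : Subgroup G) :=
    Nat.card_congr (Subgroup.subgroupOfEquivOfLe inf_le_right).toEquiv
  have heq : ((P ⊓ N).subgroupOf N).map (MulAut.conj x).toMonoidHom = D₀ := by
    apply Subgroup.eq_of_le_of_card_ge hx
    rw [Subgroup.card_map_of_injective (MulAut.conj x).injective, hcQN, hcD₀, hdef]
    exact hlow
  have h1 := isDefectGroup_conj hM ⟨β₀, rfl⟩ hD₀ x⁻¹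
  rw [← heq, Subgroup.map_map] at h1
  have h2 : (MulAut.conj x⁻¹).toMonoidHom.comp (MulAut.conj x).toMonoidHom = MonoidHom.id N := by
    ext n
    simp
    group
  rw [h2, Subgroup.map_id] at h1
  exact h1

/-- **Knörr's theorem**: a block `B` covering `b` has a defect group `P` with `P ∩ N` a defect
group of `b`. -/
theorem exists_defectGroup_inf (hM : IsPModular p M) {b : Set (IrrCharacter N)}
    (hb : IsPBlock M b) (B : Set (IrrCharacter G)) (hB : IsPBlock M B)
    (hBS : ∀ χ ∈ B, χ ∈ coverSet N b) :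
    ∃ P : Subgroup G, IsDefectGroup p M B P ∧
      IsDefectGroup p M b ((P ⊓ N).subgroupOf N) := by
  classical
  have hprime : M.IsPrime := isPrime_of_isPModular hM
  obtain ⟨P₀, hP₀⟩ := exists_isDefectGroup (p := p) hM B hB
  obtain ⟨β₀, ⟨g₀, θ, hθ, hg₀⟩, hD⟩ := exists_conj_block N hM hb B hB hBS P₀ hP₀
  -- transport along conjugation by `g₀`
  have hbθ : blockOf M (θ : N → ℂ) = b := blockOf_eq_of_mem hb hθ
  rw [blockOf_conjFun_eq_pullBlock N g₀ θ β₀ hg₀, hbθ] at hD
  have h1 := BlockIso.isDefectGroup_pullBlock (MulAut.conjNormal g₀ : N ≃* N).symm hD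
  rw [BlockIso.pullBlock_symm_pullBlock] at h1
  refine ⟨P₀.map (MulAut.conj g₀).toMonoidHom, isDefectGroup_conj hM hB hP₀ g₀, ?_⟩
  convert h1 using 1
  ext n
  rw [Subgroup.mem_subgroupOf, Subgroup.mem_comap, Subgroup.mem_subgroupOf]
  constructor
  · rintro ⟨⟨q, hq, hqn⟩, -⟩
    refine ⟨?_, Subtype.property _⟩
    have h3 : (((MulAut.conjNormal g₀ : N ≃* N).symm n : N) : G) = g₀⁻¹ * (n : G) * g₀ := by
      rw [MulAut.conjNormal_symm_apply]
    have h4 : ((MulAut.conjNormal g₀ : N ≃* N).symm.toMonoidHom n : N) =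
        (MulAut.conjNormal g₀ : N ≃* N).symm n := rfl
    rw [h4, h3, ← hqn]
    simp only [MulEquiv.coe_toMonoidHom, MulAut.conj_apply]
    have : g₀⁻¹ * (g₀ * q * g₀⁻¹) * g₀ = q := by group
    rw [this]
    exact hq
  · rintro ⟨h, -⟩
    refine ⟨?_, n.2⟩
    have h3 : (((MulAut.conjNormal g₀ : N ≃* N).symm n : N) : G) = g₀⁻¹ * (n : G) * g₀ := by
      rw [MulAut.conjNormal_symm_apply]
    have h4 : ((MulAut.conjNormal g₀ : N ≃* N).symm.toMonoidHom n : N) =
        (MulAut.conjNormal g₀ : N ≃* N).symm n := rfl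
    rw [h4, h3] at h
    refine ⟨g₀⁻¹ * (n : G) * g₀, h, ?_⟩
    simp only [MulEquiv.coe_toMonoidHom, MulAut.conj_apply]
    group

/-- **Knörr's theorem, prescribed form**: for a defect group `Q ≤ N` of `b`, a block `B` covering
`b` has a defect group `P` with `P ∩ N = Q`. -/
theorem exists_defectGroup_inf_eq (hM : IsPModular p M) {b : Set (IrrCharacter N)}
    (hb : IsPBlock M b) (B : Set (IrrCharacter G)) (hB : IsPBlock M B)
    (hBS : ∀ χ ∈ B, χ ∈ coverSet N b) (Q : Subgroup G) (hQN : Q ≤ N)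
    (hQ : IsDefectGroup p M b (Q.subgroupOf N)) :
    ∃ P : Subgroup G, IsDefectGroup p M B P ∧ P ⊓ N = Q := by
  obtain ⟨P₁, hP₁, hD₁⟩ := exists_defectGroup_inf N hM hb B hB hBS
  obtain ⟨n, hn⟩ := isDefectGroup_conj_of_isDefectGroup hM hb hD₁ hQ
  refine ⟨P₁.map (MulAut.conj (n : G)).toMonoidHom, isDefectGroup_conj hM hB hP₁ (n : G), ?_⟩
  ext y
  rw [Subgroup.mem_inf]
  constructor
  · rintro ⟨⟨q, hq, rfl⟩, hyN⟩
    have hqN : q ∈ N := by
      simp only [MulEquiv.coe_toMonoidHom, MulAut.conj_apply] at hyN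
      have := hN.conj_mem _ hyN (n : G)⁻¹
      have h2 : (n : G)⁻¹ * ((n : G) * q * (n : G)⁻¹) * (n : G)⁻¹⁻¹ = q := by group
      rwa [h2] at this
    have h3 : (⟨q, hqN⟩ : N) ∈ (P₁ ⊓ N).subgroupOf N :=
      Subgroup.mem_subgroupOf.mpr ⟨hq, hqN⟩
    have h4 : (MulAut.conj n).toMonoidHom ⟨q, hqN⟩ ∈ Q.subgroupOf N := by
      rw [hn]
      exact ⟨_, h3, rfl⟩
    exact Subgroup.mem_subgroupOf.mp h4
  · intro hy
    have hyN : y ∈ N := hQN hy
    have h1 : (⟨y, hyN⟩ : N) ∈ Q.subgroupOf N := Subgroup.mem_subgroupOf.mpr hy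
    rw [hn] at h1
    obtain ⟨m, hm, hmy⟩ := h1
    have hm' := Subgroup.mem_subgroupOf.mp hm
    refine ⟨⟨(m : G), hm'.1, ?_⟩, hyN⟩
    have := congrArg Subtype.val hmy
    simpa using this

end main

end Cfsg.Agent.Lib.Helper6.KnoerrGen
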