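import Mathlib
import Cfsg.Agent.Lib.Lead.CentralProdBlock8
import Cfsg.Agent.Lib.Lead.SecondMain9
import Cfsg.Agent.Lib.Helper6.LinChar
import Cfsg.Agent.Lib.Helper6.DefectOrder

/-!
helper6: defect-one cluster, chunk DCOL, part A (local, inside the group `X = C_G(P)`).

`X` a finite group, `z` a central element of prime order `p`, `D = ⟨z⟩`, `b` a block of `X` with defect group `D`,
`θ ∈ b` the canonical character.  Then `b = {ψ_i : i ∈ ℤ/p}` with `ψ_i (z^j y) = ζ^(i j) θ y` on `p`-regular `y`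
(lead's `cp_*`), and for every class function `F` of `X` the `b`-part of `c ↦ F (z^a c)` is
`(∑_i ⟨F, ψ_i⟩ ζ^(i a)) θ` on the `p`-regular elements (the **KEY identity**).
-/

set_option autoImplicit false

namespace Cfsg.Agent.Lib.Helper6.Def1ColA

open Cfsg Cfsg.Agent.CharLib Cfsg.Agent.Lib.Helper6 Cfsg.Agent.Lib.Helper24
open scoped ComplexConjugate

universe u

section cyclic

variable {Z : Type u} [Group Z] [Fintype Z]

/-- Linear characters of a finite cyclic group. -/
theorem exists_linear_of_cyclic (z : Z) (hz : ∀ x : Z, x ∈ Subgroup.zpowers z) {ζ : ℂ}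
    (hζ : ζ ^ orderOf z = 1) (i : ℕ) :
    ∃ lam : IrrCharacter Z, ∀ j : ℕ, (lam : Z → ℂ) (z ^ j) = ζ ^ (i * j) := by
  have hζ0 : ζ ≠ 0 := by
    intro h
    rw [h, zero_pow (orderOf_pos z).ne'] at hζ
    exact zero_ne_one hζ
  set u : ℂˣ := Units.mk0 (ζ ^ i) (pow_ne_zero _ hζ0) with hu
  have hdvd : orderOf u ∣ orderOf z := by
    apply orderOf_dvd_of_pow_eq_one
    apply Units.ext
    rw [Units.val_pow_eq_pow_val, hu, Units.val_mk0, ← pow_mul, mul_comm, pow_mul, hζ, one_pow]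
    rfl
  set φ : Z →* ℂˣ := monoidHomOfForallMemZpowers hz hdvd with hφ
  refine ⟨⟨fun g => ((φ g : ℂˣ) : ℂ), isIrrCharacter_of_hom φ⟩, ?_⟩
  intro j
  change ((φ (z ^ j) : ℂˣ) : ℂ) = ζ ^ (i * j)
  rw [map_pow, hφ, monoidHomOfForallMemZpowers_apply_gen, Units.val_pow_eq_pow_val, hu, Units.val_mk0,
    pow_mul]

end cyclic

section chars

variable {X : Type u} [Group X] [Fintype X] {M : Ideal AlgInt} {p : ℕ} [hpp : Fact p.Prime]

omit [Fintype X] in
theorem centralizer_zpowers_eq_top (z : X) (hzc : ∀ h : X, h * z = z * h) :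
    Subgroup.centralizer ((Subgroup.zpowers z : Subgroup X) : Set X) = ⊤ := by
  rw [eq_top_iff]
  intro h _
  rw [Subgroup.mem_centralizer_iff]
  intro w hw
  obtain ⟨k, rfl⟩ := Subgroup.mem_zpowers_iff.mp hw
  have hc : Commute h z := hzc h
  exact ((hc.zpow_right k).eq).symm

/-- The members of a block with a central cyclic defect group of order `p`. -/
theorem exists_block_chars (hM : IsPModular p M) (z : X) (hzc : ∀ h : X, h * z = z * h)
    (hzo : orderOf z = p) (b : Set (IrrCharacter X)) (hb : IsPBlock M b)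
    (hbD : IsDefectGroup p M b (Subgroup.zpowers z)) (θ : IrrCharacter X) (hθ : θ ∈ b)
    (hθD : ∀ x ∈ Subgroup.zpowers z, (θ : X → ℂ) x = (θ : X → ℂ) 1) {ζ : ℂ}
    (hζ : IsPrimitiveRoot ζ p) :
    ∃ ψ : ZMod p → IrrCharacter X, Function.Injective ψ ∧ Set.range ψ = b ∧
      ∀ (i : ZMod p) (j : ℕ) (y : X), ¬ p ∣ orderOf y →
        (ψ i : X → ℂ) (z ^ j * y) = ζ ^ (i.val * j) * (θ : X → ℂ) y := by
  classical
  have hpp' : p.Prime := hpp.out
  have : NeZero p := ⟨hpp'.ne_zero⟩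
  set D : Subgroup X := Subgroup.zpowers z with hD
  have hDcard : Nat.card D = p := by rw [hD, Nat.card_zpowers, hzo]
  have hDp : IsPGroup p D := IsPGroup.of_card (n := 1) (by rw [hDcard, pow_one])
  have hG : D ⊔ Subgroup.centralizer (D : Set X) = ⊤ := by
    rw [hD, centralizer_zpowers_eq_top z hzc, sup_top_eq]
  set zD : D := ⟨z, Subgroup.mem_zpowers z⟩ with hzD
  have hzDgen : ∀ x : D, x ∈ Subgroup.zpowers zD := by
    rintro ⟨x, hx⟩
    obtain ⟨k, rfl⟩ := Subgroup.mem_zpowers_iff.mp hx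
    rw [Subgroup.mem_zpowers_iff]
    exact ⟨k, Subtype.ext (by simp [hzD])⟩
  have hzDo : orderOf zD = p := by
    rw [← hzo, ← Subgroup.orderOf_coe zD]
  let _ : Fintype D := Fintype.ofFinite D
  have hlam : ∀ i : ZMod p, ∃ lam : IrrCharacter D, ∀ j : ℕ, (lam : D → ℂ) (zD ^ j) = ζ ^ (i.val * j) :=
    fun i => exists_linear_of_cyclic zD hzDgen (by rw [hzDo]; exact hζ.pow_eq_one) i.val
  choose lam hlam using hlam
  have hex : ∀ i : ZMod p, ∃ χ ∈ b, ∀ (d : D) (y : X), ¬ p ∣ orderOf y →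
      (χ : X → ℂ) ((d : X) * y) = (lam i : D → ℂ) d * (θ : X → ℂ) y :=
    fun i => cp_surj hM D hDp hG b hb hbD θ hθ hθD (lam i)
  choose ψ hψb hψf using hex
  have hform : ∀ (i : ZMod p) (j : ℕ) (y : X), ¬ p ∣ orderOf y →
      (ψ i : X → ℂ) (z ^ j * y) = ζ ^ (i.val * j) * (θ : X → ℂ) y := by
    intro i j y hy
    have h1 := hψf i (zD ^ j) y hy
    rw [hlam i j] at h1
    rw [← h1]
    congr 2
  have h1reg : ¬ p ∣ orderOf (1 : X) := by
    rw [orderOf_one]; exact hpp'.not_dvd_one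
  have hinj : Function.Injective ψ := by
    intro i i' h
    have e1 := hform i 1 1 h1reg
    have e2 := hform i' 1 1 h1reg
    rw [h, e2] at e1
    have e3 := mul_right_cancel₀ (irr_apply_one_ne_zero θ) e1
    rw [mul_one, mul_one] at e3
    have e4 := hζ.pow_inj (ZMod.val_lt i') (ZMod.val_lt i) e3
    exact (ZMod.val_injective p e4).symm
  refine ⟨ψ, hinj, ?_, hform⟩
  -- the range is all of `b` by counting
  have hsub : Set.range ψ ⊆ b := by
    rintro _ ⟨i, rfl⟩
    exact hψb i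
  have hbfin : b.Finite := Set.toFinite b
  apply Set.eq_of_subset_of_ncard_le hsub _ hbfin
  have h1 : (Set.range ψ).ncard = p := by
    rw [← Set.image_univ, Set.ncard_image_of_injective _ hinj, Set.ncard_univ, Nat.card_eq_fintype_card,
      ZMod.card]
  have h2 : b.ncard ≤ p := by
    rw [← Nat.card_coe_set_eq, cp_card hM D hDp hG b hb hbD, card_irrCharacter, ← hDcard]
    exact Nat.card_le_card_of_surjective _ (ConjClasses.mk_surjective)
  rw [h1]
  exact h2

/-- **KEY identity**: the `b`-part of the translate `c ↦ F (z^a c)` on the `p`-regular elements. -/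
theorem blockPart_translate (z : X) (hzc : ∀ h : X, h * z = z * h) (b : Set (IrrCharacter X))
    (θ : IrrCharacter X) {ζ : ℂ} (hζ : IsPrimitiveRoot ζ p) (ψ : ZMod p → IrrCharacter X)
    (hinj : Function.Injective ψ) (hrange : Set.range ψ = b)
    (hform : ∀ (i : ZMod p) (j : ℕ) (y : X), ¬ p ∣ orderOf y →
      (ψ i : X → ℂ) (z ^ j * y) = ζ ^ (i.val * j) * (θ : X → ℂ) y)
    (F : X → ℂ) (a : ℕ) (y : X) (hy : ¬ p ∣ orderOf y) :
    blockPart b (fun c => F (z ^ a * c)) y =
      (∑ i : ZMod p, classInner F (ψ i : X → ℂ) * ζ ^ (i.val * a)) * (θ : X → ℂ) y := by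
  classical
  have hpp' : p.Prime := hpp.out
  have : NeZero p := ⟨hpp'.ne_zero⟩
  have h1reg : ¬ p ∣ orderOf (1 : X) := by
    rw [orderOf_one]; exact hpp'.not_dvd_one
  have hθ1 := irr_apply_one_ne_zero θ
  have hζnorm : ‖ζ‖ = 1 := hζ.norm'_eq_one hpp'.ne_zero
  have hconj : ∀ m : ℕ, conj (ζ ^ m) * ζ ^ m = 1 := by
    intro m
    rw [← Complex.normSq_eq_conj_mul_self, Complex.normSq_eq_norm_sq, norm_pow, hζnorm, one_pow, one_pow]
    norm_num
  have hζ0 : ζ ≠ 0 := hζ.ne_zero hpp'.ne_zero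
  -- the central element `z ^ a` acts on `ψ i` by the scalar `ζ ^ (i a)`
  have hcen : ∀ h : X, h * z ^ a = z ^ a * h := fun h => ((show Commute h z from hzc h).pow_right a).eq
  have hω : ∀ (i : ZMod p) (c : X), (ψ i : X → ℂ) (z ^ a * c) = ζ ^ (i.val * a) * (ψ i : X → ℂ) c := by
    intro i c
    have e1 := irr_mul_central (ψ i) (z ^ a) hcen c
    have e2 := irr_mul_central (ψ i) (z ^ a) hcen 1
    have e3 := hform i a 1 h1reg
    rw [mul_one] at e3
    have e4 := hform i 0 1 h1reg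
    rw [pow_zero, one_mul, mul_zero, pow_zero, one_mul] at e4
    rw [one_mul, e3, e4] at e2
    have e5 : centralChar (ψ i : X → ℂ) (z ^ a) = ζ ^ (i.val * a) :=
      (mul_right_cancel₀ hθ1 e2).symm
    rw [← hcen c, e1, e5]
  rw [blockPart_apply, ← hrange, finsum_mem_range hinj, finsum_eq_sum_of_fintype, Finset.sum_mul]
  apply Finset.sum_congr rfl
  intro i _
  have hy1 : (ψ i : X → ℂ) y = (θ : X → ℂ) y := by
    have := hform i 0 y hy
    rwa [pow_zero, one_mul, mul_zero, pow_zero, one_mul] at this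
  rw [hy1]
  congr 1
  -- the inner product
  unfold classInner
  rw [mul_assoc, Finset.sum_mul]
  congr 1
  have h2 : ∀ c : X, F (z ^ a * c) * conj ((ψ i : X → ℂ) c) =
      (fun c' : X => F c' * conj ((ψ i : X → ℂ) c') * ζ ^ (i.val * a)) (z ^ a * c) := by
    intro c
    beta_reduce
    rw [hω i c, map_mul]
    have := hconj (i.val * a)
    linear_combination (-(F (z ^ a * c) * conj ((ψ i : X → ℂ) c))) * this
  rw [Finset.sum_congr rfl (fun c _ => h2 c)]
  exact Fintype.sum_equiv (Equiv.mulLeft (z ^ a)) _ _ (fun c => rfl)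

end chars

end Cfsg.Agent.Lib.Helper6.Def1ColA
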