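/-
helper6: extending a homomorphism from a normal subgroup with cyclic quotient.
-/
import Mathlib

set_option autoImplicit false

namespace Cfsg.Agent.Lib.Helper6

universe u v

section abstract_ext

variable {G : Type u} {U : Type v} [Group G] [Group U]

/-- Extension of a homomorphism `r : N →* U` from a normal subgroup with `G = ⟨g₀⟩ N` to `G`, given
an element `t` of `U` that acts on `r` like conjugation by `g₀` and whose powers agree with `r` on
the powers of `g₀` lying in `N`. -/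
theorem exists_hom_extension_of_cyclic (N : Subgroup G) [hN : N.Normal] (g₀ : G)
    (hgen : ∀ g : G, ∃ i : ℤ, g₀ ^ (-i) * g ∈ N)
    (r : N →* U) (t : U)
    (hconj : ∀ n : N, t * r n * t⁻¹ = r ⟨g₀ * n * g₀⁻¹, hN.conj_mem n n.2 g₀⟩)
    (hpow : ∀ (k : ℤ) (hk : g₀ ^ k ∈ N), t ^ k = r ⟨g₀ ^ k, hk⟩) :
    ∃ R : G →* U, (∀ n : N, R n = r n) ∧ R g₀ = t := by
  classical
  -- extension of `r` by one
  let r' : G → U := fun g => if h : g ∈ N then r ⟨g, h⟩ else 1
  have hr' : ∀ (g : G) (h : g ∈ N), r' g = r ⟨g, h⟩ := fun g h => dif_pos h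
  have hr'mul : ∀ a b : G, a ∈ N → b ∈ N → r' (a * b) = r' a * r' b := by
    intro a b ha hb
    rw [hr' a ha, hr' b hb, hr' (a * b) (N.mul_mem ha hb), ← map_mul]
    rfl
  have hr'one : r' 1 = 1 := by
    rw [hr' 1 N.one_mem]
    exact map_one r
  have hr'inv : ∀ a : G, a ∈ N → r' a⁻¹ = (r' a)⁻¹ := by
    intro a ha
    rw [eq_inv_iff_mul_eq_one, ← hr'mul _ _ (N.inv_mem ha) ha, inv_mul_cancel, hr'one]
  have hconj' : ∀ n : G, n ∈ N → t * r' n * t⁻¹ = r' (g₀ * n * g₀⁻¹) := by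
    intro n hn
    rw [hr' n hn, hr' _ (hN.conj_mem n hn g₀)]
    exact hconj ⟨n, hn⟩
  have hpow' : ∀ k : ℤ, g₀ ^ k ∈ N → t ^ k = r' (g₀ ^ k) := by
    intro k hk
    rw [hr' _ hk]
    exact hpow k hk
  have hNconj : ∀ (j : ℤ) (n : G), n ∈ N → g₀ ^ j * n * g₀ ^ (-j) ∈ N := by
    intro j n hn
    have := hN.conj_mem n hn (g₀ ^ j)
    rwa [← zpow_neg] at this
  -- conjugation by natural powers
  have hconjn : ∀ (j : ℕ) (n : G), n ∈ N → t ^ j * r' n * (t ^ j)⁻¹ = r' (g₀ ^ j * n * (g₀ ^ j)⁻¹) := by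
    intro j
    induction j with
    | zero => intro n _; simp
    | succ j ih =>
      intro n hn
      have h1 : t ^ (j + 1) * r' n * (t ^ (j + 1))⁻¹ = t * (t ^ j * r' n * (t ^ j)⁻¹) * t⁻¹ := by
        rw [pow_succ']
        group
      have h2 : g₀ ^ (j + 1) * n * (g₀ ^ (j + 1))⁻¹ = g₀ * (g₀ ^ j * n * (g₀ ^ j)⁻¹) * g₀⁻¹ := by
        rw [pow_succ']
        group
      rw [h1, ih n hn, hconj' _ (hN.conj_mem n hn (g₀ ^ j)), h2]
  have hconjz : ∀ (j : ℤ) (n : G), n ∈ N → t ^ j * r' n * t ^ (-j) = r' (g₀ ^ j * n * g₀ ^ (-j)) := by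
    intro j n hn
    obtain ⟨k, rfl | rfl⟩ := Int.eq_nat_or_neg j
    · have := hconjn k n hn
      rw [zpow_neg, zpow_neg, zpow_natCast, zpow_natCast]
      exact this
    · -- negative power: conjugate back
      have hn' : g₀ ^ (-(k : ℤ)) * n * g₀ ^ (-(-(k : ℤ))) ∈ N := hNconj _ n hn
      have := hconjn k _ hn'
      rw [neg_neg, zpow_neg, zpow_natCast] at this ⊢
      have e : g₀ ^ k * ((g₀ ^ k)⁻¹ * n * g₀ ^ k) * (g₀ ^ k)⁻¹ = n := by group
      rw [e] at this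
      rw [← this]
      group
  -- the exponent function
  choose ι hι using hgen
  let R : G → U := fun g => t ^ (ι g) * r' (g₀ ^ (-(ι g)) * g)
  have hwd : ∀ (g : G) (i : ℤ), g₀ ^ (-i) * g ∈ N → R g = t ^ i * r' (g₀ ^ (-i) * g) := by
    intro g i hi
    have h1 : g₀ ^ (i - ι g) ∈ N := by
      have := N.mul_mem (hι g) (N.inv_mem hi)
      have e : g₀ ^ (-(ι g)) * g * (g₀ ^ (-i) * g)⁻¹ = g₀ ^ (i - ι g) := by
        rw [mul_inv_rev, zpow_neg, zpow_neg, inv_inv, sub_eq_add_neg, zpow_add, zpow_neg]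
        have hc : Commute (g₀ ^ i) (g₀ ^ (ι g))⁻¹ := (Commute.refl g₀).zpow_zpow i (-(ι g)) |> fun h => by
          rwa [zpow_neg] at h
        rw [hc.eq]
        group
      rwa [e] at this
    have h2 : g₀ ^ (-(ι g)) * g = g₀ ^ (i - ι g) * (g₀ ^ (-i) * g) := by
      rw [← mul_assoc, ← zpow_add]
      congr 2
      ring
    change t ^ (ι g) * r' (g₀ ^ (-(ι g)) * g) = _
    rw [h2, hr'mul _ _ h1 hi, ← hpow' _ h1, ← mul_assoc, ← zpow_add]
    congr 2
    ring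
  have hmul : ∀ a b : G, R (a * b) = R a * R b := by
    intro a b
    have ha := hι a
    have hb := hι b
    have hab : g₀ ^ (-(ι a + ι b)) * (a * b) ∈ N := by
      have h1 := hNconj (-(ι b)) _ ha
      have := N.mul_mem h1 hb
      have e : g₀ ^ (-(ι b)) * (g₀ ^ (-(ι a)) * a) * g₀ ^ (-(-(ι b))) * (g₀ ^ (-(ι b)) * b) =
          g₀ ^ (-(ι a + ι b)) * (a * b) := by
        rw [neg_add, zpow_add, neg_neg]
        have hc : Commute (g₀ ^ (-(ι a))) (g₀ ^ (-(ι b))) := (Commute.refl g₀).zpow_zpow _ _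
        rw [hc.eq]
        group
      rwa [e] at this
    rw [hwd (a * b) (ι a + ι b) hab]
    change _ = t ^ (ι a) * r' (g₀ ^ (-(ι a)) * a) * (t ^ (ι b) * r' (g₀ ^ (-(ι b)) * b))
    have h1 := hNconj (-(ι b)) _ ha
    have e : g₀ ^ (-(ι a + ι b)) * (a * b) =
        (g₀ ^ (-(ι b)) * (g₀ ^ (-(ι a)) * a) * g₀ ^ (-(-(ι b)))) * (g₀ ^ (-(ι b)) * b) := by
      rw [neg_add, zpow_add, neg_neg]
      have hc : Commute (g₀ ^ (-(ι a))) (g₀ ^ (-(ι b))) := (Commute.refl g₀).zpow_zpow _ _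
      rw [hc.eq]
      group
    rw [e, hr'mul _ _ h1 hb, ← hconjz (-(ι b)) _ ha, neg_neg, zpow_add]
    group
  have hone : R 1 = 1 := by
    have := hmul 1 1
    rw [mul_one] at this
    exact (mul_eq_left.mp this.symm)
  refine ⟨⟨⟨R, hone⟩, hmul⟩, ?_, ?_⟩
  · intro n
    change R n = r n
    rw [hwd n 0 (by simpa using n.2)]
    simp only [zpow_zero, neg_zero, one_mul]
    rw [hr' _ n.2]
  · change R g₀ = t
    rw [hwd g₀ 1 (by simp)]
    simp [hr'one]

end abstract_ext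

end Cfsg.Agent.Lib.Helper6
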