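/-
helper6: an invariant irreducible character of a normal subgroup with cyclic quotient extends.
-/
import Mathlib
import Cfsg.Agent.Lib.Lead.CharEquiv
import Cfsg.Agent.Lib.Helper24.CentralChar
import Cfsg.Agent.Lib.Helper6.CyclicExt

set_option autoImplicit false

namespace Cfsg.Agent.Lib.Helper6

open Cfsg Cfsg.Agent.CharLib Cfsg.Agent.Lib.Helper24 Representation

universe u v

section restrict

variable {G : Type u} {H : Type*} [Group G] [Group H] {V : Type v} [AddCommGroup V] [Module ℂ V]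

/-- A representation whose pullback along a homomorphism is irreducible is irreducible. -/
theorem isIrreducible_of_comp (f : H →* G) (σ : Representation ℂ G V)
    (h : Representation.IsIrreducible (MonoidHom.comp σ f : Representation ℂ H V)) :
    σ.IsIrreducible := by
  let F : Subrepresentation σ → Subrepresentation (MonoidHom.comp σ f : Representation ℂ H V) :=
    fun W => ⟨W.toSubmodule, fun g v hv => W.apply_mem_toSubmodule (f g) hv⟩
  have hF : ∀ W, (F W).toSubmodule = W.toSubmodule := fun W => rfl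
  have hne : (⊥ : Subrepresentation (MonoidHom.comp σ f : Representation ℂ H V)) ≠ ⊤ := bot_ne_top
  refine { exists_pair_ne := ⟨⊥, ⊤, ?_⟩, eq_bot_or_eq_top := ?_ }
  · intro hbt
    apply hne
    apply Subrepresentation.toSubmodule_injective
    have := congrArg Subrepresentation.toSubmodule hbt
    exact this
  · intro W
    rcases eq_bot_or_eq_top (F W) with h1 | h1
    · left
      apply Subrepresentation.toSubmodule_injective
      have := congrArg Subrepresentation.toSubmodule h1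
      exact this
    · right
      apply Subrepresentation.toSubmodule_injective
      have := congrArg Subrepresentation.toSubmodule h1
      exact this

end restrict

section cyclic

variable {G : Type u} [Group G] [Finite G] {V : Type v} [AddCommGroup V] [Module ℂ V]
  [FiniteDimensional ℂ V]

/-- Conjugation by natural powers. -/
theorem conj_pow_of_conj {U : Type*} [Group U] (N : Subgroup G) [hN : N.Normal] (g₀ : G)
    (r : N →* U) (t : U)
    (hconj : ∀ n : N, t * r n * t⁻¹ = r ⟨g₀ * n * g₀⁻¹, hN.conj_mem n n.2 g₀⟩) (j : ℕ) (n : N) :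
    t ^ j * r n * (t ^ j)⁻¹ = r ⟨g₀ ^ j * n * (g₀ ^ j)⁻¹, hN.conj_mem n n.2 (g₀ ^ j)⟩ := by
  induction j generalizing n with
  | zero =>
    simp only [pow_zero, one_mul, inv_one, mul_one]
  | succ j ih =>
    have h1 : t ^ (j + 1) * r n * (t ^ (j + 1))⁻¹ = t * (t ^ j * r n * (t ^ j)⁻¹) * t⁻¹ := by
      rw [pow_succ']
      group
    rw [h1, ih n, hconj]
    congr 1
    apply Subtype.ext
    change g₀ * (g₀ ^ j * n * (g₀ ^ j)⁻¹) * g₀⁻¹ = g₀ ^ (j + 1) * n * (g₀ ^ (j + 1))⁻¹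
    rw [pow_succ']
    group

/-- An irreducible representation of a normal subgroup with cyclic quotient whose character is
invariant extends to the whole group. -/
theorem exists_rep_extension_of_cyclic (N : Subgroup G) [hN : N.Normal] (hcyc : IsCyclic (G ⧸ N))
    (ρ : Representation ℂ N V) [hirr : ρ.IsIrreducible]
    (hinv : ∀ (g : G) (n : N),
      ρ.character ⟨g * n * g⁻¹, hN.conj_mem n n.2 g⟩ = ρ.character n) :
    ∃ σ : Representation ℂ G V, ∀ n : N, σ n = ρ n := by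
  classical
  have hV : Nontrivial V := nontrivial_of_isIrreducible ρ
  obtain ⟨q₀, hq₀⟩ := IsCyclic.exists_generator (α := G ⧸ N)
  obtain ⟨g₀, rfl⟩ := QuotientGroup.mk_surjective q₀
  have hgen : ∀ g : G, ∃ i : ℤ, g₀ ^ (-i) * g ∈ N := by
    intro g
    obtain ⟨i, hi⟩ := Subgroup.mem_zpowers_iff.mp (hq₀ (g : G ⧸ N))
    refine ⟨i, ?_⟩
    rw [zpow_neg, ← QuotientGroup.eq, QuotientGroup.mk_zpow]
    exact hi
  -- the conjugate representation
  let c : N ≃* N := MulAut.conjNormal g₀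
  let ρ' : Representation ℂ N V := ρ.comp c.toMonoidHom
  have hchar : ρ.character = ρ'.character := by
    funext n
    change _ = ρ.character (c n)
    rw [← hinv g₀ n]
    rfl
  obtain ⟨φ⟩ := nonempty_equiv_of_character_eq ρ ρ' hchar
  let r : N →* (Module.End ℂ V)ˣ := ρ.asGroupHom
  let t₀ : (Module.End ℂ V)ˣ := LinearMap.GeneralLinearGroup.ofLinearEquiv φ.toLinearEquiv
  have hconj₀ : ∀ n : N, t₀ * r n * t₀⁻¹ = r ⟨g₀ * n * g₀⁻¹, hN.conj_mem n n.2 g₀⟩ := by
    intro n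
    rw [mul_inv_eq_iff_eq_mul]
    apply Units.ext
    ext v
    have := LinearMap.congr_fun (φ.toIntertwiningMap.isIntertwining' n) v
    exact this
  -- the order of the generator
  set m := orderOf (g₀ : G ⧸ N) with hm
  have hmpos : 0 < m := orderOf_pos _
  have hn₀ : g₀ ^ m ∈ N := by
    rw [← QuotientGroup.eq_one_iff, QuotientGroup.mk_pow]
    exact pow_orderOf_eq_one _
  -- Schur
  have hcomm : ∀ n : N, ((r ⟨g₀ ^ m, hn₀⟩)⁻¹ * t₀ ^ m) * r n = r n * ((r ⟨g₀ ^ m, hn₀⟩)⁻¹ * t₀ ^ m) := by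
    intro n
    have h1 := conj_pow_of_conj N g₀ r t₀ hconj₀ m n
    have h2 : (⟨g₀ ^ m * n * (g₀ ^ m)⁻¹, hN.conj_mem n n.2 (g₀ ^ m)⟩ : N) =
        ⟨g₀ ^ m, hn₀⟩ * n * ⟨g₀ ^ m, hn₀⟩⁻¹ := by
      apply Subtype.ext
      rfl
    rw [h2, map_mul, map_mul, map_inv, mul_inv_eq_iff_eq_mul] at h1
    rw [mul_assoc, h1]
    group
  obtain ⟨cs, hcs⟩ := exists_eq_smul_one_of_comm ρ
    (((r ⟨g₀ ^ m, hn₀⟩)⁻¹ * t₀ ^ m : (Module.End ℂ V)ˣ) : Module.End ℂ V) (by
      intro n
      have := congrArg Units.val (hcomm n)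
      exact this)
  have hcs0 : cs ≠ 0 := by
    intro h0
    rw [h0, zero_smul] at hcs
    exact (Units.ne_zero _) hcs
  obtain ⟨a, ha⟩ := IsAlgClosed.exists_pow_nat_eq cs⁻¹ hmpos
  have ha0 : a ≠ 0 := by
    intro h0
    rw [h0, zero_pow hmpos.ne'] at ha
    exact (inv_ne_zero hcs0) ha.symm
  let au : (Module.End ℂ V)ˣ := Units.map (algebraMap ℂ (Module.End ℂ V)).toMonoidHom (Units.mk0 a ha0)
  have hau : ∀ x : (Module.End ℂ V)ˣ, au * x = x * au := by
    intro x
    apply Units.ext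
    change algebraMap ℂ (Module.End ℂ V) a * (x : Module.End ℂ V) = x * algebraMap ℂ (Module.End ℂ V) a
    exact Algebra.commutes a _
  let t : (Module.End ℂ V)ˣ := au * t₀
  have hconj : ∀ n : N, t * r n * t⁻¹ = r ⟨g₀ * n * g₀⁻¹, hN.conj_mem n n.2 g₀⟩ := by
    intro n
    rw [← hconj₀ n]
    change au * t₀ * r n * (au * t₀)⁻¹ = _
    rw [mul_inv_rev, hau t₀, mul_assoc t₀, hau (r n), ← mul_assoc, ← mul_assoc, mul_assoc (t₀ * r n),
      hau t₀⁻¹, ← mul_assoc, mul_assoc _ au, mul_inv_cancel, mul_one]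
  have htm : t ^ m = r ⟨g₀ ^ m, hn₀⟩ := by
    change (au * t₀) ^ m = _
    rw [(show Commute au t₀ from hau t₀).mul_pow]
    have h1 : t₀ ^ m = r ⟨g₀ ^ m, hn₀⟩ * ((r ⟨g₀ ^ m, hn₀⟩)⁻¹ * t₀ ^ m) := by group
    have h2 : au ^ m * ((r ⟨g₀ ^ m, hn₀⟩)⁻¹ * t₀ ^ m) = 1 := by
      apply Units.ext
      rw [Units.val_mul, hcs, Units.val_pow_eq_pow_val, Units.val_one]
      change (algebraMap ℂ (Module.End ℂ V) a) ^ m * (cs • (1 : Module.End ℂ V)) = 1
      rw [← map_pow, ha, Algebra.algebraMap_eq_smul_one, smul_mul_smul_comm, mul_one,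
        inv_mul_cancel₀ hcs0, one_smul]
    rw [h1, ← mul_assoc, (show Commute (au ^ m) (r ⟨g₀ ^ m, hn₀⟩) from
      (show Commute au (r ⟨g₀ ^ m, hn₀⟩) from hau _).pow_left m).eq, mul_assoc, h2, mul_one]
  have hpow : ∀ (k : ℤ) (hk : g₀ ^ k ∈ N), t ^ k = r ⟨g₀ ^ k, hk⟩ := by
    intro k hk
    have h1 : ((g₀ : G ⧸ N)) ^ k = 1 := by
      rw [← QuotientGroup.mk_zpow]
      exact (QuotientGroup.eq_one_iff _).mpr hk
    obtain ⟨q, hq⟩ := (orderOf_dvd_iff_zpow_eq_one.mpr h1)
    have h2 : (⟨g₀ ^ k, hk⟩ : N) = ⟨g₀ ^ m, hn₀⟩ ^ q := by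
      apply Subtype.ext
      rw [Subgroup.coe_zpow]
      change g₀ ^ k = (g₀ ^ m) ^ q
      rw [hq, zpow_mul, zpow_natCast]
    rw [h2, map_zpow, ← htm, hq, zpow_mul, zpow_natCast]
  obtain ⟨R, hR, -⟩ := exists_hom_extension_of_cyclic N g₀ hgen r t hconj hpow
  refine ⟨(Units.coeHom (Module.End ℂ V)).comp R, ?_⟩
  intro n
  change ((R n : (Module.End ℂ V)ˣ) : Module.End ℂ V) = ρ n
  rw [hR n]
  exact ρ.asGroupHom_apply n

/-- **Extension over a cyclic quotient** (Isaacs 11.22): an invariant irreducible character of a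
normal subgroup with cyclic quotient is the restriction of an irreducible character. -/
theorem exists_irr_extension_of_cyclic (N : Subgroup G) [hN : N.Normal] (hcyc : IsCyclic (G ⧸ N))
    {ϑ : N → ℂ} (hϑ : IsIrrCharacter N ϑ)
    (hinv : ∀ (g : G) (n : N), ϑ ⟨g * n * g⁻¹, hN.conj_mem (n : G) n.2 g⟩ = ϑ n) :
    ∃ χ : G → ℂ, IsIrrCharacter G χ ∧ ∀ n : N, χ n = ϑ n := by
  obtain ⟨k, ρ, hirr, rfl⟩ := hϑ
  obtain ⟨σ, hσ⟩ := exists_rep_extension_of_cyclic N hcyc ρ hinv
  have hcomp : (MonoidHom.comp σ N.subtype : Representation ℂ N (Fin k → ℂ)) = ρ := by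
    apply MonoidHom.ext
    intro n
    exact hσ n
  have hσirr : σ.IsIrreducible := by
    apply isIrreducible_of_comp N.subtype σ
    rw [hcomp]
    exact hirr
  refine ⟨σ.character, ⟨k, σ, hσirr, rfl⟩, ?_⟩
  intro n
  unfold Representation.character
  rw [hσ n]

end cyclic

end Cfsg.Agent.Lib.Helper6
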