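import Mathlib

/-!
helper6: defect-one cluster (S4441/S4442/S4507/S4502/S0960), abstract chunk ABS, part LATTICE.

`a χ j` (`χ ∈ B`, `j` one of the `m` orbits) is an integer matrix whose columns have Gram matrix `e + δ_ij` and whose
rows are all nonzero.  Then `|B| ≤ e + m`, and if `|B| = e + m` the matrix consists of `e` constant rows `±1` and
`m` rows `± e_j`, one for each `j`.
-/

set_option autoImplicit false

namespace Cfsg.Agent.Lib.Helper6.Def1AbsLat

variable {B ι : Type*} [Fintype B] [Fintype ι]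

/-- The square norm of a row. -/
def rowQ (a : B → ι → ℤ) (χ : B) : ℤ := ∑ i, a χ i * a χ i

/-- The spread of a row. -/
def rowW (a : B → ι → ℤ) (χ : B) : ℤ := ∑ i, ∑ j, (a χ i - a χ j) * (a χ i - a χ j)

omit [Fintype B] in
theorem one_le_rowQ (a : B → ι → ℤ) (χ : B) (h : ∃ i, a χ i ≠ 0) : 1 ≤ rowQ a χ := by
  obtain ⟨i, hi⟩ := h
  have h1 : a χ i * a χ i ≤ rowQ a χ :=
    Finset.single_le_sum (f := fun i => a χ i * a χ i) (fun i _ => mul_self_nonneg _) (Finset.mem_univ i)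
  have h2 : 1 ≤ a χ i * a χ i := by
    rcases lt_or_gt_of_ne hi with h | h <;> nlinarith
  linarith

omit [Fintype B] in
theorem rowQ_of_const (a : B → ι → ℤ) (χ : B) (hc : ∀ i j, a χ i = a χ j) (i₀ : ι) :
    rowQ a χ = (Fintype.card ι : ℤ) * (a χ i₀ * a χ i₀) := by
  unfold rowQ
  rw [Finset.sum_congr rfl (fun i _ => by rw [hc i i₀]), Finset.sum_const, Finset.card_univ, nsmul_eq_mul]

theorem sum_rowQ (e : ℕ) (a : B → ι → ℤ) [DecidableEq ι]
    (hgram : ∀ i j, ∑ χ, a χ i * a χ j = (e : ℤ) + if i = j then 1 else 0) :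
    ∑ χ, rowQ a χ = (Fintype.card ι : ℤ) * ((e : ℤ) + 1) := by
  unfold rowQ
  rw [Finset.sum_comm, Finset.sum_congr rfl (fun i _ => by rw [hgram i i, if_pos rfl]), Finset.sum_const,
    Finset.card_univ, nsmul_eq_mul]

theorem sum_rowW (e : ℕ) (a : B → ι → ℤ) [DecidableEq ι]
    (hgram : ∀ i j, ∑ χ, a χ i * a χ j = (e : ℤ) + if i = j then 1 else 0) :
    ∑ χ, rowW a χ = 2 * (Fintype.card ι : ℤ) * ((Fintype.card ι : ℤ) - 1) := by
  unfold rowW
  rw [Finset.sum_comm]
  have h1 : ∀ i : ι, ∑ χ : B, ∑ j, (a χ i - a χ j) * (a χ i - a χ j) =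
      ∑ j : ι, (2 - 2 * if i = j then (1 : ℤ) else 0) := by
    intro i
    rw [Finset.sum_comm]
    apply Finset.sum_congr rfl
    intro j _
    have : ∀ χ : B, (a χ i - a χ j) * (a χ i - a χ j) =
        a χ i * a χ i - 2 * (a χ i * a χ j) + a χ j * a χ j := fun χ => by ring
    rw [Finset.sum_congr rfl (fun χ _ => this χ), Finset.sum_add_distrib, Finset.sum_sub_distrib,
      ← Finset.mul_sum, hgram i i, hgram i j, hgram j j, if_pos rfl, if_pos rfl]
    ring
  rw [Finset.sum_congr rfl (fun i _ => h1 i)]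
  simp only [Finset.sum_sub_distrib, Finset.sum_const, Finset.card_univ, ← Finset.mul_sum,
    Finset.sum_ite_eq, Finset.mem_univ, if_true, nsmul_eq_mul]
  ring

omit [Fintype B] in
theorem rowW_nonneg (a : B → ι → ℤ) (χ : B) : 0 ≤ rowW a χ :=
  Finset.sum_nonneg (fun i _ => Finset.sum_nonneg (fun j _ => mul_self_nonneg _))

omit [Fintype B] in
/-- A nonconstant integer row has spread at least `2 (m - 1)`. -/
theorem le_rowW (a : B → ι → ℤ) (χ : B) (hc : ¬ ∀ i j, a χ i = a χ j) :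
    2 * ((Fintype.card ι : ℤ) - 1) ≤ rowW a χ := by
  classical
  push Not at hc
  obtain ⟨i₀, j₀, hij⟩ := hc
  have hne : i₀ ≠ j₀ := fun h => hij (by rw [h])
  set f : ι → ℤ := fun i => ∑ j, (a χ i - a χ j) * (a χ i - a χ j) with hf
  have hpair : ∀ x : ℤ, 1 ≤ (a χ i₀ - x) * (a χ i₀ - x) + (a χ j₀ - x) * (a χ j₀ - x) := by
    intro x
    by_cases h : a χ i₀ = x
    · have h2 : a χ j₀ - x ≠ 0 := by
        intro h3
        apply hij
        rw [h]
        linarith
      have : 1 ≤ (a χ j₀ - x) * (a χ j₀ - x) := by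
        rcases lt_or_gt_of_ne h2 with h4 | h4 <;> nlinarith
      nlinarith [mul_self_nonneg (a χ i₀ - x)]
    · have h2 : a χ i₀ - x ≠ 0 := sub_ne_zero.mpr h
      have : 1 ≤ (a χ i₀ - x) * (a χ i₀ - x) := by
        rcases lt_or_gt_of_ne h2 with h4 | h4 <;> nlinarith
      nlinarith [mul_self_nonneg (a χ j₀ - x)]
  -- the two special rows of the square
  have h1 : (Fintype.card ι : ℤ) ≤ f i₀ + f j₀ := by
    rw [hf]
    simp only
    rw [← Finset.sum_add_distrib]
    calc (Fintype.card ι : ℤ) = ∑ _j : ι, (1 : ℤ) := by simp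
      _ ≤ _ := Finset.sum_le_sum (fun j _ => hpair (a χ j))
  -- the other rows
  have h2 : ∀ i : ι, i ≠ i₀ → i ≠ j₀ → 1 ≤ f i := by
    intro i _ _
    have h3 : (a χ i - a χ i₀) * (a χ i - a χ i₀) + (a χ i - a χ j₀) * (a χ i - a χ j₀) ≤ f i := by
      rw [hf]
      simp only
      rw [← Finset.sum_pair hne (f := fun j => (a χ i - a χ j) * (a χ i - a χ j))]
      exact Finset.sum_le_sum_of_subset_of_nonneg (Finset.subset_univ _)
        (fun j _ _ => mul_self_nonneg _)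
    have h4 := hpair (a χ i)
    nlinarith
  have h3 : rowW a χ = f i₀ + f j₀ + ∑ i ∈ (Finset.univ.erase i₀).erase j₀, f i := by
    unfold rowW
    rw [← Finset.add_sum_erase Finset.univ f (Finset.mem_univ i₀),
      ← Finset.add_sum_erase (Finset.univ.erase i₀) f
        (Finset.mem_erase.mpr ⟨Ne.symm hne, Finset.mem_univ j₀⟩)]
    ring
  have h4 : ((Fintype.card ι : ℤ) - 2) ≤ ∑ i ∈ (Finset.univ.erase i₀).erase j₀, f i := by
    have hcard : (((Finset.univ.erase i₀).erase j₀).card : ℤ) = (Fintype.card ι : ℤ) - 2 := by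
      rw [Finset.card_erase_of_mem (Finset.mem_erase.mpr ⟨Ne.symm hne, Finset.mem_univ j₀⟩),
        Finset.card_erase_of_mem (Finset.mem_univ i₀), Finset.card_univ]
      have : 2 ≤ Fintype.card ι := by
        rw [← Finset.card_univ]
        calc 2 = ({i₀, j₀} : Finset ι).card := (Finset.card_pair hne).symm
          _ ≤ _ := Finset.card_le_card (Finset.subset_univ _)
      omega
    rw [← hcard]
    calc ((((Finset.univ.erase i₀).erase j₀).card : ℕ) : ℤ)
        = ∑ _i ∈ (Finset.univ.erase i₀).erase j₀, (1 : ℤ) := by simp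
      _ ≤ _ := Finset.sum_le_sum (fun i hi => by
          have hi1 := Finset.mem_erase.mp hi
          have hi2 := Finset.mem_erase.mp hi1.2
          exact h2 i hi2.1 hi1.1)
  rw [h3]
  linarith

/-- The counting core: with `C`/`NC` the constant/nonconstant rows, `(m - 1) |NC| ≤ (m - 1) m` and
`m |C| + |NC| ≤ m (e + 1)`. -/
theorem card_bounds [DecidableEq ι] (e : ℕ) (a : B → ι → ℤ)
    (hgram : ∀ i j, ∑ χ, a χ i * a χ j = (e : ℤ) + if i = j then 1 else 0)
    (hsupp : ∀ χ, ∃ i, a χ i ≠ 0) [Nonempty ι] [DecidablePred (fun χ => ∀ i j, a χ i = a χ j)] :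
    ((Fintype.card ι : ℤ) - 1) * ((Finset.univ.filter (fun χ => ¬ ∀ i j, a χ i = a χ j)).card : ℤ) ≤
        ((Fintype.card ι : ℤ) - 1) * (Fintype.card ι : ℤ) ∧
      (Fintype.card ι : ℤ) * ((Finset.univ.filter (fun χ => ∀ i j, a χ i = a χ j)).card : ℤ) +
        ((Finset.univ.filter (fun χ => ¬ ∀ i j, a χ i = a χ j)).card : ℤ) ≤
        (Fintype.card ι : ℤ) * ((e : ℤ) + 1) := by
  classical
  set m : ℤ := (Fintype.card ι : ℤ) with hm
  set NC := Finset.univ.filter (fun χ : B => ¬ ∀ i j, a χ i = a χ j) with hNC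
  set Cc := Finset.univ.filter (fun χ : B => ∀ i j, a χ i = a χ j) with hCc
  constructor
  · have h1 : ∑ χ ∈ NC, (2 * (m - 1)) ≤ ∑ χ ∈ NC, rowW a χ :=
      Finset.sum_le_sum (fun χ hχ => le_rowW a χ (Finset.mem_filter.mp hχ).2)
    have h2 : ∑ χ ∈ NC, rowW a χ ≤ ∑ χ, rowW a χ :=
      Finset.sum_le_sum_of_subset_of_nonneg (Finset.subset_univ _) (fun χ _ _ => rowW_nonneg a χ)
    rw [sum_rowW e a hgram, Finset.sum_const, nsmul_eq_mul] at *
    nlinarith
  · have h1 : ∑ χ ∈ Cc, m ≤ ∑ χ ∈ Cc, rowQ a χ := by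
      apply Finset.sum_le_sum
      intro χ hχ
      have hc := (Finset.mem_filter.mp hχ).2
      obtain ⟨i₀⟩ := ‹Nonempty ι›
      rw [rowQ_of_const a χ hc i₀]
      have h0 : a χ i₀ ≠ 0 := by
        obtain ⟨i, hi⟩ := hsupp χ
        rwa [hc i i₀] at hi
      have : 1 ≤ a χ i₀ * a χ i₀ := by
        rcases lt_or_gt_of_ne h0 with h4 | h4 <;> nlinarith
      have hm0 : 0 ≤ m := by positivity
      nlinarith
    have h2 : ∑ χ ∈ NC, (1 : ℤ) ≤ ∑ χ ∈ NC, rowQ a χ :=
      Finset.sum_le_sum (fun χ _ => one_le_rowQ a χ (hsupp χ))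
    have h3 : ∑ χ ∈ Cc, rowQ a χ + ∑ χ ∈ NC, rowQ a χ = ∑ χ, rowQ a χ :=
      Finset.sum_filter_add_sum_filter_not Finset.univ _ _
    rw [sum_rowQ e a hgram] at h3
    rw [Finset.sum_const, nsmul_eq_mul] at h1 h2
    rw [mul_comm m]
    linarith

/-- **LATTICE**, first half: `|B| ≤ e + m`. -/
theorem card_le [DecidableEq ι] [Nonempty ι] (e : ℕ) (a : B → ι → ℤ)
    (hgram : ∀ i j, ∑ χ, a χ i * a χ j = (e : ℤ) + if i = j then 1 else 0)
    (hsupp : ∀ χ, ∃ i, a χ i ≠ 0) : Fintype.card B ≤ e + Fintype.card ι := by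
  classical
  obtain ⟨h1, h2⟩ := card_bounds e a hgram hsupp
  have h3 : (Finset.univ.filter (fun χ : B => ∀ i j, a χ i = a χ j)).card +
      (Finset.univ.filter (fun χ : B => ¬ ∀ i j, a χ i = a χ j)).card = Fintype.card B := by
    rw [Finset.card_filter_add_card_filter_not, Finset.card_univ]
  have hm : (1 : ℤ) ≤ (Fintype.card ι : ℤ) := by exact_mod_cast Fintype.card_pos
  have h4 : (Fintype.card ι : ℤ) * (Fintype.card B : ℤ) ≤
      (Fintype.card ι : ℤ) * ((e : ℤ) + (Fintype.card ι : ℤ)) := by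
    rw [← h3]
    push_cast
    nlinarith
  have h5 := le_of_mul_le_mul_left h4 (by linarith)
  exact_mod_cast h5

/-- An integer family with square sum one is `±1` at one place and zero elsewhere. -/
theorem unit_of_sum_sq_eq_one {α : Type*} [DecidableEq α] (S : Finset α) (r : α → ℤ)
    (h : ∑ x ∈ S, r x * r x = 1) :
    ∃ x ∈ S, (r x = 1 ∨ r x = -1) ∧ ∀ y ∈ S, y ≠ x → r y = 0 := by
  have hex : ∃ x ∈ S, r x ≠ 0 := by
    by_contra hcon
    push Not at hcon
    rw [Finset.sum_eq_zero (fun x hx => by rw [hcon x hx, mul_zero])] at h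
    exact zero_ne_one h
  obtain ⟨x, hxS, hx⟩ := hex
  have h1 : r x * r x + ∑ y ∈ S.erase x, r y * r y = 1 := by
    rw [Finset.add_sum_erase S (fun y => r y * r y) hxS, h]
  have h2 : 0 ≤ ∑ y ∈ S.erase x, r y * r y := Finset.sum_nonneg (fun y _ => mul_self_nonneg _)
  have h3 : 1 ≤ r x * r x := by
    rcases lt_or_gt_of_ne hx with h4 | h4 <;> nlinarith
  have h4 : r x * r x = 1 := by linarith
  have h5 : ∑ y ∈ S.erase x, r y * r y = 0 := by linarith
  refine ⟨x, hxS, mul_self_eq_one_iff.mp h4, ?_⟩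
  intro y hy hyx
  have h6 := (Finset.sum_eq_zero_iff_of_nonneg (fun y _ => mul_self_nonneg (r y))).mp h5 y
    (Finset.mem_erase.mpr ⟨hyx, hy⟩)
  exact mul_self_eq_zero.mp h6

/-- **LATTICE**, second half: the shape of the matrix when `|B| = e + m`. -/
theorem shape_of_card_eq [DecidableEq ι] [DecidableEq B] [Nonempty ι] (e : ℕ) (a : B → ι → ℤ)
    (hgram : ∀ i j, ∑ χ, a χ i * a χ j = (e : ℤ) + if i = j then 1 else 0)
    (hsupp : ∀ χ, ∃ i, a χ i ≠ 0) (hcard : Fintype.card B = e + Fintype.card ι) :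
    ∃ (ψ : ι → B) (s : ι → ℤ) (v : B → ℤ), Function.Injective ψ ∧ (∀ i, s i = 1 ∨ s i = -1) ∧
      (∀ χ, χ ∉ Set.range ψ → v χ = 1 ∨ v χ = -1) ∧
      (∀ i j, a (ψ i) j = if i = j then s i else 0) ∧
      (∀ χ, χ ∉ Set.range ψ → ∀ j, a χ j = v χ) := by
  classical
  obtain ⟨i₀⟩ := ‹Nonempty ι›
  by_cases hm : Fintype.card ι = 1
  · -- one column
    have hsub : ∀ i : ι, i = i₀ := fun i => Fintype.card_le_one_iff.mp (le_of_eq hm) i i₀
    have hsum : ∑ χ, a χ i₀ * a χ i₀ = (e : ℤ) + 1 := by rw [hgram, if_pos rfl]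
    have hge : ∀ χ, 1 ≤ a χ i₀ * a χ i₀ := by
      intro χ
      obtain ⟨i, hi⟩ := hsupp χ
      rw [hsub i] at hi
      rcases lt_or_gt_of_ne hi with h4 | h4 <;> nlinarith
    have hall : ∀ χ, a χ i₀ * a χ i₀ = 1 := by
      have h0 : ∑ χ : B, (a χ i₀ * a χ i₀ - 1) = 0 := by
        rw [Finset.sum_sub_distrib, hsum, Finset.sum_const, Finset.card_univ, hcard, hm]
        simp
      have h1 := (Finset.sum_eq_zero_iff_of_nonneg (fun χ _ => sub_nonneg.mpr (hge χ))).mp h0
      intro χ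
      have := h1 χ (Finset.mem_univ χ)
      linarith
    have hpm : ∀ χ, a χ i₀ = 1 ∨ a χ i₀ = -1 := fun χ => mul_self_eq_one_iff.mp (hall χ)
    obtain ⟨χ₀⟩ : Nonempty B := Fintype.card_pos_iff.mp (by omega)
    refine ⟨fun _ => χ₀, fun _ => a χ₀ i₀, fun χ => a χ i₀, ?_, fun _ => hpm χ₀, fun χ _ => hpm χ,
      ?_, ?_⟩
    · intro i j _
      rw [hsub i, hsub j]
    · intro i j
      rw [hsub i, hsub j, if_pos rfl]
    · intro χ _ j
      rw [hsub j]
  · -- at least two columns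
    have hm2 : (2 : ℤ) ≤ (Fintype.card ι : ℤ) := by
      have := Fintype.card_pos (α := ι)
      exact_mod_cast (by omega : 2 ≤ Fintype.card ι)
    obtain ⟨h1, h2⟩ := card_bounds e a hgram hsupp
    set m : ℤ := (Fintype.card ι : ℤ) with hmdef
    set NC := Finset.univ.filter (fun χ : B => ¬ ∀ i j, a χ i = a χ j) with hNC
    set Cc := Finset.univ.filter (fun χ : B => ∀ i j, a χ i = a χ j) with hCc
    have h3 : (Cc.card : ℤ) + (NC.card : ℤ) = (e : ℤ) + m := by
      have : Cc.card + NC.card = Fintype.card B := by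
        rw [Finset.card_filter_add_card_filter_not, Finset.card_univ]
      rw [hcard] at this
      rw [hmdef]
      exact_mod_cast this
    have hNCle : (NC.card : ℤ) ≤ m := le_of_mul_le_mul_left h1 (by linarith)
    have hNCge : m ≤ (NC.card : ℤ) := by
      have h4 : (m - 1) * m ≤ (m - 1) * (NC.card : ℤ) := by nlinarith
      exact le_of_mul_le_mul_left h4 (by linarith)
    have hNCcard : (NC.card : ℤ) = m := le_antisymm hNCle hNCge
    have hCcard : (Cc.card : ℤ) = e := by linarith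
    -- termwise equalities for the row norms
    have hQ3 : ∑ χ ∈ Cc, rowQ a χ + ∑ χ ∈ NC, rowQ a χ = m * ((e : ℤ) + 1) := by
      rw [← sum_rowQ e a hgram]
      exact Finset.sum_filter_add_sum_filter_not Finset.univ _ _
    have hQCge : ∀ χ ∈ Cc, m ≤ rowQ a χ := by
      intro χ hχ
      have hc := (Finset.mem_filter.mp hχ).2
      rw [rowQ_of_const a χ hc i₀]
      have h0 : a χ i₀ ≠ 0 := by
        obtain ⟨i, hi⟩ := hsupp χ
        rwa [hc i i₀] at hi
      have : 1 ≤ a χ i₀ * a χ i₀ := by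
        rcases lt_or_gt_of_ne h0 with h4 | h4 <;> nlinarith
      nlinarith
    have hQNCge : ∀ χ ∈ NC, 1 ≤ rowQ a χ := fun χ _ => one_le_rowQ a χ (hsupp χ)
    have hsC : ∑ χ ∈ Cc, m ≤ ∑ χ ∈ Cc, rowQ a χ := Finset.sum_le_sum hQCge
    have hsNC : ∑ χ ∈ NC, (1 : ℤ) ≤ ∑ χ ∈ NC, rowQ a χ := Finset.sum_le_sum hQNCge
    have hsC' : ∑ χ ∈ Cc, m = ∑ χ ∈ Cc, rowQ a χ := by
      apply le_antisymm hsC
      rw [Finset.sum_const, nsmul_eq_mul] at hsC hsNC ⊢
      rw [hCcard]
      rw [hCcard] at hsC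
      rw [hNCcard] at hsNC
      nlinarith
    have hsNC' : ∑ χ ∈ NC, (1 : ℤ) = ∑ χ ∈ NC, rowQ a χ := by
      apply le_antisymm hsNC
      rw [Finset.sum_const, nsmul_eq_mul] at hsC hsNC ⊢
      rw [hNCcard]
      rw [hCcard] at hsC
      rw [hNCcard] at hsNC
      nlinarith
    have hQC : ∀ χ ∈ Cc, rowQ a χ = m := fun χ hχ =>
      ((Finset.sum_eq_sum_iff_of_le hQCge).mp hsC' χ hχ).symm
    have hQNC : ∀ χ ∈ NC, rowQ a χ = 1 := fun χ hχ =>
      ((Finset.sum_eq_sum_iff_of_le hQNCge).mp hsNC' χ hχ).symm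
    -- constant rows are `±1`
    have hvC : ∀ χ ∈ Cc, a χ i₀ = 1 ∨ a χ i₀ = -1 := by
      intro χ hχ
      have hc := (Finset.mem_filter.mp hχ).2
      have h4 := hQC χ hχ
      rw [rowQ_of_const a χ hc i₀] at h4
      have h5 : a χ i₀ * a χ i₀ = 1 := by
        have hm0 : m ≠ 0 := by linarith
        apply mul_left_cancel₀ hm0
        rw [h4, mul_one]
      exact mul_self_eq_one_iff.mp h5
    -- the columns restricted to the nonconstant rows
    have hcol : ∀ i : ι, ∑ χ ∈ NC, a χ i * a χ i = 1 := by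
      intro i
      have h4 : ∑ χ ∈ Cc, a χ i * a χ i + ∑ χ ∈ NC, a χ i * a χ i = (e : ℤ) + 1 := by
        rw [Finset.sum_filter_add_sum_filter_not Finset.univ _ (fun χ => a χ i * a χ i), hgram i i,
          if_pos rfl]
      have h5 : ∑ χ ∈ Cc, a χ i * a χ i = (e : ℤ) := by
        have : ∀ χ ∈ Cc, a χ i * a χ i = 1 := by
          intro χ hχ
          have hc := (Finset.mem_filter.mp hχ).2
          rw [hc i i₀]
          rcases hvC χ hχ with h | h <;> rw [h] <;> norm_num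
        rw [Finset.sum_congr rfl this, Finset.sum_const, nsmul_eq_mul, mul_one, hCcard]
      linarith
    have hψ : ∀ i : ι, ∃ χ ∈ NC, (a χ i = 1 ∨ a χ i = -1) ∧ ∀ χ' ∈ NC, χ' ≠ χ → a χ' i = 0 :=
      fun i => unit_of_sum_sq_eq_one NC (fun χ => a χ i) (hcol i)
    choose ψ hψNC hψs hψu using hψ
    have hrow : ∀ χ ∈ NC, ∃ j ∈ (Finset.univ : Finset ι), (a χ j = 1 ∨ a χ j = -1) ∧
        ∀ j' ∈ (Finset.univ : Finset ι), j' ≠ j → a χ j' = 0 :=
      fun χ hχ => unit_of_sum_sq_eq_one Finset.univ (fun j => a χ j) (hQNC χ hχ)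
    have hrowψ : ∀ i j : ι, a (ψ i) j = if i = j then a (ψ i) i else 0 := by
      intro i j
      obtain ⟨j₁, -, hj₁, hj₁u⟩ := hrow (ψ i) (hψNC i)
      have hij₁ : i = j₁ := by
        by_contra hne
        have := hj₁u i (Finset.mem_univ i) hne
        rcases hψs i with h | h <;> rw [h] at this <;> norm_num at this
      subst hij₁
      split_ifs with h
      · rw [h]
      · exact hj₁u j (Finset.mem_univ j) (Ne.symm h)
    have hinj : Function.Injective ψ := by
      intro i i' hii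
      by_contra hne
      have h4 := hrowψ i i'
      rw [if_neg hne, hii] at h4
      rcases hψs i' with h | h <;> rw [h] at h4 <;> norm_num at h4
    have hout : ∀ χ, χ ∉ Set.range ψ → χ ∈ Cc := by
      intro χ hχ
      by_contra hnc
      have hχNC : χ ∈ NC := by
        rw [hNC, Finset.mem_filter]
        refine ⟨Finset.mem_univ χ, ?_⟩
        intro hc
        apply hnc
        rw [hCc, Finset.mem_filter]
        exact ⟨Finset.mem_univ χ, hc⟩
      obtain ⟨j, -, hj, -⟩ := hrow χ hχNC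
      have h4 : χ = ψ j := by
        by_contra hne
        have := hψu j χ hχNC hne
        rcases hj with h | h <;> rw [h] at this <;> norm_num at this
      exact hχ ⟨j, h4.symm⟩
    refine ⟨ψ, fun i => a (ψ i) i, fun χ => a χ i₀, hinj, hψs, fun χ hχ => hvC χ (hout χ hχ), hrowψ, ?_⟩
    intro χ hχ j
    exact (Finset.mem_filter.mp (hout χ hχ)).2 j i₀

end Cfsg.Agent.Lib.Helper6.Def1AbsLat
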