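import Mathlib

/-!
helper6: defect-one cluster (S4441/S4442/S4507/S4502/S0960), abstract chunk ABS, part GRAM.

`B` is the block, `μ χ i` the multiplicity of `λ_i × θ` in `χ|_C` (`i ∈ ℤ/p`), `D χ a` the generalized
decomposition number of `χ` at `x₀^a`, `E ≤ (ℤ/p)ˣ` the image of the inertial group.  From the orthogonality
of the columns `D · a` we get the Gram matrix of the integer columns `μ · i - μ · 0`, and every vector
orthogonal to all columns `D · a` is orthogonal to all `μ · i - μ · 0`.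
-/

set_option autoImplicit false

namespace Cfsg.Agent.Lib.Helper6.Def1AbsGram

open scoped ComplexConjugate

/-- A sum over the units of `ℤ/p` of a function vanishing at `0`. -/
theorem sum_units_eq {p : ℕ} [Fact p.Prime] (g : ZMod p → ℂ) (h0 : g 0 = 0) :
    ∑ a : (ZMod p)ˣ, g (a : ZMod p) = ∑ a : ZMod p, g a := by
  classical
  calc ∑ a : (ZMod p)ˣ, g (a : ZMod p)
      = ∑ x : {a : ZMod p // a ≠ 0}, g x :=
        Fintype.sum_equiv unitsEquivNeZero _ _ (fun a => rfl)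
    _ = ∑ a ∈ Finset.univ.filter (fun a : ZMod p => a ≠ 0), g a :=
        (Finset.sum_subtype (Finset.univ.filter (fun a : ZMod p => a ≠ 0)) (by simp) g).symm
    _ = ∑ a : ZMod p, g a :=
        Finset.sum_filter_of_ne (fun a _ ha => by rintro rfl; exact ha h0)

variable {B : Type*} [Fintype B] {p : ℕ} [Fact p.Prime] {ζ : ℂ}

omit [Fintype B] in
/-- **Fourier inversion**: the integer `μ χ j - μ χ 0` from the numbers `D χ a`, `a ≠ 0`. -/
theorem inversion (hζ : IsPrimitiveRoot ζ p) (μ : B → ZMod p → ℤ) (D : B → (ZMod p)ˣ → ℂ)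
    (hD : ∀ χ (a : (ZMod p)ˣ), D χ a = ∑ i : ZMod p, (μ χ i : ℂ) * ζ ^ (i * (a : ZMod p)).val)
    (χ : B) (j : ZMod p) :
    ∑ a : (ZMod p)ˣ, D χ a * (conj (ζ ^ (j * (a : ZMod p)).val) - 1) =
      (p : ℂ) * ((μ χ j - μ χ 0 : ℤ) : ℂ) := by
  classical
  set ψ : AddChar (ZMod p) ℂ := AddChar.zmodChar p hζ.pow_eq_one with hψdef
  have hψ : ψ.IsPrimitive := AddChar.zmodChar_primitive_of_primitive_root p hζ
  have hψa : ∀ x : ZMod p, ζ ^ x.val = ψ x := fun x => rfl
  have hconj : ∀ x : ZMod p, conj (ψ x) = ψ (-x) := fun x => (AddChar.map_neg_eq_conj ψ x).symm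
  set g : ZMod p → ℂ := fun a => (∑ i : ZMod p, (μ χ i : ℂ) * ψ (i * a)) * (ψ (-(j * a)) - 1) with hg
  have h1 : ∑ a : (ZMod p)ˣ, D χ a * (conj (ζ ^ (j * (a : ZMod p)).val) - 1) =
      ∑ a : (ZMod p)ˣ, g (a : ZMod p) := by
    apply Finset.sum_congr rfl
    intro a _
    rw [hD χ a, hg]
    simp only [hψa, hconj]
  rw [h1, sum_units_eq g (by simp [hg])]
  simp only [hg]
  have h2 : ∀ a : ZMod p, (∑ i : ZMod p, (μ χ i : ℂ) * ψ (i * a)) * (ψ (-(j * a)) - 1) =
      ∑ i : ZMod p, (μ χ i : ℂ) * (ψ (a * (i - j)) - ψ (a * i)) := by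
    intro a
    rw [Finset.sum_mul]
    apply Finset.sum_congr rfl
    intro i _
    have e1 : ψ (a * (i - j)) = ψ (i * a) * ψ (-(j * a)) := by
      rw [← AddChar.map_add_eq_mul]
      congr 1
      ring
    rw [e1, mul_comm a i]
    ring
  rw [Finset.sum_congr rfl (fun a _ => h2 a), Finset.sum_comm]
  have h3 : ∀ i : ZMod p, ∑ a : ZMod p, (μ χ i : ℂ) * (ψ (a * (i - j)) - ψ (a * i)) =
      (μ χ i : ℂ) * ((if i = j then (p : ℂ) else 0) - (if i = 0 then (p : ℂ) else 0)) := by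
    intro i
    rw [← Finset.mul_sum, Finset.sum_sub_distrib, AddChar.sum_mulShift (i - j) hψ,
      AddChar.sum_mulShift i hψ]
    simp only [ZMod.card, sub_eq_zero]
    congr 2
    · split_ifs <;> simp
    · split_ifs <;> simp
  rw [Finset.sum_congr rfl (fun i _ => h3 i)]
  simp only [mul_sub, Finset.sum_sub_distrib, mul_ite, mul_zero, Finset.sum_ite_eq', Finset.mem_univ,
    if_true]
  push_cast
  ring

/-- **REG**: a vector orthogonal to all columns `D · a` is orthogonal to all columns `μ · i - μ · 0`. -/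
theorem sum_sub_mul (hζ : IsPrimitiveRoot ζ p) (μ : B → ZMod p → ℤ) (D : B → (ZMod p)ˣ → ℂ)
    (hD : ∀ χ (a : (ZMod p)ˣ), D χ a = ∑ i : ZMod p, (μ χ i : ℂ) * ζ ^ (i * (a : ZMod p)).val)
    (Y : B → ℂ) (hY : ∀ a : (ZMod p)ˣ, ∑ χ, D χ a * Y χ = 0) (i : ZMod p) :
    ∑ χ, ((μ χ i - μ χ 0 : ℤ) : ℂ) * Y χ = 0 := by
  have hp0 : (p : ℂ) ≠ 0 := Nat.cast_ne_zero.mpr (Fact.out : p.Prime).ne_zero
  have h1 : (p : ℂ) * ∑ χ, ((μ χ i - μ χ 0 : ℤ) : ℂ) * Y χ = 0 := by
    rw [Finset.mul_sum]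
    have : ∀ χ : B, (p : ℂ) * (((μ χ i - μ χ 0 : ℤ) : ℂ) * Y χ) =
        ∑ a : (ZMod p)ˣ, (conj (ζ ^ (i * (a : ZMod p)).val) - 1) * (D χ a * Y χ) := by
      intro χ
      rw [← mul_assoc, ← inversion hζ μ D hD χ i, Finset.sum_mul]
      apply Finset.sum_congr rfl
      intro a _
      ring
    rw [Finset.sum_congr rfl (fun χ _ => this χ), Finset.sum_comm]
    apply Finset.sum_eq_zero
    intro a _
    rw [← Finset.mul_sum, hY a, mul_zero]
  exact (mul_eq_zero.mp h1).resolve_left hp0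

/-- **GRAM**: the Gram matrix of the integer columns `μ · i - μ · 0`, `i ≠ 0`. -/
theorem gram (hζ : IsPrimitiveRoot ζ p) (E : Subgroup (ZMod p)ˣ) [DecidablePred (fun τ => τ ∈ E)]
    (μ : B → ZMod p → ℤ)
    (D : B → (ZMod p)ˣ → ℂ)
    (hD : ∀ χ (a : (ZMod p)ˣ), D χ a = ∑ i : ZMod p, (μ χ i : ℂ) * ζ ^ (i * (a : ZMod p)).val)
    (horth : ∀ a b : (ZMod p)ˣ, ∑ χ, D χ a * conj (D χ b) = if a * b⁻¹ ∈ E then (p : ℂ) else 0)
    (i j : (ZMod p)ˣ) :
    ∑ χ, (μ χ i - μ χ 0) * (μ χ j - μ χ 0) =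
      (Nat.card E : ℤ) + if i * j⁻¹ ∈ E then 1 else 0 := by
  classical
  have hpp : p.Prime := Fact.out
  have hp0 : (p : ℂ) ≠ 0 := Nat.cast_ne_zero.mpr hpp.ne_zero
  set ψ : AddChar (ZMod p) ℂ := AddChar.zmodChar p hζ.pow_eq_one with hψdef
  have hψ : ψ.IsPrimitive := AddChar.zmodChar_primitive_of_primitive_root p hζ
  have hψa : ∀ x : ZMod p, ζ ^ x.val = ψ x := fun x => rfl
  have hconj : ∀ x : ZMod p, conj (ψ x) = ψ (-x) := fun x => (AddChar.map_neg_eq_conj ψ x).symm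
  -- the coefficient functions
  set c : ZMod p → ZMod p → ℂ := fun i a => ψ (-(i * a)) - 1 with hc
  have hinv : ∀ (χ : B) (i : ZMod p), ∑ a : (ZMod p)ˣ, D χ a * c i a =
      (p : ℂ) * ((μ χ i - μ χ 0 : ℤ) : ℂ) := by
    intro χ i
    rw [← inversion hζ μ D hD χ i]
    apply Finset.sum_congr rfl
    intro a _
    rw [hc, hψa, hconj]
  -- the key inner sum
  have hinner : ∀ τ : (ZMod p)ˣ, ∑ b : (ZMod p)ˣ, c i ((τ * b : (ZMod p)ˣ) : ZMod p) * conj (c j b) =
      (if j = i * τ then (p : ℂ) else 0) + p := by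
    intro τ
    set g : ZMod p → ℂ := fun b => c i ((τ : ZMod p) * b) * conj (c j b) with hg
    have e0 : ∑ b : (ZMod p)ˣ, c i ((τ * b : (ZMod p)ˣ) : ZMod p) * conj (c j b) =
        ∑ b : (ZMod p)ˣ, g (b : ZMod p) := by
      apply Finset.sum_congr rfl
      intro b _
      rw [hg, Units.val_mul]
    rw [e0, sum_units_eq g (by simp [hg, hc])]
    have e1 : ∀ b : ZMod p, g b = ψ (b * ((j : ZMod p) - i * τ)) - ψ (b * (-(i * τ))) -
        ψ (b * (j : ZMod p)) + 1 := by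
      intro b
      simp only [hg, hc, map_sub, map_one, hconj, neg_neg]
      have e2 : ψ (b * ((j : ZMod p) - i * τ)) = ψ (-((i : ZMod p) * (τ * b))) * ψ (j * b) := by
        rw [← AddChar.map_add_eq_mul]
        congr 1
        ring
      have e3 : ψ (b * (-((i : ZMod p) * τ))) = ψ (-((i : ZMod p) * (τ * b))) := by
        congr 1
        ring
      have e4 : ψ (b * (j : ZMod p)) = ψ (j * b) := by rw [mul_comm]
      rw [e2, e3, e4]
      ring
    rw [Finset.sum_congr rfl (fun b _ => e1 b), Finset.sum_add_distrib, Finset.sum_sub_distrib,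
      Finset.sum_sub_distrib, AddChar.sum_mulShift _ hψ, AddChar.sum_mulShift _ hψ,
      AddChar.sum_mulShift _ hψ]
    have hiτ : -((i : ZMod p) * τ) ≠ 0 := by
      rw [neg_ne_zero, ← Units.val_mul]
      exact Units.ne_zero _
    have hj0 : (j : ZMod p) ≠ 0 := Units.ne_zero _
    rw [if_neg hiτ, if_neg hj0]
    have : ((j : ZMod p) - i * τ = 0) ↔ j = i * τ := by
      rw [sub_eq_zero, ← Units.val_mul, Units.val_inj]
    simp only [ZMod.card, Finset.sum_const, Finset.card_univ, nsmul_eq_mul, mul_one, this]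
    split_ifs <;> simp
  -- assemble
  have hmain : (p : ℂ) * (p : ℂ) * ((∑ χ, (μ χ i - μ χ 0) * (μ χ j - μ χ 0) : ℤ) : ℂ) =
      (p : ℂ) * ((p : ℂ) * ((Nat.card E : ℂ) + if i * j⁻¹ ∈ E then 1 else 0)) := by
    have e1 : (p : ℂ) * (p : ℂ) * ((∑ χ, (μ χ i - μ χ 0) * (μ χ j - μ χ 0) : ℤ) : ℂ) =
        ∑ χ, (∑ a : (ZMod p)ˣ, D χ a * c i a) * conj (∑ b : (ZMod p)ˣ, D χ b * c j b) := by
      push_cast
      rw [Finset.mul_sum]
      apply Finset.sum_congr rfl
      intro χ _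
      rw [hinv, hinv, map_mul, map_natCast, map_intCast]
      push_cast
      ring
    rw [e1]
    have e2 : ∀ χ : B, (∑ a : (ZMod p)ˣ, D χ a * c i a) * conj (∑ b : (ZMod p)ˣ, D χ b * c j b) =
        ∑ a : (ZMod p)ˣ, ∑ b : (ZMod p)ˣ, (c i a * conj (c j b)) * (D χ a * conj (D χ b)) := by
      intro χ
      rw [map_sum, Finset.sum_mul_sum]
      apply Finset.sum_congr rfl
      intro a _
      apply Finset.sum_congr rfl
      intro b _
      rw [map_mul]
      ring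
    rw [Finset.sum_congr rfl (fun χ _ => e2 χ), Finset.sum_comm]
    have e3 : ∀ a : (ZMod p)ˣ, ∑ χ : B, ∑ b : (ZMod p)ˣ,
        (c i a * conj (c j b)) * (D χ a * conj (D χ b)) =
        ∑ b : (ZMod p)ˣ, (c i a * conj (c j b)) * (if a * b⁻¹ ∈ E then (p : ℂ) else 0) := by
      intro a
      rw [Finset.sum_comm]
      apply Finset.sum_congr rfl
      intro b _
      rw [← Finset.mul_sum, horth]
    rw [Finset.sum_congr rfl (fun a _ => e3 a), Finset.sum_comm]
    -- for fixed `b`, substitute `a = τ b`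
    have e4 : ∀ b : (ZMod p)ˣ, ∑ a : (ZMod p)ˣ,
        (c i a * conj (c j b)) * (if a * b⁻¹ ∈ E then (p : ℂ) else 0) =
        ∑ τ : (ZMod p)ˣ, if τ ∈ E then (p : ℂ) * (c i ((τ * b : (ZMod p)ˣ) : ZMod p) * conj (c j b))
          else 0 := by
      intro b
      apply Fintype.sum_equiv (Equiv.mulRight b⁻¹)
      intro a
      simp only [Equiv.coe_mulRight, inv_mul_cancel_right]
      split_ifs <;> ring
    rw [Finset.sum_congr rfl (fun b _ => e4 b), Finset.sum_comm]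
    have e5 : ∀ τ : (ZMod p)ˣ, ∑ b : (ZMod p)ˣ,
        (if τ ∈ E then (p : ℂ) * (c i ((τ * b : (ZMod p)ˣ) : ZMod p) * conj (c j b)) else 0) =
        if τ ∈ E then (p : ℂ) * ((if j = i * τ then (p : ℂ) else 0) + p) else 0 := by
      intro τ
      by_cases hτ : τ ∈ E
      · simp only [if_pos hτ]
        rw [← Finset.mul_sum, hinner τ]
      · simp only [if_neg hτ]
        simp
    rw [Finset.sum_congr rfl (fun τ _ => e5 τ), ← Finset.sum_filter, ← Finset.mul_sum,
      Finset.sum_add_distrib, Finset.sum_const, nsmul_eq_mul]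
    have hcard : ((Finset.univ.filter (fun τ : (ZMod p)ˣ => τ ∈ E)).card : ℂ) = (Nat.card E : ℂ) := by
      congr 1
      rw [Nat.card_eq_fintype_card, Fintype.card_subtype]
    have hsum : ∑ τ ∈ Finset.univ.filter (fun τ : (ZMod p)ˣ => τ ∈ E),
        (if j = i * τ then (p : ℂ) else 0) = if i * j⁻¹ ∈ E then (p : ℂ) else 0 := by
      have h1 : ∀ τ : (ZMod p)ˣ, (j = i * τ) ↔ (τ = i⁻¹ * j) := by
        intro τ
        constructor
        · rintro rfl
          group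
        · rintro rfl
          group
      simp only [h1]
      rw [Finset.sum_ite_eq']
      simp only [Finset.mem_filter, Finset.mem_univ, true_and]
      have h2 : i⁻¹ * j ∈ E ↔ i * j⁻¹ ∈ E := by
        rw [← inv_mem_iff (x := i⁻¹ * j)]
        simp [mul_comm]
      simp only [h2]
    rw [hsum, hcard]
    split_ifs <;> ring
  have hpp0 : (p : ℂ) * (p : ℂ) ≠ 0 := mul_ne_zero hp0 hp0
  have hfin : ((∑ χ, (μ χ i - μ χ 0) * (μ χ j - μ χ 0) : ℤ) : ℂ) =
      (((Nat.card E : ℤ) + if i * j⁻¹ ∈ E then 1 else 0 : ℤ) : ℂ) := by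
    apply mul_left_cancel₀ hpp0
    rw [hmain]
    push_cast
    ring
  exact_mod_cast hfin

end Cfsg.Agent.Lib.Helper6.Def1AbsGram
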