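import Mathlib
import Cfsg.Agent.Lib.Helper6.Def1AbsGram
import Cfsg.Agent.Lib.Helper6.Def1AbsLat

/-!
helper6: defect-one cluster (S4441/S4442/S4507/S4502/S0960), abstract chunk ABS, the glued statement.

`B` = the block, `μ χ i` = multiplicity of `λ_i × θ` in `χ|_C`, `D χ a` = generalized decomposition number at `x₀^a`,
`E ≤ (ℤ/p)ˣ` = image of the inertial group `T/C`, `f` = degrees.  Output: `|B| ≤ e + (p-1)/e`, and in the case of
equality the exceptional family `ψ`, the signs, all the values `D χ a`, and the linear relation on every column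
orthogonal to the `D`-columns.
-/

set_option autoImplicit false

namespace Cfsg.Agent.Lib.Helper6.Def1AbsMain

open scoped ComplexConjugate
open Cfsg.Agent.Lib.Helper6.Def1AbsGram Cfsg.Agent.Lib.Helper6.Def1AbsLat

/-- A `finsum` over a set of a finite type as a filtered sum. -/
theorem finsum_mem_eq_sum_filter' {α M : Type*} [Fintype α] [AddCommMonoid M] (s : Set α)
    [DecidablePred (· ∈ s)] (f : α → M) :
    ∑ᶠ i ∈ s, f i = ∑ i ∈ Finset.univ.filter (· ∈ s), f i := by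
  rw [finsum_mem_eq_toFinset_sum]
  congr 1
  ext i
  simp

/-- A sum over the units of `ℤ/p`. -/
theorem sum_units_sub {p : ℕ} [Fact p.Prime] (g : ZMod p → ℂ) :
    ∑ a : (ZMod p)ˣ, g (a : ZMod p) = ∑ a : ZMod p, g a - g 0 := by
  classical
  have h1 := sum_units_eq (fun a : ZMod p => if a = 0 then 0 else g a) (by simp)
  have h2 : ∑ a : (ZMod p)ˣ, (fun a : ZMod p => if a = 0 then 0 else g a) (a : ZMod p) =
      ∑ a : (ZMod p)ˣ, g (a : ZMod p) :=
    Finset.sum_congr rfl (fun a _ => if_neg (Units.ne_zero a))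
  rw [← h2, h1]
  have h3 : ∀ a : ZMod p, (if a = 0 then 0 else g a) = g a - if a = 0 then g 0 else 0 := by
    intro a
    split_ifs with h
    · rw [h, sub_self]
    · rw [sub_zero]
  rw [Finset.sum_congr rfl (fun a _ => h3 a), Finset.sum_sub_distrib, Finset.sum_ite_eq' Finset.univ 0,
    if_pos (Finset.mem_univ _)]

variable {B : Type*} [Fintype B] {p : ℕ} [Fact p.Prime] {ζ : ℂ}

/-- The powers of `ζ` over the units sum to `-1`. -/
theorem sum_units_zeta (hζ : IsPrimitiveRoot ζ p) (a : (ZMod p)ˣ) :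
    ∑ k : (ZMod p)ˣ, ζ ^ ((k : ZMod p) * (a : ZMod p)).val = -1 := by
  classical
  set ψ : AddChar (ZMod p) ℂ := AddChar.zmodChar p hζ.pow_eq_one with hψdef
  have hψ : ψ.IsPrimitive := AddChar.zmodChar_primitive_of_primitive_root p hζ
  have h1 := sum_units_sub (fun k : ZMod p => ψ (k * (a : ZMod p)))
  have h2 : ∑ k : ZMod p, ψ (k * (a : ZMod p)) = 0 := by
    rw [AddChar.sum_mulShift _ hψ, if_neg (Units.ne_zero a), Nat.cast_zero]
  simp only [h2, zero_mul, AddChar.map_zero_eq_one, zero_sub] at h1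
  exact h1

omit [Fintype B] in
/-- `D χ a` in terms of the integers `μ χ k - μ χ 0`, `k` a unit. -/
theorem D_eq_sum_units (hζ : IsPrimitiveRoot ζ p) (μ : B → ZMod p → ℤ) (D : B → (ZMod p)ˣ → ℂ)
    (hD : ∀ χ (a : (ZMod p)ˣ), D χ a = ∑ i : ZMod p, (μ χ i : ℂ) * ζ ^ (i * (a : ZMod p)).val)
    (χ : B) (a : (ZMod p)ˣ) :
    D χ a = ∑ k : (ZMod p)ˣ, ((μ χ k - μ χ 0 : ℤ) : ℂ) * ζ ^ ((k : ZMod p) * (a : ZMod p)).val := by
  classical
  set ψ : AddChar (ZMod p) ℂ := AddChar.zmodChar p hζ.pow_eq_one with hψdef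
  have hψ : ψ.IsPrimitive := AddChar.zmodChar_primitive_of_primitive_root p hζ
  have hψa : ∀ x : ZMod p, ζ ^ x.val = ψ x := fun x => rfl
  have h1 := sum_units_eq (fun k : ZMod p => ((μ χ k - μ χ 0 : ℤ) : ℂ) * ψ (k * (a : ZMod p))) (by simp)
  simp only [hψa]
  rw [h1, hD χ a]
  simp only [hψa]
  have h2 : ∑ k : ZMod p, ψ (k * (a : ZMod p)) = 0 := by
    rw [AddChar.sum_mulShift _ hψ, if_neg (Units.ne_zero a), Nat.cast_zero]
  have h3 : ∀ k : ZMod p, ((μ χ k - μ χ 0 : ℤ) : ℂ) * ψ (k * (a : ZMod p)) =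
      (μ χ k : ℂ) * ψ (k * (a : ZMod p)) - (μ χ 0 : ℂ) * ψ (k * (a : ZMod p)) := by
    intro k
    push_cast
    ring
  rw [Finset.sum_congr rfl (fun k _ => h3 k), Finset.sum_sub_distrib, ← Finset.mul_sum, h2, mul_zero,
    sub_zero]

/-- **ABS, the glued statement.** -/
theorem main [DecidableEq B] (hζ : IsPrimitiveRoot ζ p) (E : Subgroup (ZMod p)ˣ)
    (μ : B → ZMod p → ℤ)
    (hμE : ∀ χ, ∀ τ : (ZMod p)ˣ, τ ∈ E → ∀ i : ZMod p, μ χ ((τ : ZMod p) * i) = μ χ i)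
    (D : B → (ZMod p)ˣ → ℂ)
    (hD : ∀ χ (a : (ZMod p)ˣ), D χ a = ∑ i : ZMod p, (μ χ i : ℂ) * ζ ^ (i * (a : ZMod p)).val)
    (horth1 : ∀ a b : (ZMod p)ˣ, a * b⁻¹ ∈ E → ∑ χ, D χ a * conj (D χ b) = (p : ℂ))
    (horth0 : ∀ a b : (ZMod p)ˣ, a * b⁻¹ ∉ E → ∑ χ, D χ a * conj (D χ b) = 0)
    (f : B → ℤ) (hf : ∀ χ, 0 < f χ) (hfD : ∀ a : (ZMod p)ˣ, ∑ χ, D χ a * (f χ : ℂ) = 0)
    (hsupp : ∀ χ, ∃ a : (ZMod p)ˣ, D χ a ≠ 0) :
    Fintype.card B ≤ Nat.card E + (p - 1) / Nat.card E ∧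
    (Fintype.card B = Nat.card E + (p - 1) / Nat.card E →
      ∃ (ε : ℤ) (v : B → ℤ) (ψ : (ZMod p)ˣ → B), (ε = 1 ∨ ε = -1) ∧
        (∀ i j, ψ i = ψ j ↔ i * j⁻¹ ∈ E) ∧
        (∀ χ, χ ∉ Set.range ψ → (v χ = 1 ∨ v χ = -1) ∧ ∀ a : (ZMod p)ˣ, D χ a = (v χ : ℂ)) ∧
        (∀ i a : (ZMod p)ˣ, D (ψ i) a =
          (ε : ℂ) * ∑ᶠ τ : E, ζ ^ (((τ : (ZMod p)ˣ) * i * a : (ZMod p)ˣ) : ZMod p).val) ∧
        (∀ Y : B → ℂ, (∀ a : (ZMod p)ˣ, ∑ χ, D χ a * Y χ = 0) →
          ∀ i, ∑ᶠ χ ∈ (Set.range ψ)ᶜ, (v χ : ℂ) * Y χ = (ε : ℂ) * Y (ψ i))) := by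
  classical
  have hpp : p.Prime := Fact.out
  set e := Nat.card E with he
  have horth : ∀ a b : (ZMod p)ˣ, ∑ χ, D χ a * conj (D χ b) = if a * b⁻¹ ∈ E then (p : ℂ) else 0 := by
    intro a b
    split_ifs with h
    · exact horth1 a b h
    · exact horth0 a b h
  let ι := (ZMod p)ˣ ⧸ E
  have : Fintype ι := Fintype.ofFinite ι
  set A : B → ZMod p → ℤ := fun χ k => μ χ k - μ χ 0 with hA
  set a : B → ι → ℤ := fun χ O => A χ ((Quotient.out O : (ZMod p)ˣ) : ZMod p) with ha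
  have hAinv : ∀ χ (k τ : (ZMod p)ˣ), τ ∈ E → A χ ((k * τ : (ZMod p)ˣ) : ZMod p) = A χ k := by
    intro χ k τ hτ
    simp only [hA]
    rw [mul_comm k τ, Units.val_mul, hμE χ τ hτ]
  have hAout : ∀ χ (k : (ZMod p)ˣ), a χ (QuotientGroup.mk k) = A χ k := by
    intro χ k
    obtain ⟨h, hh⟩ := QuotientGroup.mk_out_eq_mul E k
    simp only [ha]
    rw [hh]
    exact hAinv χ k h h.2
  have hmem : ∀ O O' : ι, (Quotient.out O : (ZMod p)ˣ) * (Quotient.out O')⁻¹ ∈ E ↔ O = O' := by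
    intro O O'
    have h1 : O = O' ↔ (QuotientGroup.mk (Quotient.out O) : ι) = QuotientGroup.mk (Quotient.out O') := by
      rw [QuotientGroup.out_eq', QuotientGroup.out_eq']
    rw [h1, QuotientGroup.eq, ← inv_mem_iff (x := (Quotient.out O)⁻¹ * Quotient.out O')]
    simp [mul_comm]
  have hgram' : ∀ O O' : ι, ∑ χ, a χ O * a χ O' = (e : ℤ) + if O = O' then 1 else 0 := by
    intro O O'
    have h1 := gram hζ E μ D hD horth (Quotient.out O) (Quotient.out O')
    simp only [ha, hA]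
    rw [h1]
    congr 1
    simp only [hmem]
  have hsupp' : ∀ χ, ∃ O, a χ O ≠ 0 := by
    intro χ
    by_contra hcon
    push Not at hcon
    obtain ⟨b, hb⟩ := hsupp χ
    apply hb
    rw [D_eq_sum_units hζ μ D hD χ b]
    apply Finset.sum_eq_zero
    intro k _
    have : A χ k = 0 := by rw [← hAout χ k]; exact hcon _
    simp only [hA] at this
    rw [this, Int.cast_zero, zero_mul]
  have hcardι : Fintype.card ι = (p - 1) / e := by
    have h1 := Subgroup.card_eq_card_quotient_mul_card_subgroup E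
    rw [Nat.card_eq_fintype_card (α := (ZMod p)ˣ), ZMod.card_units p, Nat.card_eq_fintype_card (α := ι)] at h1
    have he0 : 0 < e := Nat.card_pos
    rw [h1]
    exact (Nat.mul_div_cancel _ he0).symm
  refine ⟨?_, ?_⟩
  · have := card_le e a hgram' hsupp'
    rwa [hcardι] at this
  intro hcard
  obtain ⟨ψ', s, v', hinj, hs, hv', hrow, hconst⟩ :=
    shape_of_card_eq e a hgram' hsupp' (by rw [hcardι]; exact hcard)
  -- the row expansion
  have hexp : ∀ (Y : B → ℂ) (O : ι), ∑ χ, (a χ O : ℂ) * Y χ =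
      ∑ χ ∈ Finset.univ.filter (fun χ => χ ∉ Set.range ψ'), (v' χ : ℂ) * Y χ + (s O : ℂ) * Y (ψ' O) := by
    intro Y O
    rw [← Finset.sum_filter_add_sum_filter_not Finset.univ (fun χ => χ ∉ Set.range ψ')]
    congr 1
    · apply Finset.sum_congr rfl
      intro χ hχ
      rw [hconst χ (Finset.mem_filter.mp hχ).2 O]
    · have h1 : Finset.univ.filter (fun χ => ¬ χ ∉ Set.range ψ') = Finset.univ.image ψ' := by
        ext χ
        simp [Set.mem_range]
      rw [h1, Finset.sum_image (fun x _ y _ h => hinj h)]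
      have h2 : ∀ O' : ι, (a (ψ' O') O : ℂ) * Y (ψ' O') = if O' = O then (s O : ℂ) * Y (ψ' O) else 0 := by
        intro O'
        rw [hrow O' O]
        split_ifs with h
        · rw [h]
        · rw [Int.cast_zero, zero_mul]
      rw [Finset.sum_congr rfl (fun O' _ => h2 O'), Finset.sum_ite_eq' Finset.univ O,
        if_pos (Finset.mem_univ _)]
  have hrel : ∀ Y : B → ℂ, (∀ b : (ZMod p)ˣ, ∑ χ, D χ b * Y χ = 0) → ∀ O : ι,
      ∑ χ ∈ Finset.univ.filter (fun χ => χ ∉ Set.range ψ'), (v' χ : ℂ) * Y χ + (s O : ℂ) * Y (ψ' O) = 0 := by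
    intro Y hY O
    rw [← hexp Y O]
    exact sum_sub_mul hζ μ D hD Y hY ((Quotient.out O : (ZMod p)ˣ) : ZMod p)
  -- the common sign
  set K : ℤ := ∑ χ ∈ Finset.univ.filter (fun χ => χ ∉ Set.range ψ'), v' χ * f χ with hK
  have hsf : ∀ O : ι, s O * f (ψ' O) = -K := by
    intro O
    have h1 := hrel (fun χ => (f χ : ℂ)) hfD O
    have h2 : ((K + s O * f (ψ' O) : ℤ) : ℂ) = 0 := by
      rw [← h1, hK]
      push_cast
      rfl
    have h3 : K + s O * f (ψ' O) = 0 := by exact_mod_cast h2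
    linarith
  have hsign : ∀ O O' : ι, s O = s O' := by
    intro O O'
    have h1 := hsf O
    have h2 := hsf O'
    have hf1 := hf (ψ' O)
    have hf2 := hf (ψ' O')
    rcases hs O with h | h <;> rcases hs O' with h' | h' <;> rw [h, h'] <;> rw [h] at h1 <;>
      rw [h'] at h2 <;> first | rfl | (exfalso; linarith)
  set O₀ : ι := QuotientGroup.mk 1 with hO₀
  refine ⟨s O₀, fun χ => -v' χ, fun k => ψ' (QuotientGroup.mk k), hs O₀, ?_, ?_, ?_, ?_⟩
  · intro i j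
    rw [hinj.eq_iff, QuotientGroup.eq, ← inv_mem_iff (x := i⁻¹ * j)]
    simp [mul_comm]
  · intro χ hχ
    have hχ' : χ ∉ Set.range ψ' := by
      rintro ⟨O, rfl⟩
      apply hχ
      exact ⟨Quotient.out O, by simp⟩
    refine ⟨?_, ?_⟩
    · show -v' χ = 1 ∨ -v' χ = -1
      rcases hv' χ hχ' with h | h <;> rw [h] <;> simp
    · intro b
      rw [D_eq_sum_units hζ μ D hD χ b]
      have h1 : ∀ k : (ZMod p)ˣ, ((μ χ k - μ χ 0 : ℤ) : ℂ) = (v' χ : ℂ) := by
        intro k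
        have := hAout χ k
        simp only [hA] at this
        rw [← this, hconst χ hχ']
      rw [Finset.sum_congr rfl (fun k _ => by rw [h1 k]), ← Finset.mul_sum, sum_units_zeta hζ b]
      push_cast
      ring
  · intro i b
    rw [D_eq_sum_units hζ μ D hD _ b]
    have h1 : ∀ k : (ZMod p)ˣ, ((μ (ψ' (QuotientGroup.mk i)) k - μ (ψ' (QuotientGroup.mk i)) 0 : ℤ) : ℂ) =
        if k * i⁻¹ ∈ E then (s O₀ : ℂ) else 0 := by
      intro k
      have := hAout (ψ' (QuotientGroup.mk i)) k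
      simp only [hA] at this
      rw [← this, hrow]
      have h2 : ((QuotientGroup.mk i : ι) = QuotientGroup.mk k) ↔ k * i⁻¹ ∈ E := by
        rw [QuotientGroup.eq, mul_comm]
      simp only [h2]
      split_ifs
      · rw [hsign (QuotientGroup.mk i) O₀]
      · exact Int.cast_zero
    rw [Finset.sum_congr rfl (fun k _ => by rw [h1 k])]
    have h3 : ∑ k : (ZMod p)ˣ, (if k * i⁻¹ ∈ E then (s O₀ : ℂ) else 0) *
        ζ ^ ((k : ZMod p) * (b : ZMod p)).val =
        ∑ τ : (ZMod p)ˣ, if τ ∈ E then (s O₀ : ℂ) * ζ ^ ((τ * i * b : (ZMod p)ˣ) : ZMod p).val else 0 := by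
      apply Fintype.sum_equiv (Equiv.mulRight i⁻¹)
      intro k
      simp only [Equiv.coe_mulRight, inv_mul_cancel_right]
      split_ifs
      · rw [Units.val_mul]
      · rw [zero_mul]
    rw [h3, finsum_eq_sum_of_fintype, ← Finset.sum_filter, Finset.mul_sum]
    exact (Finset.sum_subtype (Finset.univ.filter (fun τ : (ZMod p)ˣ => τ ∈ E)) (by simp)
      (fun τ => (s O₀ : ℂ) * ζ ^ ((τ * i * b : (ZMod p)ˣ) : ZMod p).val))
  · intro Y hY i
    have h1 := hrel Y hY (QuotientGroup.mk i)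
    have hrange : Set.range (fun k : (ZMod p)ˣ => ψ' (QuotientGroup.mk k)) = Set.range ψ' := by
      ext χ
      constructor
      · rintro ⟨k, rfl⟩
        exact ⟨_, rfl⟩
      · rintro ⟨O, rfl⟩
        exact ⟨Quotient.out O, by simp⟩
    rw [hrange, finsum_mem_eq_sum_filter']
    have h2 : ∑ χ ∈ Finset.univ.filter (fun χ => χ ∈ (Set.range ψ')ᶜ), ((-v' χ : ℤ) : ℂ) * Y χ =
        -∑ χ ∈ Finset.univ.filter (fun χ => χ ∉ Set.range ψ'), (v' χ : ℂ) * Y χ := by
      rw [← Finset.sum_neg_distrib]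
      apply Finset.sum_congr
      · ext χ
        simp
      · intro χ _
        push_cast
        ring
    rw [h2, ← hsign (QuotientGroup.mk i) O₀]
    linear_combination -h1

end Cfsg.Agent.Lib.Helper6.Def1AbsMain
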