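import Mathlib
import Cfsg.Agent.Lib.Helper6.Def1AbsLat
import Cfsg.Agent.Lib.Helper6.Def1AbsMain

/-!
helper6: defect-one cluster, Part O leaf DO-MAINGRAM (`main_of_gram`): the abstract lattice statement with the Gram
matrix of the integer columns `μ χ i - μ χ 0` as input (refactor of `Def1AbsMain.main`).
-/

set_option autoImplicit false

namespace Cfsg.Agent.Lib.Helper6.DOMAINGRAM

open Cfsg.Agent.Lib.Helper6.Def1AbsLat Cfsg.Agent.Lib.Helper6.Def1AbsMain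

/-- MAINGRAM : helper6's `Def1AbsMain.main` with the Gram matrix of the integer columns as input. -/
theorem main_of_gram {B : Type*} [Fintype B] [DecidableEq B] {p : ℕ} [Fact p.Prime]
    (E : Subgroup (ZMod p)ˣ) (μ : B → ZMod p → ℤ)
    (hμE : ∀ χ, ∀ τ : (ZMod p)ˣ, τ ∈ E → ∀ i : ZMod p, μ χ ((τ : ZMod p) * i) = μ χ i)
    (hgram1 : ∀ i j : (ZMod p)ˣ, i * j⁻¹ ∈ E →
      ∑ χ, (μ χ i - μ χ 0) * (μ χ j - μ χ 0) = (Nat.card E : ℤ) + 1)
    (hgram0 : ∀ i j : (ZMod p)ˣ, i * j⁻¹ ∉ E →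
      ∑ χ, (μ χ i - μ χ 0) * (μ χ j - μ χ 0) = (Nat.card E : ℤ))
    (f : B → ℤ) (hf : ∀ χ, 0 < f χ)
    (hfA : ∀ i : (ZMod p)ˣ, ∑ χ, (μ χ i - μ χ 0) * f χ = 0)
    (hsupp : ∀ χ, ∃ i : (ZMod p)ˣ, μ χ i - μ χ 0 ≠ 0) :
    Fintype.card B ≤ Nat.card E + (p - 1) / Nat.card E ∧
    (Fintype.card B = Nat.card E + (p - 1) / Nat.card E →
      ∃ (ε : ℤ) (v : B → ℤ) (ψ : (ZMod p)ˣ → B), (ε = 1 ∨ ε = -1) ∧
        (∀ i j, ψ i = ψ j ↔ i * j⁻¹ ∈ E) ∧
        (∀ χ, χ ∉ Set.range ψ → (v χ = 1 ∨ v χ = -1) ∧ ∀ k : (ZMod p)ˣ, μ χ k - μ χ 0 = - v χ) ∧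
        (∀ i k : (ZMod p)ˣ, (k * i⁻¹ ∈ E → μ (ψ i) k - μ (ψ i) 0 = ε) ∧
          (k * i⁻¹ ∉ E → μ (ψ i) k - μ (ψ i) 0 = 0)) ∧
        (∀ Y : B → ℂ, (∀ k : (ZMod p)ˣ, ∑ χ, ((μ χ k - μ χ 0 : ℤ) : ℂ) * Y χ = 0) →
          ∀ i, ∑ᶠ χ ∈ (Set.range ψ)ᶜ, (v χ : ℂ) * Y χ = (ε : ℂ) * Y (ψ i))) := by
  classical
  have hpp : p.Prime := Fact.out
  set e := Nat.card E with he
  let ι := (ZMod p)ˣ ⧸ E
  have : Fintype ι := Fintype.ofFinite ι
  set A : B → ZMod p → ℤ := fun χ k => μ χ k - μ χ 0 with hA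
  set a : B → ι → ℤ := fun χ O => A χ ((Quotient.out O : (ZMod p)ˣ) : ZMod p) with ha
  have hAinv : ∀ χ (k τ : (ZMod p)ˣ), τ ∈ E → A χ ((k * τ : (ZMod p)ˣ) : ZMod p) = A χ k := by
    intro χ k τ hτ
    simp only [hA]
    rw [mul_comm k τ, Units.val_mul, hμE χ τ hτ]
  have hAout : ∀ χ (k : (ZMod p)ˣ), a χ (QuotientGroup.mk k) = A χ k := by
    intro χ k
    obtain ⟨h, hh⟩ := QuotientGroup.mk_out_eq_mul E k
    simp only [ha]
    rw [hh]
    exact hAinv χ k h h.2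
  have hmem : ∀ O O' : ι, (Quotient.out O : (ZMod p)ˣ) * (Quotient.out O')⁻¹ ∈ E ↔ O = O' := by
    intro O O'
    have h1 : O = O' ↔ (QuotientGroup.mk (Quotient.out O) : ι) = QuotientGroup.mk (Quotient.out O') := by
      rw [QuotientGroup.out_eq', QuotientGroup.out_eq']
    rw [h1, QuotientGroup.eq, ← inv_mem_iff (x := (Quotient.out O)⁻¹ * Quotient.out O')]
    simp [mul_comm]
  have hgram' : ∀ O O' : ι, ∑ χ, a χ O * a χ O' = (e : ℤ) + if O = O' then 1 else 0 := by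
    intro O O'
    simp only [ha, hA]
    by_cases h : O = O'
    · rw [if_pos h]
      exact hgram1 _ _ ((hmem O O').mpr h)
    · rw [if_neg h, add_zero]
      exact hgram0 _ _ (fun hh => h ((hmem O O').mp hh))
  have hsupp' : ∀ χ, ∃ O, a χ O ≠ 0 := by
    intro χ
    obtain ⟨b, hb⟩ := hsupp χ
    refine ⟨QuotientGroup.mk b, ?_⟩
    rw [hAout χ b]
    exact hb
  have hcardι : Fintype.card ι = (p - 1) / e := by
    have h1 := Subgroup.card_eq_card_quotient_mul_card_subgroup E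
    rw [Nat.card_eq_fintype_card (α := (ZMod p)ˣ), ZMod.card_units p, Nat.card_eq_fintype_card (α := ι)] at h1
    have he0 : 0 < e := Nat.card_pos
    rw [h1]
    exact (Nat.mul_div_cancel _ he0).symm
  refine ⟨?_, ?_⟩
  · have := card_le e a hgram' hsupp'
    rwa [hcardι] at this
  intro hcard
  obtain ⟨ψ', s, v', hinj, hs, hv', hrow, hconst⟩ :=
    shape_of_card_eq e a hgram' hsupp' (by rw [hcardι]; exact hcard)
  -- the row expansion
  have hexp : ∀ (Y : B → ℂ) (O : ι), ∑ χ, (a χ O : ℂ) * Y χ =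
      ∑ χ ∈ Finset.univ.filter (fun χ => χ ∉ Set.range ψ'), (v' χ : ℂ) * Y χ + (s O : ℂ) * Y (ψ' O) := by
    intro Y O
    rw [← Finset.sum_filter_add_sum_filter_not Finset.univ (fun χ => χ ∉ Set.range ψ')]
    congr 1
    · apply Finset.sum_congr rfl
      intro χ hχ
      rw [hconst χ (Finset.mem_filter.mp hχ).2 O]
    · have h1 : Finset.univ.filter (fun χ => ¬ χ ∉ Set.range ψ') = Finset.univ.image ψ' := by
        ext χ
        simp [Set.mem_range]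
      rw [h1, Finset.sum_image (fun x _ y _ h => hinj h)]
      have h2 : ∀ O' : ι, (a (ψ' O') O : ℂ) * Y (ψ' O') = if O' = O then (s O : ℂ) * Y (ψ' O) else 0 := by
        intro O'
        rw [hrow O' O]
        split_ifs with h
        · rw [h]
        · rw [Int.cast_zero, zero_mul]
      rw [Finset.sum_congr rfl (fun O' _ => h2 O'), Finset.sum_ite_eq' Finset.univ O,
        if_pos (Finset.mem_univ _)]
  have hrel : ∀ Y : B → ℂ, (∀ k : (ZMod p)ˣ, ∑ χ, ((μ χ k - μ χ 0 : ℤ) : ℂ) * Y χ = 0) → ∀ O : ι,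
      ∑ χ ∈ Finset.univ.filter (fun χ => χ ∉ Set.range ψ'), (v' χ : ℂ) * Y χ + (s O : ℂ) * Y (ψ' O) = 0 := by
    intro Y hY O
    rw [← hexp Y O]
    exact hY (Quotient.out O : (ZMod p)ˣ)
  -- the common sign
  set K : ℤ := ∑ χ ∈ Finset.univ.filter (fun χ => χ ∉ Set.range ψ'), v' χ * f χ with hK
  have hfA' : ∀ k : (ZMod p)ˣ, ∑ χ, ((μ χ k - μ χ 0 : ℤ) : ℂ) * ((f χ : ℤ) : ℂ) = 0 := by
    intro k
    have := hfA k
    have h2 : ((∑ χ, (μ χ k - μ χ 0) * f χ : ℤ) : ℂ) = 0 := by rw [this]; simp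
    rw [← h2]
    push_cast
    rfl
  have hsf : ∀ O : ι, s O * f (ψ' O) = -K := by
    intro O
    have h1 := hrel (fun χ => (f χ : ℂ)) hfA' O
    have h2 : ((K + s O * f (ψ' O) : ℤ) : ℂ) = 0 := by
      rw [← h1, hK]
      push_cast
      rfl
    have h3 : K + s O * f (ψ' O) = 0 := by exact_mod_cast h2
    linarith
  have hsign : ∀ O O' : ι, s O = s O' := by
    intro O O'
    have h1 := hsf O
    have h2 := hsf O'
    have hf1 := hf (ψ' O)
    have hf2 := hf (ψ' O')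
    rcases hs O with h | h <;> rcases hs O' with h' | h' <;> rw [h, h'] <;> rw [h] at h1 <;>
      rw [h'] at h2 <;> first | rfl | (exfalso; linarith)
  set O₀ : ι := QuotientGroup.mk 1 with hO₀
  refine ⟨s O₀, fun χ => -v' χ, fun k => ψ' (QuotientGroup.mk k), hs O₀, ?_, ?_, ?_, ?_⟩
  · intro i j
    rw [hinj.eq_iff, QuotientGroup.eq, ← inv_mem_iff (x := i⁻¹ * j)]
    simp [mul_comm]
  · intro χ hχ
    have hχ' : χ ∉ Set.range ψ' := by
      rintro ⟨O, rfl⟩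
      apply hχ
      exact ⟨Quotient.out O, by simp⟩
    refine ⟨?_, ?_⟩
    · show -v' χ = 1 ∨ -v' χ = -1
      rcases hv' χ hχ' with h | h <;> rw [h] <;> simp
    · intro k
      have := hAout χ k
      simp only [hA] at this
      rw [← this, hconst χ hχ', neg_neg]
  · intro i k
    have h0 := hAout (ψ' (QuotientGroup.mk i)) k
    simp only [hA] at h0
    have h2 : ((QuotientGroup.mk i : ι) = QuotientGroup.mk k) ↔ k * i⁻¹ ∈ E := by
      rw [QuotientGroup.eq, mul_comm]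
    refine ⟨fun hk => ?_, fun hk => ?_⟩
    · show μ (ψ' (QuotientGroup.mk i)) k - μ (ψ' (QuotientGroup.mk i)) 0 = s O₀
      rw [← h0, hrow, if_pos (h2.mpr hk), hsign (QuotientGroup.mk i) O₀]
    · show μ (ψ' (QuotientGroup.mk i)) k - μ (ψ' (QuotientGroup.mk i)) 0 = 0
      rw [← h0, hrow, if_neg (fun hh => hk (h2.mp hh))]
  · intro Y hY i
    have h1 := hrel Y hY (QuotientGroup.mk i)
    have hrange : Set.range (fun k : (ZMod p)ˣ => ψ' (QuotientGroup.mk k)) = Set.range ψ' := by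
      ext χ
      constructor
      · rintro ⟨k, rfl⟩
        exact ⟨_, rfl⟩
      · rintro ⟨O, rfl⟩
        exact ⟨Quotient.out O, by simp⟩
    rw [hrange, finsum_mem_eq_sum_filter']
    have h2 : ∑ χ ∈ Finset.univ.filter (fun χ => χ ∈ (Set.range ψ')ᶜ), ((-v' χ : ℤ) : ℂ) * Y χ =
        -∑ χ ∈ Finset.univ.filter (fun χ => χ ∉ Set.range ψ'), (v' χ : ℂ) * Y χ := by
      rw [← Finset.sum_neg_distrib]
      apply Finset.sum_congr
      · ext χ
        simp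
      · intro χ _
        push_cast
        ring
    rw [h2, ← hsign (QuotientGroup.mk i) O₀]
    linear_combination -h1

end Cfsg.Agent.Lib.Helper6.DOMAINGRAM
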