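/-
helper6: S4705 (Brauer 1966: `|P| = p > 5` Sylow, not normal, a faithful irreducible character of degree `p - 2`
⇒ `p = 2^a + 1`, `G ≅ SL(2, 2^a) × Z(G)`), market "BS", vocabulary (`notes/S4705_math_helper6.md`, `notes/S4705_leaves.lean`).

`P = ⟨x0⟩ ≤ G` a Sylow `p`-subgroup of order `p`, `C = Cz P`, `N = Nz P`, `|N : C| = 2`, `C = P × Z(G)`.
A block of defect one with inertial index `2` whose root is a linear `N`-stable character of `C` consists of two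
non-exceptional characters `η₁, η₂` (constant `v₁, v₂ = ±1` on `P \ 1`) and `(p-1)/2` exceptional characters
`ψs i = ψs (-i)` with `ψs i (x0^j) = ε (ζ^(ij) + ζ^(-ij))`, and `ε ψs i = v₁ η₁ + v₂ η₂` on the `p`-regular elements.
* `TwoVals p P x0 η₁ η₂ v₁ v₂ ψs ε` : the explicit form (output of the block theory);
* `TwoBlock p P η₁ η₂ v₁ v₂ Y ε`    : the form used by the class-algebra computation (`Y = Set.range ψs`).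
-/
import Mathlib
import Cfsg.Prelude.Def_BlockRank
import Cfsg.Agent.Lib.Helper6.BRHDefs

set_option autoImplicit false

namespace Cfsg.Agent.Lib.Helper6.BS

open Cfsg Cfsg.Agent.Lib.Helper8.DOM Cfsg.Agent.Lib.Helper27.DO Cfsg.Agent.CharLib
open scoped ComplexConjugate

universe u

variable {G : Type u} [Group G]

/-- a block with two non-exceptional characters and inertial index two: explicit values on `P \ 1` -/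
structure TwoVals (p : ℕ) (P : Subgroup G) (x0 : G) (η₁ η₂ : IrrCharacter G) (v₁ v₂ : ℤ)
    (ψs : (ZMod p)ˣ → IrrCharacter G) (ε : ℤ) : Prop where
  gen : P = Subgroup.zpowers x0
  sgn1 : v₁ = 1 ∨ v₁ = -1
  sgn2 : v₂ = 1 ∨ v₂ = -1
  sgn : ε = 1 ∨ ε = -1
  ne : η₁ ≠ η₂
  notY1 : ∀ i : (ZMod p)ˣ, ψs i ≠ η₁
  notY2 : ∀ i : (ZMod p)ˣ, ψs i ≠ η₂
  eqY : ∀ i j : (ZMod p)ˣ, ψs i = ψs j ↔ (i = j ∨ i = -j)
  val1 : ∀ j : ℕ, ¬ p ∣ j → (η₁ : G → ℂ) (x0 ^ j) = (v₁ : ℂ)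
  val2 : ∀ j : ℕ, ¬ p ∣ j → (η₂ : G → ℂ) (x0 ^ j) = (v₂ : ℂ)
  valY : ∀ (i : (ZMod p)ˣ) (j : ℕ), ¬ p ∣ j → (ψs i : G → ℂ) (x0 ^ j) =
    (ε : ℂ) * (zetaP p ^ ((i : ZMod p).val * j) + zetaP p ^ ((-(i : ZMod p)).val * j))
  relY : ∀ (i : (ZMod p)ˣ) (g : G), ¬ p ∣ orderOf g →
    (ε : ℂ) * (ψs i : G → ℂ) g = (v₁ : ℂ) * (η₁ : G → ℂ) g + (v₂ : ℂ) * (η₂ : G → ℂ) g

/-- the same block, in the form used by the class-algebra computation -/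
structure TwoBlock (p : ℕ) (P : Subgroup G) (η₁ η₂ : IrrCharacter G) (v₁ v₂ : ℤ)
    (Y : Set (IrrCharacter G)) (ε : ℤ) : Prop where
  sgn1 : v₁ = 1 ∨ v₁ = -1
  sgn2 : v₂ = 1 ∨ v₂ = -1
  sgn : ε = 1 ∨ ε = -1
  ne : η₁ ≠ η₂
  notY1 : η₁ ∉ Y
  notY2 : η₂ ∉ Y
  neY : Y.Nonempty
  val1 : ∀ x ∈ P, x ≠ 1 → (η₁ : G → ℂ) x = (v₁ : ℂ)
  val2 : ∀ x ∈ P, x ≠ 1 → (η₂ : G → ℂ) x = (v₂ : ℂ)
  sumY : ∀ x ∈ P, x ≠ 1 → ∑ᶠ ψ ∈ Y, (ψ : G → ℂ) x = -(ε : ℂ)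
  normY : ∀ x ∈ P, x ≠ 1 → ∑ᶠ ψ ∈ Y, Complex.normSq ((ψ : G → ℂ) x) = (p : ℝ) - 2
  psumY : ∀ ψ ∈ Y, ∑ᶠ x ∈ {x : G | x ∈ P ∧ x ≠ 1}, (ψ : G → ℂ) x = -(ε : ℂ) * 2
  relY : ∀ ψ ∈ Y, ∀ g : G, ¬ p ∣ orderOf g →
    (ε : ℂ) * (ψ : G → ℂ) g = (v₁ : ℂ) * (η₁ : G → ℂ) g + (v₂ : ℂ) * (η₂ : G → ℂ) g

end Cfsg.Agent.Lib.Helper6.BS
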