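/-
helper6: tools for the leaves BRC-OUT / BRC-APX / BRC-SUMSQ of helper24's Brauer-Reynolds core (`notes/S0999_leaves.lean`):
* `aP_eq_of`          : `aP P χ = k` from `∑_{x ∈ P} χ(x) = |P| k`;
* `finsum_P_split`    : `∑_{x ∈ P} F(x) = F(1) + ∑_{x ∈ P#} F(x)`;
* `v_triv`            : `v 1_G = 1` in `B0`;
* `exists_conj_mem`   : (`C_G(P) = P`) every `p`-singular element is conjugate to an element of `P#`;
* `card_Nz`           : (`C_G(P) = P`) `|N_G(P)| = f p`;
* `sum_singular`      : (`C_G(P) = P`) for a class function `F` vanishing on the `p`-regular elements,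
                        `f ∑_g F(g) = (|G| / p) ∑_{x ∈ P#} F(x)`.
-/
import Mathlib
import Cfsg.Prelude.Def_BlockRank
import Cfsg.Agent.Lib.Helper24.BRCDefs
import Cfsg.Agent.Lib.Helper29.DOTI
import Cfsg.Agent.Lib.Helper29.DOSECTION
import Cfsg.Agent.Lib.Helper10.DOGRAMCore
import Cfsg.Agent.Lib.Lead.CharInd
import Cfsg.Agent.Lib.Lead.CharMain

set_option autoImplicit false

namespace Cfsg.Agent.Lib.Helper6.BRCTools

open Cfsg Cfsg.Agent.Lib.Helper8.DOM Cfsg.Agent.Lib.Helper27.DO Cfsg.Agent.CharLib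
open Cfsg.Agent.Lib.Helper6.BRH Cfsg.Agent.Lib.Helper24.BRC
open scoped ComplexConjugate

universe u

variable {G : Type u} [Group G] [Finite G] {p : ℕ} [Fact p.Prime]

/-- `aP P χ = k` from the sum over `P` -/
theorem aP_eq_of (P : Subgroup G) (χ : IrrCharacter G) (k : ℕ)
    (h : ∑ᶠ x ∈ (P : Set G), (χ : G → ℂ) x = (Nat.card P : ℂ) * (k : ℂ)) : aP P χ = k := by
  unfold aP
  rw [h, ← mul_assoc, inv_mul_cancel₀ (Nat.cast_ne_zero.mpr Nat.card_pos.ne'), one_mul]
  simp

/-- splitting off the identity -/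
theorem finsum_P_split (P : Subgroup G) (F : G → ℂ) :
    ∑ᶠ x ∈ (P : Set G), F x = F 1 + ∑ᶠ x ∈ {x : G | x ∈ P ∧ x ≠ 1}, F x := by
  have h1 : (P : Set G) = insert (1 : G) {x : G | x ∈ P ∧ x ≠ 1} := by
    ext x
    simp only [Set.mem_insert_iff, Set.mem_ofPred_eq, SetLike.mem_coe]
    constructor
    · intro hx
      by_cases h : x = 1
      · exact Or.inl h
      · exact Or.inr ⟨hx, h⟩
    · rintro (rfl | ⟨hx, -⟩)
      · exact P.one_mem
      · exact hx
  rw [h1, finsum_mem_insert _ (by simp) (Set.toFinite _)]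

/-- `v 1_G = 1` -/
theorem v_triv (P : Subgroup G) (hP : Nat.card P = p) {X Y : Set (IrrCharacter G)}
    {v : IrrCharacter G → ℤ} {ε : ℤ} (d : B0 p P X Y v ε) : v (trivIrr G) = 1 := by
  have hpp : p.Prime := Fact.out
  have hnt : Nontrivial P := by
    rw [← Finite.one_lt_card_iff_nontrivial, hP]
    exact hpp.one_lt
  obtain ⟨x, hx⟩ := exists_ne (1 : P)
  have hx1 : (x : G) ≠ 1 := fun h => hx (Subtype.ext h)
  have hord := Cfsg.Agent.Lib.Helper29.DOTI.orderOf_eq_of_mem P hP x.2 hx1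
  have h1 := d.valX (trivIrr G) d.trivX (x : G) (by rw [hord])
  have h2 : ((trivIrr G : IrrCharacter G) : G → ℂ) (x : G) = 1 := rfl
  rw [h2] at h1
  exact_mod_cast h1.symm

/-- every `p`-singular element is conjugate to an element of `P#` when `C_G(P) = P` -/
theorem exists_conj_mem (P : Subgroup G) (hP : Nat.card P = p) (hSyl : ¬ p ∣ P.index)
    (hC : Cz P = P) (g : G) (hg : p ∣ orderOf g) :
    ∃ t x : G, x ∈ P ∧ x ≠ 1 ∧ t * g * t⁻¹ = x := by
  have hpp : p.Prime := Fact.out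
  obtain ⟨t, x, y, hxP, hx1, hyC, hyreg, hconj⟩ :=
    Cfsg.Agent.Lib.Helper29.DOSECTION.exists_section P hP hSyl g hg
  rw [hC] at hyC
  have hy1 : y = 1 := by
    have h1 : orderOf y ∣ p := hP ▸ Subgroup.orderOf_dvd_natCard P hyC
    rcases (Nat.dvd_prime hpp).mp h1 with h | h
    · exact orderOf_eq_one_iff.mp h
    · exact absurd (by rw [h]) hyreg
  refine ⟨t, x, hxP, hx1, ?_⟩
  rw [hconj, hy1, mul_one]

omit [Finite G] [Fact (Nat.Prime p)] in
/-- `|N_G(P)| = f p` when `C_G(P) = P` -/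
theorem card_Nz (P : Subgroup G) (hP : Nat.card P = p) (hC : Cz P = P) :
    Nat.card (Nz P) = fI P * p := by
  have hle : Cz P ≤ Nz P := by
    rw [hC]
    exact Subgroup.le_normalizer
  have h1 := Subgroup.relIndex_mul_relIndex ⊥ (Cz P) (Nz P) bot_le hle
  rw [Subgroup.relIndex_bot_left, Subgroup.relIndex_bot_left, hC, hP] at h1
  rw [← h1, mul_comm]
  congr 2
  rw [hC]

/-- the indicator of `P#` on `P` -/
noncomputable def delta (P : Subgroup G) : P → ℂ := by
  classical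
  exact fun x => if (x : G) = 1 then 0 else 1

/-- the function induced from the indicator of `P#` is `f` on the `p`-singular elements -/
theorem indFun_delta [Fintype G] (P : Subgroup G) (hP : Nat.card P = p) (hSyl : ¬ p ∣ P.index)
    (hC : Cz P = P) (g : G) (hg : p ∣ orderOf g) : indFun P (delta P) g = (fI P : ℂ) := by
  classical
  let _ : Fintype (Nz P) := Fintype.ofFinite _
  have hpp : p.Prime := Fact.out
  obtain ⟨t, x, hxP, hx1, hconj⟩ := exists_conj_mem P hP hSyl hC g hg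
  have hcf := indFun_isClassFunction P (delta P)
  rw [← hcf g t, hconj]
  have hTI : ∀ c ∈ {x : G | x ∈ P ∧ x ≠ 1}, ∀ g : G, g * c * g⁻¹ ∈ {x : G | x ∈ P ∧ x ≠ 1} →
      g ∈ Nz P := by
    rintro c ⟨hc, hc1⟩ g ⟨hg, -⟩
    exact Cfsg.Agent.Lib.Helper29.DOTI.mem_Nz_of_conj_mem_P P hP hc hc1 hg
  have hδ : ∀ c : P, (c : G) ∉ {x : G | x ∈ P ∧ x ≠ 1} → delta P c = 0 := by
    intro c hc
    have hc1 : (c : G) = 1 := by
      by_contra h
      exact hc ⟨c.2, h⟩
    unfold delta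
    rw [if_pos hc1]
  rw [Cfsg.Agent.Lib.Helper10.DOGRAMCore.indFun_apply_of_TI' P (Nz P) _ hTI (delta P) hδ x
    ⟨hxP, hx1⟩]
  have h1 : ∀ n : Nz P, extendByZero P (delta P) ((n : G) * x * (n : G)⁻¹) = 1 := by
    intro n
    have hmem : (n : G) * x * (n : G)⁻¹ ∈ P := (Subgroup.mem_normalizer_iff.mp n.2 x).mp hxP
    have hne : (n : G) * x * (n : G)⁻¹ ≠ 1 := by
      intro h
      apply hx1
      have : x = (n : G)⁻¹ * ((n : G) * x * (n : G)⁻¹) * (n : G) := by group
      rw [this, h]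
      group
    have h2 := extendByZero_apply_coe P (delta P) ⟨_, hmem⟩
    rw [h2]
    unfold delta
    rw [if_neg hne]
  rw [Finset.sum_congr rfl (fun n _ => h1 n), Finset.sum_const, Finset.card_univ, nsmul_eq_mul,
    mul_one, ← Nat.card_eq_fintype_card, card_Nz P hP hC, hP]
  push_cast
  have hp0 : (p : ℂ) ≠ 0 := Nat.cast_ne_zero.mpr hpp.ne_zero
  field_simp

/-- the sum of a class function vanishing on the `p`-regular elements -/
theorem sum_singular [Fintype G] (P : Subgroup G) (hP : Nat.card P = p) (hSyl : ¬ p ∣ P.index)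
    (hC : Cz P = P) (F : G → ℂ) (hF : IsClassFunction G F)
    (hreg : ∀ g : G, ¬ p ∣ orderOf g → F g = 0) :
    (fI P : ℂ) * ∑ g : G, F g =
      (Nat.card G : ℂ) * (p : ℂ)⁻¹ * ∑ᶠ x ∈ {x : G | x ∈ P ∧ x ≠ 1}, F x := by
  classical
  let _ : Fintype P := Fintype.ofFinite _
  have hpp : p.Prime := Fact.out
  have hχ : IsClassFunction G (fun g => conj (F g)) := by
    intro g k
    show conj (F (k * g * k⁻¹)) = conj (F g)
    rw [hF g k]
  have hfr := frobenius_reciprocity P (delta P) hχ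
  unfold classInner at hfr
  have h1 : ∑ g : G, indFun P (delta P) g * conj (conj (F g)) = (fI P : ℂ) * ∑ g : G, F g := by
    rw [Finset.mul_sum]
    apply Finset.sum_congr rfl
    intro g _
    rw [Complex.conj_conj]
    by_cases hg : p ∣ orderOf g
    · rw [indFun_delta P hP hSyl hC g hg]
    · rw [hreg g hg, mul_zero, mul_zero]
  have h2 : ∑ h : P, delta P h * conj (conj (F (h : G))) =
      ∑ᶠ x ∈ {x : G | x ∈ P ∧ x ≠ 1}, F x := by
    have h3 : ∑ᶠ x ∈ {x : G | x ∈ P ∧ x ≠ 1}, F x =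
        ∑ᶠ x ∈ (P : Set G), (if x = 1 then 0 else F x) := by
      rw [finsum_P_split P (fun x => if x = 1 then 0 else F x), if_pos rfl, zero_add]
      apply finsum_mem_congr rfl
      rintro x ⟨-, hx1⟩
      rw [if_neg hx1]
    rw [h3, ← finsum_set_coe_eq_finsum_mem (P : Set G), finsum_eq_sum_of_fintype]
    apply Finset.sum_congr rfl
    intro h _
    rw [Complex.conj_conj]
    unfold delta
    by_cases hh : (h : G) = 1
    · rw [if_pos hh, if_pos hh, zero_mul]
    · rw [if_neg hh, if_neg hh, one_mul]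
  rw [h1, h2, hP] at hfr
  have hG0 : (Nat.card G : ℂ) ≠ 0 := Nat.cast_ne_zero.mpr Nat.card_pos.ne'
  rw [mul_assoc, ← hfr, ← mul_assoc, mul_inv_cancel₀ hG0, one_mul]

end Cfsg.Agent.Lib.Helper6.BRCTools
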