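import Mathlib
import Cfsg.Prelude.Def_GeometricClasses
import Cfsg.Agent.Lib.Helper25.C3O2Defs
import Cfsg.Agent.Lib.Helper27.C3u2CW0
import Cfsg.Agent.Lib.Helper25.OEFsaH1

/-!
C3O2 market (planner helper25, notes/C3O2_leaves.lean): the four front-end tools **TRSQ**
`exists_sq_trace_ne`, **ESING** `exists_esing_perp`, **PARTNER** `exists_partner`, **GEO**
`exists_nonsing_perp3` (helper6), exact signatures.
-/

set_option autoImplicit false
set_option linter.unusedSectionVars false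
set_option linter.unusedVariables false

namespace Cfsg.Agent.Lib.Helper6.C3O2Leaf
open Matrix Module QuadraticMap Cfsg Cfsg.Geo Cfsg.Agent.Lib.Helper25.OEFsa
  Cfsg.Agent.Lib.Helper25.CD Cfsg.Agent.Lib.Helper25.Siegel
  Cfsg.Agent.Lib.Helper5.NSMax Cfsg.Agent.Lib.Helper5.TSMax Cfsg.Agent.Lib.Helper25.AutO
  Cfsg.Agent.Lib.Helper25.C3O2

variable {F : Type*} [Field F] [Fintype F] {E : Type*} [Field E] [Algebra F E] [FiniteDimensional F E]
  {ι : Type} [Fintype ι] [DecidableEq ι]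
  {ρ : E →ₐ[F] Matrix ι ι F} {Q : QuadraticForm F (ι → F)} {B : (ι → F) → (ι → F) → E} {QE : (ι → F) → E}
  {κ : E} {δ : F}

/-- TRSQ [S]: squares detect non-zero elements under the trace. -/
theorem exists_sq_trace_ne (h2 : (2 : F) ≠ 0) (d : E) (hd : d ≠ 0) :
    ∃ l : E, Algebra.trace F E (l * l * d) ≠ 0 := by
  by_contra hcon
  push Not at hcon
  apply hd
  apply trace_unique (F := F)
  intro a
  rw [mul_zero, map_zero]
  have h1 := hcon (a + 1)
  have h2' := hcon a
  have h3 := hcon 1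
  have e : (a + 1) * (a + 1) * d = a * a * d + 1 * 1 * d + (a * d + a * d) := by ring
  rw [e, map_add, map_add, h2', h3, zero_add, zero_add, map_add] at h1
  have h4 : (2 : F) * Algebra.trace F E (a * d) = 0 := by rw [two_mul]; exact h1
  rcases mul_eq_zero.mp h4 with h5 | h5
  · exact absurd h5 h2
  · exact h5

theorem smulF_eq_rho' (ρ : E →ₐ[F] Matrix ι ι F) (c : F) (y : ι → F) :
    c • y = ρ (algebraMap F E c) *ᵥ y := by
  rw [Algebra.algebraMap_eq_smul_one, map_smul, map_one, Matrix.smul_mulVec, Matrix.one_mulVec]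

/-- `B` as an `F`-bilinear map -/
noncomputable def bilF (h : Forms ρ Q B QE) : (ι → F) →ₗ[F] (ι → F) →ₗ[F] E :=
  LinearMap.mk₂ F B h.B_add_left
    (fun c u v => by rw [smulF_eq_rho' ρ, h.B_smul_left, Algebra.smul_def])
    h.B_add_right
    (fun c u v => by rw [smulF_eq_rho' ρ, h.B_smul_right, Algebra.smul_def])

theorem bilF_apply (h : Forms ρ Q B QE) (u v : ι → F) : bilF h u v = B u v := rfl

theorem two_ne_zero_E (h2 : (2 : F) ≠ 0) : (2 : E) ≠ 0 := by
  have : (2 : E) = algebraMap F E 2 := by rw [map_ofNat]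
  rw [this, Ne, map_eq_zero]
  exact h2

/-- ESING [S-M]: an `E`-singular vector `E`-orthogonal to a given vector. -/
theorem exists_esing_perp (h : Forms ρ Q B QE) (h2 : (2 : F) ≠ 0) (hE : finrank F E = 2) (hcard : 7 ≤ Fintype.card ι)
    (x : ι → F) : ∃ a : ι → F, a ≠ 0 ∧ QE a = 0 ∧ B x a = 0 := by
  -- the kernel of `a ↦ B x a`
  obtain ⟨W, hW⟩ : ∃ W : Submodule F (ι → F), W = LinearMap.ker (bilF h x) := ⟨_, rfl⟩
  have hdim : finrank F (ι → F) = Fintype.card ι := Module.finrank_fintype_fun_eq_card F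
  have hrn := LinearMap.finrank_range_add_finrank_ker (bilF h x)
  have hrange : finrank F ↥(LinearMap.range (bilF h x)) ≤ 2 := by
    rw [← hE]; exact Submodule.finrank_le _
  have hWdim : 5 ≤ finrank F ↥W := by
    rw [hdim] at hrn
    rw [hW]
    omega
  -- the restricted bilinear map
  let Bil : ↥W →ₗ[F] ↥W →ₗ[F] E := ((bilF h).comp W.subtype).compl₂ W.subtype
  have hBil : ∀ u v : ↥W, Bil u v = B u.1 v.1 := fun u v => rfl
  obtain ⟨w, hw0, hww⟩ := Cfsg.Agent.Lib.Helper27.C3u2Leaf.exists_ne_zero_bilin_self_eq_zero Bil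
    (by rw [hE]; omega)
  refine ⟨w.1, fun h0 => hw0 (Subtype.ext h0), ?_, ?_⟩
  · rw [hBil, h.B_self] at hww
    rcases mul_eq_zero.mp hww with h3 | h3
    · exact absurd h3 (two_ne_zero_E h2)
    · exact h3
  · have hw : w.1 ∈ LinearMap.ker (bilF h x) := hW ▸ w.2
    rw [LinearMap.mem_ker, bilF_apply] at hw
    exact hw

/-- PARTNER [S]: a hyperbolic partner. -/
theorem exists_partner (h : Forms ρ Q B QE) {p : ι → F} (hp0 : p ≠ 0) (hp : QE p = 0) :
    ∃ p' : ι → F, QE p' = 0 ∧ B p p' = 1 := by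
  have hex : ∃ u, B p u ≠ 0 := by
    by_contra hcon
    push Not at hcon
    apply hp0
    apply h.B_nondeg
    intro u
    rw [h.B_symm]
    exact hcon u
  obtain ⟨u, hu⟩ := hex
  obtain ⟨v, hvdef⟩ : ∃ v : ι → F, v = ρ (B p u)⁻¹ *ᵥ u := ⟨_, rfl⟩
  have hpv : B p v = 1 := by rw [hvdef, h.B_smul_right, inv_mul_cancel₀ hu]
  have hpp : B p p = 0 := by rw [h.B_self, hp, mul_zero]
  refine ⟨v + ρ (-(QE v)) *ᵥ p, ?_, ?_⟩
  · rw [h.QE_add, h.QE_smul, hp, h.B_smul_right, h.B_symm v p, hpv]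
    ring
  · rw [h.B_add_right, h.B_smul_right, hpv, hpp]
    ring

/-- GEO [S-M]: a non-singular vector orthogonal to three given vectors (`q` odd, `n ≥ 7`). -/
theorem exists_nonsing_perp3 (hnd : (polarBilin Q).Nondegenerate) (h2 : (2 : F) ≠ 0) (hn : 7 ≤ Fintype.card ι)
    (u v w : ι → F) : ∃ b : ι → F, polar Q u b = 0 ∧ polar Q v b = 0 ∧ polar Q w b = 0 ∧ Q b ≠ 0 := by
  by_contra hcon
  push Not at hcon
  classical
  obtain ⟨S, hS⟩ : ∃ S : Submodule F (ι → F),
      S = Submodule.span F (({u, v, w} : Finset (ι → F)) : Set (ι → F)) := ⟨_, rfl⟩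
  obtain ⟨X, hX⟩ : ∃ X : Submodule F (ι → F),
      X = LinearMap.BilinForm.orthogonal (polarBilin Q) S := ⟨_, rfl⟩
  have hdim : finrank F (ι → F) = Fintype.card ι := Module.finrank_fintype_fun_eq_card F
  have hSdim : finrank F ↥S ≤ 3 := by
    rw [hS]
    exact le_trans (finrank_span_finset_le_card _) Finset.card_le_three
  have hXdim : finrank F ↥X = finrank F (ι → F) - finrank F ↥S := by
    rw [hX]
    exact LinearMap.BilinForm.finrank_orthogonal hnd S
  have hXmem : ∀ b ∈ X, polar Q u b = 0 ∧ polar Q v b = 0 ∧ polar Q w b = 0 := by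
    intro b hb
    rw [hX, LinearMap.BilinForm.mem_orthogonal_iff] at hb
    refine ⟨?_, ?_, ?_⟩
    · exact hb u (by rw [hS]; exact Submodule.subset_span (by simp))
    · exact hb v (by rw [hS]; exact Submodule.subset_span (by simp))
    · exact hb w (by rw [hS]; exact Submodule.subset_span (by simp))
  have hQX : ∀ b ∈ X, Q b = 0 := by
    intro b hb
    obtain ⟨h1, h2', h3⟩ := hXmem b hb
    exact hcon b h1 h2' h3
  -- `X ≤ X^⊥`
  have hXX : X ≤ LinearMap.BilinForm.orthogonal (polarBilin Q) X := by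
    intro b hb
    rw [LinearMap.BilinForm.mem_orthogonal_iff]
    intro a ha
    show polar Q a b = 0
    unfold polar
    rw [hQX _ (X.add_mem ha hb), hQX a ha, hQX b hb]
    ring
  have hXXdim : finrank F ↥(LinearMap.BilinForm.orthogonal (polarBilin Q) X) =
      finrank F (ι → F) - finrank F ↥X :=
    LinearMap.BilinForm.finrank_orthogonal hnd X
  have hle := Submodule.finrank_mono hXX
  have hXle : finrank F ↥X ≤ finrank F (ι → F) := Submodule.finrank_le X
  omega

end Cfsg.Agent.Lib.Helper6.C3O2Leaf
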