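import Mathlib
import Cfsg.Prelude.Def_GeometricClasses
import Cfsg.Agent.Lib.Helper25.C3O2Defs
import Cfsg.Agent.Lib.Helper27.C3u2CW0
import Cfsg.Agent.Lib.Helper25.OEFsaH1
import Cfsg.Agent.Lib.Helper6.C3O2Tools

/-!
C3O2 market (planner helper25, notes/C3O2_leaves.lean): leaf **S4C** `s_exists` (helper6), exact signature.

The rotation `s = [R_{u₀}, R_c]` of the anisotropic `E`-plane `W = {p, v}^{⟂E}` moves `u₀` off `E u₀`, for
`c = u₀ + ρ l u₁`, `u₁ ∈ W`, `u₁ ⟂_E u₀`, `l ≠ 0`, `l² QE u₁ ≠ ± QE u₀`.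
By-products: `cmb` (`E`-combinations of two vectors), `erF_cmb` (the `E`-reflection in coordinates),
`exists_perp3_E` (a non-zero vector `E`-orthogonal to three vectors, `n ≥ 7`), `exists_l`.
-/

set_option autoImplicit false
set_option linter.unusedSectionVars false
set_option linter.unusedVariables false

namespace Cfsg.Agent.Lib.Helper6.C3O2Leaf
open Matrix Module QuadraticMap Cfsg Cfsg.Geo Cfsg.Agent.Lib.Helper25.OEFsa
  Cfsg.Agent.Lib.Helper25.CD Cfsg.Agent.Lib.Helper25.Siegel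
  Cfsg.Agent.Lib.Helper5.NSMax Cfsg.Agent.Lib.Helper5.TSMax Cfsg.Agent.Lib.Helper25.AutO
  Cfsg.Agent.Lib.Helper25.C3O2

variable {F : Type*} [Field F] [Fintype F] {E : Type*} [Field E] [Algebra F E] [FiniteDimensional F E]
  {ι : Type} [Fintype ι] [DecidableEq ι]
  {ρ : E →ₐ[F] Matrix ι ι F} {Q : QuadraticForm F (ι → F)} {B : (ι → F) → (ι → F) → E} {QE : (ι → F) → E}
  {κ : E} {δ : F}

/-- `E`-linear combinations of two vectors -/
def cmb (ρ : E →ₐ[F] Matrix ι ι F) (u₀ u₁ : ι → F) (a b : E) : ι → F := ρ a *ᵥ u₀ + ρ b *ᵥ u₁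

theorem cmb_sub_smul (ρ : E →ₐ[F] Matrix ι ι F) (u₀ u₁ : ι → F) (a b m a' b' : E) :
    cmb ρ u₀ u₁ a b - ρ m *ᵥ cmb ρ u₀ u₁ a' b' = cmb ρ u₀ u₁ (a - m * a') (b - m * b') := by
  unfold cmb
  rw [Matrix.mulVec_add, ← rho_mul_mulVec, ← rho_mul_mulVec, sub_eq_add_neg a, sub_eq_add_neg b,
    rho_add_mulVec, rho_add_mulVec, rho_neg_mulVec, rho_neg_mulVec]
  abel

theorem B_cmb (h : Forms ρ Q B QE) {u₀ u₁ : ι → F} (h01 : B u₀ u₁ = 0) (a' b' a b : E) :
    B (cmb ρ u₀ u₁ a' b') (cmb ρ u₀ u₁ a b) = 2 * QE u₀ * a' * a + 2 * QE u₁ * b' * b := by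
  unfold cmb
  rw [h.B_add_left, h.B_add_right, h.B_add_right, h.B_smul_left, h.B_smul_left, h.B_smul_left,
    h.B_smul_left, h.B_smul_right, h.B_smul_right, h.B_smul_right, h.B_smul_right, h.B_self, h.B_self,
    h.B_symm u₁ u₀, h01]
  ring

theorem QE_cmb (h : Forms ρ Q B QE) {u₀ u₁ : ι → F} (h01 : B u₀ u₁ = 0) (a b : E) :
    QE (cmb ρ u₀ u₁ a b) = a * a * QE u₀ + b * b * QE u₁ := by
  unfold cmb
  rw [h.QE_add, h.QE_smul, h.QE_smul, h.B_smul_left, h.B_smul_right, h01]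
  ring

/-- the `E`-reflection in the coordinates of an orthogonal pair -/
theorem erF_cmb (h : Forms ρ Q B QE) {u₀ u₁ : ι → F} (h01 : B u₀ u₁ = 0) (a' b' a b : E) :
    erF h (cmb ρ u₀ u₁ a' b') (cmb ρ u₀ u₁ a b) =
      cmb ρ u₀ u₁
        (a - (2 * QE u₀ * a' * a + 2 * QE u₁ * b' * b) * (a' * a' * QE u₀ + b' * b' * QE u₁)⁻¹ * a')
        (b - (2 * QE u₀ * a' * a + 2 * QE u₁ * b' * b) * (a' * a' * QE u₀ + b' * b' * QE u₁)⁻¹ * b') := by
  rw [erF_apply, B_cmb h h01, QE_cmb h h01, cmb_sub_smul]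

theorem cmb_one_zero (ρ : E →ₐ[F] Matrix ι ι F) (u₀ u₁ : ι → F) : cmb ρ u₀ u₁ 1 0 = u₀ := by
  unfold cmb
  rw [rho_one_mulVec, rho_zero_mulVec, add_zero]

/-- a non-zero vector `E`-orthogonal to three given vectors -/
theorem exists_perp3_E (h : Forms ρ Q B QE) (hE : finrank F E = 2) (hcard : 7 ≤ Fintype.card ι)
    (x y z : ι → F) : ∃ u : ι → F, u ≠ 0 ∧ B x u = 0 ∧ B y u = 0 ∧ B z u = 0 := by
  obtain ⟨T, hT⟩ : ∃ T : (ι → F) →ₗ[F] (E × E × E),
      T = (bilF h x).prod ((bilF h y).prod (bilF h z)) := ⟨_, rfl⟩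
  have hdim : finrank F (ι → F) = Fintype.card ι := Module.finrank_fintype_fun_eq_card F
  have hrn := LinearMap.finrank_range_add_finrank_ker T
  have hrange : finrank F ↥(LinearMap.range T) ≤ 6 := by
    have := Submodule.finrank_le (LinearMap.range T)
    rw [Module.finrank_prod, Module.finrank_prod, hE] at this
    exact this
  have hker : 0 < finrank F ↥(LinearMap.ker T) := by
    rw [hdim] at hrn
    omega
  obtain ⟨w, hw0⟩ := Module.finrank_pos_iff_exists_ne_zero.mp hker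
  obtain ⟨u, hu⟩ : ∃ u : ι → F, u = w.1 := ⟨_, rfl⟩
  have hw : T u = 0 := by rw [hu]; exact LinearMap.mem_ker.mp w.2
  rw [hT] at hw
  have h1 : bilF h x u = 0 := congrArg Prod.fst hw
  have h2' : bilF h y u = 0 := congrArg (fun t => t.2.1) hw
  have h3 : bilF h z u = 0 := congrArg (fun t => t.2.2) hw
  exact ⟨u, fun h0 => hw0 (Subtype.ext (hu ▸ h0)), h1, h2', h3⟩

theorem card_E_ge (h2 : (2 : F) ≠ 0) (hE : finrank F E = 2) : 9 ≤ Nat.card E := by
  have hF : 2 < Fintype.card F := by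
    rw [Fintype.two_lt_card_iff]
    refine ⟨0, 1, 2, zero_ne_one, h2.symm, ?_⟩
    intro h12
    have : (1 : F) = 0 := by
      have e : (2 : F) = 1 + 1 := by norm_num
      rw [e] at h12
      exact (left_eq_add.mp h12)
    exact one_ne_zero this
  have hfin : Finite E := Module.finite_of_finite F
  rw [Module.natCard_eq_pow_finrank (K := F) (V := E), hE, Nat.card_eq_fintype_card]
  nlinarith

/-- a scalar avoiding five values -/
theorem exists_l (h2 : (2 : F) ≠ 0) (hE : finrank F E = 2) (α β : E) (hβ : β ≠ 0) :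
    ∃ l : E, l ≠ 0 ∧ l * l * β ≠ α ∧ l * l * β ≠ -α := by
  open Polynomial in
  obtain ⟨g, hg⟩ : ∃ g : E[X], g = X * (X ^ 2 - C (α * β⁻¹)) * (X ^ 2 + C (α * β⁻¹)) := ⟨_, rfl⟩
  have hm1 : (X ^ 2 - C (α * β⁻¹) : E[X]).Monic := monic_X_pow_sub_C _ (by norm_num)
  have hm2 : (X ^ 2 + C (α * β⁻¹) : E[X]).Monic := monic_X_pow_add_C _ (by norm_num)
  have hmon : g.Monic := by
    rw [hg]
    exact (monic_X.mul hm1).mul hm2
  have hdeg : g.natDegree = 5 := by
    rw [hg, (monic_X.mul hm1).natDegree_mul hm2, monic_X.natDegree_mul hm1, natDegree_X,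
      natDegree_X_pow_sub_C, natDegree_X_pow_add_C]
  have hfin : Finite E := Module.finite_of_finite F
  have hcard := card_E_ge (E := E) h2 hE
  obtain ⟨l, hl⟩ := exists_eval_ne_zero_of_natDegree_lt_card g hmon.ne_zero (by
    rw [hdeg]
    have : (Nat.card E : Cardinal) = Cardinal.mk E := Nat.cast_card
    rw [← this]
    exact_mod_cast (by omega : 5 < Nat.card E))
  rw [hg] at hl
  simp only [eval_mul, eval_X, eval_sub, eval_add, eval_pow, eval_C] at hl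
  refine ⟨l, ?_, ?_, ?_⟩
  · rintro rfl
    apply hl
    ring
  · intro h1
    apply hl
    have : l ^ 2 - α * β⁻¹ = 0 := by
      rw [← h1]
      field_simp
      ring
    rw [this]
    ring
  · intro h1
    apply hl
    have : l ^ 2 + α * β⁻¹ = 0 := by
      have h3 : α = -(l * l * β) := by rw [h1]; ring
      rw [h3]
      field_simp
      ring
    rw [this]
    ring

/-- S4C [M]: the rotation `s = [R_{u₀}, R_c]` of the `E`-plane `W = {p, v}^{⟂E}` moves `u₀` off `E u₀`. -/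
theorem s_exists (h : Forms ρ Q B QE) (h2 : (2 : F) ≠ 0) (hE : finrank F E = 2) (hcard : Fintype.card ι = 8)
    (hw1 : W1 ρ B QE) {p v u₀ : ι → F} (hp0 : p ≠ 0) (hp : QE p = 0) (hpv : B p v ≠ 0) (hu0 : QE u₀ ≠ 0)
    (hpu : B p u₀ = 0) (hvu : B v u₀ = 0) :
    ∃ c : ι → F, QE c ≠ 0 ∧ B p c = 0 ∧ B v c = 0 ∧
      ∀ a : E, erF h u₀ (erF h c (erF h u₀ (erF h c u₀))) ≠ ρ a *ᵥ u₀ := by
  have h2E : (2 : E) ≠ 0 := two_ne_zero_E h2
  obtain ⟨u₁, hu10, hpu1, hvu1, h01⟩ := exists_perp3_E h hE (by omega) p v u₀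
  -- `u₁` is anisotropic
  have hβ : QE u₁ ≠ 0 := by
    intro hq
    obtain ⟨a, ha⟩ := hw1 p u₁ hp0 hp hq hpu1
    have h3 : a * B v p = 0 := by rw [← h.B_smul_right, ← ha, hvu1]
    rcases mul_eq_zero.mp h3 with h4 | h4
    · apply hu10
      rw [ha, h4, rho_zero_mulVec]
    · apply hpv
      rw [h.B_symm]
      exact h4
  obtain ⟨l, hl0, hl1, hl2⟩ := exists_l (F := F) h2 hE (QE u₀) (QE u₁) hβ
  obtain ⟨α, hα⟩ : ∃ α : E, α = QE u₀ := ⟨_, rfl⟩
  obtain ⟨β, hβdef⟩ : ∃ β : E, β = QE u₁ := ⟨_, rfl⟩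
  have hγ : α + l * l * β ≠ 0 := by
    intro h0
    apply hl2
    rw [← hα, ← hβdef]
    linear_combination h0
  have hγ' : α - l * l * β ≠ 0 := by
    intro h0
    apply hl1
    rw [← hα, ← hβdef]
    linear_combination -h0
  have hα0 : α ≠ 0 := hα ▸ hu0
  have hβ0 : β ≠ 0 := hβdef ▸ hβ
  refine ⟨cmb ρ u₀ u₁ 1 l, ?_, ?_, ?_, ?_⟩
  · rw [QE_cmb h h01, ← hα, ← hβdef]
    intro h0
    apply hγ
    linear_combination h0
  · unfold cmb
    rw [h.B_add_right, h.B_smul_right, h.B_smul_right, hpu, hpu1]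
    ring
  · unfold cmb
    rw [h.B_add_right, h.B_smul_right, h.B_smul_right, hvu, hvu1]
    ring
  · intro a hcon
    have hu : cmb ρ u₀ u₁ 1 0 = u₀ := cmb_one_zero ρ u₀ u₁
    -- the reflection in `u₀`
    have r0 : ∀ x y : E, erF h u₀ (cmb ρ u₀ u₁ x y) = cmb ρ u₀ u₁ (-x) y := by
      intro x y
      have e := erF_cmb h h01 1 0 x y
      rw [hu, ← hα, ← hβdef] at e
      rw [e]
      congr 1
      · rw [show (1 * 1 * α + 0 * 0 * β) = α by ring]
        field_simp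
        ring
      · ring
    -- the reflection in `c`
    have rc : ∀ x y : E, erF h (cmb ρ u₀ u₁ 1 l) (cmb ρ u₀ u₁ x y) =
        cmb ρ u₀ u₁ (x - (2 * α * x + 2 * β * l * y) * (α + l * l * β)⁻¹)
          (y - (2 * α * x + 2 * β * l * y) * (α + l * l * β)⁻¹ * l) := by
      intro x y
      have e := erF_cmb h h01 1 l x y
      rw [← hα, ← hβdef] at e
      rw [e]
      congr 1
      · ring
      · ring
    have e1 := rc 1 0
    rw [hu] at e1
    obtain ⟨X, Y, hXY, hY⟩ : ∃ X Y : E,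
        erF h u₀ (erF h (cmb ρ u₀ u₁ 1 l) (erF h u₀ (erF h (cmb ρ u₀ u₁ 1 l) u₀))) = cmb ρ u₀ u₁ X Y ∧
        Y = -(4 * α * l * (α - l * l * β)) * ((α + l * l * β)⁻¹ * (α + l * l * β)⁻¹) := by
      refine ⟨_, _, by rw [e1, r0, rc, r0], ?_⟩
      ring
    rw [hXY] at hcon
    have key2 := congrArg (B u₁) hcon
    rw [h.B_smul_right, h.B_symm u₁ u₀, h01, mul_zero] at key2
    unfold cmb at key2
    rw [h.B_add_right, h.B_smul_right, h.B_smul_right, h.B_symm u₁ u₀, h01, mul_zero, zero_add, h.B_self,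
      ← hβdef, hY] at key2
    have hne : -(4 * α * l * (α - l * l * β)) * ((α + l * l * β)⁻¹ * (α + l * l * β)⁻¹) * (2 * β) ≠ 0 := by
      have h4 : (4 : E) ≠ 0 := by
        have : (4 : E) = 2 * 2 := by norm_num
        rw [this]
        exact mul_ne_zero h2E h2E
      refine mul_ne_zero (mul_ne_zero (neg_ne_zero.mpr (mul_ne_zero (mul_ne_zero (mul_ne_zero h4 hα0) hl0) hγ'))
        (mul_ne_zero (inv_ne_zero hγ) (inv_ne_zero hγ))) (mul_ne_zero h2E hβ0)
    exact hne key2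

end Cfsg.Agent.Lib.Helper6.C3O2Leaf
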