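import Mathlib
import Cfsg.Prelude.Def_ClassicalGeometry
import Cfsg.Prelude.Def_GeometricClasses
import Cfsg.Agent.Lib.Helper5.NDMax
import Cfsg.Agent.Lib.Helper25.OmegaNonMax
import Cfsg.Agent.Lib.Helper1.C3ODefs
import Cfsg.Agent.Lib.Helper1.C3OCalc

/-!
S5700 leaf L0 (owner helper1; notes/S5700_leaves.lean): extraction of a generator `J = θ` of the
quadratic field subalgebra `K` with `θ² = tθ - ν`, adjoint `t - θ`, `Q(θv) = νQ(v)`,
`B(v, θv) = tQ(v)`, and the description of the normaliser of `K`.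
-/

set_option autoImplicit false
set_option linter.unusedSectionVars false
set_option linter.unusedVariables false

namespace Cfsg.Agent.Lib.Helper6.C3OLeaf
open Module QuadraticMap Matrix Cfsg.Agent.Lib.Helper1.C3O

variable {ι : Type} [Fintype ι] [DecidableEq ι] {F : Type*} [Field F] [Fintype F]
  {Q : QuadraticForm F (ι → F)}

/-- `k'` is an adjoint of `k` for the polar form of `Q` -/
def OAdj (Q : QuadraticForm F (ι → F)) (k k' : Matrix ι ι F) : Prop :=
  ∀ u v : ι → F, polar Q (k *ᵥ u) v = polar Q u (k' *ᵥ v)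

lemma o_mat_ext {A B : Matrix ι ι F} (h : ∀ v, A *ᵥ v = B *ᵥ v) : A = B := by
  apply Matrix.toLin'.injective
  apply LinearMap.ext
  intro v
  rw [Matrix.toLin'_apply, Matrix.toLin'_apply, h]

lemma o_eq_zero (hQ : (polarBilin Q).Nondegenerate) (w : ι → F) (h : ∀ u, polar Q u w = 0) :
    w = 0 :=
  hQ.2 w (fun u => by rw [polarBilin_apply_apply]; exact h u)

lemma o_exists_ne (hQ : (polarBilin Q).Nondegenerate) (hne : Nonempty ι) :
    ∃ u v : ι → F, polar Q u v ≠ 0 := by
  classical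
  obtain ⟨i⟩ := hne
  have hu : (Pi.single i 1 : ι → F) ≠ 0 := by
    intro h
    have := congrFun h i
    rw [Pi.single_eq_same, Pi.zero_apply] at this
    exact one_ne_zero this
  by_contra hcon
  push Not at hcon
  exact hu (o_eq_zero hQ _ (fun u => hcon u _))

lemma o_adj_unique (hQ : (polarBilin Q).Nondegenerate) {k k' k'' : Matrix ι ι F}
    (h1 : OAdj Q k k') (h2 : OAdj Q k k'') : k' = k'' := by
  apply o_mat_ext
  intro v
  have : k' *ᵥ v - k'' *ᵥ v = 0 := by
    apply o_eq_zero hQ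
    intro u
    rw [polar_sub_right, ← h1 u v, ← h2 u v, sub_self]
  exact sub_eq_zero.mp this

lemma o_adj_symm {k k' : Matrix ι ι F} (h : OAdj Q k k') : OAdj Q k' k := by
  intro u v
  rw [polar_comm, ← h v u, polar_comm]

lemma o_adj_mul {k k' l l' : Matrix ι ι F} (hk : OAdj Q k k') (hl : OAdj Q l l') :
    OAdj Q (k * l) (l' * k') := by
  intro u v
  rw [← Matrix.mulVec_mulVec, ← Matrix.mulVec_mulVec, hk, hl]

lemma o_adj_add {k k' l l' : Matrix ι ι F} (hk : OAdj Q k k') (hl : OAdj Q l l') :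
    OAdj Q (k + l) (k' + l') := by
  intro u v
  rw [Matrix.add_mulVec, Matrix.add_mulVec, polar_add_left, polar_add_right, hk, hl]

lemma o_adj_sub {k k' l l' : Matrix ι ι F} (hk : OAdj Q k k') (hl : OAdj Q l l') :
    OAdj Q (k - l) (k' - l') := by
  intro u v
  rw [Matrix.sub_mulVec, Matrix.sub_mulVec, polar_sub_left, polar_sub_right, hk, hl]

lemma o_adj_smul (c : F) {k k' : Matrix ι ι F} (hk : OAdj Q k k') :
    OAdj Q (c • k) (c • k') := by
  intro u v
  rw [Matrix.smul_mulVec, Matrix.smul_mulVec, polar_smul_left, polar_smul_right, hk]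

lemma o_adj_one : OAdj Q (1 : Matrix ι ι F) 1 := by
  intro u v
  rw [Matrix.one_mulVec, Matrix.one_mulVec]

/-- conjugation is linear on `a + b X` -/
lemma o_conj_lin (g : GL ι F) (a b : F) (X : Matrix ι ι F) :
    (g : Matrix ι ι F) * (a • (1 : Matrix ι ι F) + b • X) * ((g⁻¹ : GL ι F) : Matrix ι ι F) =
      a • (1 : Matrix ι ι F) +
        b • ((g : Matrix ι ι F) * X * ((g⁻¹ : GL ι F) : Matrix ι ι F)) := by
  rw [Matrix.mul_add, Matrix.add_mul, Matrix.mul_smul, Matrix.mul_smul, Matrix.smul_mul,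
    Matrix.smul_mul, Matrix.mul_one, ← Units.val_mul, mul_inv_cancel, Units.val_one]

/-- in a field subalgebra a product vanishes only if a factor does -/
lemma o_eq_zero_or (K : Subalgebra F (Matrix ι ι F)) {r : ℕ} (hK : Cfsg.Geo.IsFieldSubalgebra r K)
    {x y : Matrix ι ι F} (hx : x ∈ K) (hy : y ∈ K) (hxy : x * y = 0) : x = 0 ∨ y = 0 := by
  by_cases hx0 : x = 0
  · exact Or.inl hx0
  · right
    obtain ⟨x', hx'K, hx'⟩ := hK.inv x hx hx0
    have h3 : x' * x = 1 := by rw [hK.comm _ hx'K _ hx]; exact hx'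
    calc y = (x' * x) * y := by rw [h3, Matrix.one_mul]
      _ = 0 := by rw [Matrix.mul_assoc, hxy, Matrix.mul_zero]

/-- L0. extraction of `J` from the frozen hypotheses -/
theorem exists_CS (hQ : (polarBilin Q).Nondegenerate) (hn : 3 ≤ Fintype.card ι)
    (K : Subalgebra F (Matrix ι ι F)) (hK : Cfsg.Geo.IsFieldSubalgebra 2 K)
    (hac : Cfsg.Geo.IsAdjointClosedFor (QuadraticMap.polar ⇑Q) K)
    (hnsa : ¬ Cfsg.Geo.IsSelfAdjointFor (QuadraticMap.polar ⇑Q) K)
    (hsc : ∀ k ∈ K, ∃ c : F, ∀ v : ι → F, Q (Matrix.mulVec k v) = c * Q v) :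
    ∃ (t ν : F) (J : Matrix ι ι F), CS Q t ν J ∧
      ∀ g : GL ι F, g ∈ Cfsg.Geo.subalgebraNormalizer K ↔ Nrm J g := by
  classical
  have hne : Nonempty ι := Fintype.card_pos_iff.mp (by omega)
  obtain ⟨u₀, v₀, huv₀⟩ := o_exists_ne hQ hne
  have h1ne : (1 : Matrix ι ι F) ≠ 0 := by
    intro h1
    obtain ⟨i⟩ := hne
    have := congrFun (congrFun h1 i) i
    rw [Matrix.one_apply_eq, Matrix.zero_apply] at this
    exact one_ne_zero this
  -- a non-scalar element
  obtain ⟨θ, hθK, hθns⟩ : ∃ θ ∈ K, ∀ c : F, θ ≠ c • (1 : Matrix ι ι F) := by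
    by_contra hcon
    push Not at hcon
    have hle : Subalgebra.toSubmodule K ≤ Submodule.span F {(1 : Matrix ι ι F)} := by
      intro x hx
      obtain ⟨c, hc⟩ := hcon x hx
      rw [hc]
      exact Submodule.smul_mem _ _ (Submodule.subset_span rfl)
    have h1 := Submodule.finrank_mono hle
    rw [Subalgebra.finrank_toSubmodule, hK.finrank_eq, finrank_span_singleton h1ne] at h1
    omega
  -- `1, θ` are linearly independent
  have hli : ∀ s r : F, s • (1 : Matrix ι ι F) + r • θ = 0 → s = 0 ∧ r = 0 := by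
    intro s r hsr
    by_cases hr : r = 0
    · rw [hr, zero_smul, add_zero] at hsr
      rcases smul_eq_zero.mp hsr with h | h
      · exact ⟨h, hr⟩
      · exact absurd h h1ne
    · exfalso
      apply hθns (-(r⁻¹ * s))
      have h3 : r • θ = -(s • (1 : Matrix ι ι F)) := by
        rw [eq_neg_iff_add_eq_zero, add_comm]; exact hsr
      calc θ = r⁻¹ • (r • θ) := by rw [smul_smul, inv_mul_cancel₀ hr, one_smul]
        _ = -(r⁻¹ * s) • (1 : Matrix ι ι F) := by rw [h3, smul_neg, smul_smul, neg_smul]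
  -- `K` is spanned by `1, θ`
  have hspanK : Submodule.span F {(1 : Matrix ι ι F), θ} = Subalgebra.toSubmodule K := by
    have hle : Submodule.span F {(1 : Matrix ι ι F), θ} ≤ Subalgebra.toSubmodule K := by
      rw [Submodule.span_le]
      intro x hx
      rcases hx with hx | hx
      · rw [hx]; exact K.one_mem
      · rw [Set.mem_singleton_iff] at hx
        rw [hx]; exact hθK
    apply Submodule.eq_of_le_of_finrank_eq hle
    have h3 := finrank_span_eq_card (R := F) (b := ![(1 : Matrix ι ι F), θ])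
      (LinearIndependent.pair_iff.mpr hli)
    rw [Matrix.range_cons_cons_empty, Fintype.card_fin] at h3
    rw [h3, Subalgebra.finrank_toSubmodule, hK.finrank_eq]
  have hspan : ∀ x ∈ K, ∃ a b : F, x = a • (1 : Matrix ι ι F) + b • θ := by
    intro x hx
    have hx' : x ∈ Submodule.span F {(1 : Matrix ι ι F), θ} := by
      rw [hspanK]; exact hx
    obtain ⟨a, b, hab⟩ := Submodule.mem_span_pair.mp hx'
    exact ⟨a, b, hab.symm⟩
  have hmemK : ∀ a b : F, a • (1 : Matrix ι ι F) + b • θ ∈ K := fun a b =>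
    K.add_mem (K.smul_mem K.one_mem a) (K.smul_mem hθK b)
  -- the minimal polynomial
  obtain ⟨t, ν, hmin⟩ : ∃ t ν : F, θ * θ = t • θ - ν • (1 : Matrix ι ι F) := by
    obtain ⟨a, b, hab⟩ := hspan (θ * θ) (K.mul_mem hθK hθK)
    refine ⟨b, -a, ?_⟩
    rw [hab, neg_smul, sub_neg_eq_add, add_comm]
  have hsq : ∀ x : ι → F, θ *ᵥ (θ *ᵥ x) = t • (θ *ᵥ x) - ν • x := by
    intro x
    rw [Matrix.mulVec_mulVec, hmin, Matrix.sub_mulVec, Matrix.smul_mulVec, Matrix.smul_mulVec,
      Matrix.one_mulVec]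
  have hirr : ∀ c : F, c * c - t * c + ν ≠ 0 := by
    intro c hc
    have hprod : (θ - c • (1 : Matrix ι ι F)) * (θ - (t - c) • (1 : Matrix ι ι F)) = 0 := by
      rw [Matrix.sub_mul, Matrix.mul_sub, Matrix.mul_sub, hmin, Matrix.mul_smul, Matrix.smul_mul,
        Matrix.smul_mul, Matrix.mul_one, Matrix.one_mul, Matrix.mul_smul, Matrix.mul_one, smul_smul]
      have : c * (t - c) = ν := by linear_combination -hc
      rw [this, sub_smul]
      abel
    rcases o_eq_zero_or K hK (K.sub_mem hθK (K.smul_mem K.one_mem c))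
        (K.sub_mem hθK (K.smul_mem K.one_mem (t - c))) hprod with h | h
    · exact hθns c (sub_eq_zero.mp h)
    · exact hθns (t - c) (sub_eq_zero.mp h)
  -- the adjoint of `θ`
  obtain ⟨θ', hθ'K, hadj⟩ := hac θ hθK
  have hadj' : OAdj Q θ θ' := hadj
  have hmin' : θ' * θ' = t • θ' - ν • (1 : Matrix ι ι F) := by
    have h3 : OAdj Q (θ * θ) (θ' * θ') := o_adj_mul hadj' hadj'
    have h4 : OAdj Q (θ * θ) (t • θ' - ν • (1 : Matrix ι ι F)) := by
      rw [hmin]
      exact o_adj_sub (o_adj_smul t hadj') (o_adj_smul ν o_adj_one)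
    exact o_adj_unique hQ h3 h4
  have hθ' : θ' = t • (1 : Matrix ι ι F) - θ := by
    have hprod : (θ' - θ) * (θ' - (t • (1 : Matrix ι ι F) - θ)) = 0 := by
      have hc : θ * θ' = θ' * θ := hK.comm _ hθK _ hθ'K
      rw [Matrix.sub_mul, Matrix.mul_sub, Matrix.mul_sub, Matrix.mul_sub, Matrix.mul_sub, hmin',
        hmin, Matrix.mul_smul, Matrix.mul_smul, Matrix.mul_one, Matrix.mul_one, hc]
      abel
    rcases o_eq_zero_or K hK (K.sub_mem hθ'K hθK)
        (K.sub_mem hθ'K (K.sub_mem (K.smul_mem K.one_mem t) hθK)) hprod with h | h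
    · exfalso
      have h5 : θ' = θ := sub_eq_zero.mp h
      apply hnsa
      intro k hk u v
      obtain ⟨a, b, hab⟩ := hspan k hk
      have h6 : OAdj Q θ θ := by
        have := hadj'
        rwa [h5] at this
      have h7 : OAdj Q (a • (1 : Matrix ι ι F) + b • θ) (a • (1 : Matrix ι ι F) + b • θ) :=
        o_adj_add (o_adj_smul a o_adj_one) (o_adj_smul b h6)
      rw [hab]
      exact h7 u v
    · exact sub_eq_zero.mp h
  have hadjF : ∀ u v : ι → F, polar Q (θ *ᵥ u) v = t * polar Q u v - polar Q u (θ *ᵥ v) := by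
    intro u v
    rw [hadj' u v, hθ', Matrix.sub_mulVec, Matrix.smul_mulVec, Matrix.one_mulVec, polar_sub_right,
      polar_smul_right, smul_eq_mul]
  -- the norm
  have hnorm : ∀ v : ι → F, Q (θ *ᵥ v) = ν * Q v := by
    obtain ⟨c, hc⟩ := hsc θ hθK
    have h3 : ∀ u v : ι → F, polar Q (θ *ᵥ u) (θ *ᵥ v) = c * polar Q u v := by
      intro u v
      unfold polar
      rw [← Matrix.mulVec_add, hc, hc, hc]
      ring
    have h4 : ∀ u v : ι → F, polar Q (θ *ᵥ u) (θ *ᵥ v) = ν * polar Q u v := by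
      intro u v
      rw [hadj' u (θ *ᵥ v), hθ', Matrix.sub_mulVec, Matrix.smul_mulVec, Matrix.one_mulVec, hsq,
        sub_sub_cancel, polar_smul_right, smul_eq_mul]
    have h5 : c = ν := by
      have := (h3 u₀ v₀).symm.trans (h4 u₀ v₀)
      exact mul_right_cancel₀ huv₀ this
    intro v
    rw [hc, h5]
  -- the polar form on `(v, θ v)`
  have hpself : ∀ v : ι → F, polar Q v (θ *ᵥ v) = t * Q v := by
    obtain ⟨c', hc'⟩ := hsc (1 + θ) (K.add_mem K.one_mem hθK)
    have h3 : ∀ v : ι → F, polar Q v (θ *ᵥ v) = (c' - 1 - ν) * Q v := by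
      intro v
      have := hc' v
      rw [Matrix.add_mulVec, Matrix.one_mulVec, QuadraticMap.map_add (⇑Q) v (θ *ᵥ v), hnorm] at this
      linear_combination this
    have h4 : ∀ u v : ι → F, polar Q u (θ *ᵥ v) + polar Q v (θ *ᵥ u) =
        (c' - 1 - ν) * polar Q u v := by
      intro u v
      have h5 := h3 (u + v)
      rw [Matrix.mulVec_add, polar_add_left, polar_add_right, polar_add_right, h3 u, h3 v,
        QuadraticMap.map_add (⇑Q) u v] at h5
      linear_combination h5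
    have h6 : c' - 1 - ν = t := by
      have h7 := h4 u₀ v₀
      rw [polar_comm (⇑Q) v₀ (θ *ᵥ u₀), hadjF u₀ v₀] at h7
      have h8 : t * polar Q u₀ v₀ = (c' - 1 - ν) * polar Q u₀ v₀ := by linear_combination h7
      exact (mul_right_cancel₀ huv₀ h8).symm
    intro v
    rw [h3, h6]
  refine ⟨t, ν, θ, ⟨hsq, hirr, hadjF, hnorm, hpself⟩, ?_⟩
  intro g
  constructor
  · intro hg
    have h3 : (g : Matrix ι ι F) * θ * ((g⁻¹ : GL ι F) : Matrix ι ι F) ∈ K := (hg θ).mp hθK
    obtain ⟨a, b, hab⟩ := hspan _ h3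
    exact ⟨a, b, hab⟩
  · rintro ⟨s, r, hsr⟩
    have hr : r ≠ 0 := by
      intro hr
      rw [hr, zero_smul, add_zero] at hsr
      apply hθns s
      have h3 : θ = ((g⁻¹ : GL ι F) : Matrix ι ι F) *
          ((g : Matrix ι ι F) * θ * ((g⁻¹ : GL ι F) : Matrix ι ι F)) * (g : Matrix ι ι F) := by
        rw [Matrix.mul_assoc, Matrix.mul_assoc, Matrix.mul_assoc, ← Units.val_mul, inv_mul_cancel,
          Units.val_one, Matrix.mul_one, ← Matrix.mul_assoc, ← Units.val_mul, inv_mul_cancel,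
          Units.val_one, Matrix.one_mul]
      rw [h3, hsr, Matrix.mul_smul, Matrix.smul_mul, Matrix.mul_one, ← Units.val_mul,
        inv_mul_cancel, Units.val_one]
    -- conjugation by `g⁻¹`
    have hinv : ((g⁻¹ : GL ι F) : Matrix ι ι F) * θ * (g : Matrix ι ι F) =
        r⁻¹ • (θ - s • (1 : Matrix ι ι F)) := by
      have h3 : ((g⁻¹ : GL ι F) : Matrix ι ι F) *
          ((g : Matrix ι ι F) * θ * ((g⁻¹ : GL ι F) : Matrix ι ι F)) * (g : Matrix ι ι F) = θ := by
        rw [Matrix.mul_assoc, Matrix.mul_assoc, Matrix.mul_assoc, ← Units.val_mul, inv_mul_cancel,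
          Units.val_one, Matrix.mul_one, ← Matrix.mul_assoc, ← Units.val_mul, inv_mul_cancel,
          Units.val_one, Matrix.one_mul]
      rw [hsr] at h3
      have h4 := o_conj_lin g⁻¹ s r θ
      rw [inv_inv] at h4
      rw [h4] at h3
      -- `s + r (g⁻¹ θ g) = θ`
      have h5 : r • (((g⁻¹ : GL ι F) : Matrix ι ι F) * θ * (g : Matrix ι ι F)) =
          θ - s • (1 : Matrix ι ι F) := eq_sub_of_add_eq' h3
      rw [← h5, smul_smul, inv_mul_cancel₀ hr, one_smul]
    intro k
    constructor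
    · intro hk
      obtain ⟨a, b, hab⟩ := hspan k hk
      rw [hab, o_conj_lin, hsr]
      exact K.add_mem (K.smul_mem K.one_mem a) (K.smul_mem (hmemK s r) b)
    · intro hk
      obtain ⟨a, b, hab⟩ := hspan _ hk
      have h3 : k = ((g⁻¹ : GL ι F) : Matrix ι ι F) *
          ((g : Matrix ι ι F) * k * ((g⁻¹ : GL ι F) : Matrix ι ι F)) * (g : Matrix ι ι F) := by
        rw [Matrix.mul_assoc, Matrix.mul_assoc, Matrix.mul_assoc, ← Units.val_mul, inv_mul_cancel,
          Units.val_one, Matrix.mul_one, ← Matrix.mul_assoc, ← Units.val_mul, inv_mul_cancel,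
          Units.val_one, Matrix.one_mul]
      have h4 := o_conj_lin g⁻¹ a b θ
      rw [inv_inv] at h4
      rw [h3, hab, h4, hinv]
      exact K.add_mem (K.smul_mem K.one_mem a)
        (K.smul_mem (K.smul_mem (K.sub_mem hθK (K.smul_mem K.one_mem s)) r⁻¹) b)

end Cfsg.Agent.Lib.Helper6.C3OLeaf
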