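import Mathlib
import Cfsg.Prelude.Def_ClassicalGeometry
import Cfsg.Prelude.Def_GeometricClasses
import Cfsg.Agent.Lib.Helper5.NDMax
import Cfsg.Agent.Lib.Helper25.OmegaNonMax
import Cfsg.Agent.Lib.Helper1.C3ODefs
import Cfsg.Agent.Lib.Helper1.C3OCalc

/-!
S5700 leaf P (owner helper1; notes/S5700_leaves.lean), core form: the leaves G1
(`exists_hyp_perp_list`) and SC (`spread_calc`) are hypotheses.
-/

set_option autoImplicit false
set_option linter.unusedSectionVars false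
set_option linter.unusedVariables false

namespace Cfsg.Agent.Lib.Helper6.C3OLeaf
open Module QuadraticMap Matrix Cfsg.Agent.Lib.Helper25.CD Cfsg.Agent.Lib.Helper25.Spin
  Cfsg.Agent.Lib.Helper25.Fam Cfsg.Agent.Lib.Helper25.Siegel
  Cfsg.Agent.Lib.Helper25.PS Cfsg.Agent.Lib.Helper25.OGeom Cfsg.Agent.Lib.Helper15
  Cfsg.Agent.Lib.Helper5.TSMax Cfsg.Agent.Lib.Helper5.NSMax Cfsg.Agent.Lib.Helper5.PairMax
  Cfsg.Agent.Lib.Helper5.NDMax Cfsg.Agent.Lib.Helper1.C3O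

variable {ι : Type} [Fintype ι] [DecidableEq ι] {F : Type*} [Field F] [Fintype F]
  {Q : QuadraticForm F (ι → F)}

/-- P, core form -/
theorem exists_omega_not_nrm_of
    (g1 : ∀ l : List (ι → F), 2 * l.length + 3 ≤ Fintype.card ι →
      ∃ e f : ι → F, Q e = 0 ∧ Q f = 0 ∧ polar Q e f = 1 ∧ (∀ y ∈ l, polar Q y e = 0) ∧
        (∀ y ∈ l, polar Q y f = 0))
    {t ν : F} {J : Matrix ι ι F}
    (sc : ∀ {u v y : ι → F}, Q u = 0 → Q y = 0 → y ≠ 0 → polar Q u v ≠ 0 → polar Q y u = 0 →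
      polar Q y (J *ᵥ u) = 0 → polar Q y v = 0 → polar Q y (J *ᵥ v) = 0 →
      ∀ m : ↥(Cfsg.isometryGroup F ⇑Q), (∀ x, toOG Q m x = siegF Q u y 1 x) →
      ¬ KL J v (cj Q m J *ᵥ v))
    (hQ : (polarBilin Q).Nondegenerate) (hn : 13 ≤ Fintype.card ι) (hJ : CS Q t ν J) :
    ∃ g : ↥(Cfsg.isometryGroup F ⇑Q), g ∈ Cfsg.Omega F ⇑Q ∧ ¬ Nrm J (g : GL ι F) := by
  obtain ⟨u, v, hu, hv, huv, -, -⟩ := g1 [] (by simp only [List.length_nil]; omega)
  obtain ⟨y, f', hy, -, hyf, hyl, -⟩ := g1 [u, J *ᵥ u, v, J *ᵥ v]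
    (by simp only [List.length_cons, List.length_nil]; omega)
  have hy0 : y ≠ 0 := by
    rintro rfl
    rw [polar_zero_left] at hyf
    exact zero_ne_one hyf
  have h1 : polar Q y u = 0 := by
    rw [polar_comm]; exact hyl u (by simp)
  have h2 : polar Q y (J *ᵥ u) = 0 := by
    rw [polar_comm]; exact hyl _ (by simp)
  have h3 : polar Q y v = 0 := by
    rw [polar_comm]; exact hyl v (by simp)
  have h4 : polar Q y (J *ᵥ v) = 0 := by
    rw [polar_comm]; exact hyl _ (by simp)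
  have huy : polar Q u y = 0 := by rw [polar_comm]; exact h1
  have hb : polar Q u v ≠ 0 := by rw [huv]; exact one_ne_zero
  refine ⟨siegG Q u y 1 hu hy huy, siegG_mem_omega Q hQ (by omega) u y 1 hu hy huy, ?_⟩
  rintro ⟨s, r, hsr⟩
  apply sc hu hy hy0 hb h1 h2 h3 h4 (siegG Q u y 1 hu hy huy) (fun x => toOG_siegG Q u y 1 hu hy huy x)
  refine ⟨s, r, ?_⟩
  have : cj Q (siegG Q u y 1 hu hy huy) J = s • (1 : Matrix ι ι F) + r • J := hsr
  rw [this, Matrix.add_mulVec, Matrix.smul_mulVec, Matrix.smul_mulVec, Matrix.one_mulVec]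

end Cfsg.Agent.Lib.Helper6.C3OLeaf
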