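/-
helper6: commutant of `R ⊗ₖ 1` for an irreducible family of matrices.
-/
import Mathlib

set_option autoImplicit false

namespace Cfsg.Agent.Lib.Helper6

open Matrix
open scoped Kronecker

variable {ι : Type*} {d e : ℕ}

/-- A matrix commuting with all `R n ⊗ₖ 1`, where only scalar matrices commute with all `R n`, is of
the form `1 ⊗ₖ Q`. -/
theorem exists_kronecker_of_commute (R : ι → Matrix (Fin d) (Fin d) ℂ)
    (hschur : ∀ B : Matrix (Fin d) (Fin d) ℂ, (∀ n, B * R n = R n * B) → ∃ c : ℂ, B = c • 1)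
    (M : Matrix (Fin d × Fin e) (Fin d × Fin e) ℂ)
    (hM : ∀ n, M * (R n ⊗ₖ (1 : Matrix (Fin e) (Fin e) ℂ)) =
      (R n ⊗ₖ (1 : Matrix (Fin e) (Fin e) ℂ)) * M) :
    ∃ Q : Matrix (Fin e) (Fin e) ℂ, M = (1 : Matrix (Fin d) (Fin d) ℂ) ⊗ₖ Q := by
  classical
  have hblock : ∀ k l : Fin e, ∃ c : ℂ,
      (Matrix.of fun i j => M (i, k) (j, l) : Matrix (Fin d) (Fin d) ℂ) = c • 1 := by
    intro k l
    apply hschur
    intro n
    ext i j
    have h1 := congrFun (congrFun (hM n) (i, k)) (j, l)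
    rw [Matrix.mul_apply, Matrix.mul_apply, Fintype.sum_prod_type, Fintype.sum_prod_type] at h1
    simp only [Matrix.kroneckerMap_apply, Matrix.one_apply, mul_ite, mul_one, mul_zero,
      Finset.sum_ite_eq', Finset.mem_univ, if_true, ite_mul, one_mul, zero_mul,
      Finset.sum_ite_eq] at h1
    rw [Matrix.mul_apply, Matrix.mul_apply]
    simpa using h1
  choose q hq using hblock
  refine ⟨Matrix.of q, ?_⟩
  ext ⟨i, k⟩ ⟨j, l⟩
  have h1 := congrFun (congrFun (hq k l) i) j
  simp only [Matrix.of_apply, Matrix.smul_apply, Matrix.one_apply, smul_eq_mul] at h1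
  rw [Matrix.kroneckerMap_apply, Matrix.one_apply, Matrix.of_apply, h1]
  split_ifs <;> simp

end Cfsg.Agent.Lib.Helper6
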