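/-
helper6: the ramification index `χ(1)/ϑ(1)` divides the index of the normal subgroup
(Isaacs 11.29), via an explicit finite central-type extension acting on the multiplicity space.
-/
import Mathlib
import Cfsg.Agent.Lib.Lead.CharEquiv
import Cfsg.Agent.Lib.Lead.CharCenter
import Cfsg.Agent.Lib.Helper24.CentralChar
import Cfsg.Agent.Lib.Helper6.Kronecker

set_option autoImplicit false

namespace Cfsg.Agent.Lib.Helper6

open Cfsg Cfsg.Agent.CharLib Cfsg.Agent.Lib.Helper24 Matrix
open scoped Kronecker

universe u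

variable {G : Type u} [Group G]

section model

variable [Finite G] (N : Subgroup G) {d e c : ℕ}

/-- The representation `n ↦ ρ n ⊗ 1` of `N` on `Fin d × Fin e → ℂ`. -/
noncomputable def kronRep (ρ : Representation ℂ N (Fin d → ℂ)) (e : ℕ) :
    Representation ℂ N (Fin d × Fin e → ℂ) where
  toFun n := Matrix.toLin' (LinearMap.toMatrix' (ρ n) ⊗ₖ (1 : Matrix (Fin e) (Fin e) ℂ))
  map_one' := by
    rw [map_one, LinearMap.toMatrix'_one, Matrix.one_kronecker_one, Matrix.toLin'_one]
    rfl
  map_mul' := by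
    intro a b
    rw [map_mul, LinearMap.toMatrix'_mul, Module.End.mul_eq_comp, ← Matrix.toLin'_mul,
      ← Matrix.mul_kronecker_mul, one_mul]

theorem kronRep_character (ρ : Representation ℂ N (Fin d → ℂ)) (e : ℕ) (n : N) :
    (kronRep N ρ e).character n = (e : ℂ) * ρ.character n := by
  change LinearMap.trace ℂ _ (Matrix.toLin' _) = _
  rw [Matrix.trace_toLin'_eq, Matrix.trace_kronecker, Matrix.trace_one, Fintype.card_fin, mul_comm]
  congr 1
  change _ = LinearMap.trace ℂ _ (ρ n)
  rw [LinearMap.trace_eq_matrix_trace ℂ (Pi.basisFun ℂ (Fin d)), LinearMap.toMatrix_eq_toMatrix']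

/-- Matrix model: an irreducible representation of `G` whose restriction to `N` has character
`e ϑ` is equivalent to one on `Fin d × Fin e → ℂ` restricting to `ρ ⊗ 1`. -/
theorem exists_kron_model (ρ : Representation ℂ N (Fin d → ℂ)) (σ : Representation ℂ G (Fin c → ℂ))
    (hσ : σ.IsIrreducible)
    (hres : ∀ n : N, σ.character n = (e : ℂ) * ρ.character n) :
    ∃ σ' : Representation ℂ G (Fin d × Fin e → ℂ), σ'.IsIrreducible ∧
      ∀ n : N, σ' n = Matrix.toLin' (LinearMap.toMatrix' (ρ n) ⊗ₖ (1 : Matrix (Fin e) (Fin e) ℂ)) := by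
  let σN : Representation ℂ N (Fin c → ℂ) := MonoidHom.comp σ N.subtype
  have hchar : σN.character = (kronRep N ρ e).character := by
    funext n
    rw [kronRep_character]
    exact hres n
  obtain ⟨φ⟩ := nonempty_equiv_of_character_eq σN (kronRep N ρ e) hchar
  refine ⟨conjRep σ φ.toLinearEquiv, isIrreducible_conjRep σ φ.toLinearEquiv hσ, ?_⟩
  intro n
  apply LinearMap.ext
  intro w
  rw [conjRep_apply]
  have h1 := LinearMap.congr_fun (φ.toIntertwiningMap.isIntertwining' n) (φ.toLinearEquiv.symm w)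
  have h2 : φ.toLinearEquiv (φ.toLinearEquiv.symm w) = w := φ.toLinearEquiv.apply_symm_apply w
  have h3 : (kronRep N ρ e) n w =
      ((kronRep N ρ e) n ∘ₗ φ.toIntertwiningMap.toLinearMap) (φ.toLinearEquiv.symm w) := by
    rw [LinearMap.comp_apply]
    congr 1
    exact h2.symm
  change _ = (kronRep N ρ e) n w
  rw [h3, ← h1]
  rfl

end model

end Cfsg.Agent.Lib.Helper6
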