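/-
helper6: Isaacs 11.29 — the ramification `χ(1)/ϑ(1)` divides `|G : N|`.
-/
import Mathlib
import Cfsg.Agent.Lib.Helper6.Ramification
import Cfsg.Agent.Lib.Helper6.CliffordCorr

set_option autoImplicit false

namespace Cfsg.Agent.Lib.Helper6

open Cfsg Cfsg.Agent.CharLib Cfsg.Agent.Lib.Helper24 Matrix
open scoped Kronecker

universe u

variable {G : Type u} [Group G]

/-- Entrywise comparison of Kronecker products. -/
theorem kronecker_eq_smul_of_eq {d e : ℕ} {P P₁ : Matrix (Fin d) (Fin d) ℂ}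
    {Q Q₁ : Matrix (Fin e) (Fin e) ℂ} (h : P ⊗ₖ Q = P₁ ⊗ₖ Q₁) (hP : P ≠ 0) :
    ∃ c : ℂ, Q = c • Q₁ := by
  have : ∃ i j, P i j ≠ 0 := by
    by_contra hcon
    push Not at hcon
    apply hP
    ext i j
    exact hcon i j
  obtain ⟨i, j, hij⟩ := this
  refine ⟨P₁ i j / P i j, ?_⟩
  ext k l
  have h1 := congrFun (congrFun h (i, k)) (j, l)
  rw [Matrix.kroneckerMap_apply, Matrix.kroneckerMap_apply] at h1
  rw [Matrix.smul_apply, smul_eq_mul]
  field_simp
  linear_combination h1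

theorem det_ne_zero_of_mul_eq_one {m : Type*} [Fintype m] [DecidableEq m] {A B : Matrix m m ℂ}
    (h : A * B = 1) : A.det ≠ 0 := by
  intro h0
  have := congrArg Matrix.det h
  rw [Matrix.det_mul, h0, zero_mul, Matrix.det_one] at this
  exact zero_ne_one this

/-- Factorisation `S g = P ⊗ Q` with `det Q = 1`. -/
theorem exists_kron_factor [Finite G] (N : Subgroup G) [hN : N.Normal] {d e : ℕ} (hd : 0 < d)
    (he : 0 < e) (R : N →* Matrix (Fin d) (Fin d) ℂ)
    (hschur : ∀ B : Matrix (Fin d) (Fin d) ℂ, (∀ n, B * R n = R n * B) → ∃ c : ℂ, B = c • 1)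
    (S : G →* Matrix (Fin d × Fin e) (Fin d × Fin e) ℂ)
    (hSN : ∀ n : N, S n = R n ⊗ₖ (1 : Matrix (Fin e) (Fin e) ℂ))
    (hP : ∀ g : G, ∃ P₀ : Matrix (Fin d) (Fin d) ℂ, P₀.det ≠ 0 ∧
      ∀ n : N, P₀ * R n = R ⟨g * n * g⁻¹, hN.conj_mem n n.2 g⟩ * P₀) (g : G) :
    ∃ (P : Matrix (Fin d) (Fin d) ℂ) (Q : Matrix (Fin e) (Fin e) ℂ), S g = P ⊗ₖ Q ∧ Q.det = 1 := by
  classical
  obtain ⟨P₀, hP₀det, hP₀⟩ := hP g
  have hP₀inv : P₀⁻¹ * P₀ = 1 := Matrix.nonsing_inv_mul _ (isUnit_iff_ne_zero.mpr hP₀det)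
  have hP₀inv' : P₀ * P₀⁻¹ = 1 := Matrix.mul_nonsing_inv _ (isUnit_iff_ne_zero.mpr hP₀det)
  -- `S g` conjugates `R n ⊗ 1`
  have hSconj : ∀ n : N, S g * (R n ⊗ₖ (1 : Matrix (Fin e) (Fin e) ℂ)) =
      (R ⟨g * n * g⁻¹, hN.conj_mem n n.2 g⟩ ⊗ₖ (1 : Matrix (Fin e) (Fin e) ℂ)) * S g := by
    intro n
    rw [← hSN, ← hSN, ← map_mul, ← map_mul]
    congr 1
    simp
  have hcomm : ∀ n : N, (P₀⁻¹ ⊗ₖ (1 : Matrix (Fin e) (Fin e) ℂ) * S g) *
      (R n ⊗ₖ (1 : Matrix (Fin e) (Fin e) ℂ)) =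
      (R n ⊗ₖ (1 : Matrix (Fin e) (Fin e) ℂ)) * (P₀⁻¹ ⊗ₖ (1 : Matrix (Fin e) (Fin e) ℂ) * S g) := by
    intro n
    have h1 : P₀⁻¹ * R ⟨g * n * g⁻¹, hN.conj_mem n n.2 g⟩ = R n * P₀⁻¹ := by
      calc P₀⁻¹ * R ⟨g * n * g⁻¹, hN.conj_mem n n.2 g⟩
          = P₀⁻¹ * (R ⟨g * n * g⁻¹, hN.conj_mem n n.2 g⟩ * P₀) * P₀⁻¹ := by
            rw [Matrix.mul_assoc, Matrix.mul_assoc, hP₀inv', Matrix.mul_one]
        _ = P₀⁻¹ * (P₀ * R n) * P₀⁻¹ := by rw [hP₀ n]
        _ = R n * P₀⁻¹ := by rw [← Matrix.mul_assoc, hP₀inv, Matrix.one_mul]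
    rw [Matrix.mul_assoc, hSconj n, ← Matrix.mul_assoc, ← Matrix.mul_kronecker_mul, h1, one_mul,
      ← Matrix.mul_assoc, ← Matrix.mul_kronecker_mul, one_mul]
  obtain ⟨Q₀, hQ₀⟩ := exists_kronecker_of_commute (fun n => R n) hschur _ hcomm
  have hSg : S g = P₀ ⊗ₖ Q₀ := by
    have h1 : S g = (P₀ ⊗ₖ (1 : Matrix (Fin e) (Fin e) ℂ)) *
        (P₀⁻¹ ⊗ₖ (1 : Matrix (Fin e) (Fin e) ℂ) * S g) := by
      rw [← Matrix.mul_assoc, ← Matrix.mul_kronecker_mul, hP₀inv', one_mul,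
        Matrix.one_kronecker_one, Matrix.one_mul]
    rw [h1, hQ₀, ← Matrix.mul_kronecker_mul, Matrix.mul_one, Matrix.one_mul]
  have hdetS : (S g).det ≠ 0 := by
    apply det_ne_zero_of_mul_eq_one (B := S g⁻¹)
    rw [← map_mul, mul_inv_cancel, map_one]
  have hdetQ₀ : Q₀.det ≠ 0 := by
    intro h0
    apply hdetS
    rw [hSg, Matrix.det_kronecker, h0, Fintype.card_fin, Fintype.card_fin, zero_pow hd.ne', mul_zero]
  obtain ⟨a, ha⟩ := IsAlgClosed.exists_pow_nat_eq (Q₀.det)⁻¹ he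
  have ha0 : a ≠ 0 := by
    intro h0
    rw [h0, zero_pow he.ne'] at ha
    exact (inv_ne_zero hdetQ₀) ha.symm
  refine ⟨a⁻¹ • P₀, a • Q₀, ?_, ?_⟩
  · rw [hSg, Matrix.smul_kronecker, Matrix.kronecker_smul, smul_smul, inv_mul_cancel₀ ha0, one_smul]
  · rw [Matrix.det_smul, Fintype.card_fin, ha, inv_mul_cancel₀ hdetQ₀]

/-- The multiplicity divides the index: matrix version. -/
theorem dvd_index_of_kron_model [Finite G] (N : Subgroup G) [hN : N.Normal] {d e : ℕ} (hd : 0 < d)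
    (he : 0 < e) (R : N →* Matrix (Fin d) (Fin d) ℂ)
    (hschur : ∀ B : Matrix (Fin d) (Fin d) ℂ, (∀ n, B * R n = R n * B) → ∃ c : ℂ, B = c • 1)
    (S : G →* Matrix (Fin d × Fin e) (Fin d × Fin e) ℂ)
    (hSN : ∀ n : N, S n = R n ⊗ₖ (1 : Matrix (Fin e) (Fin e) ℂ))
    (hP : ∀ g : G, ∃ P₀ : Matrix (Fin d) (Fin d) ℂ, P₀.det ≠ 0 ∧
      ∀ n : N, P₀ * R n = R ⟨g * n * g⁻¹, hN.conj_mem n n.2 g⟩ * P₀)
    (hirr : ∀ U : Submodule ℂ (Fin d × Fin e → ℂ),
      (∀ g, ∀ x ∈ U, (S g).mulVec x ∈ U) → U = ⊥ ∨ U = ⊤) :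
    e ∣ N.index := by
  classical
  have hfac := exists_kron_factor N hd he R hschur S hSN hP
  have hdetS : ∀ g : G, (S g).det ≠ 0 := by
    intro g
    apply det_ne_zero_of_mul_eq_one (B := S g⁻¹)
    rw [← map_mul, mul_inv_cancel, map_one]
  have hPne : ∀ (g : G) (P : Matrix (Fin d) (Fin d) ℂ) (Q : Matrix (Fin e) (Fin e) ℂ),
      S g = P ⊗ₖ Q → P.det ≠ 0 := by
    intro g P Q h h0
    apply hdetS g
    rw [h, Matrix.det_kronecker, h0, Fintype.card_fin, zero_pow he.ne', zero_mul]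
  have hPne0 : ∀ (g : G) (P : Matrix (Fin d) (Fin d) ℂ) (Q : Matrix (Fin e) (Fin e) ℂ),
      S g = P ⊗ₖ Q → P ≠ 0 := by
    intro g P Q h h0
    apply hPne g P Q h
    have : Nonempty (Fin d) := ⟨⟨0, hd⟩⟩
    rw [h0, Matrix.det_zero]
  -- the group Γ
  let Γ : Subgroup (G × (Matrix (Fin e) (Fin e) ℂ)ˣ) :=
    { carrier := {x | (x.2 : Matrix (Fin e) (Fin e) ℂ).det = 1 ∧
        ∃ P : Matrix (Fin d) (Fin d) ℂ, S x.1 = P ⊗ₖ (x.2 : Matrix (Fin e) (Fin e) ℂ)}
      mul_mem' := by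
        rintro x y ⟨hx1, Px, hx2⟩ ⟨hy1, Py, hy2⟩
        refine ⟨?_, Px * Py, ?_⟩
        · rw [Prod.snd_mul, Units.val_mul, Matrix.det_mul, hx1, hy1, one_mul]
        · rw [Prod.fst_mul, map_mul, hx2, hy2, Prod.snd_mul, Units.val_mul,
            ← Matrix.mul_kronecker_mul]
      one_mem' := by
        refine ⟨?_, 1, ?_⟩
        · rw [Prod.snd_one, Units.val_one, Matrix.det_one]
        · rw [Prod.fst_one, map_one, Prod.snd_one, Units.val_one, Matrix.one_kronecker_one]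
      inv_mem' := by
        rintro x ⟨hx1, Px, hx2⟩
        have hPdet := hPne x.1 Px _ hx2
        have hPinv : Px⁻¹ * Px = 1 := Matrix.nonsing_inv_mul _ (isUnit_iff_ne_zero.mpr hPdet)
        refine ⟨?_, Px⁻¹, ?_⟩
        · rw [Prod.snd_inv]
          have h1 : ((x.2 : Matrix (Fin e) (Fin e) ℂ)).det * ((x.2⁻¹ : (Matrix (Fin e) (Fin e) ℂ)ˣ) :
              Matrix (Fin e) (Fin e) ℂ).det = 1 := by
            rw [← Matrix.det_mul, ← Units.val_mul, mul_inv_cancel, Units.val_one, Matrix.det_one]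
          rw [hx1, one_mul] at h1
          exact h1
        · rw [Prod.fst_inv, Prod.snd_inv]
          have h1 : (Px⁻¹ ⊗ₖ ((x.2⁻¹ : (Matrix (Fin e) (Fin e) ℂ)ˣ) : Matrix (Fin e) (Fin e) ℂ)) *
              S x.1 = 1 := by
            rw [hx2, ← Matrix.mul_kronecker_mul, hPinv, ← Units.val_mul, inv_mul_cancel,
              Units.val_one, Matrix.one_kronecker_one]
          have h2 : S x.1 * S x.1⁻¹ = 1 := by rw [← map_mul, mul_inv_cancel, map_one]
          calc S x.1⁻¹ = ((Px⁻¹ ⊗ₖ ((x.2⁻¹ : (Matrix (Fin e) (Fin e) ℂ)ˣ) :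
                Matrix (Fin e) (Fin e) ℂ)) * S x.1) * S x.1⁻¹ := by rw [h1, Matrix.one_mul]
            _ = Px⁻¹ ⊗ₖ ((x.2⁻¹ : (Matrix (Fin e) (Fin e) ℂ)ˣ) : Matrix (Fin e) (Fin e) ℂ) := by
                rw [Matrix.mul_assoc, h2, Matrix.mul_one] }
  have hΓmem : ∀ x : G × (Matrix (Fin e) (Fin e) ℂ)ˣ, x ∈ Γ ↔
      ((x.2 : Matrix (Fin e) (Fin e) ℂ).det = 1 ∧
        ∃ P : Matrix (Fin d) (Fin d) ℂ, S x.1 = P ⊗ₖ (x.2 : Matrix (Fin e) (Fin e) ℂ)) :=
    fun x => Iff.rfl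
  -- the projection to `G ⧸ N`
  let π : Γ →* G ⧸ N := (QuotientGroup.mk' N).comp ((MonoidHom.fst G _).comp Γ.subtype)
  have hπ : ∀ γ : Γ, π γ = ((γ : G × (Matrix (Fin e) (Fin e) ℂ)ˣ).1 : G ⧸ N) := fun γ => rfl
  have hπsurj : Function.Surjective π := by
    intro q
    obtain ⟨g, rfl⟩ := QuotientGroup.mk'_surjective N q
    obtain ⟨P, Q, hS, hQ⟩ := hfac g
    have hQu : IsUnit Q.det := by rw [hQ]; exact isUnit_one
    let Qu : (Matrix (Fin e) (Fin e) ℂ)ˣ := Matrix.nonsingInvUnit Q hQu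
    have hQuval : (Qu : Matrix (Fin e) (Fin e) ℂ) = Q := rfl
    exact ⟨⟨(g, Qu), (hΓmem _).mpr ⟨by rw [hQuval]; exact hQ, P, by rw [hQuval]; exact hS⟩⟩, rfl⟩
  -- elements of the kernel are scalar
  have hkerscal : ∀ z : π.ker, ∃ c : ℂ,
      (((z : Γ) : G × (Matrix (Fin e) (Fin e) ℂ)ˣ).2 : Matrix (Fin e) (Fin e) ℂ) = c • 1 := by
    intro z
    have hz : π (z : Γ) = 1 := z.2
    rw [hπ, QuotientGroup.eq_one_iff] at hz
    obtain ⟨-, P, hS⟩ := (hΓmem _).mp (z : Γ).2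
    have h1 := hSN ⟨_, hz⟩
    change S ((z : Γ) : G × (Matrix (Fin e) (Fin e) ℂ)ˣ).1 = _ at h1
    rw [hS] at h1
    exact kronecker_eq_smul_of_eq h1 (hPne0 _ P _ hS)
  -- finiteness
  have hfin : Finite Γ := by
    rw [MonoidHom.finite_iff_finite_ker_range π]
    refine ⟨?_, inferInstance⟩
    have hroot : ∀ z : π.ker,
        (((z : Γ) : G × (Matrix (Fin e) (Fin e) ℂ)ˣ).2 : Matrix (Fin e) (Fin e) ℂ) ⟨0, he⟩ ⟨0, he⟩ ∈
          Polynomial.nthRootsFinset e (1 : ℂ) := by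
      intro z
      obtain ⟨c, hc⟩ := hkerscal z
      rw [Polynomial.mem_nthRootsFinset he, hc]
      have hdet := ((hΓmem _).mp (z : Γ).2).1
      rw [hc, Matrix.det_smul, Matrix.det_one, mul_one, Fintype.card_fin] at hdet
      simpa using hdet
    let f : π.ker → G × ↥(Polynomial.nthRootsFinset e (1 : ℂ)) := fun z =>
      (((z : Γ) : G × (Matrix (Fin e) (Fin e) ℂ)ˣ).1, ⟨_, hroot z⟩)
    apply Finite.of_injective f
    intro z w hzw
    have h1 : ((z : Γ) : G × (Matrix (Fin e) (Fin e) ℂ)ˣ).1 =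
        ((w : Γ) : G × (Matrix (Fin e) (Fin e) ℂ)ˣ).1 := by
      have := congrArg Prod.fst hzw
      exact this
    have h2 : ((f z).2 : ℂ) = ((f w).2 : ℂ) := by rw [hzw]
    change (((z : Γ) : G × (Matrix (Fin e) (Fin e) ℂ)ˣ).2 : Matrix (Fin e) (Fin e) ℂ) ⟨0, he⟩ ⟨0, he⟩ =
      (((w : Γ) : G × (Matrix (Fin e) (Fin e) ℂ)ˣ).2 : Matrix (Fin e) (Fin e) ℂ) ⟨0, he⟩ ⟨0, he⟩ at h2
    obtain ⟨c, hc⟩ := hkerscal z
    obtain ⟨c', hc'⟩ := hkerscal w
    rw [hc, hc'] at h2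
    simp only [Matrix.smul_apply, Matrix.one_apply_eq, smul_eq_mul, mul_one] at h2
    apply Subtype.ext
    apply Subtype.ext
    apply Prod.ext h1
    apply Units.ext
    rw [hc, hc', h2]
  -- the representation of Γ
  let ρΓ : Representation ℂ Γ (Fin e → ℂ) :=
    { toFun := fun γ => Matrix.toLin' ((γ : G × (Matrix (Fin e) (Fin e) ℂ)ˣ).2 :
        Matrix (Fin e) (Fin e) ℂ)
      map_one' := by
        change Matrix.toLin' (((1 : G × (Matrix (Fin e) (Fin e) ℂ)ˣ).2 : (Matrix (Fin e) (Fin e) ℂ)ˣ) :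
          Matrix (Fin e) (Fin e) ℂ) = 1
        rw [Prod.snd_one, Units.val_one, Matrix.toLin'_one]
        rfl
      map_mul' := by
        intro a b
        change Matrix.toLin' ((((a : G × (Matrix (Fin e) (Fin e) ℂ)ˣ) * b).2 :
          (Matrix (Fin e) (Fin e) ℂ)ˣ) : Matrix (Fin e) (Fin e) ℂ) = _
        rw [Prod.snd_mul, Units.val_mul, Matrix.toLin'_mul]
        rfl }
  have hρΓ : ∀ (γ : Γ) (u : Fin e → ℂ), ρΓ γ u =
      ((γ : G × (Matrix (Fin e) (Fin e) ℂ)ˣ).2 : Matrix (Fin e) (Fin e) ℂ).mulVec u := fun γ u => rfl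
  have hirrΓ : ρΓ.IsIrreducible := by
    have hnt : Nontrivial (Fin e → ℂ) := by
      have : Nonempty (Fin e) := ⟨⟨0, he⟩⟩
      infer_instance
    refine { exists_pair_ne := ⟨⊥, ⊤, ?_⟩, eq_bot_or_eq_top := ?_ }
    · intro hbt
      have h1 := congrArg Subrepresentation.toSubmodule hbt
      exact bot_ne_top (α := Submodule ℂ (Fin e → ℂ)) h1
    · intro U
      let U' : Submodule ℂ (Fin d × Fin e → ℂ) :=
        { carrier := {x | ∀ i, (fun k => x (i, k)) ∈ U.toSubmodule}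
          add_mem' := by
            intro x y hx hy i
            exact U.toSubmodule.add_mem (hx i) (hy i)
          zero_mem' := by
            intro i
            exact U.toSubmodule.zero_mem
          smul_mem' := by
            intro c x hx i
            exact U.toSubmodule.smul_mem c (hx i) }
      have hU'mem : ∀ x, x ∈ U' ↔ ∀ i, (fun k => x (i, k)) ∈ U.toSubmodule := fun x => Iff.rfl
      have hU'inv : ∀ g, ∀ x ∈ U', (S g).mulVec x ∈ U' := by
        intro g x hx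
        obtain ⟨P, Q, hS, hQ⟩ := hfac g
        have hQu : IsUnit Q.det := by rw [hQ]; exact isUnit_one
        let Qu : (Matrix (Fin e) (Fin e) ℂ)ˣ := Matrix.nonsingInvUnit Q hQu
        have hQuval : (Qu : Matrix (Fin e) (Fin e) ℂ) = Q := rfl
        let γ : Γ := ⟨(g, Qu), (hΓmem _).mpr ⟨by rw [hQuval]; exact hQ, P, by rw [hQuval]; exact hS⟩⟩
        rw [hU'mem]
        intro i
        have hrow : (fun k => (S g).mulVec x (i, k)) =
            ∑ j, P i j • Q.mulVec (fun l => x (j, l)) := by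
          funext k
          rw [hS, Matrix.mulVec, dotProduct, Fintype.sum_prod_type, Finset.sum_apply]
          apply Finset.sum_congr rfl
          intro j _
          rw [Pi.smul_apply, smul_eq_mul, Matrix.mulVec, dotProduct, Finset.mul_sum]
          apply Finset.sum_congr rfl
          intro l _
          rw [Matrix.kroneckerMap_apply]
          ring
        rw [hrow]
        apply U.toSubmodule.sum_mem
        intro j _
        apply U.toSubmodule.smul_mem
        have := U.apply_mem_toSubmodule γ ((hU'mem x).mp hx j)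
        rw [hρΓ] at this
        exact this
      rcases hirr U' hU'inv with h | h
      · left
        apply Subrepresentation.toSubmodule_injective
        change U.toSubmodule = ⊥
        rw [eq_bot_iff]
        intro u hu
        have hx : (fun p : Fin d × Fin e => u p.2) ∈ U' := by
          rw [hU'mem]
          intro i
          exact hu
        rw [h, Submodule.mem_bot] at hx
        rw [Submodule.mem_bot]
        funext k
        exact congrFun hx (⟨0, hd⟩, k)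
      · right
        apply Subrepresentation.toSubmodule_injective
        change U.toSubmodule = ⊤
        rw [eq_top_iff]
        intro u _
        have hx : (fun p : Fin d × Fin e => u p.2) ∈ U' := by
          rw [h]
          exact Submodule.mem_top
        exact (hU'mem _).mp hx ⟨0, hd⟩
  -- scalars
  have hscal : ∀ z : π.ker, ∃ c : ℂ, ρΓ ((z : Γ)) = c • (1 : Module.End ℂ (Fin e → ℂ)) := by
    intro z
    obtain ⟨c, hc⟩ := hkerscal z
    refine ⟨c, ?_⟩
    change Matrix.toLin' (((z : Γ) : G × (Matrix (Fin e) (Fin e) ℂ)ˣ).2 :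
      Matrix (Fin e) (Fin e) ℂ) = _
    rw [hc, map_smul, Matrix.toLin'_one]
    rfl
  have hdvd := @finrank_dvd_index_of_scalar Γ _ (Fin e → ℂ) _ _ _ hfin ρΓ hirrΓ π.ker hscal
  rw [Module.finrank_fin_fun] at hdvd
  have hidx : π.ker.index = N.index := by
    rw [Subgroup.index_ker, MonoidHom.range_eq_top.mpr hπsurj, Subgroup.card_top,
      Subgroup.index_eq_card]
  rwa [hidx] at hdvd

/-- The multiplicity divides the index: representation version. -/
theorem dvd_index_of_rep [Finite G] (N : Subgroup G) [hN : N.Normal] {d e c : ℕ} (he : 0 < e)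
    (ρ : Representation ℂ N (Fin d → ℂ)) (hρ : ρ.IsIrreducible)
    (hinv : ∀ (g : G) (n : N),
      ρ.character ⟨g * n * g⁻¹, hN.conj_mem n n.2 g⟩ = ρ.character n)
    (σ : Representation ℂ G (Fin c → ℂ)) (hσ : σ.IsIrreducible)
    (hres : ∀ n : N, σ.character n = (e : ℂ) * ρ.character n) : e ∣ N.index := by
  classical
  have hd : 0 < d := by
    have := finrank_pos_of_isIrreducible ρ
    rwa [Module.finrank_fin_fun] at this
  obtain ⟨σ', hσ', hσ'N⟩ := exists_kron_model N ρ σ hσ hres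
  let R : N →* Matrix (Fin d) (Fin d) ℂ :=
    { toFun := fun n => LinearMap.toMatrix' (ρ n)
      map_one' := by rw [map_one]; exact LinearMap.toMatrix'_one
      map_mul' := by intro a b; rw [map_mul]; exact LinearMap.toMatrix'_mul _ _ }
  have hR : ∀ n : N, R n = LinearMap.toMatrix' (ρ n) := fun n => rfl
  let S : G →* Matrix (Fin d × Fin e) (Fin d × Fin e) ℂ :=
    { toFun := fun g => LinearMap.toMatrix' (σ' g)
      map_one' := by rw [map_one]; exact LinearMap.toMatrix'_one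
      map_mul' := by intro a b; rw [map_mul]; exact LinearMap.toMatrix'_mul _ _ }
  have hS : ∀ g : G, S g = LinearMap.toMatrix' (σ' g) := fun g => rfl
  apply dvd_index_of_kron_model N hd he R ?_ S ?_ ?_ ?_
  · -- Schur
    intro B hB
    obtain ⟨cc, hcc⟩ := exists_eq_smul_one_of_comm ρ (Matrix.toLin' B) (by
      intro n
      have h1 := hB n
      rw [hR] at h1
      have h2 := congrArg Matrix.toLin' h1
      rw [Matrix.toLin'_mul, Matrix.toLin'_mul, Matrix.toLin'_toMatrix'] at h2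
      exact h2)
    refine ⟨cc, ?_⟩
    have h3 := congrArg LinearMap.toMatrix' hcc
    rw [LinearMap.toMatrix'_toLin', map_smul] at h3
    rw [h3]
    congr 1
    exact LinearMap.toMatrix'_one
  · intro n
    rw [hS, hσ'N n, LinearMap.toMatrix'_toLin', hR]
  · -- intertwiners
    intro g
    let cg : N ≃* N := MulAut.conjNormal g
    let ρ' : Representation ℂ N (Fin d → ℂ) := ρ.comp cg.toMonoidHom
    have hchar : ρ.character = ρ'.character := by
      funext n
      change _ = ρ.character (cg n)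
      rw [← hinv g n]
      rfl
    obtain ⟨φ⟩ := nonempty_equiv_of_character_eq ρ ρ' hchar
    refine ⟨LinearMap.toMatrix' φ.toLinearEquiv.toLinearMap, ?_, ?_⟩
    · apply det_ne_zero_of_mul_eq_one (B := LinearMap.toMatrix' φ.toLinearEquiv.symm.toLinearMap)
      rw [← LinearMap.toMatrix'_comp, LinearEquiv.comp_symm]
      exact LinearMap.toMatrix'_id
    · intro n
      rw [hR, hR, ← LinearMap.toMatrix'_comp, ← LinearMap.toMatrix'_comp]
      congr 1
      exact φ.toIntertwiningMap.isIntertwining' n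
  · -- irreducibility
    intro U hU
    let W : Subrepresentation σ' := ⟨U, by
      intro g x hx
      have := hU g x hx
      rw [hS, ← Matrix.toLin'_apply, Matrix.toLin'_toMatrix'] at this
      exact this⟩
    rcases hσ'.eq_bot_or_eq_top W with h | h
    · left
      exact congrArg Subrepresentation.toSubmodule h
    · right
      exact congrArg Subrepresentation.toSubmodule h

/-- The multiplicity divides the index: invariant characters. -/
theorem dvd_index_of_invariant [Finite G] (N : Subgroup G) [hN : N.Normal] {e : ℕ} (he : 0 < e)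
    {χ : G → ℂ} (hχ : IsIrrCharacter G χ) {ϑ : N → ℂ} (hϑ : IsIrrCharacter N ϑ)
    (hinv : ∀ g : G, conjFun N g ϑ = ϑ) (hres : resFun N χ = (e : ℂ) • ϑ) : e ∣ N.index := by
  obtain ⟨d, ρ, hρ, rfl⟩ := hϑ
  obtain ⟨c, σ, hσ, rfl⟩ := hχ
  apply dvd_index_of_rep N he ρ hρ ?_ σ hσ ?_
  · intro g n
    have := congrFun (hinv g) n
    rw [conjFun_apply] at this
    exact this
  · intro n
    have := congrFun hres n
    rw [resFun_apply, Pi.smul_apply, smul_eq_mul] at this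
    exact this

/-- The inertia subgroup of a function on a normal subgroup. -/
def inertiaSubgroup (N : Subgroup G) [hN : N.Normal] (ϑ : N → ℂ) : Subgroup G where
  carrier := {g | conjFun N g ϑ = ϑ}
  mul_mem' := by
    intro a b ha hb
    change conjFun N (a * b) ϑ = ϑ
    rw [conjFun_mul, ha, hb]
  one_mem' := conjFun_one N ϑ
  inv_mem' := by
    intro a ha
    change conjFun N a⁻¹ ϑ = ϑ
    have := conjFun_inv_conjFun N a ϑ
    rw [ha] at this
    exact this

theorem mem_inertiaSubgroup (N : Subgroup G) [hN : N.Normal] (ϑ : N → ℂ) (g : G) :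
    g ∈ inertiaSubgroup N ϑ ↔ conjFun N g ϑ = ϑ := Iff.rfl

/-- **Isaacs 11.29**: for `ϑ` an irreducible constituent of `χ_N`, `ϑ(1)` divides `χ(1)` and the
quotient divides `|G : N|`. -/
theorem degree_ratio_dvd_index [Fintype G] (N : Subgroup G) [hN : N.Normal] [Fintype N]
    {χ : G → ℂ} (hχ : IsIrrCharacter G χ) {ϑ : N → ℂ} (hϑ : IsIrrCharacter N ϑ)
    (hcon : classInner (resFun N χ) ϑ ≠ 0) {c d : ℕ} (hc : χ 1 = c) (hd : ϑ 1 = d) :
    d ∣ c ∧ c / d ∣ N.index := by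
  classical
  let T := inertiaSubgroup N ϑ
  let _ : Fintype T := Fintype.ofFinite T
  have hT : ∀ g : G, g ∈ T ↔ conjFun N g ϑ = ϑ := fun g => Iff.rfl
  have hϑcf : IsClassFunction N ϑ := IsCharacter.isClassFunction (IsIrrCharacter.isCharacter hϑ)
  have hNT : N ≤ T := fun n hn => (hT n).mpr (conjFun_of_mem N hϑcf hn)
  obtain ⟨e, he⟩ := IsCharacter.classInner_nat
    (isCharacter_resFun N (IsIrrCharacter.isCharacter hχ)) (IsIrrCharacter.isCharacter hϑ)
  have he0 : e ≠ 0 := by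
    intro h0
    apply hcon
    rw [he, h0, Nat.cast_zero]
  -- degrees
  have hdeg := clifford_degree N hχ hϑ hcon
  have horb : (conjOrbit N ϑ).card = T.index := by
    have h1 := card_conjOrbit_mul N ϑ
    rw [← card_eq_card_stab hT, ← Subgroup.index_mul_card T] at h1
    exact Nat.eq_of_mul_eq_mul_right Nat.card_pos h1
  have hd0 : d ≠ 0 := by
    obtain ⟨dθ, hdθpos, hdθ⟩ := IsIrrCharacter.apply_one_pos hϑ
    rw [hd] at hdθ
    have : d = dθ := by exact_mod_cast hdθ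
    omega
  have hcd : c = e * T.index * d := by
    rw [hc, he, horb, hd] at hdeg
    exact_mod_cast hdeg
  -- the Clifford correspondent
  obtain ⟨ψ, hψ, -, hψe⟩ := exists_indFun_inertia_eq hNT hϑ hT hχ hcon
  have hf : classInner (resLE hNT ψ) ϑ ≠ 0 := by rw [hψe]; exact hcon
  have hψN := resLE_eq_smul_of_invariant hNT hψ hϑ (fun t ht => (hT t).mp ht) hf
  rw [hψe, he] at hψN
  let eq := Subgroup.subgroupOfEquivOfLe hNT
  have hϑ' : IsIrrCharacter (N.subgroupOf T) (ϑ ∘ eq) := isIrrCharacter_comp_mulEquiv' eq hϑ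
  have hinv' : ∀ t : T, conjFun (N.subgroupOf T) t (ϑ ∘ eq) = ϑ ∘ eq := by
    intro t
    rw [conjFun_subgroupOf, (hT t).mp t.2]
  have hres' : resFun (N.subgroupOf T) ψ = (e : ℂ) • (ϑ ∘ eq) := by
    rw [resFun_subgroupOf hNT ψ, hψN]
    rfl
  have h1 : e ∣ (N.subgroupOf T).index :=
    dvd_index_of_invariant (N.subgroupOf T) (Nat.pos_of_ne_zero he0) hψ hϑ' hinv' hres'
  have h2 : N.relIndex T * T.index = N.index := Subgroup.relIndex_mul_index hNT
  refine ⟨⟨e * T.index, by rw [hcd]; ring⟩, ?_⟩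
  have h3 : c / d = e * T.index := by
    rw [hcd]
    exact Nat.mul_div_cancel _ (Nat.pos_of_ne_zero hd0)
  rw [h3, ← h2]
  exact Nat.mul_dvd_mul h1 dvd_rfl

end Cfsg.Agent.Lib.Helper6
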