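/-
helper6: groups with an involution whose centralizer is dihedral of order 8 (Isaacs 7.10), part A:
elementary group theory.
-/
import Mathlib
import Cfsg.Agent.S0111

set_option autoImplicit false

namespace Cfsg.Agent.Lib.Helper6.D8Cent

open DihedralGroup

universe u

/-! ### Facts about the dihedral group of order 8 -/

theorem d8_central : ∀ x : DihedralGroup 4, (∀ y : DihedralGroup 4, y * x = x * y) → x = 1 ∨ x = r 2 := by
  decide

theorem d8_comm_r1 : ∀ x : DihedralGroup 4, x * r 1 = r 1 * x → ∃ i : ZMod 4, x = r i := by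
  decide

theorem d8_invol : ∀ x : DihedralGroup 4, x * x = 1 → x ≠ 1 → x = r 2 ∨ ∃ i : ZMod 4, x = sr i := by
  decide

theorem d8_sr_conj : ∀ i : ZMod 4, sr i * r 1 * (sr i)⁻¹ = (r 1 : DihedralGroup 4)⁻¹ := by
  decide

theorem d8_r_sq : ∀ i : ZMod 4, (r i : DihedralGroup 4) * r i = 1 → r i ≠ (1 : DihedralGroup 4) → r i = (r 2 : DihedralGroup 4) := by
  decide

/-- Context: an involution `t` with centralizer `D ≃* D_8`. -/
structure Ctx (G : Type u) [Group G] where
  t : G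
  ht : orderOf t = 2
  e : Subgroup.centralizer ({t} : Set G) ≃* DihedralGroup 4

namespace Ctx

variable {G : Type u} [Group G] (C : Ctx G)

/-- The centralizer. -/
abbrev D : Subgroup G := Subgroup.centralizer ({C.t} : Set G)

/-- the element of order four -/
noncomputable def a : G := ((C.e.symm (r 1) : C.D) : G)

theorem mem_D {x : G} : x ∈ C.D ↔ x * C.t = C.t * x := Subgroup.mem_centralizer_singleton_iff

theorem t_mem : C.t ∈ C.D := C.mem_D.2 rfl

theorem t_ne_one : C.t ≠ 1 := by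
  intro h
  have := C.ht
  rw [h, orderOf_one] at this
  omega

theorem t_sq : C.t * C.t = 1 := by
  have := pow_orderOf_eq_one C.t
  rw [C.ht, pow_two] at this
  exact this

theorem a_mem : C.a ∈ C.D := (C.e.symm (r 1)).2

theorem e_a : C.e ⟨C.a, C.a_mem⟩ = r 1 := by
  have : (⟨C.a, C.a_mem⟩ : C.D) = C.e.symm (r 1) := Subtype.ext rfl
  rw [this, MulEquiv.apply_symm_apply]

theorem e_t : C.e ⟨C.t, C.t_mem⟩ = r 2 := by
  have h := d8_central (C.e ⟨C.t, C.t_mem⟩) (by
    intro y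
    have hy : (C.e.symm y : G) * C.t = C.t * (C.e.symm y : G) := C.mem_D.1 (C.e.symm y).2
    have h2 : C.e.symm y * ⟨C.t, C.t_mem⟩ = ⟨C.t, C.t_mem⟩ * C.e.symm y := Subtype.ext hy
    have h3 := congrArg C.e h2
    rw [map_mul, map_mul, MulEquiv.apply_symm_apply] at h3
    exact h3)
  rcases h with h | h
  · exfalso
    have h1 : (⟨C.t, C.t_mem⟩ : C.D) = 1 := by
      have := congrArg C.e.symm h
      rwa [MulEquiv.symm_apply_apply, map_one] at this
    exact C.t_ne_one (congrArg Subtype.val h1)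
  · exact h

theorem a_sq : C.a * C.a = C.t := by
  have h : C.e (⟨C.a, C.a_mem⟩ * ⟨C.a, C.a_mem⟩) = C.e ⟨C.t, C.t_mem⟩ := by
    rw [map_mul, C.e_a, C.e_t, r_mul_r]
    rfl
  have := C.e.injective h
  exact congrArg Subtype.val this

theorem a_pow_two : C.a ^ 2 = C.t := by rw [pow_two, C.a_sq]

theorem a_pow_four : C.a ^ 4 = 1 := by
  have : C.a ^ 4 = (C.a ^ 2) ^ 2 := by rw [← pow_mul]
  rw [this, C.a_pow_two, pow_two, C.t_sq]

theorem orderOf_a : orderOf C.a = 4 := by
  have h : orderOf (⟨C.a, C.a_mem⟩ : C.D) = 4 := by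
    rw [← MulEquiv.orderOf_eq C.e, C.e_a, orderOf_r_one]
  rw [← h]
  exact (Subgroup.orderOf_mk C.a C.a_mem).symm

theorem a_inv_sq : C.a⁻¹ * C.a⁻¹ = C.t := by
  have h1 : C.a⁻¹ * C.a⁻¹ = (C.a * C.a)⁻¹ := by group
  rw [h1, C.a_sq]
  exact inv_eq_of_mul_eq_one_left C.t_sq

/-- Elements commuting with `a` lie in `D`. -/
theorem mem_D_of_comm_a {x : G} (hx : x * C.a = C.a * x) : x ∈ C.D := by
  rw [C.mem_D, ← C.a_sq, ← mul_assoc, hx, mul_assoc, hx, mul_assoc]

/-- Elements inverting `a` lie in `D`. -/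
theorem mem_D_of_inv_a {x : G} (hx : x * C.a * x⁻¹ = C.a⁻¹) : x ∈ C.D := by
  rw [C.mem_D]
  have h1 : x * C.t * x⁻¹ = C.t := by
    rw [← C.a_sq]
    have : x * (C.a * C.a) * x⁻¹ = (x * C.a * x⁻¹) * (x * C.a * x⁻¹) := by group
    rw [this, hx, C.a_inv_sq, C.a_sq]
  calc x * C.t = x * C.t * x⁻¹ * x := by group
    _ = C.t * x := by rw [h1]

theorem card_D : Nat.card C.D = 8 := by
  rw [Nat.card_congr C.e.toEquiv, DihedralGroup.nat_card]

end Ctx

end Cfsg.Agent.Lib.Helper6.D8Cent
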