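/-
helper6: Isaacs 7.10, part A2: centralizer of `a`, Sylow property, conjugacy of involutions.
-/
import Mathlib
import Cfsg.Agent.Lib.Helper6.D8A

set_option autoImplicit false

namespace Cfsg.Agent.Lib.Helper6.D8Cent

open DihedralGroup

universe u

namespace Ctx

variable {G : Type u} [Group G] (C : Ctx G)

/-- transport of an element of `D` commuting relation -/
theorem e_mul_comm {x y : G} (hx : x ∈ C.D) (hy : y ∈ C.D) (h : x * y = y * x) :
    C.e ⟨x, hx⟩ * C.e ⟨y, hy⟩ = C.e ⟨y, hy⟩ * C.e ⟨x, hx⟩ := by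
  rw [← map_mul, ← map_mul]
  congr 1
  exact Subtype.ext h

theorem symm_mul_comm {x y : DihedralGroup 4} (h : x * y = y * x) :
    (C.e.symm x : G) * (C.e.symm y : G) = (C.e.symm y : G) * (C.e.symm x : G) := by
  have := congrArg (fun z => ((C.e.symm z : C.D) : G)) h
  simpa [map_mul] using this

theorem symm_r1 : ((C.e.symm (r 1) : C.D) : G) = C.a := rfl

/-- The centralizer of `a`, as a set with four elements. -/
noncomputable def centEquiv :
    Subgroup.centralizer ({C.a} : Set G) ≃ {y : DihedralGroup 4 // y * r 1 = r 1 * y} where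
  toFun x := ⟨C.e ⟨x, C.mem_D_of_comm_a (Subgroup.mem_centralizer_singleton_iff.1 x.2)⟩, by
    have h := C.e_mul_comm (C.mem_D_of_comm_a (Subgroup.mem_centralizer_singleton_iff.1 x.2)) C.a_mem
      (Subgroup.mem_centralizer_singleton_iff.1 x.2)
    rw [C.e_a] at h
    exact h⟩
  invFun y := ⟨(C.e.symm y.1 : G), by
    rw [Subgroup.mem_centralizer_singleton_iff]
    have := C.symm_mul_comm y.2
    rw [C.symm_r1] at this
    exact this⟩
  left_inv x := by
    apply Subtype.ext
    simp
  right_inv y := by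
    apply Subtype.ext
    simp

theorem card_centralizer_a : Nat.card (Subgroup.centralizer ({C.a} : Set G)) = 4 := by
  rw [Nat.card_congr C.centEquiv, Nat.card_eq_fintype_card]
  decide

/-- An involution in `⟨a⟩` is `t`. -/
theorem eq_t_of_mem_zpowers {x : G} (hx : x ∈ Subgroup.zpowers C.a) (h2 : x * x = 1) (h1 : x ≠ 1) :
    x = C.t := by
  obtain ⟨k, rfl⟩ := Subgroup.mem_zpowers_iff.1 hx
  have hmem : C.a ^ k ∈ C.D := Subgroup.zpow_mem _ C.a_mem k
  have he : C.e ⟨C.a ^ k, hmem⟩ = r (k : ZMod 4) := by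
    have : (⟨C.a ^ k, hmem⟩ : C.D) = (⟨C.a, C.a_mem⟩ : C.D) ^ k := Subtype.ext (by simp)
    rw [this, map_zpow, C.e_a, r_one_zpow]
  have h3 : (r (k : ZMod 4) : DihedralGroup 4) * r (k : ZMod 4) = 1 := by
    rw [← he, ← map_mul]
    have : (⟨C.a ^ k, hmem⟩ : C.D) * ⟨C.a ^ k, hmem⟩ = 1 := Subtype.ext h2
    rw [this, map_one]
  have h4 : (r (k : ZMod 4) : DihedralGroup 4) ≠ 1 := by
    intro h
    rw [← he] at h
    have : (⟨C.a ^ k, hmem⟩ : C.D) = 1 := by
      have := congrArg C.e.symm h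
      rwa [MulEquiv.symm_apply_apply, map_one] at this
    exact h1 (congrArg Subtype.val this)
  have h5 := d8_r_sq _ h3 h4
  rw [← he, ← C.e_t] at h5
  exact congrArg Subtype.val (C.e.injective h5)

theorem zpowers_le : Subgroup.zpowers C.a ≤ C.D := Subgroup.zpowers_le.2 C.a_mem

theorem relIndex_zpowers : (Subgroup.zpowers C.a).relIndex C.D = 2 := by
  have h := Subgroup.relIndex_mul_relIndex ⊥ (Subgroup.zpowers C.a) C.D bot_le C.zpowers_le
  rw [Subgroup.relIndex_bot_left, Subgroup.relIndex_bot_left, Nat.card_zpowers, C.orderOf_a, C.card_D] at h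
  omega

section finite
variable [Finite G]

/-- `D` is a Sylow 2-subgroup. -/
theorem exists_sylow : ∃ P : Sylow 2 G, (P : Subgroup G) = C.D := by
  have hD : IsPGroup 2 C.D := IsPGroup.of_card (n := 3) (by rw [C.card_D]; norm_num)
  obtain ⟨P, hP⟩ := hD.exists_le_sylow
  refine ⟨P, le_antisymm ?_ hP⟩
  have htP : C.t ∈ (P : Subgroup G) := hP C.t_mem
  have : Nontrivial (P : Subgroup G) := ⟨⟨⟨C.t, htP⟩, 1, fun h => C.t_ne_one (congrArg Subtype.val h)⟩⟩
  have hc := (P.isPGroup').center_nontrivial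
  obtain ⟨z, hz⟩ := exists_ne (1 : Subgroup.center (P : Subgroup G))
  have hz1 : ((z : (P : Subgroup G)) : G) ≠ 1 := by
    intro h
    apply hz
    apply Subtype.ext
    apply Subtype.ext
    exact h
  have hzc : ∀ y : G, y ∈ (P : Subgroup G) → y * ((z : (P : Subgroup G)) : G) = ((z : (P : Subgroup G)) : G) * y := by
    intro y hy
    have := Subgroup.mem_center_iff.1 z.2 ⟨y, hy⟩
    exact congrArg Subtype.val this
  have hzD : ((z : (P : Subgroup G)) : G) ∈ C.D := by
    rw [C.mem_D]
    exact (hzc C.t htP).symm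
  have h1 := d8_central (C.e ⟨_, hzD⟩) (by
    intro y
    have hy : (C.e.symm y : G) ∈ (P : Subgroup G) := hP (C.e.symm y).2
    have h2 := C.e_mul_comm (C.e.symm y).2 hzD (hzc _ hy)
    simpa using h2)
  have hzt : ((z : (P : Subgroup G)) : G) = C.t := by
    rcases h1 with h1 | h1
    · exfalso
      have : (⟨_, hzD⟩ : C.D) = 1 := by
        have := congrArg C.e.symm h1
        rwa [MulEquiv.symm_apply_apply, map_one] at this
      exact hz1 (congrArg Subtype.val this)
    · rw [← C.e_t] at h1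
      exact congrArg Subtype.val (C.e.injective h1)
  intro p hp
  rw [C.mem_D, ← hzt]
  exact hzc p hp

include C in
theorem eight_dvd_card : 8 ∣ Nat.card G := by
  rw [← C.card_D]
  exact Subgroup.card_subgroup_dvd_card _

include C in
theorem not_sixteen_dvd_card : ¬ 16 ∣ Nat.card G := by
  intro h
  obtain ⟨P, hP⟩ := C.exists_sylow
  have h2 : 2 ^ 4 ∣ Nat.card (P : Subgroup G) := P.pow_dvd_card_of_pow_dvd_card (by norm_num; exact h)
  rw [hP, C.card_D] at h2
  norm_num at h2

end finite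

end Ctx

end Cfsg.Agent.Lib.Helper6.D8Cent
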