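/-
helper6: Isaacs 7.10, part A3: conjugacy of involutions (Thompson transfer) and the count of pairs.
-/
import Mathlib
import Cfsg.Agent.Lib.Helper6.D8A2

set_option autoImplicit false

namespace Cfsg.Agent.Lib.Helper6.D8Cent

open DihedralGroup

universe u

theorem no_index_two {G : Type u} [Group G] (hperf : commutator G = ⊤) (M : Subgroup G) (hn : M.Normal)
    (hM : M.index = 2) : False := by
  have hc : Nat.card (G ⧸ M) = 2 := hM
  have : Fact (Nat.Prime 2) := ⟨Nat.prime_two⟩
  have hcyc : IsCyclic (G ⧸ M) := isCyclic_of_prime_card hc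
  have hcomm : IsMulCommutative (G ⧸ M) := IsCyclic.commutative
  have h := Subgroup.Normal.quotient_commutative_iff_commutator_le.1 hcomm
  rw [hperf, top_le_iff] at h
  rw [h, Subgroup.index_top] at hM
  omega

theorem orderOf_two_iff {G : Type u} [Group G] {x : G} : orderOf x = 2 ↔ x * x = 1 ∧ x ≠ 1 := by
  constructor
  · intro h
    refine ⟨?_, ?_⟩
    · have := pow_orderOf_eq_one x
      rwa [h, pow_two] at this
    · intro h1
      rw [h1, orderOf_one] at h
      omega
  · rintro ⟨h1, h2⟩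
    have : Fact (Nat.Prime 2) := ⟨Nat.prime_two⟩
    exact orderOf_eq_prime (by rw [pow_two]; exact h1) h2

theorem orderOf_of_isConj {G : Type u} [Group G] {x y : G} (h : IsConj x y) : orderOf x = orderOf y := by
  obtain ⟨c, hc⟩ := h
  exact hc.orderOf_eq

namespace Ctx

variable {G : Type u} [Group G] (C : Ctx G)

theorem d8_not_zpowers : ∀ (i : ZMod 4) (j : ZMod 4), (sr i : DihedralGroup 4) ≠ r j := by
  decide

section finite
variable [Finite G]

/-- Every involution of `D` is conjugate to `t`. -/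
theorem isConj_t_of_mem (hperf : commutator G = ⊤) {u : G} (hu : orderOf u = 2) (huD : u ∈ C.D) :
    IsConj C.t u := by
  obtain ⟨hu2, hu1⟩ := orderOf_two_iff.1 hu
  have h3 : C.e ⟨u, huD⟩ * C.e ⟨u, huD⟩ = 1 := by
    rw [← map_mul]
    have : (⟨u, huD⟩ : C.D) * ⟨u, huD⟩ = 1 := Subtype.ext hu2
    rw [this, map_one]
  have h4 : C.e ⟨u, huD⟩ ≠ 1 := by
    intro h
    have : (⟨u, huD⟩ : C.D) = 1 := by
      have := congrArg C.e.symm h
      rwa [MulEquiv.symm_apply_apply, map_one] at this
    exact hu1 (congrArg Subtype.val this)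
  rcases d8_invol _ h3 h4 with h5 | ⟨i, hi⟩
  · rw [← C.e_t] at h5
    have := congrArg Subtype.val (C.e.injective h5)
    rw [show u = C.t from this]
  · -- `u ∉ ⟨a⟩`
    have hnot : u ∉ Subgroup.zpowers C.a := by
      intro hmem
      obtain ⟨k, hk⟩ := Subgroup.mem_zpowers_iff.1 hmem
      have hmemk : C.a ^ k ∈ C.D := Subgroup.zpow_mem _ C.a_mem k
      have he : C.e ⟨C.a ^ k, hmemk⟩ = r (k : ZMod 4) := by
        have : (⟨C.a ^ k, hmemk⟩ : C.D) = (⟨C.a, C.a_mem⟩ : C.D) ^ k := Subtype.ext (by simp)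
        rw [this, map_zpow, C.e_a, r_one_zpow]
      have : (⟨C.a ^ k, hmemk⟩ : C.D) = ⟨u, huD⟩ := Subtype.ext hk
      rw [this, hi] at he
      exact d8_not_zpowers _ _ he
    obtain ⟨P, hP⟩ := C.exists_sylow
    have hle : Subgroup.zpowers C.a ≤ (P : Subgroup G) := by rw [hP]; exact C.zpowers_le
    have hrel : (Subgroup.zpowers C.a).relIndex (P : Subgroup G) = 2 := by rw [hP]; exact C.relIndex_zpowers
    rcases Cfsg.Agent.S0111.result P (Subgroup.zpowers C.a) hle hrel u hu (by rw [hP]; exact huD) hnot with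
      ⟨M, hMn, hMi, _⟩ | ⟨g, hg⟩
    · exact (no_index_two hperf M hMn hMi).elim
    · have h6 : g * u * g⁻¹ = C.t := by
        apply C.eq_t_of_mem_zpowers hg
        · have : g * u * g⁻¹ * (g * u * g⁻¹) = g * (u * u) * g⁻¹ := by group
          rw [this, hu2]
          group
        · intro h
          apply hu1
          have : u = g⁻¹ * (g * u * g⁻¹) * g := by group
          rw [this, h]
          group
      rw [isConj_comm, isConj_iff]
      exact ⟨g, h6⟩

/-- Every involution of `G` is conjugate to `t`. -/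
theorem isConj_t_of_orderOf (hperf : commutator G = ⊤) {u : G} (hu : orderOf u = 2) :
    IsConj C.t u := by
  obtain ⟨P, hP⟩ := C.exists_sylow
  have hz : IsPGroup 2 (Subgroup.zpowers u) := IsPGroup.of_card (n := 1) (by rw [Nat.card_zpowers, hu]; norm_num)
  obtain ⟨Q, hQ⟩ := hz.exists_le_sylow
  obtain ⟨g, hg⟩ := MulAction.exists_smul_eq G Q P
  have huQ : u ∈ (Q : Subgroup G) := hQ (Subgroup.mem_zpowers u)
  have h1 : g * u * g⁻¹ ∈ (P : Subgroup G) := by
    rw [← hg, Sylow.smul_def, Sylow.pointwise_smul_def]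
    have := Subgroup.smul_mem_pointwise_smul u (MulAut.conj g) (Q : Subgroup G) huQ
    rwa [MulAut.smul_def, MulAut.conj_apply] at this
  rw [hP] at h1
  have h2 : orderOf (g * u * g⁻¹) = 2 := by
    rw [← hu]
    symm
    apply orderOf_of_isConj
    rw [isConj_iff]
    exact ⟨g, rfl⟩
  have h3 := C.isConj_t_of_mem hperf h2 h1
  refine h3.trans ?_
  rw [isConj_comm, isConj_iff]
  exact ⟨g, rfl⟩

theorem isConj_t_iff (hperf : commutator G = ⊤) {u : G} : IsConj C.t u ↔ orderOf u = 2 := by
  constructor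
  · intro h
    rw [← orderOf_of_isConj h, C.ht]
  · exact C.isConj_t_of_orderOf hperf

end finite

end Ctx

end Cfsg.Agent.Lib.Helper6.D8Cent
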