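/-
helper6: Isaacs 7.10, part A4: `a ~ a⁻¹` and the count of pairs of involutions with product `a`.
-/
import Mathlib
import Cfsg.Agent.Lib.Helper6.D8A3

set_option autoImplicit false

namespace Cfsg.Agent.Lib.Helper6.D8Cent

open DihedralGroup

universe u

theorem d8_card_pairs :
    Fintype.card {z : DihedralGroup 4 // z * z = 1 ∧ z ≠ 1 ∧ z * r 1 * z⁻¹ = (r 1)⁻¹} = 4 := by
  decide

namespace Ctx

variable {G : Type u} [Group G] (C : Ctx G)

/-- the map `D_8 → G` -/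
noncomputable def gm (z : DihedralGroup 4) : G := ((C.e.symm z : C.D) : G)

theorem gm_mul (z w : DihedralGroup 4) : C.gm (z * w) = C.gm z * C.gm w := by
  unfold gm
  rw [map_mul]
  rfl

theorem gm_one : C.gm 1 = 1 := by
  unfold gm
  rw [map_one]
  rfl

theorem gm_inv (z : DihedralGroup 4) : C.gm z⁻¹ = (C.gm z)⁻¹ := by
  unfold gm
  rw [map_inv]
  rfl

theorem gm_r1 : C.gm (r 1) = C.a := rfl

theorem gm_injective : Function.Injective C.gm := by
  intro z w h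
  exact C.e.symm.injective (Subtype.ext h)

theorem gm_mem (z : DihedralGroup 4) : C.gm z ∈ C.D := (C.e.symm z).2

theorem gm_e {x : G} (hx : x ∈ C.D) : C.gm (C.e ⟨x, hx⟩) = x := by
  unfold gm
  rw [MulEquiv.symm_apply_apply]

theorem isConj_a_inv : IsConj C.a C.a⁻¹ := by
  rw [isConj_iff]
  refine ⟨C.gm (sr 0), ?_⟩
  have h := congrArg C.gm (d8_sr_conj 0)
  rw [C.gm_mul, C.gm_mul, C.gm_inv, C.gm_inv, C.gm_r1] at h
  exact h

/-- The predicate on `D`. -/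
def PairPred (x : C.D) : Prop :=
  (x : G) * (x : G) = 1 ∧ (x : G) ≠ 1 ∧ (x : G) * C.a * (x : G)⁻¹ = C.a⁻¹

theorem pairPred_iff (z : DihedralGroup 4) :
    (z * z = 1 ∧ z ≠ 1 ∧ z * r 1 * z⁻¹ = (r 1)⁻¹) ↔ C.PairPred (C.e.symm z) := by
  unfold PairPred
  change _ ↔ (C.gm z * C.gm z = 1 ∧ C.gm z ≠ 1 ∧ C.gm z * C.a * (C.gm z)⁻¹ = C.a⁻¹)
  rw [← C.gm_mul, ← C.gm_r1, ← C.gm_inv, ← C.gm_mul, ← C.gm_mul, ← C.gm_inv]
  constructor
  · rintro ⟨h1, h2, h3⟩
    refine ⟨by rw [h1, C.gm_one], ?_, by rw [h3]⟩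
    intro h
    rw [← C.gm_one] at h
    exact h2 (C.gm_injective h)
  · rintro ⟨h1, h2, h3⟩
    refine ⟨?_, ?_, C.gm_injective h3⟩
    · rw [← C.gm_one] at h1
      exact C.gm_injective h1
    · intro h
      apply h2
      rw [h, C.gm_one]

theorem card_pairPred : Nat.card {x : C.D // C.PairPred x} = 4 := by
  have e1 : {z : DihedralGroup 4 // z * z = 1 ∧ z ≠ 1 ∧ z * r 1 * z⁻¹ = (r 1)⁻¹} ≃
      {x : C.D // C.PairPred x} :=
    Equiv.subtypeEquiv C.e.symm.toEquiv (fun z => C.pairPred_iff z)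
  rw [← Nat.card_congr e1, Nat.card_eq_fintype_card, d8_card_pairs]

theorem inv_eq_self {x : G} (h : x * x = 1) : x⁻¹ = x := inv_eq_of_mul_eq_one_left h

section finite
variable [Finite G]

theorem pair_facts (hperf : commutator G = ⊤) {x y : G} (hx : IsConj C.t x) (hy : IsConj C.t y)
    (hxy : x * y = C.a) : x * x = 1 ∧ x ≠ 1 ∧ x * C.a * x⁻¹ = C.a⁻¹ := by
  obtain ⟨hx2, hx1⟩ := orderOf_two_iff.1 ((C.isConj_t_iff hperf).1 hx)
  obtain ⟨hy2, hy1⟩ := orderOf_two_iff.1 ((C.isConj_t_iff hperf).1 hy)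
  refine ⟨hx2, hx1, ?_⟩
  rw [← hxy]
  have h1 : x * (x * y) * x⁻¹ = (x * x) * y * x⁻¹ := by group
  rw [h1, hx2, one_mul, mul_inv_rev, inv_eq_self hy2]

theorem pair_back (hperf : commutator G = ⊤) {x : G} (h2 : x * x = 1) (h1 : x ≠ 1)
    (hinv : x * C.a * x⁻¹ = C.a⁻¹) : IsConj C.t x ∧ IsConj C.t (x⁻¹ * C.a) := by
  refine ⟨C.isConj_t_of_orderOf hperf (orderOf_two_iff.2 ⟨h2, h1⟩),
    C.isConj_t_of_orderOf hperf (orderOf_two_iff.2 ⟨?_, ?_⟩)⟩
  · have hx : x⁻¹ = x := inv_eq_self h2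
    rw [hx] at hinv ⊢
    have : x * C.a * (x * C.a) = (x * C.a * x) * C.a := by group
    rw [this, hinv]
    group
  · intro h
    have hxa : C.a = x := by
      have : C.a = x * (x⁻¹ * C.a) := by group
      rw [this, h, mul_one]
    rw [← hxa] at hinv
    have h3 : C.a * C.a = 1 := by
      have : C.a = C.a⁻¹ := by
        have h4 : C.a * C.a * C.a⁻¹ = C.a := by group
        rw [h4] at hinv
        exact hinv
      calc C.a * C.a = C.a * C.a⁻¹ := by rw [← this]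
        _ = 1 := mul_inv_cancel _
    rw [C.a_sq] at h3
    exact C.t_ne_one h3

/-- The pairs of conjugates of `t` with product `a`. -/
noncomputable def pairEquiv (hperf : commutator G = ⊤) :
    {p : G × G // IsConj C.t p.1 ∧ IsConj C.t p.2 ∧ p.1 * p.2 = C.a} ≃ {x : C.D // C.PairPred x} where
  toFun p := ⟨⟨p.1.1, C.mem_D_of_inv_a (C.pair_facts hperf p.2.1 p.2.2.1 p.2.2.2).2.2⟩,
    C.pair_facts hperf p.2.1 p.2.2.1 p.2.2.2⟩
  invFun x := ⟨((x.1 : G), (x.1 : G)⁻¹ * C.a),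
    (C.pair_back hperf x.2.1 x.2.2.1 x.2.2.2).1, (C.pair_back hperf x.2.1 x.2.2.1 x.2.2.2).2, by
      simp⟩
  left_inv p := by
    apply Subtype.ext
    apply Prod.ext
    · rfl
    · change p.1.1⁻¹ * C.a = p.1.2
      have h := p.2.2.2
      calc p.1.1⁻¹ * C.a = p.1.1⁻¹ * (p.1.1 * p.1.2) := by rw [h]
        _ = p.1.2 := by group
  right_inv x := by
    apply Subtype.ext
    apply Subtype.ext
    rfl

theorem card_pairs (hperf : commutator G = ⊤) :
    Nat.card {p : G × G // IsConj C.t p.1 ∧ IsConj C.t p.2 ∧ p.1 * p.2 = C.a} = 4 := by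
  rw [Nat.card_congr (C.pairEquiv hperf), C.card_pairPred]

end finite

end Ctx

end Cfsg.Agent.Lib.Helper6.D8Cent
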