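/-
helper6: Isaacs 7.10, part B: values of characters of `G` on `1`, `a`, `t`.
-/
import Mathlib
import Cfsg.Agent.Lib.Helper6.D8A4
import Cfsg.Agent.Lib.Helper6.LinChar
import Cfsg.Agent.Lib.Helper6.Clifford
import Cfsg.Agent.Lib.Lead.CharEquiv

set_option autoImplicit false

namespace Cfsg.Agent.Lib.Helper6.D8Cent

open DihedralGroup Cfsg Cfsg.Agent.CharLib Cfsg.Agent.Lib.Helper6
open scoped ComplexConjugate

universe u

/-- the sign character of `D_8` with kernel the rotations -/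
def lam1Fun : DihedralGroup 4 → ℤˣ
  | r _ => 1
  | sr _ => -1

/-- a second sign character of `D_8` -/
def lam2Fun : DihedralGroup 4 → ℤˣ
  | r i => (-1) ^ i.val
  | sr i => (-1) ^ i.val

def lam1 : DihedralGroup 4 →* ℤˣ := MonoidHom.mk' lam1Fun (by decide)

def lam2 : DihedralGroup 4 →* ℤˣ := MonoidHom.mk' lam2Fun (by decide)

/-- `ℤˣ → ℂˣ` -/
noncomputable def toC : ℤˣ →* ℂˣ := Units.map (Int.castRingHom ℂ).toMonoidHom

theorem toC_apply (u : ℤˣ) : ((toC u : ℂˣ) : ℂ) = ((u : ℤ) : ℂ) := rfl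

theorem sum_d8 {M : Type*} [AddCommMonoid M] (F : DihedralGroup 4 → M) :
    ∑ z, F z = F (r 0) + F (r 1) + F (r 2) + F (r 3) + F (sr 0) + F (sr 1) + F (sr 2) + F (sr 3) := by
  have : (Finset.univ : Finset (DihedralGroup 4)) = {r 0, r 1, r 2, r 3, sr 0, sr 1, sr 2, sr 3} := by
    decide
  rw [this]
  repeat rw [Finset.sum_insert (by decide)]
  rw [Finset.sum_singleton]
  abel

end Cfsg.Agent.Lib.Helper6.D8Cent

namespace Cfsg.Agent.Lib.Helper6.D8Cent

open DihedralGroup Cfsg Cfsg.Agent.CharLib Cfsg.Agent.Lib.Helper6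
open scoped ComplexConjugate

universe u

namespace Ctx

variable {G : Type u} [Group G] [Fintype G] (C : Ctx G)

/-- Inner products of a restricted character with linear characters of `D`. -/
theorem sum_lin {χ : G → ℂ} (hχ : IsCharacter G χ) (μ : DihedralGroup 4 →* ℤˣ) :
    ∃ n : ℕ, ∑ z : DihedralGroup 4, χ (C.gm z) * (((μ z : ℤˣ) : ℤ) : ℂ) = 8 * (n : ℂ) := by
  classical
  let _ : Fintype C.D := Fintype.ofFinite _
  let φ : C.D →* ℂˣ := toC.comp (μ.comp C.e.toMonoidHom)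
  obtain ⟨n, hn⟩ := IsCharacter.classInner_nat (isCharacter_resFun C.D hχ) (isCharacter_of_hom φ)
  refine ⟨n, ?_⟩
  unfold classInner at hn
  rw [C.card_D] at hn
  have h1 : ∑ g : C.D, resFun C.D χ g * conj (((φ g : ℂˣ) : ℂ)) =
      ∑ z : DihedralGroup 4, χ (C.gm z) * (((μ z : ℤˣ) : ℤ) : ℂ) := by
    apply Fintype.sum_equiv C.e.toEquiv
    intro g
    have hg : C.gm (C.e g) = (g : G) := C.gm_e g.2
    change χ (g : G) * conj (((μ (C.e g) : ℤˣ) : ℤ) : ℂ) = χ (C.gm (C.e g)) * _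
    rw [hg, map_intCast]
    rfl
  rw [h1] at hn
  have h8 : ((8 : ℕ) : ℂ) ≠ 0 := by norm_num
  field_simp at hn
  rw [hn]
  push_cast
  ring

end Ctx

end Cfsg.Agent.Lib.Helper6.D8Cent
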