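/-
helper6: Isaacs 7.10, part B2: values of characters of `G` on `1`, `a`, `t`.
-/
import Mathlib
import Cfsg.Agent.Lib.Helper6.D8B

set_option autoImplicit false

namespace Cfsg.Agent.Lib.Helper6.D8Cent

open DihedralGroup Cfsg Cfsg.Agent.CharLib Cfsg.Agent.Lib.Helper6
open scoped ComplexConjugate

universe u

theorem d8_r3 : (r 3 : DihedralGroup 4) = (r 1)⁻¹ := by decide

theorem d8_sr_sq : ∀ i : ZMod 4, (sr i : DihedralGroup 4) * sr i = 1 := by decide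

theorem d8_sr_ne : ∀ i : ZMod 4, (sr i : DihedralGroup 4) ≠ 1 := by decide

namespace Ctx

variable {G : Type u} [Group G] [Fintype G] (C : Ctx G)

theorem gm_r0 : C.gm (r 0) = 1 := by rw [r_zero, C.gm_one]

theorem gm_r2 : C.gm (r 2) = C.t := by
  rw [← C.e_t, C.gm_e]

theorem gm_r3 : C.gm (r 3) = C.a⁻¹ := by
  rw [d8_r3, C.gm_inv, C.gm_r1]

theorem isConj_gm_sr (hperf : commutator G = ⊤) (i : ZMod 4) : IsConj C.t (C.gm (sr i)) := by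
  apply C.isConj_t_of_orderOf hperf
  rw [orderOf_two_iff]
  refine ⟨?_, ?_⟩
  · rw [← C.gm_mul, d8_sr_sq, C.gm_one]
  · intro h
    rw [← C.gm_one] at h
    exact d8_sr_ne i (C.gm_injective h)

/-- The values of a character at `1`, `a`, `t`. -/
theorem values (hperf : commutator G = ⊤) {χ : G → ℂ} (hχ : IsCharacter G χ) :
    ∃ n0 n1 n2 : ℕ, χ 1 = (n0 : ℂ) + 3 * n1 + 4 * n2 ∧ χ C.a = (n0 : ℂ) + n1 - 2 * n2 ∧
      χ C.t = (n0 : ℂ) - n1 := by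
  have hcf : IsClassFunction G χ := IsCharacter.isClassFunction hχ
  obtain ⟨n0, h0⟩ := C.sum_lin hχ 1
  obtain ⟨n1, h1⟩ := C.sum_lin hχ lam1
  obtain ⟨n2, h2⟩ := C.sum_lin hχ lam2
  rw [sum_d8] at h0 h1 h2
  have hsr : ∀ i : ZMod 4, χ (C.gm (sr i)) = χ C.t := fun i =>
    (IsClassFunction.of_isConj hcf (C.isConj_gm_sr hperf i)).symm
  have h3 : χ (C.gm (r 3)) = χ C.a := by
    rw [C.gm_r3]
    exact (IsClassFunction.of_isConj hcf C.isConj_a_inv).symm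
  rw [C.gm_r0, C.gm_r1, C.gm_r2, h3, hsr, hsr, hsr, hsr] at h0 h1 h2
  have e0 : ∀ z : DihedralGroup 4, ((((1 : DihedralGroup 4 →* ℤˣ) z : ℤˣ) : ℤ) : ℂ) = 1 := by
    intro z; simp
  simp only [e0] at h0
  have v1 : ∀ z : DihedralGroup 4, (((lam1 z : ℤˣ) : ℤ) : ℂ) = ((((lam1Fun z : ℤˣ) : ℤ)) : ℂ) := fun _ => rfl
  have v2 : ∀ z : DihedralGroup 4, (((lam2 z : ℤˣ) : ℤ) : ℂ) = ((((lam2Fun z : ℤˣ) : ℤ)) : ℂ) := fun _ => rfl
  simp only [v1, lam1Fun] at h1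
  simp only [v2, lam2Fun] at h2
  have z0 : ((0 : ZMod 4)).val = 0 := rfl
  have z1 : ((1 : ZMod 4)).val = 1 := rfl
  have z2 : ((2 : ZMod 4)).val = 2 := rfl
  have z3 : ((3 : ZMod 4)).val = 3 := rfl
  rw [z0, z1, z2, z3] at h2
  norm_num at h0 h1 h2
  refine ⟨n0, n1, n2, ?_, ?_, ?_⟩
  · linear_combination (1 / 8 : ℂ) * h0 + (3 / 8 : ℂ) * h1 + (1 / 2 : ℂ) * h2
  · linear_combination (1 / 8 : ℂ) * h0 + (1 / 8 : ℂ) * h1 - (1 / 4 : ℂ) * h2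
  · linear_combination (1 / 8 : ℂ) * h0 - (1 / 8 : ℂ) * h1

end Ctx

end Cfsg.Agent.Lib.Helper6.D8Cent
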