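/-
helper6: Isaacs 7.10, part C: exactly four irreducible characters do not vanish at `a`.
-/
import Mathlib
import Cfsg.Agent.Lib.Helper6.D8B2
import Cfsg.Agent.Lib.Lead.CharMain

set_option autoImplicit false

namespace Cfsg.Agent.Lib.Helper6.D8Cent

open DihedralGroup Cfsg Cfsg.Agent.CharLib Cfsg.Agent.Lib.Helper6
open scoped ComplexConjugate

universe u

theorem sum_four {ι : Type*} [Fintype ι] {M : Type*} [AddCommMonoid M] (x0 x1 x2 x3 : ι)
    (h01 : x0 ≠ x1) (h02 : x0 ≠ x2) (h03 : x0 ≠ x3) (h12 : x1 ≠ x2) (h13 : x1 ≠ x3) (h23 : x2 ≠ x3)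
    (f : ι → M) (h0 : ∀ x, x ≠ x0 → x ≠ x1 → x ≠ x2 → x ≠ x3 → f x = 0) :
    ∑ x, f x = f x0 + f x1 + f x2 + f x3 := by
  classical
  rw [← Finset.sum_subset (Finset.subset_univ {x0, x1, x2, x3}) (fun x _ hx => by
    apply h0 x
    all_goals
      intro h
      apply hx
      simp [h])]
  rw [Finset.sum_insert (by simp [h01, h02, h03]), Finset.sum_insert (by simp [h12, h13]),
    Finset.sum_insert (by simp [h23]), Finset.sum_singleton]
  abel

theorem four_le_sum {ι : Type*} [Fintype ι] (x0 x1 x2 x3 : ι)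
    (h01 : x0 ≠ x1) (h02 : x0 ≠ x2) (h03 : x0 ≠ x3) (h12 : x1 ≠ x2) (h13 : x1 ≠ x3) (h23 : x2 ≠ x3)
    (f : ι → ℤ) (h0 : ∀ x, 0 ≤ f x) :
    f x0 + f x1 + f x2 + f x3 ≤ ∑ x, f x := by
  classical
  have h := Finset.sum_le_sum_of_subset_of_nonneg (Finset.subset_univ {x0, x1, x2, x3})
    (fun x _ _ => h0 x)
  rw [Finset.sum_insert (by simp [h01, h02, h03]), Finset.sum_insert (by simp [h12, h13]),
    Finset.sum_insert (by simp [h23]), Finset.sum_singleton] at h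
  linarith

/-- If integers `c x` have squares summing to `4` and `c x0 = 1`, then exactly three other values are `±1`
and the rest vanish. -/
theorem exists_three {ι : Type*} [Fintype ι] (c : ι → ℤ) (x0 : ι) (h0 : c x0 = 1)
    (hsum : ∑ x, c x ^ 2 = 4) :
    ∃ x1 x2 x3 : ι, x0 ≠ x1 ∧ x0 ≠ x2 ∧ x0 ≠ x3 ∧ x1 ≠ x2 ∧ x1 ≠ x3 ∧ x2 ≠ x3 ∧
      (c x1 = 1 ∨ c x1 = -1) ∧ (c x2 = 1 ∨ c x2 = -1) ∧ (c x3 = 1 ∨ c x3 = -1) ∧
      ∀ x, x ≠ x0 → x ≠ x1 → x ≠ x2 → x ≠ x3 → c x = 0 := by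
  classical
  set S : Finset ι := (Finset.univ.erase x0).filter (fun x => c x ≠ 0) with hS
  have hsumS : ∑ x ∈ S, c x ^ 2 = 3 := by
    have h1 : ∑ x ∈ S, c x ^ 2 = ∑ x ∈ Finset.univ.erase x0, c x ^ 2 := by
      rw [hS, Finset.sum_filter]
      apply Finset.sum_congr rfl
      intro x _
      by_cases hx : c x = 0
      · simp [hx]
      · simp [hx]
    have h2 := Finset.add_sum_erase Finset.univ (fun x => c x ^ 2) (Finset.mem_univ x0)
    simp only [h0] at h2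
    rw [h1]
    linarith
  have hone : ∀ x ∈ S, c x = 1 ∨ c x = -1 := by
    intro x hx
    have hle : c x ^ 2 ≤ 3 := by
      rw [← hsumS]
      exact Finset.single_le_sum (f := fun x => c x ^ 2) (fun y _ => sq_nonneg _) hx
    have hne : c x ≠ 0 := by
      rw [hS, Finset.mem_filter] at hx
      exact hx.2
    have h1 : c x ≤ 1 := by nlinarith
    have h2 : -1 ≤ c x := by nlinarith
    omega
  have hcard : S.card = 3 := by
    have h1 : ∑ x ∈ S, c x ^ 2 = ∑ x ∈ S, (1 : ℤ) := by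
      apply Finset.sum_congr rfl
      intro x hx
      rcases hone x hx with h | h <;> rw [h] <;> norm_num
    rw [hsumS, Finset.sum_const, nsmul_eq_mul, mul_one] at h1
    exact_mod_cast h1.symm
  obtain ⟨x1, x2, x3, h12, h13, h23, hS3⟩ := Finset.card_eq_three.1 hcard
  have hm1 : x1 ∈ S := by rw [hS3]; simp
  have hm2 : x2 ∈ S := by rw [hS3]; simp
  have hm3 : x3 ∈ S := by rw [hS3]; simp
  have hne : ∀ x ∈ S, x0 ≠ x := by
    intro x hx h
    rw [hS, Finset.mem_filter, Finset.mem_erase] at hx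
    exact hx.1.1 h.symm
  refine ⟨x1, x2, x3, hne x1 hm1, hne x2 hm2, hne x3 hm3, h12, h13, h23, hone x1 hm1, hone x2 hm2,
    hone x3 hm3, ?_⟩
  intro x hx0 hx1 hx2 hx3
  by_contra hcx
  have hxS : x ∈ S := by
    rw [hS, Finset.mem_filter, Finset.mem_erase]
    exact ⟨⟨hx0, Finset.mem_univ _⟩, hcx⟩
  rw [hS3] at hxS
  simp at hxS
  rcases hxS with h | h | h
  · exact hx1 h
  · exact hx2 h
  · exact hx3 h

end Cfsg.Agent.Lib.Helper6.D8Cent
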