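/-
helper6: Isaacs 7.10, part C2: the arithmetic relations between the four characters.
-/
import Mathlib
import Cfsg.Agent.Lib.Helper6.D8C
import Cfsg.Agent.S0840

set_option autoImplicit false

namespace Cfsg.Agent.Lib.Helper6.D8Cent

open DihedralGroup Cfsg Cfsg.Agent.CharLib Cfsg.Agent.Lib.Helper6
open scoped ComplexConjugate

universe u

/-- the trivial character -/
noncomputable def triv (G : Type u) [Group G] : IrrCharacter G :=
  ⟨fun _ => 1, isIrrCharacter_of_hom (1 : G →* ℂˣ)⟩

theorem triv_apply {G : Type u} [Group G] (g : G) : ((triv G : IrrCharacter G) : G → ℂ) g = 1 := rfl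

theorem eq_triv_of_degree_one {G : Type u} [Group G] (hperf : commutator G = ⊤) (χ : IrrCharacter G)
    (h1 : (χ : G → ℂ) 1 = 1) : χ = triv G := by
  apply Subtype.ext
  funext g
  rw [triv_apply]
  have hφ := linCharUnitsHom_apply (IsIrrCharacter.isCharacter χ.2) h1 g
  rw [← hφ]
  have hk : g ∈ (linCharUnitsHom (IsIrrCharacter.isCharacter χ.2) h1).ker := by
    have := Abelianization.commutator_subset_ker (linCharUnitsHom (IsIrrCharacter.isCharacter χ.2) h1)
    rw [hperf] at this
    exact this (Subgroup.mem_top g)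
  rw [MonoidHom.mem_ker] at hk
  rw [hk]
  rfl

theorem classIndicator_self {G : Type u} [Group G] (h : G) : classIndicator h h = 1 := by
  classical
  unfold classIndicator
  rw [if_pos (IsConj.refl h)]

theorem classIndicator_of_not {G : Type u} [Group G] {h x : G} (hx : ¬ IsConj x h) :
    classIndicator h x = 0 := by
  classical
  unfold classIndicator
  rw [if_neg hx]

namespace Ctx

variable {G : Type u} [Group G] [Fintype G] (C : Ctx G)

theorem exists_data (hperf : commutator G = ⊤) :
    ∃ (d : IrrCharacter G → ℕ) (c τ : IrrCharacter G → ℤ), ∀ χ : IrrCharacter G,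
      (χ : G → ℂ) 1 = d χ ∧ (χ : G → ℂ) C.a = c χ ∧ (χ : G → ℂ) C.t = τ χ ∧
        (Odd (c χ) → Odd (τ χ) ∧ Odd (d χ)) := by
  choose n0 n1 n2 h using fun χ : IrrCharacter G => C.values hperf (IsIrrCharacter.isCharacter χ.2)
  refine ⟨fun χ => n0 χ + 3 * n1 χ + 4 * n2 χ, fun χ => n0 χ + n1 χ - 2 * n2 χ,
    fun χ => n0 χ - n1 χ, ?_⟩
  intro χ
  obtain ⟨h1, h2, h3⟩ := h χ
  refine ⟨by rw [h1]; push_cast; ring, by rw [h2]; push_cast; ring, by rw [h3]; push_cast; ring, ?_⟩
  intro hodd
  rw [Int.odd_iff] at hodd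
  simp only at hodd
  constructor
  · rw [Int.odd_iff]
    simp only
    omega
  · rw [Nat.odd_iff]
    simp only
    omega

end Ctx

end Cfsg.Agent.Lib.Helper6.D8Cent
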