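import Mathlib
import Cfsg.Prelude.Def_GeometricClasses
import Cfsg.Agent.Lib.Helper11.MonoDefs

/-!
S5634, case m = 1, leaf MWd (owner helper11; notes/S5634_m1_leaves.lean): the final computation of
the dense case.
-/

set_option autoImplicit false

namespace Cfsg.Agent.Lib.Helper6.MonoLeaf
open Matrix Cfsg.Agent.Lib.Helper11.Mono

variable {F : Type*} [Field F] [Fintype F] {ι : Type} [Fintype ι] [DecidableEq ι]

/-- two distinct columns of an invertible matrix are not proportional -/
lemma wd_col_not_prop (B : GL ι F) (l l' : ι) (c : F) (hll : l ≠ l')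
    (h : ∀ a, (B : Matrix ι ι F) a l = c * (B : Matrix ι ι F) a l') : False := by
  have h0 : (B : Matrix ι ι F) *ᵥ (Pi.single l 1 - c • Pi.single l' 1) = 0 := by
    ext a
    rw [Matrix.mulVec_sub, Matrix.mulVec_smul, Matrix.mulVec_single_one, Matrix.mulVec_single_one]
    simp only [Pi.sub_apply, Pi.smul_apply, Matrix.col_apply, smul_eq_mul, Pi.zero_apply]
    rw [h a]; ring
  have h1 : ((B⁻¹ : GL ι F) : Matrix ι ι F) *ᵥ ((B : Matrix ι ι F) *ᵥ
      (Pi.single l 1 - c • Pi.single l' 1)) = (Pi.single l 1 - c • Pi.single l' 1) := by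
    rw [Matrix.mulVec_mulVec, ← Units.val_mul, inv_mul_cancel, Units.val_one, Matrix.one_mulVec]
  rw [h0, Matrix.mulVec_zero] at h1
  have h2 := congrFun h1 l
  simp only [Pi.zero_apply, Pi.sub_apply, Pi.smul_apply, Pi.single_eq_same, smul_eq_mul] at h2
  rw [Pi.single_eq_of_ne hll, mul_zero, sub_zero] at h2
  exact zero_ne_one h2

/-- existence of a field element avoiding four values -/
lemma wd_exists_avoid (hq : 5 ≤ Fintype.card F) (a b c d : F) :
    ∃ x : F, x ≠ a ∧ x ≠ b ∧ x ≠ c ∧ x ≠ d := by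
  classical
  have hcard : ({a, b, c, d} : Finset F).card < (Finset.univ : Finset F).card := by
    have h4 : ({a, b, c, d} : Finset F).card ≤ 4 := Finset.card_le_four
    rw [Finset.card_univ]
    omega
  obtain ⟨x, -, hx⟩ := Finset.exists_mem_notMem_of_card_lt_card hcard
  simp only [Finset.mem_insert, Finset.mem_singleton, not_or] at hx
  exact ⟨x, hx.1, hx.2.1, hx.2.2.1, hx.2.2.2⟩


/-- the sum of a function equal to `1` except at three given distinct points -/
lemma wd_sum_three (k l3 l4 : ι) (hk3 : k ≠ l3) (hk4 : k ≠ l4) (h34 : l3 ≠ l4) (x x' : F) :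
    ∑ l : ι, (if l = k then (0 : F) else if l = l3 then x else if l = l4 then x' else 1) =
      ((Fintype.card ι - 3 : ℕ) : F) + x + x' := by
  classical
  have hcard : 3 ≤ Fintype.card ι := by
    have h3 : ({k, l3, l4} : Finset ι).card = 3 := by
      rw [Finset.card_insert_of_notMem, Finset.card_insert_of_notMem, Finset.card_singleton]
      · simpa using h34
      · simp only [Finset.mem_insert, Finset.mem_singleton, not_or]
        exact ⟨hk3, hk4⟩
    have := Finset.card_le_univ ({k, l3, l4} : Finset ι)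
    omega
  have hfun : ∀ l : ι, (if l = k then (0 : F) else if l = l3 then x else if l = l4 then x' else 1) =
      1 + ((if l = k then (-1 : F) else 0) + ((if l = l3 then x - 1 else 0) +
        (if l = l4 then x' - 1 else 0))) := by
    intro l
    by_cases h1 : l = k
    · subst h1
      rw [if_pos rfl, if_pos rfl, if_neg hk3, if_neg hk4]; ring
    · by_cases h2 : l = l3
      · subst h2
        rw [if_neg h1, if_pos rfl, if_neg h1, if_pos rfl, if_neg h34]; ring
      · by_cases h3 : l = l4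
        · subst h3
          rw [if_neg h1, if_neg h2, if_pos rfl, if_neg h1, if_neg h2, if_pos rfl]; ring
        · rw [if_neg h1, if_neg h2, if_neg h3, if_neg h1, if_neg h2, if_neg h3]; ring
  rw [Finset.sum_congr rfl (fun l _ => hfun l)]
  rw [Finset.sum_add_distrib, Finset.sum_add_distrib, Finset.sum_add_distrib,
    Finset.sum_ite_eq' Finset.univ k, Finset.sum_ite_eq' Finset.univ l3,
    Finset.sum_ite_eq' Finset.univ l4]
  simp only [Finset.mem_univ, if_true, Finset.sum_const, Finset.card_univ, nsmul_eq_mul, mul_one]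
  rw [Nat.cast_sub hcard]
  push_cast
  ring


/-- MWd: the final computation of the dense case. -/
theorem false_of_dense_prop (h13 : 13 ≤ Fintype.card ι) (hq : 5 ≤ Fintype.card F)
    (M : Subgroup (GL ι F)) (hH : ContainsH M) (B : GL ι F) (hB : B ∈ M)
    (hnm : ¬ IsMono (B : Matrix ι ι F))
    (hdense : ∀ X : GL ι F, X ∈ M → ¬ IsMono (X : Matrix ι ι F) → ∀ j c c', c ≠ c' →
      (X : Matrix ι ι F) c j = 0 → (X : Matrix ι ι F) c' j = 0 → False)
    (hprop : ∀ l m a b, (B : Matrix ι ι F) a l ≠ 0 → (B : Matrix ι ι F) a m ≠ 0 →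
      (B : Matrix ι ι F) b l ≠ 0 → (B : Matrix ι ι F) b m ≠ 0 →
      (B : Matrix ι ι F) a l * (B : Matrix ι ι F) b m = (B : Matrix ι ι F) b l * (B : Matrix ι ι F) a m) :
    False := by
  classical
  have hd := hdense B hB hnm
  -- two distinct columns without zero are proportional: impossible
  have hfull : ∀ l l', l ≠ l' → (∀ a, (B : Matrix ι ι F) a l ≠ 0) →
      (∀ a, (B : Matrix ι ι F) a l' ≠ 0) → False := by
    intro l l' hll h1 h2
    have hne : Nonempty ι := by
      apply Fintype.card_pos_iff.mp; omega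
    obtain ⟨a0⟩ := hne
    apply wd_col_not_prop B l l' ((B : Matrix ι ι F) a0 l / (B : Matrix ι ι F) a0 l') hll
    intro a
    have := hprop l l' a a0 (h1 a) (h2 a) (h1 a0) (h2 a0)
    field_simp [h2 a0]
    linear_combination this
  -- a row has at most one zero
  have hrow : ∀ a l l', (B : Matrix ι ι F) a l = 0 → (B : Matrix ι ι F) a l' = 0 → l = l' := by
    intro a l l' h1 h2
    by_contra hll
    have hn1 : ∀ b, b ≠ a → (B : Matrix ι ι F) b l ≠ 0 := fun b hb h => hd l b a hb h h1
    have hn2 : ∀ b, b ≠ a → (B : Matrix ι ι F) b l' ≠ 0 := fun b hb h => hd l' b a hb h h2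
    obtain ⟨a0, ha0⟩ : ∃ a0 : ι, a0 ≠ a := by
      have : 1 < Fintype.card ι := by omega
      exact Fintype.exists_ne_of_one_lt_card this a
    apply wd_col_not_prop B l l' ((B : Matrix ι ι F) a0 l / (B : Matrix ι ι F) a0 l') hll
    intro b
    by_cases hb : b = a
    · rw [hb, h1, h2, mul_zero]
    · have := hprop l l' b a0 (hn1 b hb) (hn2 b hb) (hn1 a0 ha0) (hn2 a0 ha0)
      field_simp [hn2 a0 ha0]
      linear_combination this
  -- the full columns
  have hFull : (Finset.univ.filter fun l : ι => ∀ a, (B : Matrix ι ι F) a l ≠ 0).card ≤ 1 := by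
    rw [Finset.card_le_one]
    intro l hl l' hl'
    rw [Finset.mem_filter] at hl hl'
    by_contra hll
    exact hfull l l' hll hl.2 hl'.2
  -- there is a zero entry
  obtain ⟨k, j, hkj⟩ : ∃ k j, (B : Matrix ι ι F) k j = 0 := by
    by_contra hcon
    push Not at hcon
    obtain ⟨l, l', hll⟩ : ∃ l l' : ι, l ≠ l' := by
      have : 1 < Fintype.card ι := by omega
      obtain ⟨l, l', h⟩ := Fintype.exists_pair_of_one_lt_card this
      exact ⟨l, l', h⟩
    exact hfull l l' hll (fun a => hcon a l) (fun a => hcon a l')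
  have hv : ∀ a, a ≠ k → (B : Matrix ι ι F) a j ≠ 0 := fun a ha h => hd j a k ha h hkj
  -- the proportionality factors
  have hγ : ∀ l : ι, ∃ γ : F, γ ≠ 0 ∧ ∀ a, a ≠ k → (B : Matrix ι ι F) a l ≠ 0 →
      (B : Matrix ι ι F) a l = γ * (B : Matrix ι ι F) a j := by
    intro l
    obtain ⟨a0, ha0k, ha0⟩ : ∃ a0, a0 ≠ k ∧ (B : Matrix ι ι F) a0 l ≠ 0 := by
      by_contra hcon
      push Not at hcon
      obtain ⟨a1, a2, h1k, h2k, h12⟩ : ∃ a1 a2 : ι, a1 ≠ k ∧ a2 ≠ k ∧ a1 ≠ a2 := by
        have h3 : 2 < Fintype.card ι := by omega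
        obtain ⟨a1, a2, a3, h12, h13', h23⟩ := Fintype.two_lt_card_iff.mp h3
        by_cases h1 : a1 = k
        · refine ⟨a2, a3, ?_, ?_, h23⟩
          · rw [← h1]; exact h12.symm
          · rw [← h1]; exact h13'.symm
        · by_cases h2 : a2 = k
          · refine ⟨a1, a3, h1, ?_, h13'⟩
            rw [← h2]; exact h23.symm
          · exact ⟨a1, a2, h1, h2, h12⟩
      exact hd l a1 a2 h12 (hcon a1 h1k) (hcon a2 h2k)
    refine ⟨(B : Matrix ι ι F) a0 l / (B : Matrix ι ι F) a0 j,
      div_ne_zero ha0 (hv a0 ha0k), fun a hak ha => ?_⟩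
    have := hprop l j a a0 ha (hv a hak) ha0 (hv a0 ha0k)
    field_simp [hv a0 ha0k]
    linear_combination this
  choose γ hγ0 hγe using hγ
  -- four non-full columns other than `k`, `j`
  obtain ⟨S, hS⟩ : ∃ S : Finset ι, S = Finset.univ.filter fun l : ι =>
      l ≠ k ∧ l ≠ j ∧ ∃ a, (B : Matrix ι ι F) a l = 0 := ⟨_, rfl⟩
  have hScard : 4 ≤ S.card := by
    have hsub : (Finset.univ : Finset ι) ⊆ S ∪ ({k} ∪ ({j} ∪
        Finset.univ.filter fun l : ι => ∀ a, (B : Matrix ι ι F) a l ≠ 0)) := by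
      intro l _
      rw [Finset.mem_union, Finset.mem_union, Finset.mem_union, Finset.mem_singleton,
        Finset.mem_singleton, hS, Finset.mem_filter, Finset.mem_filter]
      by_cases h1 : l = k
      · exact Or.inr (Or.inl h1)
      · by_cases h2 : l = j
        · exact Or.inr (Or.inr (Or.inl h2))
        · by_cases h3 : ∀ a, (B : Matrix ι ι F) a l ≠ 0
          · exact Or.inr (Or.inr (Or.inr ⟨Finset.mem_univ _, h3⟩))
          · push Not at h3
            exact Or.inl ⟨Finset.mem_univ _, h1, h2, h3⟩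
    have h0 := Finset.card_le_card hsub
    have h1 := Finset.card_union_le S ({k} ∪ ({j} ∪
        Finset.univ.filter fun l : ι => ∀ a, (B : Matrix ι ι F) a l ≠ 0))
    have h2 := Finset.card_union_le {k} ({j} ∪
        Finset.univ.filter fun l : ι => ∀ a, (B : Matrix ι ι F) a l ≠ 0)
    have h3 := Finset.card_union_le {j}
        (Finset.univ.filter fun l : ι => ∀ a, (B : Matrix ι ι F) a l ≠ 0)
    rw [Finset.card_univ] at h0
    rw [Finset.card_singleton] at h2 h3
    omega
  have hSmem : ∀ l ∈ S, l ≠ k ∧ l ≠ j ∧ ∃ a, (B : Matrix ι ι F) a l = 0 := by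
    intro l hl
    rw [hS, Finset.mem_filter] at hl
    exact hl.2
  obtain ⟨e⟩ : Nonempty (Fin 4 ↪ S) := by
    apply Function.Embedding.nonempty_of_card_le
    rw [Fintype.card_fin, Fintype.card_coe]; exact hScard
  have hl : ∀ i : Fin 4, (e i : ι) ≠ k ∧ (e i : ι) ≠ j ∧
      ∃ a, (B : Matrix ι ι F) a (e i) = 0 := fun i => hSmem _ (e i).2
  choose hlk hlj a ha using hl
  have hak : ∀ i, a i ≠ k := by
    intro i h
    have := hrow k (e i) j (by rw [← h]; exact ha i) hkj
    exact hlj i this
  have hainj : Function.Injective a := by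
    intro i i' h
    have := hrow (a i) (e i) (e i') (ha i) (by rw [h]; exact ha i')
    exact e.injective (Subtype.ext this)
  have heinj : ∀ i i' : Fin 4, i ≠ i' → (e i : ι) ≠ (e i' : ι) := by
    intro i i' hii h
    exact hii (e.injective (Subtype.ext h))
  -- the weights
  obtain ⟨N, hN⟩ : ∃ N : F, N = ((Fintype.card ι - 3 : ℕ) : F) := ⟨_, rfl⟩
  obtain ⟨x, hx0, hx1, hx2, hx3⟩ := wd_exists_avoid hq (0 : F) 1 (1 - N) (-N)
  have hx'0 : 1 - N - x ≠ 0 := by
    intro h
    apply hx2
    linear_combination -h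
  obtain ⟨w, hw⟩ : ∃ w : ι → F, w = fun l => if l = k then (0 : F) else
      if l = (e 2 : ι) then x else if l = (e 3 : ι) then 1 - N - x else 1 := ⟨_, rfl⟩
  have hwsum : ∑ l, w l = 1 := by
    rw [hw]
    rw [wd_sum_three k (e 2) (e 3) (hlk 2).symm (hlk 3).symm (heinj 2 3 (by decide)) x (1 - N - x),
      ← hN]
    ring
  have hwk : w k = 0 := by rw [hw]; simp only [if_true]
  have hw0 : w (e 0) = 1 := by
    rw [hw]
    simp only
    rw [if_neg (hlk 0), if_neg (heinj 0 2 (by decide)), if_neg (heinj 0 3 (by decide))]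
  have hw1 : w (e 1) = 1 := by
    rw [hw]
    simp only
    rw [if_neg (hlk 1), if_neg (heinj 1 2 (by decide)), if_neg (heinj 1 3 (by decide))]
  have hw2 : w (e 2) = x := by
    rw [hw]
    simp only
    rw [if_neg (hlk 2), if_pos trivial]
  have hw3 : w (e 3) = 1 - N - x := by
    rw [hw]
    simp only
    rw [if_neg (hlk 3), if_neg (heinj 3 2 (by decide)), if_pos trivial]
  have hwne : ∀ l, l ≠ k → w l ≠ 0 := by
    intro l hlk'
    rw [hw]
    simp only
    rw [if_neg hlk']
    split_ifs
    · exact hx0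
    · exact hx'0
    · exact one_ne_zero
  -- the diagonal element
  obtain ⟨σ, hσ⟩ : ∃ σ : ι → F, σ = fun l => if l = k then (1 : F) else
      w l / (γ l * (B : Matrix ι ι F) l j) := ⟨_, rfl⟩
  have hσ0 : ∀ l, σ l ≠ 0 := by
    intro l
    rw [hσ]
    simp only
    split_ifs with h
    · exact one_ne_zero
    · exact div_ne_zero (hwne l h) (mul_ne_zero (hγ0 l) (hv l h))
  obtain ⟨s0, hs0⟩ : ∃ s0 : ι → Fˣ, s0 = fun l => Units.mk0 (σ l) (hσ0 l) := ⟨_, rfl⟩
  obtain ⟨s, hs⟩ : ∃ s : ι → Fˣ, s = Function.update s0 k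
      (∏ l ∈ Finset.univ \ {k}, s0 l)⁻¹ := ⟨_, rfl⟩
  have hsprod : ∏ l, s l = 1 := by
    rw [hs, Finset.prod_update_of_mem (Finset.mem_univ k), inv_mul_cancel]
  have hsl : ∀ l, l ≠ k → (s l : F) = w l / (γ l * (B : Matrix ι ι F) l j) := by
    intro l hlk'
    rw [hs, Function.update_of_ne hlk', hs0]
    simp only [Units.val_mk0]
    rw [hσ]
    simp only
    rw [if_neg hlk']
  have hsM : dg s ∈ M := dg_mem_of_containsH hH hsprod
  have hXM : B * dg s * B ∈ M := M.mul_mem (M.mul_mem hB hsM) hB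
  -- the entries of column `j` of `X`
  have hXent : ∀ i : Fin 4, ((B * dg s * B : GL ι F) : Matrix ι ι F) (a i) j =
      (B : Matrix ι ι F) (a i) j * (1 - w (e i)) := by
    intro i
    rw [Units.val_mul, Units.val_mul, dg_val, Matrix.mul_apply]
    have hterm : ∀ l ∈ (Finset.univ : Finset ι),
        ((B : Matrix ι ι F) * Matrix.diagonal fun i => (s i : F)) (a i) l *
          (B : Matrix ι ι F) l j =
        (B : Matrix ι ι F) (a i) j * w l -
          (if l = (e i : ι) then (B : Matrix ι ι F) (a i) j * w l else 0) := by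
      intro l _
      rw [Matrix.mul_diagonal]
      by_cases hlk' : l = k
      · rw [hlk', hkj, mul_zero, hwk, mul_zero, if_neg (hlk i).symm, sub_zero]
      · rw [hsl l hlk']
        by_cases hle : l = (e i : ι)
        · rw [if_pos hle, sub_self, hle, ha i, zero_mul, zero_mul]
        · rw [if_neg hle, sub_zero]
          have hne : (B : Matrix ι ι F) (a i) l ≠ 0 := by
            intro h0
            exact hle (hrow (a i) l (e i) h0 (ha i))
          rw [hγe l (a i) (hak i) hne]
          have h1 := hγ0 l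
          have h2 := hv l hlk'
          field_simp
    rw [Finset.sum_congr rfl hterm, Finset.sum_sub_distrib, ← Finset.mul_sum, hwsum,
      Finset.sum_ite_eq' Finset.univ (e i : ι), if_pos (Finset.mem_univ _)]
    ring
  have hX0 : ((B * dg s * B : GL ι F) : Matrix ι ι F) (a 0) j = 0 := by
    rw [hXent 0, hw0, sub_self, mul_zero]
  have hX1 : ((B * dg s * B : GL ι F) : Matrix ι ι F) (a 1) j = 0 := by
    rw [hXent 1, hw1, sub_self, mul_zero]
  have hX2 : ((B * dg s * B : GL ι F) : Matrix ι ι F) (a 2) j ≠ 0 := by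
    rw [hXent 2, hw2]
    apply mul_ne_zero (hv _ (hak 2))
    intro h
    apply hx1
    linear_combination -h
  have hX3 : ((B * dg s * B : GL ι F) : Matrix ι ι F) (a 3) j ≠ 0 := by
    rw [hXent 3, hw3]
    apply mul_ne_zero (hv _ (hak 3))
    intro h
    apply hx3
    linear_combination h
  have hXnm : ¬ IsMono ((B * dg s * B : GL ι F) : Matrix ι ι F) := by
    intro hmono
    obtain ⟨i0, hi0⟩ := hmono j
    by_cases h2 : a 2 = i0
    · have h3 : a 3 ≠ i0 := by
        intro h3
        have : (2 : Fin 4) = 3 := hainj (h2.trans h3.symm)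
        exact absurd this (by decide)
      exact hX3 (hi0 _ h3)
    · exact hX2 (hi0 _ h2)
  have h01 : a 0 ≠ a 1 := by
    intro h
    have : (0 : Fin 4) = 1 := hainj h
    exact absurd this (by decide)
  exact hdense _ hXM hXnm j (a 0) (a 1) h01 hX0 hX1

end Cfsg.Agent.Lib.Helper6.MonoLeaf
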