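import Cfsg.Agent.Lib.Helper6.C3l42.Core

/-!
# S5886 leaf gl42 (helper24's statement, msg 3173): `(n, r, q) = (4, 2, 2)`

The normaliser of a subfield `𝔽₄` of `M₄(𝔽₂)` is a coatom of `GL₄(𝔽₂)` (and, as `SL = GL` over `𝔽₂`, maximal in
`SL₄(𝔽₂)`).  The field `F` is an arbitrary field with two elements; everything is transported to `ZMod 2`, where the
statement is a finite computation (`C3l42/Check.lean`).
-/

set_option autoImplicit false
set_option linter.unusedSectionVars false
set_option linter.unusedVariables false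

namespace Cfsg.Agent.Lib.Helper6.C3lLeaf
open Matrix

section general

variable {R : Type*} [CommRing R] {n : Type*} [Fintype n] [DecidableEq n]

theorem Nrm2.inv (h2 : ∀ X : Matrix n n R, X + X = 0) {θ : Matrix n n R} (g : (Matrix n n R)ˣ)
    (h : Nrm2 θ (g : Matrix n n R)) : Nrm2 θ ((g⁻¹ : (Matrix n n R)ˣ) : Matrix n n R) := by
  rcases h with h | h
  · left
    have h1 : ((g⁻¹ : (Matrix n n R)ˣ) : Matrix n n R) * ((g : Matrix n n R) * θ) *
        ((g⁻¹ : (Matrix n n R)ˣ) : Matrix n n R)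
        = ((g⁻¹ : (Matrix n n R)ˣ) : Matrix n n R) * (θ * g) * ((g⁻¹ : (Matrix n n R)ˣ) : Matrix n n R) := by
      rw [h]
    rw [← mul_assoc, Units.inv_mul, one_mul, mul_assoc, mul_assoc, Units.mul_inv, mul_one] at h1
    exact h1.symm
  · right
    -- `g (θ + 1) = θ g`
    have h0 : (g : Matrix n n R) * (θ + 1) = θ * g := by
      rw [mul_add, mul_one, h, add_mul, one_mul, add_assoc, h2, add_zero]
    have h1 : ((g⁻¹ : (Matrix n n R)ˣ) : Matrix n n R) * ((g : Matrix n n R) * (θ + 1)) *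
        ((g⁻¹ : (Matrix n n R)ˣ) : Matrix n n R)
        = ((g⁻¹ : (Matrix n n R)ˣ) : Matrix n n R) * (θ * g) * ((g⁻¹ : (Matrix n n R)ˣ) : Matrix n n R) := by
      rw [h0]
    rw [← mul_assoc, Units.inv_mul, one_mul, mul_assoc, mul_assoc, Units.mul_inv, mul_one] at h1
    exact h1.symm

end general

theorem gl42 {F : Type*} [Field F] [Fintype F] (hF : Fintype.card F = 2)
    (K : Subalgebra F (Matrix (Fin 4) (Fin 4) F)) (hK : Cfsg.Geo.IsFieldSubalgebra 2 K) :
    IsCoatom (Cfsg.Geo.subalgebraNormalizer K) ∧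
      Cfsg.Geo.IsMaximalIn (Cfsg.Geo.specialLinear (Fin 4) F)
        (Cfsg.Geo.subalgebraNormalizer K ⊓ Cfsg.Geo.specialLinear (Fin 4) F) := by
  classical
  -- the field with two elements
  obtain ⟨e⟩ : Nonempty (ZMod 2 ≃+* F) := ⟨ZMod.ringEquivOfPrime F Nat.prime_two hF⟩
  have hF01 : ∀ x : F, x = 0 ∨ x = 1 := by
    intro x
    have h : ∀ z : ZMod 2, z = 0 ∨ z = 1 := by decide
    rcases h (e.symm x) with h | h
    · left
      have := congrArg e h
      rwa [RingEquiv.apply_symm_apply, map_zero] at this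
    · right
      have := congrArg e h
      rwa [RingEquiv.apply_symm_apply, map_one] at this
  have h2F : (2 : F) = 0 := by
    have h : (2 : ZMod 2) = 0 := by decide
    have := congrArg e h
    rwa [map_ofNat, map_zero] at this
  have hMM : ∀ X : Matrix (Fin 4) (Fin 4) F, X + X = 0 := by
    intro X
    rw [← two_smul F X, h2F, zero_smul]
  have h1ne : (1 : Matrix (Fin 4) (Fin 4) F) ≠ 0 := one_ne_zero
  -- a non-scalar element of `K`
  obtain ⟨θ, hθK, hθns⟩ : ∃ θ ∈ K, ∀ c : F, θ ≠ c • (1 : Matrix (Fin 4) (Fin 4) F) := by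
    by_contra hcon
    push Not at hcon
    have hle : Subalgebra.toSubmodule K ≤ Submodule.span F {(1 : Matrix (Fin 4) (Fin 4) F)} := by
      intro x hx
      obtain ⟨c, hc⟩ := hcon x hx
      rw [hc]
      exact Submodule.smul_mem _ _ (Submodule.subset_span rfl)
    have h1 := Submodule.finrank_mono hle
    rw [Subalgebra.finrank_toSubmodule, hK.finrank_eq, finrank_span_singleton h1ne] at h1
    omega
  have hli : ∀ s r : F, s • (1 : Matrix (Fin 4) (Fin 4) F) + r • θ = 0 → s = 0 ∧ r = 0 := by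
    intro s r hsr
    by_cases hr : r = 0
    · rw [hr, zero_smul, add_zero] at hsr
      rcases smul_eq_zero.mp hsr with h | h
      · exact ⟨h, hr⟩
      · exact absurd h h1ne
    · exfalso
      apply hθns (-(r⁻¹ * s))
      have h3 : r • θ = -(s • (1 : Matrix (Fin 4) (Fin 4) F)) := by
        rw [eq_neg_iff_add_eq_zero, add_comm]; exact hsr
      calc θ = r⁻¹ • (r • θ) := by rw [smul_smul, inv_mul_cancel₀ hr, one_smul]
        _ = -(r⁻¹ * s) • (1 : Matrix (Fin 4) (Fin 4) F) := by rw [h3, smul_neg, smul_smul, neg_smul]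
  have hspanK : Submodule.span F {(1 : Matrix (Fin 4) (Fin 4) F), θ} = Subalgebra.toSubmodule K := by
    have hle : Submodule.span F {(1 : Matrix (Fin 4) (Fin 4) F), θ} ≤ Subalgebra.toSubmodule K := by
      rw [Submodule.span_le]
      intro x hx
      rcases hx with hx | hx
      · rw [hx]; exact K.one_mem
      · rw [Set.mem_singleton_iff] at hx
        rw [hx]; exact hθK
    apply Submodule.eq_of_le_of_finrank_eq hle
    have h3 := finrank_span_eq_card (R := F) (b := ![(1 : Matrix (Fin 4) (Fin 4) F), θ])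
      (LinearIndependent.pair_iff.mpr hli)
    rw [Matrix.range_cons_cons_empty, Fintype.card_fin] at h3
    rw [h3, Subalgebra.finrank_toSubmodule, hK.finrank_eq]
  have hθ0 : θ ≠ 0 := by
    have := hθns 0
    rwa [zero_smul] at this
  have hθ1 : θ ≠ 1 := by
    have := hθns 1
    rwa [one_smul] at this
  have hK4 : ∀ x ∈ K, x = 0 ∨ x = 1 ∨ x = θ ∨ x = θ + 1 := by
    intro x hx
    have hx' : x ∈ Submodule.span F {(1 : Matrix (Fin 4) (Fin 4) F), θ} := by
      rw [hspanK]; exact hx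
    obtain ⟨a, b, hab⟩ := Submodule.mem_span_pair.mp hx'
    rcases hF01 a with rfl | rfl <;> rcases hF01 b with rfl | rfl
    · left; rw [← hab]; simp
    · right; right; left; rw [← hab]; simp
    · right; left; rw [← hab]; simp
    · right; right; right; rw [← hab, one_smul, one_smul, add_comm]
  have hθp : θ + 1 ∈ K := K.add_mem hθK K.one_mem
  have hθp0 : θ + 1 ≠ 0 := by
    intro h
    apply hθ1
    have : θ + 1 + 1 = 1 := by rw [h, zero_add]
    rwa [add_assoc, hMM, add_zero] at this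
  -- the minimal polynomial
  have hroot : θ * θ = θ + 1 := by
    obtain ⟨y, hyK, hy⟩ := hK.inv θ hθK hθ0
    rcases hK4 (θ * θ) (K.mul_mem hθK hθK) with h | h | h | h
    · exfalso
      apply hθ0
      calc θ = θ * (θ * y) := by rw [hy, mul_one]
        _ = 0 := by rw [← mul_assoc, h, zero_mul]
    · exfalso
      obtain ⟨y', hy'K, hy'⟩ := hK.inv (θ + 1) hθp hθp0
      apply hθp0
      have hsq : (θ + 1) * (θ + 1) = 0 := by
        rw [mul_add, add_mul, mul_one, one_mul, h, add_assoc, ← add_assoc θ θ, hMM, zero_add, hMM]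
      calc θ + 1 = (θ + 1) * ((θ + 1) * y') := by rw [hy', mul_one]
        _ = 0 := by rw [← mul_assoc, hsq, zero_mul]
    · exfalso
      apply hθ1
      calc θ = θ * (θ * y) := by rw [hy, mul_one]
        _ = θ * y := by rw [← mul_assoc, h]
        _ = 1 := hy
    · exact h
  -- the normaliser
  have hconjK : ∀ g : GL (Fin 4) F, Nrm2 θ (g : Matrix (Fin 4) (Fin 4) F) → ∀ k ∈ K,
      (g : Matrix (Fin 4) (Fin 4) F) * k * ((g⁻¹ : GL (Fin 4) F) : Matrix (Fin 4) (Fin 4) F) ∈ K := by
    intro g hg k hk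
    have hcθ : (g : Matrix (Fin 4) (Fin 4) F) * θ * ((g⁻¹ : GL (Fin 4) F) : Matrix (Fin 4) (Fin 4) F) ∈ K := by
      rcases hg with h | h
      · rw [h, mul_assoc, Units.mul_inv, mul_one]; exact hθK
      · rw [h, mul_assoc, Units.mul_inv, mul_one]; exact hθp
    rcases hK4 k hk with rfl | rfl | rfl | rfl
    · rw [mul_zero, zero_mul]; exact K.zero_mem
    · rw [mul_one, Units.mul_inv]; exact K.one_mem
    · exact hcθ
    · rw [mul_add, add_mul, mul_one, Units.mul_inv]
      exact K.add_mem hcθ K.one_mem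
  have hN : ∀ g : GL (Fin 4) F, g ∈ Cfsg.Geo.subalgebraNormalizer K ↔
      Nrm2 θ (g : Matrix (Fin 4) (Fin 4) F) := by
    intro g
    constructor
    · intro hg
      have h1 := (hg θ).1 hθK
      have hcancel : ∀ X : Matrix (Fin 4) (Fin 4) F,
          (g : Matrix (Fin 4) (Fin 4) F) * θ * ((g⁻¹ : GL (Fin 4) F) : Matrix (Fin 4) (Fin 4) F) = X →
          (g : Matrix (Fin 4) (Fin 4) F) * θ = X * g := by
        intro X hX
        rw [← hX, mul_assoc, Units.inv_mul, mul_one]
      rcases hK4 _ h1 with h | h | h | h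
      · exfalso
        have := hcancel _ h
        rw [zero_mul] at this
        apply hθ0
        calc θ = ((g⁻¹ : GL (Fin 4) F) : Matrix (Fin 4) (Fin 4) F) * ((g : Matrix (Fin 4) (Fin 4) F) * θ) := by
              rw [← mul_assoc, Units.inv_mul, one_mul]
          _ = 0 := by rw [this, mul_zero]
      · exfalso
        have := hcancel _ h
        rw [one_mul] at this
        apply hθ1
        calc θ = ((g⁻¹ : GL (Fin 4) F) : Matrix (Fin 4) (Fin 4) F) * ((g : Matrix (Fin 4) (Fin 4) F) * θ) := by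
              rw [← mul_assoc, Units.inv_mul, one_mul]
          _ = 1 := by rw [this, Units.inv_mul]
      · left; exact hcancel _ h
      · right; exact hcancel _ h
    · intro hg k
      constructor
      · exact hconjK g hg k
      · intro hk
        have hginv := Nrm2.inv hMM g hg
        have := hconjK g⁻¹ hginv _ hk
        rw [inv_inv] at this
        have e1 : ((g⁻¹ : GL (Fin 4) F) : Matrix (Fin 4) (Fin 4) F) *
            ((g : Matrix (Fin 4) (Fin 4) F) * k * ((g⁻¹ : GL (Fin 4) F) : Matrix (Fin 4) (Fin 4) F)) *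
            (g : Matrix (Fin 4) (Fin 4) F) = k := by
          simp only [mul_assoc]
          rw [Units.inv_mul, mul_one, ← mul_assoc, Units.inv_mul, one_mul]
        rwa [e1] at this
  -- transport to `ZMod 2`
  obtain ⟨φ, hφ⟩ : ∃ φ : M2 ≃+* Matrix (Fin 4) (Fin 4) F, φ = e.mapMatrix := ⟨_, rfl⟩
  obtain ⟨θ₂, hθ₂⟩ : ∃ θ₂ : M2, θ₂ = φ.symm θ := ⟨_, rfl⟩
  have hφθ : φ θ₂ = θ := by rw [hθ₂, RingEquiv.apply_symm_apply]
  have hroot₂ : θ₂ * θ₂ = θ₂ + 1 := by
    apply φ.injective
    rw [map_mul, map_add, map_one, hφθ, hroot]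
  obtain ⟨P, hP⟩ := root_conj hroot₂
  have hPinv : ((P⁻¹ : G2) : M2) * θ₀ = θ₂ * ((P⁻¹ : G2) : M2) := by
    have h1 : ((P⁻¹ : G2) : M2) * ((P : M2) * θ₂) * ((P⁻¹ : G2) : M2)
        = ((P⁻¹ : G2) : M2) * (θ₀ * (P : M2)) * ((P⁻¹ : G2) : M2) := by rw [hP]
    rw [← mul_assoc, Units.inv_mul, one_mul, mul_assoc, mul_assoc, Units.mul_inv, mul_one] at h1
    exact h1.symm
  obtain ⟨Φ, hΦ⟩ : ∃ Φ : G2 ≃* GL (Fin 4) F, Φ = Units.mapEquiv φ.toMulEquiv := ⟨_, rfl⟩
  have hΦval : ∀ g : G2, ((Φ g : GL (Fin 4) F) : Matrix (Fin 4) (Fin 4) F) = φ (g : M2) := by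
    intro g; rw [hΦ]; rfl
  have hNrmφ : ∀ X : M2, Nrm2 θ (φ X) ↔ Nrm2 θ₂ X := by
    intro X
    unfold Nrm2
    rw [← hφθ, ← map_mul, ← map_mul, ← map_one φ, ← map_add, ← map_mul, φ.injective.eq_iff,
      φ.injective.eq_iff]
  obtain ⟨Ψ, hΨ⟩ : ∃ Ψ : G2 ≃* GL (Fin 4) F, Ψ = (MulAut.conj P⁻¹).trans Φ := ⟨_, rfl⟩
  have hΨapp : ∀ g : G2, Ψ g = Φ (P⁻¹ * g * P) := by
    intro g
    rw [hΨ, MulEquiv.trans_apply, MulAut.conj_apply, inv_inv]
  have hkey : ∀ g : G2, Ψ g ∈ Cfsg.Geo.subalgebraNormalizer K ↔ Nrm2 θ₀ (g : M2) := by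
    intro g
    rw [hN, hΨapp, hΦval, hNrmφ, Units.val_mul, Units.val_mul]
    constructor
    · intro h
      have := h.conj P hP
      have e1 : (P : M2) * (((P⁻¹ : G2) : M2) * (g : M2) * (P : M2)) * ((P⁻¹ : G2) : M2) = (g : M2) := by
        simp only [mul_assoc]
        rw [Units.mul_inv, mul_one, ← mul_assoc, Units.mul_inv, one_mul]
      rwa [e1] at this
    · intro h
      have := h.conj P⁻¹ hPinv
      rwa [inv_inv] at this
  -- coatom
  have hco : IsCoatom (Cfsg.Geo.subalgebraNormalizer K) := by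
    constructor
    · obtain ⟨g, hg⟩ := exists_not_nrm0
      intro htop
      apply hg
      rw [← hkey, htop]
      exact Subgroup.mem_top _
    · intro M' hlt
      obtain ⟨x, hxM, hxN⟩ := SetLike.exists_of_lt hlt
      have hM₂ : (M'.comap Ψ.toMonoidHom) = ⊤ := by
        apply max0 (M'.comap Ψ.toMonoidHom) (g := Ψ.symm x)
        · intro g hg
          rw [Subgroup.mem_comap]
          exact hlt.le ((hkey g).2 hg)
        · rw [Subgroup.mem_comap]
          show Ψ (Ψ.symm x) ∈ M'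
          rw [MulEquiv.apply_symm_apply]
          exact hxM
        · intro hc
          apply hxN
          have := (hkey (Ψ.symm x)).2 hc
          rwa [MulEquiv.apply_symm_apply] at this
      rw [eq_top_iff]
      intro y _
      have : Ψ.symm y ∈ M'.comap Ψ.toMonoidHom := by rw [hM₂]; exact Subgroup.mem_top _
      rw [Subgroup.mem_comap] at this
      have h3 : Ψ (Ψ.symm y) ∈ M' := this
      rwa [MulEquiv.apply_symm_apply] at h3
  refine ⟨hco, ?_⟩
  -- `SL = GL`
  have hSL : Cfsg.Geo.specialLinear (Fin 4) F = ⊤ := by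
    rw [eq_top_iff]
    intro g _
    unfold Cfsg.Geo.specialLinear
    rw [MonoidHom.mem_ker]
    apply Units.ext
    rcases hF01 ((Matrix.GeneralLinearGroup.det g : Fˣ) : F) with h | h
    · exact absurd h (Units.ne_zero _)
    · rw [h]; rfl
  rw [hSL, inf_top_eq]
  refine ⟨lt_top_iff_ne_top.2 hco.1, fun M' hle _ => ?_⟩
  by_cases hM' : M' = Cfsg.Geo.subalgebraNormalizer K
  · left; exact hM'
  · right
    exact hco.2 M' (lt_of_le_of_ne hle (Ne.symm hM'))

end Cfsg.Agent.Lib.Helper6.C3lLeaf
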