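/-
helper6: Coxeter-type combinatorics in a group generated by involutions satisfying the exchange
condition (in the form of helper3's `WordLen.Exch`): deletion with sublists, `(J,K)`-reduced elements
of double cosets (existence, uniqueness, additivity of lengths), and the longest element.
-/
import Mathlib
import Cfsg.Agent.Lib.Helper3.WordLen
import Cfsg.Agent.Lib.Helper3.Exchange

set_option autoImplicit false
set_option linter.unusedSectionVars false

namespace Cfsg.Agent.Lib.Helper6.CoxRed

open Cfsg.Agent.Lib.Helper3.WordLen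

variable {W : Type*} [Group W] {S : Set W}

theorem isWord_of_sublist {J : Set W} {L R : List W} (h : R.Sublist L) (hL : IsWord J L) :
    IsWord J R := fun x hx => hL x (h.subset hx)

section

variable (hS : ∀ s ∈ S, s * s = 1) (hgen : Subgroup.closure S = ⊤)
  (hne : ∀ s ∈ S, ∀ w, len S (s * w) ≠ len S w) (hE : Exch S)
include hS hgen

theorem len_mul_le_add (a b : W) : len S (a * b) ≤ len S a + len S b := by
  obtain ⟨A, hA, ha, hlA⟩ := exists_reduced hS hgen a
  obtain ⟨B, hB, hb, hlB⟩ := exists_reduced hS hgen b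
  have := len_le_of_word (S := S) (isWord_append.mpr ⟨hA, hB⟩)
  rw [List.prod_append, ha, hb, List.length_append, hlA, hlB] at this
  exact this

include hne hE

/-- deletion: every word contains a reduced subword with the same product -/
theorem exists_reduced_sublist (L : List W) (hL : IsWord S L) :
    ∃ R : List W, R.Sublist L ∧ R.prod = L.prod ∧ R.length = len S R.prod := by
  induction L with
  | nil => exact ⟨[], List.Sublist.refl _, rfl, by rw [List.prod_nil, len_one]; rfl⟩
  | cons s L ih =>
    rw [isWord_cons] at hL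
    obtain ⟨R, hRL, hprod, hlen⟩ := ih hL.2
    have hsS : s ∈ S := hL.1
    have hRS : IsWord S R := isWord_of_sublist hRL hL.2
    by_cases h : len S R.prod ≤ len S (s * R.prod)
    · refine ⟨s :: R, hRL.cons_cons s, by rw [List.prod_cons, List.prod_cons, hprod], ?_⟩
      rw [List.prod_cons, List.length_cons]
      have h1 := hne s hsS R.prod
      have h2 := len_mul_le hS hgen hsS R.prod
      omega
    · obtain ⟨L₁, s₀, L₂, rfl, he⟩ := hE R hRS s hsS h
      rw [isWord_append, isWord_cons] at hRS
      have hprod' : (L₁ ++ L₂).prod = s * (L₁ ++ s₀ :: L₂).prod := by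
        have hs0 : s₀ * s₀ = 1 := hS s₀ hRS.2.1
        rw [List.prod_append, List.prod_append, List.prod_cons, ← mul_assoc, ← mul_assoc, he,
          mul_assoc L₁.prod, hs0, mul_one]
      refine ⟨L₁ ++ L₂, ?_, ?_, ?_⟩
      · refine List.Sublist.trans ?_ (hRL.cons s)
        exact List.Sublist.append_left (List.sublist_cons_self s₀ L₂) L₁
      · rw [hprod', List.prod_cons, hprod]
      · rw [hprod']
        have h1 := len_le_mul hS hgen hsS (L₁ ++ s₀ :: L₂).prod
        have h2 := len_le_of_word (S := S) (L := L₁ ++ L₂)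
          (isWord_append.mpr ⟨hRS.1, hRS.2.2⟩)
        rw [hprod'] at h2
        simp only [List.length_append, List.length_cons] at hlen h2 ⊢
        omega

end

/-- `w` is `(J,K)`-reduced: no element of `J` shortens it on the left, none of `K` on the right -/
def IsRed (S J K : Set W) (w : W) : Prop :=
  (∀ s ∈ J, len S w < len S (s * w)) ∧ (∀ t ∈ K, len S w < len S (w * t))

/-- `w'` lies in the double coset `⟨J⟩ w ⟨K⟩` -/
def InDC (J K : Set W) (w w' : W) : Prop :=
  ∃ x ∈ Subgroup.closure J, ∃ y ∈ Subgroup.closure K, w' = x * w * y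

theorem InDC.refl (J K : Set W) (w : W) : InDC J K w w :=
  ⟨1, Subgroup.one_mem _, 1, Subgroup.one_mem _, by simp⟩

theorem InDC.symm {J K : Set W} {w w' : W} (h : InDC J K w w') : InDC J K w' w := by
  obtain ⟨x, hx, y, hy, rfl⟩ := h
  exact ⟨x⁻¹, Subgroup.inv_mem _ hx, y⁻¹, Subgroup.inv_mem _ hy, by group⟩

theorem InDC.trans {J K : Set W} {w w' w'' : W} (h : InDC J K w w') (h' : InDC J K w' w'') :
    InDC J K w w'' := by
  obtain ⟨x, hx, y, hy, rfl⟩ := h
  obtain ⟨x', hx', y', hy', rfl⟩ := h'
  exact ⟨x' * x, Subgroup.mul_mem _ hx' hx, y * y', Subgroup.mul_mem _ hy hy', by group⟩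

section

variable (hS : ∀ s ∈ S, s * s = 1) (hgen : Subgroup.closure S = ⊤)
  (hne : ∀ s ∈ S, ∀ w, len S (s * w) ≠ len S w) (hE : Exch S)
include hS hgen

/-- a minimal-length element of a double coset -/
theorem exists_min (J K : Set W) (w : W) :
    ∃ m, InDC J K w m ∧ ∀ v, InDC J K w v → len S m ≤ len S v := by
  classical
  have hne' : ∃ k, ∃ m, InDC J K w m ∧ len S m = k := ⟨_, w, InDC.refl J K w, rfl⟩
  obtain ⟨m, hm, hk⟩ := Nat.find_spec hne'
  refine ⟨m, hm, fun v hv => ?_⟩
  rw [hk]
  exact Nat.find_min' hne' ⟨v, hv, rfl⟩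

theorem isRed_of_min {J K : Set W} (hJ : J ⊆ S) (hK : K ⊆ S)
    (hne : ∀ s ∈ S, ∀ w, len S (s * w) ≠ len S w) {w m : W} (hm : InDC J K w m)
    (hmin : ∀ v, InDC J K w v → len S m ≤ len S v) : IsRed S J K m := by
  constructor
  · intro s hs
    have h1 : InDC J K w (s * m) := by
      refine hm.trans ⟨s, Subgroup.subset_closure hs, 1, Subgroup.one_mem _, by simp⟩
    have h2 := hmin _ h1
    have h3 := hne s (hJ hs) m
    omega
  · intro t ht
    have h1 : InDC J K w (m * t) := by
      refine hm.trans ⟨1, Subgroup.one_mem _, t, Subgroup.subset_closure ht, by simp⟩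
    have h2 := hmin _ h1
    have h3 : len S (m * t) ≠ len S m := by
      have := hne t (hK ht) m⁻¹
      rw [len_inv hS hgen] at this
      have e : t * m⁻¹ = (m * t)⁻¹ := by rw [mul_inv_rev, inv_of_mem hS (hK ht)]
      rwa [e, len_inv hS hgen] at this
    omega

include hne hE

/-- every element of the double coset of a minimal-length element `m` factors as `x m y` with
additive lengths; given by reduced words -/
theorem exists_factor {J K : Set W} (hJ : J ⊆ S) (hK : K ⊆ S) {m : W}
    (hmin : ∀ v, InDC J K m v → len S m ≤ len S v) {w : W} (hw : InDC J K m w) :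
    ∃ A C : List W, IsWord J A ∧ IsWord K C ∧ w = A.prod * m * C.prod ∧
      len S w = A.length + len S m + C.length := by
  obtain ⟨x, hx, y, hy, rfl⟩ := hw
  have hSJ : ∀ s ∈ J, s * s = 1 := fun s hs => hS s (hJ hs)
  have hSK : ∀ s ∈ K, s * s = 1 := fun s hs => hS s (hK hs)
  obtain ⟨A, hA, hAx⟩ := exists_word_of_mem_closure hSJ hx
  obtain ⟨C, hC, hCy⟩ := exists_word_of_mem_closure hSK hy
  obtain ⟨M, hM, hMm, hMl⟩ := exists_reduced hS hgen m
  have hL : IsWord S (A ++ (M ++ C)) :=
    isWord_append.mpr ⟨hA.mono hJ, isWord_append.mpr ⟨hM, hC.mono hK⟩⟩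
  obtain ⟨R, hR, hRp, hRl⟩ := exists_reduced_sublist hS hgen hne hE _ hL
  rw [List.sublist_append_iff] at hR
  obtain ⟨A', R', rfl, hA', hR'⟩ := hR
  rw [List.sublist_append_iff] at hR'
  obtain ⟨M', C', rfl, hM', hC'⟩ := hR'
  have hA'w : IsWord J A' := isWord_of_sublist hA' hA
  have hC'w : IsWord K C' := isWord_of_sublist hC' hC
  have hM'w : IsWord S M' := isWord_of_sublist hM' hM
  -- `M'.prod` lies in the double coset
  have hprod : A'.prod * M'.prod * C'.prod = x * m * y := by
    rw [List.prod_append, List.prod_append, List.prod_append, List.prod_append, hAx, hMm, hCy] at hRp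
    rw [mul_assoc, hRp, mul_assoc]
  have hin : InDC J K m M'.prod := by
    refine ⟨A'.prod⁻¹ * x, Subgroup.mul_mem _ (Subgroup.inv_mem _ (prod_mem_closure hA'w)) hx,
      y * C'.prod⁻¹, Subgroup.mul_mem _ hy (Subgroup.inv_mem _ (prod_mem_closure hC'w)), ?_⟩
    have : M'.prod = A'.prod⁻¹ * (A'.prod * M'.prod * C'.prod) * C'.prod⁻¹ := by group
    rw [this, hprod]; group
  have h1 := hmin _ hin
  have h2 := len_le_of_word (S := S) hM'w
  have h3 := hM'.length_le
  have hMeq : M' = M := hM'.eq_of_length (by omega)
  subst hMeq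
  refine ⟨A', C', hA'w, hC'w, ?_, ?_⟩
  · rw [← hprod, hMm]
  · have hRl' : (A' ++ (M' ++ C')).length = len S (x * m * y) := by
      rw [hRl, List.prod_append, List.prod_append, ← mul_assoc, hprod]
    rw [← hRl']
    simp only [List.length_append]
    omega

/-- a `(J,K)`-reduced element of the double coset of a minimal-length element `m` equals `m` -/
theorem eq_min_of_isRed {J K : Set W} (hJ : J ⊆ S) (hK : K ⊆ S) {m : W}
    (hmin : ∀ v, InDC J K m v → len S m ≤ len S v) {w : W} (hw : InDC J K m w)
    (hred : IsRed S J K w) : w = m := by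
  obtain ⟨A, C, hA, hC, hwe, hlen⟩ := exists_factor hS hgen hne hE hJ hK hmin hw
  have hA0 : A = [] := by
    match A, hA, hwe, hlen with
    | [], _, _, _ => rfl
    | s :: A', hA, hwe, hlen =>
      exfalso
      rw [isWord_cons] at hA
      have h1 := hred.1 s hA.1
      have h2 : s * w = A'.prod * m * C.prod := by
        rw [hwe, List.prod_cons]
        simp only [mul_assoc]
        rw [← mul_assoc s s, hS s (hJ hA.1), one_mul]
      have h3 : len S (s * w) ≤ A'.length + len S m + C.length := by
        rw [h2]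
        have := len_mul_le_add hS hgen (A'.prod * m) C.prod
        have := len_mul_le_add hS hgen A'.prod m
        have := len_le_of_word (S := S) (hA.2.mono hJ)
        have := len_le_of_word (S := S) (hC.mono hK)
        omega
      simp only [List.length_cons] at hlen
      omega
  subst hA0
  have hC0 : C = [] := by
    rcases List.eq_nil_or_concat C with h | ⟨C', t, h⟩
    · exact h
    · exfalso
      subst h
      rw [List.concat_eq_append, isWord_append, isWord_singleton] at hC
      have h1 := hred.2 t hC.2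
      have h2 : w * t = m * C'.prod := by
        rw [hwe, List.concat_eq_append, List.prod_append, List.prod_singleton, List.prod_nil, one_mul,
          mul_assoc, mul_assoc, hS t (hK hC.2), mul_one]
      have h3 : len S (w * t) ≤ len S m + C'.length := by
        rw [h2]
        have := len_mul_le_add hS hgen m C'.prod
        have := len_le_of_word (S := S) (hC.1.mono hK)
        omega
      simp only [List.concat_eq_append, List.length_append, List.length_singleton,
        List.length_nil] at hlen
      omega
  subst hC0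
  simpa using hwe

/-- existence of a `(J,K)`-reduced element in every double coset -/
theorem exists_isRed {J K : Set W} (hJ : J ⊆ S) (hK : K ⊆ S) (w : W) :
    ∃ d, IsRed S J K d ∧ InDC J K d w := by
  obtain ⟨m, hm, hmin⟩ := exists_min hS hgen J K w
  exact ⟨m, isRed_of_min hS hgen hJ hK hne hm hmin, hm.symm⟩

/-- uniqueness of the `(J,K)`-reduced element of a double coset -/
theorem isRed_unique {J K : Set W} (hJ : J ⊆ S) (hK : K ⊆ S) {d d' : W} (hd : IsRed S J K d)
    (hd' : IsRed S J K d') (h : InDC J K d d') : d' = d := by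
  obtain ⟨m, hm, hmin⟩ := exists_min hS hgen J K d
  have hmin' : ∀ v, InDC J K m v → len S m ≤ len S v := fun v hv => hmin v (hm.trans hv)
  have h1 : d = m := eq_min_of_isRed hS hgen hne hE hJ hK hmin' hm.symm hd
  have h2 : d' = m := eq_min_of_isRed hS hgen hne hE hJ hK hmin' (hm.symm.trans h) hd'
  rw [h1, h2]

/-- a reduced element has minimal length in its double coset -/
theorem isRed_len_le {J K : Set W} (hJ : J ⊆ S) (hK : K ⊆ S) {d : W} (hd : IsRed S J K d)
    {v : W} (hv : InDC J K d v) : len S d ≤ len S v := by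
  obtain ⟨m, hm, hmin⟩ := exists_min hS hgen J K d
  have hmin' : ∀ v, InDC J K m v → len S m ≤ len S v := fun v hv => hmin v (hm.trans hv)
  have h1 : d = m := eq_min_of_isRed hS hgen hne hE hJ hK hmin' hm.symm hd
  rw [h1]
  exact hmin v hv

/-- lengths add: `ℓ(x d y) = ℓ(x') + ℓ(d) + ℓ(y')` for a suitable factorisation; in particular
for `J = ∅`: `ℓ(d y) = ℓ(d) + ℓ(y)` -/
theorem len_mul_of_isRed {K : Set W} (hK : K ⊆ S) {d : W} (hd : IsRed S ∅ K d) {y : W}
    (hy : y ∈ Subgroup.closure K) : len S (d * y) = len S d + len S y := by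
  have hJ : (∅ : Set W) ⊆ S := Set.empty_subset _
  have hmin : ∀ v, InDC ∅ K d v → len S d ≤ len S v :=
    fun v hv => isRed_len_le hS hgen hne hE hJ hK hd hv
  have hw : InDC ∅ K d (d * y) := ⟨1, Subgroup.one_mem _, y, hy, by simp⟩
  obtain ⟨A, C, hA, hC, hwe, hlen⟩ := exists_factor hS hgen hne hE hJ hK hmin hw
  have hA0 : A = [] := by
    match A, hA with
    | [], _ => rfl
    | s :: A', hA =>
      exfalso
      rw [isWord_cons] at hA
      exact hA.1
  subst hA0
  have hCy : C.prod = y := by
    simp only [List.prod_nil, one_mul] at hwe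
    exact (mul_left_cancel hwe).symm
  have h1 := len_le_of_word (S := S) (hC.mono hK)
  rw [hCy] at h1
  have h2 := len_mul_le_add hS hgen d y
  simp only [List.length_nil] at hlen
  omega

end

end Cfsg.Agent.Lib.Helper6.CoxRed
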