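/-
helper6: the longest element of a finite group generated by involutions with the exchange condition:
existence, and uniqueness of an element all of whose left descents are present.
-/
import Mathlib
import Cfsg.Agent.Lib.Helper6.CoxRedA

set_option autoImplicit false
set_option linter.unusedSectionVars false

namespace Cfsg.Agent.Lib.Helper6.CoxRed

open Cfsg.Agent.Lib.Helper3.WordLen

variable {W : Type*} [Group W] {S : Set W}

section

variable (hS : ∀ s ∈ S, s * s = 1) (hgen : Subgroup.closure S = ⊤)
  (hne : ∀ s ∈ S, ∀ w, len S (s * w) ≠ len S w) (hE : Exch S)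
include hS hgen

include hne in
theorem len_mul_right_ne {t : W} (ht : t ∈ S) (m : W) : len S (m * t) ≠ len S m := by
  have := hne t ht m⁻¹
  rw [len_inv hS hgen] at this
  have e : t * m⁻¹ = (m * t)⁻¹ := by rw [mul_inv_rev, inv_of_mem hS ht]
  rwa [e, len_inv hS hgen] at this

include hne hE

/-- if every generator shortens `w` on the left then `ℓ(w) = ℓ(t) + ℓ(t⁻¹ w)` for all `t` -/
theorem len_eq_add_of_all_descents {w : W} (hw : ∀ s ∈ S, len S (s * w) < len S w) :
    ∀ (k : ℕ) (t : W), len S t = k → len S w = len S t + len S (t⁻¹ * w) := by
  intro k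
  induction k with
  | zero =>
    intro t ht
    rw [len_eq_zero_iff hS hgen] at ht
    subst ht
    simp [len_one]
  | succ k ih =>
    intro t ht
    obtain ⟨s, hs, hst⟩ := exists_cons hS hgen ht
    set t' := s * t with ht'
    have htt : t = s * t' := by rw [ht', ← mul_assoc, hS s hs, one_mul]
    have hIH := ih t' hst
    obtain ⟨T, hT, hTp, hTl⟩ := exists_reduced hS hgen t'
    obtain ⟨U, hU, hUp, hUl⟩ := exists_reduced hS hgen (t'⁻¹ * w)
    have hLw : IsWord S (T ++ U) := isWord_append.mpr ⟨hT, hU⟩
    have hLp : (T ++ U).prod = w := by rw [List.prod_append, hTp, hUp]; group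
    have hnot : ¬ len S (T ++ U).prod ≤ len S (s * (T ++ U).prod) := by
      rw [hLp]; exact not_le.mpr (hw s hs)
    obtain ⟨L₁, s₀, L₂, hL, he⟩ := hE (T ++ U) hLw s hs hnot
    have hs0 : s₀ ∈ S := by
      have : s₀ ∈ T ++ U := by rw [hL]; simp
      exact hLw s₀ this
    have hsub := len_mul_le_add hS hgen t (t⁻¹ * w)
    rw [mul_inv_cancel_left] at hsub
    rw [List.append_eq_append_iff] at hL
    -- the case where the deleted letter lies in `U`
    have case1 : ∀ a' : List W, L₁ = T ++ a' → U = a' ++ s₀ :: L₂ →
        len S w = len S t + len S (t⁻¹ * w) := by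
      intro a' h1 h2
      have hsw : s * w = T.prod * (a' ++ L₂).prod := by
        rw [← hLp, h2, List.prod_append, List.prod_append, List.prod_cons, List.prod_append]
        have he' : s * (T.prod * a'.prod) = T.prod * a'.prod * s₀ := by
          rw [h1, List.prod_append] at he; exact he
        calc s * (T.prod * (a'.prod * (s₀ * L₂.prod)))
            = (s * (T.prod * a'.prod)) * (s₀ * L₂.prod) := by group
          _ = T.prod * a'.prod * s₀ * (s₀ * L₂.prod) := by rw [he']
          _ = T.prod * a'.prod * ((s₀ * s₀) * L₂.prod) := by group
          _ = T.prod * (a'.prod * L₂.prod) := by rw [hS s₀ hs0]; group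
      have htw : t⁻¹ * w = (a' ++ L₂).prod := by
        have : t⁻¹ * w = t'⁻¹ * (s * w) := by
          rw [htt, mul_inv_rev, inv_of_mem hS hs]
          simp only [mul_assoc]
        rw [this, hsw, hTp, inv_mul_cancel_left]
      have hle : len S (t⁻¹ * w) ≤ (a' ++ L₂).length := by
        rw [htw]
        apply len_le_of_word
        rw [h2, isWord_append, isWord_cons] at hU
        exact isWord_append.mpr ⟨hU.1, hU.2.2⟩
      have hUlen : U.length = (a' ++ L₂).length + 1 := by
        rw [h2]; simp only [List.length_append, List.length_cons]; omega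
      omega
    rcases hL with ⟨a', h1, h2⟩ | ⟨c', h1, h2⟩
    · exact case1 a' h1 h2
    · match c', h1, h2 with
      | [], h1, h2 =>
        exact case1 [] (by simpa using h1.symm) (by simpa using h2.symm)
      | c :: c'', h1, h2 =>
        exfalso
        have hc : c = s₀ := by
          have := congrArg List.head? h2
          simp at this
          exact this.symm
        subst hc
        have hst' : s * t' = (L₁ ++ c'').prod := by
          rw [← hTp, h1, List.prod_append, List.prod_cons, List.prod_append]
          calc s * (L₁.prod * (c * c''.prod)) = (s * L₁.prod) * (c * c''.prod) := by group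
            _ = L₁.prod * c * (c * c''.prod) := by rw [he]
            _ = L₁.prod * ((c * c) * c''.prod) := by group
            _ = L₁.prod * c''.prod := by rw [hS c hs0, one_mul]
        have hle : len S (s * t') ≤ (L₁ ++ c'').length := by
          rw [hst']
          apply len_le_of_word
          rw [h1, isWord_append, isWord_cons] at hT
          exact isWord_append.mpr ⟨hT.1, hT.2.2⟩
        have hTlen : T.length = (L₁ ++ c'').length + 1 := by
          rw [h1]; simp only [List.length_append, List.length_cons]; omega
        rw [← htt, ht] at hle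
        omega

/-- an element all of whose left descents are present is unique -/
theorem all_descents_unique {w w' : W} (hw : ∀ s ∈ S, len S (s * w) < len S w)
    (hw' : ∀ s ∈ S, len S (s * w') < len S w') : w = w' := by
  have h1 := len_eq_add_of_all_descents hS hgen hne hE hw _ w' rfl
  have h2 := len_eq_add_of_all_descents hS hgen hne hE hw' _ w rfl
  have h3 : len S (w⁻¹ * w') = 0 := by omega
  rw [len_eq_zero_iff hS hgen] at h3
  exact (inv_mul_eq_one.mp h3)

omit hE in
/-- existence of an element with all left and right descents in a finite group -/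
theorem exists_all_descents [Finite W] :
    ∃ w : W, (∀ s ∈ S, len S (s * w) < len S w) ∧ (∀ s ∈ S, len S (w * s) < len S w) := by
  obtain ⟨w, hw⟩ := Finite.exists_max (fun w : W => len S w)
  refine ⟨w, fun s hs => ?_, fun s hs => ?_⟩
  · have h1 := hw (s * w)
    have h2 := hne s hs w
    omega
  · have h1 := hw (w * s)
    have h2 := len_mul_right_ne hS hgen hne hs w
    omega

end

end Cfsg.Agent.Lib.Helper6.CoxRed
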