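/-
helper6: (B,N)-pairs, group-level facts about parabolic double cosets: the cell function, the effect
of multiplying by elements of parabolic subgroups on cells, lifting from `W_J`, the double coset
criterion, multiplication of cells with additive lengths, and stabilizers `B ∩ n P_K n⁻¹` for right
`K`-reduced `n`.
-/
import Mathlib
import Cfsg.Agent.Lib.Helper3.BNParabolic
import Cfsg.Agent.Lib.Helper7.BNCount
import Cfsg.Agent.Lib.Helper6.CoxRedB

set_option autoImplicit false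
set_option linter.unusedSectionVars false

namespace Cfsg.Agent.Lib.Helper6.BNSt

open Cfsg Cfsg.Agent.Lib.Helper3.BN Cfsg.Agent.Lib.Helper3.WordLen Cfsg.Agent.Lib.Helper6.CoxRed

variable {G : Type*} [Group G] (P : Cfsg.BNPair G)

local notation "ℓ" => len (Sbar P)

/-- the Weyl group element of the cell containing `g` -/
noncomputable def cellOf (g : G) : W P := Classical.choose (exists_C P g)

theorem mem_C_cellOf (g : G) : g ∈ C P (cellOf P g) := Classical.choose_spec (exists_C P g)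

theorem cellOf_eq {g : G} {w : W P} (h : g ∈ C P w) : cellOf P g = w :=
  eq_of_common P (mem_C_cellOf P g) h

/-- the subgroup `W_J` of the Weyl group -/
abbrev WJ (J : Set G) : Subgroup (W P) := Subgroup.closure (Jbar P J)

theorem parabolic_eq_closure (J : Set G) :
    P.parabolic J = Subgroup.closure ((P.B : Set G) ∪ J) := by
  unfold BNPair.parabolic
  rw [Subgroup.closure_union, Subgroup.closure_eq]

/-- left multiplication by an element of `P_J` moves a cell within `W_J w` -/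
theorem cell_mul_left {J : Set G} (hJ : J ⊆ P.S) {p : G} (hp : p ∈ P.parabolic J) :
    ∀ (w : W P) (g : G), g ∈ C P w → ∃ x ∈ WJ P J, p * g ∈ C P (x * w) := by
  rw [parabolic_eq_closure] at hp
  induction hp using Subgroup.closure_induction with
  | mem p hp =>
    intro w g hg
    rcases hp with hp | hp
    · exact ⟨1, Subgroup.one_mem _, by rw [one_mul]; exact C_mul_left P hg hp⟩
    · have hs : p ∈ P.S := hJ hp
      rcases W_axiom_left P hs hg with h | h
      · exact ⟨sb P p hs, Subgroup.subset_closure ⟨p, ⟨hp, hs⟩, rfl⟩, h⟩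
      · exact ⟨1, Subgroup.one_mem _, by rw [one_mul]; exact h⟩
  | one =>
    intro w g hg
    exact ⟨1, Subgroup.one_mem _, by rw [one_mul, one_mul]; exact hg⟩
  | mul p p' _ _ ihp ihp' =>
    intro w g hg
    obtain ⟨x', hx', h'⟩ := ihp' w g hg
    obtain ⟨x, hx, h⟩ := ihp _ _ h'
    exact ⟨x * x', Subgroup.mul_mem _ hx hx', by rw [mul_assoc, mul_assoc]; exact h⟩
  | inv p _ ihp =>
    intro w g hg
    obtain ⟨x, hx, h⟩ := ihp (cellOf P (p⁻¹ * g)) (p⁻¹ * g) (mem_C_cellOf P _)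
    rw [mul_inv_cancel_left] at h
    have hw : w = x * cellOf P (p⁻¹ * g) := eq_of_common P hg h
    refine ⟨x⁻¹, Subgroup.inv_mem _ hx, ?_⟩
    rw [hw, inv_mul_cancel_left]
    exact mem_C_cellOf P _

/-- right multiplication by an element of `P_K` moves a cell within `w W_K` -/
theorem cell_mul_right {K : Set G} (hK : K ⊆ P.S) {p : G} (hp : p ∈ P.parabolic K)
    (w : W P) (g : G) (hg : g ∈ C P w) : ∃ y ∈ WJ P K, g * p ∈ C P (w * y) := by
  obtain ⟨x, hx, h⟩ := cell_mul_left P hK (Subgroup.inv_mem _ hp) w⁻¹ g⁻¹ (C_inv P hg)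
  refine ⟨x⁻¹, Subgroup.inv_mem _ hx, ?_⟩
  have := C_inv P h
  have e1 : (p⁻¹ * g⁻¹)⁻¹ = g * p := by group
  have e2 : (x * w⁻¹)⁻¹ = w * x⁻¹ := by group
  rwa [e1, e2] at this

/-- lifting elements of `W_J` to the subgroup generated by `J` -/
theorem exists_lift {J : Set G} (hJ : J ⊆ P.S) {x : W P} (hx : x ∈ WJ P J) :
    ∃ n, ∃ hn : n ∈ Subgroup.closure J, mkW P n (closure_le_N P hJ hn) = x := by
  induction hx using Subgroup.closure_induction with
  | mem x hx =>
    obtain ⟨s, hs, rfl⟩ := hx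
    exact ⟨s, Subgroup.subset_closure hs.1, rfl⟩
  | one => exact ⟨1, Subgroup.one_mem _, rfl⟩
  | mul x y _ _ ihx ihy =>
    obtain ⟨n, hn, rfl⟩ := ihx
    obtain ⟨n', hn', rfl⟩ := ihy
    exact ⟨n * n', Subgroup.mul_mem _ hn hn', rfl⟩
  | inv x _ ihx =>
    obtain ⟨n, hn, rfl⟩ := ihx
    exact ⟨n⁻¹, Subgroup.inv_mem _ hn, rfl⟩

theorem closure_le_parabolic (J : Set G) : Subgroup.closure J ≤ P.parabolic J := le_sup_right

theorem B_le_parabolic (J : Set G) : P.B ≤ P.parabolic J := le_sup_left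

/-- the double coset criterion -/
theorem dc_iff {J K : Set G} (hJ : J ⊆ P.S) (hK : K ⊆ P.S) (g g' : G) :
    (∃ p ∈ P.parabolic J, ∃ p' ∈ P.parabolic K, g' = p * g * p') ↔
      InDC (Jbar P J) (Jbar P K) (cellOf P g) (cellOf P g') := by
  constructor
  · rintro ⟨p, hp, p', hp', rfl⟩
    obtain ⟨x, hx, h1⟩ := cell_mul_left P hJ hp _ g (mem_C_cellOf P g)
    obtain ⟨y, hy, h2⟩ := cell_mul_right P hK hp' _ _ h1
    exact ⟨x, hx, y, hy, cellOf_eq P h2⟩
  · rintro ⟨x, hx, y, hy, he⟩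
    obtain ⟨nx, hnx, rfl⟩ := exists_lift P hJ hx
    obtain ⟨ny, hny, rfl⟩ := exists_lift P hK hy
    obtain ⟨n, hn, hnw⟩ := mkW_surj P (cellOf P g)
    have hg := mem_C_cellOf P g
    rw [← hnw, C_mk, mem_dc] at hg
    obtain ⟨b1, hb1, b2, hb2, hge⟩ := hg
    have hg' := mem_C_cellOf P g'
    rw [he, ← hnw, ← mkW_mul, ← mkW_mul, C_mk, mem_dc] at hg'
    obtain ⟨b3, hb3, b4, hb4, hge'⟩ := hg'
    refine ⟨b3 * nx * b1⁻¹, ?_, b2⁻¹ * ny * b4, ?_, ?_⟩
    · exact Subgroup.mul_mem _ (Subgroup.mul_mem _ (B_le_parabolic P J hb3)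
        (closure_le_parabolic P J hnx)) (B_le_parabolic P J (P.B.inv_mem hb1))
    · exact Subgroup.mul_mem _ (Subgroup.mul_mem _ (B_le_parabolic P K (P.B.inv_mem hb2))
        (closure_le_parabolic P K hny)) (B_le_parabolic P K hb4)
    · rw [hge', hge]; group

/-- cells multiply when lengths add -/
theorem C_mul_C_of_len_add : ∀ (k : ℕ) (w y : W P), ℓ w = k → ℓ (w * y) = ℓ w + ℓ y →
    ∀ a ∈ C P w, ∀ b ∈ C P y, a * b ∈ C P (w * y) := by
  have hS := Sbar_sq P
  have hgen := Sbar_closure P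
  intro k
  induction k with
  | zero =>
    intro w y hw _ a ha b hb
    rw [len_eq_zero_iff hS hgen] at hw
    subst hw
    rw [C_one] at ha
    rw [one_mul]
    exact C_mul_left P hb ha
  | succ k ih =>
    intro w y hw hadd a ha b hb
    obtain ⟨t, ht, hlen⟩ := exists_cons hS hgen hw
    obtain ⟨s, hs, rfl⟩ := exists_sb_of_mem P ht
    set w' := sb P s hs * w with hw'
    have hww : w = sb P s hs * w' := by rw [hw', sb_mul_cancel]
    rw [hww] at ha
    obtain ⟨a₁, ha₁, a₂, ha₂, rfl⟩ := Cfsg.Agent.Lib.Helper7.exists_mul_of_mem_C P hs w' ha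
    -- lengths
    have h1 : ℓ (w' * y) ≤ ℓ w' + ℓ y := len_mul_le_add hS hgen w' y
    have h2 : ℓ (w * y) ≤ ℓ (w' * y) + 1 := by
      have := len_mul_le hS hgen (sb_mem P hs) (w' * y)
      rwa [← mul_assoc, ← hww] at this
    have h3 : ℓ (w' * y) = ℓ w' + ℓ y := by omega
    have h4 := ih w' y hlen h3 a₂ ha₂ b hb
    have h5 : ℓ (w' * y) ≤ ℓ (sb P s hs * (w' * y)) := by
      rw [← mul_assoc, ← hww]; omega
    have h6 := Cfsg.Agent.Lib.Helper7.C_mul_C P hs h5 ha₁ h4
    rw [← mul_assoc, ← hww] at h6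
    rw [mul_assoc]
    exact h6

theorem Jbar_empty : Jbar P (∅ : Set G) = ∅ := by
  ext w
  constructor
  · rintro ⟨s, hs, _⟩
    exact hs.1.elim
  · intro h; exact h.elim

/-- if `n` represents a right `K`-reduced element and `b ∈ B` has `n⁻¹ b n ∈ P_K` then
`n⁻¹ b n ∈ B` -/
theorem conj_mem_B_of_isRed {K : Set G} (hK : K ⊆ P.S) {n : G} (hn : n ∈ P.N)
    (hred : IsRed (Sbar P) ∅ (Jbar P K) (mkW P n hn)) {b : G} (hb : b ∈ P.B)
    (h : n⁻¹ * b * n ∈ P.parabolic K) : n⁻¹ * b * n ∈ P.B := by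
  have hS := Sbar_sq P
  have hgen := Sbar_closure P
  set p := n⁻¹ * b * n with hp
  have hy : cellOf P p ∈ WJ P K := mem_closure_Jbar_of_mem P hK h (mem_C_cellOf P p)
  have hadd := len_mul_of_isRed hS hgen (Sbar_len_ne P) (Sbar_exch P) (Jbar_sub P K) hred hy
  have h1 : n * p ∈ C P (mkW P n hn * cellOf P p) :=
    C_mul_C_of_len_add P _ _ _ rfl hadd n (self_mem_C P hn) p (mem_C_cellOf P p)
  have h2 : n * p = b * n := by rw [hp]; group
  rw [h2] at h1
  have h3 : b * n ∈ C P (mkW P n hn) := C_mul_left P (self_mem_C P hn) hb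
  have h4 := eq_of_common P h1 h3
  have h5 : cellOf P p = 1 := mul_eq_left.mp h4
  have := mem_C_cellOf P p
  rw [h5, C_one] at this
  exact this

end Cfsg.Agent.Lib.Helper6.BNSt
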