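/-
helper6: (B,N)-pairs in finite groups: orbits of `G` on `G/P_J × G/P_K` are counted by the
`(J,K)`-reduced elements of the Weyl group.
-/
import Mathlib
import Cfsg.Agent.Lib.Helper6.BNRedA

set_option autoImplicit false
set_option linter.unusedSectionVars false

namespace Cfsg.Agent.Lib.Helper6.BNSt

open Cfsg Cfsg.Agent.Lib.Helper3.BN Cfsg.Agent.Lib.Helper3.WordLen Cfsg.Agent.Lib.Helper6.CoxRed

/-- Burnside's lemma with a complete invariant -/
theorem sum_card_fixedBy_eq_of_invariant {G X R : Type*} [Group G] [Fintype G] [MulAction G X]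
    [Finite X] [Fintype R] (Φ : X → R) (hinv : ∀ (g : G) (x : X), Φ (g • x) = Φ x)
    (hsep : ∀ x y, Φ x = Φ y → ∃ g : G, g • x = y) (hsurj : Function.Surjective Φ) :
    ∑ g : G, Nat.card (MulAction.fixedBy X g) = Fintype.card R * Fintype.card G := by
  classical
  have : Fintype X := Fintype.ofFinite X
  have : Fintype (Quotient (MulAction.orbitRel G X)) := Fintype.ofFinite _
  have hB := MulAction.sum_card_fixedBy_eq_card_orbits_mul_card_group G X
  have hcard : Fintype.card (Quotient (MulAction.orbitRel G X)) = Fintype.card R := by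
    apply Fintype.card_congr
    refine Equiv.ofBijective (Quotient.lift Φ ?_) ⟨?_, ?_⟩
    · intro x y hxy
      obtain ⟨g, rfl⟩ := (MulAction.orbitRel_apply).mp hxy
      exact hinv g y
    · intro a b
      induction a using Quotient.inductionOn with
      | h x =>
        induction b using Quotient.inductionOn with
        | h y =>
          intro h
          obtain ⟨g, hg⟩ := hsep x y h
          apply Quotient.sound
          apply (MulAction.orbitRel_apply).mpr
          exact ⟨g⁻¹, by rw [← hg]; exact inv_smul_smul g x⟩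
    · intro r
      obtain ⟨x, rfl⟩ := hsurj r
      exact ⟨Quotient.mk _ x, rfl⟩
  rw [← hcard, ← hB]
  apply Finset.sum_congr rfl
  intro g _
  rw [Nat.card_eq_fintype_card]

theorem card_fixedBy_prod {G X Y : Type*} [Group G] [MulAction G X] [MulAction G Y] (g : G) :
    Nat.card (MulAction.fixedBy (X × Y) g) =
      Nat.card (MulAction.fixedBy X g) * Nat.card (MulAction.fixedBy Y g) := by
  rw [← Nat.card_prod]
  apply Nat.card_congr
  exact
    { toFun := fun z => (⟨z.1.1, congrArg Prod.fst z.2⟩, ⟨z.1.2, congrArg Prod.snd z.2⟩)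
      invFun := fun z => ⟨(z.1.1, z.2.1), Prod.ext z.1.2 z.2.2⟩
      left_inv := fun z => rfl
      right_inv := fun z => rfl }

variable {G : Type*} [Group G] (P : Cfsg.BNPair G)

local notation "ℓ" => len (Sbar P)

section red

variable (J K : Set G)

theorem exists_red (w : W P) :
    ∃ d, IsRed (Sbar P) (Jbar P J) (Jbar P K) d ∧ InDC (Jbar P J) (Jbar P K) d w :=
  exists_isRed (Sbar_sq P) (Sbar_closure P) (Sbar_len_ne P) (Sbar_exch P) (Jbar_sub P J)
    (Jbar_sub P K) w

/-- the `(J,K)`-reduced element of the double coset of `w` -/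
noncomputable def redOf (w : W P) : W P := Classical.choose (exists_red P J K w)

theorem redOf_isRed (w : W P) : IsRed (Sbar P) (Jbar P J) (Jbar P K) (redOf P J K w) :=
  (Classical.choose_spec (exists_red P J K w)).1

theorem redOf_inDC (w : W P) : InDC (Jbar P J) (Jbar P K) (redOf P J K w) w :=
  (Classical.choose_spec (exists_red P J K w)).2

theorem eq_redOf {d w : W P} (hd : IsRed (Sbar P) (Jbar P J) (Jbar P K) d)
    (h : InDC (Jbar P J) (Jbar P K) d w) : d = redOf P J K w :=
  isRed_unique (Sbar_sq P) (Sbar_closure P) (Sbar_len_ne P) (Sbar_exch P) (Jbar_sub P J)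
    (Jbar_sub P K) (redOf_isRed P J K w) hd ((redOf_inDC P J K w).trans h.symm)

theorem redOf_eq_of_inDC {w w' : W P} (h : InDC (Jbar P J) (Jbar P K) w w') :
    redOf P J K w = redOf P J K w' :=
  eq_redOf P J K (redOf_isRed P J K w) ((redOf_inDC P J K w).trans h)

theorem inDC_of_redOf_eq {w w' : W P} (h : redOf P J K w = redOf P J K w') :
    InDC (Jbar P J) (Jbar P K) w w' := by
  have h1 := redOf_inDC P J K w
  have h2 := redOf_inDC P J K w'
  rw [← h] at h2
  exact h1.symm.trans h2

theorem redOf_self {d : W P} (hd : IsRed (Sbar P) (Jbar P J) (Jbar P K) d) : redOf P J K d = d :=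
  (eq_redOf P J K hd (InDC.refl _ _ d)).symm

end red

/-- a representative in `N` of an element of the Weyl group -/
noncomputable def repW (w : W P) : G := Classical.choose (mkW_surj P w)

theorem repW_mem (w : W P) : repW P w ∈ P.N := Classical.choose (Classical.choose_spec (mkW_surj P w))

theorem mkW_repW (w : W P) : mkW P (repW P w) (repW_mem P w) = w :=
  Classical.choose_spec (Classical.choose_spec (mkW_surj P w))

theorem cellOf_repW (w : W P) : cellOf P (repW P w) = w := by
  have := self_mem_C P (repW_mem P w)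
  rw [mkW_repW] at this
  exact cellOf_eq P this

/-- the set of `(J,K)`-reduced elements -/
abbrev Red (J K : Set G) : Type _ := {w : W P // IsRed (Sbar P) (Jbar P J) (Jbar P K) w}

section orbits

variable {J K : Set G} (hJ : J ⊆ P.S) (hK : K ⊆ P.S)

/-- the invariant of a pair of cosets -/
noncomputable def pairInv (J K : Set G) (z : (G ⧸ P.parabolic J) × (G ⧸ P.parabolic K)) : Red P J K :=
  ⟨redOf P J K (cellOf P (z.1.out⁻¹ * z.2.out)), redOf_isRed P J K _⟩

include hJ hK

theorem pairInv_mk (x y : G) :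
    (pairInv P J K ((x : G ⧸ P.parabolic J), (y : G ⧸ P.parabolic K)) : W P) =
      redOf P J K (cellOf P (x⁻¹ * y)) := by
  unfold pairInv
  simp only
  apply redOf_eq_of_inDC
  rw [← dc_iff P hJ hK]
  have h1 : (x⁻¹ * (x : G ⧸ P.parabolic J).out) ∈ P.parabolic J :=
    QuotientGroup.eq.mp (QuotientGroup.out_eq' _).symm
  have h2 : (y⁻¹ * (y : G ⧸ P.parabolic K).out) ∈ P.parabolic K :=
    QuotientGroup.eq.mp (QuotientGroup.out_eq' _).symm
  refine ⟨x⁻¹ * (x : G ⧸ P.parabolic J).out, h1,
    ((y : G ⧸ P.parabolic K).out)⁻¹ * y, ?_, ?_⟩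
  · have := Subgroup.inv_mem _ h2
    rwa [mul_inv_rev, inv_inv] at this
  · group

variable [Fintype G]

/-- orbit counting on `G/P_J × G/P_K` -/
theorem sum_card_fixedBy_mul [Fintype (Red P J K)] :
    ∑ g : G, Nat.card (MulAction.fixedBy (G ⧸ P.parabolic J) g) *
        Nat.card (MulAction.fixedBy (G ⧸ P.parabolic K) g) =
      Fintype.card (Red P J K) * Fintype.card G := by
  rw [← sum_card_fixedBy_eq_of_invariant (G := G)
    (X := (G ⧸ P.parabolic J) × (G ⧸ P.parabolic K)) (pairInv P J K)]
  · apply Finset.sum_congr rfl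
    intro g _
    rw [card_fixedBy_prod]
  · -- invariance
    rintro g ⟨q₁, q₂⟩
    obtain ⟨x, rfl⟩ := QuotientGroup.mk_surjective q₁
    obtain ⟨y, rfl⟩ := QuotientGroup.mk_surjective q₂
    apply Subtype.ext
    have : g • ((x : G ⧸ P.parabolic J), (y : G ⧸ P.parabolic K)) =
        (((g * x : G) : G ⧸ P.parabolic J), ((g * y : G) : G ⧸ P.parabolic K)) := rfl
    rw [this, pairInv_mk P hJ hK, pairInv_mk P hJ hK]
    congr 2
    group
  · -- separation
    rintro ⟨q₁, q₂⟩ ⟨q₁', q₂'⟩ h
    obtain ⟨x, rfl⟩ := QuotientGroup.mk_surjective q₁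
    obtain ⟨y, rfl⟩ := QuotientGroup.mk_surjective q₂
    obtain ⟨x', rfl⟩ := QuotientGroup.mk_surjective q₁'
    obtain ⟨y', rfl⟩ := QuotientGroup.mk_surjective q₂'
    have h' := congrArg Subtype.val h
    rw [pairInv_mk P hJ hK, pairInv_mk P hJ hK] at h'
    have h2 := inDC_of_redOf_eq P J K h'
    rw [← dc_iff P hJ hK] at h2
    obtain ⟨p, hp, p', hp', he⟩ := h2
    refine ⟨x' * p * x⁻¹, ?_⟩
    have : (x' * p * x⁻¹) • ((x : G ⧸ P.parabolic J), (y : G ⧸ P.parabolic K)) =
        (((x' * p * x⁻¹ * x : G) : G ⧸ P.parabolic J),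
          ((x' * p * x⁻¹ * y : G) : G ⧸ P.parabolic K)) := rfl
    rw [this]
    apply Prod.ext
    · simp only
      rw [QuotientGroup.eq]
      have : (x' * p * x⁻¹ * x)⁻¹ * x' = p⁻¹ := by group
      rw [this]
      exact Subgroup.inv_mem _ hp
    · simp only
      rw [QuotientGroup.eq]
      have : (x' * p * x⁻¹ * y)⁻¹ * y' = p' := by
        have : y' = x' * (p * (x⁻¹ * y) * p') := by rw [← he]; group
        rw [this]; group
      rw [this]
      exact hp'
  · -- surjectivity
    rintro ⟨d, hd⟩
    refine ⟨(((1 : G) : G ⧸ P.parabolic J), ((repW P d : G) : G ⧸ P.parabolic K)), ?_⟩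
    apply Subtype.ext
    rw [pairInv_mk P hJ hK]
    simp only [inv_one, one_mul]
    rw [cellOf_repW, redOf_self P J K hd]

end orbits

end Cfsg.Agent.Lib.Helper6.BNSt
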