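/-
helper6: (B,N)-pairs in finite groups: the `B`-orbits on `G/P_K` are indexed by the right `K`-reduced
elements `w` of the Weyl group, with stabilizers `B ∩ n_w B n_w⁻¹`; fixed point formula.
-/
import Mathlib
import Cfsg.Agent.Lib.Helper6.BNRedB
import Cfsg.Agent.Lib.Helper6.PermChar

set_option autoImplicit false
set_option linter.unusedSectionVars false

namespace Cfsg.Agent.Lib.Helper6.BNSt

open Cfsg Cfsg.Agent.Lib.Helper3.BN Cfsg.Agent.Lib.Helper3.WordLen Cfsg.Agent.Lib.Helper6.CoxRed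

theorem card_subtype_eq_sum_fiber {X R : Type*} [Finite X] [Fintype R] (f : X → R) (p : X → Prop) :
    Nat.card {y : X // p y} = ∑ r : R, Nat.card {y : X // f y = r ∧ p y} := by
  rw [← Nat.card_sigma]
  apply Nat.card_congr
  exact
    { toFun := fun y => ⟨f y.1, y.1, rfl, y.2⟩
      invFun := fun z => ⟨z.2.1, z.2.2.2⟩
      left_inv := fun y => rfl
      right_inv := by
        rintro ⟨r, y, hr, hp⟩
        subst hr
        rfl }

variable {G : Type*} [Group G] (P : Cfsg.BNPair G)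

local notation "ℓ" => len (Sbar P)

/-- the subgroup `{b ∈ B | n⁻¹ b n ∈ B}` of `B` -/
def BStab (n : G) : Subgroup P.B where
  carrier := {b | n⁻¹ * (b : G) * n ∈ P.B}
  mul_mem' := by
    intro a b ha hb
    have : n⁻¹ * ((a * b : P.B) : G) * n = (n⁻¹ * (a : G) * n) * (n⁻¹ * (b : G) * n) := by
      rw [Subgroup.coe_mul]; group
    show n⁻¹ * ((a * b : P.B) : G) * n ∈ P.B
    rw [this]
    exact P.B.mul_mem ha hb
  one_mem' := by
    show n⁻¹ * ((1 : P.B) : G) * n ∈ P.B
    rw [Subgroup.coe_one, mul_one, inv_mul_cancel]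
    exact P.B.one_mem
  inv_mem' := by
    intro a ha
    show n⁻¹ * ((a⁻¹ : P.B) : G) * n ∈ P.B
    have : n⁻¹ * ((a⁻¹ : P.B) : G) * n = (n⁻¹ * (a : G) * n)⁻¹ := by
      rw [Subgroup.coe_inv]; group
    rw [this]
    exact P.B.inv_mem ha

theorem mem_BStab {n : G} {b : P.B} : b ∈ BStab P n ↔ n⁻¹ * (b : G) * n ∈ P.B := Iff.rfl

theorem parabolic_empty : P.parabolic (∅ : Set G) = P.B := by
  unfold BNPair.parabolic
  rw [Subgroup.closure_empty, sup_bot_eq]

section

variable {K : Set G} (hK : K ⊆ P.S)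

/-- the invariant of a coset: the right `K`-reduced element of its `B`-orbit -/
noncomputable def cosetInv (K : Set G) (q : G ⧸ P.parabolic K) : Red P ∅ K :=
  ⟨redOf P ∅ K (cellOf P q.out), redOf_isRed P ∅ K _⟩

include hK

theorem cosetInv_mk (x : G) :
    (cosetInv P K (x : G ⧸ P.parabolic K) : W P) = redOf P ∅ K (cellOf P x) := by
  unfold cosetInv
  simp only
  apply redOf_eq_of_inDC
  rw [← dc_iff P (Set.empty_subset _) hK]
  have h2 : (x⁻¹ * (x : G ⧸ P.parabolic K).out) ∈ P.parabolic K :=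
    QuotientGroup.eq.mp (QuotientGroup.out_eq' _).symm
  refine ⟨1, Subgroup.one_mem _, ((x : G ⧸ P.parabolic K).out)⁻¹ * x, ?_, ?_⟩
  · have := Subgroup.inv_mem _ h2
    rwa [mul_inv_rev, inv_inv] at this
  · group

/-- the fibre of the invariant over `w` is the `B`-orbit of `n_w P_K` -/
theorem cosetInv_eq_iff (w : Red P ∅ K) (y : G ⧸ P.parabolic K) :
    cosetInv P K y = w ↔
      y ∈ MulAction.orbit P.B ((repW P w.1 : G) : G ⧸ P.parabolic K) := by
  obtain ⟨x, rfl⟩ := QuotientGroup.mk_surjective y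
  constructor
  · intro h
    have h1 : redOf P ∅ K (cellOf P x) = redOf P ∅ K (cellOf P (repW P w.1)) := by
      rw [← cosetInv_mk P hK, h, cellOf_repW, redOf_self P ∅ K w.2]
    have h2 := inDC_of_redOf_eq P ∅ K h1
    rw [← dc_iff P (Set.empty_subset _) hK] at h2
    obtain ⟨p, hp, p', hp', he⟩ := h2
    rw [parabolic_empty] at hp
    -- `repW = p x p'`, so `mk x = p⁻¹ • mk repW`
    refine ⟨⟨p⁻¹, P.B.inv_mem hp⟩, ?_⟩
    show ((p⁻¹ * repW P w.1 : G) : G ⧸ P.parabolic K) = (x : G ⧸ P.parabolic K)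
    rw [QuotientGroup.eq]
    have : (p⁻¹ * repW P w.1)⁻¹ * x = p'⁻¹ := by rw [he]; group
    rw [this]
    exact Subgroup.inv_mem _ hp'
  · rintro ⟨b, hb⟩
    have hb' : ((b : G) * repW P w.1 : G ⧸ P.parabolic K) = (x : G ⧸ P.parabolic K) := hb
    apply Subtype.ext
    rw [← hb', cosetInv_mk P hK]
    have : cellOf P ((b : G) * repW P w.1) = w.1 := by
      apply cellOf_eq
      have := self_mem_C P (repW_mem P w.1)
      rw [mkW_repW] at this
      exact C_mul_left P this b.2
    rw [this, redOf_self P ∅ K w.2]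

/-- the stabilizer in `B` of `n_w P_K` for right `K`-reduced `w` -/
theorem stabilizer_eq_BStab (w : Red P ∅ K) :
    MulAction.stabilizer P.B ((repW P w.1 : G) : G ⧸ P.parabolic K) = BStab P (repW P w.1) := by
  ext b
  rw [MulAction.mem_stabilizer_iff, mem_BStab]
  have h0 : b • ((repW P w.1 : G) : G ⧸ P.parabolic K) =
      (((b : G) * repW P w.1 : G) : G ⧸ P.parabolic K) := rfl
  rw [h0, QuotientGroup.eq]
  have e : ((b : G) * repW P w.1)⁻¹ * repW P w.1 = ((repW P w.1)⁻¹ * (b : G) * repW P w.1)⁻¹ := by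
    group
  rw [e, Subgroup.inv_mem_iff]
  constructor
  · intro h
    have hred : IsRed (Sbar P) ∅ (Jbar P K) (mkW P (repW P w.1) (repW_mem P w.1)) := by
      rw [mkW_repW]
      have h3 : IsRed (Sbar P) (Jbar P ∅) (Jbar P K) w.1 := w.2
      have h4 : ∀ A : Set (W P), A = ∅ → IsRed (Sbar P) A (Jbar P K) w.1 →
          IsRed (Sbar P) ∅ (Jbar P K) w.1 := by
        intro A hA h; subst hA; exact h
      exact h4 _ (Jbar_empty P) h3
    exact conj_mem_B_of_isRed P hK (repW_mem P w.1) hred b.2 h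
  · intro h
    exact B_le_parabolic P K h

/-- fixed points of `b ∈ B` on `G/P_K` -/
theorem card_fixedBy_eq_sum [Finite G] [Fintype (Red P ∅ K)] (b : P.B) :
    Nat.card (MulAction.fixedBy (G ⧸ P.parabolic K) (b : G)) =
      ∑ w : Red P ∅ K, Nat.card (MulAction.fixedBy (P.B ⧸ BStab P (repW P w.1)) b) := by
  have h1 : Nat.card (MulAction.fixedBy (G ⧸ P.parabolic K) (b : G)) =
      Nat.card {y : G ⧸ P.parabolic K // b • y = y} := rfl
  rw [h1, card_subtype_eq_sum_fiber (cosetInv P K)]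
  apply Finset.sum_congr rfl
  intro w _
  have h2 : Nat.card {y : G ⧸ P.parabolic K // cosetInv P K y = w ∧ b • y = y} =
      Nat.card {y : G ⧸ P.parabolic K //
        y ∈ MulAction.orbit P.B ((repW P w.1 : G) : G ⧸ P.parabolic K) ∧ b • y = y} := by
    apply Nat.card_congr
    apply Equiv.subtypeEquivRight
    intro y
    rw [cosetInv_eq_iff P hK]
  rw [h2, card_fixed_orbit, stabilizer_eq_BStab P hK]
  rfl

end

end Cfsg.Agent.Lib.Helper6.BNSt
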