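/-
helper6: the Steinberg character of a finite group with a (B,N)-pair: the alternating sum of the
permutation characters on the standard parabolic subgroups.  Combinatorial part: ascent sets,
the longest element, and the inclusion-exclusion identities.
-/
import Mathlib
import Cfsg.Agent.Lib.Helper6.BNRedC

set_option autoImplicit false
set_option linter.unusedSectionVars false

namespace Cfsg.Agent.Lib.Helper6.BNSt

open Cfsg Cfsg.Agent.Lib.Helper3.BN Cfsg.Agent.Lib.Helper3.WordLen Cfsg.Agent.Lib.Helper6.CoxRed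

/-- inclusion-exclusion: `∑_{J ⊆ T} (-1)^|J| [J ⊆ A] = [A = ∅]` for `A ⊆ T` -/
theorem sum_powerset_indicator {α : Type*} [DecidableEq α] (T A : Finset α) (hA : A ⊆ T) :
    ∑ J ∈ T.powerset, (-1 : ℤ) ^ J.card * (if J ⊆ A then 1 else 0) = if A = ∅ then 1 else 0 := by
  rw [← Finset.sum_powerset_neg_one_pow_card (x := A)]
  have h1 : A.powerset = T.powerset.filter (fun J => J ⊆ A) := by
    ext J
    simp only [Finset.mem_powerset, Finset.mem_filter]
    exact ⟨fun h => ⟨h.trans hA, h⟩, fun h => h.2⟩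
  rw [h1, Finset.sum_filter]
  apply Finset.sum_congr rfl
  intro J _
  split_ifs <;> simp

variable {G : Type*} [Group G] (P : Cfsg.BNPair G)

local notation "ℓ" => len (Sbar P)

open Classical in
/-- the left ascent set of `w`, inside a finite set `Sfin` of generators -/
noncomputable def AL (Sfin : Finset G) (w : W P) : Finset G :=
  Sfin.filter (fun s => ∃ hs : s ∈ P.S, ℓ w < ℓ (sb P s hs * w))

open Classical in
/-- the right ascent set of `w` -/
noncomputable def AR (Sfin : Finset G) (w : W P) : Finset G :=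
  Sfin.filter (fun s => ∃ hs : s ∈ P.S, ℓ w < ℓ (w * sb P s hs))

variable (Sfin : Finset G) (hSfin : (Sfin : Set G) = P.S)

theorem AL_subset (w : W P) : AL P Sfin w ⊆ Sfin := by
  classical
  unfold AL
  exact Finset.filter_subset _ _

theorem AR_subset (w : W P) : AR P Sfin w ⊆ Sfin := by
  classical
  unfold AR
  exact Finset.filter_subset _ _

include hSfin

theorem mem_S_of_mem {s : G} (hs : s ∈ Sfin) : s ∈ P.S := by
  rw [← hSfin]; exact hs

theorem mem_Sfin_of_mem {s : G} (hs : s ∈ P.S) : s ∈ Sfin := by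
  have : s ∈ (Sfin : Set G) := by rw [hSfin]; exact hs
  exact this

theorem mem_AL {w : W P} {s : G} (hs : s ∈ P.S) : s ∈ AL P Sfin w ↔ ℓ w < ℓ (sb P s hs * w) := by
  classical
  unfold AL
  rw [Finset.mem_filter]
  constructor
  · rintro ⟨_, _, h⟩; exact h
  · intro h; exact ⟨mem_Sfin_of_mem P Sfin hSfin hs, hs, h⟩

theorem mem_AR {w : W P} {s : G} (hs : s ∈ P.S) : s ∈ AR P Sfin w ↔ ℓ w < ℓ (w * sb P s hs) := by
  classical
  unfold AR
  rw [Finset.mem_filter]
  constructor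
  · rintro ⟨_, _, h⟩; exact h
  · intro h; exact ⟨mem_Sfin_of_mem P Sfin hSfin hs, hs, h⟩

/-- reducedness in terms of ascent sets -/
theorem isRed_iff {J K : Set G} (hJ : J ⊆ P.S) (hK : K ⊆ P.S) (w : W P) :
    IsRed (Sbar P) (Jbar P J) (Jbar P K) w ↔
      (∀ s ∈ J, s ∈ AL P Sfin w) ∧ (∀ s ∈ K, s ∈ AR P Sfin w) := by
  constructor
  · rintro ⟨h1, h2⟩
    refine ⟨fun s hs => ?_, fun s hs => ?_⟩
    · rw [mem_AL P Sfin hSfin (hJ hs)]
      exact h1 _ ⟨s, ⟨hs, hJ hs⟩, rfl⟩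
    · rw [mem_AR P Sfin hSfin (hK hs)]
      exact h2 _ ⟨s, ⟨hs, hK hs⟩, rfl⟩
  · rintro ⟨h1, h2⟩
    refine ⟨?_, ?_⟩
    · rintro _ ⟨s, hs, rfl⟩
      exact (mem_AL P Sfin hSfin hs.2).mp (h1 s hs.1)
    · rintro _ ⟨s, hs, rfl⟩
      exact (mem_AR P Sfin hSfin hs.2).mp (h2 s hs.1)

theorem AL_eq_empty_iff (w : W P) :
    AL P Sfin w = ∅ ↔ ∀ s ∈ Sbar P, ℓ (s * w) < ℓ w := by
  rw [Finset.eq_empty_iff_forall_notMem]
  constructor
  · rintro h _ ⟨s, hs, rfl⟩
    have h1 := h s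
    rw [mem_AL P Sfin hSfin hs] at h1
    have h2 := len_ne P hs (w := w)
    show ℓ (sb P s hs * w) < ℓ w
    omega
  · intro h s hs
    have hsS : s ∈ P.S := mem_S_of_mem P Sfin hSfin (AL_subset P Sfin w hs)
    rw [mem_AL P Sfin hSfin hsS] at hs
    have := h _ (sb_mem P hsS)
    omega

theorem AR_eq_empty_iff (w : W P) :
    AR P Sfin w = ∅ ↔ ∀ s ∈ Sbar P, ℓ (w * s) < ℓ w := by
  rw [Finset.eq_empty_iff_forall_notMem]
  constructor
  · rintro h _ ⟨s, hs, rfl⟩
    have h1 := h s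
    rw [mem_AR P Sfin hSfin hs] at h1
    have h2 := len_mul_right_ne (Sbar_sq P) (Sbar_closure P) (Sbar_len_ne P) (sb_mem P hs) w
    show ℓ (w * sb P s hs) < ℓ w
    omega
  · intro h s hs
    have hsS : s ∈ P.S := mem_S_of_mem P Sfin hSfin (AR_subset P Sfin w hs)
    rw [mem_AR P Sfin hSfin hsS] at hs
    have := h _ (sb_mem P hsS)
    omega

omit hSfin in
/-- the longest element of the Weyl group -/
theorem exists_w0 [Finite G] :
    ∃ w : W P, (∀ s ∈ Sbar P, ℓ (s * w) < ℓ w) ∧ (∀ s ∈ Sbar P, ℓ (w * s) < ℓ w) :=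
  exists_all_descents (Sbar_sq P) (Sbar_closure P) (Sbar_len_ne P)

/-- the longest element of the Weyl group -/
noncomputable def w0 [Finite G] : W P := Classical.choose (exists_w0 P)

omit hSfin in
theorem w0_left [Finite G] : ∀ s ∈ Sbar P, ℓ (s * w0 P) < ℓ (w0 P) :=
  (Classical.choose_spec (exists_w0 P)).1

omit hSfin in
theorem w0_right [Finite G] : ∀ s ∈ Sbar P, ℓ (w0 P * s) < ℓ (w0 P) :=
  (Classical.choose_spec (exists_w0 P)).2

omit hSfin in
theorem eq_w0_of_left [Finite G] {w : W P} (h : ∀ s ∈ Sbar P, ℓ (s * w) < ℓ w) : w = w0 P :=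
  all_descents_unique (Sbar_sq P) (Sbar_closure P) (Sbar_len_ne P) (Sbar_exch P) h (w0_left P)

omit hSfin in
theorem inv_all_left_of_right {w : W P} (h : ∀ s ∈ Sbar P, ℓ (w * s) < ℓ w) :
    ∀ s ∈ Sbar P, ℓ (s * w⁻¹) < ℓ w⁻¹ := by
  intro s hs
  have h1 := h s hs
  have e : s * w⁻¹ = (w * s)⁻¹ := by rw [mul_inv_rev, inv_of_mem (Sbar_sq P) hs]
  rw [e, len_inv (Sbar_sq P) (Sbar_closure P), len_inv (Sbar_sq P) (Sbar_closure P)]
  exact h1

omit hSfin in
theorem w0_inv [Finite G] : (w0 P)⁻¹ = w0 P :=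
  eq_w0_of_left P (inv_all_left_of_right P (w0_right P))

omit hSfin in
theorem eq_w0_of_right [Finite G] {w : W P} (h : ∀ s ∈ Sbar P, ℓ (w * s) < ℓ w) : w = w0 P := by
  have := eq_w0_of_left P (inv_all_left_of_right P h)
  rw [← inv_inv w, this, w0_inv]

theorem AR_eq_empty_iff_eq [Finite G] (w : W P) : AR P Sfin w = ∅ ↔ w = w0 P := by
  rw [AR_eq_empty_iff P Sfin hSfin]
  constructor
  · exact eq_w0_of_right P
  · rintro rfl; exact w0_right P

theorem AL_eq_empty_iff_eq [Finite G] (w : W P) : AL P Sfin w = ∅ ↔ w = w0 P := by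
  rw [AL_eq_empty_iff P Sfin hSfin]
  constructor
  · exact eq_w0_of_left P
  · rintro rfl; exact w0_left P

/-- the number of `(J,K)`-reduced elements via ascent sets -/
theorem card_red_eq [Finite G] [Fintype (W P)] [DecidableEq G] (J K : Finset G) (hJ : J ⊆ Sfin)
    (hK : K ⊆ Sfin) :
    (Nat.card (Red P (J : Set G) (K : Set G)) : ℤ) =
      ∑ w : W P, (if J ⊆ AL P Sfin w then 1 else 0) * (if K ⊆ AR P Sfin w then 1 else 0) := by
  classical
  have hJ' : (J : Set G) ⊆ P.S := by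
    intro s hs; exact mem_S_of_mem P Sfin hSfin (hJ hs)
  have hK' : (K : Set G) ⊆ P.S := by
    intro s hs; exact mem_S_of_mem P Sfin hSfin (hK hs)
  have h1 : Nat.card (Red P (J : Set G) (K : Set G)) =
      Nat.card {w : W P // J ⊆ AL P Sfin w ∧ K ⊆ AR P Sfin w} := by
    apply Nat.card_congr
    apply Equiv.subtypeEquivRight
    intro w
    rw [isRed_iff P Sfin hSfin hJ' hK']
    rfl
  rw [h1, Nat.card_eq_fintype_card, Fintype.card_subtype, Finset.card_filter]
  push_cast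
  apply Finset.sum_congr rfl
  intro w _
  by_cases h1 : J ⊆ AL P Sfin w <;> by_cases h2 : K ⊆ AR P Sfin w <;> simp [h1, h2]

/-- Solomon's identity in the form needed: `∑_{J,K} (-1)^{|J|+|K|} #Red(J,K) = 1` -/
theorem sum_card_red [Finite G] [DecidableEq G] :
    ∑ J ∈ Sfin.powerset, ∑ K ∈ Sfin.powerset,
      (-1 : ℤ) ^ J.card * (-1 : ℤ) ^ K.card * (Nat.card (Red P (J : Set G) (K : Set G)) : ℤ) = 1 := by
  classical
  have : Fintype (W P) := Fintype.ofFinite _
  have h1 : ∀ J ∈ Sfin.powerset, ∀ K ∈ Sfin.powerset,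
      (-1 : ℤ) ^ J.card * (-1 : ℤ) ^ K.card * (Nat.card (Red P (J : Set G) (K : Set G)) : ℤ) =
      ∑ w : W P, ((-1 : ℤ) ^ J.card * (if J ⊆ AL P Sfin w then 1 else 0)) *
        ((-1 : ℤ) ^ K.card * (if K ⊆ AR P Sfin w then 1 else 0)) := by
    intro J hJ K hK
    rw [card_red_eq P Sfin hSfin J K (Finset.mem_powerset.mp hJ) (Finset.mem_powerset.mp hK),
      Finset.mul_sum]
    apply Finset.sum_congr rfl
    intro w _
    ring
  rw [Finset.sum_congr rfl (fun J hJ => Finset.sum_congr rfl (fun K hK => h1 J hJ K hK))]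
  -- exchange the sums
  have h2 : ∀ J ∈ Sfin.powerset, (∑ K ∈ Sfin.powerset, ∑ w : W P,
      ((-1 : ℤ) ^ J.card * (if J ⊆ AL P Sfin w then 1 else 0)) *
        ((-1 : ℤ) ^ K.card * (if K ⊆ AR P Sfin w then 1 else 0))) =
      ∑ w : W P, ((-1 : ℤ) ^ J.card * (if J ⊆ AL P Sfin w then 1 else 0)) *
        (if AR P Sfin w = ∅ then 1 else 0) := by
    intro J _
    rw [Finset.sum_comm]
    apply Finset.sum_congr rfl
    intro w _
    rw [← Finset.mul_sum, sum_powerset_indicator Sfin _ (AR_subset P Sfin w)]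
  rw [Finset.sum_congr rfl h2, Finset.sum_comm]
  have h3 : ∀ w : W P, (∑ J ∈ Sfin.powerset,
      ((-1 : ℤ) ^ J.card * (if J ⊆ AL P Sfin w then 1 else 0)) *
        (if AR P Sfin w = ∅ then 1 else 0)) =
      (if w = w0 P then 1 else 0) := by
    intro w
    rw [← Finset.sum_mul, sum_powerset_indicator Sfin _ (AL_subset P Sfin w)]
    by_cases h : w = w0 P
    · rw [if_pos ((AL_eq_empty_iff_eq P Sfin hSfin w).mpr h),
        if_pos ((AR_eq_empty_iff_eq P Sfin hSfin w).mpr h), if_pos h, one_mul]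
    · rw [if_neg (fun h' => h ((AL_eq_empty_iff_eq P Sfin hSfin w).mp h')), if_neg h, zero_mul]
  rw [Finset.sum_congr rfl (fun w _ => h3 w)]
  simp

end Cfsg.Agent.Lib.Helper6.BNSt
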