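/-
helper6: the Steinberg character of a finite group with a (B,N)-pair: the alternating sum of the
permutation characters on the standard parabolic subgroups has norm one, restricts to `B` as the
permutation character on `B/(B ∩ n₀ B n₀⁻¹)` (`n₀` representing the longest element), and is an
irreducible character.
-/
import Mathlib
import Cfsg.Prelude.Def_ParabolicCharacters
import Cfsg.Agent.Lib.Helper6.BNStA
import Cfsg.Agent.Lib.Helper6.IndFun
import Cfsg.Agent.Lib.Lead.CharInd
import Cfsg.Agent.Lib.Lead.CharDecomp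
import Cfsg.Agent.Lib.Lead.CharOrtho
import Cfsg.Agent.Lib.Helper10.GenChar

set_option autoImplicit false
set_option linter.unusedSectionVars false

namespace Cfsg.Agent.Lib.Helper6.BNSt

open Cfsg Cfsg.Agent.Lib.Helper3.BN Cfsg.Agent.Lib.Helper3.WordLen Cfsg.Agent.Lib.Helper6.CoxRed
open scoped ComplexConjugate

universe u

variable {G : Type u} [Group G]

theorem fixedPointCharacter_eq_indFun [Fintype G] (H : Subgroup G) :
    fixedPointCharacter H = indFun H (fun _ => (1 : ℂ)) := by
  funext g
  rw [Cfsg.Agent.Lib.Helper6.indFun_one_eq_card_fixed]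
  rfl

theorem isCharacter_fixedPointCharacter [Fintype G] (H : Subgroup G) :
    IsCharacter G (fixedPointCharacter H) := by
  rw [fixedPointCharacter_eq_indFun]
  exact Cfsg.Agent.CharLib.IsCharacter.indFun H (Cfsg.Agent.CharLib.isCharacter_one (G := H))

theorem fixedPointCharacter_apply (H : Subgroup G) (g : G) :
    fixedPointCharacter H g = (Nat.card (MulAction.fixedBy (G ⧸ H) g) : ℂ) := rfl

variable (P : Cfsg.BNPair G)

local notation "ℓ" => len (Sbar P)

/-- the alternating sum of the permutation characters on the standard parabolic subgroups -/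
noncomputable def stFun (Sfin : Finset G) : G → ℂ :=
  fun g => ∑ J ∈ Sfin.powerset, (-1 : ℂ) ^ J.card * fixedPointCharacter (P.parabolic (J : Set G)) g

variable (Sfin : Finset G)

theorem stFun_conj (g : G) : conj (stFun P Sfin g) = stFun P Sfin g := by
  unfold stFun
  rw [map_sum]
  apply Finset.sum_congr rfl
  intro J _
  rw [map_mul, map_pow, map_neg, map_one, fixedPointCharacter_apply, Complex.conj_natCast]

theorem isGeneralizedCharacter_stFun [Fintype G] : IsGeneralizedCharacter G (stFun P Sfin) := by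
  classical
  refine ⟨∑ J ∈ Sfin.powerset.filter (fun J => Even J.card),
      fixedPointCharacter (P.parabolic (J : Set G)),
    ∑ J ∈ Sfin.powerset.filter (fun J => ¬ Even J.card),
      fixedPointCharacter (P.parabolic (J : Set G)), ?_, ?_, ?_⟩
  · exact Cfsg.Agent.CharLib.IsCharacter.sum _ (fun J _ => isCharacter_fixedPointCharacter _)
  · exact Cfsg.Agent.CharLib.IsCharacter.sum _ (fun J _ => isCharacter_fixedPointCharacter _)
  · funext g
    unfold stFun
    rw [← Finset.sum_filter_add_sum_filter_not Sfin.powerset (fun J => Even J.card)]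
    simp only [Pi.sub_apply, Finset.sum_apply]
    rw [sub_eq_add_neg, ← Finset.sum_neg_distrib]
    congr 1
    · apply Finset.sum_congr rfl
      intro J hJ
      rw [Finset.mem_filter] at hJ
      rw [Even.neg_one_pow hJ.2, one_mul]
    · apply Finset.sum_congr rfl
      intro J hJ
      rw [Finset.mem_filter] at hJ
      rw [Odd.neg_one_pow (Nat.not_even_iff_odd.mp hJ.2), neg_one_mul]

variable (hSfin : (Sfin : Set G) = P.S)
include hSfin

/-- the Steinberg function has norm one -/
theorem classInner_stFun_self [Fintype G] :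
    classInner (stFun P Sfin) (stFun P Sfin) = 1 := by
  classical
  unfold classInner
  have hsub : ∀ J ∈ Sfin.powerset, ((J : Finset G) : Set G) ⊆ P.S := by
    intro J hJ s hs
    exact mem_S_of_mem P Sfin hSfin (Finset.mem_powerset.mp hJ hs)
  -- expand the product
  have h1 : ∀ g : G, stFun P Sfin g * conj (stFun P Sfin g) =
      ∑ J ∈ Sfin.powerset, ∑ K ∈ Sfin.powerset,
        ((-1 : ℂ) ^ J.card * (-1 : ℂ) ^ K.card) *
          ((Nat.card (MulAction.fixedBy (G ⧸ P.parabolic (J : Set G)) g) *
            Nat.card (MulAction.fixedBy (G ⧸ P.parabolic (K : Set G)) g) : ℕ) : ℂ) := by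
    intro g
    rw [stFun_conj]
    unfold stFun
    rw [Finset.sum_mul_sum]
    apply Finset.sum_congr rfl
    intro J _
    apply Finset.sum_congr rfl
    intro K _
    rw [fixedPointCharacter_apply, fixedPointCharacter_apply]
    push_cast
    ring
  rw [Finset.sum_congr rfl (fun g _ => h1 g), Finset.sum_comm]
  have h2 : ∀ J ∈ Sfin.powerset, (∑ g : G, ∑ K ∈ Sfin.powerset,
        ((-1 : ℂ) ^ J.card * (-1 : ℂ) ^ K.card) *
          ((Nat.card (MulAction.fixedBy (G ⧸ P.parabolic (J : Set G)) g) *
            Nat.card (MulAction.fixedBy (G ⧸ P.parabolic (K : Set G)) g) : ℕ) : ℂ)) =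
      ∑ K ∈ Sfin.powerset, ((-1 : ℂ) ^ J.card * (-1 : ℂ) ^ K.card) *
        ((Nat.card (Red P (J : Set G) (K : Set G)) : ℂ) * (Nat.card G : ℂ)) := by
    intro J hJ
    rw [Finset.sum_comm]
    apply Finset.sum_congr rfl
    intro K hK
    rw [← Finset.mul_sum, ← Nat.cast_sum]
    have : Fintype (Red P (J : Set G) (K : Set G)) := Fintype.ofFinite _
    rw [sum_card_fixedBy_mul P (hsub J hJ) (hsub K hK), Nat.card_eq_fintype_card,
      Nat.card_eq_fintype_card]
    push_cast
    rfl
  rw [Finset.sum_congr rfl h2]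
  have hG : (Nat.card G : ℂ) ≠ 0 := by
    exact_mod_cast (Nat.card_pos (α := G)).ne'
  have h3 := sum_card_red P Sfin hSfin
  have h4 : (∑ J ∈ Sfin.powerset, ∑ K ∈ Sfin.powerset,
      ((-1 : ℂ) ^ J.card * (-1 : ℂ) ^ K.card) *
        ((Nat.card (Red P (J : Set G) (K : Set G)) : ℂ) * (Nat.card G : ℂ))) =
      (Nat.card G : ℂ) * (((∑ J ∈ Sfin.powerset, ∑ K ∈ Sfin.powerset,
      (-1 : ℤ) ^ J.card * (-1 : ℤ) ^ K.card *
        (Nat.card (Red P (J : Set G) (K : Set G)) : ℤ)) : ℤ) : ℂ) := by
    push_cast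
    rw [Finset.mul_sum]
    apply Finset.sum_congr rfl
    intro J _
    rw [Finset.mul_sum]
    apply Finset.sum_congr rfl
    intro K _
    ring
  rw [h4, h3]
  push_cast
  rw [mul_one, inv_mul_cancel₀ hG]

/-- the restriction of the Steinberg function to `B` -/
theorem stFun_apply_B [Finite G] (b : P.B) :
    stFun P Sfin (b : G) =
      (Nat.card (MulAction.fixedBy (P.B ⧸ BStab P (repW P (w0 P))) b) : ℂ) := by
  classical
  have : Fintype (W P) := Fintype.ofFinite _
  unfold stFun
  have hsub : ∀ K ∈ Sfin.powerset, ((K : Finset G) : Set G) ⊆ P.S := by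
    intro K hK s hs
    exact mem_S_of_mem P Sfin hSfin (Finset.mem_powerset.mp hK hs)
  set β : W P → ℂ := fun w =>
    (Nat.card (MulAction.fixedBy (P.B ⧸ BStab P (repW P w)) b) : ℂ) with hβ
  have h1 : ∀ K ∈ Sfin.powerset,
      (-1 : ℂ) ^ K.card * fixedPointCharacter (P.parabolic (K : Set G)) (b : G) =
      ∑ w : W P, ((((-1 : ℤ) ^ K.card * (if K ⊆ AR P Sfin w then 1 else 0) : ℤ)) : ℂ) * β w := by
    intro K hK
    have : Fintype (Red P ∅ (K : Set G)) := Fintype.ofFinite _
    rw [fixedPointCharacter_apply, card_fixedBy_eq_sum P (hsub K hK) b]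
    push_cast
    rw [Finset.mul_sum]
    -- sum over the subtype as a sum over `W` with an indicator
    have hiff : ∀ w : W P, IsRed (Sbar P) (Jbar P ∅) (Jbar P (K : Set G)) w ↔ K ⊆ AR P Sfin w := by
      intro w
      rw [isRed_iff P Sfin hSfin (Set.empty_subset _) (hsub K hK)]
      constructor
      · intro h s hs; exact h.2 s hs
      · intro h; exact ⟨fun s hs => hs.elim, fun s hs => h hs⟩
    rw [← Finset.sum_subtype (Finset.univ.filter (fun w : W P => K ⊆ AR P Sfin w))
      (p := fun w => IsRed (Sbar P) (Jbar P ∅) (Jbar P (K : Set G)) w)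
      (by intro w; rw [Finset.mem_filter, hiff]; simp)
      (fun w => (-1 : ℂ) ^ K.card * β w)]
    rw [Finset.sum_filter]
    apply Finset.sum_congr rfl
    intro w _
    split_ifs <;> simp
  rw [Finset.sum_congr rfl h1, Finset.sum_comm]
  have h2 : ∀ w : W P, (∑ K ∈ Sfin.powerset,
      ((((-1 : ℤ) ^ K.card * (if K ⊆ AR P Sfin w then 1 else 0) : ℤ)) : ℂ) * β w) =
      (if w = w0 P then 1 else 0) * β w := by
    intro w
    rw [← Finset.sum_mul, ← Int.cast_sum, sum_powerset_indicator Sfin _ (AR_subset P Sfin w)]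
    by_cases h : w = w0 P
    · rw [if_pos ((AR_eq_empty_iff_eq P Sfin hSfin w).mpr h), if_pos h]; simp
    · rw [if_neg (fun h' => h ((AR_eq_empty_iff_eq P Sfin hSfin w).mp h')), if_neg h]; simp
  rw [Finset.sum_congr rfl (fun w _ => h2 w)]
  simp [hβ]

/-- the value at `1`: the index of `B ∩ n₀ B n₀⁻¹` in `B` -/
theorem stFun_one [Finite G] :
    stFun P Sfin 1 = (Nat.card (P.B ⧸ BStab P (repW P (w0 P))) : ℂ) := by
  have h := stFun_apply_B P Sfin hSfin (1 : P.B)
  rw [Subgroup.coe_one] at h
  rw [h]
  congr 1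
  apply Nat.card_congr
  exact
    { toFun := fun q => q.1
      invFun := fun q => ⟨q, by rw [MulAction.mem_fixedBy, one_smul]⟩
      left_inv := fun q => rfl
      right_inv := fun q => rfl }

/-- the Steinberg function is an irreducible character -/
theorem isIrrCharacter_stFun [Fintype G] : IsIrrCharacter G (stFun P Sfin) := by
  obtain ⟨ε, hε, hirr⟩ := Cfsg.Agent.Lib.Helper10.genChar_norm_one
    (isGeneralizedCharacter_stFun P Sfin) (classInner_stFun_self P Sfin hSfin)
  rcases hε with rfl | rfl
  · rwa [one_smul] at hirr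
  · exfalso
    obtain ⟨n, hn, h1⟩ := Cfsg.Agent.CharLib.IsIrrCharacter.apply_one_pos hirr
    have h2 := stFun_one P Sfin hSfin
    have h3 : ((-1 : ℂ) • stFun P Sfin) 1 = -stFun P Sfin 1 := by
      simp
    rw [h3, h2] at h1
    have h4 : ((Nat.card (P.B ⧸ BStab P (repW P (w0 P))) + n : ℕ) : ℂ) = 0 := by
      push_cast
      rw [← h1]; ring
    have h5 : Nat.card (P.B ⧸ BStab P (repW P (w0 P))) + n = 0 := by exact_mod_cast h4
    omega

end Cfsg.Agent.Lib.Helper6.BNSt
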