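/-
helper6: restricting the Steinberg character of a finite group `G` with a (B,N)-pair along a
homomorphism `φ : H → G` whose image is normalised by `G` and satisfies `φ(H)·(B ∩ N) = G`
(for instance `SL_n → GL_n`): the `H`-orbits on `G/P_J × G/P_K` are the `G`-orbits, hence the
restricted function still has norm one and is an irreducible character of `H`.
-/
import Mathlib
import Cfsg.Agent.Lib.Helper6.BNStB

set_option autoImplicit false
set_option linter.unusedSectionVars false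

namespace Cfsg.Agent.Lib.Helper6.BNSt

open Cfsg Cfsg.Agent.Lib.Helper3.BN Cfsg.Agent.Lib.Helper3.WordLen Cfsg.Agent.Lib.Helper6.CoxRed
open scoped ComplexConjugate

universe u v

variable {G : Type u} [Group G] (P : Cfsg.BNPair G)

section inv

variable {J K : Set G} (hJ : J ⊆ P.S) (hK : K ⊆ P.S)
include hJ hK

theorem pairInv_smul (g : G) (z : (G ⧸ P.parabolic J) × (G ⧸ P.parabolic K)) :
    pairInv P J K (g • z) = pairInv P J K z := by
  obtain ⟨q₁, q₂⟩ := z
  obtain ⟨x, rfl⟩ := QuotientGroup.mk_surjective q₁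
  obtain ⟨y, rfl⟩ := QuotientGroup.mk_surjective q₂
  apply Subtype.ext
  have : g • ((x : G ⧸ P.parabolic J), (y : G ⧸ P.parabolic K)) =
      (((g * x : G) : G ⧸ P.parabolic J), ((g * y : G) : G ⧸ P.parabolic K)) := rfl
  rw [this, pairInv_mk P hJ hK, pairInv_mk P hJ hK]
  congr 2
  group

theorem exists_smul_of_pairInv_eq (z z' : (G ⧸ P.parabolic J) × (G ⧸ P.parabolic K))
    (h : pairInv P J K z = pairInv P J K z') : ∃ g : G, g • z = z' := by
  obtain ⟨q₁, q₂⟩ := z
  obtain ⟨q₁', q₂'⟩ := z'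
  obtain ⟨x, rfl⟩ := QuotientGroup.mk_surjective q₁
  obtain ⟨y, rfl⟩ := QuotientGroup.mk_surjective q₂
  obtain ⟨x', rfl⟩ := QuotientGroup.mk_surjective q₁'
  obtain ⟨y', rfl⟩ := QuotientGroup.mk_surjective q₂'
  have h' := congrArg Subtype.val h
  rw [pairInv_mk P hJ hK, pairInv_mk P hJ hK] at h'
  have h2 := inDC_of_redOf_eq P J K h'
  rw [← dc_iff P hJ hK] at h2
  obtain ⟨p, hp, p', hp', he⟩ := h2
  refine ⟨x' * p * x⁻¹, ?_⟩
  have : (x' * p * x⁻¹) • ((x : G ⧸ P.parabolic J), (y : G ⧸ P.parabolic K)) =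
      (((x' * p * x⁻¹ * x : G) : G ⧸ P.parabolic J),
        ((x' * p * x⁻¹ * y : G) : G ⧸ P.parabolic K)) := rfl
  rw [this]
  apply Prod.ext
  · simp only
    rw [QuotientGroup.eq]
    have : (x' * p * x⁻¹ * x)⁻¹ * x' = p⁻¹ := by group
    rw [this]
    exact Subgroup.inv_mem _ hp
  · simp only
    rw [QuotientGroup.eq]
    have : (x' * p * x⁻¹ * y)⁻¹ * y' = p' := by
      have : y' = x' * (p * (x⁻¹ * y) * p') := by rw [← he]; group
      rw [this]; group
    rw [this]
    exact hp'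

theorem pairInv_surjective : Function.Surjective (pairInv P J K) := by
  rintro ⟨d, hd⟩
  refine ⟨(((1 : G) : G ⧸ P.parabolic J), ((repW P d : G) : G ⧸ P.parabolic K)), ?_⟩
  apply Subtype.ext
  rw [pairInv_mk P hJ hK]
  simp only [inv_one, one_mul]
  rw [cellOf_repW, redOf_self P J K hd]

end inv

section res

variable {H : Type v} [Group H] (φ : H →* G)
  (hnorm : ∀ (g : G) (h : H), ∃ h' : H, φ h' = g * φ h * g⁻¹)
  (hHT : ∀ g : G, ∃ h : H, ∃ t ∈ P.B ⊓ P.N, g = φ h * t)
include hnorm hHT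

/-- every `G`-translate of a pair of cosets is an `H`-translate -/
theorem exists_hom_smul_eq (J K : Set G) (g : G)
    (z : (G ⧸ P.parabolic J) × (G ⧸ P.parabolic K)) : ∃ h : H, φ h • z = g • z := by
  obtain ⟨q₁, q₂⟩ := z
  obtain ⟨a, rfl⟩ := QuotientGroup.mk_surjective q₁
  obtain ⟨b, rfl⟩ := QuotientGroup.mk_surjective q₂
  obtain ⟨n, hn, hdc⟩ := exists_dc P (a⁻¹ * b)
  obtain ⟨β₁, hβ₁, β₂, hβ₂, he⟩ := (mem_dc P).mp hdc
  obtain ⟨h', t, ht, hc⟩ := hHT ((a * β₁)⁻¹ * g * (a * β₁))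
  obtain ⟨h, hh⟩ := hnorm (a * β₁) h'
  refine ⟨h, ?_⟩
  have hg : g = φ h * ((a * β₁) * t * (a * β₁)⁻¹) := by
    rw [hh]
    have : g = (a * β₁) * ((a * β₁)⁻¹ * g * (a * β₁)) * (a * β₁)⁻¹ := by group
    rw [hc] at this
    rw [this]; group
  have hfix : ((a * β₁) * t * (a * β₁)⁻¹) •
      ((a : G ⧸ P.parabolic J), (b : G ⧸ P.parabolic K)) =
      ((a : G ⧸ P.parabolic J), (b : G ⧸ P.parabolic K)) := by
    have : ((a * β₁) * t * (a * β₁)⁻¹) • ((a : G ⧸ P.parabolic J), (b : G ⧸ P.parabolic K)) =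
      ((((a * β₁) * t * (a * β₁)⁻¹ * a : G) : G ⧸ P.parabolic J),
        (((a * β₁) * t * (a * β₁)⁻¹ * b : G) : G ⧸ P.parabolic K)) := rfl
    rw [this]
    apply Prod.ext
    · simp only
      rw [QuotientGroup.eq]
      have e : ((a * β₁) * t * (a * β₁)⁻¹ * a)⁻¹ * a = β₁ * t⁻¹ * β₁⁻¹ := by group
      rw [e]
      apply B_le_parabolic P J
      exact P.B.mul_mem (P.B.mul_mem hβ₁ (P.B.inv_mem ht.1)) (P.B.inv_mem hβ₁)
    · simp only
      rw [QuotientGroup.eq]
      have hb : b = a * (β₁ * n * β₂) := by rw [← he]; group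
      have e : ((a * β₁) * t * (a * β₁)⁻¹ * b)⁻¹ * b = β₂⁻¹ * (n⁻¹ * t⁻¹ * n⁻¹⁻¹) * β₂ := by
        rw [hb]; group
      rw [e]
      apply B_le_parabolic P K
      have hcm := P.conj_mem n⁻¹ (P.N.inv_mem hn) t⁻¹ ((P.B ⊓ P.N).inv_mem ht)
      exact P.B.mul_mem (P.B.mul_mem (P.B.inv_mem hβ₂) hcm) hβ₂
  conv_rhs => rw [hg, mul_smul, hfix]

variable {J K : Set G} (hJ : J ⊆ P.S) (hK : K ⊆ P.S)
include hJ hK

/-- orbit counting on `G/P_J × G/P_K` for the action of `H` through `φ` -/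
theorem sum_card_fixedBy_mul_hom [Finite G] [Fintype H] [Fintype (Red P J K)] :
    ∑ h : H, Nat.card (MulAction.fixedBy (G ⧸ P.parabolic J) (φ h)) *
        Nat.card (MulAction.fixedBy (G ⧸ P.parabolic K) (φ h)) =
      Fintype.card (Red P J K) * Fintype.card H := by
  letI : MulAction H ((G ⧸ P.parabolic J) × (G ⧸ P.parabolic K)) := MulAction.compHom _ φ
  have hsmul : ∀ (h : H) (z : (G ⧸ P.parabolic J) × (G ⧸ P.parabolic K)), h • z = φ h • z :=
    fun _ _ => rfl
  rw [← sum_card_fixedBy_eq_of_invariant (G := H)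
    (X := (G ⧸ P.parabolic J) × (G ⧸ P.parabolic K)) (pairInv P J K)]
  · apply Finset.sum_congr rfl
    intro h _
    rw [← card_fixedBy_prod]
    rfl
  · intro h z
    rw [hsmul]
    exact pairInv_smul P hJ hK (φ h) z
  · intro z z' hz
    obtain ⟨g, hg⟩ := exists_smul_of_pairInv_eq P hJ hK z z' hz
    obtain ⟨h, hh⟩ := exists_hom_smul_eq P φ hnorm hHT J K g z
    exact ⟨h, by rw [hsmul, hh, hg]⟩
  · exact pairInv_surjective P hJ hK

end res

section steinberg

variable {H : Type v} [Group H] (φ : H →* G)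
  (hnorm : ∀ (g : G) (h : H), ∃ h' : H, φ h' = g * φ h * g⁻¹)
  (hHT : ∀ g : G, ∃ h : H, ∃ t ∈ P.B ⊓ P.N, g = φ h * t)
  (Sfin : Finset G) (hSfin : (Sfin : Set G) = P.S)
include hnorm hHT hSfin

/-- the restricted Steinberg function has norm one -/
theorem classInner_stFun_hom [Fintype G] [Fintype H] :
    classInner (fun h : H => stFun P Sfin (φ h)) (fun h : H => stFun P Sfin (φ h)) = 1 := by
  classical
  unfold classInner
  have hsub : ∀ J ∈ Sfin.powerset, ((J : Finset G) : Set G) ⊆ P.S := by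
    intro J hJ s hs
    exact mem_S_of_mem P Sfin hSfin (Finset.mem_powerset.mp hJ hs)
  have h1 : ∀ g : G, stFun P Sfin g * conj (stFun P Sfin g) =
      ∑ J ∈ Sfin.powerset, ∑ K ∈ Sfin.powerset,
        ((-1 : ℂ) ^ J.card * (-1 : ℂ) ^ K.card) *
          ((Nat.card (MulAction.fixedBy (G ⧸ P.parabolic (J : Set G)) g) *
            Nat.card (MulAction.fixedBy (G ⧸ P.parabolic (K : Set G)) g) : ℕ) : ℂ) := by
    intro g
    rw [stFun_conj]
    unfold stFun
    rw [Finset.sum_mul_sum]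
    apply Finset.sum_congr rfl
    intro J _
    apply Finset.sum_congr rfl
    intro K _
    rw [fixedPointCharacter_apply, fixedPointCharacter_apply]
    push_cast
    ring
  rw [Finset.sum_congr rfl (fun h _ => h1 (φ h)), Finset.sum_comm]
  have h2 : ∀ J ∈ Sfin.powerset, (∑ h : H, ∑ K ∈ Sfin.powerset,
        ((-1 : ℂ) ^ J.card * (-1 : ℂ) ^ K.card) *
          ((Nat.card (MulAction.fixedBy (G ⧸ P.parabolic (J : Set G)) (φ h)) *
            Nat.card (MulAction.fixedBy (G ⧸ P.parabolic (K : Set G)) (φ h)) : ℕ) : ℂ)) =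
      ∑ K ∈ Sfin.powerset, ((-1 : ℂ) ^ J.card * (-1 : ℂ) ^ K.card) *
        ((Nat.card (Red P (J : Set G) (K : Set G)) : ℂ) * (Nat.card H : ℂ)) := by
    intro J hJ
    rw [Finset.sum_comm]
    apply Finset.sum_congr rfl
    intro K hK
    rw [← Finset.mul_sum, ← Nat.cast_sum]
    have : Fintype (Red P (J : Set G) (K : Set G)) := Fintype.ofFinite _
    rw [sum_card_fixedBy_mul_hom P φ hnorm hHT (hsub J hJ) (hsub K hK), Nat.card_eq_fintype_card,
      Nat.card_eq_fintype_card]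
    push_cast
    rfl
  rw [Finset.sum_congr rfl h2]
  have hG : (Nat.card H : ℂ) ≠ 0 := by
    exact_mod_cast (Nat.card_pos (α := H)).ne'
  have h3 := sum_card_red P Sfin hSfin
  have h4 : (∑ J ∈ Sfin.powerset, ∑ K ∈ Sfin.powerset,
      ((-1 : ℂ) ^ J.card * (-1 : ℂ) ^ K.card) *
        ((Nat.card (Red P (J : Set G) (K : Set G)) : ℂ) * (Nat.card H : ℂ))) =
      (Nat.card H : ℂ) * (((∑ J ∈ Sfin.powerset, ∑ K ∈ Sfin.powerset,
      (-1 : ℤ) ^ J.card * (-1 : ℤ) ^ K.card *
        (Nat.card (Red P (J : Set G) (K : Set G)) : ℤ)) : ℤ) : ℂ) := by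
    push_cast
    rw [Finset.mul_sum]
    apply Finset.sum_congr rfl
    intro J _
    rw [Finset.mul_sum]
    apply Finset.sum_congr rfl
    intro K _
    ring
  rw [h4, h3]
  push_cast
  rw [mul_one, inv_mul_cancel₀ hG]

/-- the restricted Steinberg function is an irreducible character -/
theorem isIrrCharacter_stFun_hom [Fintype G] [Fintype H] :
    IsIrrCharacter H (fun h : H => stFun P Sfin (φ h)) := by
  have hgen : IsGeneralizedCharacter H (fun h : H => stFun P Sfin (φ h)) := by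
    obtain ⟨χ, ψ, hχ, hψ, he⟩ := isGeneralizedCharacter_stFun P Sfin
    refine ⟨χ ∘ φ, ψ ∘ φ, Cfsg.Agent.CharLib.IsCharacter.comp_hom hχ φ,
      Cfsg.Agent.CharLib.IsCharacter.comp_hom hψ φ, ?_⟩
    funext h
    rw [he]
    rfl
  obtain ⟨ε, hε, hirr⟩ := Cfsg.Agent.Lib.Helper10.genChar_norm_one hgen
    (classInner_stFun_hom P φ hnorm hHT Sfin hSfin)
  rcases hε with rfl | rfl
  · rwa [one_smul] at hirr
  · exfalso
    obtain ⟨n, hn, h1⟩ := Cfsg.Agent.CharLib.IsIrrCharacter.apply_one_pos hirr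
    have h2 := stFun_one P Sfin hSfin
    have h3 : ((-1 : ℂ) • (fun h : H => stFun P Sfin (φ h))) 1 = -stFun P Sfin 1 := by
      simp
    rw [h3, h2] at h1
    have h4 : ((Nat.card (P.B ⧸ BStab P (repW P (w0 P))) + n : ℕ) : ℂ) = 0 := by
      push_cast
      rw [← h1]; ring
    have h5 : Nat.card (P.B ⧸ BStab P (repW P (w0 P))) + n = 0 := by exact_mod_cast h4
    omega

end steinberg

section central

variable (Sfin : Finset G)

/-- a central element of `G` lying in `B` acts trivially -/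
theorem stFun_central {z : G} (hz : z ∈ Subgroup.center G) (hzB : z ∈ P.B) :
    stFun P Sfin z = stFun P Sfin 1 := by
  unfold stFun
  apply Finset.sum_congr rfl
  intro J _
  congr 1
  rw [fixedPointCharacter_apply, fixedPointCharacter_apply]
  have hset : MulAction.fixedBy (G ⧸ P.parabolic (J : Set G)) z =
      MulAction.fixedBy (G ⧸ P.parabolic (J : Set G)) (1 : G) := by
    ext x
    rw [MulAction.mem_fixedBy, MulAction.mem_fixedBy, one_smul]
    constructor
    · intro _; trivial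
    · intro _
      obtain ⟨g, rfl⟩ := QuotientGroup.mk_surjective x
      show ((z * g : G) : G ⧸ P.parabolic (J : Set G)) = g
      rw [QuotientGroup.eq]
      have e : (z * g)⁻¹ * g = z⁻¹ := by
        have hc := (Subgroup.mem_center_iff.mp hz g)
        rw [← hc]; group
      rw [e]
      exact Subgroup.inv_mem _ (B_le_parabolic P _ hzB)
  rw [hset]

end central

section longest

local notation "ℓ" => len (Sbar P)

/-- `BStab` only depends on the image in the Weyl group (copy of `BStab_eq_of_mkW_eq`, kept here to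
avoid importing the Chevalley files) -/
theorem BStab_congr_mkW {n n' : G} (hn : n ∈ P.N) (hn' : n' ∈ P.N)
    (h : mkW P n hn = mkW P n' hn') : BStab P n = BStab P n' := by
  rw [mkW_eq_iff] at h
  ext b
  rw [mem_BStab, mem_BStab]
  constructor
  · intro hb
    have e : n'⁻¹ * (b : G) * n' = (n⁻¹ * n')⁻¹ * (n⁻¹ * (b : G) * n) * (n⁻¹ * n') := by group
    rw [e]
    exact P.B.mul_mem (P.B.mul_mem (P.B.inv_mem h) hb) h
  · intro hb
    have e : n⁻¹ * (b : G) * n = (n⁻¹ * n') * (n'⁻¹ * (b : G) * n') * (n⁻¹ * n')⁻¹ := by group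
    rw [e]
    exact P.B.mul_mem (P.B.mul_mem h hb) (P.B.inv_mem h)

/-- a criterion for representing the longest element (copy of `eq_w0_of_forall_exists`) -/
theorem mkW_eq_w0_of_exists [Finite G] {n : G} (hn : n ∈ P.N)
    (h : ∀ s, s ∈ P.S → ∃ g ∈ C P (mkW P n hn), s * g ∈ C P (mkW P n hn)) :
    mkW P n hn = w0 P := by
  apply eq_w0_of_left
  rintro _ ⟨s, hs, rfl⟩
  by_contra hcon
  have hle : ℓ (mkW P n hn) ≤ ℓ (sb P s hs * mkW P n hn) := not_lt.mp hcon
  obtain ⟨g, hg, hsg⟩ := h s hs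
  have h1 := A_lemma P hs hle hg
  have h2 := eq_of_common P h1 hsg
  exact sb_ne_one P hs (mul_eq_right.mp h2)

end longest

end Cfsg.Agent.Lib.Helper6.BNSt
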