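/-
helper6: monomial matrices in `GL_n(F)`: basic computations (towards the (B,N)-pair of `GL_n`).
-/
import Mathlib

set_option autoImplicit false

namespace Cfsg.Agent.Lib.Helper6.GLBN

open Matrix Equiv

variable {n : ℕ} {F : Type*} [Field F]

/-- the monomial matrix with `mono σ c e_j = c j • e_{σ j}` -/
def mono (σ : Perm (Fin n)) (c : Fin n → F) : Matrix (Fin n) (Fin n) F :=
  Matrix.of fun i j => if i = σ j then c j else 0

theorem mono_apply (σ : Perm (Fin n)) (c : Fin n → F) (i j : Fin n) :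
    mono σ c i j = if i = σ j then c j else 0 := rfl

theorem mul_mono_apply (A : Matrix (Fin n) (Fin n) F) (σ : Perm (Fin n)) (c : Fin n → F)
    (i j : Fin n) : (A * mono σ c) i j = A i (σ j) * c j := by
  rw [Matrix.mul_apply, Finset.sum_eq_single (σ j)]
  · rw [mono_apply, if_pos rfl]
  · intro k _ hk
    rw [mono_apply, if_neg hk, mul_zero]
  · intro h; exact absurd (Finset.mem_univ _) h

theorem mono_mul_apply (A : Matrix (Fin n) (Fin n) F) (σ : Perm (Fin n)) (c : Fin n → F)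
    (i j : Fin n) : (mono σ c * A) i j = c (σ.symm i) * A (σ.symm i) j := by
  rw [Matrix.mul_apply, Finset.sum_eq_single (σ.symm i)]
  · rw [mono_apply, if_pos (by simp)]
  · intro k _ hk
    rw [mono_apply, if_neg, zero_mul]
    intro h
    apply hk
    rw [h]; simp
  · intro h; exact absurd (Finset.mem_univ _) h

theorem mono_mul_mono (σ τ : Perm (Fin n)) (c d : Fin n → F) :
    mono σ c * mono τ d = mono (σ * τ) (fun j => c (τ j) * d j) := by
  ext i j
  rw [mul_mono_apply, mono_apply, mono_apply, Perm.mul_apply]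
  by_cases h : i = σ (τ j)
  · rw [if_pos h, if_pos h]
  · rw [if_neg h, if_neg h, zero_mul]

theorem mono_one : mono (1 : Perm (Fin n)) (fun _ => (1 : F)) = 1 := by
  ext i j
  rw [mono_apply, Matrix.one_apply, Perm.one_apply]

/-- the monomial matrix as an element of `GL_n(F)` -/
def monoGL (σ : Perm (Fin n)) (c : Fin n → Fˣ) : GL (Fin n) F where
  val := mono σ (fun j => (c j : F))
  inv := mono σ⁻¹ (fun j => ((c (σ⁻¹ j))⁻¹ : Fˣ))
  val_inv := by
    rw [mono_mul_mono, ← mono_one]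
    congr 1
    · simp
    · funext j; simp
  inv_val := by
    rw [mono_mul_mono, ← mono_one]
    congr 1
    · simp
    · funext j; simp

theorem coe_monoGL (σ : Perm (Fin n)) (c : Fin n → Fˣ) :
    ((monoGL σ c : GL (Fin n) F) : Matrix (Fin n) (Fin n) F) = mono σ (fun j => (c j : F)) := rfl

theorem monoGL_mul (σ τ : Perm (Fin n)) (c d : Fin n → Fˣ) :
    monoGL σ c * monoGL τ d = (monoGL (σ * τ) (fun j => c (τ j) * d j) : GL (Fin n) F) := by
  apply Units.ext
  rw [Units.val_mul, coe_monoGL, coe_monoGL, coe_monoGL, mono_mul_mono]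
  congr 1

theorem monoGL_one : (monoGL (1 : Perm (Fin n)) (fun _ => (1 : Fˣ)) : GL (Fin n) F) = 1 := by
  apply Units.ext
  rw [coe_monoGL, Units.val_one]
  exact mono_one

theorem monoGL_inv (σ : Perm (Fin n)) (c : Fin n → Fˣ) :
    (monoGL σ c)⁻¹ = (monoGL σ⁻¹ (fun j => (c (σ⁻¹ j))⁻¹) : GL (Fin n) F) := by
  rw [inv_eq_iff_mul_eq_one, monoGL_mul, ← monoGL_one]
  congr 1
  · simp
  · funext j; simp

/-- a monomial matrix determines its permutation -/
theorem mono_perm_eq {σ τ : Perm (Fin n)} {c d : Fin n → F} (hc : ∀ j, c j ≠ 0)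
    (h : mono σ c = mono τ d) : σ = τ := by
  ext j
  have := congrFun (congrFun h (σ j)) j
  rw [mono_apply, mono_apply, if_pos rfl] at this
  by_contra hne
  rw [if_neg (fun e => hne (by rw [e]))] at this
  exact hc j this

theorem monoGL_perm_eq {σ τ : Perm (Fin n)} {c d : Fin n → Fˣ}
    (h : (monoGL σ c : GL (Fin n) F) = monoGL τ d) : σ = τ := by
  have h' := congrArg (fun g : GL (Fin n) F => (g : Matrix (Fin n) (Fin n) F)) h
  simp only [coe_monoGL] at h'
  exact mono_perm_eq (fun j => (c j).ne_zero) h'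

theorem monoGL_coef_eq {σ τ : Perm (Fin n)} {c d : Fin n → Fˣ}
    (h : (monoGL σ c : GL (Fin n) F) = monoGL τ d) : c = d := by
  have hστ := monoGL_perm_eq h
  subst hστ
  have h' := congrArg (fun g : GL (Fin n) F => (g : Matrix (Fin n) (Fin n) F)) h
  simp only [coe_monoGL] at h'
  funext j
  have := congrFun (congrFun h' (σ j)) j
  rw [mono_apply, mono_apply, if_pos rfl, if_pos rfl] at this
  exact Units.ext this

/-- the monomial subgroup `N` of `GL_n(F)` -/
def monoSubgroup (n : ℕ) (F : Type*) [Field F] : Subgroup (GL (Fin n) F) where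
  carrier := {g | ∃ (σ : Perm (Fin n)) (c : Fin n → Fˣ), g = monoGL σ c}
  mul_mem' := by
    rintro _ _ ⟨σ, c, rfl⟩ ⟨τ, d, rfl⟩
    exact ⟨_, _, monoGL_mul σ τ c d⟩
  one_mem' := ⟨1, fun _ => 1, monoGL_one.symm⟩
  inv_mem' := by
    rintro _ ⟨σ, c, rfl⟩
    exact ⟨_, _, monoGL_inv σ c⟩

theorem mem_monoSubgroup {g : GL (Fin n) F} :
    g ∈ monoSubgroup n F ↔ ∃ (σ : Perm (Fin n)) (c : Fin n → Fˣ), g = monoGL σ c := Iff.rfl

/-- the diagonal subgroup `T` -/
def diagSubgroup (n : ℕ) (F : Type*) [Field F] : Subgroup (GL (Fin n) F) where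
  carrier := {g | ∃ c : Fin n → Fˣ, g = monoGL 1 c}
  mul_mem' := by
    rintro _ _ ⟨c, rfl⟩ ⟨d, rfl⟩
    refine ⟨fun j => c j * d j, ?_⟩
    rw [monoGL_mul]
    congr 1
  one_mem' := ⟨fun _ => 1, monoGL_one.symm⟩
  inv_mem' := by
    rintro _ ⟨c, rfl⟩
    refine ⟨fun j => (c j)⁻¹, ?_⟩
    rw [monoGL_inv]
    congr 1

theorem mem_diagSubgroup {g : GL (Fin n) F} :
    g ∈ diagSubgroup n F ↔ ∃ c : Fin n → Fˣ, g = monoGL 1 c := Iff.rfl

theorem diagSubgroup_le_mono : diagSubgroup n F ≤ monoSubgroup n F := by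
  rintro _ ⟨c, rfl⟩
  exact ⟨1, c, rfl⟩

end Cfsg.Agent.Lib.Helper6.GLBN
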