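/-
helper6: transvections, the upper triangular group and the main (B,N)-axiom for `GL_n(F)`.
-/
import Mathlib
import Cfsg.Prelude.Def_ParabolicCharacters
import Cfsg.Agent.Lib.Helper6.GLBNA

set_option autoImplicit false

namespace Cfsg.Agent.Lib.Helper6.GLBN

open Matrix Equiv

variable {n : ℕ} {F : Type*} [Field F]

theorem transvection_mul_apply' (p q : Fin n) (t : F) (M : Matrix (Fin n) (Fin n) F)
    (i j : Fin n) :
    (transvection p q t * M) i j = M i j + if i = p then t * M q j else 0 := by
  by_cases h : i = p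
  · subst h
    rw [transvection_mul_apply_same, if_pos rfl]
  · rw [transvection_mul_apply_of_ne _ _ _ _ h, if_neg h, add_zero]

theorem mul_transvection_apply' (p q : Fin n) (t : F) (M : Matrix (Fin n) (Fin n) F)
    (i j : Fin n) :
    (M * transvection p q t) i j = M i j + if j = q then t * M i p else 0 := by
  by_cases h : j = q
  · subst h
    rw [mul_transvection_apply_same, if_pos rfl]
  · rw [mul_transvection_apply_of_ne _ _ _ _ h, if_neg h, add_zero]

theorem transvection_apply' (p q : Fin n) (t : F) (i j : Fin n) :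
    transvection p q t i j = (if i = j then 1 else 0) + if i = p ∧ j = q then t else 0 := by
  rw [transvection, Matrix.add_apply, Matrix.one_apply, Matrix.single_apply]
  congr 1
  by_cases h : i = p ∧ j = q
  · rw [if_pos h, if_pos ⟨h.1.symm, h.2.symm⟩]
  · rw [if_neg h, if_neg (fun h' => h ⟨h'.1.symm, h'.2.symm⟩)]

/-- the transvection `1 + t E_{pq}` as an element of `GL_n(F)` -/
def xGL (p q : Fin n) (hpq : p ≠ q) (t : F) : GL (Fin n) F where
  val := transvection p q t
  inv := transvection p q (-t)
  val_inv := by rw [transvection_mul_transvection_same _ _ hpq, add_neg_cancel, transvection_zero]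
  inv_val := by rw [transvection_mul_transvection_same _ _ hpq, neg_add_cancel, transvection_zero]

theorem coe_xGL (p q : Fin n) (hpq : p ≠ q) (t : F) :
    ((xGL p q hpq t : GL (Fin n) F) : Matrix (Fin n) (Fin n) F) = transvection p q t := rfl

theorem xGL_zero (p q : Fin n) (hpq : p ≠ q) : xGL p q hpq (0 : F) = 1 := by
  apply Units.ext
  rw [coe_xGL, transvection_zero, Units.val_one]

theorem xGL_mul (p q : Fin n) (hpq : p ≠ q) (t u : F) :
    xGL p q hpq t * xGL p q hpq u = xGL p q hpq (t + u) := by
  apply Units.ext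
  rw [Units.val_mul, coe_xGL, coe_xGL, coe_xGL, transvection_mul_transvection_same _ _ hpq]

theorem xGL_inv (p q : Fin n) (hpq : p ≠ q) (t : F) :
    (xGL p q hpq t)⁻¹ = xGL p q hpq (-t) := by
  rw [inv_eq_iff_mul_eq_one, xGL_mul, add_neg_cancel, xGL_zero]

/-- the upper triangular subgroup -/
abbrev Bup (n : ℕ) (F : Type*) [Field F] : Subgroup (GL (Fin n) F) := Cfsg.upperTriangularGL n F

theorem mem_Bup {g : GL (Fin n) F} :
    g ∈ Bup n F ↔ ∀ i j : Fin n, j < i → (g : Matrix (Fin n) (Fin n) F) i j = 0 := by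
  constructor
  · intro h i j hij
    exact h hij
  · intro h i j hij
    exact h i j hij

theorem xGL_mem_Bup {p q : Fin n} (hpq : p < q) (t : F) : xGL p q (ne_of_lt hpq) t ∈ Bup n F := by
  rw [mem_Bup]
  intro i j hji
  rw [coe_xGL, transvection_apply', if_neg (ne_of_gt hji), if_neg, add_zero]
  rintro ⟨rfl, rfl⟩
  exact absurd hpq (not_lt.mpr hji.le)

theorem diag_ne_zero {g : GL (Fin n) F} (hg : g ∈ Bup n F) (i : Fin n) :
    (g : Matrix (Fin n) (Fin n) F) i i ≠ 0 := by
  have hdet : (g : Matrix (Fin n) (Fin n) F).det = ∏ i, (g : Matrix (Fin n) (Fin n) F) i i :=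
    Matrix.det_of_isUpperTriangular hg
  have hne : (g : Matrix (Fin n) (Fin n) F).det ≠ 0 := by
    have := (Matrix.isUnit_iff_isUnit_det _).mp g.isUnit
    exact this.ne_zero
  rw [hdet] at hne
  exact fun h => hne (Finset.prod_eq_zero (Finset.mem_univ i) h)

/-- monomial conjugation of a transvection -/
theorem transvection_mul_mono (σ : Perm (Fin n)) (c : Fin n → F) (hc : ∀ j, c j ≠ 0)
    (p q : Fin n) (t : F) :
    transvection p q t * mono σ c =
      mono σ c * transvection (σ⁻¹ p) (σ⁻¹ q) (t * c (σ⁻¹ q) / c (σ⁻¹ p)) := by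
  ext i j
  rw [transvection_mul_apply', mul_transvection_apply', mono_apply, mono_apply, mono_apply]
  congr 1
  by_cases hi : i = p
  · subst hi
    rw [if_pos rfl]
    by_cases hj : j = σ⁻¹ q
    · subst hj
      rw [if_pos rfl, if_pos (by simp), if_pos (by simp)]
      field_simp [hc]
    · rw [if_neg hj, if_neg, mul_zero]
      intro h
      apply hj
      rw [h]; simp
  · rw [if_neg hi]
    by_cases hj : j = σ⁻¹ q
    · rw [if_pos hj, if_neg, mul_zero]
      intro h
      apply hi
      rw [h]; simp
    · rw [if_neg hj]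

theorem xGL_mul_monoGL (σ : Perm (Fin n)) (c : Fin n → Fˣ) (p q : Fin n) (hpq : p ≠ q) (t : F) :
    xGL p q hpq t * monoGL σ c =
      monoGL σ c * xGL (σ⁻¹ p) (σ⁻¹ q) (fun h => hpq (by simpa using h))
        (t * c (σ⁻¹ q) / c (σ⁻¹ p)) := by
  apply Units.ext
  rw [Units.val_mul, Units.val_mul, coe_xGL, coe_xGL, coe_monoGL]
  exact transvection_mul_mono σ _ (fun j => (c j).ne_zero) p q t

end Cfsg.Agent.Lib.Helper6.GLBN
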