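/-
helper6: the simple reflections of `GL_n(F)` and the main (B,N)-axiom.
-/
import Mathlib
import Cfsg.Agent.Lib.Helper6.GLBNB

set_option autoImplicit false

namespace Cfsg.Agent.Lib.Helper6.GLBN

open Matrix Equiv

variable {n : ℕ} {F : Type*} [Field F]

/-- the permutation matrix of the transposition `(k k')` -/
def sG (k k' : Fin n) : GL (Fin n) F := monoGL (swap k k') (fun _ => 1)

theorem sG_inv (k k' : Fin n) : (sG k k' : GL (Fin n) F)⁻¹ = sG k k' := by
  unfold sG
  rw [monoGL_inv]
  congr 1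

theorem sG_mul_self (k k' : Fin n) : (sG k k' : GL (Fin n) F) * sG k k' = 1 := by
  rw [← eq_inv_iff_mul_eq_one, sG_inv]

theorem sG_mem_mono (k k' : Fin n) : (sG k k' : GL (Fin n) F) ∈ monoSubgroup n F :=
  ⟨_, _, rfl⟩

theorem coe_sG_mul_mul (k k' : Fin n) (A : Matrix (Fin n) (Fin n) F) (i j : Fin n) :
    (((sG k k' : GL (Fin n) F) : Matrix (Fin n) (Fin n) F) * A *
      ((sG k k' : GL (Fin n) F) : Matrix (Fin n) (Fin n) F)) i j =
      A (swap k k' i) (swap k k' j) := by
  unfold sG
  rw [coe_monoGL, mul_mono_apply, mono_mul_apply]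
  simp

theorem coe_sG_mul (k k' : Fin n) (A : Matrix (Fin n) (Fin n) F) (i j : Fin n) :
    (((sG k k' : GL (Fin n) F) : Matrix (Fin n) (Fin n) F) * A) i j = A (swap k k' i) j := by
  unfold sG
  rw [coe_monoGL, mono_mul_apply]
  simp

section adjacent

variable {k k' : Fin n} (hk : k'.val = k.val + 1)
include hk

theorem swap_lt_or {i j : Fin n} (hji : j < i) :
    swap k k' j < swap k k' i ∨ (i = k' ∧ j = k) := by
  have hkk' : k ≠ k' := by
    intro h; rw [h] at hk; omega
  by_cases hik : i = k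
  · subst hik
    left
    rw [swap_apply_left]
    have hjk' : j ≠ k' := by
      intro h; rw [h] at hji; rw [Fin.lt_def] at hji; omega
    rw [swap_apply_of_ne_of_ne (ne_of_lt hji) hjk']
    rw [Fin.lt_def] at hji ⊢; omega
  · by_cases hik' : i = k'
    · subst hik'
      by_cases hjk : j = k
      · right; exact ⟨rfl, hjk⟩
      · left
        rw [swap_apply_right, swap_apply_of_ne_of_ne hjk (ne_of_lt hji)]
        rw [Fin.lt_def] at hji ⊢
        have : j.val ≠ k.val := fun h => hjk (Fin.ext h)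
        omega
    · rw [swap_apply_of_ne_of_ne hik hik']
      left
      by_cases hjk : j = k
      · subst hjk
        rw [swap_apply_left]
        rw [Fin.lt_def] at hji ⊢
        have : i.val ≠ k'.val := fun h => hik' (Fin.ext h)
        omega
      · by_cases hjk' : j = k'
        · subst hjk'
          rw [swap_apply_right]
          rw [Fin.lt_def] at hji ⊢; omega
        · rw [swap_apply_of_ne_of_ne hjk hjk']
          exact hji

/-- conjugation by `s` preserves the upper triangular matrices with vanishing `(k,k')` entry -/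
theorem sG_conj_mem_Bup {b : GL (Fin n) F} (hb : b ∈ Bup n F)
    (h0 : (b : Matrix (Fin n) (Fin n) F) k k' = 0) :
    sG k k' * b * sG k k' ∈ Bup n F := by
  rw [mem_Bup]
  intro i j hji
  rw [Units.val_mul, Units.val_mul, coe_sG_mul_mul]
  rcases swap_lt_or hk hji with h | ⟨rfl, rfl⟩
  · exact (mem_Bup.mp hb) _ _ h
  · rw [swap_apply_left, swap_apply_right]
    exact h0

/-- splitting off the `(k,k')` root subgroup -/
theorem exists_factor {b : GL (Fin n) F} (hb : b ∈ Bup n F) (hkk' : k ≠ k') :
    ∃ (t : F) (b' : GL (Fin n) F), b' ∈ Bup n F ∧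
      (b' : Matrix (Fin n) (Fin n) F) k k' = 0 ∧ b = b' * xGL k k' hkk' t := by
  have hlt : k < k' := by rw [Fin.lt_def]; omega
  set t : F := (b : Matrix (Fin n) (Fin n) F) k k' / (b : Matrix (Fin n) (Fin n) F) k k with ht
  refine ⟨t, b * xGL k k' hkk' (-t), ?_, ?_, ?_⟩
  · exact Subgroup.mul_mem _ hb (xGL_mem_Bup hlt _)
  · rw [Units.val_mul, coe_xGL, mul_transvection_apply', if_pos rfl, ht]
    field_simp [diag_ne_zero hb k]
    ring
  · rw [mul_assoc, xGL_mul, neg_add_cancel, xGL_zero, mul_one]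

/-- the rank one computation -/
theorem rank_one_mem_Bup (hkk' : k ≠ k') {t : F} (ht : t ≠ 0) :
    sG k k' * xGL k k' hkk' t * xGL k' k hkk'.symm (-t⁻¹) ∈ Bup n F := by
  rw [mem_Bup]
  intro i j hji
  rw [Units.val_mul, Units.val_mul, coe_xGL, coe_xGL, mul_transvection_apply', coe_sG_mul,
    coe_sG_mul, transvection_apply', transvection_apply']
  by_cases hik : i = k
  · subst hik
    rw [swap_apply_left]
    have hjk' : j ≠ k' := by
      intro h; rw [h] at hji; rw [Fin.lt_def] at hji; omega
    have hjk : j ≠ i := ne_of_lt hji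
    simp [hjk, hjk', hkk', hkk'.symm, Ne.symm hjk, Ne.symm hjk']
  · by_cases hik' : i = k'
    · subst hik'
      rw [swap_apply_right]
      by_cases hjk : j = k
      · subst hjk
        simp [hkk', hkk'.symm]
        field_simp
        ring
      · have hji' : j ≠ i := ne_of_lt hji
        simp [hjk, hji', Ne.symm hjk, Ne.symm hji']
    · rw [swap_apply_of_ne_of_ne hik hik']
      have hji' : j ≠ i := ne_of_lt hji
      simp [hik, hik', hji', Ne.symm hji']

/-- the main axiom of the `(B,N)`-pair for `GL_n(F)` -/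
theorem main_axiom {m b : GL (Fin n) F} (hm : m ∈ monoSubgroup n F) (hb : b ∈ Bup n F) :
    sG k k' * b * m ∈ DoubleCoset.doubleCoset (sG k k' * m) (Bup n F : Set (GL (Fin n) F)) (Bup n F) ∪
      DoubleCoset.doubleCoset m (Bup n F : Set (GL (Fin n) F)) (Bup n F) := by
  have hkk' : k ≠ k' := by
    intro h; rw [h] at hk; omega
  obtain ⟨σ, c, rfl⟩ := hm
  obtain ⟨t, b', hb', h0, rfl⟩ := exists_factor hk hb hkk'
  have hconj := sG_conj_mem_Bup hk hb' h0
  have hne : σ⁻¹ k ≠ σ⁻¹ k' := fun h => hkk' (by simpa using h)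
  -- the element `s b' s⁻¹`
  have e1 : sG k k' * (b' * xGL k k' hkk' t) * monoGL σ c =
      (sG k k' * b' * sG k k') * (sG k k' * xGL k k' hkk' t * monoGL σ c) := by
    have := sG_mul_self (F := F) k k'
    calc sG k k' * (b' * xGL k k' hkk' t) * monoGL σ c
        = sG k k' * b' * 1 * xGL k k' hkk' t * monoGL σ c := by group
      _ = sG k k' * b' * (sG k k' * sG k k') * xGL k k' hkk' t * monoGL σ c := by rw [this]
      _ = _ := by group
  rw [e1]
  rcases lt_or_gt_of_ne hne with hlt | hgt
  · -- the root stays positive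
    left
    rw [DoubleCoset.mem_doubleCoset]
    refine ⟨sG k k' * b' * sG k k', hconj, _, xGL_mem_Bup hlt (t * c (σ⁻¹ k') / c (σ⁻¹ k)), ?_⟩
    rw [mul_assoc (sG k k') (xGL k k' hkk' t), xGL_mul_monoGL]
    group
  · by_cases ht : t = 0
    · left
      rw [DoubleCoset.mem_doubleCoset]
      refine ⟨sG k k' * b' * sG k k', hconj, 1, Subgroup.one_mem _, ?_⟩
      rw [ht, xGL_zero]
      group
    · right
      rw [DoubleCoset.mem_doubleCoset]
      have hr := rank_one_mem_Bup hk hkk' ht
      refine ⟨sG k k' * b' * sG k k' * (sG k k' * xGL k k' hkk' t * xGL k' k hkk'.symm (-t⁻¹)),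
        Subgroup.mul_mem _ hconj hr, _,
        xGL_mem_Bup hgt (t⁻¹ * c (σ⁻¹ k) / c (σ⁻¹ k')), ?_⟩
      have e2 : sG k k' * xGL k k' hkk' t * monoGL σ c =
          (sG k k' * xGL k k' hkk' t * xGL k' k hkk'.symm (-t⁻¹)) *
            (xGL k' k hkk'.symm (t⁻¹) * monoGL σ c) := by
        have : xGL k' k hkk'.symm (-t⁻¹) * xGL k' k hkk'.symm (t⁻¹) = 1 := by
          rw [xGL_mul, neg_add_cancel, xGL_zero]
        calc sG k k' * xGL k k' hkk' t * monoGL σ c
            = sG k k' * xGL k k' hkk' t * 1 * monoGL σ c := by group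
          _ = sG k k' * xGL k k' hkk' t *
                (xGL k' k hkk'.symm (-t⁻¹) * xGL k' k hkk'.symm (t⁻¹)) * monoGL σ c := by rw [this]
          _ = _ := by group
      rw [e2, xGL_mul_monoGL]
      group

end adjacent

end Cfsg.Agent.Lib.Helper6.GLBN
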