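/-
helper6: the (B,N)-pair of `GL_n(F)`.
-/
import Mathlib
import Cfsg.Prelude.Def_LieExceptional
import Cfsg.Agent.Lib.Helper6.GLBNC

set_option autoImplicit false

namespace Cfsg.Agent.Lib.Helper6.GLBN

open Matrix Equiv

variable {n : ℕ} {F : Type*} [Field F]

/-- a permutation of `Fin n` with `σ j ≤ j` for all `j` is the identity -/
theorem perm_eq_one_of_le {σ : Perm (Fin n)} (h : ∀ j, σ j ≤ j) : σ = 1 := by
  ext j
  rw [Perm.one_apply]
  have key : ∀ m : ℕ, ∀ j : Fin n, j.val = m → σ j = j := by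
    intro m
    induction m using Nat.strong_induction_on with
    | _ m ih =>
      intro j hj
      rcases lt_or_eq_of_le (h j) with hlt | heq
      · exfalso
        have h1 : σ (σ j) = σ j := ih (σ j).val (by rw [← hj]; exact hlt) (σ j) rfl
        have h2 : σ j = j := σ.injective h1
        rw [h2] at hlt
        exact lt_irrefl _ hlt
      · exact heq
  rw [key j.val j rfl]

theorem monoGL_mem_Bup_iff (σ : Perm (Fin n)) (c : Fin n → Fˣ) :
    (monoGL σ c : GL (Fin n) F) ∈ Bup n F ↔ σ = 1 := by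
  constructor
  · intro h
    apply perm_eq_one_of_le
    intro j
    by_contra hlt
    rw [not_le] at hlt
    have := (mem_Bup.mp h) (σ j) j hlt
    rw [coe_monoGL, mono_apply, if_pos rfl] at this
    exact (c j).ne_zero this
  · rintro rfl
    rw [mem_Bup]
    intro i j hji
    rw [coe_monoGL, mono_apply, Perm.one_apply, if_neg (ne_of_gt hji)]

theorem Bup_inf_mono : Bup n F ⊓ monoSubgroup n F = diagSubgroup n F := by
  ext g
  rw [Subgroup.mem_inf]
  constructor
  · rintro ⟨hB, σ, c, rfl⟩
    have := (monoGL_mem_Bup_iff σ c).mp hB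
    subst this
    exact ⟨c, rfl⟩
  · rintro ⟨c, rfl⟩
    exact ⟨(monoGL_mem_Bup_iff 1 c).mpr rfl, 1, c, rfl⟩

theorem monoGL_mem_diag_iff (σ : Perm (Fin n)) (c : Fin n → Fˣ) :
    (monoGL σ c : GL (Fin n) F) ∈ diagSubgroup n F ↔ σ = 1 := by
  rw [← Bup_inf_mono, Subgroup.mem_inf, monoGL_mem_Bup_iff]
  exact ⟨fun h => h.1, fun h => ⟨h, σ, c, rfl⟩⟩

/-- the distinguished generators: the permutation matrices of the adjacent transpositions -/
def simpleSet (n : ℕ) (F : Type*) [Field F] : Set (GL (Fin n) F) :=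
  {g | ∃ k k' : Fin n, k'.val = k.val + 1 ∧ g = sG k k'}

/-- adjacent transpositions generate the symmetric group -/
theorem perm_closure (n : ℕ) :
    Subgroup.closure {τ : Perm (Fin n) | ∃ k k' : Fin n, k'.val = k.val + 1 ∧ τ = swap k k'} = ⊤ := by
  cases n with
  | zero =>
    rw [eq_top_iff]
    intro σ _
    have : σ = 1 := Subsingleton.elim _ _
    rw [this]
    exact Subgroup.one_mem _
  | succ m =>
    rw [eq_top_iff]
    have h := Equiv.Perm.mclosure_swap_castSucc_succ m
    intro σ _
    have hσ : σ ∈ Submonoid.closure (Set.range fun i : Fin m ↦ swap i.castSucc i.succ) := by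
      rw [h]; exact Submonoid.mem_top _
    refine Submonoid.closure_induction (motive := fun τ _ => τ ∈ Subgroup.closure
      {τ : Perm (Fin (m + 1)) | ∃ k k' : Fin (m + 1), k'.val = k.val + 1 ∧ τ = swap k k'})
      ?_ ?_ ?_ hσ
    · rintro _ ⟨i, rfl⟩
      apply Subgroup.subset_closure
      exact ⟨i.castSucc, i.succ, by simp, rfl⟩
    · exact Subgroup.one_mem _
    · intro x y _ _ hx hy
      exact Subgroup.mul_mem _ hx hy

/-- permutation matrices, as a homomorphism -/
def permGL (n : ℕ) (F : Type*) [Field F] : Perm (Fin n) →* GL (Fin n) F where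
  toFun σ := monoGL σ (fun _ => 1)
  map_one' := monoGL_one
  map_mul' σ τ := by
    rw [monoGL_mul]
    congr 1
    funext j; simp

theorem permGL_apply (σ : Perm (Fin n)) : permGL n F σ = monoGL σ (fun _ => 1) := rfl

theorem permGL_swap (k k' : Fin n) : permGL n F (swap k k') = sG k k' := rfl

theorem permGL_mem_closure (σ : Perm (Fin n)) :
    permGL n F σ ∈ Subgroup.closure (simpleSet n F) := by
  have hσ : σ ∈ Subgroup.closure
      {τ : Perm (Fin n) | ∃ k k' : Fin n, k'.val = k.val + 1 ∧ τ = swap k k'} := by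
    rw [perm_closure]; exact Subgroup.mem_top _
  have := Subgroup.mem_map_of_mem (permGL n F) hσ
  rw [MonoidHom.map_closure] at this
  refine Subgroup.closure_mono ?_ this
  rintro _ ⟨τ, ⟨k, k', hk, rfl⟩, rfl⟩
  exact ⟨k, k', hk, rfl⟩

theorem monoGL_eq_mul (σ : Perm (Fin n)) (c : Fin n → Fˣ) :
    (monoGL σ c : GL (Fin n) F) = permGL n F σ * monoGL 1 c := by
  rw [permGL_apply, monoGL_mul]
  congr 1
  funext j; simp

theorem closure_simple_sup :
    Subgroup.closure (simpleSet n F) ⊔ (Bup n F ⊓ monoSubgroup n F) = monoSubgroup n F := by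
  apply le_antisymm
  · apply sup_le
    · rw [Subgroup.closure_le]
      rintro _ ⟨k, k', _, rfl⟩
      exact sG_mem_mono k k'
    · exact inf_le_right
  · rintro _ ⟨σ, c, rfl⟩
    rw [monoGL_eq_mul]
    apply Subgroup.mul_mem
    · exact Subgroup.mem_sup_left (permGL_mem_closure σ)
    · apply Subgroup.mem_sup_right
      rw [Bup_inf_mono]
      exact ⟨c, rfl⟩

theorem diagonal_eq_mono (D : Fin n → F) : Matrix.diagonal D = mono 1 D := by
  ext i j
  rw [mono_apply, Perm.one_apply, Matrix.diagonal_apply]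
  by_cases h : i = j
  · subst h; rw [if_pos rfl]
  · rw [if_neg h, if_neg h]

theorem Bup_sup_mono : Bup n F ⊔ monoSubgroup n F = ⊤ := by
  rw [eq_top_iff]
  intro g _
  have hdet : (g : Matrix (Fin n) (Fin n) F).det ≠ 0 :=
    ((Matrix.isUnit_iff_isUnit_det _).mp g.isUnit).ne_zero
  have key : ∀ g' : GL (Fin n) F, (g' : Matrix (Fin n) (Fin n) F) = (g : Matrix (Fin n) (Fin n) F) →
      g' ∈ Bup n F ⊔ monoSubgroup n F := by
    refine Matrix.diagonal_transvection_induction_of_det_ne_zero
      (fun M => ∀ g' : GL (Fin n) F, (g' : Matrix (Fin n) (Fin n) F) = M →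
        g' ∈ Bup n F ⊔ monoSubgroup n F) _ hdet ?_ ?_ ?_
    · intro D hD g' hg'
      apply Subgroup.mem_sup_right
      have hD' : ∀ j, D j ≠ 0 := by
        intro j hj
        apply hD
        rw [Matrix.det_diagonal]
        exact Finset.prod_eq_zero (Finset.mem_univ j) hj
      refine ⟨1, fun j => Units.mk0 (D j) (hD' j), ?_⟩
      apply Units.ext
      rw [hg', coe_monoGL, diagonal_eq_mono]
      rfl
    · intro t g' hg'
      have hg'' : g' = xGL t.i t.j t.hij t.c := by
        apply Units.ext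
        rw [hg', coe_xGL]
        rfl
      rw [hg'']
      rcases lt_or_gt_of_ne t.hij with hlt | hgt
      · exact Subgroup.mem_sup_left (xGL_mem_Bup hlt _)
      · have h1 := xGL_mul_monoGL (F := F) (swap t.i t.j) (fun _ => 1) t.i t.j t.hij t.c
        have h2 : xGL t.i t.j t.hij t.c = monoGL (swap t.i t.j) (fun _ => (1 : Fˣ)) *
            xGL ((swap t.i t.j)⁻¹ t.i) ((swap t.i t.j)⁻¹ t.j)
              (fun h => t.hij ((swap t.i t.j)⁻¹.injective h)) (t.c * ((1 : Fˣ) : F) / ((1 : Fˣ) : F)) *
            (monoGL (swap t.i t.j) (fun _ => (1 : Fˣ)))⁻¹ := by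
          rw [← h1]; group
        rw [h2]
        apply Subgroup.mul_mem
        · apply Subgroup.mul_mem
          · exact Subgroup.mem_sup_right ⟨_, _, rfl⟩
          · apply Subgroup.mem_sup_left
            have e1 : (swap t.i t.j)⁻¹ t.i = t.j := by rw [swap_inv, swap_apply_left]
            have e2 : (swap t.i t.j)⁻¹ t.j = t.i := by rw [swap_inv, swap_apply_right]
            have : ∀ (p q : Fin n) (hpq : p ≠ q) (c : F), p = t.j → q = t.i →
                xGL p q hpq c ∈ Bup n F := by
              rintro p q hpq c rfl rfl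
              exact xGL_mem_Bup hgt c
            exact this _ _ _ _ e1 e2
        · exact Subgroup.inv_mem _ (Subgroup.mem_sup_right ⟨_, _, rfl⟩)
    · intro A B hA hB ihA ihB g' hg'
      have : g' = Matrix.GeneralLinearGroup.mkOfDetNeZero A hA *
          Matrix.GeneralLinearGroup.mkOfDetNeZero B hB := by
        apply Units.ext
        rw [hg', Units.val_mul]
        rfl
      rw [this]
      exact Subgroup.mul_mem _ (ihA _ rfl) (ihB _ rfl)
  exact key g rfl

/-- the `(B,N)`-pair of `GL_n(F)` -/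
def glBN (n : ℕ) (F : Type*) [Field F] : Cfsg.BNPair (GL (Fin n) F) where
  B := Bup n F
  N := monoSubgroup n F
  S := simpleSet n F
  sup_eq_top := Bup_sup_mono
  conj_mem := by
    intro m hm t ht
    rw [Bup_inf_mono] at ht
    obtain ⟨σ, c, rfl⟩ := hm
    obtain ⟨d, rfl⟩ := ht
    rw [monoGL_inv, monoGL_mul, monoGL_mul, monoGL_mem_Bup_iff]
    simp
  subset := by
    rintro _ ⟨k, k', _, rfl⟩
    exact sG_mem_mono k k'
  sq_mem := by
    rintro _ ⟨k, k', _, rfl⟩
    rw [sG_mul_self]
    exact Subgroup.one_mem _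
  inj := by
    rintro _ ⟨k, k', _, rfl⟩ _ ⟨l, l', _, rfl⟩ h
    rw [sG_inv] at h
    unfold sG at h ⊢
    rw [monoGL_mul, monoGL_mem_Bup_iff] at h
    have : swap k k' = swap l l' := by
      have h' := congrArg (fun τ => swap k k' * τ) h
      simp only [mul_one, ← mul_assoc, Equiv.swap_mul_self, one_mul] at h'
      exact h'.symm
    rw [this]
  closure_sup := closure_simple_sup
  mul_mem_union := by
    rintro _ ⟨k, k', hk, rfl⟩ m hm b hb
    exact main_axiom hk hm hb
  conj_ne := by
    rintro _ ⟨k, k', hk, rfl⟩ h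
    have hkk' : k ≠ k' := by
      intro h; rw [h] at hk; omega
    have hlt : k < k' := by rw [Fin.lt_def]; omega
    have hx : xGL k k' hkk' (1 : F) ∈ Bup n F := xGL_mem_Bup hlt 1
    have hmem : sG k k' * xGL k k' hkk' (1 : F) * sG k k' ∈ (Bup n F : Set (GL (Fin n) F)) := by
      rw [← h]
      exact ⟨_, hx, rfl⟩
    have := (mem_Bup.mp hmem) k' k hlt
    rw [Units.val_mul, Units.val_mul, coe_sG_mul_mul, swap_apply_right, swap_apply_left, coe_xGL,
      transvection_apply', if_neg hkk', if_pos ⟨rfl, rfl⟩, zero_add] at this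
    exact one_ne_zero this

theorem glBN_B : (glBN n F).B = Bup n F := rfl
theorem glBN_N : (glBN n F).N = monoSubgroup n F := rfl
theorem glBN_S : (glBN n F).S = simpleSet n F := rfl

end Cfsg.Agent.Lib.Helper6.GLBN
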