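/-
helper6: the Weyl group of `GL_n(F)` is the symmetric group; the block upper triangular groups
`parabolicGL` are the standard parabolic subgroups, and their Weyl groups are the Young subgroups.
-/
import Mathlib
import Cfsg.Prelude.Def_LinearParabolics
import Cfsg.Agent.Lib.Helper6.GLBND
import Cfsg.Agent.Lib.Helper6.BNRedA

set_option autoImplicit false

namespace Cfsg.Agent.Lib.Helper6.GLBN

open Matrix Equiv Cfsg.Agent.Lib.Helper3.BN Cfsg.Agent.Lib.Helper6.BNSt

variable {n : ℕ} {F : Type*} [Field F]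

theorem permGL_mem_N (σ : Perm (Fin n)) : permGL n F σ ∈ (glBN n F).N := ⟨σ, _, rfl⟩

theorem permGL_mem_Bup_iff (σ : Perm (Fin n)) : permGL n F σ ∈ Bup n F ↔ σ = 1 :=
  monoGL_mem_Bup_iff σ _

/-- the isomorphism from the symmetric group onto the Weyl group of `GL_n(F)` -/
noncomputable def weylHom (n : ℕ) (F : Type*) [Field F] : Perm (Fin n) →* W (glBN n F) where
  toFun σ := mkW (glBN n F) (permGL n F σ) (permGL_mem_N σ)
  map_one' := by
    rw [mkW_eq_one_iff, map_one]
    exact Subgroup.one_mem _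
  map_mul' σ τ := by
    rw [← mkW_mul]
    congr 1
    exact map_mul _ σ τ

theorem weylHom_apply (σ : Perm (Fin n)) :
    weylHom n F σ = mkW (glBN n F) (permGL n F σ) (permGL_mem_N σ) := rfl

theorem weylHom_injective : Function.Injective (weylHom n F) := by
  rw [injective_iff_map_eq_one]
  intro σ h
  rw [weylHom_apply, mkW_eq_one_iff] at h
  exact (permGL_mem_Bup_iff σ).mp h

theorem weylHom_surjective : Function.Surjective (weylHom n F) := by
  intro w
  obtain ⟨m, hm, rfl⟩ := mkW_surj (glBN n F) w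
  obtain ⟨σ, c, hσ⟩ := id hm
  refine ⟨σ, ?_⟩
  rw [weylHom_apply, mkW_eq_iff]
  rw [hσ, monoGL_eq_mul, ← mul_assoc, inv_mul_cancel, one_mul]
  exact (monoGL_mem_Bup_iff 1 c).mpr rfl

/-- the Weyl group of `GL_n(F)` is the symmetric group -/
noncomputable def weylEquiv (n : ℕ) (F : Type*) [Field F] : Perm (Fin n) ≃* W (glBN n F) :=
  MulEquiv.ofBijective (weylHom n F) ⟨weylHom_injective, weylHom_surjective⟩

theorem weylEquiv_apply (σ : Perm (Fin n)) :
    weylEquiv n F σ = mkW (glBN n F) (permGL n F σ) (permGL_mem_N σ) := rfl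

/-- `compLabel` is monotone -/
theorem compLabel_mono (μ : Fin n → ℕ) : Monotone (Cfsg.compLabel μ) := by
  intro i j hij
  unfold Cfsg.compLabel
  apply Finset.card_le_card
  intro k hk
  rw [Finset.mem_filter] at hk ⊢
  refine ⟨hk.1, le_trans hk.2 ?_⟩
  exact hij

theorem Bup_le_parabolicGL (μ : Fin n → ℕ) : Bup n F ≤ Cfsg.parabolicGL n F μ := by
  intro g hg
  change (g : Matrix (Fin n) (Fin n) F).BlockTriangular (Cfsg.compLabel μ)
  intro i j hij
  apply (mem_Bup.mp hg) i j
  by_contra h
  rw [not_lt] at h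
  exact absurd (compLabel_mono μ h) (not_le.mpr hij)

/-- the simple reflections inside `parabolicGL` -/
def Jset (F : Type*) [Field F] (μ : Fin n → ℕ) : Set (GL (Fin n) F) :=
  {s | s ∈ (glBN n F).S ∧ s ∈ Cfsg.parabolicGL n F μ}

theorem Jset_sub (μ : Fin n → ℕ) : Jset F μ ⊆ (glBN n F).S := fun _ h => h.1

/-- the block upper triangular group is a standard parabolic subgroup -/
theorem parabolicGL_eq (μ : Fin n → ℕ) :
    Cfsg.parabolicGL n F μ = (glBN n F).parabolic (Jset F μ) :=
  subgroup_eq_parabolic (glBN n F) _ (Bup_le_parabolicGL μ)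

/-- a permutation that does not increase a labelling preserves it -/
theorem perm_label_eq {σ : Perm (Fin n)} {f : Fin n → ℕ} (h : ∀ j, f (σ j) ≤ f j) (j : Fin n) :
    f (σ j) = f j := by
  by_contra hne
  have hlt : f (σ j) < f j := lt_of_le_of_ne (h j) hne
  have h1 : ∑ i, f (σ i) < ∑ i, f i :=
    Finset.sum_lt_sum (fun i _ => h i) ⟨j, Finset.mem_univ j, hlt⟩
  rw [Equiv.sum_comp σ f] at h1
  exact lt_irrefl _ h1

theorem permGL_mem_parabolicGL_iff (μ : Fin n → ℕ) (σ : Perm (Fin n)) :
    permGL n F σ ∈ Cfsg.parabolicGL n F μ ↔ σ ∈ Cfsg.youngSubgroup μ := by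
  constructor
  · intro h
    have h' : ((permGL n F σ : GL (Fin n) F) : Matrix (Fin n) (Fin n) F).BlockTriangular
        (Cfsg.compLabel μ) := h
    have hle : ∀ j, Cfsg.compLabel μ (σ j) ≤ Cfsg.compLabel μ j := by
      intro j
      by_contra hlt
      rw [not_le] at hlt
      have := h' hlt
      rw [permGL_apply, coe_monoGL, mono_apply, if_pos rfl] at this
      exact (1 : Fˣ).ne_zero this
    intro j
    exact perm_label_eq hle j
  · intro h
    change ((permGL n F σ : GL (Fin n) F) : Matrix (Fin n) (Fin n) F).BlockTriangular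
        (Cfsg.compLabel μ)
    intro i j hij
    rw [permGL_apply, coe_monoGL, mono_apply, if_neg]
    rintro rfl
    rw [h j] at hij
    exact lt_irrefl _ hij

/-- the Weyl group of the parabolic `parabolicGL n F μ` is the Young subgroup -/
theorem weylEquiv_mem_WJ_iff (μ : Fin n → ℕ) (σ : Perm (Fin n)) :
    weylEquiv n F σ ∈ WJ (glBN n F) (Jset F μ) ↔ σ ∈ Cfsg.youngSubgroup μ := by
  rw [← permGL_mem_parabolicGL_iff (F := F), parabolicGL_eq]
  constructor
  · intro h
    obtain ⟨m, hm, hmk⟩ := exists_lift (glBN n F) (Jset_sub μ) h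
    rw [weylEquiv_apply, mkW_eq_iff] at hmk
    have h1 : m ∈ (glBN n F).parabolic (Jset F μ) := closure_le_parabolic _ _ hm
    have h2 : m⁻¹ * permGL n F σ ∈ (glBN n F).parabolic (Jset F μ) := B_le_parabolic _ _ hmk
    have : permGL n F σ = m * (m⁻¹ * permGL n F σ) := by group
    rw [this]
    exact Subgroup.mul_mem _ h1 h2
  · intro h
    exact mem_closure_Jbar_of_mem (glBN n F) (Jset_sub μ) h (self_mem_C _ (permGL_mem_N σ))

end Cfsg.Agent.Lib.Helper6.GLBN
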