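/-
helper6: the (B,N)-pair of `GL_n(F)`: the antidiagonal permutation matrix represents the longest
element of the Weyl group, and `B ∩ n₀ B n₀⁻¹` is the diagonal torus.
-/
import Mathlib
import Cfsg.Agent.Lib.Helper6.GLBNE
import Cfsg.Agent.Lib.Helper6.BNResA

set_option autoImplicit false

namespace Cfsg.Agent.Lib.Helper6.GLSt

open Matrix Equiv Cfsg Cfsg.Agent.Lib.Helper3.BN Cfsg.Agent.Lib.Helper6.BNSt
  Cfsg.Agent.Lib.Helper6.GLBN

variable {n : ℕ} {F : Type*} [Field F]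

/-- the antidiagonal permutation matrix -/
def n0 (n : ℕ) (F : Type*) [Field F] : GL (Fin n) F := permGL n F Fin.revPerm

theorem n0_mem_N : n0 n F ∈ (glBN n F).N := permGL_mem_N _

theorem revPerm_inv : (Fin.revPerm : Perm (Fin n))⁻¹ = Fin.revPerm := by
  ext i
  rw [Perm.inv_def, Fin.revPerm_symm]

theorem n0_inv : (n0 n F)⁻¹ = n0 n F := by
  unfold n0
  rw [← map_inv, revPerm_inv]

theorem n0_eq : n0 n F = monoGL Fin.revPerm (fun _ => 1) := rfl

theorem coe_n0_conj (A : Matrix (Fin n) (Fin n) F) (i j : Fin n) :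
    (((n0 n F : GL (Fin n) F) : Matrix (Fin n) (Fin n) F) * A *
      ((n0 n F : GL (Fin n) F) : Matrix (Fin n) (Fin n) F)) i j = A i.rev j.rev := by
  rw [n0_eq, coe_monoGL, mul_mono_apply, mono_mul_apply]
  simp

/-- the antidiagonal permutation matrix represents the longest element -/
theorem mkW_n0 [Finite F] : mkW (glBN n F) (n0 n F) n0_mem_N = w0 (glBN n F) := by
  have : Finite (GL (Fin n) F) :=
    Finite.of_injective (fun g : GL (Fin n) F => (g : Matrix (Fin n) (Fin n) F)) Units.val_injective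
  apply mkW_eq_w0_of_exists
  rintro _ ⟨k, k', hk, rfl⟩
  have hkk' : k ≠ k' := by
    intro h; rw [h] at hk; omega
  have hlt : k < k' := by rw [Fin.lt_def]; omega
  refine ⟨xGL k k' hkk' 1 * n0 n F, ?_, ?_⟩
  · rw [mem_C_mk, mem_dc]
    exact ⟨xGL k k' hkk' 1, xGL_mem_Bup hlt 1, 1, Subgroup.one_mem _, by rw [mul_one]⟩
  · rw [mem_C_mk, mem_dc]
    have hr := rank_one_mem_Bup (F := F) hk hkk' (t := 1) one_ne_zero
    have hrev : (Fin.revPerm : Perm (Fin n))⁻¹ k' < (Fin.revPerm : Perm (Fin n))⁻¹ k := by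
      rw [revPerm_inv, Fin.revPerm_apply, Fin.revPerm_apply, Fin.rev_lt_rev]
      exact hlt
    refine ⟨sG k k' * xGL k k' hkk' 1 * xGL k' k hkk'.symm (-(1 : F)⁻¹), hr, _,
      xGL_mem_Bup hrev ((1 : F)⁻¹ * ((1 : Fˣ) : F) / ((1 : Fˣ) : F)), ?_⟩
    have e2 : sG k k' * (xGL k k' hkk' 1 * n0 n F) =
        (sG k k' * xGL k k' hkk' 1 * xGL k' k hkk'.symm (-(1 : F)⁻¹)) *
          (xGL k' k hkk'.symm ((1 : F)⁻¹) * n0 n F) := by
      have : xGL k' k hkk'.symm (-(1 : F)⁻¹) * xGL k' k hkk'.symm ((1 : F)⁻¹) = 1 := by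
        rw [xGL_mul, neg_add_cancel, xGL_zero]
      calc sG k k' * (xGL k k' hkk' 1 * n0 n F)
          = sG k k' * xGL k k' hkk' 1 * 1 * n0 n F := by group
        _ = sG k k' * xGL k k' hkk' 1 *
              (xGL k' k hkk'.symm (-(1 : F)⁻¹) * xGL k' k hkk'.symm ((1 : F)⁻¹)) * n0 n F := by
            rw [this]
        _ = _ := by group
    rw [e2, n0_eq, xGL_mul_monoGL]
    group

/-- `B ∩ n₀ B n₀⁻¹`, as a subgroup of `B`, consists of the diagonal matrices -/
theorem mem_BStab_n0 (b : (glBN n F).B) :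
    b ∈ BStab (glBN n F) (n0 n F) ↔
      ∀ i j : Fin n, i ≠ j → ((b : GL (Fin n) F) : Matrix (Fin n) (Fin n) F) i j = 0 := by
  rw [mem_BStab, n0_inv]
  have hb : (b : GL (Fin n) F) ∈ Bup n F := b.2
  show n0 n F * (b : GL (Fin n) F) * n0 n F ∈ Bup n F ↔ _
  rw [mem_Bup]
  constructor
  · intro h i j hij
    rcases lt_or_gt_of_ne hij with hlt | hgt
    · have := h i.rev j.rev (Fin.rev_lt_rev.mpr hlt)
      rw [Units.val_mul, Units.val_mul, coe_n0_conj, Fin.rev_rev, Fin.rev_rev] at this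
      exact this
    · exact (mem_Bup.mp hb) i j hgt
  · intro h i j hji
    rw [Units.val_mul, Units.val_mul, coe_n0_conj]
    apply h
    intro he
    rw [Fin.rev_inj] at he
    exact (ne_of_gt hji) he

/-- the stabiliser attached to the longest element -/
theorem BStab_w0_eq [Finite F] :
    BStab (glBN n F) (repW (glBN n F) (w0 (glBN n F))) = BStab (glBN n F) (n0 n F) := by
  apply BStab_congr_mkW (glBN n F) (repW_mem _ _) n0_mem_N
  rw [mkW_repW, mkW_n0]

/-- diagonal entries are multiplicative on upper triangular matrices -/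
theorem Bup_mul_diag {a b : GL (Fin n) F} (ha : a ∈ Bup n F) (hb : b ∈ Bup n F) (i : Fin n) :
    ((a * b : GL (Fin n) F) : Matrix (Fin n) (Fin n) F) i i =
      (a : Matrix (Fin n) (Fin n) F) i i * (b : Matrix (Fin n) (Fin n) F) i i := by
  rw [Units.val_mul, Matrix.mul_apply, Finset.sum_eq_single i]
  · intro k _ hk
    rcases lt_or_gt_of_ne hk with h | h
    · rw [(mem_Bup.mp ha) i k h, zero_mul]
    · rw [(mem_Bup.mp hb) k i h, mul_zero]
  · intro h
    exact absurd (Finset.mem_univ i) h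

theorem Bup_inv_diag {a : GL (Fin n) F} (ha : a ∈ Bup n F) (i : Fin n) :
    ((a⁻¹ : GL (Fin n) F) : Matrix (Fin n) (Fin n) F) i i * (a : Matrix (Fin n) (Fin n) F) i i = 1 := by
  rw [← Bup_mul_diag (Subgroup.inv_mem _ ha) ha, inv_mul_cancel, Units.val_one, Matrix.one_apply_eq]

end Cfsg.Agent.Lib.Helper6.GLSt
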