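/-
helper6: the blocks do not depend on the choice of the maximal ideal over `p`
(Galois conjugacy of the primes of a cyclotomic field over `p`, together with the action of the
Galois group on character values by power maps).
-/
import Mathlib
import Cfsg.Agent.Lib.Lead.GalChar
import Cfsg.Agent.Lib.Helper6.DefectOrder
import Cfsg.Agent.Lib.Helper24.LocalRing

set_option autoImplicit false

namespace Cfsg.Agent.Lib.Helper6

open Cfsg Cfsg.Agent.CharLib Cfsg.Agent.Lib.Helper24
open NumberField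
open scoped Pointwise

universe u

/-- The centralizer of a power `g ^ k` with `k` prime to the order of `g` is that of `g`. -/
theorem centralizer_pow_eq_of_coprime {G : Type u} [Group G] (g : G) (k : ℕ)
    (hk : k.Coprime (orderOf g)) :
    Subgroup.centralizer ({g ^ k} : Set G) = Subgroup.centralizer {g} := by
  obtain ⟨m, hm⟩ := exists_pow_eq_self_of_coprime hk
  ext h
  simp only [Subgroup.mem_centralizer_singleton_iff]
  constructor
  · intro h1
    have h2 : Commute h (g ^ k) := h1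
    have h3 := h2.pow_right m
    rw [hm] at h3
    exact h3
  · intro h1
    have h2 : Commute h g := h1
    exact h2.pow_right k

section

variable (N : ℕ) [NeZero N] (K : Type) [Field K] [NumberField K] [IsCyclotomicExtension {N} ℚ K]

/-- The ring of integers of a number field maps to the ring of all algebraic integers along a
complex embedding. -/
noncomputable def toAlgInt (φ : K →+* ℂ) : 𝓞 K →+* AlgInt :=
  (φ.comp (algebraMap (𝓞 K) K)).codRestrict AlgInt
    (fun x => map_isIntegral_int φ (RingOfIntegers.isIntegral_coe x))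

omit [NumberField K] in
theorem coe_toAlgInt [NumberField K] (φ : K →+* ℂ) (x : 𝓞 K) :
    ((toAlgInt K φ x : AlgInt) : ℂ) = φ (x : K) := rfl

end

section main

variable {G : Type u} [Group G] [Finite G]

theorem sameBlock_indep_aux (N : ℕ) [NeZero N] (K : Type) [Field K] [NumberField K]
    [IsCyclotomicExtension {N} ℚ K] (φ : K →+* ℂ) (hN : ∀ g : G, g ^ N = 1)
    {p : ℕ} [hp : Fact p.Prime] {M M' : Ideal AlgInt} (hM : IsPModular p M)
    (hM' : IsPModular p M') (χ ψ : IrrCharacter G)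
    (h : SameBlock M (χ : G → ℂ) (ψ : G → ℂ)) (g : G) :
    ∃ r : AlgInt, r ∈ M' ∧
      (r : ℂ) = centralChar (χ : G → ℂ) g - centralChar (ψ : G → ℂ) g := by
  classical
  let _ : Fintype G := Fintype.ofFinite G
  have hMprime : M.IsPrime := hM.2.1.isPrime
  have hM'prime : M'.IsPrime := hM'.2.1.isPrime
  have hgal : IsGalois ℚ K := IsCyclotomicExtension.isGalois {N} ℚ K
  set ι := toAlgInt K φ with hι
  set P : Ideal (𝓞 K) := M.comap ι with hP
  set P' : Ideal (𝓞 K) := M'.comap ι with hP'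
  have hPprime : P.IsPrime := Ideal.comap_isPrime ι M
  have hP'prime : P'.IsPrime := Ideal.comap_isPrime ι M'
  have hpZ : (Ideal.span {(p : ℤ)}).IsMaximal :=
    PrincipalIdealRing.isMaximal_of_irreducible
      (Nat.prime_iff_prime_int.mp hp.out).irreducible
  have hover : ∀ (Q : Ideal AlgInt), Q.IsPrime → (p : AlgInt) ∈ Q →
      (Q.comap ι).LiesOver (Ideal.span {(p : ℤ)}) := by
    intro Q hQ hpQ
    constructor
    apply hpZ.eq_of_le
    · have : (Q.comap ι).IsPrime := Ideal.comap_isPrime ι Q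
      exact (Ideal.comap_isPrime (algebraMap ℤ (𝓞 K)) (Q.comap ι)).ne_top
    · rw [Ideal.span_le]
      intro x hx
      rw [Set.mem_singleton_iff] at hx
      subst hx
      show ι (algebraMap ℤ (𝓞 K) (p : ℤ)) ∈ Q
      rw [map_natCast, map_natCast]
      exact hpQ
  have hPover : P.LiesOver (Ideal.span {(p : ℤ)}) := hover M hMprime hM.2.2
  have hP'over : P'.LiesOver (Ideal.span {(p : ℤ)}) := hover M' hM'prime hM'.2.2
  obtain ⟨σ, hσ⟩ : ∃ σ : K ≃ₐ[ℚ] K, σ • P = P' :=
    Ideal.exists_smul_eq_of_isGaloisGroup (Ideal.span {(p : ℤ)}) P P' (K ≃ₐ[ℚ] K)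
  obtain ⟨n1, ρ1, hρ1, hχ⟩ := χ.2
  obtain ⟨n2, ρ2, hρ2, hψ⟩ := ψ.2
  obtain ⟨x1, hx1int, hx1, hx1σ⟩ := exists_cyclotomic_charVal N K φ ρ1 g (hN g)
  obtain ⟨x2, hx2int, hx2, hx2σ⟩ := exists_cyclotomic_charVal N K φ ρ2 g (hN g)
  set c : ℕ := (Subgroup.centralizer ({g} : Set G)).index with hc
  set m1 : ℕ := Module.finrank ℂ (Fin n1 → ℂ) with hm1
  set m2 : ℕ := Module.finrank ℂ (Fin n2 → ℂ) with hm2
  set d : K := (c : K) * x1 / (m1 : K) - (c : K) * x2 / (m2 : K) with hd
  have hχ1 : (χ : G → ℂ) 1 = (m1 : ℂ) := by rw [← hχ, Representation.char_one]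
  have hψ1 : (ψ : G → ℂ) 1 = (m2 : ℂ) := by rw [← hψ, Representation.char_one]
  have hφd : φ d = centralChar (χ : G → ℂ) g - centralChar (ψ : G → ℂ) g := by
    rw [hd, map_sub, map_div₀, map_div₀, map_mul, map_mul, map_natCast, map_natCast,
      map_natCast, hx1, hx2]
    unfold centralChar
    rw [hχ1, hψ1, hχ, hψ]
  have hcop : ∀ τ : K ≃ₐ[ℚ] K, (galExp N K τ).Coprime (orderOf g) :=
    fun τ => (galExp_coprime N K τ).coprime_dvd_right (orderOf_dvd_of_pow_eq_one (hN g))
  have hφσd : ∀ τ : K ≃ₐ[ℚ] K, φ (τ d) =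
      centralChar (χ : G → ℂ) (g ^ galExp N K τ) - centralChar (ψ : G → ℂ) (g ^ galExp N K τ) := by
    intro τ
    rw [hd, map_sub, map_div₀, map_div₀, map_mul, map_mul, map_natCast, map_natCast,
      map_natCast, map_sub, map_div₀, map_div₀, map_mul, map_mul, map_natCast, map_natCast,
      map_natCast, hx1σ, hx2σ]
    unfold centralChar
    rw [centralizer_pow_eq_of_coprime g _ (hcop τ), hχ1, hψ1, hχ, hψ]
  have hdint : IsIntegral ℤ d := by
    have h1 : IsIntegral ℤ (φ d) := by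
      rw [hφd]
      exact (isIntegral_centralChar χ g).sub (isIntegral_centralChar ψ g)
    exact (isIntegral_algHom_iff φ.toIntAlgHom φ.injective).mp h1
  set d' : 𝓞 K := ⟨d, hdint⟩ with hd'
  have hd'mem : d' ∈ P' := by
    rw [← hσ, Ideal.mem_pointwise_smul_iff_inv_smul_mem]
    show ι (σ⁻¹ • d') ∈ M
    rw [← memLocalIdeal_coe_iff]
    have h1 : ((ι (σ⁻¹ • d') : AlgInt) : ℂ) = φ (σ⁻¹ d) := rfl
    rw [h1, hφσd σ⁻¹]
    exact h _
  refine ⟨ι d', hd'mem, ?_⟩
  show φ d = _
  exact hφd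

/-- **The blocks do not depend on the maximal ideal over `p`.** -/
theorem sameBlock_indep {p : ℕ} [hp : Fact p.Prime] {M M' : Ideal AlgInt} (hM : IsPModular p M)
    (hM' : IsPModular p M') (χ ψ : IrrCharacter G)
    (h : SameBlock M (χ : G → ℂ) (ψ : G → ℂ)) (g : G) :
    ∃ r : AlgInt, r ∈ M' ∧
      (r : ℂ) = centralChar (χ : G → ℂ) g - centralChar (ψ : G → ℂ) g := by
  haveI : NeZero (Nat.card G) := ⟨Nat.card_pos.ne'⟩
  have φ : CyclotomicField (Nat.card G) ℚ →+* ℂ := by
    have : Algebra.IsAlgebraic ℚ (CyclotomicField (Nat.card G) ℚ) :=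
      Algebra.IsAlgebraic.of_finite ℚ _
    exact (IsAlgClosed.lift (R := ℚ) (S := CyclotomicField (Nat.card G) ℚ) (M := ℂ)).toRingHom
  have h1 := CyclotomicField.isCyclotomicExtension (Nat.card G) ℚ
  have e : CyclotomicField.algebra (Nat.card G) ℚ = DivisionRing.toRatAlgebra :=
    Subsingleton.elim _ _
  rw [e] at h1
  exact sameBlock_indep_aux (Nat.card G) (CyclotomicField (Nat.card G) ℚ) φ
    (fun g => pow_card_eq_one') hM hM' χ ψ h g

theorem sameBlock_of_sameBlock {p : ℕ} [hp : Fact p.Prime] {M M' : Ideal AlgInt}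
    (hM : IsPModular p M) (hM' : IsPModular p M') (χ ψ : IrrCharacter G)
    (h : SameBlock M (χ : G → ℂ) (ψ : G → ℂ)) : SameBlock M' (χ : G → ℂ) (ψ : G → ℂ) := by
  intro g
  obtain ⟨r, hr, hr2⟩ := sameBlock_indep hM hM' χ ψ h g
  rw [← hr2]
  have : M'.IsPrime := hM'.2.1.isPrime
  exact (memLocalIdeal_coe_iff r).mpr hr

end main

end Cfsg.Agent.Lib.Helper6
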