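import Mathlib

/-!
# Vocabulary for market "PD" (S3611: transitive groups of prime degree, two-point stabilizers)

* `PD.ell e f` : the first moment `Σ_j j * f (e j)` of a function `f : Ω → ZMod p` in coordinates
  `e : ZMod p ≃ Ω`.
* `PD.InvDims p G Ω` : every subspace of `Ω → ZMod p` that is invariant under all precompositions
  `f ↦ (a ↦ f (g • a))` has dimension `0`, `1`, `p - 1` or `p`.
-/

set_option autoImplicit false

namespace Cfsg.Agent.Lib.Helper6.PD

open Module

/-- the first moment of `f` in coordinates `e` -/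
noncomputable def ell {p : ℕ} [NeZero p] {Ω : Type*} (e : ZMod p ≃ Ω) (f : Ω → ZMod p) : ZMod p :=
  ∑ j : ZMod p, j * f (e j)

/-- the only dimensions of subspaces of `Ω → ZMod p` invariant under all precompositions by group
elements are `0`, `1`, `p - 1`, `p` -/
def InvDims (p : ℕ) (G : Type*) (Ω : Type*) [Group G] [MulAction G Ω] : Prop :=
  ∀ W : Submodule (ZMod p) (Ω → ZMod p),
    (∀ g : G, ∀ f ∈ W, (fun a => f (g • a)) ∈ W) →
      finrank (ZMod p) W = 0 ∨ finrank (ZMod p) W = 1 ∨ finrank (ZMod p) W = p - 1 ∨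
        finrank (ZMod p) W = p

end Cfsg.Agent.Lib.Helper6.PD
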