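import Mathlib
import Cfsg.Agent.Lib.Helper6.PDDefs
import Cfsg.Agent.Lib.Helper21.PDKEY
import Cfsg.Agent.Lib.Helper23.PDORB

/-!
# Market "PD" (S3611), leaf PDCORE: at most four orbits

`Ψ : U → Fin 3 → ZMod p`, `f ↦ ![Σ f, ell (f ∘ g₁), ell (f ∘ g₂)]` on the space `U` of `H`-invariant
functions has its kernel inside the constants (PDKEY), so `finrank U ≤ 1 + 3`; PDORB identifies
`finrank U` with the number of `H`-orbits.
-/

set_option autoImplicit false

namespace Cfsg.Agent.Lib.Helper6.PDCORE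

open Module MulAction Cfsg.Agent.Lib.Helper6.PD

/-- `ell e` is additive -/
lemma ell_add {p : ℕ} [NeZero p] {Ω : Type*} (e : ZMod p ≃ Ω) (f g : Ω → ZMod p) :
    ell e (f + g) = ell e f + ell e g := by
  unfold ell
  rw [← Finset.sum_add_distrib]
  exact Finset.sum_congr rfl (fun j _ => by simp [mul_add])

/-- `ell e` is homogeneous -/
lemma ell_smul {p : ℕ} [NeZero p] {Ω : Type*} (e : ZMod p ≃ Ω) (c : ZMod p) (f : Ω → ZMod p) :
    ell e (c • f) = c * ell e f := by
  unfold ell
  rw [Finset.mul_sum]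
  exact Finset.sum_congr rfl (fun j _ => by simp; ring)

set_option linter.dupNamespace false in
/-- **PDCORE**.  At most four orbits. -/
theorem PDCORE {G Ω : Type*} [Group G] [MulAction G Ω] [Fintype Ω] [DecidableEq Ω] {p : ℕ}
    [Fact p.Prime] (hp2 : p ≠ 2) (e : ZMod p ≃ Ω) (hinv : InvDims p G Ω)
    (N : Subgroup G) (hNaff : ∀ n ∈ N, ∃ u b : ZMod p, ∀ j : ZMod p, n • e j = e (u * j + b))
    (H : Subgroup G) (g₁ g₂ : G)
    (hcov : ∀ g : G, ∃ h ∈ H, ∃ n ∈ N, g = h * g₁ * n ∨ g = h * g₂ * n) :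
    Nat.card (MulAction.orbitRel.Quotient H Ω) ≤ 4 := by
  classical
  let U : Submodule (ZMod p) (Ω → ZMod p) :=
    { carrier := {f | ∀ h ∈ H, ∀ a, f (h • a) = f a}
      add_mem' := by
        intro v w hv hw h hh a
        simp only [Pi.add_apply, hv h hh a, hw h hh a]
      zero_mem' := fun _ _ _ => rfl
      smul_mem' := by
        intro c v hv h hh a
        simp only [Pi.smul_apply, hv h hh a] }
  have hUcard := Cfsg.Agent.Lib.Helper23.PDORB.PDORB (ZMod p) H U (fun f => Iff.rfl)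
  rw [← hUcard]
  -- the three functionals
  let tr : G → (Ω → ZMod p) →ₗ[ZMod p] (Ω → ZMod p) := fun g =>
    { toFun := fun v a => v (g • a)
      map_add' := fun _ _ => rfl
      map_smul' := fun _ _ => rfl }
  let ellL : (Ω → ZMod p) →ₗ[ZMod p] ZMod p :=
    { toFun := fun v => ell e v
      map_add' := fun v w => ell_add e v w
      map_smul' := fun c v => by rw [ell_smul]; rfl }
  let sumL : (Ω → ZMod p) →ₗ[ZMod p] ZMod p :=
    { toFun := fun v => ∑ a, v a
      map_add' := fun v w => by simp [Finset.sum_add_distrib]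
      map_smul' := fun c v => by simp [Finset.mul_sum] }
  let Ψ : (Ω → ZMod p) →ₗ[ZMod p] (Fin 3 → ZMod p) :=
    LinearMap.pi ![sumL, ellL.comp (tr g₁), ellL.comp (tr g₂)]
  let Ψ' : U →ₗ[ZMod p] (Fin 3 → ZMod p) := Ψ.domRestrict U
  set C : Submodule (ZMod p) (Ω → ZMod p) := Submodule.span (ZMod p) {fun _ => (1 : ZMod p)}
    with hC
  have hC1 : finrank (ZMod p) C ≤ 1 := by
    rw [hC]
    refine le_trans (finrank_span_le_card ({fun _ => (1 : ZMod p)} : Set (Ω → ZMod p))) ?_
    simp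
  have hker : ∀ v : U, v ∈ LinearMap.ker Ψ' → (v : Ω → ZMod p) ∈ C := by
    intro v hv
    have hv0 : Ψ (v : Ω → ZMod p) = 0 := hv
    have h0 : ∑ a, (v : Ω → ZMod p) a = 0 := congrFun hv0 0
    have h1 : ell e (fun a => (v : Ω → ZMod p) (g₁ • a)) = 0 := congrFun hv0 1
    have h2 : ell e (fun a => (v : Ω → ZMod p) (g₂ • a)) = 0 := congrFun hv0 2
    obtain ⟨c, hc⟩ := Cfsg.Agent.Lib.Helper21.PDKEY.PDKEY hp2 e hinv N hNaff H g₁ g₂ hcov
      (v : Ω → ZMod p) v.2 h0 h1 h2
    rw [hC]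
    apply Submodule.mem_span_singleton.mpr
    refine ⟨c, ?_⟩
    funext a
    rw [hc a]
    simp
  have hkerle : finrank (ZMod p) (LinearMap.ker Ψ') ≤ 1 := by
    let ι : LinearMap.ker Ψ' →ₗ[ZMod p] C :=
      { toFun := fun v => ⟨((v : U) : Ω → ZMod p), hker v.1 v.2⟩
        map_add' := fun _ _ => rfl
        map_smul' := fun _ _ => rfl }
    have hinj : Function.Injective ι := by
      intro v w hvw
      apply Subtype.ext
      apply Subtype.ext
      exact congrArg (fun z : C => (z : Ω → ZMod p)) hvw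
    exact le_trans (LinearMap.finrank_le_finrank_of_injective hinj) hC1
  have hrange : finrank (ZMod p) (LinearMap.range Ψ') ≤ 3 := by
    have := Submodule.finrank_le (LinearMap.range Ψ')
    simpa using this
  have := LinearMap.finrank_range_add_finrank_ker Ψ'
  omega

end Cfsg.Agent.Lib.Helper6.PDCORE
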