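import Mathlib
import Cfsg.Prelude.Def_GeometricClasses
import Cfsg.Agent.Lib.Helper18.AschA89Defs
import Cfsg.Agent.Lib.Helper20.AschA89WR
import Cfsg.Agent.Lib.Helper20.AschA89F2J

/-!
S5641 (C7: `GL_m wr S_t` in `SL_n`, owner helper8), part (Q): the group `G = tensorWreathStandard m t F`.
(Q1) normal form `g = fperm σ * ptens α`; pure vectors `pv xs` and the action of `ptens`, `fperm`, `slot`
on them.  Vocabulary: `slot`, `ptens`, `fperm` of `Helper18.AschA89` (landed with S5630).
-/

set_option autoImplicit false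
set_option linter.unusedSectionVars false
set_option linter.unusedVariables false

namespace Cfsg.Agent.Lib.Helper6.TWQ
open Matrix Cfsg.Geo Cfsg.Agent.Lib.Helper18.AschA89 Cfsg.Agent.Lib.Helper20.AschLeaf

variable {F : Type*} [Field F] {m t : ℕ}

/-! ### pure vectors -/

/-- the pure vector `xs 0 ⊗ ⋯ ⊗ xs (t-1)` -/
def pv (xs : Fin t → Fin m → F) : (Fin t → Fin m) → F := fun z => ∏ i, xs i (z i)

lemma pv_apply (xs : Fin t → Fin m → F) (z : Fin t → Fin m) : pv xs z = ∏ i, xs i (z i) := rfl

/-- a pure tensor of matrices acts factorwise on pure vectors -/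
lemma ptens_mulVec_pv (gs : Fin t → Matrix (Fin m) (Fin m) F) (xs : Fin t → Fin m → F) :
    ptens m t gs *ᵥ pv xs = pv (fun i => gs i *ᵥ xs i) := by
  funext z
  simp only [Matrix.mulVec, dotProduct, pv_apply, ptens_apply]
  rw [Finset.prod_univ_sum, Fintype.piFinset_univ]
  refine Finset.sum_congr rfl fun y _ => ?_
  rw [← Finset.prod_mul_distrib]

/-- a factor permutation permutes the factors of a pure vector -/
lemma fperm_mulVec_pv (σ : Equiv.Perm (Fin t)) (xs : Fin t → Fin m → F) :
    fperm (F := F) m t σ *ᵥ pv xs = pv (fun j => xs (σ.symm j)) := by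
  funext z
  simp only [Matrix.mulVec, dotProduct, pv_apply]
  rw [Finset.sum_eq_single (z ∘ σ)]
  · rw [fperm_apply, if_pos rfl, one_mul]
    simp only [Function.comp_apply]
    rw [← Equiv.prod_comp σ (fun j => xs (σ.symm j) (z j))]
    refine Finset.prod_congr rfl fun i _ => ?_
    rw [Equiv.symm_apply_apply]
  · intro y _ hy
    rw [fperm_apply, if_neg hy, zero_mul]
  · intro h
    exact absurd (Finset.mem_univ _) h

/-- the pairing of two pure vectors -/
lemma pv_dot_pv (φ xs : Fin t → Fin m → F) : pv φ ⬝ᵥ pv xs = ∏ i, φ i ⬝ᵥ xs i := by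
  simp only [dotProduct, pv_apply]
  rw [Finset.prod_univ_sum, Fintype.piFinset_univ]
  refine Finset.sum_congr rfl fun y _ => ?_
  rw [← Finset.prod_mul_distrib]

/-! ### calculus of `ptens`, `fperm`, `slot` -/

/-- moving a factor permutation through a pure tensor -/
lemma ptens_mul_fperm (a : Fin t → Matrix (Fin m) (Fin m) F) (τ : Equiv.Perm (Fin t)) :
    ptens m t a * fperm m t τ = fperm m t τ * ptens m t (fun i => a (τ i)) := by
  ext x z
  have h1 := wr_mul_fperm_apply (F := F) m t τ⁻¹ (ptens m t a) x z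
  rw [inv_inv] at h1
  rw [h1, wr_fperm_mul_apply, ptens_apply, ptens_apply]
  rw [← Equiv.prod_comp τ (fun j => a j (x j) ((z ∘ ((τ⁻¹ : Equiv.Perm (Fin t)) : Fin t → Fin t)) j))]
  refine Finset.prod_congr rfl fun i _ => ?_
  simp

/-- `slot i A` is the pure tensor with `A` at position `i` and `1` elsewhere -/
lemma slot_eq_ptens (i : Fin t) (A : Matrix (Fin m) (Fin m) F) :
    slot m t i A = ptens m t (Function.update (fun _ => (1 : Matrix (Fin m) (Fin m) F)) i A) := by
  ext x y
  rw [slot_apply, ptens_apply]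
  rw [← Finset.mul_prod_erase Finset.univ _ (Finset.mem_univ i)]
  rw [Function.update_self]
  by_cases h : ∀ j, j ≠ i → x j = y j
  · rw [if_pos h]
    rw [Finset.prod_eq_one, mul_one]
    intro j hj
    have hji : j ≠ i := Finset.ne_of_mem_erase hj
    rw [Function.update_of_ne hji, h j hji, Matrix.one_apply_eq]
  · rw [if_neg h]
    push_neg at h
    obtain ⟨j, hji, hxy⟩ := h
    rw [Finset.prod_eq_zero (i := j) (Finset.mem_erase.2 ⟨hji, Finset.mem_univ j⟩), mul_zero]
    rw [Function.update_of_ne hji, Matrix.one_apply_ne hxy]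

/-- `slot i A` acts on the `i`-th factor of a pure vector -/
lemma slot_mulVec_pv (i : Fin t) (A : Matrix (Fin m) (Fin m) F) (xs : Fin t → Fin m → F) :
    slot m t i A *ᵥ pv xs = pv (Function.update xs i (A *ᵥ xs i)) := by
  rw [slot_eq_ptens, ptens_mulVec_pv]
  congr 1
  funext j
  by_cases hj : j = i
  · subst hj
    rw [Function.update_self, Function.update_self]
  · rw [Function.update_of_ne hj, Function.update_of_ne hj, Matrix.one_mulVec]

/-! ### (Q1) the normal form -/

/-- (Q1) every element of the standard tensor-wreath group is a factor permutation times a pure tensor of invertible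
matrices -/
theorem exists_fperm_ptens (g : GL (Fin t → Fin m) F) (hg : g ∈ tensorWreathStandard m t F) :
    ∃ (σ : Equiv.Perm (Fin t)) (gs : Fin t → GL (Fin m) F),
      (g : Matrix (Fin t → Fin m) (Fin t → Fin m) F) =
        fperm m t σ * ptens m t (fun i => ((gs i : GL (Fin m) F) : Matrix (Fin m) (Fin m) F)) := by
  unfold tensorWreathStandard at hg
  induction hg using Subgroup.closure_induction with
  | mem g hg =>
    rcases hg with ⟨gs, hgs⟩ | ⟨σ, hσ⟩
    · refine ⟨1, gs, ?_⟩
      rw [wr_fperm_one, one_mul]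
      ext x y
      rw [hgs, ptens_apply]
    · refine ⟨σ, fun _ => 1, ?_⟩
      have : (fun i : Fin t => (((1 : GL (Fin m) F)) : Matrix (Fin m) (Fin m) F)) = fun _ => 1 := by
        funext i
        rfl
      rw [this, ptens_one, mul_one]
      ext x y
      rw [hσ, fperm_apply]
  | one =>
    refine ⟨1, fun _ => 1, ?_⟩
    have : (fun i : Fin t => (((1 : GL (Fin m) F)) : Matrix (Fin m) (Fin m) F)) = fun _ => 1 := by
      funext i
      rfl
    rw [this, ptens_one, mul_one, wr_fperm_one]
    rfl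
  | mul g₁ g₂ _ _ h₁ h₂ =>
    obtain ⟨σ₁, a, ha⟩ := h₁
    obtain ⟨σ₂, b, hb⟩ := h₂
    refine ⟨σ₁ * σ₂, fun i => a (σ₂ i) * b i, ?_⟩
    rw [Units.val_mul, ha, hb]
    have h3 : (fun i : Fin t => (((a (σ₂ i) * b i : GL (Fin m) F)) : Matrix (Fin m) (Fin m) F)) =
        fun i => ((a (σ₂ i) : GL (Fin m) F) : Matrix (Fin m) (Fin m) F) *
          ((b i : GL (Fin m) F) : Matrix (Fin m) (Fin m) F) := by
      funext i
      rw [Units.val_mul]
    rw [h3, ← ptens_mul, ← wr_fperm_mul]
    calc fperm m t σ₁ * ptens m t (fun i => ((a i : GL (Fin m) F) : Matrix (Fin m) (Fin m) F)) *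
          (fperm m t σ₂ * ptens m t (fun i => ((b i : GL (Fin m) F) : Matrix (Fin m) (Fin m) F)))
        = fperm m t σ₁ * (ptens m t (fun i => ((a i : GL (Fin m) F) : Matrix (Fin m) (Fin m) F)) *
          fperm m t σ₂) * ptens m t (fun i => ((b i : GL (Fin m) F) : Matrix (Fin m) (Fin m) F)) := by
          simp only [mul_assoc]
      _ = fperm m t σ₁ * fperm m t σ₂ *
          (ptens m t (fun i => ((a (σ₂ i) : GL (Fin m) F) : Matrix (Fin m) (Fin m) F)) *
          ptens m t (fun i => ((b i : GL (Fin m) F) : Matrix (Fin m) (Fin m) F))) := by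
          rw [ptens_mul_fperm]
          simp only [mul_assoc]
  | inv g _ h =>
    obtain ⟨σ, a, ha⟩ := h
    refine ⟨σ⁻¹, fun i => (a (σ⁻¹ i))⁻¹, ?_⟩
    have hai : ptens m t (fun i => ((a i : GL (Fin m) F) : Matrix (Fin m) (Fin m) F)) *
        ptens m t (fun i => (((a i)⁻¹ : GL (Fin m) F) : Matrix (Fin m) (Fin m) F)) = 1 := by
      rw [ptens_mul]
      have : (fun i : Fin t => ((a i : GL (Fin m) F) : Matrix (Fin m) (Fin m) F) *
          (((a i)⁻¹ : GL (Fin m) F) : Matrix (Fin m) (Fin m) F)) = fun _ => 1 := by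
        funext i
        rw [← Units.val_mul, mul_inv_cancel, Units.val_one]
      rw [this, ptens_one]
    have hX : (g : Matrix (Fin t → Fin m) (Fin t → Fin m) F) *
        (fperm m t σ⁻¹ * ptens m t
          (fun i => (((a (σ⁻¹ i))⁻¹ : GL (Fin m) F) : Matrix (Fin m) (Fin m) F))) = 1 := by
      have h4 := ptens_mul_fperm (F := F) (m := m)
        (fun i => (((a i)⁻¹ : GL (Fin m) F) : Matrix (Fin m) (Fin m) F)) σ⁻¹
      rw [← h4, ha]
      calc fperm m t σ * ptens m t (fun i => ((a i : GL (Fin m) F) : Matrix (Fin m) (Fin m) F)) *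
            (ptens m t (fun i => (((a i)⁻¹ : GL (Fin m) F) : Matrix (Fin m) (Fin m) F)) *
              fperm m t σ⁻¹)
          = fperm m t σ * (ptens m t (fun i => ((a i : GL (Fin m) F) : Matrix (Fin m) (Fin m) F)) *
            ptens m t (fun i => (((a i)⁻¹ : GL (Fin m) F) : Matrix (Fin m) (Fin m) F))) *
              fperm m t σ⁻¹ := by simp only [mul_assoc]
        _ = 1 := by rw [hai, mul_one, wr_fperm_mul_inv]
    have h5 : ((g⁻¹ : GL (Fin t → Fin m) F) : Matrix (Fin t → Fin m) (Fin t → Fin m) F) =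
        ((g⁻¹ : GL (Fin t → Fin m) F) : Matrix (Fin t → Fin m) (Fin t → Fin m) F) *
          ((g : Matrix (Fin t → Fin m) (Fin t → Fin m) F) *
        (fperm m t σ⁻¹ * ptens m t
          (fun i => (((a (σ⁻¹ i))⁻¹ : GL (Fin m) F) : Matrix (Fin m) (Fin m) F)))) := by
      rw [hX, mul_one]
    rw [h5, ← mul_assoc, ← Units.val_mul, inv_mul_cancel, Units.val_one, one_mul]

end Cfsg.Agent.Lib.Helper6.TWQ
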