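import Mathlib
import Cfsg.Agent.Lib.Helper6.TWQ1

/-!
S5641 (C7), part (Q)/(T): the algebra of `slot m t i` (`= pos i` of the plan): additivity, multiplicativity, injectivity,
`rank (slot i B) = m^(t-1) * rank B`, and matrices of rank at most one.
-/

set_option autoImplicit false
set_option linter.unusedSectionVars false
set_option linter.unusedVariables false

namespace Cfsg.Agent.Lib.Helper6.TWQ
open Matrix Cfsg.Geo Cfsg.Agent.Lib.Helper18.AschA89 Cfsg.Agent.Lib.Helper20.AschLeaf
open scoped Kronecker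

variable {F : Type*} [Field F] {m t : ℕ}

/-! ### `slot` is an injective algebra homomorphism -/

lemma slot_add (i : Fin t) (A B : Matrix (Fin m) (Fin m) F) :
    slot m t i (A + B) = slot m t i A + slot m t i B := by
  ext x y
  rw [Matrix.add_apply, slot_apply, slot_apply, slot_apply]
  by_cases h : ∀ j, j ≠ i → x j = y j
  · rw [if_pos h, if_pos h, if_pos h, Matrix.add_apply]
  · rw [if_neg h, if_neg h, if_neg h, add_zero]

lemma slot_smul (i : Fin t) (c : F) (A : Matrix (Fin m) (Fin m) F) :
    slot m t i (c • A) = c • slot m t i A := by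
  ext x y
  rw [Matrix.smul_apply, slot_apply, slot_apply]
  by_cases h : ∀ j, j ≠ i → x j = y j
  · rw [if_pos h, if_pos h, Matrix.smul_apply]
  · rw [if_neg h, if_neg h, smul_zero]

lemma slot_neg (i : Fin t) (A : Matrix (Fin m) (Fin m) F) :
    slot m t i (-A) = -slot m t i A := by
  have := slot_smul (t := t) i (-1 : F) A
  rwa [neg_one_smul, neg_one_smul] at this

lemma slot_sub (i : Fin t) (A B : Matrix (Fin m) (Fin m) F) :
    slot m t i (A - B) = slot m t i A - slot m t i B := by
  rw [sub_eq_add_neg, slot_add, slot_neg, ← sub_eq_add_neg]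

lemma slot_zero (i : Fin t) : slot m t i (0 : Matrix (Fin m) (Fin m) F) = 0 := by
  ext x y
  rw [slot_apply]
  simp

lemma slot_one (i : Fin t) : slot m t i (1 : Matrix (Fin m) (Fin m) F) = 1 := by
  rw [slot_eq_ptens]
  have : Function.update (fun _ : Fin t => (1 : Matrix (Fin m) (Fin m) F)) i 1 = fun _ => 1 := by
    funext j
    by_cases h : j = i
    · rw [h, Function.update_self]
    · rw [Function.update_of_ne h]
  rw [this, ptens_one]

lemma slot_mul (i : Fin t) (A B : Matrix (Fin m) (Fin m) F) :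
    slot m t i (A * B) = slot m t i A * slot m t i B := by
  rw [slot_eq_ptens, slot_eq_ptens, slot_eq_ptens, ptens_mul]
  congr 1
  funext j
  by_cases h : j = i
  · rw [h, Function.update_self, Function.update_self, Function.update_self]
  · rw [Function.update_of_ne h, Function.update_of_ne h, Function.update_of_ne h, mul_one]

lemma slot_injective (hm : 0 < m) (i : Fin t) {A B : Matrix (Fin m) (Fin m) F}
    (h : slot m t i A = slot m t i B) : A = B := by
  ext a b
  let x : Fin t → Fin m := fun _ => a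
  have h1 := congrFun (congrFun h (Function.update x i a)) (Function.update x i b)
  rw [slot_apply, slot_apply] at h1
  have hc : ∀ j, j ≠ i → Function.update x i a j = Function.update x i b j := by
    intro j hj
    rw [Function.update_of_ne hj, Function.update_of_ne hj]
  rw [if_pos hc, if_pos hc, Function.update_self, Function.update_self] at h1
  exact h1

/-! ### ranks -/

/-- rank of `A ⊗ 1` (helper26's `rank_kron_one_gen`, copied to keep the imports light) -/
theorem rank_kron_one_tw {K : Type*} [Field K] {μ ν : Type*} [Fintype μ] [DecidableEq μ] [Fintype ν]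
    [DecidableEq ν] (A : Matrix μ μ K) :
    (A ⊗ₖ (1 : Matrix ν ν K)).rank = A.rank * Fintype.card ν := by
  classical
  obtain ⟨L, L', D, hD⟩ := Matrix.Pivot.exists_list_transvec_mul_mul_list_transvec_eq_diagonal A
  set P := (L.map Matrix.TransvectionStruct.toMatrix).prod with hP
  set Q := (L'.map Matrix.TransvectionStruct.toMatrix).prod with hQ
  have hPdet : IsUnit P.det := by
    rw [hP, Matrix.TransvectionStruct.det_toMatrix_prod]; exact isUnit_one
  have hQdet : IsUnit Q.det := by
    rw [hQ, Matrix.TransvectionStruct.det_toMatrix_prod]; exact isUnit_one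
  have hP1 : IsUnit (P ⊗ₖ (1 : Matrix ν ν K)).det := by
    rw [det_kronecker, Matrix.det_one, one_pow, mul_one]; exact hPdet.pow _
  have hQ1 : IsUnit (Q ⊗ₖ (1 : Matrix ν ν K)).det := by
    rw [det_kronecker, Matrix.det_one, one_pow, mul_one]; exact hQdet.pow _
  have hA : A.rank = (Matrix.diagonal D).rank := by
    rw [← hD, Matrix.rank_mul_eq_left_of_isUnit_det Q _ hQdet,
      Matrix.rank_mul_eq_right_of_isUnit_det P _ hPdet]
  have hk : (P ⊗ₖ (1 : Matrix ν ν K)) * (A ⊗ₖ (1 : Matrix ν ν K)) * (Q ⊗ₖ (1 : Matrix ν ν K)) =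
      Matrix.diagonal (fun x : μ × ν => D x.1) := by
    rw [← mul_kronecker_mul, ← mul_kronecker_mul, Matrix.one_mul, Matrix.one_mul, hD,
      ← Matrix.diagonal_one, diagonal_kronecker_diagonal]
    simp
  have hA1 : (A ⊗ₖ (1 : Matrix ν ν K)).rank = (Matrix.diagonal (fun x : μ × ν => D x.1)).rank := by
    rw [← hk, Matrix.rank_mul_eq_left_of_isUnit_det _ _ hQ1,
      Matrix.rank_mul_eq_right_of_isUnit_det _ _ hP1]
  rw [hA1, hA, Matrix.rank_diagonal, Matrix.rank_diagonal,
    Fintype.card_congr (Equiv.prodSubtypeFstEquivSubtypeProd (p := fun i => D i ≠ 0) (β := ν)),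
    Fintype.card_prod]

/-- `slot i B` is `B ⊗ 1` after splitting off the `i`-th coordinate -/
lemma slot_reindex (i : Fin t) (B : Matrix (Fin m) (Fin m) F) :
    Matrix.reindex (Equiv.funSplitAt i (Fin m)) (Equiv.funSplitAt i (Fin m)) (slot m t i B) =
      B ⊗ₖ (1 : Matrix ({j // j ≠ i} → Fin m) ({j // j ≠ i} → Fin m) F) := by
  ext ⟨a, u⟩ ⟨b, w⟩
  rw [Matrix.reindex_apply, Matrix.submatrix_apply, slot_apply, Matrix.kroneckerMap_apply]
  have h1 : ∀ (c : Fin m) (v : {j // j ≠ i} → Fin m),
      ((Equiv.funSplitAt i (Fin m)).symm (c, v)) i = c := by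
    intro c v
    simp [Equiv.funSplitAt, Equiv.piSplitAt]
  have h2 : ∀ (c : Fin m) (v : {j // j ≠ i} → Fin m) (j : Fin t) (hj : j ≠ i),
      ((Equiv.funSplitAt i (Fin m)).symm (c, v)) j = v ⟨j, hj⟩ := by
    intro c v j hj
    simp [Equiv.funSplitAt, Equiv.piSplitAt, hj]
  rw [h1, h1]
  by_cases huw : u = w
  · subst huw
    rw [Matrix.one_apply_eq, mul_one, if_pos]
    intro j hj
    rw [h2 _ _ j hj, h2 _ _ j hj]
  · rw [Matrix.one_apply_ne huw, mul_zero, if_neg]
    intro hc
    apply huw
    funext ⟨j, hj⟩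
    have := hc j hj
    rwa [h2 _ _ j hj, h2 _ _ j hj] at this

/-- `rank (slot i B) = rank B * m^(t-1)` -/
theorem rank_slot (i : Fin t) (B : Matrix (Fin m) (Fin m) F) :
    (slot m t i B).rank = B.rank * m ^ (t - 1) := by
  rw [← Matrix.rank_reindex (Equiv.funSplitAt i (Fin m)) (Equiv.funSplitAt i (Fin m)) (slot m t i B),
    slot_reindex, rank_kron_one_tw]
  congr 1
  rw [Fintype.card_fun, Fintype.card_fin, Fintype.card_subtype_compl, Fintype.card_fin,
    Fintype.card_subtype_eq]

/-! ### matrices of rank at most one -/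

/-- a non-zero matrix of rank at most one is `z ζᵀ` -/
theorem exists_vecMulVec_of_rank_le_one {B : Matrix (Fin m) (Fin m) F} (h0 : B ≠ 0)
    (hr : B.rank ≤ 1) : ∃ z ζ : Fin m → F, z ≠ 0 ∧ ζ ≠ 0 ∧ B = Matrix.vecMulVec z ζ := by
  -- a non-zero column
  obtain ⟨k, hk⟩ : ∃ k, B *ᵥ Pi.single k 1 ≠ 0 := by
    by_contra hc
    push_neg at hc
    apply h0
    ext a l
    have := congrFun (hc l) a
    rw [Matrix.mulVec_single_one] at this
    simpa using this
  set z := B *ᵥ Pi.single k 1 with hz
  have hzmem : z ∈ LinearMap.range B.mulVecLin := ⟨Pi.single k 1, rfl⟩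
  have hfr : Module.finrank F (LinearMap.range B.mulVecLin) = 1 := by
    have h1 : Module.finrank F (LinearMap.range B.mulVecLin) ≤ 1 := hr
    have h2 : 0 < Module.finrank F (LinearMap.range B.mulVecLin) := by
      rw [Module.finrank_pos_iff_exists_ne_zero]
      exact ⟨⟨z, hzmem⟩, fun h => hk (congrArg Subtype.val h)⟩
    omega
  have hcol : ∀ l, ∃ c : F, c • z = B *ᵥ Pi.single l 1 := by
    intro l
    have hx : (⟨z, hzmem⟩ : LinearMap.range B.mulVecLin) ≠ 0 :=
      fun h => hk (congrArg Subtype.val h)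
    obtain ⟨c, hc⟩ := exists_smul_eq_of_finrank_eq_one hfr hx
      (⟨B *ᵥ Pi.single l 1, ⟨Pi.single l 1, rfl⟩⟩ : LinearMap.range B.mulVecLin)
    exact ⟨c, congrArg Subtype.val hc⟩
  choose ζ hζ using hcol
  have hB : B = Matrix.vecMulVec z ζ := by
    ext a l
    have := congrFun (hζ l) a
    rw [Matrix.mulVec_single_one] at this
    rw [Matrix.vecMulVec_apply]
    simp only [Pi.smul_apply, smul_eq_mul, Matrix.col_apply] at this
    rw [mul_comm]
    simpa using this.symm
  refine ⟨z, ζ, hk, ?_, hB⟩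
  intro hζ0
  apply h0
  rw [hB, hζ0]
  ext a l
  simp [Matrix.vecMulVec_apply]

lemma vecMulVec_mul_self (z ζ : Fin m → F) :
    Matrix.vecMulVec z ζ * Matrix.vecMulVec z ζ = (ζ ⬝ᵥ z) • Matrix.vecMulVec z ζ := by
  ext a l
  rw [Matrix.mul_apply, Matrix.smul_apply, Matrix.vecMulVec_apply, smul_eq_mul]
  simp only [Matrix.vecMulVec_apply, dotProduct]
  rw [Finset.sum_mul]
  refine Finset.sum_congr rfl fun k _ => ?_
  ring

end Cfsg.Agent.Lib.Helper6.TWQ
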