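import Mathlib
import Cfsg.Agent.Lib.Helper8.TW.Defs
import Cfsg.Agent.Lib.Helper20.AschA89WR
import Cfsg.Agent.Lib.Helper20.AschA89F2J
import Cfsg.Agent.Lib.Helper6.TWQ1
import Cfsg.Agent.Lib.Helper6.TWSlot

/-!
S5641 (C7), block (T) toolkit leaves (helper8's market, `notes/S5641_T_leaves.lean`), exact signatures:
TS2 `slot_injective`, TS3 `slot_mulVec_slice`, TS6 `ptens_update_one`, TS7 `ptens_mulVec_pt`, TS9 `slot_mulVec_pt`,
TS10 `fperm_mulVec_pt`, TG4 `G_normal_form`, TF12a `range_rootN`, TF12b `ker_rootN`, TI7 `range_conj`, `ker_conj`.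
-/

set_option autoImplicit false
set_option linter.unusedSectionVars false
set_option linter.unusedVariables false

namespace Cfsg.Agent.Lib.Helper6.TWLeaf
open Matrix Cfsg.Geo Cfsg.Agent.Lib.Helper18.AschA89 Cfsg.Agent.Lib.Helper20.AschLeaf Cfsg.Agent.Lib.Helper8.TW

variable {F : Type*} [Field F] {t m : ℕ}

/-! ### auxiliary -/

/-- a row of `slot i A`: the sum over `y` agreeing with `x` off `i` -/
lemma sum_off (i : Fin t) (x : Idx t m) (f : Idx t m → F) :
    ∑ y, (if ∀ j, j ≠ i → x j = y j then f y else 0) = ∑ b, f (Function.update x i b) := by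
  rw [← Finset.sum_filter]
  symm
  refine Finset.sum_bij (fun b _ => Function.update x i b) ?_ ?_ ?_ ?_
  · intro b _
    rw [Finset.mem_filter]
    refine ⟨Finset.mem_univ _, fun j hj => ?_⟩
    rw [Function.update_of_ne hj]
  · intro b _ b' _ hbb
    have := congrFun hbb i
    rwa [Function.update_self, Function.update_self] at this
  · intro y hy
    rw [Finset.mem_filter] at hy
    refine ⟨y i, Finset.mem_univ _, ?_⟩
    funext j
    by_cases hj : j = i
    · rw [hj, Function.update_self]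
    · rw [Function.update_of_ne hj, hy.2 j hj]
  · intro b _
    rfl

lemma vecMulVec_mulVec' (y η u : Fin m → F) : Matrix.vecMulVec y η *ᵥ u = (η ⬝ᵥ u) • y := by
  funext a
  simp only [Matrix.mulVec, dotProduct, Matrix.vecMulVec_apply, Pi.smul_apply, smul_eq_mul]
  rw [Finset.sum_mul]
  refine Finset.sum_congr rfl fun b _ => ?_
  ring

lemma eq_of_slices (i : Fin t) {v v' : Idx t m → F} (h : ∀ x, slice i x v = slice i x v') : v = v' := by
  funext x
  have := congrFun (h x) (x i)
  unfold slice at this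
  rwa [Function.update_eq_self] at this

/-! ### the leaves -/

/-- TS2 -/
theorem slot_injective (i : Fin t) (A B : Matrix (Fin m) (Fin m) F) (h : slot m t i A = slot m t i B) :
    A = B := by
  rcases Nat.eq_zero_or_pos m with hm | hm
  · subst hm
    exact Subsingleton.elim _ _
  · exact Cfsg.Agent.Lib.Helper6.TWQ.slot_injective hm i h

/-- TS3 the `i`-slices of `slot i A *ᵥ v` are `A *ᵥ` the `i`-slices of `v` -/
theorem slot_mulVec_slice (i : Fin t) (A : Matrix (Fin m) (Fin m) F) (v : Idx t m → F) (x : Idx t m) :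
    slice i x (slot m t i A *ᵥ v) = A *ᵥ slice i x v := by
  funext a
  unfold slice
  simp only [Matrix.mulVec, dotProduct, slot_apply]
  have h1 : ∀ y : Idx t m,
      (if ∀ j, j ≠ i → Function.update x i a j = y j then A (Function.update x i a i) (y i) else 0) * v y =
      if ∀ j, j ≠ i → x j = y j then A a (y i) * v y else 0 := by
    intro y
    have hiff : (∀ j, j ≠ i → Function.update x i a j = y j) ↔ (∀ j, j ≠ i → x j = y j) := by
      constructor
      · intro h j hj
        have := h j hj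
        rwa [Function.update_of_ne hj] at this
      · intro h j hj
        rw [Function.update_of_ne hj]
        exact h j hj
    by_cases hc : ∀ j, j ≠ i → x j = y j
    · rw [if_pos (hiff.2 hc), if_pos hc, Function.update_self]
    · rw [if_neg (fun h => hc (hiff.1 h)), if_neg hc, zero_mul]
  simp_rw [h1]
  rw [sum_off i x (fun y => A a (y i) * v y)]
  refine Finset.sum_congr rfl fun b _ => ?_
  rw [Function.update_self]

/-- TS6 -/
theorem ptens_update_one (i : Fin t) (A : Matrix (Fin m) (Fin m) F) :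
    ptens m t (Function.update (fun _ => (1 : Matrix (Fin m) (Fin m) F)) i A) = slot m t i A :=
  (Cfsg.Agent.Lib.Helper6.TWQ.slot_eq_ptens i A).symm

/-- TS7 -/
theorem ptens_mulVec_pt (gs : Fin t → Matrix (Fin m) (Fin m) F) (v : Fin t → Fin m → F) :
    ptens m t gs *ᵥ pt v = pt (fun j => gs j *ᵥ v j) :=
  Cfsg.Agent.Lib.Helper6.TWQ.ptens_mulVec_pv gs v

/-- TS9 -/
theorem slot_mulVec_pt (i : Fin t) (A : Matrix (Fin m) (Fin m) F) (v : Fin t → Fin m → F) :
    slot m t i A *ᵥ pt v = pt (Function.update v i (A *ᵥ v i)) :=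
  Cfsg.Agent.Lib.Helper6.TWQ.slot_mulVec_pv i A v

/-- TS10 -/
theorem fperm_mulVec_pt (σ : Equiv.Perm (Fin t)) (v : Fin t → Fin m → F) :
    fperm (F := F) m t σ *ᵥ pt v = pt (fun j => v (σ⁻¹ j)) :=
  Cfsg.Agent.Lib.Helper6.TWQ.fperm_mulVec_pv σ v

/-- TG4 (Q1) NORMAL FORM -/
theorem G_normal_form (g : GL (Idx t m) F) (hg : g ∈ Gstd t m F) :
    ∃ (σ : Equiv.Perm (Fin t)) (gs : Fin t → GL (Fin m) F),
      (g : Matrix (Idx t m) (Idx t m) F) =
        fperm m t σ * ptens m t (fun j => ((gs j : GL (Fin m) F) : Matrix (Fin m) (Fin m) F)) :=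
  Cfsg.Agent.Lib.Helper6.TWQ.exists_fperm_ptens g hg

/-- slices of `rootN i y η *ᵥ w` -/
lemma rootN_mulVec_slice (i : Fin t) (y η : Fin m → F) (w : Idx t m → F) (x : Idx t m) :
    slice i x (rootN i y η *ᵥ w) = (η ⬝ᵥ slice i x w) • y := by
  unfold rootN
  rw [slot_mulVec_slice, vecMulVec_mulVec']

/-- TF12a -/
theorem range_rootN (i : Fin t) (y η : Fin m → F) (hη : η ≠ 0) :
    LinearMap.range (Matrix.toLin' (rootN i y η)) = Wf i y := by
  apply le_antisymm
  · rintro v ⟨w, rfl⟩
    rw [Matrix.toLin'_apply]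
    intro x
    rw [rootN_mulVec_slice]
    exact Submodule.smul_mem _ _ (Submodule.mem_span_singleton_self y)
  · intro w hw
    by_cases hy : y = 0
    · subst hy
      have hw0 : w = 0 := by
        apply eq_of_slices i
        intro x
        have := hw x
        rw [Submodule.span_zero_singleton, Submodule.mem_bot] at this
        rw [this]
        rfl
      rw [hw0]
      exact Submodule.zero_mem _
    · -- `a₀` with `η a₀ = 1`, `φ` with `φ y = 1`
      obtain ⟨k, hk⟩ : ∃ k, η k ≠ 0 := by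
        by_contra hc
        push_neg at hc
        exact hη (funext hc)
      obtain ⟨l, hl⟩ : ∃ l, y l ≠ 0 := by
        by_contra hc
        push_neg at hc
        exact hy (funext hc)
      set a₀ : Fin m → F := Pi.single k (η k)⁻¹ with ha₀
      set φ : Fin m → F := Pi.single l (y l)⁻¹ with hφ
      have h1 : η ⬝ᵥ a₀ = 1 := by
        rw [ha₀, dotProduct_single, mul_inv_cancel₀ hk]
      have h2 : φ ⬝ᵥ y = 1 := by
        rw [hφ, single_dotProduct, inv_mul_cancel₀ hl]
      refine ⟨slot m t i (Matrix.vecMulVec a₀ φ) *ᵥ w, ?_⟩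
      rw [Matrix.toLin'_apply]
      apply eq_of_slices i
      intro x
      rw [rootN_mulVec_slice, slot_mulVec_slice, vecMulVec_mulVec', dotProduct_smul, h1, smul_eq_mul,
        mul_one]
      obtain ⟨c, hc⟩ := Submodule.mem_span_singleton.1 (hw x)
      rw [← hc, dotProduct_smul, h2, smul_eq_mul, mul_one]

/-- TF12b -/
theorem ker_rootN (i : Fin t) (y η : Fin m → F) (hy : y ≠ 0) :
    LinearMap.ker (Matrix.toLin' (rootN i y η)) = Cf i η := by
  ext v
  rw [LinearMap.mem_ker, Matrix.toLin'_apply]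
  constructor
  · intro h x
    have h1 := rootN_mulVec_slice i y η v x
    rw [h] at h1
    have h2 : slice i x (0 : Idx t m → F) = 0 := rfl
    rw [h2] at h1
    rcases smul_eq_zero.1 h1.symm with h3 | h3
    · exact h3
    · exact absurd h3 hy
  · intro h
    apply eq_of_slices i
    intro x
    rw [rootN_mulVec_slice]
    have : η ⬝ᵥ slice i x v = 0 := h x
    rw [this, zero_smul]
    rfl

/-- TI7 range of a conjugate -/
theorem range_conj {ι : Type} [Fintype ι] [DecidableEq ι] (g : GL ι F) (N : Matrix ι ι F) :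
    LinearMap.range (Matrix.toLin' ((g : Matrix ι ι F) * N * ((g⁻¹ : GL ι F) : Matrix ι ι F))) =
      img g (LinearMap.range (Matrix.toLin' N)) := by
  ext v
  unfold img
  rw [Submodule.mem_map]
  constructor
  · rintro ⟨w, rfl⟩
    refine ⟨N *ᵥ (((g⁻¹ : GL ι F) : Matrix ι ι F) *ᵥ w), ⟨_, Matrix.toLin'_apply _ _⟩, ?_⟩
    rw [Matrix.toLin'_apply, Matrix.toLin'_apply, Matrix.mulVec_mulVec, Matrix.mulVec_mulVec, mul_assoc]
  · rintro ⟨u, ⟨w, rfl⟩, rfl⟩
    refine ⟨(g : Matrix ι ι F) *ᵥ w, ?_⟩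
    rw [Matrix.toLin'_apply, Matrix.toLin'_apply, Matrix.toLin'_apply, Matrix.mulVec_mulVec,
      Matrix.mulVec_mulVec, mul_assoc, mul_assoc, ← Units.val_mul, inv_mul_cancel, Units.val_one, mul_one]

theorem ker_conj {ι : Type} [Fintype ι] [DecidableEq ι] (g : GL ι F) (N : Matrix ι ι F) :
    LinearMap.ker (Matrix.toLin' ((g : Matrix ι ι F) * N * ((g⁻¹ : GL ι F) : Matrix ι ι F))) =
      img g (LinearMap.ker (Matrix.toLin' N)) := by
  ext v
  unfold img
  rw [Submodule.mem_map, LinearMap.mem_ker, Matrix.toLin'_apply]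
  constructor
  · intro h
    refine ⟨((g⁻¹ : GL ι F) : Matrix ι ι F) *ᵥ v, ?_, ?_⟩
    · rw [LinearMap.mem_ker, Matrix.toLin'_apply]
      have h1 := congrArg (fun w => ((g⁻¹ : GL ι F) : Matrix ι ι F) *ᵥ w) h
      simp only [Matrix.mulVec_zero, Matrix.mulVec_mulVec] at h1
      rw [← mul_assoc, ← mul_assoc, ← Units.val_mul, inv_mul_cancel, Units.val_one, one_mul] at h1
      rw [Matrix.mulVec_mulVec]
      exact h1
    · rw [Matrix.toLin'_apply, Matrix.mulVec_mulVec, ← Units.val_mul, mul_inv_cancel, Units.val_one,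
        Matrix.one_mulVec]
  · rintro ⟨u, hu, rfl⟩
    rw [LinearMap.mem_ker, Matrix.toLin'_apply] at hu
    rw [Matrix.toLin'_apply, Matrix.mulVec_mulVec, mul_assoc, mul_assoc, ← Units.val_mul, inv_mul_cancel,
      Units.val_one, mul_one, ← Matrix.mulVec_mulVec, hu, Matrix.mulVec_zero]

end Cfsg.Agent.Lib.Helper6.TWLeaf
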