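import Mathlib
import Cfsg.Agent.Lib.Helper6.TWQ1

/-!
S5641 (C7), part (Q): the lemma (PL) on pure vectors: if `λ a + μ b` (`a`, `b` pure, `λ μ ≠ 0`) is pure, then `a` and `b`
differ in at most one position.  Proof by the "minor identity" for pure vectors.
-/

set_option autoImplicit false
set_option linter.unusedSectionVars false
set_option linter.unusedVariables false

namespace Cfsg.Agent.Lib.Helper6.TWQ
open Matrix

variable {F : Type*} [Field F] {m t : ℕ}

/-! ### functionals on `F^m` as vectors -/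

/-- a linear functional on `F^m` is a dot product -/
lemma exists_dot_of_functional (f : (Fin m → F) →ₗ[F] F) :
    ∃ ψ : Fin m → F, ∀ x, ψ ⬝ᵥ x = f x := by
  refine ⟨fun i => f (Pi.single i 1), fun x => ?_⟩
  rw [LinearMap.pi_apply_eq_sum_univ f x]
  simp only [dotProduct, smul_eq_mul]
  refine Finset.sum_congr rfl fun i _ => ?_
  rw [mul_comm]
  congr 2
  funext j
  rw [Pi.single_apply]
  by_cases h : i = j
  · rw [if_pos h, if_pos h.symm]
  · rw [if_neg h, if_neg (fun h' => h h'.symm)]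

/-- (E1) for independent `a, b` there is a functional with values `1, 0` -/
lemma exists_dot_one_zero {a b : Fin m → F} (h : LinearIndependent F ![a, b]) :
    ∃ ψ : Fin m → F, ψ ⬝ᵥ a = 1 ∧ ψ ⬝ᵥ b = 0 := by
  rw [LinearIndependent.pair_iff] at h
  have ha : a ∉ Submodule.span F ({b} : Set (Fin m → F)) := by
    intro hmem
    obtain ⟨c, hc⟩ := Submodule.mem_span_singleton.1 hmem
    have := (h 1 (-c) (by rw [one_smul, neg_smul, hc, add_neg_cancel])).1
    exact one_ne_zero this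
  obtain ⟨f, hfa, hfb⟩ := Submodule.exists_le_ker_of_notMem ha
  have hfb0 : f b = 0 := LinearMap.mem_ker.1 (hfb (Submodule.mem_span_singleton_self b))
  obtain ⟨ψ, hψ⟩ := exists_dot_of_functional ((f a)⁻¹ • f)
  refine ⟨ψ, ?_, ?_⟩
  · rw [hψ, LinearMap.smul_apply, smul_eq_mul, inv_mul_cancel₀ hfa]
  · rw [hψ, LinearMap.smul_apply, hfb0, smul_zero]

lemma linearIndependent_pair_swap {a b : Fin m → F} (h : LinearIndependent F ![a, b]) :
    LinearIndependent F ![b, a] := by
  rw [LinearIndependent.pair_iff] at h ⊢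
  intro s t hst
  have := h t s (by rw [add_comm]; exact hst)
  exact ⟨this.2, this.1⟩

/-- (E2) for non-zero `a, b` there is a functional non-zero on both -/
lemma exists_dot_ne_ne {a b : Fin m → F} (ha : a ≠ 0) (hb : b ≠ 0) :
    ∃ ψ : Fin m → F, ψ ⬝ᵥ a ≠ 0 ∧ ψ ⬝ᵥ b ≠ 0 := by
  obtain ⟨i, hi⟩ : ∃ i, a i ≠ 0 := by
    by_contra hc
    push_neg at hc
    exact ha (funext hc)
  obtain ⟨k, hk⟩ : ∃ k, b k ≠ 0 := by
    by_contra hc
    push_neg at hc
    exact hb (funext hc)
  by_cases hbi : b i = 0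
  · by_cases hak : a k = 0
    · refine ⟨Pi.single i 1 + Pi.single k 1, ?_, ?_⟩
      · rw [add_dotProduct, single_dotProduct, single_dotProduct, one_mul, one_mul, hak, add_zero]
        exact hi
      · rw [add_dotProduct, single_dotProduct, single_dotProduct, one_mul, one_mul, hbi, zero_add]
        exact hk
    · refine ⟨Pi.single k 1, ?_, ?_⟩
      · rw [single_dotProduct, one_mul]; exact hak
      · rw [single_dotProduct, one_mul]; exact hk
  · refine ⟨Pi.single i 1, ?_, ?_⟩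
    · rw [single_dotProduct, one_mul]; exact hi
    · rw [single_dotProduct, one_mul]; exact hbi

/-! ### the minor identity -/

/-- the minor identity for a pure vector `w`: the product of two pairings does not change when the `j`-th components of the
two test functionals are exchanged -/
lemma pv_minor (c φ φ' : Fin t → Fin m → F) (j : Fin t) :
    (pv φ ⬝ᵥ pv c) * (pv φ' ⬝ᵥ pv c) =
      (pv (Function.update φ j (φ' j)) ⬝ᵥ pv c) * (pv (Function.update φ' j (φ j)) ⬝ᵥ pv c) := by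
  rw [pv_dot_pv, pv_dot_pv, pv_dot_pv, pv_dot_pv]
  rw [← Finset.mul_prod_erase Finset.univ (fun i => φ i ⬝ᵥ c i) (Finset.mem_univ j),
    ← Finset.mul_prod_erase Finset.univ (fun i => φ' i ⬝ᵥ c i) (Finset.mem_univ j),
    ← Finset.mul_prod_erase Finset.univ (fun i => Function.update φ j (φ' j) i ⬝ᵥ c i)
      (Finset.mem_univ j),
    ← Finset.mul_prod_erase Finset.univ (fun i => Function.update φ' j (φ j) i ⬝ᵥ c i)
      (Finset.mem_univ j)]
  have h1 : ∏ i ∈ Finset.univ.erase j, Function.update φ j (φ' j) i ⬝ᵥ c i =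
      ∏ i ∈ Finset.univ.erase j, φ i ⬝ᵥ c i := by
    refine Finset.prod_congr rfl fun i hi => ?_
    rw [Function.update_of_ne (Finset.ne_of_mem_erase hi)]
  have h2 : ∏ i ∈ Finset.univ.erase j, Function.update φ' j (φ j) i ⬝ᵥ c i =
      ∏ i ∈ Finset.univ.erase j, φ' i ⬝ᵥ c i := by
    refine Finset.prod_congr rfl fun i hi => ?_
    rw [Function.update_of_ne (Finset.ne_of_mem_erase hi)]
  rw [h1, h2, Function.update_self, Function.update_self]
  ring

/-- (PL) if `λ a + μ b` is pure (`a`, `b` pure with non-zero factors, `λ μ ≠ 0`) then `a` and `b` cannot differ (be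
independent) at two different positions -/
theorem pure_line (a b c : Fin t → Fin m → F) (l μ : F) (hl : l ≠ 0) (hμ : μ ≠ 0)
    (ha : ∀ j, a j ≠ 0) (hb : ∀ j, b j ≠ 0)
    (h : l • pv a + μ • pv b = pv c) {j₁ j₂ : Fin t} (hne : j₁ ≠ j₂)
    (h₁ : LinearIndependent F ![a j₁, b j₁]) (h₂ : LinearIndependent F ![a j₂, b j₂]) : False := by
  obtain ⟨ψ₁, hψ₁a, hψ₁b⟩ := exists_dot_one_zero h₁
  obtain ⟨ψ₁', hψ₁'b, hψ₁'a⟩ := exists_dot_one_zero (linearIndependent_pair_swap h₁)
  obtain ⟨ψ₂, hψ₂a, hψ₂b⟩ := exists_dot_one_zero h₂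
  obtain ⟨ψ₂', hψ₂'b, hψ₂'a⟩ := exists_dot_one_zero (linearIndependent_pair_swap h₂)
  choose ψ hψa hψb using fun j => exists_dot_ne_ne (ha j) (hb j)
  -- the two test functionals
  let φ : Fin t → Fin m → F := fun j => if j = j₁ then ψ₁ else if j = j₂ then ψ₂ else ψ j
  let φ' : Fin t → Fin m → F := fun j => if j = j₁ then ψ₁' else if j = j₂ then ψ₂' else ψ j
  have hφ1 : φ j₁ = ψ₁ := by simp only [φ, if_true]
  have hφ2 : φ j₂ = ψ₂ := by simp only [φ, if_neg hne.symm, if_true]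
  have hφ'1 : φ' j₁ = ψ₁' := by simp only [φ', if_true]
  have hφ'2 : φ' j₂ = ψ₂' := by simp only [φ', if_neg hne.symm, if_true]
  have hφo : ∀ j, j ≠ j₁ → j ≠ j₂ → φ j = ψ j := by
    intro j h1 h2
    simp only [φ, if_neg h1, if_neg h2]
  have hφ'o : ∀ j, j ≠ j₁ → j ≠ j₂ → φ' j = ψ j := by
    intro j h1 h2
    simp only [φ', if_neg h1, if_neg h2]
  have key := pv_minor c φ φ' j₁
  rw [← h] at key
  simp only [dotProduct_add, dotProduct_smul, smul_eq_mul] at key
  -- evaluate the eight pairings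
  have e1 : pv φ ⬝ᵥ pv b = 0 := by
    rw [pv_dot_pv]
    exact Finset.prod_eq_zero (Finset.mem_univ j₁) (by rw [hφ1, hψ₁b])
  have e2 : pv φ' ⬝ᵥ pv a = 0 := by
    rw [pv_dot_pv]
    exact Finset.prod_eq_zero (Finset.mem_univ j₁) (by rw [hφ'1, hψ₁'a])
  have e3 : pv (Function.update φ j₁ (φ' j₁)) ⬝ᵥ pv a = 0 := by
    rw [pv_dot_pv]
    exact Finset.prod_eq_zero (Finset.mem_univ j₁) (by rw [Function.update_self, hφ'1, hψ₁'a])
  have e4 : pv (Function.update φ j₁ (φ' j₁)) ⬝ᵥ pv b = 0 := by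
    rw [pv_dot_pv]
    exact Finset.prod_eq_zero (Finset.mem_univ j₂)
      (by rw [Function.update_of_ne hne.symm, hφ2, hψ₂b])
  have e5 : pv φ ⬝ᵥ pv a ≠ 0 := by
    rw [pv_dot_pv]
    refine Finset.prod_ne_zero_iff.2 fun j _ => ?_
    by_cases hj1 : j = j₁
    · rw [hj1, hφ1, hψ₁a]; exact one_ne_zero
    · by_cases hj2 : j = j₂
      · rw [hj2, hφ2, hψ₂a]; exact one_ne_zero
      · rw [hφo j hj1 hj2]; exact hψa j
  have e6 : pv φ' ⬝ᵥ pv b ≠ 0 := by
    rw [pv_dot_pv]
    refine Finset.prod_ne_zero_iff.2 fun j _ => ?_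
    by_cases hj1 : j = j₁
    · rw [hj1, hφ'1, hψ₁'b]; exact one_ne_zero
    · by_cases hj2 : j = j₂
      · rw [hj2, hφ'2, hψ₂'b]; exact one_ne_zero
      · rw [hφ'o j hj1 hj2]; exact hψb j
  rw [e1, e2, e3, e4] at key
  simp only [mul_zero, add_zero, zero_add, zero_mul] at key
  exact mul_ne_zero (mul_ne_zero hl e5) (mul_ne_zero hμ e6) key

end Cfsg.Agent.Lib.Helper6.TWQ
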