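import Mathlib
import Cfsg.Agent.Lib.Helper6.TWQ1
import Cfsg.Agent.Lib.Helper6.TWPL
import Cfsg.Agent.Lib.Helper6.TWSlot
import Cfsg.Agent.Lib.Helper28.SLMP7core

/-!
S5641 (C7), part (Q): LEMMA Q'(a) (`q ≥ 3`): a "root-like" subgroup `{1 + c N}` of `G = tensorWreathStandard m t F`
(`N ≠ 0`, `N² = 0`, `rank N ≤ m^(t-1)`) is a root group: `N = slot j (z ζᵀ)` with `ζ·z = 0`.
-/

set_option autoImplicit false
set_option linter.unusedSectionVars false
set_option linter.unusedVariables false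

namespace Cfsg.Agent.Lib.Helper6.TWQ
open Matrix Cfsg.Geo Cfsg.Agent.Lib.Helper18.AschA89 Cfsg.Agent.Lib.Helper20.AschLeaf

variable {F : Type*} [Field F] {m t : ℕ}

/-! ### linear independence of pairs -/

lemma li_mulVec (A : GL (Fin m) F) {x y : Fin m → F} (h : LinearIndependent F ![x, y]) :
    LinearIndependent F ![(A : Matrix (Fin m) (Fin m) F) *ᵥ x,
      (A : Matrix (Fin m) (Fin m) F) *ᵥ y] := by
  rw [LinearIndependent.pair_iff] at h ⊢
  intro s u hsu
  apply h s u
  have h1 : (A : Matrix (Fin m) (Fin m) F) *ᵥ (s • x + u • y) = 0 := by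
    rw [Matrix.mulVec_add, Matrix.mulVec_smul, Matrix.mulVec_smul]
    exact hsu
  have h2 := congrArg (fun w => ((A⁻¹ : GL (Fin m) F) : Matrix (Fin m) (Fin m) F) *ᵥ w) h1
  simp only [Matrix.mulVec_mulVec, Matrix.mulVec_zero] at h2
  rwa [← Units.val_mul, inv_mul_cancel, Units.val_one, Matrix.one_mulVec] at h2

lemma GL_mulVec_inv (A : GL (Fin m) F) (x : Fin m → F) :
    (A : Matrix (Fin m) (Fin m) F) *ᵥ (((A⁻¹ : GL (Fin m) F) : Matrix (Fin m) (Fin m) F) *ᵥ x) = x := by
  rw [Matrix.mulVec_mulVec, ← Units.val_mul, mul_inv_cancel, Units.val_one, Matrix.one_mulVec]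

lemma GL_inv_mulVec (A : GL (Fin m) F) (x : Fin m → F) :
    ((A⁻¹ : GL (Fin m) F) : Matrix (Fin m) (Fin m) F) *ᵥ ((A : Matrix (Fin m) (Fin m) F) *ᵥ x) = x := by
  rw [Matrix.mulVec_mulVec, ← Units.val_mul, inv_mul_cancel, Units.val_one, Matrix.one_mulVec]

lemma GL_mulVec_ne_zero (A : GL (Fin m) F) {x : Fin m → F} (hx : x ≠ 0) :
    (A : Matrix (Fin m) (Fin m) F) *ᵥ x ≠ 0 := by
  intro h
  apply hx
  rw [← GL_inv_mulVec A x, h, Matrix.mulVec_zero]

/-- (E4) every non-zero vector of `F^m`, `m ≥ 2`, has an independent partner -/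
lemma exists_li_partner (hm : 2 ≤ m) {u : Fin m → F} (hu : u ≠ 0) :
    ∃ y : Fin m → F, LinearIndependent F ![u, y] := by
  apply exists_linearIndependent_pair_of_one_lt_finrank _ hu
  rw [Module.finrank_fin_fun]
  omega

/-- (E3) avoid two lines -/
lemma exists_li_two (hm : 2 ≤ m) {u w : Fin m → F} (hu : u ≠ 0) (hw : w ≠ 0) :
    ∃ y : Fin m → F, LinearIndependent F ![u, y] ∧ LinearIndependent F ![w, y] := by
  by_cases h : LinearIndependent F ![u, w]
  · rw [LinearIndependent.pair_iff] at h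
    refine ⟨u + w, ?_, ?_⟩
    · rw [LinearIndependent.pair_iff]
      intro s r hsr
      have := h (s + r) r (by rw [← hsr]; module)
      refine ⟨?_, this.2⟩
      have h2 := this.1
      rw [this.2, add_zero] at h2
      exact h2
    · rw [LinearIndependent.pair_iff]
      intro s r hsr
      have := h r (s + r) (by rw [← hsr]; module)
      refine ⟨?_, this.1⟩
      have h2 := this.2
      rw [this.1, add_zero] at h2
      exact h2
  · obtain ⟨y, hy⟩ := exists_li_partner hm hu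
    refine ⟨y, hy, ?_⟩
    rw [LinearIndependent.pair_iff] at h hy ⊢
    push_neg at h
    obtain ⟨s, r, hsr, hne⟩ := h
    have hr : r ≠ 0 := by
      intro hr0
      rw [hr0, zero_smul, add_zero] at hsr
      have hs0 : s = 0 := by
        rcases smul_eq_zero.1 hsr with h1 | h1
        · exact h1
        · exact absurd h1 hu
      exact hne hs0 hr0
    -- `w = -(s/r) u`
    have hwu : w = (-(s / r)) • u := by
      have : r • w = (-s) • u := by
        rw [neg_smul]
        exact eq_neg_of_add_eq_zero_right hsr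
      calc w = r⁻¹ • (r • w) := by rw [smul_smul, inv_mul_cancel₀ hr, one_smul]
        _ = r⁻¹ • ((-s) • u) := by rw [this]
        _ = (-(s / r)) • u := by rw [smul_smul]; congr 1; field_simp
    have hs : s ≠ 0 := by
      intro hs0
      rw [hs0, zero_div, neg_zero, zero_smul] at hwu
      exact hw hwu
    intro a b hab
    rw [hwu, smul_smul] at hab
    have := hy _ _ hab
    refine ⟨?_, this.2⟩
    have h3 := this.1
    rcases mul_eq_zero.1 h3 with h4 | h4
    · exact h4
    · exfalso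
      have : s / r = 0 := neg_eq_zero.1 h4
      rcases div_eq_zero_iff.1 this with h5 | h5
      · exact hs h5
      · exact hr h5

/-- a non-scalar matrix moves some vector off its line -/
lemma exists_li_of_not_scalar {A : Matrix (Fin m) (Fin m) F}
    (hA : ¬ ∃ c : F, A = c • (1 : Matrix (Fin m) (Fin m) F)) :
    ∃ v : Fin m → F, LinearIndependent F ![v, A *ᵥ v] := by
  by_contra h
  push_neg at h
  have h' : ∀ v, ¬ LinearIndependent F ![v, (Matrix.toLin' A) v] := by
    intro v; simpa using h v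
  obtain ⟨a, ha⟩ := LinearMap.exists_eq_smul_id_of_forall_notLinearIndependent h'
  apply hA
  refine ⟨a, ?_⟩
  apply Matrix.toLin'.injective
  rw [ha]
  ext v i
  simp

lemma li_left_ne_zero {x y : Fin m → F} (h : LinearIndependent F ![x, y]) : x ≠ 0 := by
  have := h.ne_zero 0
  simpa using this

lemma li_right_ne_zero {x y : Fin m → F} (h : LinearIndependent F ![x, y]) : y ≠ 0 := by
  have := h.ne_zero 1
  simpa using this

/-! ### the action of a normal-form element on pure vectors -/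

lemma nf_mulVec_pv (σ : Equiv.Perm (Fin t)) (gs : Fin t → Matrix (Fin m) (Fin m) F)
    (xs : Fin t → Fin m → F) :
    (fperm m t σ * ptens m t gs) *ᵥ pv xs = pv (fun j => gs (σ.symm j) *ᵥ xs (σ.symm j)) := by
  rw [← Matrix.mulVec_mulVec, ptens_mulVec_pv, fperm_mulVec_pv]

/-- "`h` moves every pure vector in at most one position" -/
def AtMostOne (σ : Equiv.Perm (Fin t)) (α : Fin t → GL (Fin m) F) : Prop :=
  ∀ xs : Fin t → Fin m → F, (∀ j, xs j ≠ 0) → ∀ j₁ j₂ : Fin t, j₁ ≠ j₂ →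
    LinearIndependent F ![xs j₁,
      ((α (σ.symm j₁) : GL (Fin m) F) : Matrix (Fin m) (Fin m) F) *ᵥ xs (σ.symm j₁)] →
    LinearIndependent F ![xs j₂,
      ((α (σ.symm j₂) : GL (Fin m) F) : Matrix (Fin m) (Fin m) F) *ᵥ xs (σ.symm j₂)] → False

/-- step A: the permutation part is trivial -/
theorem perm_eq_one_of_atMostOne (hm : 2 ≤ m) {σ : Equiv.Perm (Fin t)} {α : Fin t → GL (Fin m) F}
    (h : AtMostOne σ α) : σ = 1 := by
  by_contra hσ
  obtain ⟨j₁, hj₁⟩ : ∃ j₁, σ.symm j₁ ≠ j₁ := by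
    by_contra hc
    push_neg at hc
    apply hσ
    ext j
    have := hc (σ j)
    rw [Equiv.symm_apply_apply] at this
    rw [Equiv.Perm.one_apply, ← this]
  set j₂ := σ.symm j₁ with hj₂
  set j₃ := σ.symm j₂ with hj₃
  have h21 : j₂ ≠ j₁ := hj₁
  have h32 : j₃ ≠ j₂ := fun h => h21 (σ.symm.injective h)
  let e : Fin m → F := Pi.single ⟨0, by omega⟩ 1
  have he : e ≠ 0 := by
    intro h0
    have := congrFun h0 ⟨0, by omega⟩
    simp [e] at this
  by_cases h31 : j₃ = j₁
  · -- a 2-cycle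
    have hw : ((α j₂ : GL (Fin m) F) : Matrix (Fin m) (Fin m) F) *ᵥ
        (((α j₁ : GL (Fin m) F) : Matrix (Fin m) (Fin m) F) *ᵥ e) ≠ 0 :=
      GL_mulVec_ne_zero _ (GL_mulVec_ne_zero _ he)
    obtain ⟨y', hy1, hy2⟩ := exists_li_two hm he hw
    let xs : Fin t → Fin m → F := fun j =>
      if j = j₁ then e else if j = j₂ then
        (((α j₂)⁻¹ : GL (Fin m) F) : Matrix (Fin m) (Fin m) F) *ᵥ y' else e
    have hx1 : xs j₁ = e := by simp only [xs, if_true]
    have hx2 : xs j₂ = (((α j₂)⁻¹ : GL (Fin m) F) : Matrix (Fin m) (Fin m) F) *ᵥ y' := by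
      simp only [xs, if_neg h21, if_true]
    have hy'0 : y' ≠ 0 := li_right_ne_zero hy1
    refine h xs ?_ j₁ j₂ h21.symm ?_ ?_
    · intro j
      simp only [xs]
      split_ifs
      · exact he
      · exact GL_mulVec_ne_zero _ hy'0
      · exact he
    · rw [← hj₂, hx1, hx2, GL_mulVec_inv]
      exact hy1
    · rw [← hj₃, h31, hx1, hx2]
      have h5 := li_mulVec (α j₂)⁻¹ hy2
      rw [GL_inv_mulVec] at h5
      exact linearIndependent_pair_swap h5
  · -- three different positions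
    have hw : ((α j₂ : GL (Fin m) F) : Matrix (Fin m) (Fin m) F) *ᵥ e ≠ 0 := GL_mulVec_ne_zero _ he
    obtain ⟨y₁, hy₁⟩ := exists_li_partner hm hw
    obtain ⟨y₃, hy₃⟩ := exists_li_partner hm he
    let xs : Fin t → Fin m → F := fun j =>
      if j = j₁ then y₁ else if j = j₂ then e else if j = j₃ then
        (((α j₃)⁻¹ : GL (Fin m) F) : Matrix (Fin m) (Fin m) F) *ᵥ y₃ else e
    have hx1 : xs j₁ = y₁ := by simp only [xs, if_true]
    have hx2 : xs j₂ = e := by simp only [xs, if_neg h21, if_true]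
    have hx3 : xs j₃ = (((α j₃)⁻¹ : GL (Fin m) F) : Matrix (Fin m) (Fin m) F) *ᵥ y₃ := by
      simp only [xs, if_neg h31, if_neg h32, if_true]
    refine h xs ?_ j₁ j₂ h21.symm ?_ ?_
    · intro j
      simp only [xs]
      split_ifs
      · exact li_right_ne_zero hy₁
      · exact he
      · exact GL_mulVec_ne_zero _ (li_right_ne_zero hy₃)
      · exact he
    · rw [← hj₂, hx1, hx2]
      exact linearIndependent_pair_swap hy₁
    · rw [← hj₃, hx2, hx3, GL_mulVec_inv]
      exact hy₃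

/-- step B: at most one factor is non-scalar -/
theorem scalar_of_atMostOne (hm : 2 ≤ m) {α : Fin t → GL (Fin m) F}
    (h : AtMostOne (1 : Equiv.Perm (Fin t)) α) {j₁ j₂ : Fin t} (hne : j₁ ≠ j₂)
    (h₁ : ¬ ∃ c : F, ((α j₁ : GL (Fin m) F) : Matrix (Fin m) (Fin m) F) = c • 1) :
    ∃ c : F, ((α j₂ : GL (Fin m) F) : Matrix (Fin m) (Fin m) F) = c • 1 := by
  by_contra h₂
  obtain ⟨x₁, hx₁⟩ := exists_li_of_not_scalar h₁
  obtain ⟨x₂, hx₂⟩ := exists_li_of_not_scalar h₂
  let xs : Fin t → Fin m → F := fun j => if j = j₁ then x₁ else x₂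
  have e1 : xs j₁ = x₁ := by simp only [xs, if_true]
  have e2 : xs j₂ = x₂ := by simp only [xs, if_neg hne.symm]
  refine h xs ?_ j₁ j₂ hne ?_ ?_
  · intro j
    simp only [xs]
    split_ifs
    · exact li_left_ne_zero hx₁
    · exact li_left_ne_zero hx₂
  · have : (1 : Equiv.Perm (Fin t)).symm j₁ = j₁ := rfl
    rw [this, e1]
    exact hx₁
  · have : (1 : Equiv.Perm (Fin t)).symm j₂ = j₂ := rfl
    rw [this, e2]
    exact hx₂

/-! ### Lemma Q'(a) -/

section Qa
variable [Fintype F]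

open Cfsg.Agent.Lib.Helper28.SLMLeaf in
/-- a root-like family `{1 + c N}` inside `G` (`q ≥ 3`) moves every pure vector in at most one position -/
theorem atMostOne_of_family (hq : 3 ≤ Fintype.card F)
    (N : Matrix (Fin t → Fin m) (Fin t → Fin m) F)
    (hG : ∀ c : F, ∃ g ∈ tensorWreathStandard m t F,
      (g : Matrix (Fin t → Fin m) (Fin t → Fin m) F) = 1 + c • N)
    (σ : Equiv.Perm (Fin t)) (α : Fin t → GL (Fin m) F)
    (hnf : 1 + N = fperm m t σ * ptens m t
      (fun i => ((α i : GL (Fin m) F) : Matrix (Fin m) (Fin m) F))) : AtMostOne σ α := by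
  intro xs hxs j₁ j₂ hne h₁ h₂
  -- a scalar `c ≠ 0, 1`
  obtain ⟨c, hc0, hc1⟩ : ∃ c : F, c ≠ 0 ∧ c ≠ 1 := by
    classical
    by_contra hcon
    push_neg at hcon
    have hsub : (Finset.univ : Finset F) ⊆ {0, 1} := by
      intro c _
      by_cases hc : c = 0
      · rw [hc]; simp
      · rw [hcon c hc]; simp
    have h1 := Finset.card_le_card hsub
    have h2 : ({0, 1} : Finset F).card ≤ 2 := Finset.card_le_two
    rw [Finset.card_univ] at h1
    omega
  obtain ⟨g, hg, hgv⟩ := hG c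
  have hdec : (g : Matrix (Fin t → Fin m) (Fin t → Fin m) F) *ᵥ pv xs ∈ DecT m t F :=
    (tensorWreathStandard_le_stab m t hg (pv xs)).2 ⟨xs, rfl⟩
  obtain ⟨cs, hcs⟩ := hdec
  set ys : Fin t → Fin m → F := fun j =>
    ((α (σ.symm j) : GL (Fin m) F) : Matrix (Fin m) (Fin m) F) *ᵥ xs (σ.symm j) with hys
  have hNv : N *ᵥ pv xs = pv ys - pv xs := by
    have h3 := nf_mulVec_pv σ (fun i => ((α i : GL (Fin m) F) : Matrix (Fin m) (Fin m) F)) xs
    rw [← hnf, Matrix.add_mulVec, Matrix.one_mulVec] at h3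
    rw [← h3]
    abel
  have hline : (1 - c) • pv xs + c • pv ys = pv cs := by
    have h4 : (g : Matrix (Fin t → Fin m) (Fin t → Fin m) F) *ᵥ pv xs = pv cs := hcs
    rw [← h4, hgv, Matrix.add_mulVec, Matrix.one_mulVec, Matrix.smul_mulVec, hNv]
    module
  refine pure_line xs ys cs (1 - c) c (sub_ne_zero.2 (Ne.symm hc1)) hc0 hxs ?_ hline hne h₁ h₂
  intro j
  exact GL_mulVec_ne_zero _ (hxs _)

/-- LEMMA Q'(a): for `q ≥ 3`, a root-like family `{1 + c N}` inside `G = tensorWreathStandard m t F` consists of root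
elements: `N = slot j (z ζᵀ)` with `ζ·z = 0`. -/
theorem rootlike_is_root (hm : 2 ≤ m) (hq : 3 ≤ Fintype.card F)
    (N : Matrix (Fin t → Fin m) (Fin t → Fin m) F) (hN0 : N ≠ 0) (hNN : N * N = 0)
    (hrk : N.rank ≤ m ^ (t - 1))
    (hG : ∀ c : F, ∃ g ∈ tensorWreathStandard m t F,
      (g : Matrix (Fin t → Fin m) (Fin t → Fin m) F) = 1 + c • N) :
    ∃ (j : Fin t) (z ζ : Fin m → F), z ≠ 0 ∧ ζ ≠ 0 ∧ ζ ⬝ᵥ z = 0 ∧
      N = slot m t j (Matrix.vecMulVec z ζ) := by
  obtain ⟨g, hg, hgv⟩ := hG 1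
  rw [one_smul] at hgv
  obtain ⟨σ, α, hnf⟩ := exists_fperm_ptens g hg
  rw [hgv] at hnf
  have hAMO := atMostOne_of_family hq N hG σ α hnf
  have hσ : σ = 1 := perm_eq_one_of_atMostOne hm hAMO
  subst hσ
  rw [wr_fperm_one, one_mul] at hnf
  -- some factor is not scalar
  obtain ⟨j, hj⟩ : ∃ j, ¬ ∃ c : F, ((α j : GL (Fin m) F) : Matrix (Fin m) (Fin m) F) = c • 1 := by
    by_contra hc
    push_neg at hc
    choose cs hcs using hc
    have h1 : (fun i => ((α i : GL (Fin m) F) : Matrix (Fin m) (Fin m) F)) =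
        fun i => cs i • (1 : Matrix (Fin m) (Fin m) F) := funext hcs
    rw [h1, ptens_smul, ptens_one] at hnf
    have hN : N = ((∏ i, cs i) - 1) • (1 : Matrix (Fin t → Fin m) (Fin t → Fin m) F) := by
      rw [sub_smul, one_smul, ← hnf]
      abel
    rw [hN, Matrix.smul_mul, Matrix.mul_smul, Matrix.one_mul, smul_smul] at hNN
    have h0 : ((∏ i, cs i) - 1) * ((∏ i, cs i) - 1) = 0 := by
      by_contra hne
      have h5 := congrFun (congrFun hNN (fun _ => ⟨0, by omega⟩)) (fun _ => ⟨0, by omega⟩)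
      rw [Matrix.smul_apply, Matrix.one_apply_eq, smul_eq_mul, mul_one, Matrix.zero_apply] at h5
      exact hne h5
    have h6 : (∏ i, cs i) - 1 = 0 := by
      rcases mul_eq_zero.1 h0 with h | h <;> exact h
    apply hN0
    rw [hN, h6, zero_smul]
  -- all other factors are scalar
  have hothers : ∀ i, i ≠ j → ∃ c : F, ((α i : GL (Fin m) F) : Matrix (Fin m) (Fin m) F) = c • 1 :=
    fun i hi => scalar_of_atMostOne hm hAMO (Ne.symm hi) hj
  choose cs hcs using hothers
  let d : Fin t → F := fun i => if h : i = j then 1 else cs i h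
  have h1 : (fun i => ((α i : GL (Fin m) F) : Matrix (Fin m) (Fin m) F)) =
      fun i => d i • Function.update (fun _ => (1 : Matrix (Fin m) (Fin m) F)) j
        ((α j : GL (Fin m) F) : Matrix (Fin m) (Fin m) F) i := by
    funext i
    by_cases hi : i = j
    · subst hi
      simp only [d, dif_pos, Function.update_self, one_smul]
    · simp only [d, dif_neg hi, Function.update_of_ne hi]
      exact hcs i hi
  rw [h1, ptens_smul, ← slot_eq_ptens, ← slot_smul] at hnf
  set A : Matrix (Fin m) (Fin m) F :=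
    (∏ i, d i) • ((α j : GL (Fin m) F) : Matrix (Fin m) (Fin m) F) with hA
  have hN : N = slot m t j (A - 1) := by
    rw [slot_sub, slot_one, ← hnf]
    abel
  have hm0 : 0 < m := by omega
  have hB0 : A - 1 ≠ 0 := by
    intro h
    apply hN0
    rw [hN, h, slot_zero]
  have hBB : (A - 1) * (A - 1) = 0 := by
    apply slot_injective hm0 j
    rw [slot_mul, ← hN, hNN, slot_zero]
  have hBr : (A - 1).rank ≤ 1 := by
    rw [hN, rank_slot] at hrk
    have hpos : 0 < m ^ (t - 1) := pow_pos hm0 _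
    by_contra hc
    push_neg at hc
    have : 2 * m ^ (t - 1) ≤ (A - 1).rank * m ^ (t - 1) := Nat.mul_le_mul_right _ hc
    omega
  obtain ⟨z, ζ, hz, hζ, hB⟩ := exists_vecMulVec_of_rank_le_one hB0 hBr
  refine ⟨j, z, ζ, hz, hζ, ?_, by rw [hN, hB]⟩
  rw [hB, vecMulVec_mul_self] at hBB
  rcases smul_eq_zero.1 hBB with h | h
  · exact h
  · exact absurd (hB.trans h) hB0

end Qa

end Cfsg.Agent.Lib.Helper6.TWQ
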