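import Mathlib
import Cfsg.Agent.Lib.Helper8.TW.Defs
import Cfsg.Agent.Lib.Helper20.AschA89WR
import Cfsg.Agent.Lib.Helper20.AschA89F2J
import Cfsg.Agent.Lib.Helper6.TWQa
import Cfsg.Agent.Lib.Helper6.TWT1

/-!
S5641 (C7), block (Q') = fusion control (sub-planner helper6): definitions for the case `q = 2`.
`dM` = the companion matrix of `X³ - X - 1` (of order 7 over `F_2`), `dGL` the corresponding unit,
`fcube E = E³ + E + 1`.
-/

set_option autoImplicit false
set_option linter.unusedSectionVars false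
set_option linter.unusedVariables false

namespace Cfsg.Agent.Lib.Helper6.TWQ
open Matrix Cfsg.Geo Cfsg.Agent.Lib.Helper18.AschA89 Cfsg.Agent.Lib.Helper20.AschLeaf

variable {F : Type*} [Field F]

/-- the companion matrix of `X³ - X - 1` -/
def dM (F : Type*) [Field F] : Matrix (Fin 3) (Fin 3) F := !![0, 0, 1; 1, 0, 1; 0, 1, 0]

/-- its inverse `d² - 1` -/
def dMi (F : Type*) [Field F] : Matrix (Fin 3) (Fin 3) F := !![-1, 1, 0; 0, 0, 1; 1, 0, 0]

lemma dM_cube : dM F * dM F * dM F = dM F + 1 := by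
  ext i j
  fin_cases i <;> fin_cases j <;>
    simp [dM, Matrix.mul_apply, Fin.sum_univ_three, Matrix.one_apply]

lemma dM_mul_dMi : dM F * dMi F = 1 := by
  ext i j
  fin_cases i <;> fin_cases j <;>
    simp [dM, dMi, Matrix.mul_apply, Fin.sum_univ_three, Matrix.one_apply]

lemma dMi_mul_dM : dMi F * dM F = 1 := by
  ext i j
  fin_cases i <;> fin_cases j <;>
    simp [dM, dMi, Matrix.mul_apply, Fin.sum_univ_three, Matrix.one_apply]

/-- `dM` as a unit -/
def dGL (F : Type*) [Field F] : GL (Fin 3) F := ⟨dM F, dMi F, dM_mul_dMi, dMi_mul_dM⟩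

@[simp] lemma dGL_val : ((dGL F : GL (Fin 3) F) : Matrix (Fin 3) (Fin 3) F) = dM F := rfl

/-- `E ↦ E³ + E + 1` -/
def fcube {ι : Type} [Fintype ι] [DecidableEq ι] (E : Matrix ι ι F) : Matrix ι ι F := E * E * E + E + 1

lemma fcube_conj {ι : Type} [Fintype ι] [DecidableEq ι] (g : GL ι F) (E : Matrix ι ι F) :
    fcube ((g : Matrix ι ι F) * E * ((g⁻¹ : GL ι F) : Matrix ι ι F)) =
      (g : Matrix ι ι F) * fcube E * ((g⁻¹ : GL ι F) : Matrix ι ι F) := by
  have h1 : ((g⁻¹ : GL ι F) : Matrix ι ι F) * (g : Matrix ι ι F) = 1 := by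
    rw [← Units.val_mul, inv_mul_cancel, Units.val_one]
  have h2 : (g : Matrix ι ι F) * ((g⁻¹ : GL ι F) : Matrix ι ι F) = 1 := by
    rw [← Units.val_mul, mul_inv_cancel, Units.val_one]
  unfold fcube
  have e3 : (g : Matrix ι ι F) * E * ((g⁻¹ : GL ι F) : Matrix ι ι F) *
      ((g : Matrix ι ι F) * E * ((g⁻¹ : GL ι F) : Matrix ι ι F)) *
      ((g : Matrix ι ι F) * E * ((g⁻¹ : GL ι F) : Matrix ι ι F)) =
      (g : Matrix ι ι F) * (E * E * E) * ((g⁻¹ : GL ι F) : Matrix ι ι F) := by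
    calc (g : Matrix ι ι F) * E * ((g⁻¹ : GL ι F) : Matrix ι ι F) *
          ((g : Matrix ι ι F) * E * ((g⁻¹ : GL ι F) : Matrix ι ι F)) *
          ((g : Matrix ι ι F) * E * ((g⁻¹ : GL ι F) : Matrix ι ι F))
        = (g : Matrix ι ι F) * E * (((g⁻¹ : GL ι F) : Matrix ι ι F) * (g : Matrix ι ι F)) * E *
          (((g⁻¹ : GL ι F) : Matrix ι ι F) * (g : Matrix ι ι F)) * E *
          ((g⁻¹ : GL ι F) : Matrix ι ι F) := by simp only [mul_assoc]
      _ = (g : Matrix ι ι F) * (E * E * E) * ((g⁻¹ : GL ι F) : Matrix ι ι F) := by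
          rw [h1]; simp only [mul_one, mul_assoc]
  rw [e3, mul_add, mul_add, add_mul, add_mul, mul_one, h2]

end Cfsg.Agent.Lib.Helper6.TWQ
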