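import Mathlib
import Cfsg.Agent.Lib.Helper8.TW.Defs
import Cfsg.Agent.Lib.Helper20.AschA89WR
import Cfsg.Agent.Lib.Helper20.AschA89F2J
import Cfsg.Agent.Lib.Helper6.TWQa
import Cfsg.Agent.Lib.Helper6.TWT1
import Cfsg.Agent.Lib.Helper6.TWQDefs
import Cfsg.Agent.Lib.Helper12.TWTS

/-!
S5641 (C7), block (Q') (sub-planner helper6, `notes/S5641_Q_leaves.lean`), exact signatures:
(QU) `nf_unique`, (QB0) `involution_nf`, (QXs1) `swap_side_easy`.
-/

set_option autoImplicit false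
set_option linter.unusedSectionVars false
set_option linter.unusedVariables false

namespace Cfsg.Agent.Lib.Helper6.TWQLeaf
open Matrix Cfsg.Geo Cfsg.Agent.Lib.Helper18.AschA89 Cfsg.Agent.Lib.Helper20.AschLeaf Cfsg.Agent.Lib.Helper8.TW
open Cfsg.Agent.Lib.Helper6.TWQ (dM dGL fcube)

variable {F : Type*} [Field F] {t m : ℕ}

/-- equal pure vectors (with non-zero factors) have parallel factors -/
lemma pv_eq_parallel {xs ys : Fin t → Fin m → F} (h : Cfsg.Agent.Lib.Helper6.TWQ.pv xs = Cfsg.Agent.Lib.Helper6.TWQ.pv ys)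
    (hys : ∀ l, ys l ≠ 0) (j : Fin t) : ¬ LinearIndependent F ![xs j, ys j] := by
  intro hli
  obtain ⟨ψ₀, hψ1, hψ0⟩ := Cfsg.Agent.Lib.Helper6.TWQ.exists_dot_one_zero
    (Cfsg.Agent.Lib.Helper6.TWQ.linearIndependent_pair_swap hli)
  choose ψ hψ using fun l => Cfsg.Agent.Lib.Helper6.TWQ.exists_dot_ne_ne (hys l) (hys l)
  let φ : Fin t → Fin m → F := fun l => if l = j then ψ₀ else ψ l
  have e1 : Cfsg.Agent.Lib.Helper6.TWQ.pv φ ⬝ᵥ Cfsg.Agent.Lib.Helper6.TWQ.pv xs = 0 := by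
    rw [Cfsg.Agent.Lib.Helper6.TWQ.pv_dot_pv]
    refine Finset.prod_eq_zero (Finset.mem_univ j) ?_
    simp only [φ, if_true]
    exact hψ0
  have e2 : Cfsg.Agent.Lib.Helper6.TWQ.pv φ ⬝ᵥ Cfsg.Agent.Lib.Helper6.TWQ.pv ys ≠ 0 := by
    rw [Cfsg.Agent.Lib.Helper6.TWQ.pv_dot_pv]
    refine Finset.prod_ne_zero_iff.2 fun l _ => ?_
    by_cases hl : l = j
    · subst hl
      simp only [φ, if_true]
      rw [hψ1]
      exact one_ne_zero
    · simp only [φ, if_neg hl]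
      exact (hψ l).1
  rw [h] at e1
  exact e2 e1

/-- (QU) uniqueness of the normal form -/
theorem nf_unique (hm : 2 ≤ m) (τ : Equiv.Perm (Fin t)) (a : Fin t → GL (Fin m) F)
    (h : fperm m t τ * ptens m t (fun i => ((a i : GL (Fin m) F) : Matrix (Fin m) (Fin m) F)) = 1) :
    τ = 1 ∧ ∀ i, ∃ c : F, ((a i : GL (Fin m) F) : Matrix (Fin m) (Fin m) F) = c • 1 := by
  have hfix : ∀ xs : Fin t → Fin m → F,
      Cfsg.Agent.Lib.Helper6.TWQ.pv xs = Cfsg.Agent.Lib.Helper6.TWQ.pv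
        (fun j => ((a (τ.symm j) : GL (Fin m) F) : Matrix (Fin m) (Fin m) F) *ᵥ xs (τ.symm j)) := by
    intro xs
    have h1 := Cfsg.Agent.Lib.Helper6.TWQ.nf_mulVec_pv τ
      (fun i => ((a i : GL (Fin m) F) : Matrix (Fin m) (Fin m) F)) xs
    rw [h, Matrix.one_mulVec] at h1
    exact h1
  have hAMO : Cfsg.Agent.Lib.Helper6.TWQ.AtMostOne τ a := by
    intro xs hxs j₁ j₂ _ h₁ _
    exact pv_eq_parallel (hfix xs)
      (fun l => Cfsg.Agent.Lib.Helper6.TWQ.GL_mulVec_ne_zero _ (hxs _)) j₁ h₁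
  have hτ : τ = 1 := Cfsg.Agent.Lib.Helper6.TWQ.perm_eq_one_of_atMostOne hm hAMO
  refine ⟨hτ, fun i => ?_⟩
  subst hτ
  by_contra hns
  obtain ⟨v, hv⟩ := Cfsg.Agent.Lib.Helper6.TWQ.exists_li_of_not_scalar hns
  have hv0 : v ≠ 0 := Cfsg.Agent.Lib.Helper6.TWQ.li_left_ne_zero hv
  refine pv_eq_parallel (hfix (fun _ => v))
    (fun l => Cfsg.Agent.Lib.Helper6.TWQ.GL_mulVec_ne_zero _ hv0) i ?_
  exact hv

/-- (QB0) -/
theorem involution_nf [Fintype F] (hq : Fintype.card F = 2) (hm : 2 ≤ m) (σ : Equiv.Perm (Fin t))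
    (α : Fin t → GL (Fin m) F)
    (h : (fperm m t σ * ptens m t (fun i => ((α i : GL (Fin m) F) : Matrix (Fin m) (Fin m) F))) *
      (fperm m t σ * ptens m t (fun i => ((α i : GL (Fin m) F) : Matrix (Fin m) (Fin m) F))) = 1) :
    σ * σ = 1 ∧ ∀ i, α (σ i) * α i = 1 := by
  have hsq : (fperm m t σ * ptens m t (fun i => ((α i : GL (Fin m) F) : Matrix (Fin m) (Fin m) F))) *
      (fperm m t σ * ptens m t (fun i => ((α i : GL (Fin m) F) : Matrix (Fin m) (Fin m) F))) =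
      fperm m t (σ * σ) * ptens m t
        (fun i => (((α (σ i) * α i : GL (Fin m) F)) : Matrix (Fin m) (Fin m) F)) := by
    have h3 : (fun i : Fin t => (((α (σ i) * α i : GL (Fin m) F)) : Matrix (Fin m) (Fin m) F)) =
        fun i => ((α (σ i) : GL (Fin m) F) : Matrix (Fin m) (Fin m) F) *
          ((α i : GL (Fin m) F) : Matrix (Fin m) (Fin m) F) := by
      funext i
      rw [Units.val_mul]
    rw [h3, ← ptens_mul, ← wr_fperm_mul]
    calc fperm m t σ * ptens m t (fun i => ((α i : GL (Fin m) F) : Matrix (Fin m) (Fin m) F)) *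
          (fperm m t σ * ptens m t (fun i => ((α i : GL (Fin m) F) : Matrix (Fin m) (Fin m) F)))
        = fperm m t σ * (ptens m t (fun i => ((α i : GL (Fin m) F) : Matrix (Fin m) (Fin m) F)) *
          fperm m t σ) * ptens m t (fun i => ((α i : GL (Fin m) F) : Matrix (Fin m) (Fin m) F)) := by
          simp only [mul_assoc]
      _ = fperm m t σ * fperm m t σ *
          (ptens m t (fun i => ((α (σ i) : GL (Fin m) F) : Matrix (Fin m) (Fin m) F)) *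
          ptens m t (fun i => ((α i : GL (Fin m) F) : Matrix (Fin m) (Fin m) F))) := by
          rw [Cfsg.Agent.Lib.Helper6.TWQ.ptens_mul_fperm]
          simp only [mul_assoc]
  rw [hsq] at h
  obtain ⟨h1, h2⟩ := nf_unique hm (σ * σ) (fun i => α (σ i) * α i) h
  refine ⟨h1, fun i => ?_⟩
  obtain ⟨c, hc⟩ := h2 i
  apply Units.ext
  rw [hc, Units.val_one]
  have hc0 : c ≠ 0 := by
    intro h0
    rw [h0, zero_smul] at hc
    have hdet := (Matrix.isUnit_iff_isUnit_det _).1 ((α (σ i) * α i).isUnit)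
    haveI : Nonempty (Fin m) := ⟨⟨0, by omega⟩⟩
    rw [hc, Matrix.det_zero] at hdet
    exact not_isUnit_zero hdet
  have hc1 : c = 1 := by
    classical
    have h1 : Fintype.card Fˣ = 1 := by rw [Fintype.card_units, hq]
    have h2 : Subsingleton Fˣ := Fintype.card_le_one_iff_subsingleton.1 (le_of_eq h1)
    have := congrArg Units.val (Subsingleton.elim (Units.mk0 c hc0) 1)
    simpa using this
  rw [hc1, one_smul]

/-- (QXs1) the swap side, easy part -/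
theorem swap_side_easy (h2 : (2 : F) = 0) (j₁ j₂ : Fin t) (hj : j₁ ≠ j₂) :
    fperm (F := F) 3 t (Equiv.swap j₁ j₂) * (slot 3 t j₁ (dM F) * slot 3 t j₂ (dM F)) =
        (slot 3 t j₁ (dM F) * slot 3 t j₂ (dM F)) * fperm 3 t (Equiv.swap j₁ j₂) ∧
      fcube (slot 3 t j₁ (dM F) * slot 3 t j₂ (dM F)) = slot 3 t j₁ (dM F) + slot 3 t j₂ (dM F) ∧
      ∀ v : Idx t 3 → F, fperm (F := F) 3 t (Equiv.swap j₁ j₂) *ᵥ v = v →
        ∃ w, (slot 3 t j₁ (dM F) + slot 3 t j₂ (dM F)) *ᵥ v = fperm (F := F) 3 t (Equiv.swap j₁ j₂) *ᵥ w + w := by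
  set s : Matrix (Idx t 3) (Idx t 3) F := fperm 3 t (Equiv.swap j₁ j₂) with hs
  set D₁ : Matrix (Idx t 3) (Idx t 3) F := slot 3 t j₁ (dM F) with hD₁
  set D₂ : Matrix (Idx t 3) (Idx t 3) F := slot 3 t j₂ (dM F) with hD₂
  have hsi : fperm (F := F) 3 t (Equiv.swap j₁ j₂)⁻¹ * s = 1 := wr_fperm_inv_mul 3 t _
  have hcomm : D₁ * D₂ = D₂ * D₁ := Cfsg.Agent.Lib.Helper12.TWLeaf.slot_comm j₁ j₂ hj _ _
  have hs1 : s * D₁ = D₂ * s := by
    have h1 := wr_fperm_conj_slot (F := F) 3 t (Equiv.swap j₁ j₂) j₁ (dM F)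
    rw [Equiv.swap_apply_left] at h1
    calc s * D₁ = s * D₁ * (fperm (F := F) 3 t (Equiv.swap j₁ j₂)⁻¹ * s) := by rw [hsi, mul_one]
      _ = (s * D₁ * fperm (F := F) 3 t (Equiv.swap j₁ j₂)⁻¹) * s := by simp only [mul_assoc]
      _ = D₂ * s := by rw [h1]
  have hs2 : s * D₂ = D₁ * s := by
    have h1 := wr_fperm_conj_slot (F := F) 3 t (Equiv.swap j₁ j₂) j₂ (dM F)
    rw [Equiv.swap_apply_right] at h1
    calc s * D₂ = s * D₂ * (fperm (F := F) 3 t (Equiv.swap j₁ j₂)⁻¹ * s) := by rw [hsi, mul_one]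
      _ = (s * D₂ * fperm (F := F) 3 t (Equiv.swap j₁ j₂)⁻¹) * s := by simp only [mul_assoc]
      _ = D₁ * s := by rw [h1]
  have hc1 : D₁ * D₁ * D₁ = D₁ + 1 := by
    rw [hD₁, Cfsg.Agent.Lib.Helper8.TW.slot_mul, Cfsg.Agent.Lib.Helper8.TW.slot_mul,
      Cfsg.Agent.Lib.Helper6.TWQ.dM_cube, Cfsg.Agent.Lib.Helper8.TW.slot_add,
      Cfsg.Agent.Lib.Helper8.TW.slot_one]
  have hc2 : D₂ * D₂ * D₂ = D₂ + 1 := by
    rw [hD₂, Cfsg.Agent.Lib.Helper8.TW.slot_mul, Cfsg.Agent.Lib.Helper8.TW.slot_mul,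
      Cfsg.Agent.Lib.Helper6.TWQ.dM_cube, Cfsg.Agent.Lib.Helper8.TW.slot_add,
      Cfsg.Agent.Lib.Helper8.TW.slot_one]
  refine ⟨?_, ?_, ?_⟩
  · calc s * (D₁ * D₂) = (s * D₁) * D₂ := by rw [mul_assoc]
      _ = D₂ * (s * D₂) := by rw [hs1, mul_assoc]
      _ = D₂ * D₁ * s := by rw [hs2, mul_assoc]
      _ = D₁ * D₂ * s := by rw [hcomm]
  · unfold fcube
    have hcube : D₁ * D₂ * (D₁ * D₂) * (D₁ * D₂) = (D₁ * D₁ * D₁) * (D₂ * D₂ * D₂) := by
      have e1 : D₁ * D₂ * (D₁ * D₂) = D₁ * D₁ * (D₂ * D₂) := by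
        calc D₁ * D₂ * (D₁ * D₂) = D₁ * (D₂ * D₁) * D₂ := by simp only [mul_assoc]
          _ = D₁ * (D₁ * D₂) * D₂ := by rw [hcomm]
          _ = D₁ * D₁ * (D₂ * D₂) := by simp only [mul_assoc]
      have e2 : D₂ * D₂ * D₁ = D₁ * (D₂ * D₂) := by
        calc D₂ * D₂ * D₁ = D₂ * (D₂ * D₁) := by rw [mul_assoc]
          _ = D₂ * (D₁ * D₂) := by rw [hcomm]
          _ = (D₂ * D₁) * D₂ := by rw [mul_assoc]
          _ = D₁ * D₂ * D₂ := by rw [hcomm]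
          _ = D₁ * (D₂ * D₂) := by rw [mul_assoc]
      calc D₁ * D₂ * (D₁ * D₂) * (D₁ * D₂) = D₁ * D₁ * (D₂ * D₂) * (D₁ * D₂) := by rw [e1]
        _ = D₁ * D₁ * ((D₂ * D₂ * D₁) * D₂) := by simp only [mul_assoc]
        _ = D₁ * D₁ * ((D₁ * (D₂ * D₂)) * D₂) := by rw [e2]
        _ = (D₁ * D₁ * D₁) * (D₂ * D₂ * D₂) := by simp only [mul_assoc]
    rw [hcube, hc1, hc2]
    have h2M : ∀ X : Matrix (Idx t 3) (Idx t 3) F, X + X = 0 := by
      intro X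
      rw [← two_smul F X, h2, zero_smul]
    calc (D₁ + 1) * (D₂ + 1) + D₁ * D₂ + 1 = (D₁ * D₂ + D₁ * D₂) + (1 + 1) + (D₁ + D₂) := by
          rw [add_mul, mul_add, mul_add, mul_one, one_mul, one_mul]; abel
      _ = D₁ + D₂ := by rw [h2M, h2M, zero_add, zero_add]
  · intro v hv
    refine ⟨D₁ *ᵥ v, ?_⟩
    rw [Matrix.mulVec_mulVec, hs1, ← Matrix.mulVec_mulVec, hv, Matrix.add_mulVec, add_comm]

end Cfsg.Agent.Lib.Helper6.TWQLeaf
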