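import Mathlib
import Cfsg.Agent.Lib.Helper8.TW.Defs
import Cfsg.Agent.Lib.Helper20.AschA89WR
import Cfsg.Agent.Lib.Helper20.AschA89F2J
import Cfsg.Agent.Lib.Helper6.TWQa
import Cfsg.Agent.Lib.Helper6.TWT1
import Cfsg.Agent.Lib.Helper6.TWQDefs
import Cfsg.Agent.Lib.Helper23.TWG1

/-!
# S5641 (Q') leaves QB2b `swap_rank_bound`, QB2c `swap_of_diag_zero` (helper6)
-/

set_option autoImplicit false
set_option linter.unusedSectionVars false
set_option linter.unusedVariables false

namespace Cfsg.Agent.Lib.Helper6.TWQLeaf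
open Matrix Cfsg.Geo Cfsg.Agent.Lib.Helper18.AschA89 Cfsg.Agent.Lib.Helper20.AschLeaf Cfsg.Agent.Lib.Helper8.TW
open Cfsg.Agent.Lib.Helper6.TWQ (dM dGL fcube)

variable {F : Type*} [Field F] {t m : ℕ}

/-- entries of `fperm σ * M` -/
theorem fperm_mul_apply (σ : Equiv.Perm (Fin t)) (M : Matrix (Idx t m) (Idx t m) F) (z w : Idx t m) :
    (fperm (F := F) m t σ * M) z w = M (z ∘ σ) w := by
  classical
  rw [Matrix.mul_apply]
  simp only [fperm_apply, ite_mul, one_mul, zero_mul]
  rw [Finset.sum_ite_eq']
  simp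

/-- entries of the normal form -/
theorem nf_apply (σ : Equiv.Perm (Fin t)) (a : Fin t → Matrix (Fin m) (Fin m) F) (z w : Idx t m) :
    (fperm (F := F) m t σ * ptens m t a) z w = ∏ i, a i (z (σ i)) (w i) := by
  rw [fperm_mul_apply, ptens_apply]
  rfl

/-- the number of points on the diagonal `z j₁ = z j₂` is at most `m^(t-1)` -/
theorem card_diag_le (j₁ j₂ : Fin t) (hj : j₁ ≠ j₂) :
    Fintype.card {z : Idx t m // z j₁ = z j₂} ≤ m ^ (t - 1) := by
  classical
  have hinj : Function.Injective
      (fun (z : {z : Idx t m // z j₁ = z j₂}) (j : {j : Fin t // j ≠ j₂}) => z.1 j.1) := by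
    intro z z' h
    apply Subtype.ext
    funext j
    by_cases hjj : j = j₂
    · subst hjj
      rw [← z.2, ← z'.2]
      exact congrFun h ⟨j₁, hj⟩
    · exact congrFun h ⟨j, hjj⟩
  have := Fintype.card_le_of_injective _ hinj
  rw [Fintype.card_fun, Fintype.card_fin, Fintype.card_subtype_compl, Fintype.card_fin,
    Fintype.card_subtype_eq] at this
  exact this

/-- trichotomy count -/
theorem card_lt_count (j₁ j₂ : Fin t) (hj : j₁ ≠ j₂) :
    2 * Fintype.card {z : Idx t m // z j₁ < z j₂} + Fintype.card {z : Idx t m // z j₁ = z j₂} = m ^ t := by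
  classical
  have hswap : Fintype.card {z : Idx t m // z j₂ < z j₁} = Fintype.card {z : Idx t m // z j₁ < z j₂} := by
    apply Fintype.card_congr
    refine ⟨fun z => ⟨z.1 ∘ Equiv.swap j₁ j₂, ?_⟩, fun z => ⟨z.1 ∘ Equiv.swap j₁ j₂, ?_⟩, ?_, ?_⟩
    · simp only [Function.comp, Equiv.swap_apply_left, Equiv.swap_apply_right]
      exact z.2
    · simp only [Function.comp, Equiv.swap_apply_left, Equiv.swap_apply_right]
      exact z.2
    · intro z
      apply Subtype.ext
      funext j
      simp [Function.comp]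
    · intro z
      apply Subtype.ext
      funext j
      simp [Function.comp]
  have htot : Fintype.card (Idx t m) = m ^ t := by
    unfold Idx
    rw [Fintype.card_fun, Fintype.card_fin, Fintype.card_fin]
  have h3 : Fintype.card {z : Idx t m // z j₁ < z j₂} + Fintype.card {z : Idx t m // z j₂ < z j₁} +
      Fintype.card {z : Idx t m // z j₁ = z j₂} = Fintype.card (Idx t m) := by
    rw [Fintype.card_subtype, Fintype.card_subtype, Fintype.card_subtype, ← Finset.card_univ,
      Finset.card_filter, Finset.card_filter, Finset.card_filter, ← Finset.sum_add_distrib,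
      ← Finset.sum_add_distrib, Finset.card_eq_sum_ones]
    apply Finset.sum_congr rfl
    intro z _
    rcases lt_trichotomy (z j₁) (z j₂) with h | h | h
    · simp [h, not_lt_of_gt h, ne_of_lt h]
    · simp [h]
    · simp [h, not_lt_of_gt h, ne_of_gt h]
  rw [hswap, htot] at h3
  omega

/-- (QB2b) -/
theorem swap_rank_bound (hm : 2 ≤ m) (σ : Equiv.Perm (Fin t)) (α' : Fin t → GL (Fin m) F) (hσ : σ * σ = 1)
    (j₁ j₂ : Fin t) (hj : j₁ ≠ j₂) (hσj : σ j₁ = j₂) (hα' : ∀ i, σ i ≠ i → α' i = 1)
    (hrk : (fperm m t σ * ptens m t (fun i => ((α' i : GL (Fin m) F) : Matrix (Fin m) (Fin m) F)) - 1).rank ≤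
      m ^ (t - 1)) :
    m ≤ 3 ∧ (m = 3 → ∀ (v : Idx t m → F) (z : Idx t m), z j₁ = z j₂ →
      ((fperm m t σ * ptens m t (fun i => ((α' i : GL (Fin m) F) : Matrix (Fin m) (Fin m) F)) - 1) *ᵥ v) z = 0) := by
  classical
  set h : Matrix (Idx t m) (Idx t m) F :=
    fperm m t σ * ptens m t (fun i => ((α' i : GL (Fin m) F) : Matrix (Fin m) (Fin m) F)) with hh
  have hσj2 : σ j₂ = j₁ := by
    have := congrArg (fun f : Equiv.Perm (Fin t) => f j₁) hσ
    simp only [Equiv.Perm.coe_mul, Function.comp_apply, Equiv.Perm.coe_one, id_eq] at this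
    rw [hσj] at this
    exact this
  have ha1 : α' j₁ = 1 := hα' j₁ (by rw [hσj]; exact hj.symm)
  have ha2 : α' j₂ = 1 := hα' j₂ (by rw [hσj2]; exact hj)
  -- (E1)
  have hE1 : ∀ z w : Idx t m, z j₁ ≤ z j₂ → w j₁ < w j₂ → h z w = 0 := by
    intro z w hz hw
    rw [hh, nf_apply]
    by_cases h1 : z j₂ = w j₁
    · apply Finset.prod_eq_zero (Finset.mem_univ j₂)
      rw [ha2, hσj2, Units.val_one, Matrix.one_apply_ne]
      intro h2
      have h3 : w j₂ ≤ w j₁ := by rw [← h1, ← h2]; exact hz
      exact absurd hw (not_lt_of_ge h3)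
    · apply Finset.prod_eq_zero (Finset.mem_univ j₁)
      rw [ha1, hσj, Units.val_one, Matrix.one_apply_ne h1]
  set d : Idx t m → F := fun z => if z j₁ < z j₂ then 1 else 0 with hd
  set M : Matrix (Idx t m) (Idx t m) F := (h - 1) * Matrix.diagonal d with hM
  have hMe : ∀ z w, M z w = (h z w - (1 : Matrix (Idx t m) (Idx t m) F) z w) * d w := by
    intro z w
    rw [hM, Matrix.mul_diagonal, Matrix.sub_apply]
  -- (E2)
  have hE2 : Matrix.diagonal d * M = - Matrix.diagonal d := by
    ext z w
    rw [Matrix.diagonal_mul, hMe, Matrix.neg_apply, Matrix.diagonal_apply]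
    by_cases hz : z j₁ < z j₂
    · by_cases hw : w j₁ < w j₂
      · rw [hE1 z w (le_of_lt hz) hw]
        by_cases hzw : z = w
        · subst hzw
          simp [hd, hz]
        · simp [hd, hz, hw, hzw, Matrix.one_apply_ne hzw]
      · have hdw : d w = 0 := by simp [hd, hw]
        rw [hdw]
        by_cases hzw : z = w
        · subst hzw
          exact absurd hz hw
        · simp [hzw]
    · have hdz : d z = 0 := by simp [hd, hz]
      rw [hdz]
      by_cases hzw : z = w
      · simp [hzw]
      · simp [hzw]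
  -- (E3)
  have hE3 : ∀ z w : Idx t m, z j₁ = z j₂ → M z w = 0 := by
    intro z w hz
    rw [hMe]
    by_cases hw : w j₁ < w j₂
    · rw [hE1 z w (le_of_eq hz) hw]
      have hzw : z ≠ w := by
        intro hzw
        subst hzw
        rw [hz] at hw
        exact lt_irrefl _ hw
      rw [Matrix.one_apply_ne hzw]
      simp
    · have hdw : d w = 0 := by simp [hd, hw]
      rw [hdw, mul_zero]
  -- ranks
  have hrD : (Matrix.diagonal d).rank = Fintype.card {z : Idx t m // z j₁ < z j₂} := by
    rw [Matrix.rank_diagonal]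
    apply Fintype.card_congr
    refine Equiv.subtypeEquivRight ?_
    intro z
    by_cases hz : z j₁ < z j₂
    · simp [hd, hz]
    · simp [hd, hz]
  have hr1 : (Matrix.diagonal d).rank ≤ M.rank := by
    have : Matrix.diagonal d = (- Matrix.diagonal d) * M := by
      rw [Matrix.neg_mul, hE2, neg_neg]
    calc (Matrix.diagonal d).rank = ((- Matrix.diagonal d) * M).rank := by rw [← this]
      _ ≤ M.rank := Matrix.rank_mul_le_right _ _
  have hr2 : M.rank ≤ (h - 1).rank := Matrix.rank_mul_le_left _ _
  have hcount := card_lt_count (m := m) j₁ j₂ hj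
  have hdiag := card_diag_le (m := m) j₁ j₂ hj
  have ht : 1 ≤ t := by
    rcases Nat.eq_zero_or_pos t with h0 | h0
    · subst h0
      exact j₁.elim0
    · exact h0
  have hpow : m ^ t = m * m ^ (t - 1) := by
    conv_lhs => rw [show t = (t - 1) + 1 by omega]
    rw [pow_succ, mul_comm]
  have hpos : 0 < m ^ (t - 1) := Nat.pow_pos (by omega)
  set s := Fintype.card {z : Idx t m // z j₁ < z j₂} with hs
  set D := Fintype.card {z : Idx t m // z j₁ = z j₂} with hD
  set P := m ^ (t - 1) with hP
  have hsP : s ≤ P := by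
    rw [← hrD]
    exact le_trans hr1 (le_trans hr2 hrk)
  have hm3 : m ≤ 3 := by
    by_contra hcon
    have hcon' : 4 ≤ m := by omega
    have : 4 * P ≤ m * P := Nat.mul_le_mul_right _ hcon'
    omega
  refine ⟨hm3, ?_⟩
  intro hm3' v z hz
  subst hm3'
  have hsP' : s = P := by omega
  -- ranges agree
  have hle : LinearMap.range M.mulVecLin ≤ LinearMap.range (h - 1).mulVecLin := by
    rw [hM, Matrix.mulVecLin_mul]
    exact LinearMap.range_comp_le_range _ _
  have hfr : Module.finrank F (LinearMap.range (h - 1).mulVecLin) ≤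
      Module.finrank F (LinearMap.range M.mulVecLin) := by
    change (h - 1).rank ≤ M.rank
    calc (h - 1).rank ≤ P := hrk
      _ = s := hsP'.symm
      _ = (Matrix.diagonal d).rank := hrD.symm
      _ ≤ M.rank := hr1
  have heq := Submodule.eq_of_le_of_finrank_le hle hfr
  have hmem : (h - 1) *ᵥ v ∈ LinearMap.range M.mulVecLin := by
    rw [heq]
    exact ⟨v, rfl⟩
  obtain ⟨u, hu⟩ := hmem
  rw [← hu]
  change (M *ᵥ u) z = 0
  change ∑ w, M z w * u w = 0
  apply Finset.sum_eq_zero
  intro w _
  rw [hE3 z w hz, zero_mul]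

/-- (QB2c) -/
theorem swap_of_diag_zero [Fintype F] (hq : Fintype.card F = 2) (hm : 2 ≤ m) (σ : Equiv.Perm (Fin t))
    (α' : Fin t → GL (Fin m) F) (hσ : σ * σ = 1) (j₁ j₂ : Fin t) (hj : j₁ ≠ j₂) (hσj : σ j₁ = j₂)
    (hα' : ∀ i, σ i ≠ i → α' i = 1)
    (hdiag : ∀ (v : Idx t m → F) (z : Idx t m), z j₁ = z j₂ →
      ((fperm m t σ * ptens m t (fun i => ((α' i : GL (Fin m) F) : Matrix (Fin m) (Fin m) F)) - 1) *ᵥ v) z = 0) :
    fperm m t σ * ptens m t (fun i => ((α' i : GL (Fin m) F) : Matrix (Fin m) (Fin m) F)) =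
      fperm m t (Equiv.swap j₁ j₂) := by
  classical
  set h : Matrix (Idx t m) (Idx t m) F :=
    fperm m t σ * ptens m t (fun i => ((α' i : GL (Fin m) F) : Matrix (Fin m) (Fin m) F)) with hh
  have hσj2 : σ j₂ = j₁ := by
    have := congrArg (fun f : Equiv.Perm (Fin t) => f j₁) hσ
    simp only [Equiv.Perm.coe_mul, Function.comp_apply, Equiv.Perm.coe_one, id_eq] at this
    rw [hσj] at this
    exact this
  have hσσ : ∀ i, σ (σ i) = i := by
    intro i
    have := congrArg (fun f : Equiv.Perm (Fin t) => f i) hσ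
    simpa using this
  -- entries on diagonal rows
  have hent : ∀ z z₀ : Idx t m, z j₁ = z j₂ →
      ∏ i, ((α' i : GL (Fin m) F) : Matrix (Fin m) (Fin m) F) (z (σ i)) (z₀ i) = if z = z₀ then 1 else 0 := by
    intro z z₀ hz
    have := hdiag (Pi.single z₀ 1) z hz
    rw [Matrix.mulVec_single_one] at this
    change (h - 1) z z₀ = 0 at this
    rw [Matrix.sub_apply, sub_eq_zero, hh, nf_apply, Matrix.one_apply] at this
    exact this
  -- every non-zero element of F is 1
  have hF1 : ∀ c : F, c ≠ 0 → c = 1 := by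
    intro c hc
    have h1 : Fintype.card Fˣ = 1 := by rw [Fintype.card_units, hq]
    have h2 : Subsingleton Fˣ := Fintype.card_le_one_iff_subsingleton.1 (le_of_eq h1)
    have := congrArg Units.val (Subsingleton.elim (Units.mk0 c hc) 1)
    simpa using this
  -- Step 1 : σ fixes everything off {j₁, j₂}
  have hfix : ∀ j, j ≠ j₁ → j ≠ j₂ → σ j = j := by
    intro j3 h31 h32
    by_contra hne
    set z : Idx t m := fun j => if j = j3 then ⟨1, by omega⟩ else ⟨0, by omega⟩ with hz
    have hzd : z j₁ = z j₂ := by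
      simp only [hz]
      rw [if_neg (Ne.symm h31), if_neg (Ne.symm h32)]
    have h1 := hent z z hzd
    rw [if_pos rfl] at h1
    have h0 : ∏ i, ((α' i : GL (Fin m) F) : Matrix (Fin m) (Fin m) F) (z (σ i)) (z i) = 0 := by
      apply Finset.prod_eq_zero (Finset.mem_univ j3)
      rw [hα' j3 hne, Units.val_one, Matrix.one_apply_ne]
      have e1 : z (σ j3) = ⟨0, by omega⟩ := by
        simp only [hz]
        rw [if_neg hne]
      have e2 : z j3 = ⟨1, by omega⟩ := by
        simp only [hz]
        simp
      rw [e1, e2]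
      intro hcon
      have := congrArg Fin.val hcon
      simp at this
    rw [h0] at h1
    exact zero_ne_one h1
  have hσeq : σ = Equiv.swap j₁ j₂ := by
    ext j
    by_cases h1 : j = j₁
    · subst h1
      rw [hσj, Equiv.swap_apply_left]
    · by_cases h2 : j = j₂
      · subst h2
        rw [hσj2, Equiv.swap_apply_right]
      · rw [hfix j h1 h2, Equiv.swap_apply_of_ne_of_ne h1 h2]
  -- Step 2 : all α' are 1
  have hall : ∀ i, α' i = 1 := by
    intro i0
    by_cases hmv : σ i0 = i0
    · have h01 : i0 ≠ j₁ := by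
        intro hcon
        rw [hcon, hσj] at hmv
        exact hj hmv.symm
      have h02 : i0 ≠ j₂ := by
        intro hcon
        rw [hcon, hσj2] at hmv
        exact hj hmv
      apply Units.ext
      rw [Units.val_one]
      ext a b
      have hdd : ∀ i, ((α' i : GL (Fin m) F) : Matrix (Fin m) (Fin m) F) a a = 1 := by
        have h1 := hent (fun _ => a) (fun _ => a) rfl
        rw [if_pos rfl] at h1
        intro i
        apply hF1
        intro hcon
        have : ∏ i, ((α' i : GL (Fin m) F) : Matrix (Fin m) (Fin m) F) a a = 0 :=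
          Finset.prod_eq_zero (Finset.mem_univ i) hcon
        rw [this] at h1
        exact zero_ne_one h1
      have h2 := hent (fun _ => a) (Function.update (fun _ => a) i0 b) rfl
      have hprod : ∏ i, ((α' i : GL (Fin m) F) : Matrix (Fin m) (Fin m) F) a
          ((Function.update (fun _ => a) i0 b : Idx t m) i) =
          ((α' i0 : GL (Fin m) F) : Matrix (Fin m) (Fin m) F) a b := by
        rw [Finset.prod_eq_single i0]
        · rw [Function.update_self]
        · intro i _ hi
          rw [Function.update_of_ne hi, hdd]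
        · intro hcon
          exact absurd (Finset.mem_univ i0) hcon
      rw [hprod] at h2
      rw [h2, Matrix.one_apply]
      by_cases hab : a = b
      · subst hab
        rw [if_pos rfl, if_pos]
        funext j
        by_cases hji : j = i0
        · subst hji
          rw [Function.update_self]
        · rw [Function.update_of_ne hji]
      · rw [if_neg hab, if_neg]
        intro hcon
        have := congrFun hcon i0
        rw [Function.update_self] at this
        exact hab this
    · exact hα' i0 hmv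
  rw [hh, hσeq]
  have : (fun i => ((α' i : GL (Fin m) F) : Matrix (Fin m) (Fin m) F)) = fun _ => 1 := by
    funext i
    rw [hall i, Units.val_one]
  rw [this, ptens_one, mul_one]

end Cfsg.Agent.Lib.Helper6.TWQLeaf
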