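import Mathlib
import Cfsg.Agent.Lib.Helper8.TW.Defs
import Cfsg.Agent.Lib.Helper20.AschA89WR
import Cfsg.Agent.Lib.Helper20.AschA89F2J
import Cfsg.Agent.Lib.Helper6.TWQa
import Cfsg.Agent.Lib.Helper6.TWT1
import Cfsg.Agent.Lib.Helper6.TWQDefs
import Cfsg.Agent.Lib.Helper23.TWG1
import Cfsg.Agent.Lib.Helper12.TWTS

/-!
# S5641 (Q') leaf QXs2 `swap_side_inj` (helper6)
-/

set_option autoImplicit false
set_option linter.unusedSectionVars false
set_option linter.unusedVariables false

namespace Cfsg.Agent.Lib.Helper6.TWQLeaf
open Matrix Cfsg.Geo Cfsg.Agent.Lib.Helper18.AschA89 Cfsg.Agent.Lib.Helper20.AschLeaf Cfsg.Agent.Lib.Helper8.TW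
open Cfsg.Agent.Lib.Helper6.TWQ (dM dGL fcube)

variable {F : Type*} [Field F] {t m : ℕ}

/-- (QXs2) -/
theorem swap_side_inj (h2 : (2 : F) = 0) (j₁ j₂ : Fin t) (hj : j₁ ≠ j₂) (w : Idx t 3 → F)
    (h : (slot 3 t j₁ (dM F) + slot 3 t j₂ (dM F)) *ᵥ (fperm (F := F) 3 t (Equiv.swap j₁ j₂) *ᵥ w + w) = 0) :
    fperm (F := F) 3 t (Equiv.swap j₁ j₂) *ᵥ w + w = 0 := by
  classical
  set x : Idx t 3 → F := fperm (F := F) 3 t (Equiv.swap j₁ j₂) *ᵥ w + w with hx
  have hxv : ∀ z : Idx t 3, x z = w (z ∘ Equiv.swap j₁ j₂) + w z := by
    intro z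
    rw [hx, Pi.add_apply, Cfsg.Agent.Lib.Helper12.TWLeaf.fperm_mulVec]
  have hsym : ∀ z : Idx t 3, x (z ∘ Equiv.swap j₁ j₂) = x z := by
    intro z
    rw [hxv, hxv]
    have : (z ∘ Equiv.swap j₁ j₂) ∘ Equiv.swap j₁ j₂ = z := by
      funext k
      simp [Function.comp]
    rw [this, add_comm]
  have hdiag : ∀ z : Idx t 3, z j₁ = z j₂ → x z = 0 := by
    intro z hz
    rw [hxv]
    have : z ∘ Equiv.swap j₁ j₂ = z := by
      funext k
      simp only [Function.comp]
      by_cases h1 : k = j₁
      · subst h1
        rw [Equiv.swap_apply_left]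
        exact hz.symm
      · by_cases h2' : k = j₂
        · subst h2'
          rw [Equiv.swap_apply_right]
          exact hz
        · rw [Equiv.swap_apply_of_ne_of_ne h1 h2']
    rw [this]
    linear_combination (w z) * h2
  funext z
  rw [Pi.zero_apply]
  set X : Fin 3 → Fin 3 → F := fun a b => x (Function.update (Function.update z j₁ a) j₂ b) with hX
  have hXd : ∀ a, X a a = 0 := by
    intro a
    apply hdiag
    rw [Function.update_self, Function.update_of_ne hj, Function.update_self]
  have hXs : ∀ a b, X a b = X b a := by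
    intro a b
    simp only [hX]
    rw [← hsym (Function.update (Function.update z j₁ a) j₂ b)]
    congr 1
    funext k
    simp only [Function.comp]
    by_cases h1 : k = j₁
    · subst h1
      rw [Equiv.swap_apply_left, Function.update_self, Function.update_of_ne hj, Function.update_self]
    · by_cases h2' : k = j₂
      · subst h2'
        rw [Equiv.swap_apply_right, Function.update_self, Function.update_of_ne hj, Function.update_self]
      · rw [Equiv.swap_apply_of_ne_of_ne h1 h2', Function.update_of_ne h2', Function.update_of_ne h1,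
          Function.update_of_ne h2', Function.update_of_ne h1]
  have hE : ∀ a b, (∑ c, dM F a c * X c b) + ∑ c, dM F b c * X a c = 0 := by
    intro a b
    have := congrFun h (Function.update (Function.update z j₁ a) j₂ b)
    rw [Matrix.add_mulVec, Pi.add_apply, Cfsg.Agent.Lib.Helper12.TWLeaf.slot_mulVec_apply,
      Cfsg.Agent.Lib.Helper12.TWLeaf.slot_mulVec_apply, Pi.zero_apply] at this
    rw [← this]
    congr 1
    · apply Finset.sum_congr rfl
      intro c _
      rw [Function.update_of_ne hj, Function.update_self]
      congr 1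
      simp only [hX]
      congr 1
      funext k
      by_cases h1 : k = j₁
      · subst h1
        rw [Function.update_of_ne hj, Function.update_self, Function.update_self]
      · by_cases h2' : k = j₂
        · subst h2'
          rw [Function.update_self, Function.update_of_ne h1, Function.update_self]
        · rw [Function.update_of_ne h2', Function.update_of_ne h1, Function.update_of_ne h1,
            Function.update_of_ne h2', Function.update_of_ne h1]
    · apply Finset.sum_congr rfl
      intro c _
      rw [Function.update_self]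
      congr 1
      simp only [hX]
      congr 1
      rw [Function.update_idem]
  have e02 := hE 0 2
  have e12 := hE 1 2
  have e01 := hE 0 1
  simp only [dM, Fin.sum_univ_three, Matrix.of_apply, Matrix.cons_val', Matrix.cons_val_zero,
    Matrix.cons_val_one, Matrix.cons_val_two, Matrix.empty_val', Matrix.cons_val_fin_one,
    Matrix.head_cons, Matrix.tail_cons, Matrix.head_fin_const, zero_mul, one_mul, zero_add, add_zero,
    hXd] at e02 e12 e01
  have hp : X 0 1 = 0 := by
    simpa using e02
  have hq : X 0 2 = 0 := by
    simpa using e12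
  have hr : X 1 2 = 0 := by
    rw [hXs 2 1, hq] at e01
    simpa using e01
  have key : ∀ a b, X a b = 0 := by
    intro a b
    fin_cases a <;> fin_cases b
    · exact hXd _
    · exact hp
    · exact hq
    · exact (hXs 1 0).trans hp
    · exact hXd _
    · exact hr
    · exact (hXs 2 0).trans hq
    · exact (hXs 2 1).trans hr
    · exact hXd _
  have hz : x z = X (z j₁) (z j₂) := by
    simp only [hX]
    congr 1
    rw [Function.update_eq_self, ← Function.update_eq_self j₂ z]
    simp
  rw [hz]
  exact key _ _

end Cfsg.Agent.Lib.Helper6.TWQLeaf
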