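import Mathlib
import Cfsg.Agent.Lib.Helper8.TW.Defs
import Cfsg.Agent.Lib.Helper20.AschA89WR
import Cfsg.Agent.Lib.Helper20.AschA89F2J
import Cfsg.Agent.Lib.Helper6.TWQa
import Cfsg.Agent.Lib.Helper6.TWT1
import Cfsg.Agent.Lib.Helper6.TWQDefs
import Cfsg.Agent.Lib.Helper23.TWG1
import Cfsg.Agent.Lib.Helper6.TWQB0
import Cfsg.Agent.Lib.Helper6.TWQB2
import Cfsg.Agent.Lib.Helper6.TWQXs2
import Cfsg.Agent.Lib.Helper22.TWQPure
import Cfsg.Agent.Lib.Helper19.TWQB2a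
import Cfsg.Agent.Lib.Helper8.TW.QRoot

/-!
# S5641 (C7 maximal in SL_n) -- block (Q') = FUSION CONTROL: final assembly (helper6)

`fc_of_ns : NS X -> FC X` (exact interface of helper8).  Leaves: `Helper6.TWQB0` (nf_unique, involution_nf, swap_side_easy),
`Helper6.TWQB2` (swap_rank_bound, swap_of_diag_zero), `Helper6.TWQXs2` (swap_side_inj), `Helper22.TWQStab / TWQK / TWQPure`
(stab_form, K_lemma, slot_of_pure_rank), `Helper19.TWQB2a` (normalise_involution), `Helper8.TW.QRoot` (root_side).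
Paper proof: `notes/S5641_Q_plan.md`; leaf statements: `notes/S5641_Q_leaves.lean`.
-/

set_option autoImplicit false
set_option linter.unusedSectionVars false
set_option linter.unusedVariables false

namespace Cfsg.Agent.Lib.Helper6.TWQFinal
open Matrix Cfsg.Geo Cfsg.Agent.Lib.Helper18.AschA89 Cfsg.Agent.Lib.Helper20.AschLeaf Cfsg.Agent.Lib.Helper8.TW
open Cfsg.Agent.Lib.Helper6.TWQ (dM dGL fcube)
open Cfsg.Agent.Lib.Helper6.TWQLeaf (nf_unique involution_nf swap_side_easy swap_rank_bound swap_of_diag_zero swap_side_inj)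
open Cfsg.Agent.Lib.Helper22.TWQLeaf (stab_form K_lemma slot_of_pure_rank)
open Cfsg.Agent.Lib.Helper19.TWQLeaf (normalise_involution)
open Cfsg.Agent.Lib.Helper8.TWQLeaf (root_side)

variable {F : Type*} [Field F] {t m : ℕ}

section Assembly
variable [Fintype F]

lemma card_two_cases (hq : Fintype.card F = 2) (c : F) : c = 0 ∨ c = 1 := by
  by_cases hc : c = 0
  · exact Or.inl hc
  · right
    classical
    have h1 : Fintype.card Fˣ = 1 := by rw [Fintype.card_units, hq]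
    have h2 : Subsingleton Fˣ := Fintype.card_le_one_iff_subsingleton.1 (le_of_eq h1)
    have := congrArg Units.val (Subsingleton.elim (Units.mk0 c hc) 1)
    simpa using this

lemma two_eq_zero_of_card_two (hq : Fintype.card F = 2) : (2 : F) = 0 := by
  rcases card_two_cases hq (2 : F) with h | h
  · exact h
  · exfalso
    have : (1 : F) + 1 = 1 := by rw [one_add_one_eq_two]; exact h
    have h0 : (1 : F) = 0 := by
      have := congrArg (fun x => x - 1) this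
      simp at this
    exact one_ne_zero h0

lemma Gstd_le_of_card_two (hq : Fintype.card F = 2) (X : Subgroup (GL (Idx t m) F))
    (hHX : Hstd t m F ≤ X) : Gstd t m F ≤ X := by
  intro g hg
  apply hHX
  refine ⟨hg, ?_⟩
  change g ∈ (Matrix.GeneralLinearGroup.det : GL (Idx t m) F →* Fˣ).ker
  rw [MonoidHom.mem_ker]
  classical
  have h1 : Fintype.card Fˣ = 1 := by rw [Fintype.card_units, hq]
  have h2 : Subsingleton Fˣ := Fintype.card_le_one_iff_subsingleton.1 (le_of_eq h1)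
  exact Subsingleton.elim _ _

lemma rootN_ne_zero (i : Fin t) {y η : Fin m → F} (hy : y ≠ 0) (hη : η ≠ 0) : rootN i y η ≠ 0 := by
  intro h
  have h1 : Matrix.vecMulVec y η = 0 := by
    apply Cfsg.Agent.Lib.Helper6.TWLeaf.slot_injective i
    rw [Cfsg.Agent.Lib.Helper8.TW.slot_zero]
    exact h
  obtain ⟨a, ha⟩ : ∃ a, y a ≠ 0 := by
    by_contra hc; push Not at hc; exact hy (funext hc)
  obtain ⟨b, hb⟩ : ∃ b, η b ≠ 0 := by
    by_contra hc; push Not at hc; exact hη (funext hc)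
  have := congrFun (congrFun h1 a) b
  rw [Matrix.vecMulVec_apply, Matrix.zero_apply] at this
  exact mul_ne_zero ha hb this

/-- (QX) the exotic swap is not fused to a root element -/
theorem no_swap_fusion (hq : Fintype.card F = 2) (X : Subgroup (GL (Idx (t + 1) 3) F))
    (hGX : Gstd (t + 1) 3 F ≤ X) (hNS : NS X) (r : RD (t + 1) 3 F) (g : GL (Idx (t + 1) 3) F) (hg : g ∈ X)
    (j₁ j₂ : Fin (t + 1)) (hj : j₁ ≠ j₂)
    (hconj : g⁻¹ * r.elt 1 * g = wrFpermGL 3 (t + 1) (Equiv.swap j₁ j₂)) : False := by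
  have h2 := two_eq_zero_of_card_two hq
  have hneg : ∀ v : Idx (t + 1) 3 → F, -v = v := by
    intro v
    have : v + v = 0 := by rw [← two_smul F v, h2, zero_smul]
    exact neg_eq_of_add_eq_zero_left this
  obtain ⟨hcs, hE, hAs⟩ := swap_side_easy (F := F) h2 j₁ j₂ hj
  set sM : Matrix (Idx (t + 1) 3) (Idx (t + 1) 3) F := fperm 3 (t + 1) (Equiv.swap j₁ j₂) with hsM
  set D : Matrix (Idx (t + 1) 3) (Idx (t + 1) 3) F :=
    slot 3 (t + 1) j₁ (dM F) + slot 3 (t + 1) j₂ (dM F) with hD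
  set G : Matrix (Idx (t + 1) 3) (Idx (t + 1) 3) F :=
    ((g : GL (Idx (t + 1) 3) F) : Matrix (Idx (t + 1) 3) (Idx (t + 1) 3) F) with hGdef
  set Gi : Matrix (Idx (t + 1) 3) (Idx (t + 1) 3) F :=
    ((g⁻¹ : GL (Idx (t + 1) 3) F) : Matrix (Idx (t + 1) 3) (Idx (t + 1) 3) F) with hGidef
  have hGGi : G * Gi = 1 := by rw [hGdef, hGidef, ← Units.val_mul, mul_inv_cancel, Units.val_one]
  have hGiG : Gi * G = 1 := by rw [hGdef, hGidef, ← Units.val_mul, inv_mul_cancel, Units.val_one]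
  -- `Gi N G = sM - 1`
  have hN1 : Gi * r.N * G = sM - 1 := by
    have h1 := congrArg (fun x : GL (Idx (t + 1) 3) F => (x : Matrix (Idx (t + 1) 3) (Idx (t + 1) 3) F)) hconj
    simp only [Units.val_mul, RD.elt_val, one_smul] at h1
    have h3 : Gi * (1 + r.N) * G = sM := h1
    rw [mul_add, add_mul, mul_one, hGiG] at h3
    rw [← h3]
    abel
  have hN2 : r.N * G = G * (sM - 1) := by
    rw [← hN1, ← mul_assoc, ← mul_assoc, hGGi, one_mul]
  have hN3 : r.N = G * (sM - 1) * Gi := by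
    rw [← hN2, mul_assoc, hGGi, mul_one]
  -- the element `e` and its conjugate `e'`
  obtain ⟨e, heval, heG⟩ : ∃ e : GL (Idx (t + 1) 3) F,
      (e : Matrix (Idx (t + 1) 3) (Idx (t + 1) 3) F) =
        slot 3 (t + 1) j₁ (dM F) * slot 3 (t + 1) j₂ (dM F) ∧ e ∈ Gstd (t + 1) 3 F :=
    ⟨slotGL j₁ (dGL F) * slotGL j₂ (dGL F), rfl,
      Subgroup.mul_mem _ (Cfsg.Agent.Lib.Helper23.TWLeaf.slotGL_mem_G j₁ _)
        (Cfsg.Agent.Lib.Helper23.TWLeaf.slotGL_mem_G j₂ _)⟩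
  have hse : wrFpermGL (F := F) 3 (t + 1) (Equiv.swap j₁ j₂) * e =
      e * wrFpermGL 3 (t + 1) (Equiv.swap j₁ j₂) := by
    apply Units.ext
    rw [Units.val_mul, Units.val_mul, heval]
    exact hcs
  set e' : GL (Idx (t + 1) 3) F := g * e * g⁻¹ with he'
  have he'X : e' ∈ X := X.mul_mem (X.mul_mem hg (hGX heG)) (X.inv_mem hg)
  have hu : r.elt 1 = g * wrFpermGL 3 (t + 1) (Equiv.swap j₁ j₂) * g⁻¹ := by
    rw [← hconj]; group
  have hcomm : e' * r.elt 1 = r.elt 1 * e' := by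
    rw [hu, he']
    calc g * e * g⁻¹ * (g * wrFpermGL 3 (t + 1) (Equiv.swap j₁ j₂) * g⁻¹)
        = g * (e * wrFpermGL 3 (t + 1) (Equiv.swap j₁ j₂)) * g⁻¹ := by group
      _ = g * (wrFpermGL 3 (t + 1) (Equiv.swap j₁ j₂) * e) * g⁻¹ := by rw [hse]
      _ = g * wrFpermGL 3 (t + 1) (Equiv.swap j₁ j₂) * g⁻¹ * (g * e * g⁻¹) := by group
  -- `e'` stabilises the fibre, hence lies in `G`
  have hconjN : (e' : Matrix (Idx (t + 1) 3) (Idx (t + 1) 3) F) * r.N *
      ((e'⁻¹ : GL (Idx (t + 1) 3) F) : Matrix (Idx (t + 1) 3) (Idx (t + 1) 3) F) = r.N := by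
    have h1 : e' * r.elt 1 * e'⁻¹ = r.elt 1 := by rw [hcomm]; group
    have h3 := congrArg (fun x : GL (Idx (t + 1) 3) F => (x : Matrix (Idx (t + 1) 3) (Idx (t + 1) 3) F)) h1
    simp only [Units.val_mul, RD.elt_val, one_smul] at h3
    rw [mul_add, add_mul, mul_one, ← Units.val_mul, mul_inv_cancel, Units.val_one] at h3
    exact add_left_cancel h3
  have himg : img e' (Wf r.i r.y) = Wf r.i r.y := by
    have h1 := Cfsg.Agent.Lib.Helper6.TWLeaf.range_conj e' r.N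
    rw [hconjN] at h1
    have h3 : LinearMap.range (Matrix.toLin' r.N) = Wf r.i r.y :=
      Cfsg.Agent.Lib.Helper6.TWLeaf.range_rootN r.i r.y r.η r.hη
    rw [h3] at h1
    exact h1.symm
  have he'G : e' ∈ Gstd (t + 1) 3 F := hNS e' he'X ⟨r.i, r.i, r.y, r.y, r.hy, r.hy, himg⟩
  -- `fcube e' = G D Gi`
  have hE' : fcube (e' : Matrix (Idx (t + 1) 3) (Idx (t + 1) 3) F) = G * D * Gi := by
    have h1 : (e' : Matrix (Idx (t + 1) 3) (Idx (t + 1) 3) F) = G * (e : Matrix (Idx (t + 1) 3) (Idx (t + 1) 3) F) * Gi := by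
      rw [he', Units.val_mul, Units.val_mul]
    rw [h1, Cfsg.Agent.Lib.Helper6.TWQ.fcube_conj g (e : Matrix (Idx (t + 1) 3) (Idx (t + 1) 3) F), heval, hE]
  -- transport of claim A
  have hNG : ∀ w₀ : Idx (t + 1) 3 → F, r.N *ᵥ (G *ᵥ w₀) = G *ᵥ (sM *ᵥ w₀ + w₀) := by
    intro w₀
    rw [Matrix.mulVec_mulVec, hN2, ← Matrix.mulVec_mulVec, Matrix.sub_mulVec, Matrix.one_mulVec,
      sub_eq_add_neg, hneg]
  have hA : ∀ v : Idx (t + 1) 3 → F, r.N *ᵥ v = 0 →
      ∃ w, fcube (e' : Matrix (Idx (t + 1) 3) (Idx (t + 1) 3) F) *ᵥ v = r.N *ᵥ w := by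
    intro v hv
    have h1 : (sM - 1) *ᵥ (Gi *ᵥ v) = 0 := by
      have h3 : Gi *ᵥ (r.N *ᵥ v) = 0 := by rw [hv, Matrix.mulVec_zero]
      rw [hN3, Matrix.mulVec_mulVec, ← mul_assoc, ← mul_assoc, hGiG, one_mul, ← Matrix.mulVec_mulVec] at h3
      exact h3
    have h4 : sM *ᵥ (Gi *ᵥ v) = Gi *ᵥ v := by
      rw [Matrix.sub_mulVec, Matrix.one_mulVec] at h1
      exact sub_eq_zero.1 h1
    obtain ⟨w₀, hw₀⟩ := hAs (Gi *ᵥ v) h4
    refine ⟨G *ᵥ w₀, ?_⟩
    rw [hNG, hE', ← hw₀, Matrix.mulVec_mulVec, Matrix.mulVec_mulVec]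
  have hkill := root_side hq r e' he'G hcomm hA
  -- claim B
  have hall : ∀ w₀ : Idx (t + 1) 3 → F, sM *ᵥ w₀ + w₀ = 0 := by
    intro w₀
    apply swap_side_inj h2 j₁ j₂ hj w₀
    have h1 := hkill (G *ᵥ w₀)
    rw [hNG, hE'] at h1
    have h3 : (G * D * Gi) *ᵥ (G *ᵥ (sM *ᵥ w₀ + w₀)) = G *ᵥ (D *ᵥ (sM *ᵥ w₀ + w₀)) := by
      rw [Matrix.mulVec_mulVec, mul_assoc (G * D), hGiG, mul_one, ← Matrix.mulVec_mulVec]
    rw [h3] at h1
    have h4 := congrArg (fun y => Gi *ᵥ y) h1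
    simp only [Matrix.mulVec_zero] at h4
    rw [Matrix.mulVec_mulVec, hGiG, Matrix.one_mulVec] at h4
    exact h4
  -- hence `sM = 1` and `r.N = 0`
  have hs1 : sM - 1 = 0 := by
    apply Matrix.toLin'.injective
    apply LinearMap.ext
    intro w₀
    rw [Matrix.toLin'_apply, Matrix.sub_mulVec, Matrix.one_mulVec, sub_eq_add_neg, hneg, hall w₀]
    simp
  apply rootN_ne_zero r.i r.hy r.hη
  change r.N = 0
  rw [hN3, hs1, mul_zero, zero_mul]

/-- a non-zero square-zero `slot j B` of rank at most `m^(t-1)` is a root nilpotent -/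
theorem root_of_slot (hm0 : 0 < m) (N : Matrix (Idx t m) (Idx t m) F) (hN0 : N ≠ 0) (hNN : N * N = 0)
    (hrk : N.rank ≤ m ^ (t - 1)) (j : Fin t) (B : Matrix (Fin m) (Fin m) F) (hN : N = slot m t j B) :
    ∃ z ζ : Fin m → F, z ≠ 0 ∧ ζ ≠ 0 ∧ ζ ⬝ᵥ z = 0 ∧ N = rootN j z ζ := by
  have hB0 : B ≠ 0 := by
    intro h
    apply hN0
    rw [hN, h, Cfsg.Agent.Lib.Helper8.TW.slot_zero]
  have hBB : B * B = 0 := by
    apply Cfsg.Agent.Lib.Helper6.TWLeaf.slot_injective j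
    rw [← Cfsg.Agent.Lib.Helper8.TW.slot_mul, ← hN, hNN, Cfsg.Agent.Lib.Helper8.TW.slot_zero]
  have hBr : B.rank ≤ 1 := by
    rw [hN, Cfsg.Agent.Lib.Helper6.TWQ.rank_slot] at hrk
    have hpos : 0 < m ^ (t - 1) := pow_pos hm0 _
    by_contra hc
    push Not at hc
    have : 2 * m ^ (t - 1) ≤ B.rank * m ^ (t - 1) := Nat.mul_le_mul_right _ hc
    omega
  obtain ⟨z, ζ, hz, hζ, hB⟩ := Cfsg.Agent.Lib.Helper6.TWQ.exists_vecMulVec_of_rank_le_one hB0 hBr
  refine ⟨z, ζ, hz, hζ, ?_, by rw [hN, hB]; rfl⟩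
  rw [hB, Cfsg.Agent.Lib.Helper6.TWQ.vecMulVec_mul_self] at hBB
  rcases smul_eq_zero.1 hBB with h | h
  · exact h
  · exact absurd (hB.trans h) hB0

/-- (QB2) assembly: an involution of `G` over `F_2` with non-trivial permutation part and small commutator space is a swap
(and `m = 3`) -/
theorem swap_of_rank (hq : Fintype.card F = 2) (hm : 3 ≤ m) (σ : Equiv.Perm (Fin t)) (hσ : σ ≠ 1)
    (α : Fin t → GL (Fin m) F)
    (hh : (fperm m t σ * ptens m t (fun i => ((α i : GL (Fin m) F) : Matrix (Fin m) (Fin m) F))) *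
      (fperm m t σ * ptens m t (fun i => ((α i : GL (Fin m) F) : Matrix (Fin m) (Fin m) F))) = 1)
    (hrk : (fperm m t σ * ptens m t (fun i => ((α i : GL (Fin m) F) : Matrix (Fin m) (Fin m) F)) - 1).rank ≤
      m ^ (t - 1)) :
    m = 3 ∧ ∃ k₀ : GL (Idx t m) F, k₀ ∈ Gstd t m F ∧ ∃ j₁ j₂ : Fin t, j₁ ≠ j₂ ∧
      ((k₀⁻¹ : GL (Idx t m) F) : Matrix (Idx t m) (Idx t m) F) *
        (fperm m t σ * ptens m t (fun i => ((α i : GL (Fin m) F) : Matrix (Fin m) (Fin m) F))) *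
        (k₀ : Matrix (Idx t m) (Idx t m) F) = fperm m t (Equiv.swap j₁ j₂) := by
  have hm2 : 2 ≤ m := by omega
  obtain ⟨hσσ, hα⟩ := involution_nf hq hm2 σ α hh
  obtain ⟨β, α', hα'1, hnorm⟩ := normalise_involution σ α hσσ hα
  -- the pure element `k₀ = ptens β`
  have hβ1 : ptens m t (fun i => ((β i : GL (Fin m) F) : Matrix (Fin m) (Fin m) F)) *
      ptens m t (fun i => (((β i)⁻¹ : GL (Fin m) F) : Matrix (Fin m) (Fin m) F)) = 1 := by
    rw [ptens_mul]
    have : (fun i : Fin t => ((β i : GL (Fin m) F) : Matrix (Fin m) (Fin m) F) *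
        (((β i)⁻¹ : GL (Fin m) F) : Matrix (Fin m) (Fin m) F)) = fun _ => 1 := by
      funext i
      rw [← Units.val_mul, mul_inv_cancel, Units.val_one]
    rw [this, ptens_one]
  have hβ2 : ptens m t (fun i => (((β i)⁻¹ : GL (Fin m) F) : Matrix (Fin m) (Fin m) F)) *
      ptens m t (fun i => ((β i : GL (Fin m) F) : Matrix (Fin m) (Fin m) F)) = 1 := by
    rw [ptens_mul]
    have : (fun i : Fin t => (((β i)⁻¹ : GL (Fin m) F) : Matrix (Fin m) (Fin m) F) *
        ((β i : GL (Fin m) F) : Matrix (Fin m) (Fin m) F)) = fun _ => 1 := by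
      funext i
      rw [← Units.val_mul, inv_mul_cancel, Units.val_one]
    rw [this, ptens_one]
  obtain ⟨k₀, hk₀v, hk₀i⟩ : ∃ k₀ : GL (Idx t m) F,
      (k₀ : Matrix (Idx t m) (Idx t m) F) =
        ptens m t (fun i => ((β i : GL (Fin m) F) : Matrix (Fin m) (Fin m) F)) ∧
      ((k₀⁻¹ : GL (Idx t m) F) : Matrix (Idx t m) (Idx t m) F) =
        ptens m t (fun i => (((β i)⁻¹ : GL (Fin m) F) : Matrix (Fin m) (Fin m) F)) :=
    ⟨⟨_, _, hβ1, hβ2⟩, rfl, rfl⟩
  have hk₀G : k₀ ∈ Gstd t m F := Cfsg.Agent.Lib.Helper23.TWLeaf.ptens_mem_G β k₀ hk₀v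
  -- a moved position
  obtain ⟨j₁, hj₁⟩ : ∃ j₁, σ j₁ ≠ j₁ := by
    by_contra hc
    push Not at hc
    exact hσ (Equiv.ext hc)
  -- ranks
  have hrk' : (fperm m t σ * ptens m t (fun i => ((α' i : GL (Fin m) F) : Matrix (Fin m) (Fin m) F)) - 1).rank ≤
      m ^ (t - 1) := by
    have h1 : fperm m t σ * ptens m t (fun i => ((α' i : GL (Fin m) F) : Matrix (Fin m) (Fin m) F)) - 1 =
        ((k₀⁻¹ : GL (Idx t m) F) : Matrix (Idx t m) (Idx t m) F) *
          (fperm m t σ * ptens m t (fun i => ((α i : GL (Fin m) F) : Matrix (Fin m) (Fin m) F)) - 1) *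
          (k₀ : Matrix (Idx t m) (Idx t m) F) := by
      rw [mul_sub, sub_mul, mul_one, ← Units.val_mul, inv_mul_cancel, Units.val_one, hk₀v, hk₀i, hnorm]
    rw [h1]
    have hdet1 : IsUnit ((k₀ : Matrix (Idx t m) (Idx t m) F)).det := by
      have := (Matrix.isUnit_iff_isUnit_det _).1 (k₀.isUnit)
      exact this
    have hdet2 : IsUnit (((k₀⁻¹ : GL (Idx t m) F) : Matrix (Idx t m) (Idx t m) F)).det := by
      have := (Matrix.isUnit_iff_isUnit_det _).1 ((k₀⁻¹).isUnit)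
      exact this
    rw [Matrix.rank_mul_eq_left_of_isUnit_det _ _ hdet1, Matrix.rank_mul_eq_right_of_isUnit_det _ _ hdet2]
    exact hrk
  obtain ⟨hm3, hdiag⟩ := swap_rank_bound hm2 σ α' hσσ j₁ (σ j₁) (Ne.symm hj₁) rfl hα'1 hrk'
  have hm3' : m = 3 := by omega
  refine ⟨hm3', k₀, hk₀G, j₁, σ j₁, Ne.symm hj₁, ?_⟩
  rw [hk₀v, hk₀i, hnorm]
  exact swap_of_diag_zero hq hm2 σ α' hσσ j₁ (σ j₁) (Ne.symm hj₁) rfl hα'1 (hdiag hm3')

/-- Lemma Q'(b) + (QX): over `F_2` a `GL`-conjugate of a root element lying in `G` is a root element (under `NS`) -/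
theorem rootlike_two (hq : Fintype.card F = 2) (hm : 3 ≤ m) (ht : 2 ≤ t) (X : Subgroup (GL (Idx t m) F))
    (hHX : Hstd t m F ≤ X) (hNS : NS X) (r : RD t m F) (g : GL (Idx t m) F) (hg : g ∈ X)
    (hh : g⁻¹ * r.elt 1 * g ∈ Gstd t m F) :
    ∃ (j : Fin t) (z ζ : Fin m → F), z ≠ 0 ∧ ζ ≠ 0 ∧
      ((g⁻¹ : GL (Idx t m) F) : Matrix (Idx t m) (Idx t m) F) * r.N * (g : Matrix (Idx t m) (Idx t m) F) =
        rootN j z ζ := by
  have h2 := two_eq_zero_of_card_two hq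
  have hm0 : 0 < m := by omega
  set G : Matrix (Idx t m) (Idx t m) F := (g : Matrix (Idx t m) (Idx t m) F) with hGdef
  set Gi : Matrix (Idx t m) (Idx t m) F := ((g⁻¹ : GL (Idx t m) F) : Matrix (Idx t m) (Idx t m) F) with hGidef
  have hGGi : G * Gi = 1 := by rw [hGdef, hGidef, ← Units.val_mul, mul_inv_cancel, Units.val_one]
  have hGiG : Gi * G = 1 := by rw [hGdef, hGidef, ← Units.val_mul, inv_mul_cancel, Units.val_one]
  set N' : Matrix (Idx t m) (Idx t m) F := Gi * r.N * G with hN'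
  have hval : ((g⁻¹ * r.elt 1 * g : GL (Idx t m) F) : Matrix (Idx t m) (Idx t m) F) = 1 + N' := by
    rw [Units.val_mul, Units.val_mul, RD.elt_val, one_smul, mul_add, add_mul, mul_one]
    change Gi * G + Gi * r.N * G = 1 + N'
    rw [hGiG]
  have hN0 : N' ≠ 0 := by
    intro h0
    apply rootN_ne_zero r.i r.hy r.hη
    change r.N = 0
    have : G * N' * Gi = r.N := by
      rw [hN', ← mul_assoc, ← mul_assoc, hGGi, one_mul, mul_assoc, hGGi, mul_one]
    rw [← this, h0, mul_zero, zero_mul]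
  have hNN : N' * N' = 0 := by
    have : N' * N' = Gi * (r.N * r.N) * G := by
      rw [hN']
      calc Gi * r.N * G * (Gi * r.N * G) = Gi * r.N * (G * Gi) * r.N * G := by simp only [mul_assoc]
        _ = Gi * (r.N * r.N) * G := by rw [hGGi]; simp only [mul_one, mul_assoc]
    rw [this, r.N_sq, mul_zero, zero_mul]
  have hrk : N'.rank ≤ m ^ (t - 1) := by
    have hdet1 : IsUnit G.det := (Matrix.isUnit_iff_isUnit_det _).1 (g.isUnit)
    have hdet2 : IsUnit Gi.det := (Matrix.isUnit_iff_isUnit_det _).1 ((g⁻¹).isUnit)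
    rw [hN', Matrix.rank_mul_eq_left_of_isUnit_det _ _ hdet1, Matrix.rank_mul_eq_right_of_isUnit_det _ _ hdet2]
    change (slot m t r.i (Matrix.vecMulVec r.y r.η)).rank ≤ _
    rw [Cfsg.Agent.Lib.Helper6.TWQ.rank_slot]
    calc (Matrix.vecMulVec r.y r.η).rank * m ^ (t - 1) ≤ 1 * m ^ (t - 1) :=
          Nat.mul_le_mul_right _ (Matrix.rank_vecMulVec_le _ _)
      _ = m ^ (t - 1) := one_mul _
  obtain ⟨σ, α, hnf⟩ := Cfsg.Agent.Lib.Helper6.TWLeaf.G_normal_form _ hh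
  rw [hval] at hnf
  by_cases hσ : σ = 1
  · subst hσ
    rw [wr_fperm_one, one_mul] at hnf
    have h1 : ptens m t (fun i => ((α i : GL (Fin m) F) : Matrix (Fin m) (Fin m) F)) ≠ 1 := by
      intro h
      apply hN0
      rw [h] at hnf
      have := add_left_cancel (a := (1 : Matrix (Idx t m) (Idx t m) F)) (b := N') (c := 0) (by rw [add_zero]; exact hnf)
      exact this
    have hrk2 : (ptens m t (fun i => ((α i : GL (Fin m) F) : Matrix (Fin m) (Fin m) F)) - 1).rank ≤ m ^ (t - 1) := by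
      rw [← hnf, add_sub_cancel_left]
      exact hrk
    obtain ⟨j, A, hA⟩ := slot_of_pure_rank hm α h1 hrk2
    have hNs : N' = slot m t j (A - 1) := by
      rw [Cfsg.Agent.Lib.Helper6.TWQ.slot_sub, Cfsg.Agent.Lib.Helper8.TW.slot_one, ← hA, ← hnf, add_sub_cancel_left]
    obtain ⟨z, ζ, hz, hζ, -, hN⟩ := root_of_slot hm0 N' hN0 hNN hrk j (A - 1) hNs
    exact ⟨j, z, ζ, hz, hζ, hN⟩
  · exfalso
    have hh2 : (fperm m t σ * ptens m t (fun i => ((α i : GL (Fin m) F) : Matrix (Fin m) (Fin m) F))) *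
        (fperm m t σ * ptens m t (fun i => ((α i : GL (Fin m) F) : Matrix (Fin m) (Fin m) F))) = 1 := by
      have : N' + N' = 0 := by rw [← two_smul F N', h2, zero_smul]
      rw [← hnf]
      calc (1 + N') * (1 + N') = 1 + (N' + N') + N' * N' := by
            rw [add_mul, mul_add, mul_add, mul_one, one_mul, mul_one]; abel
        _ = 1 := by rw [this, hNN, add_zero, add_zero]
    have hrk2 : (fperm m t σ * ptens m t (fun i => ((α i : GL (Fin m) F) : Matrix (Fin m) (Fin m) F)) - 1).rank ≤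
        m ^ (t - 1) := by
      rw [← hnf, add_sub_cancel_left]
      exact hrk
    obtain ⟨hm3, k₀, hk₀G, j₁, j₂, hj, hk₀⟩ := swap_of_rank hq hm σ hσ α hh2 hrk2
    subst hm3
    obtain ⟨t', rfl⟩ : ∃ t', t = t' + 1 := ⟨t - 1, by omega⟩
    have hGX := Gstd_le_of_card_two hq X hHX
    refine no_swap_fusion hq X hGX hNS r (g * k₀) (X.mul_mem hg (hGX hk₀G)) j₁ j₂ hj ?_
    apply Units.ext
    have e1 : ((g * k₀)⁻¹ * r.elt 1 * (g * k₀) : GL (Idx (t' + 1) 3) F) =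
        k₀⁻¹ * (g⁻¹ * r.elt 1 * g) * k₀ := by group
    rw [e1, Units.val_mul, Units.val_mul, hval, hnf]
    exact hk₀

/-- **(Q') FUSION CONTROL** (the deliverable of the block; interface of helper8) -/
theorem fc_of_ns (hm : 3 ≤ m) (ht : 2 ≤ t) (X : Subgroup (GL (Idx t m) F)) (hHX : Hstd t m F ≤ X)
    (hNS : NS X) : FC X := by
  intro r g hgX hconj
  set G : Matrix (Idx t m) (Idx t m) F := (g : Matrix (Idx t m) (Idx t m) F) with hGdef
  set Gi : Matrix (Idx t m) (Idx t m) F := ((g⁻¹ : GL (Idx t m) F) : Matrix (Idx t m) (Idx t m) F) with hGidef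
  have hGGi : G * Gi = 1 := by rw [hGdef, hGidef, ← Units.val_mul, mul_inv_cancel, Units.val_one]
  have hGiG : Gi * G = 1 := by rw [hGdef, hGidef, ← Units.val_mul, inv_mul_cancel, Units.val_one]
  have key : ∃ (j : Fin t) (z ζ : Fin m → F), z ≠ 0 ∧ ζ ≠ 0 ∧ Gi * r.N * G = rootN j z ζ := by
    by_cases hq : 3 ≤ Fintype.card F
    · have hfam : ∀ c : F, ∃ k ∈ Cfsg.Geo.tensorWreathStandard m t F,
          (k : Matrix (Fin t → Fin m) (Fin t → Fin m) F) = 1 + c • (Gi * r.N * G) := by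
        intro c
        refine ⟨g⁻¹ * r.elt c * g, hconj _ (r.elt_mem_grp c), ?_⟩
        rw [Units.val_mul, Units.val_mul, RD.elt_val, mul_add, add_mul, mul_one]
        change Gi * G + Gi * (c • r.N) * G = _
        rw [hGiG, Matrix.mul_smul, Matrix.smul_mul]
      have hN0 : Gi * r.N * G ≠ 0 := by
        intro h0
        apply rootN_ne_zero r.i r.hy r.hη
        change r.N = 0
        have : G * (Gi * r.N * G) * Gi = r.N := by
          rw [← mul_assoc, ← mul_assoc, hGGi, one_mul, mul_assoc, hGGi, mul_one]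
        rw [← this, h0, mul_zero, zero_mul]
      have hNN : (Gi * r.N * G) * (Gi * r.N * G) = 0 := by
        have : (Gi * r.N * G) * (Gi * r.N * G) = Gi * (r.N * r.N) * G := by
          calc Gi * r.N * G * (Gi * r.N * G) = Gi * r.N * (G * Gi) * r.N * G := by simp only [mul_assoc]
            _ = Gi * (r.N * r.N) * G := by rw [hGGi]; simp only [mul_one, mul_assoc]
        rw [this, r.N_sq, mul_zero, zero_mul]
      have hrk : (Gi * r.N * G).rank ≤ m ^ (t - 1) := by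
        have hdet1 : IsUnit G.det := (Matrix.isUnit_iff_isUnit_det _).1 (g.isUnit)
        have hdet2 : IsUnit Gi.det := (Matrix.isUnit_iff_isUnit_det _).1 ((g⁻¹).isUnit)
        rw [Matrix.rank_mul_eq_left_of_isUnit_det _ _ hdet1, Matrix.rank_mul_eq_right_of_isUnit_det _ _ hdet2]
        change (slot m t r.i (Matrix.vecMulVec r.y r.η)).rank ≤ _
        rw [Cfsg.Agent.Lib.Helper6.TWQ.rank_slot]
        calc (Matrix.vecMulVec r.y r.η).rank * m ^ (t - 1) ≤ 1 * m ^ (t - 1) :=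
              Nat.mul_le_mul_right _ (Matrix.rank_vecMulVec_le _ _)
          _ = m ^ (t - 1) := one_mul _
      obtain ⟨j, z, ζ, hz, hζ, -, hN⟩ :=
        Cfsg.Agent.Lib.Helper6.TWQ.rootlike_is_root (by omega) hq _ hN0 hNN hrk hfam
      exact ⟨j, z, ζ, hz, hζ, hN⟩
    · have hq2 : Fintype.card F = 2 := by
        have := Fintype.one_lt_card (α := F)
        omega
      exact rootlike_two hq2 hm ht X hHX hNS r g hgX (hconj _ (r.elt_mem_grp 1))
  obtain ⟨j, z, ζ, hz, hζ, hN'⟩ := key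
  apply hNS g hgX
  refine ⟨j, r.i, z, r.y, hz, r.hy, ?_⟩
  have h1 := Cfsg.Agent.Lib.Helper6.TWLeaf.range_conj g (rootN j z ζ)
  rw [← hN'] at h1
  have h3 : G * (Gi * r.N * G) * Gi = r.N := by
    rw [← mul_assoc, ← mul_assoc, hGGi, one_mul, mul_assoc, hGGi, mul_one]
  rw [h3, hN', Cfsg.Agent.Lib.Helper6.TWLeaf.range_rootN j z ζ hζ] at h1
  have h4 : LinearMap.range (Matrix.toLin' r.N) = Wf r.i r.y :=
    Cfsg.Agent.Lib.Helper6.TWLeaf.range_rootN r.i r.y r.η r.hη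
  rw [h4] at h1
  exact h1.symm

end Assembly

/-- `fc_of_ns` with the binder order of the stub in `notes/S5641_I_leaves.lean` (`[Fintype F]` before `{t m}`). -/
theorem fc_of_ns_I {F : Type*} [Field F] [Fintype F] {t m : ℕ} (hm : 3 ≤ m) (ht : 2 ≤ t)
    (X : Subgroup (GL (Idx t m) F)) (hHX : Hstd t m F ≤ X) (hNS : NS X) : FC X :=
  fc_of_ns hm ht X hHX hNS

end Cfsg.Agent.Lib.Helper6.TWQFinal
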