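/-
helper6: Broué–Puig: for a height-zero character `χ ∈ B` and a subsection `(x, b)` with `b^G = B`,
the `b`-part of `c ↦ χ(xc)` does not vanish on the `p`-regular elements of `C_G(x)`.
-/
import Mathlib
import Cfsg.Agent.Lib.Helper6.Blau
import Cfsg.Agent.Lib.Helper6.CentralHom
import Cfsg.Agent.Lib.Helper6.OneBlock
import Cfsg.Agent.Lib.Helper23.HeightZeroF

set_option autoImplicit false

namespace Cfsg.Agent.Lib.Helper6

open Cfsg Cfsg.Agent.CharLib Cfsg.Agent.Lib.Helper24 Cfsg.Agent.Lib.Helper23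
open scoped ComplexConjugate

universe u

namespace BrouePuig

section A

variable {H : Type u} [Group H] [Fintype H] {M : Ideal AlgInt} {p : ℕ} [hpp : Fact p.Prime]

/-- The scaled `p`-regular part of a complex combination of irreducible characters, paired with an
irreducible character. -/
theorem classInner_tildeFun_lin [Fintype (IrrCharacter H)] {Φ : H → ℂ}
    (a : IrrCharacter H → ℂ) (hΦ : Φ = ∑ ξ : IrrCharacter H, a ξ • (ξ : H → ℂ))
    (ψ : IrrCharacter H) :
    classInner (tildeFun p Φ) (ψ : H → ℂ) =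
      ∑ ξ : IrrCharacter H, a ξ * (tildeInt p ξ ψ : ℂ) := by
  have h1 : tildeFun p Φ = ∑ ξ : IrrCharacter H, a ξ • tildeFun p (ξ : H → ℂ) := by
    funext x
    rw [Finset.sum_apply]
    unfold tildeFun
    by_cases hx : p ∣ orderOf x
    · simp only [Pi.smul_apply, if_pos hx, smul_zero, Finset.sum_const_zero]
    · simp only [Pi.smul_apply, if_neg hx]
      rw [hΦ, Finset.sum_apply, Finset.mul_sum]
      apply Finset.sum_congr rfl
      intro ξ _
      simp only [Pi.smul_apply, smul_eq_mul]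
      ring
  rw [h1, classInner_sum_left]
  apply Finset.sum_congr rfl
  intro ξ _
  rw [classInner_smul_left, tildeInt_spec]

omit [Fintype H] in
theorem memLocalIdeal_sub_one_of_pow_eq_one (hM : IsPModular p M) {c : ℂ} {k : ℕ}
    (h : c ^ (p ^ k) = 1) : MemLocalIdeal M (c - 1) := by
  have hprime : M.IsPrime := isPrime_of_isPModular hM
  have hp : p.Prime := hpp.out
  have hint : IsIntegral ℤ c := by
    apply IsIntegral.of_pow (pow_pos hp.pos k)
    rw [h]
    exact isIntegral_one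
  have hR : MemLocalRing M c := memLocalRing_of_algInt (M := M) ⟨c, hint⟩ hprime.one_notMem
  have := memLocalIdeal_sub_natCast_of_pow hM hR 1 k (by
    rw [h, Nat.cast_one, sub_self]
    exact memLocalIdeal_zero hprime.one_notMem)
  rwa [Nat.cast_one] at this

end A

section B

variable {G : Type u} [Group G] [Fintype G] {M : Ideal AlgInt} {p : ℕ} [hpp : Fact p.Prime]

/-- **Broué–Puig**, for a subgroup `C` centralizing the `p`-element `x ∈ C`. -/
theorem broue_puig_gen (hM : IsPModular p M) (B : Set (IrrCharacter G)) (χ : IrrCharacter G)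
    (hχ : χ ∈ B) (h0 : blockHeight p B (χ : G → ℂ) = 0) (x : G)
    (hx : ∃ k : ℕ, orderOf x = p ^ k) (C : Subgroup G) [Fintype C] (hxC : x ∈ C)
    (hcomm : ∀ g ∈ C, g * x = x * g)
    (b : Set (IrrCharacter C)) (hb : IsInducedBlock M C b B) :
    ∃ y : C, ¬ p ∣ orderOf y ∧
      blockPart b (fun c : C => (χ : G → ℂ) (x * (c : G))) y ≠ 0 := by
  classical
  let _ := fintypeIrr C
  have hprime : M.IsPrime := isPrime_of_isPModular hM
  obtain ⟨k, hk⟩ := hx
  set xC : C := ⟨x, hxC⟩ with hxCdef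
  have hcen : xC ∈ Subgroup.center C := by
    rw [Subgroup.mem_center_iff]
    intro g
    apply Subtype.ext
    exact hcomm g g.2
  set z : Subgroup.center C := ⟨xC, hcen⟩ with hz
  have hzpow : z ^ (p ^ k) = 1 := by
    apply Subtype.ext
    apply Subtype.ext
    simp only [SubmonoidClass.coe_pow, hz, hxCdef, OneMemClass.coe_one]
    rw [← hk]
    exact pow_orderOf_eq_one x
  have hc : ∀ ξ : IrrCharacter C, ∃ l : ℂ, (∀ g : C, (ξ : C → ℂ) (xC * g) = l * (ξ : C → ℂ) g) ∧
      l ^ (p ^ k) = 1 := by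
    intro ξ
    obtain ⟨c, hc1, _⟩ := IsIrrCharacter.exists_central_hom ξ.2
    refine ⟨c z, fun g => hc1 z g, ?_⟩
    rw [← map_pow, hzpow, map_one]
  choose l hl1 hl2 using hc
  have hres : IsCharacter C (fun c : C => (χ : G → ℂ) c) :=
    isCharacter_resFun C (IsIrrCharacter.isCharacter χ.2)
  obtain ⟨m, hm, hmi⟩ := IsCharacter.exists_decomp_sum hres
  set ϑ : C → ℂ := fun c : C => (χ : G → ℂ) (x * (c : G)) with hϑdef
  have hϑ : ϑ = ∑ ξ : IrrCharacter C, ((m ξ : ℂ) * l ξ) • (ξ : C → ℂ) := by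
    funext c
    have h1 : ϑ c = (fun c : C => (χ : G → ℂ) c) (xC * c) := rfl
    rw [h1, hm, Finset.sum_apply, Finset.sum_apply]
    apply Finset.sum_congr rfl
    intro ξ _
    simp only [Pi.smul_apply, smul_eq_mul, nsmul_eq_mul]
    rw [hl1 ξ c]
    ring
  have hinner : ∀ ψ : IrrCharacter C, classInner ϑ (ψ : C → ℂ) = (m ψ : ℂ) * l ψ := by
    intro ψ
    rw [hϑ, classInner_sum_left]
    simp only [classInner_smul_left, classInner_irr']
    rw [Finset.sum_eq_single ψ]
    · rw [if_pos rfl, mul_one]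
    · intro ξ _ hne
      rw [if_neg hne, mul_zero]
    · intro h
      exact absurd (Finset.mem_univ ψ) h
  set F : C → ℂ := blockPart b ϑ with hF
  have hFsum : F = ∑ ψ : IrrCharacter C,
      (if ψ ∈ b then (m ψ : ℂ) * l ψ else 0) • (ψ : C → ℂ) := by
    funext y
    rw [hF, blockPart_apply, finsum_mem_eq_sum_ite, Finset.sum_apply]
    apply Finset.sum_congr rfl
    intro ψ _
    simp only [Pi.smul_apply, smul_eq_mul]
    by_cases hψ : ψ ∈ b
    · rw [if_pos hψ, if_pos hψ, hinner]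
    · rw [if_neg hψ, if_neg hψ, zero_mul]
  by_contra hcon
  push Not at hcon
  have hbne : b.Nonempty := by
    obtain ⟨θ₀, hθ₀⟩ := hb.1
    exact ⟨θ₀, by rw [hθ₀]; exact mem_blockOf_self θ₀⟩
  obtain ⟨ψ₀, hψ₀, -⟩ := exists_minVal (p := p) hbne
  have crit := (induced_restriction_criterion hM C hb χ hψ₀).2 hχ h0
  apply crit
  have htF : tildeFun p F = 0 := by
    funext y
    unfold tildeFun
    by_cases hy : p ∣ orderOf y
    · rw [if_pos hy]; rfl
    · rw [if_neg hy, hcon y hy, mul_zero]; rfl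
  have e1 : classInner (tildeFun p F) (ψ₀ : C → ℂ) = 0 := by
    rw [htF]
    exact classInner_zero_left _
  have e2 := classInner_tildeFun_lin (p := p) _ hFsum ψ₀
  have e3 := Blau.classInner_tildeFun_char (p := p) m hm ψ₀
  rw [e1] at e2
  have e4 : classInner (tildeFun p (fun c : C => (χ : G → ℂ) c)) (ψ₀ : C → ℂ) / (ψ₀ : C → ℂ) 1 =
      ∑ ξ : IrrCharacter C, ((m ξ : ℂ) * (tildeInt p ξ ψ₀ : ℂ) -
        (if ξ ∈ b then (m ξ : ℂ) * l ξ else 0) * (tildeInt p ξ ψ₀ : ℂ)) / (ψ₀ : C → ℂ) 1 := by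
    rw [e3, ← Finset.sum_div, Finset.sum_sub_distrib, ← e2, sub_zero]
  rw [e4]
  apply Blau.memLocalIdeal_finset_sum
  intro ξ _
  by_cases hξ : ξ ∈ b
  · rw [if_pos hξ]
    have h5 : ((m ξ : ℂ) * (tildeInt p ξ ψ₀ : ℂ) - (m ξ : ℂ) * l ξ * (tildeInt p ξ ψ₀ : ℂ)) /
        (ψ₀ : C → ℂ) 1 = -((l ξ - 1) * ((m ξ : ℂ) *
          ((tildeInt p ξ ψ₀ : ℂ) / (charDegree (ψ₀ : C → ℂ) : ℂ)))) := by
      rw [irr_apply_one]
      ring
    rw [h5]
    apply memLocalIdeal_neg
    apply memLocalIdeal_mul_right (memLocalIdeal_sub_one_of_pow_eq_one hM (hl2 ξ))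
    exact memLocalRing_mul (memLocalRing_natCast (m ξ)) (memLocalRing_tildeInt_div hM ξ ψ₀)
  · rw [if_neg hξ]
    have hz0 : tildeInt p ξ ψ₀ = 0 := by
      rw [tildeInt_symm]
      exact tildeInt_eq_zero hM hb.1 hψ₀ hξ
    rw [hz0]
    simp only [Int.cast_zero, mul_zero, sub_zero, zero_div]
    exact memLocalIdeal_zero hprime.one_notMem

/-- **Broué–Puig**. -/
theorem broue_puig (hM : IsPModular p M) (B : Set (IrrCharacter G)) (χ : IrrCharacter G)
    (hχ : χ ∈ B) (h0 : blockHeight p B (χ : G → ℂ) = 0) (x : G)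
    (hx : ∃ k : ℕ, orderOf x = p ^ k) [Fintype (Subgroup.centralizer ({x} : Set G))]
    (b : Set (IrrCharacter (Subgroup.centralizer ({x} : Set G))))
    (hb : IsInducedBlock M (Subgroup.centralizer ({x} : Set G)) b B) :
    ∃ y : Subgroup.centralizer ({x} : Set G), ¬ p ∣ orderOf y ∧
      blockPart b (fun c : Subgroup.centralizer ({x} : Set G) => (χ : G → ℂ) (x * (c : G))) y ≠ 0 :=
  broue_puig_gen hM B χ hχ h0 x hx _ (Subgroup.mem_centralizer_singleton_iff.mpr rfl)
    (fun _ hg => Subgroup.mem_centralizer_singleton_iff.mp hg) b hb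

end B

end BrouePuig

end Cfsg.Agent.Lib.Helper6
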