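import Mathlib
import Cfsg.Agent.Lib.Helper27.DWBFAITH
import Cfsg.Agent.Lib.Helper2.DWBSIGN

/-!
Helper6: DW market (S3616), spine DW-B in `Of` form: over the statements of DW-BNORM and DW-BSOL
(at the types where they are used) as hypotheses; DW-BFAITH (helper27) and DW-BSIGN (helper2) are
imported.
-/

set_option autoImplicit false
set_option linter.unusedVariables false

namespace Cfsg.Agent.Lib.Helper6.DWBOf

open MulAction
open scoped Pointwise

/-- the statement of DW-BNORM at fixed types `G`, `Γ`. -/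
def BNormStmt (G : Type*) (Γ : Type*) [Group G] [MulAction G Γ] : Prop :=
  ∀ [Finite G] [FaithfulSMul G Γ] [Fintype Γ] [DecidableEq Γ]
    (p : ℕ) (hp : p.Prime) (hp2 : p ≠ 2) (hΩ : Fintype.card Γ = p)
    (htrans : IsPretransitive G Γ)
    (heven : ∀ g : G, Equiv.Perm.sign (MulAction.toPerm g : Equiv.Perm Γ) = 1)
    (M Q : Subgroup G) (hM : 2 * Nat.card M = p * (p - 1)) (hQ : Nat.card Q = p)
    (hQM : ∀ m ∈ M, ∀ q ∈ Q, m * q * m⁻¹ ∈ Q) (P : Sylow p G),
    2 * Nat.card ↥(Subgroup.normalizer ((P : Subgroup G) : Set G)) = p * (p - 1)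

/-- the statement of DW-BSOL at fixed types `G`, `Γ`. -/
def BSolStmt (G : Type*) (Γ : Type*) [Group G] [MulAction G Γ] : Prop :=
  ∀ [Finite G] [FaithfulSMul G Γ] [Finite Γ]
    (p : ℕ) (hp : p.Prime) (hΩ : Nat.card Γ = p) (htrans : IsPretransitive G Γ)
    (hsol : Group.IsSolvable G) (P : Sylow p G), ((P : Subgroup G)).Normal

/-- **DW-B**, `Of` form over the statements of DW-BNORM and DW-BSOL. -/
theorem DWB_of {X Ω : Type*} [Group X] [Finite X] [MulAction X Ω] [FaithfulSMul X Ω] [Fintype Ω]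
    [DecidableEq Ω] (p : ℕ) (hp : p.Prime) (hp2 : p ≠ 2) (hΩ : Fintype.card Ω = p + 1)
    (heven : ∀ x : X, Equiv.Perm.sign (MulAction.toPerm x : Equiv.Perm Ω) = 1)
    (h2 : IsMultiplyPretransitive X Ω 2) (a : Ω) (M Q : Subgroup X)
    (hMa : M ≤ stabilizer X a) (hM : 2 * Nat.card M = p * (p - 1)) (hQM : Q ≤ M)
    (hQ : Nat.card Q = p) (hnorm : ∀ m ∈ M, ∀ q ∈ Q, m * q * m⁻¹ ∈ Q)
    (hbig : p * (p - 1) < 2 * Nat.card ↥(stabilizer X a))
    (hBN : BNormStmt ↥(stabilizer X a) ↥(SubMulAction.ofStabilizer X a))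
    (hBS : BSolStmt ↥(stabilizer X a) ↥(SubMulAction.ofStabilizer X a)) :
    ¬ Group.IsSolvable ↥(stabilizer X a) ∧
      ∀ P : Sylow p ↥(stabilizer X a),
        2 * Nat.card ↥(Subgroup.normalizer
          ((P : Subgroup ↥(stabilizer X a)) : Set ↥(stabilizer X a))) = p * (p - 1) := by
  classical
  have : FaithfulSMul ↥(stabilizer X a) ↥(SubMulAction.ofStabilizer X a) :=
    Cfsg.Agent.Lib.Helper27.DWBFAITH.DWBFAITH a
  have : IsPretransitive X Ω := isPretransitive_of_is_two_pretransitive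
  have htrans : IsPretransitive ↥(stabilizer X a) ↥(SubMulAction.ofStabilizer X a) := by
    rw [← is_one_pretransitive_iff]
    exact (SubMulAction.ofStabilizer.isMultiplyPretransitive (G := X) (α := Ω) (n := 1) (a := a)).1 h2
  have hcardN : Nat.card ↥(SubMulAction.ofStabilizer X a) = p := by
    rw [SubMulAction.nat_card_ofStabilizer_eq, Nat.card_eq_fintype_card, hΩ]
    omega
  let _ : Fintype ↥(SubMulAction.ofStabilizer X a) := Fintype.ofFinite _
  have hcardF : Fintype.card ↥(SubMulAction.ofStabilizer X a) = p := by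
    rw [← Nat.card_eq_fintype_card, hcardN]
  have hev : ∀ g : ↥(stabilizer X a),
      Equiv.Perm.sign (MulAction.toPerm g : Equiv.Perm ↥(SubMulAction.ofStabilizer X a)) = 1 := by
    intro g
    rw [Cfsg.Agent.Lib.Helper2.DWBSIGN.DWBSIGN a g]
    exact heven _
  have hQa : Q ≤ stabilizer X a := hQM.trans hMa
  have hM' : 2 * Nat.card ↥(M.subgroupOf (stabilizer X a)) = p * (p - 1) := by
    rw [Nat.card_congr (Subgroup.subgroupOfEquivOfLe hMa).toEquiv]
    exact hM
  have hQ' : Nat.card ↥(Q.subgroupOf (stabilizer X a)) = p := by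
    rw [Nat.card_congr (Subgroup.subgroupOfEquivOfLe hQa).toEquiv]
    exact hQ
  have hnorm' : ∀ m ∈ M.subgroupOf (stabilizer X a), ∀ q ∈ Q.subgroupOf (stabilizer X a),
      m * q * m⁻¹ ∈ Q.subgroupOf (stabilizer X a) := by
    intro m hm q hq
    rw [Subgroup.mem_subgroupOf] at hm hq ⊢
    simpa using hnorm _ hm _ hq
  have hN : ∀ P : Sylow p ↥(stabilizer X a),
      2 * Nat.card ↥(Subgroup.normalizer
        ((P : Subgroup ↥(stabilizer X a)) : Set ↥(stabilizer X a))) = p * (p - 1) :=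
    fun P => hBN p hp hp2 hcardF htrans hev _ _ hM' hQ' hnorm' P
  refine ⟨fun hsol => ?_, hN⟩
  obtain ⟨P⟩ : Nonempty (Sylow p ↥(stabilizer X a)) := inferInstance
  have hPn := hBS p hp hcardN htrans hsol P
  have htop : Subgroup.normalizer ((P : Subgroup ↥(stabilizer X a)) : Set ↥(stabilizer X a)) = ⊤ :=
    Subgroup.normalizer_eq_top_iff.2 hPn
  have h := hN P
  rw [htop, Subgroup.card_top] at h
  omega

end Cfsg.Agent.Lib.Helper6.DWBOf
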