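import Mathlib
import Cfsg.Agent.Lib.Helper10.DWDefs
import Cfsg.Agent.Lib.Helper5.DWIDX2

/-!
Helper6: DW market (S3616), spine DW-MAIN in `Of` form: over the statement of DW-RANK3 (at the types
where it is used) as a hypothesis; DW-IDX2 is imported (helper5).
-/

set_option autoImplicit false
set_option linter.unusedVariables false

namespace Cfsg.Agent.Lib.Helper6.DWMAINOf

open MulAction Cfsg.Agent.Lib.Helper10.DWDefs
open scoped Pointwise

/-- the statement of DW-RANK3 at fixed types `G`, `Γ`. -/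
def Rank3Stmt (G : Type*) (Γ : Type*) [Group G] [MulAction G Γ] [Finite Γ] : Prop :=
  ∀ (hprim : IsPreprimitive G Γ) {n : ℕ} (hn : Odd n)
    (D : Subgroup G) (φ : ↥D ≃* DihedralGroup n)
    (c : Γ) (hreg : ∀ γ : Γ, ∃! d : ↥D, (d : G) • c = γ)
    (O₁ O₂ : Set Γ) (h₁ : O₁.Nonempty) (h₂ : O₂.Nonempty) (hc₁ : c ∉ O₁) (hc₂ : c ∉ O₂)
    (hdisj : ∀ γ ∈ O₁, γ ∉ O₂) (hcov : ∀ γ : Γ, γ ≠ c → γ ∈ O₁ ∨ γ ∈ O₂)
    (horb₁ : ∀ γ ∈ O₁, ∀ γ' ∈ O₁, ∃ g : G, g • c = c ∧ g • γ = γ')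
    (horb₂ : ∀ γ ∈ O₂, ∀ γ' ∈ O₂, ∃ g : G, g • c = c ∧ g • γ = γ')
    (hinv₁ : ∀ g : G, g • c = c → ∀ γ ∈ O₁, g • γ ∈ O₁), False

variable {X Ω : Type*} [Group X] [MulAction X Ω]

/-- an element mapping `{a, b}` to itself lies in the setwise stabilizer of the complement. -/
theorem mem_stab_compl_pair {a b : Ω} {g : X}
    (h : (g • a = a ∧ g • b = b) ∨ (g • a = b ∧ g • b = a)) :
    g ∈ stabilizer X (({a, b} : Set Ω)ᶜ) := by
  rw [mem_stabilizer_set]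
  intro x
  simp only [Set.mem_compl_iff, Set.mem_insert_iff, Set.mem_singleton_iff, not_or]
  rcases h with ⟨h1, h2⟩ | ⟨h1, h2⟩
  · constructor
    · rintro ⟨n1, n2⟩
      exact ⟨fun e => n1 (by rw [e, h1]), fun e => n2 (by rw [e, h2])⟩
    · rintro ⟨n1, n2⟩
      refine ⟨fun e => n1 ?_, fun e => n2 ?_⟩
      · exact MulAction.injective g (e.trans h1.symm)
      · exact MulAction.injective g (e.trans h2.symm)
  · constructor
    · rintro ⟨n1, n2⟩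
      exact ⟨fun e => n2 (by rw [e, h1]), fun e => n1 (by rw [e, h2])⟩
    · rintro ⟨n1, n2⟩
      refine ⟨fun e => n2 ?_, fun e => n1 ?_⟩
      · exact MulAction.injective g (e.trans h2.symm)
      · exact MulAction.injective g (e.trans h1.symm)

/-- an element of the setwise stabilizer of the complement of `{a, b}` fixes or swaps `a`, `b`. -/
theorem pair_of_mem_stab_compl {a b : Ω} (hab : a ≠ b) {g : X}
    (hg : g ∈ stabilizer X (({a, b} : Set Ω)ᶜ)) :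
    (g • a = a ∧ g • b = b) ∨ (g • a = b ∧ g • b = a) := by
  rw [mem_stabilizer_set] at hg
  have ha := hg a
  have hb := hg b
  simp only [Set.mem_compl_iff, Set.mem_insert_iff, Set.mem_singleton_iff, not_or, true_or,
    or_true, not_true_eq_false, iff_false, not_and, not_not] at ha hb
  have ha' : g • a = a ∨ g • a = b := by
    by_cases h : g • a = a
    · exact Or.inl h
    · exact Or.inr (ha h)
  have hb' : g • b = a ∨ g • b = b := by
    by_cases h : g • b = a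
    · exact Or.inl h
    · exact Or.inr (hb h)
  rcases ha' with h1 | h1 <;> rcases hb' with h2 | h2
  · exact absurd (MulAction.injective g (h1.trans h2.symm)) hab
  · exact Or.inl ⟨h1, h2⟩
  · exact Or.inr ⟨h1, h2⟩
  · exact absurd (MulAction.injective g (h1.trans h2.symm)) hab

/-- **DW-MAIN**, `Of` form over the statement of DW-RANK3. -/
theorem DWMAIN_of [Fintype Ω] [DecidableEq Ω]
    (p : ℕ) (hp : p.Prime) (hp3 : p % 4 = 3) (hΩ : Fintype.card Ω = p + 1)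
    (a b : Ω) (hab : a ≠ b) (D : Subgroup X) (φ : ↥D ≃* DihedralGroup ((p - 1) / 2))
    (hDab : ∀ d ∈ D, (d • a = a ∧ d • b = b) ∨ (d • a = b ∧ d • b = a))
    (hDreg : ∀ ω : Ω, ω ≠ a → ω ≠ b → ∀ d ∈ D, d • ω = ω → d = 1)
    (hprim : IsPreprimitive ↥(stabilizer X (({a, b} : Set Ω)ᶜ)) ↥(({a, b} : Set Ω)ᶜ))
    (hfew : Few3 X a) (c : Ω) (hca : c ≠ a) (hcb : c ≠ b)
    (hR : Rank3Stmt ↥(stabilizer X (({a, b} : Set Ω)ᶜ)) ↥(({a, b} : Set Ω)ᶜ)) :
    ∀ y y' : Ω, y ≠ a → y ≠ b → y ≠ c → y' ≠ a → y' ≠ b → y' ≠ c →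
      ∃ g : X, g • a = a ∧ g • b = b ∧ g • c = c ∧ g • y = y' := by
  intro y y' hya hyb hyc hy'a hy'b hy'c
  by_contra hcon
  set s : Set Ω := ({a, b} : Set Ω)ᶜ with hs
  have mem_s : ∀ ω : Ω, ω ∈ s ↔ ω ≠ a ∧ ω ≠ b := by
    intro ω
    simp [hs]
  -- the two orbits as subsets of Ω
  set O₁ : Set Ω := {ω | ∃ g : X, g • a = a ∧ g • b = b ∧ g • c = c ∧ g • y = ω} with hO₁
  set O₂ : Set Ω := {ω | ω ≠ a ∧ ω ≠ b ∧ ω ≠ c ∧ ω ∉ O₁} with hO₂
  have hyO₁ : y ∈ O₁ := ⟨1, one_smul _ _, one_smul _ _, one_smul _ _, one_smul _ _⟩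
  have hy'O₂ : y' ∈ O₂ := ⟨hy'a, hy'b, hy'c, hcon⟩
  have O₁_ne : ∀ ω ∈ O₁, ω ≠ a ∧ ω ≠ b ∧ ω ≠ c := by
    rintro ω ⟨g, ga, gb, gc, rfl⟩
    refine ⟨fun e => hya ?_, fun e => hyb ?_, fun e => hyc ?_⟩
    · exact MulAction.injective g (e.trans ga.symm)
    · exact MulAction.injective g (e.trans gb.symm)
    · exact MulAction.injective g (e.trans gc.symm)
  have O₁_inv : ∀ g : X, g • a = a → g • b = b → g • c = c → ∀ ω ∈ O₁, g • ω ∈ O₁ := by
    rintro g ga gb gc ω ⟨g', ga', gb', gc', rfl⟩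
    refine ⟨g * g', ?_, ?_, ?_, ?_⟩ <;> simp [mul_smul, *]
  have O₁_inv' : ∀ g : X, g • a = a → g • b = b → g • c = c → ∀ ω, g • ω ∈ O₁ → ω ∈ O₁ := by
    intro g ga gb gc ω hω
    have h1 : g⁻¹ • a = a := by rw [inv_smul_eq_iff, ga]
    have h2 : g⁻¹ • b = b := by rw [inv_smul_eq_iff, gb]
    have h3 : g⁻¹ • c = c := by rw [inv_smul_eq_iff, gc]
    have := O₁_inv g⁻¹ h1 h2 h3 _ hω
    rwa [inv_smul_smul] at this
  have O₂_inv : ∀ g : X, g • a = a → g • b = b → g • c = c → ∀ ω ∈ O₂, g • ω ∈ O₂ := by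
    rintro g ga gb gc ω ⟨n1, n2, n3, n4⟩
    refine ⟨fun e => n1 ?_, fun e => n2 ?_, fun e => n3 ?_, fun e => n4 ?_⟩
    · exact MulAction.injective g (e.trans ga.symm)
    · exact MulAction.injective g (e.trans gb.symm)
    · exact MulAction.injective g (e.trans gc.symm)
    · exact O₁_inv' g ga gb gc ω e
  have O₁_orb : ∀ ω ∈ O₁, ∀ ω' ∈ O₁, ∃ g : X, g • a = a ∧ g • b = b ∧ g • c = c ∧ g • ω = ω' := by
    rintro ω ⟨g, ga, gb, gc, rfl⟩ ω' ⟨g', ga', gb', gc', rfl⟩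
    have h1 : g⁻¹ • a = a := by rw [inv_smul_eq_iff, ga]
    have h2 : g⁻¹ • b = b := by rw [inv_smul_eq_iff, gb]
    have h3 : g⁻¹ • c = c := by rw [inv_smul_eq_iff, gc]
    refine ⟨g' * g⁻¹, ?_, ?_, ?_, ?_⟩ <;> simp [mul_smul, *]
  have O₂_orb : ∀ ω ∈ O₂, ∀ ω' ∈ O₂, ∃ g : X, g • a = a ∧ g • b = b ∧ g • c = c ∧ g • ω = ω' := by
    refine hfew b c hab.symm hca hcb.symm O₂ ?_ ?_ ?_ ?_ ⟨y, ?_, hya, hyb, hyc⟩
    · intro g ga gb gc ω hω
      exact O₂_inv g ga gb gc ω hω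
    · intro h; exact h.1 rfl
    · intro h; exact h.2.1 rfl
    · intro h; exact h.2.2.1 rfl
    · intro h; exact h.2.2.2 hyO₁
  -- cardinalities
  have hcard : O₁.ncard + O₂.ncard + 3 = p + 1 := by
    have hU : O₁ ∪ O₂ = ({a, b, c} : Set Ω)ᶜ := by
      ext ω
      simp only [Set.mem_union, Set.mem_compl_iff, Set.mem_insert_iff, Set.mem_singleton_iff,
        not_or]
      constructor
      · rintro (h | h)
        · exact O₁_ne ω h
        · exact ⟨h.1, h.2.1, h.2.2.1⟩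
      · rintro ⟨n1, n2, n3⟩
        by_cases h : ω ∈ O₁
        · exact Or.inl h
        · exact Or.inr ⟨n1, n2, n3, h⟩
    have hdis : Disjoint O₁ O₂ := by
      rw [Set.disjoint_left]
      intro ω h1 h2
      exact h2.2.2.2 h1
    have h3 : ({a, b, c} : Set Ω).ncard = 3 := by
      rw [Set.ncard_eq_three]
      exact ⟨a, b, c, hab, hca.symm, hcb.symm, rfl⟩
    have hc := Set.ncard_add_ncard_compl ({a, b, c} : Set Ω)
    rw [← hU, Set.ncard_union_eq hdis (Set.toFinite _) (Set.toFinite _), h3,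
      Nat.card_eq_fintype_card, hΩ] at hc
    omega
  -- the subgroups of `X`
  have hH_le : ∀ g : X, g • a = a → g • b = b → g ∈ stabilizer X s := fun g ga gb =>
    mem_stab_compl_pair (Or.inl ⟨ga, gb⟩)
  by_cases hfuse : ∀ g : X, g ∈ stabilizer X s → g • c = c → ∀ ω ∈ O₁, g • ω ∈ O₁
  · -- rank 3 case
    have hcs : c ∈ s := (mem_s c).2 ⟨hca, hcb⟩
    have hDZ : D ≤ stabilizer X s := fun d hd => mem_stab_compl_pair (hDab d hd)
    let D' : Subgroup ↥(stabilizer X s) := D.subgroupOf (stabilizer X s)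
    let φ' : ↥D' ≃* DihedralGroup ((p - 1) / 2) := (Subgroup.subgroupOfEquivOfLe hDZ).trans φ
    have hn : Odd ((p - 1) / 2) := by
      rw [Nat.odd_iff]; omega
    have hn0 : (p - 1) / 2 ≠ 0 := by omega
    have : NeZero ((p - 1) / 2) := ⟨hn0⟩
    have hcardD : Nat.card ↥D' = p - 1 := by
      rw [Nat.card_congr φ'.toEquiv, DihedralGroup.nat_card]
      omega
    have hcardΓ : Nat.card ↥s = p - 1 := by
      have h2 : ({a, b} : Set Ω).ncard = 2 := by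
        rw [Set.ncard_eq_two]
        exact ⟨a, b, hab, rfl⟩
      have hc := Set.ncard_add_ncard_compl ({a, b} : Set Ω)
      rw [h2, Nat.card_eq_fintype_card, hΩ] at hc
      rw [Nat.card_coe_set_eq, hs]
      omega
    have hinj : Function.Injective (fun d : ↥D' => (d : ↥(stabilizer X s)) • (⟨c, hcs⟩ : ↥s)) := by
      intro d d' hdd
      have h1 : ((d : ↥(stabilizer X s)) : X) • c = ((d' : ↥(stabilizer X s)) : X) • c :=
        congrArg Subtype.val hdd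
      have h2 : (((d' : ↥(stabilizer X s)) : X)⁻¹ * ((d : ↥(stabilizer X s)) : X)) • c = c := by
        rw [mul_smul, h1, inv_smul_smul]
      have hd : ((d : ↥(stabilizer X s)) : X) ∈ D := d.2
      have hd' : ((d' : ↥(stabilizer X s)) : X) ∈ D := d'.2
      have h3 := hDreg c hca hcb _ (D.mul_mem (D.inv_mem hd') hd) h2
      have h4 : ((d : ↥(stabilizer X s)) : X) = ((d' : ↥(stabilizer X s)) : X) := by
        have := congrArg (fun z => ((d' : ↥(stabilizer X s)) : X) * z) h3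
        simpa using this
      exact Subtype.ext (Subtype.ext h4)
    have : Finite ↥D' := Nat.finite_of_card_ne_zero (by rw [hcardD]; omega)
    have hbij : Function.Bijective
        (fun d : ↥D' => (d : ↥(stabilizer X s)) • (⟨c, hcs⟩ : ↥s)) := by
      rw [Nat.bijective_iff_injective_and_card]
      exact ⟨hinj, by rw [hcardD, hcardΓ]⟩
    have hreg : ∀ γ : ↥s, ∃! d : ↥D', (d : ↥(stabilizer X s)) • (⟨c, hcs⟩ : ↥s) = γ :=
      fun γ => hbij.existsUnique γ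
    refine hR hprim hn D' φ' ⟨c, hcs⟩ hreg {γ | (γ : Ω) ∈ O₁} {γ | (γ : Ω) ∈ O₂}
      ⟨⟨y, (mem_s y).2 ⟨hya, hyb⟩⟩, hyO₁⟩ ⟨⟨y', (mem_s y').2 ⟨hy'a, hy'b⟩⟩, hy'O₂⟩ ?_ ?_ ?_ ?_ ?_ ?_ ?_
    · intro h; exact (O₁_ne c h).2.2 rfl
    · intro h; exact h.2.2.1 rfl
    · intro γ h1 h2; exact h2.2.2.2 h1
    · intro γ hγ
      have hγs := (mem_s γ).1 γ.2
      by_cases h : (γ : Ω) ∈ O₁
      · exact Or.inl h
      · refine Or.inr ⟨hγs.1, hγs.2, fun e => hγ (Subtype.ext e), h⟩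
    · intro γ hγ γ' hγ'
      obtain ⟨g, ga, gb, gc, gg⟩ := O₁_orb γ hγ γ' hγ'
      exact ⟨⟨g, hH_le g ga gb⟩, Subtype.ext gc, Subtype.ext gg⟩
    · intro γ hγ γ' hγ'
      obtain ⟨g, ga, gb, gc, gg⟩ := O₂_orb γ hγ γ' hγ'
      exact ⟨⟨g, hH_le g ga gb⟩, Subtype.ext gc, Subtype.ext gg⟩
    · intro g hg γ hγ
      exact hfuse g g.2 (congrArg Subtype.val hg) γ hγ
  · -- the fusing case: parity
    push Not at hfuse
    obtain ⟨g, hgs, hgc, ω, hω, hgω⟩ := hfuse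
    have hω' := O₁_ne ω hω
    have hgω₂ : g • ω ∈ O₂ := by
      have hpair := pair_of_mem_stab_compl hab hgs
      refine ⟨fun e => ?_, fun e => ?_, fun e => hω'.2.2 ?_, hgω⟩
      · rcases hpair with ⟨h1, h2⟩ | ⟨h1, h2⟩
        · exact hω'.1 (MulAction.injective g (e.trans h1.symm))
        · exact hω'.2.1 (MulAction.injective g (e.trans h2.symm))
      · rcases hpair with ⟨h1, h2⟩ | ⟨h1, h2⟩
        · exact hω'.2.1 (MulAction.injective g (e.trans h2.symm))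
        · exact hω'.1 (MulAction.injective g (e.trans h1.symm))
      · exact MulAction.injective g (e.trans hgc.symm)
    have heq := Cfsg.Agent.Lib.Helper5.DWIDX2.DWIDX2
      (stabilizer X c ⊓ stabilizer X s) (stabilizer X a ⊓ stabilizer X b ⊓ stabilizer X c) ?_ ?_
      O₁ O₂ (Set.toFinite _) (Set.toFinite _) ?_ ?_ ?_ ?_ g ⟨hgc, hgs⟩ ω hω hgω₂
    · omega
    · rintro h ⟨⟨ha, hb⟩, hc⟩
      exact ⟨hc, hH_le h ha hb⟩
    · rintro g₁ ⟨hg₁c, hg₁s⟩ g₂ ⟨hg₂c, hg₂s⟩ hn₁ hn₂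
      have hp₁ := pair_of_mem_stab_compl hab hg₁s
      have hp₂ := pair_of_mem_stab_compl hab hg₂s
      have hc₁ : g₁ • c = c := hg₁c
      have hc₂ : g₂ • c = c := hg₂c
      rcases hp₁ with ⟨h1, h2⟩ | ⟨h1, h2⟩
      · exact absurd ⟨⟨h1, h2⟩, hg₁c⟩ hn₁
      rcases hp₂ with ⟨k1, k2⟩ | ⟨k1, k2⟩
      · exact absurd ⟨⟨k1, k2⟩, hg₂c⟩ hn₂
      refine ⟨⟨?_, ?_⟩, ?_⟩
      · show (g₁ * g₂) • a = a
        rw [mul_smul, k1, h2]
      · show (g₁ * g₂) • b = b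
        rw [mul_smul, k2, h1]
      · show (g₁ * g₂) • c = c
        rw [mul_smul, hc₂, hc₁]
    · intro x hx x' hx'
      obtain ⟨h, ha, hb, hc, hh⟩ := O₁_orb x hx x' hx'
      exact ⟨h, ⟨⟨ha, hb⟩, hc⟩, hh⟩
    · intro x hx x' hx'
      obtain ⟨h, ha, hb, hc, hh⟩ := O₂_orb x hx x' hx'
      exact ⟨h, ⟨⟨ha, hb⟩, hc⟩, hh⟩
    · rintro h ⟨⟨ha, hb⟩, hc⟩ x hx
      exact O₁_inv h ha hb hc x hx
    · rintro h ⟨⟨ha, hb⟩, hc⟩ x hx
      exact O₂_inv h ha hb hc x hx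

end Cfsg.Agent.Lib.Helper6.DWMAINOf
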