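/-
helper6: two-generation of Sp_2m(q), part A.
Action notation, standard symplectic basis, symplectic matrices from hyperbolic systems,
the Coxeter monomial element.
-/
import Mathlib
import Cfsg.Prelude.Def_ClassicalGeometry
import Cfsg.Agent.Lib.Helper5.Symp
import Cfsg.Agent.Lib.Helper5.SympTrans
import Cfsg.Agent.Lib.Helper5.SympGen
import Cfsg.Agent.Lib.Helper5.SympGen2
import Cfsg.Agent.Lib.Helper14.SpPerfect
import Cfsg.Agent.Lib.Helper14.SympCount

set_option autoImplicit false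

namespace Cfsg.Agent.Lib.Helper6.SpGen

open Matrix Cfsg.Agent.Lib.Helper5 Cfsg.Agent.Lib.Helper14.SpPerfect
open Cfsg.Agent.Lib.Helper14

variable {F : Type*} [Field F] {m : ℕ}

/-- the action of a symplectic matrix on a vector -/
def ap (A : Matrix.symplecticGroup (Fin m) F) (x : Fin m ⊕ Fin m → F) : Fin m ⊕ Fin m → F :=
  (A : Matrix (Fin m ⊕ Fin m) (Fin m ⊕ Fin m) F) *ᵥ x

theorem ap_mul (A B : Matrix.symplecticGroup (Fin m) F) (x : Fin m ⊕ Fin m → F) :
    ap (A * B) x = ap A (ap B x) := coe_mul_mulVec A B x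

theorem ap_one (x : Fin m ⊕ Fin m → F) : ap (1 : Matrix.symplecticGroup (Fin m) F) x = x :=
  coe_one_mulVec x

theorem ap_inv_ap (A : Matrix.symplecticGroup (Fin m) F) (x : Fin m ⊕ Fin m → F) :
    ap A⁻¹ (ap A x) = x := coe_inv_mulVec_cancel' A x

theorem ap_ap_inv (A : Matrix.symplecticGroup (Fin m) F) (x : Fin m ⊕ Fin m → F) :
    ap A (ap A⁻¹ x) = x := coe_inv_mulVec_cancel A x

theorem ap_inv_eq {A : Matrix.symplecticGroup (Fin m) F} {x y : Fin m ⊕ Fin m → F}
    (h : ap A x = y) : ap A⁻¹ y = x := by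
  rw [← h, ap_inv_ap]

theorem ap_add (A : Matrix.symplecticGroup (Fin m) F) (x y : Fin m ⊕ Fin m → F) :
    ap A (x + y) = ap A x + ap A y := Matrix.mulVec_add _ x y

theorem ap_smul (A : Matrix.symplecticGroup (Fin m) F) (a : F) (x : Fin m ⊕ Fin m → F) :
    ap A (a • x) = a • ap A x := Matrix.mulVec_smul _ a x

theorem ap_neg (A : Matrix.symplecticGroup (Fin m) F) (x : Fin m ⊕ Fin m → F) :
    ap A (-x) = - ap A x := Matrix.mulVec_neg x _

theorem ap_sub (A : Matrix.symplecticGroup (Fin m) F) (x y : Fin m ⊕ Fin m → F) :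
    ap A (x - y) = ap A x - ap A y := by
  rw [sub_eq_add_neg, ap_add, ap_neg, ← sub_eq_add_neg]

theorem ap_zero (A : Matrix.symplecticGroup (Fin m) F) : ap A (0 : Fin m ⊕ Fin m → F) = 0 :=
  Matrix.mulVec_zero _

theorem ap_ne_zero (A : Matrix.symplecticGroup (Fin m) F) {x : Fin m ⊕ Fin m → F} (hx : x ≠ 0) :
    ap A x ≠ 0 := by
  intro h
  apply hx
  have := congrArg (ap A⁻¹) h
  rwa [ap_inv_ap, ap_zero] at this

theorem ap_Tr (w x : Fin m ⊕ Fin m → F) (c : F) :
    ap (Tr w c) x = x + (c * Cfsg.sympForm m F x w) • w := Tr_mulVec w x c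

theorem ap_pow_of_smul (A : Matrix.symplecticGroup (Fin m) F) (x : Fin m ⊕ Fin m → F) (a : F)
    (h : ap A x = a • x) (n : ℕ) : ap (A ^ n) x = a ^ n • x := by
  induction n with
  | zero => rw [pow_zero, pow_zero, ap_one, one_smul]
  | succ n ih => rw [pow_succ, ap_mul, h, ap_smul, ih, smul_smul, pow_succ, mul_comm]

theorem sympForm_ap (A : Matrix.symplecticGroup (Fin m) F) (x y : Fin m ⊕ Fin m → F) :
    Cfsg.sympForm m F (ap A x) (ap A y) = Cfsg.sympForm m F x y :=
  sympForm_mulVec_of_mem A.2 x y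

/-- conjugation formula in terms of `ap` -/
theorem conj_Tr' (g : Matrix.symplecticGroup (Fin m) F) (w : Fin m ⊕ Fin m → F) (c : F) :
    g * Tr w c * g⁻¹ = Tr (ap g w) c := conj_Tr g w c

theorem ap_ext {A B : Matrix.symplecticGroup (Fin m) F} (h : ∀ x, ap A x = ap B x) : A = B :=
  sp_ext h

/-- `Tr w 1 ^ n = Tr w n` -/
theorem Tr_one_pow (w : Fin m ⊕ Fin m → F) (n : ℕ) : (Tr w (1 : F)) ^ n = Tr w (n : F) := by
  induction n with
  | zero => rw [pow_zero, Nat.cast_zero, Tr_zero]
  | succ n ih => rw [pow_succ, ih, Tr_mul, Nat.cast_succ]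

/-! ### standard basis -/

/-- the basis vector `e_i` -/
def eV (i : Fin m) : Fin m ⊕ Fin m → F := Pi.single (Sum.inl i) 1

/-- the basis vector `f_i` -/
def fV (i : Fin m) : Fin m ⊕ Fin m → F := Pi.single (Sum.inr i) 1

@[simp] theorem eV_inl (i k : Fin m) : (eV i : Fin m ⊕ Fin m → F) (Sum.inl k) = if k = i then 1 else 0 := by
  unfold eV
  rw [Pi.single_apply]
  simp only [Sum.inl.injEq]

@[simp] theorem eV_inr (i k : Fin m) : (eV i : Fin m ⊕ Fin m → F) (Sum.inr k) = 0 := by
  unfold eV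
  rw [Pi.single_apply, if_neg]
  exact fun h => by cases h

@[simp] theorem fV_inr (i k : Fin m) : (fV i : Fin m ⊕ Fin m → F) (Sum.inr k) = if k = i then 1 else 0 := by
  unfold fV
  rw [Pi.single_apply]
  simp only [Sum.inr.injEq]

@[simp] theorem fV_inl (i k : Fin m) : (fV i : Fin m ⊕ Fin m → F) (Sum.inl k) = 0 := by
  unfold fV
  rw [Pi.single_apply, if_neg]
  exact fun h => by cases h

theorem form_eV (x : Fin m ⊕ Fin m → F) (i : Fin m) :
    Cfsg.sympForm m F x (eV i) = x (Sum.inr i) := sympForm_single_inl x i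

theorem form_fV (x : Fin m ⊕ Fin m → F) (i : Fin m) :
    Cfsg.sympForm m F x (fV i) = - x (Sum.inl i) := sympForm_single_inr x i

theorem eV_ne_zero (i : Fin m) : (eV i : Fin m ⊕ Fin m → F) ≠ 0 := by
  intro h
  have := congrFun h (Sum.inl i)
  simp at this

/-- the three kinds of moves -/
theorem ap_Tr_eV (i : Fin m) (s : F) (x : Fin m ⊕ Fin m → F) :
    ap (Tr (eV i) s) x = x + (s * x (Sum.inr i)) • eV i := by
  rw [ap_Tr, form_eV]

theorem ap_Tr_fV (i : Fin m) (s : F) (x : Fin m ⊕ Fin m → F) :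
    ap (Tr (fV i) s) x = x + (s * - x (Sum.inl i)) • fV i := by
  rw [ap_Tr, form_fV]

theorem ap_Tr_eV_add (i j : Fin m) (s : F) (x : Fin m ⊕ Fin m → F) :
    ap (Tr (eV i + eV j) s) x = x + (s * (x (Sum.inr i) + x (Sum.inr j))) • (eV i + eV j) := by
  rw [ap_Tr, sympForm_add_right, form_eV, form_eV]

/-! ### symplectic matrices from hyperbolic systems -/

/-- the symplectic matrix with columns `e i`, `f i` -/
def ofCols (e f : Fin m → (Fin m ⊕ Fin m → F)) (hs : HypSys F m m e f) :
    Matrix.symplecticGroup (Fin m) F :=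
  ⟨Matrix.of (fun r c => Sum.elim (fun i => e i r) (fun i => f i r) c), by
    rw [SymplecticGroup.mem_iff']
    ext a b
    rw [← sympForm_cols]
    rcases a with i | i <;> rcases b with j | j
    · rw [J_inl_inl]; exact hs.ee i j
    · rw [J_inl_inr]; exact hs.ef i j
    · rw [J_inr_inl]; exact hs.fe i j
    · rw [J_inr_inr]; exact hs.ff i j⟩

theorem ap_ofCols_eV (e f : Fin m → (Fin m ⊕ Fin m → F)) (hs : HypSys F m m e f) (i : Fin m) :
    ap (ofCols e f hs) (eV i) = e i := by
  classical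
  unfold ap eV ofCols
  rw [Matrix.mulVec_single_one]
  rfl

theorem ap_ofCols_fV (e f : Fin m → (Fin m ⊕ Fin m → F)) (hs : HypSys F m m e f) (i : Fin m) :
    ap (ofCols e f hs) (fV i) = f i := by
  classical
  unfold ap fV ofCols
  rw [Matrix.mulVec_single_one]
  rfl

/-! ### the Coxeter element -/

/-- images of the `e_i` under the Coxeter element -/
def coxE (hm : 0 < m) (i : Fin m) : Fin m ⊕ Fin m → F :=
  if h : i.val + 1 < m then eV ⟨i.val + 1, h⟩ else fV ⟨0, hm⟩

/-- images of the `f_i` under the Coxeter element -/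
def coxF (hm : 0 < m) (i : Fin m) : Fin m ⊕ Fin m → F :=
  if h : i.val + 1 < m then fV ⟨i.val + 1, h⟩ else - eV ⟨0, hm⟩

theorem form_eV_eV (i j : Fin m) : Cfsg.sympForm m F (eV i : Fin m ⊕ Fin m → F) (eV j) = 0 := by
  rw [form_eV, eV_inr]

theorem form_fV_fV (i j : Fin m) : Cfsg.sympForm m F (fV i : Fin m ⊕ Fin m → F) (fV j) = 0 := by
  rw [form_fV, fV_inl, neg_zero]

theorem form_fV_eV (i j : Fin m) :
    Cfsg.sympForm m F (fV i : Fin m ⊕ Fin m → F) (eV j) = if j = i then 1 else 0 := by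
  rw [form_eV, fV_inr]

theorem form_eV_fV (i j : Fin m) :
    Cfsg.sympForm m F (eV i : Fin m ⊕ Fin m → F) (fV j) = - if j = i then 1 else 0 := by
  rw [form_fV, eV_inl]

theorem hypSys_cox (hm : 0 < m) : HypSys F m m (coxE (F := F) hm) (coxF hm) := by
  refine ⟨fun i j => ?_, fun i j => ?_, fun i j => ?_⟩
  · unfold coxE
    split_ifs with h1 h2 h2
    · exact form_eV_eV _ _
    · rw [form_eV_fV, if_neg, neg_zero]
      intro h; have := congrArg Fin.val h; simp at this
    · rw [form_fV_eV, if_neg]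
      intro h; have := congrArg Fin.val h; simp at this
    · exact form_fV_fV _ _
  · unfold coxF
    split_ifs with h1 h2 h2
    · exact form_fV_fV _ _
    · rw [sympForm_neg_right, form_fV_eV, if_neg, neg_zero]
      intro h; have := congrArg Fin.val h; simp at this
    · rw [sympForm_neg_left, form_eV_fV, if_neg, neg_zero, neg_zero]
      intro h; have := congrArg Fin.val h; simp at this
    · rw [sympForm_neg_left, sympForm_neg_right, form_eV_eV, neg_zero, neg_zero]
  · unfold coxE coxF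
    by_cases hij : i = j
    · subst hij
      rw [if_pos rfl]
      split_ifs with h1
      · rw [form_fV_eV, if_pos rfl]
      · rw [sympForm_neg_left, form_eV_fV, if_pos rfl, neg_neg]
    · rw [if_neg hij]
      have hv : i.val ≠ j.val := fun h => hij (Fin.ext h)
      split_ifs with h1 h2 h2
      · rw [form_fV_eV, if_neg]
        intro h; have := congrArg Fin.val h; simp at this; omega
      · exact form_fV_fV _ _
      · rw [sympForm_neg_left, form_eV_eV, neg_zero]
      · exfalso; omega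

/-- the Coxeter element `e_i → e_{i+1}`, `e_{m-1} → f_0`, `f_i → f_{i+1}`, `f_{m-1} → -e_0` -/
def cox (F : Type*) [Field F] {m : ℕ} (hm : 0 < m) : Matrix.symplecticGroup (Fin m) F :=
  ofCols (coxE hm) (coxF hm) (hypSys_cox hm)

theorem cox_eV (hm : 0 < m) (i j : Fin m) (h : j.val = i.val + 1) :
    ap (cox F hm) (eV i) = eV j := by
  unfold cox
  rw [ap_ofCols_eV]
  unfold coxE
  rw [dif_pos (by rw [← h]; exact j.2)]
  congr 1
  exact Fin.ext h.symm

theorem cox_eV_last (hm : 0 < m) (i j : Fin m) (hi : i.val + 1 = m) (hj : j.val = 0) :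
    ap (cox F hm) (eV i) = fV j := by
  unfold cox
  rw [ap_ofCols_eV]
  unfold coxE
  rw [dif_neg (by omega)]
  congr 1
  exact Fin.ext hj.symm

theorem cox_fV (hm : 0 < m) (i j : Fin m) (h : j.val = i.val + 1) :
    ap (cox F hm) (fV i) = fV j := by
  unfold cox
  rw [ap_ofCols_fV]
  unfold coxF
  rw [dif_pos (by rw [← h]; exact j.2)]
  congr 1
  exact Fin.ext h.symm

theorem cox_fV_last (hm : 0 < m) (i j : Fin m) (hi : i.val + 1 = m) (hj : j.val = 0) :
    ap (cox F hm) (fV i) = - eV j := by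
  unfold cox
  rw [ap_ofCols_fV]
  unfold coxF
  rw [dif_neg (by omega)]
  congr 2
  exact Fin.ext hj.symm

end Cfsg.Agent.Lib.Helper6.SpGen
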