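/-
helper6: two-generation of Sp_2m(q), part B.
A subgroup of Sp_2m(F) containing the Coxeter element, one long root group `X_{e_j}` and one
root group `X_w` with `w` supported on exactly two adjacent hyperbolic planes is everything.
-/
import Mathlib
import Cfsg.Agent.Lib.Helper6.SpGenA

set_option autoImplicit false

namespace Cfsg.Agent.Lib.Helper6.SpGen

open Matrix Cfsg.Agent.Lib.Helper5 Cfsg.Agent.Lib.Helper14.SpPerfect
open Cfsg.Agent.Lib.Helper14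

variable {F : Type*} [Field F] {m : ℕ}

/-- the vectors whose whole transvection group lies in `M` -/
def Rt (M : Subgroup (Matrix.symplecticGroup (Fin m) F)) : Set (Fin m ⊕ Fin m → F) :=
  {w | ∀ s : F, Tr w s ∈ M}

variable {M : Subgroup (Matrix.symplecticGroup (Fin m) F)}

theorem Rt_ap {g : Matrix.symplecticGroup (Fin m) F} (hg : g ∈ M) {w : Fin m ⊕ Fin m → F}
    (hw : w ∈ Rt M) : ap g w ∈ Rt M := by
  intro s
  rw [← conj_Tr']
  exact M.mul_mem (M.mul_mem hg (hw s)) (M.inv_mem hg)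

theorem Rt_neg {w : Fin m ⊕ Fin m → F} (hw : w ∈ Rt M) : -w ∈ Rt M := by
  intro s
  have : -w = (-1 : F) • w := by rw [neg_smul, one_smul]
  rw [this, Tr_smul]
  exact hw _

/-- the orbit relation of `M` on vectors -/
def Rel (M : Subgroup (Matrix.symplecticGroup (Fin m) F)) (x y : Fin m ⊕ Fin m → F) : Prop :=
  ∃ g ∈ M, ap g x = y

theorem Rel.refl (x : Fin m ⊕ Fin m → F) : Rel M x x := ⟨1, M.one_mem, ap_one x⟩

theorem Rel.trans {x y z : Fin m ⊕ Fin m → F} (h1 : Rel M x y) (h2 : Rel M y z) : Rel M x z := by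
  obtain ⟨g1, hg1, e1⟩ := h1
  obtain ⟨g2, hg2, e2⟩ := h2
  exact ⟨g2 * g1, M.mul_mem hg2 hg1, by rw [ap_mul, e1, e2]⟩

theorem Rel.ne_zero {x y : Fin m ⊕ Fin m → F} (h : Rel M x y) (hx : x ≠ 0) : y ≠ 0 := by
  obtain ⟨g, -, rfl⟩ := h
  exact ap_ne_zero g hx

theorem Rel.mem_Rt {x y : Fin m ⊕ Fin m → F} (h : Rel M x y) (hx : x ∈ Rt M) : y ∈ Rt M := by
  obtain ⟨g, hg, rfl⟩ := h
  exact Rt_ap hg hx

theorem Rel.move {w : Fin m ⊕ Fin m → F} (hw : w ∈ Rt M) (s : F) (x : Fin m ⊕ Fin m → F) :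
    Rel M x (x + (s * Cfsg.sympForm m F x w) • w) :=
  ⟨Tr w s, hw s, ap_Tr w x s⟩

/-! ### propagation of root groups along the Coxeter element -/

/-- all long root groups lie in `M` -/
def Long (M : Subgroup (Matrix.symplecticGroup (Fin m) F)) : Prop :=
  ∀ i : Fin m, (eV i : Fin m ⊕ Fin m → F) ∈ Rt M ∧ (fV i : Fin m ⊕ Fin m → F) ∈ Rt M

theorem long_of_cox (hm : 0 < m) (hc : cox F hm ∈ M) (j : Fin m)
    (hj : (eV j : Fin m ⊕ Fin m → F) ∈ Rt M) : Long M := by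
  have hc' : (cox F hm)⁻¹ ∈ M := M.inv_mem hc
  -- descend to `e_0`
  have h0 : (eV ⟨0, hm⟩ : Fin m ⊕ Fin m → F) ∈ Rt M := by
    have : ∀ n : ℕ, ∀ j : Fin m, j.val = n → (eV j : Fin m ⊕ Fin m → F) ∈ Rt M →
        (eV ⟨0, hm⟩ : Fin m ⊕ Fin m → F) ∈ Rt M := by
      intro n
      induction n with
      | zero =>
        intro j hj0 hj
        have : j = ⟨0, hm⟩ := Fin.ext hj0
        rwa [this] at hj
      | succ n ih =>
        intro j hjn hj
        have hn : n < m := by have := j.2; omega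
        apply ih ⟨n, hn⟩ rfl
        have e := cox_eV (F := F) hm ⟨n, hn⟩ j (by simp [hjn])
        rw [← ap_inv_eq e]
        exact Rt_ap hc' hj
    exact this j.val j rfl hj
  -- ascend
  have hE : ∀ n : ℕ, ∀ hn : n < m, (eV ⟨n, hn⟩ : Fin m ⊕ Fin m → F) ∈ Rt M := by
    intro n
    induction n with
    | zero => intro _; exact h0
    | succ n ih =>
      intro hn
      have hn' : n < m := by omega
      rw [← cox_eV (F := F) hm ⟨n, hn'⟩ ⟨n + 1, hn⟩ rfl]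
      exact Rt_ap hc (ih hn')
  have hF : ∀ n : ℕ, ∀ hn : n < m, (fV ⟨n, hn⟩ : Fin m ⊕ Fin m → F) ∈ Rt M := by
    intro n
    induction n with
    | zero =>
      intro hn
      have hl : m - 1 < m := by omega
      rw [← cox_eV_last (F := F) hm ⟨m - 1, hl⟩ ⟨0, hn⟩ (by simp; omega) rfl]
      exact Rt_ap hc (hE _ hl)
    | succ n ih =>
      intro hn
      have hn' : n < m := by omega
      rw [← cox_fV (F := F) hm ⟨n, hn'⟩ ⟨n + 1, hn⟩ rfl]
      exact Rt_ap hc (ih hn')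
  intro i
  exact ⟨hE i.val i.2, hF i.val i.2⟩

theorem pairs_of_cox (hm : 0 < m) (hc : cox F hm ∈ M) (j k : Fin m) (hjk : k.val = j.val + 1)
    (hj : (eV j + eV k : Fin m ⊕ Fin m → F) ∈ Rt M) :
    ∀ j k : Fin m, k.val = j.val + 1 → (eV j + eV k : Fin m ⊕ Fin m → F) ∈ Rt M := by
  have hc' : (cox F hm)⁻¹ ∈ M := M.inv_mem hc
  have hdown : ∀ n : ℕ, ∀ j k : Fin m, j.val = n → k.val = n + 1 →
      (eV j + eV k : Fin m ⊕ Fin m → F) ∈ Rt M →
      ∀ j0 k0 : Fin m, j0.val = 0 → k0.val = 1 →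
        (eV j0 + eV k0 : Fin m ⊕ Fin m → F) ∈ Rt M := by
    intro n
    induction n with
    | zero =>
      intro j k hj0 hk1 h j0 k0 hj0' hk0'
      have e1 : j0 = j := Fin.ext (by rw [hj0, hj0'])
      have e2 : k0 = k := Fin.ext (by rw [hk1, hk0'])
      rw [e1, e2]; exact h
    | succ n ih =>
      intro j k hjn hkn h
      have hn : n < m := by have := j.2; omega
      apply ih ⟨n, hn⟩ j rfl hjn
      have e1 := cox_eV (F := F) hm ⟨n, hn⟩ j (by simp [hjn])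
      have e2 := cox_eV (F := F) hm j k (by rw [hkn, hjn])
      have : ap (cox F hm)⁻¹ (eV j + eV k) = (eV ⟨n, hn⟩ + eV j : Fin m ⊕ Fin m → F) := by
        rw [ap_add, ap_inv_eq e1, ap_inv_eq e2]
      rw [← this]
      exact Rt_ap hc' h
  have h01 := hdown j.val j k rfl hjk hj
  have hup : ∀ n : ℕ, ∀ j k : Fin m, j.val = n → k.val = n + 1 →
      (eV j + eV k : Fin m ⊕ Fin m → F) ∈ Rt M := by
    intro n
    induction n with
    | zero =>
      intro j k hj0 hk1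
      exact h01 j k hj0 (by rw [hk1])
    | succ n ih =>
      intro j k hjn hkn
      have hn : n < m := by have := j.2; omega
      have e1 := cox_eV (F := F) hm ⟨n, hn⟩ j (by simp [hjn])
      have e2 := cox_eV (F := F) hm j k (by rw [hkn, hjn])
      have : ap (cox F hm) (eV ⟨n, hn⟩ + eV j) = (eV j + eV k : Fin m ⊕ Fin m → F) := by
        rw [ap_add, e1, e2]
      rw [← this]
      exact Rt_ap hc (ih ⟨n, hn⟩ j rfl hjn)
  intro j k hjk
  exact hup j.val j k rfl hjk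

/-! ### normalisation inside a hyperbolic plane -/

/-- `y` agrees with `x` outside the plane `i` -/
def Same (i : Fin m) (x y : Fin m ⊕ Fin m → F) : Prop :=
  ∀ k : Fin m, k ≠ i → y (Sum.inl k) = x (Sum.inl k) ∧ y (Sum.inr k) = x (Sum.inr k)

omit [Field F] in
theorem Same.refl (i : Fin m) (x : Fin m ⊕ Fin m → F) : Same i x x := fun _ _ => ⟨rfl, rfl⟩

omit [Field F] in
theorem Same.trans {i : Fin m} {x y z : Fin m ⊕ Fin m → F} (h1 : Same i x y) (h2 : Same i y z) :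
    Same i x z := fun k hk => ⟨((h2 k hk).1).trans (h1 k hk).1, ((h2 k hk).2).trans (h1 k hk).2⟩

theorem move_e (hL : Long M) (i : Fin m) (s : F) (x : Fin m ⊕ Fin m → F) :
    ∃ y, Rel M x y ∧ y (Sum.inl i) = x (Sum.inl i) + s * x (Sum.inr i) ∧
      y (Sum.inr i) = x (Sum.inr i) ∧ Same i x y := by
  refine ⟨_, Rel.move (hL i).1 s x, ?_, ?_, ?_⟩
  · simp [form_eV]
  · simp
  · intro k hk
    simp [hk]

theorem move_f (hL : Long M) (i : Fin m) (s : F) (x : Fin m ⊕ Fin m → F) :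
    ∃ y, Rel M x y ∧ y (Sum.inl i) = x (Sum.inl i) ∧
      y (Sum.inr i) = x (Sum.inr i) - s * x (Sum.inl i) ∧ Same i x y := by
  refine ⟨_, Rel.move (hL i).2 s x, ?_, ?_, ?_⟩
  · simp
  · simp [form_fV]; ring
  · intro k hk
    simp [hk]

/-- normalise the plane `i` to `(0, 1)` when the `e`-coordinate is nonzero -/
theorem norm01_aux (hL : Long M) (i : Fin m) (x : Fin m ⊕ Fin m → F) (hx : x (Sum.inl i) ≠ 0) :
    ∃ y, Rel M x y ∧ y (Sum.inl i) = 0 ∧ y (Sum.inr i) = 1 ∧ Same i x y := by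
  obtain ⟨y1, r1, a1, b1, s1⟩ := move_f hL i ((x (Sum.inr i) - 1) / x (Sum.inl i)) x
  obtain ⟨y2, r2, a2, b2, s2⟩ := move_e hL i (- x (Sum.inl i)) y1
  refine ⟨y2, r1.trans r2, ?_, ?_, s1.trans s2⟩
  · rw [a2, a1, b1]; field_simp; ring
  · rw [b2, b1]; field_simp; ring

theorem norm01 (hL : Long M) (i : Fin m) (x : Fin m ⊕ Fin m → F)
    (hx : x (Sum.inl i) ≠ 0 ∨ x (Sum.inr i) ≠ 0) :
    ∃ y, Rel M x y ∧ y (Sum.inl i) = 0 ∧ y (Sum.inr i) = 1 ∧ Same i x y := by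
  by_cases ha : x (Sum.inl i) ≠ 0
  · exact norm01_aux hL i x ha
  · rw [not_not] at ha
    have hb : x (Sum.inr i) ≠ 0 := by
      rcases hx with h | h
      · exact absurd ha h
      · exact h
    obtain ⟨y0, r0, a0, b0, s0⟩ := move_e hL i (x (Sum.inr i))⁻¹ x
    have ha0 : y0 (Sum.inl i) ≠ 0 := by
      rw [a0, ha, zero_add, inv_mul_cancel₀ hb]; exact one_ne_zero
    obtain ⟨y, r, a, b, s⟩ := norm01_aux hL i y0 ha0
    exact ⟨y, r0.trans r, a, b, s0.trans s⟩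

theorem norm10 (hL : Long M) (i : Fin m) (x : Fin m ⊕ Fin m → F)
    (hx : x (Sum.inl i) ≠ 0 ∨ x (Sum.inr i) ≠ 0) :
    ∃ y, Rel M x y ∧ y (Sum.inl i) = 1 ∧ y (Sum.inr i) = 0 ∧ Same i x y := by
  obtain ⟨y0, r0, a0, b0, s0⟩ := norm01 hL i x hx
  obtain ⟨y1, r1, a1, b1, s1⟩ := move_e hL i 1 y0
  obtain ⟨y2, r2, a2, b2, s2⟩ := move_f hL i 1 y1
  refine ⟨y2, (r0.trans r1).trans r2, ?_, ?_, (s0.trans s1).trans s2⟩
  · rw [a2, a1, a0, b0]; ring
  · rw [b2, b1, a1, a0, b0]; ring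

/-! ### clearing a plane with the help of the previous one -/

theorem move_ee {j k : Fin m} (hjk : j ≠ k) (hP : (eV j + eV k : Fin m ⊕ Fin m → F) ∈ Rt M) (s : F)
    (x : Fin m ⊕ Fin m → F) :
    ∃ y, Rel M x y ∧
      y (Sum.inl j) = x (Sum.inl j) + s * (x (Sum.inr j) + x (Sum.inr k)) ∧
      y (Sum.inr j) = x (Sum.inr j) ∧
      y (Sum.inl k) = x (Sum.inl k) + s * (x (Sum.inr j) + x (Sum.inr k)) ∧
      y (Sum.inr k) = x (Sum.inr k) ∧
      ∀ l : Fin m, l ≠ j → l ≠ k → y (Sum.inl l) = x (Sum.inl l) ∧ y (Sum.inr l) = x (Sum.inr l) := by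
  refine ⟨_, Rel.move hP s x, ?_, ?_, ?_, ?_, ?_⟩
  · simp [sympForm_add_right, form_eV, hjk]
  · simp
  · simp [sympForm_add_right, form_eV, hjk.symm]
  · simp
  · intro l hlj hlk
    simp [hlj, hlk]

/-- clear the plane `k` (both planes `j`, `k` nonzero) -/
theorem clear_aux (hL : Long M) {j k : Fin m} (hjk : j ≠ k)
    (hP : (eV j + eV k : Fin m ⊕ Fin m → F) ∈ Rt M) (x : Fin m ⊕ Fin m → F)
    (hj : x (Sum.inl j) ≠ 0 ∨ x (Sum.inr j) ≠ 0) (hk : x (Sum.inl k) ≠ 0 ∨ x (Sum.inr k) ≠ 0) :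
    ∃ y, Rel M x y ∧ y (Sum.inl k) = 0 ∧ y (Sum.inr k) = 0 ∧
      ∀ l : Fin m, l ≠ j → l ≠ k → y (Sum.inl l) = x (Sum.inl l) ∧ y (Sum.inr l) = x (Sum.inr l) := by
  obtain ⟨y1, r1, a1, b1, s1⟩ := norm01 hL j x hj
  have hk1 : y1 (Sum.inl k) ≠ 0 ∨ y1 (Sum.inr k) ≠ 0 := by
    rw [(s1 k hjk.symm).1, (s1 k hjk.symm).2]; exact hk
  obtain ⟨y2, r2, a2, b2, s2⟩ := norm10 hL k y1 hk1
  obtain ⟨y3, r3, aj, bj, ak, bk, s3⟩ := move_ee hjk hP (-1) y2
  refine ⟨y3, (r1.trans r2).trans r3, ?_, ?_, ?_⟩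
  · rw [ak, a2, b2, (s2 j hjk).2, b1]; ring
  · rw [bk, b2]
  · intro l hlj hlk
    rw [(s3 l hlj hlk).1, (s3 l hlj hlk).2, (s2 l hlk).1, (s2 l hlk).2, (s1 l hlj).1, (s1 l hlj).2]
    exact ⟨rfl, rfl⟩

/-- clear the plane `k` -/
theorem clear (hL : Long M) {j k : Fin m} (hjk : j ≠ k)
    (hP : (eV j + eV k : Fin m ⊕ Fin m → F) ∈ Rt M) (x : Fin m ⊕ Fin m → F) :
    ∃ y, Rel M x y ∧ y (Sum.inl k) = 0 ∧ y (Sum.inr k) = 0 ∧
      ∀ l : Fin m, l ≠ j → l ≠ k → y (Sum.inl l) = x (Sum.inl l) ∧ y (Sum.inr l) = x (Sum.inr l) := by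
  by_cases hk : x (Sum.inl k) ≠ 0 ∨ x (Sum.inr k) ≠ 0
  · by_cases hj : x (Sum.inl j) ≠ 0 ∨ x (Sum.inr j) ≠ 0
    · exact clear_aux hL hjk hP x hj hk
    · -- create something in the plane `j`
      obtain ⟨y1, r1, a1, b1, s1⟩ := norm01 hL k x hk
      obtain ⟨y2, r2, aj, bj, ak, bk, s2⟩ := move_ee hjk hP 1 y1
      have hj2 : y2 (Sum.inl j) ≠ 0 ∨ y2 (Sum.inr j) ≠ 0 := by
        left
        rw [aj, b1, (s1 j hjk).1, (s1 j hjk).2]
        rw [not_or, not_not, not_not] at hj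
        rw [hj.1, hj.2]
        simp
      have hk2 : y2 (Sum.inl k) ≠ 0 ∨ y2 (Sum.inr k) ≠ 0 := by
        right
        rw [bk, b1]; exact one_ne_zero
      obtain ⟨y3, r3, a3, b3, s3⟩ := clear_aux hL hjk hP y2 hj2 hk2
      refine ⟨y3, (r1.trans r2).trans r3, a3, b3, ?_⟩
      intro l hlj hlk
      rw [(s3 l hlj hlk).1, (s3 l hlj hlk).2, (s2 l hlj hlk).1, (s2 l hlj hlk).2,
        (s1 l hlk).1, (s1 l hlk).2]
      exact ⟨rfl, rfl⟩
  · rw [not_or, not_not, not_not] at hk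
    exact ⟨x, Rel.refl x, hk.1, hk.2, fun _ _ _ => ⟨rfl, rfl⟩⟩

/-! ### transitivity and the conclusion -/

theorem rel_e0 (hm : 0 < m) (hL : Long M)
    (hP : ∀ j k : Fin m, k.val = j.val + 1 → (eV j + eV k : Fin m ⊕ Fin m → F) ∈ Rt M) :
    ∀ n : ℕ, ∀ x : Fin m ⊕ Fin m → F, x ≠ 0 →
      (∀ l : Fin m, n < l.val → x (Sum.inl l) = 0 ∧ x (Sum.inr l) = 0) →
      Rel M x (eV ⟨0, hm⟩) := by
  intro n
  induction n with
  | zero =>
    intro x hx hsupp
    have h0 : x (Sum.inl ⟨0, hm⟩) ≠ 0 ∨ x (Sum.inr ⟨0, hm⟩) ≠ 0 := by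
      by_contra hcon
      rw [not_or, not_not, not_not] at hcon
      apply hx
      funext a
      rcases a with l | l
      · by_cases hl : l.val = 0
        · have : l = ⟨0, hm⟩ := Fin.ext hl
          rw [this]; exact hcon.1
        · exact (hsupp l (Nat.pos_of_ne_zero hl)).1
      · by_cases hl : l.val = 0
        · have : l = ⟨0, hm⟩ := Fin.ext hl
          rw [this]; exact hcon.2
        · exact (hsupp l (Nat.pos_of_ne_zero hl)).2
    obtain ⟨y, r, a, b, s⟩ := norm10 hL ⟨0, hm⟩ x h0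
    have : y = eV ⟨0, hm⟩ := by
      funext c
      rcases c with l | l
      · by_cases hl : l = ⟨0, hm⟩
        · rw [hl, a]; simp
        · rw [(s l hl).1, eV_inl, if_neg hl]
          refine (hsupp l (Nat.pos_of_ne_zero ?_)).1
          intro h; exact hl (Fin.ext h)
      · by_cases hl : l = ⟨0, hm⟩
        · rw [hl, b]; simp
        · rw [(s l hl).2, eV_inr]
          refine (hsupp l (Nat.pos_of_ne_zero ?_)).2
          intro h; exact hl (Fin.ext h)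
    rw [← this]; exact r
  | succ n ih =>
    intro x hx hsupp
    by_cases hn : n + 1 < m
    · have hn' : n < m := by omega
      have hjk : (⟨n, hn'⟩ : Fin m) ≠ ⟨n + 1, hn⟩ := by
        intro h; have := congrArg Fin.val h; simp at this
      obtain ⟨y, r, a, b, s⟩ := clear hL hjk (hP ⟨n, hn'⟩ ⟨n + 1, hn⟩ rfl) x
      refine r.trans (ih y (r.ne_zero hx) ?_)
      intro l hl
      by_cases hl1 : l.val = n + 1
      · have : l = ⟨n + 1, hn⟩ := Fin.ext hl1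
        rw [this]; exact ⟨a, b⟩
      · have h1 : l ≠ ⟨n, hn'⟩ := by
          intro h; have := congrArg Fin.val h; simp at this; omega
        have h2 : l ≠ ⟨n + 1, hn⟩ := by
          intro h; exact hl1 (congrArg Fin.val h)
        rw [(s l h1 h2).1, (s l h1 h2).2]
        exact hsupp l (by omega)
    · apply ih x hx
      intro l hl
      exfalso
      have := l.2
      omega

theorem rel_e0' (hm : 0 < m) (hL : Long M)
    (hP : ∀ j k : Fin m, k.val = j.val + 1 → (eV j + eV k : Fin m ⊕ Fin m → F) ∈ Rt M)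
    (x : Fin m ⊕ Fin m → F) (hx : x ≠ 0) : Rel M x (eV ⟨0, hm⟩) := by
  apply rel_e0 hm hL hP m x hx
  intro l hl
  exfalso
  have := l.2
  omega

/-- a subgroup containing all long root groups and the groups `X_{e_j + e_{j+1}}` is everything -/
theorem eq_top_of_long_pairs (hm : 0 < m) (hL : Long M)
    (hP : ∀ j k : Fin m, k.val = j.val + 1 → (eV j + eV k : Fin m ⊕ Fin m → F) ∈ Rt M) :
    M = ⊤ := by
  have hall : ∀ (w : Fin m ⊕ Fin m → F) (s : F), Tr w s ∈ M := by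
    intro w s
    by_cases hw : w = 0
    · rw [hw, Tr_zero_vec]; exact M.one_mem
    · obtain ⟨g, hg, e⟩ := rel_e0' hm hL hP w hw
      have h1 := conj_Tr' g⁻¹ (eV ⟨0, hm⟩ : Fin m ⊕ Fin m → F) s
      rw [ap_inv_eq e] at h1
      rw [← h1]
      exact M.mul_mem (M.mul_mem (M.inv_mem hg) ((hL ⟨0, hm⟩).1 s)) (M.inv_mem (M.inv_mem hg))
  rw [eq_top_iff, ← transvGroup_eq_top]
  unfold transvGroup
  rw [Subgroup.closure_le]
  rintro A ⟨w, c, hA⟩
  have : A = Tr w c := Subtype.ext hA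
  rw [this]
  exact hall w c

/-- the main closure criterion -/
theorem eq_top_of_cox (hm : 0 < m) (hc : cox F hm ∈ M) (i : Fin m)
    (hi : (eV i : Fin m ⊕ Fin m → F) ∈ Rt M) (j k : Fin m) (hjk : k.val = j.val + 1)
    (w : Fin m ⊕ Fin m → F) (hw : w ∈ Rt M)
    (hwj : w (Sum.inl j) ≠ 0 ∨ w (Sum.inr j) ≠ 0) (hwk : w (Sum.inl k) ≠ 0 ∨ w (Sum.inr k) ≠ 0)
    (hw0 : ∀ l : Fin m, l ≠ j → l ≠ k → w (Sum.inl l) = 0 ∧ w (Sum.inr l) = 0) :
    M = ⊤ := by
  have hL : Long M := long_of_cox hm hc i hi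
  have hne : j ≠ k := by
    intro h; rw [h] at hjk; omega
  obtain ⟨y1, r1, a1, b1, s1⟩ := norm10 hL j w hwj
  have hk1 : y1 (Sum.inl k) ≠ 0 ∨ y1 (Sum.inr k) ≠ 0 := by
    rw [(s1 k hne.symm).1, (s1 k hne.symm).2]; exact hwk
  obtain ⟨y2, r2, a2, b2, s2⟩ := norm10 hL k y1 hk1
  have hy2 : y2 = eV j + eV k := by
    funext c
    rcases c with l | l
    · by_cases hlj : l = j
      · rw [hlj, (s2 j hne).1, a1]; simp [hne]
      · by_cases hlk : l = k
        · rw [hlk, a2]; simp [hne.symm]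
        · rw [(s2 l hlk).1, (s1 l hlj).1, (hw0 l hlj hlk).1]; simp [hlj, hlk]
    · by_cases hlj : l = j
      · rw [hlj, (s2 j hne).2, b1]; simp
      · by_cases hlk : l = k
        · rw [hlk, b2]; simp
        · rw [(s2 l hlk).2, (s1 l hlj).2, (hw0 l hlj hlk).2]; simp
  have hP0 : (eV j + eV k : Fin m ⊕ Fin m → F) ∈ Rt M := by
    rw [← hy2]
    exact (r1.trans r2).mem_Rt hw
  exact eq_top_of_long_pairs hm hL (pairs_of_cox hm hc j k hjk hP0)

end Cfsg.Agent.Lib.Helper6.SpGen
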