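import Mathlib
import Cfsg.Agent.Lib.Helper25.WeilDefs

/-!
# S2347 leaf WD2: traces of Weyl operators and the dimension of the odd part
-/

set_option autoImplicit false

open Cfsg.Agent.Lib.Helper25.Weil Module

namespace Cfsg.Agent.Lib.Helper6.WeilLeaf

variable {F V : Type*} [Field F] [AddCommGroup V] [Module F V] {S : Setting F V}
variable {M : Type*} [AddCommGroup M] [Module ℂ M]

/-- WD2, first half -/
theorem trace_W (𝒲 : S.Weyl M) {v : V} (hv : v ≠ 0) : LinearMap.trace ℂ M (𝒲.W v) = 0 := by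
  obtain ⟨u, hu⟩ := S.exists_β_ne_one hv
  have h1 : ((𝒲.Wu u : (Module.End ℂ M)ˣ) : Module.End ℂ M) * 𝒲.W v *
      (((𝒲.Wu u)⁻¹ : (Module.End ℂ M)ˣ) : Module.End ℂ M) = S.β u v • 𝒲.W v := by
    change 𝒲.W u * 𝒲.W v * 𝒲.W (-u) = _
    rw [𝒲.W_comm u v, smul_mul_assoc, mul_assoc, 𝒲.W_mul_neg, mul_one]
  have h2 := LinearMap.trace_conj ℂ (𝒲.W v) (𝒲.Wu u)
  rw [h1, map_smul, smul_eq_mul] at h2
  have h3 : (S.β u v - 1) * LinearMap.trace ℂ M (𝒲.W v) = 0 := by
    rw [sub_mul, one_mul, h2, sub_self]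
  rcases mul_eq_zero.1 h3 with h | h
  · exact absurd (sub_eq_zero.1 h) hu
  · exact h

/-- WD2, second half -/
theorem finrank_minus [Fintype V] (𝒲 : S.Weyl M)
    (hN : finrank ℂ M * finrank ℂ M = Fintype.card V)
    (hEE : 𝒲.E * 𝒲.E = (Fintype.card V : ℂ) • 1)
    (htr : ∀ v : V, v ≠ 0 → LinearMap.trace ℂ M (𝒲.W v) = 0) :
    2 * finrank ℂ 𝒲.minus + 1 = finrank ℂ M := by
  classical
  set N : ℕ := finrank ℂ M with hNdef
  have hNpos : 0 < N := by
    rcases Nat.eq_zero_or_pos N with h | h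
    · exfalso
      rw [h, mul_zero] at hN
      exact (Fintype.card_ne_zero (α := V)) hN.symm
    · exact h
  have : Module.Finite ℂ M := Module.finite_of_finrank_pos hNpos
  have hNc : (N : ℂ) ≠ 0 := by exact_mod_cast hNpos.ne'
  have hEE' : 𝒲.E * 𝒲.E = ((N : ℂ) * (N : ℂ)) • (1 : Module.End ℂ M) := by
    rw [hEE, ← hN]; push_cast; rfl
  -- trace of `E`
  have htrE : LinearMap.trace ℂ M 𝒲.E = (N : ℂ) := by
    unfold Setting.Weyl.E
    rw [map_sum, Finset.sum_eq_single (0 : V)]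
    · rw [𝒲.W_zero, LinearMap.trace_one ℂ M]
    · intro v _ hv; exact htr v hv
    · intro h; exact absurd (Finset.mem_univ _) h
  -- the projection onto the odd part
  set P : Module.End ℂ M := (2 * (N : ℂ))⁻¹ • ((N : ℂ) • (1 : Module.End ℂ M) - 𝒲.E) with hP
  have h2N : (2 * (N : ℂ)) ≠ 0 := mul_ne_zero two_ne_zero hNc
  have hproj : LinearMap.IsProj 𝒲.minus P := by
    constructor
    · intro x
      rw [𝒲.mem_minus, ← hNdef]
      have h1 : (𝒲.E + (N : ℂ) • (1 : Module.End ℂ M)) * ((N : ℂ) • (1 : Module.End ℂ M) - 𝒲.E)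
          = 0 := by
        rw [add_mul, mul_sub, mul_sub, hEE', smul_mul_smul_comm, mul_one, smul_mul_assoc, one_mul,
          mul_smul_comm, mul_one]
        abel
      have h1' : (𝒲.E + (N : ℂ) • (1 : Module.End ℂ M)) * P = 0 := by
        rw [hP, mul_smul_comm, h1, smul_zero]
      have h2 : (𝒲.E + (N : ℂ) • (1 : Module.End ℂ M)) (P x) = 0 := by
        rw [← Module.End.mul_apply, h1', LinearMap.zero_apply]
      generalize P x = y at h2 ⊢
      rw [LinearMap.add_apply, LinearMap.smul_apply, Module.End.one_apply] at h2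
      exact h2
    · intro x hx
      have hE : 𝒲.E x = -((N : ℂ) • x) :=
        eq_neg_of_add_eq_zero_left ((𝒲.mem_minus x).1 hx)
      rw [hP, LinearMap.smul_apply, LinearMap.sub_apply, LinearMap.smul_apply,
        Module.End.one_apply, hE, sub_neg_eq_add, ← add_smul, smul_smul, ← two_mul,
        inv_mul_cancel₀ h2N, one_smul]
  have htrP : LinearMap.trace ℂ M P = (finrank ℂ 𝒲.minus : ℂ) := hproj.trace
  have htrP' : LinearMap.trace ℂ M P = (2 * (N : ℂ))⁻¹ * ((N : ℂ) * (N : ℂ) - (N : ℂ)) := by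
    rw [hP, map_smul, map_sub, map_smul, LinearMap.trace_one ℂ M, htrE, smul_eq_mul, smul_eq_mul]
  have hfin : (2 : ℂ) * (finrank ℂ 𝒲.minus : ℂ) + 1 = (N : ℂ) := by
    rw [← htrP, htrP']
    field_simp
    ring
  exact_mod_cast hfin

end Cfsg.Agent.Lib.Helper6.WeilLeaf
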