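import Mathlib
import Cfsg.Agent.Lib.Helper25.WeilDefs

/-!
# S2347 leaf WE: the odd part of a Weil representation is irreducible (Maschke averaging)
-/

set_option autoImplicit false

open Cfsg.Agent.Lib.Helper25.Weil Module

namespace Cfsg.Agent.Lib.Helper6.WeilLeaf

variable {F V : Type*} [Field F] [AddCommGroup V] [Module F V] {S : Setting F V}
variable {M : Type*} [AddCommGroup M] [Module ℂ M]

/-- averaging a projection over a finite group: an invariant subspace is the range of an
equivariant endomorphism which is the identity on it. -/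
theorem exists_equivariant_projection {G : Type*} [Group G] [Finite G]
    (ω : G →* (Module.End ℂ M)ˣ) (U : Submodule ℂ M)
    (hinv : ∀ g, ∀ x ∈ U, (ω g : Module.End ℂ M) x ∈ U) :
    ∃ π : Module.End ℂ M, (∀ x, π x ∈ U) ∧ (∀ x ∈ U, π x = x) ∧
      ∀ g, π * (ω g : Module.End ℂ M) = (ω g : Module.End ℂ M) * π := by
  classical
  let _ : Fintype G := Fintype.ofFinite G
  obtain ⟨U', hU'⟩ := Submodule.exists_isCompl U
  set π0 : Module.End ℂ M := U.subtype ∘ₗ Submodule.projectionOnto U U' hU' with hπ0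
  have hπ0mem : ∀ x, π0 x ∈ U := fun x => by
    rw [hπ0]; exact (Submodule.projectionOnto U U' hU' x).2
  have hπ0id : ∀ x ∈ U, π0 x = x := fun x hx => by
    rw [hπ0, LinearMap.comp_apply]
    have := Submodule.projectionOnto_apply_left hU' ⟨x, hx⟩
    change ((Submodule.projectionOnto U U' hU' x : U) : M) = x
    rw [show x = ((⟨x, hx⟩ : U) : M) from rfl, this]
  set Sg : Module.End ℂ M := ∑ g : G, (ω g : Module.End ℂ M) * π0 * (ω g⁻¹ : Module.End ℂ M)
    with hSg
  have hcardne : (Fintype.card G : ℂ) ≠ 0 := by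
    exact_mod_cast Fintype.card_ne_zero
  have hωmul : ∀ g h : G, (ω (g * h) : Module.End ℂ M) = (ω g : Module.End ℂ M) * ω h := by
    intro g h; rw [map_mul, Units.val_mul]
  have hωinv : ∀ g : G, (ω g⁻¹ : Module.End ℂ M) * (ω g : Module.End ℂ M) = 1 := by
    intro g; rw [← hωmul, inv_mul_cancel, map_one, Units.val_one]
  have hωinv' : ∀ g : G, (ω g : Module.End ℂ M) * (ω g⁻¹ : Module.End ℂ M) = 1 := by
    intro g; rw [← hωmul, mul_inv_cancel, map_one, Units.val_one]
  refine ⟨(Fintype.card G : ℂ)⁻¹ • Sg, ?_, ?_, ?_⟩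
  · intro x
    rw [LinearMap.smul_apply, hSg, LinearMap.sum_apply]
    refine U.smul_mem _ (U.sum_mem fun g _ => ?_)
    rw [Module.End.mul_apply, Module.End.mul_apply]
    exact hinv g _ (hπ0mem _)
  · intro x hx
    rw [LinearMap.smul_apply, hSg, LinearMap.sum_apply]
    have : ∀ g ∈ (Finset.univ : Finset G),
        ((ω g : Module.End ℂ M) * π0 * (ω g⁻¹ : Module.End ℂ M)) x = x := by
      intro g _
      rw [Module.End.mul_apply, Module.End.mul_apply, hπ0id _ (hinv g⁻¹ x hx),
        ← Module.End.mul_apply, hωinv', Module.End.one_apply]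
    rw [Finset.sum_congr rfl this, Finset.sum_const, Finset.card_univ, ← Nat.cast_smul_eq_nsmul ℂ,
      smul_smul, inv_mul_cancel₀ hcardne, one_smul]
  · intro h
    have hconj : (ω h : Module.End ℂ M) * Sg * (ω h⁻¹ : Module.End ℂ M) = Sg := by
      rw [hSg, Finset.mul_sum, Finset.sum_mul]
      rw [← Equiv.sum_comp (Equiv.mulLeft h)
        (fun g => (ω g : Module.End ℂ M) * π0 * (ω g⁻¹ : Module.End ℂ M))]
      refine Finset.sum_congr rfl fun g _ => ?_
      rw [Equiv.coe_mulLeft, hωmul, mul_inv_rev, hωmul]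
      simp only [mul_assoc]
    have h2 : (ω h : Module.End ℂ M) * Sg = Sg * (ω h : Module.End ℂ M) := by
      calc (ω h : Module.End ℂ M) * Sg
          = (ω h : Module.End ℂ M) * Sg * ((ω h⁻¹ : Module.End ℂ M) * (ω h : Module.End ℂ M)) := by
            rw [hωinv, mul_one]
        _ = ((ω h : Module.End ℂ M) * Sg * (ω h⁻¹ : Module.End ℂ M)) * (ω h : Module.End ℂ M) := by
            simp only [mul_assoc]
        _ = Sg * (ω h : Module.End ℂ M) := by rw [hconj]
    rw [smul_mul_assoc, mul_smul_comm, h2]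

/-- WE -/
theorem minus_irreducible [Fintype V] [FiniteDimensional ℂ M] (𝒲 : S.Weyl M)
    {G : Type*} [Group G] [Finite G]
    (ω : G →* (Module.End ℂ M)ˣ)
    (hcomm : ∀ T : Module.End ℂ M, (∀ g, T * (ω g : Module.End ℂ M) = (ω g : Module.End ℂ M) * T) →
      ∃ a b : ℂ, T = a • 1 + b • 𝒲.E)
    (U : Submodule ℂ M) (hU : U ≤ 𝒲.minus)
    (hinv : ∀ g, ∀ x ∈ U, (ω g : Module.End ℂ M) x ∈ U) : U = ⊥ ∨ U = 𝒲.minus := by
  classical
  by_cases hbot : U = ⊥
  · exact Or.inl hbot
  right
  obtain ⟨π, hπU, hπid, hπc⟩ := exists_equivariant_projection ω U hinv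
  obtain ⟨a, b, hab⟩ := hcomm π hπc
  -- on the odd part `π` is the scalar `a - b N`
  have hscal : ∀ x ∈ 𝒲.minus, π x = (a - b * (finrank ℂ M : ℂ)) • x := by
    intro x hx
    have hE : 𝒲.E x = -((finrank ℂ M : ℂ) • x) := by
      have := (𝒲.mem_minus x).1 hx
      exact eq_neg_of_add_eq_zero_left this
    rw [hab, LinearMap.add_apply, LinearMap.smul_apply, LinearMap.smul_apply, Module.End.one_apply,
      hE, smul_neg, smul_smul, sub_smul, sub_eq_add_neg]
  obtain ⟨x, hxU, hx0⟩ := (Submodule.ne_bot_iff U).1 hbot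
  have hone : a - b * (finrank ℂ M : ℂ) = 1 := by
    have h1 := hscal x (hU hxU)
    rw [hπid x hxU] at h1
    have h2 : ((a - b * (finrank ℂ M : ℂ)) - 1) • x = 0 := by
      rw [sub_smul, one_smul, ← h1, sub_self]
    rcases smul_eq_zero.1 h2 with h | h
    · exact sub_eq_zero.1 h
    · exact absurd h hx0
  apply le_antisymm hU
  intro y hy
  have := hπU y
  rw [hscal y hy, hone, one_smul] at this
  exact this

end Cfsg.Agent.Lib.Helper6.WeilLeaf
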