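/-
helper6: the Steinberg character of a Chevalley group (types G₂, B₂, D₄, F₄, E₆, E₇, E₈) is the
abstract Steinberg function of its (B,N)-pair (helper7's `chevBNPair`); irreducibility.
-/
import Mathlib
import Cfsg.Prelude.Def_ParabolicCharacters
import Cfsg.Agent.Lib.Helper6.BNStB
import Cfsg.Agent.Lib.Helper7.ChevBN

set_option autoImplicit false
set_option linter.unusedSectionVars false

namespace Cfsg.Agent.Lib.Helper6.ChevSt

open Cfsg Cfsg.Lie Matrix Cfsg.Agent.Lib.Helper7 Cfsg.Agent.Lib.Helper6.BNSt
open Cfsg.Agent.Lib.Helper3.BN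

section
variable (D : ChevalleyDatum) (hD : D ∈ [chevG2, chevB2, chevD4, chevF4, chevE6, chevE7, chevE8])
variable (F : Type*) [Field F]
include hD

/-- the fundamental reflection `n_i` as an element of the group (`1` for `i` out of range) -/
noncomputable def sEl (i : ℕ) : ↥(D.group F) :=
  if h : i < D.rank then ⟨nFund D hD F i, monomial_le_group D hD F (nFund_mem_monomial D hD F i h)⟩
  else 1

theorem sEl_coe (i : ℕ) (hi : i < D.rank) : (sEl D hD F i : GL D.Idx F) = nFund D hD F i := by
  unfold sEl; rw [dif_pos hi]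

theorem coe_nFund' (i : ℕ) :
    ((nFund D hD F i : GL D.Idx F) : Matrix D.Idx D.Idx F) = D.nMat F (D.simple i) 1 := by
  unfold nFund
  rw [coe_wordGL]; rfl

theorem sEl_mem_S (i : ℕ) (hi : i < D.rank) : sEl D hD F i ∈ (chevBNPair D hD F).S := by
  refine ⟨i, hi, ?_⟩
  rw [sEl_coe D hD F i hi, coe_nFund']

theorem sEl_injOn : Set.InjOn (sEl D hD F) (Finset.range D.rank : Set ℕ) := by
  intro i hi j hj h
  have hi' : i < D.rank := Finset.mem_range.mp hi
  have hj' : j < D.rank := Finset.mem_range.mp hj
  apply nFund_inj D hD F i j hi' hj'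
  have : nFund D hD F i = nFund D hD F j := by
    rw [← sEl_coe D hD F i hi', ← sEl_coe D hD F j hj', h]
  rw [this, inv_mul_cancel]
  exact Subgroup.one_mem _

/-- the finite set of distinguished generators -/
noncomputable def SfinChev [DecidableEq ↥(D.group F)] : Finset ↥(D.group F) :=
  (Finset.range D.rank).image (sEl D hD F)

theorem coe_SfinChev [DecidableEq ↥(D.group F)] :
    ((SfinChev D hD F : Finset ↥(D.group F)) : Set ↥(D.group F)) = (chevBNPair D hD F).S := by
  ext s
  unfold SfinChev
  rw [Finset.coe_image]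
  constructor
  · rintro ⟨i, hi, rfl⟩
    exact sEl_mem_S D hD F i (Finset.mem_range.mp hi)
  · intro hs
    have hsf : s ∈ fundSet D F := hs
    obtain ⟨i, hi, hsm⟩ := hsf
    refine ⟨i, Finset.mem_coe.mpr (Finset.mem_range.mpr hi), ?_⟩
    apply Subtype.ext
    rw [sEl_coe D hD F i hi, coe_eq_nFund_of_mem_fundSet D hD F s i hsm]

/-- the parabolic subgroups of the datum are those of the (B,N)-pair -/
theorem parabolicIn_eq [DecidableEq ↥(D.group F)] (J : Finset ℕ) (hJ : J ⊆ Finset.range D.rank) :
    D.parabolicIn F J =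
      (chevBNPair D hD F).parabolic ((J.image (sEl D hD F) : Finset ↥(D.group F)) : Set ↥(D.group F)) := by
  have hinj : Function.Injective (D.group F).subtype := Subgroup.subtype_injective _
  have hmap : ((chevBNPair D hD F).parabolic
      ((J.image (sEl D hD F) : Finset ↥(D.group F)) : Set ↥(D.group F))).map (D.group F).subtype =
      D.parabolicSubgroup F (J : Set ℕ) := by
    unfold BNPair.parabolic ChevalleyDatum.parabolicSubgroup
    rw [Subgroup.map_sup, MonoidHom.map_closure, chevBNPair_B, Subgroup.subgroupOf_map_subtype,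
      inf_eq_left.mpr (borel_le_group D hD F)]
    congr 2
    ext g
    rw [Finset.coe_image]
    constructor
    · rintro ⟨_, ⟨j, hj, rfl⟩, rfl⟩
      have hj' : j < D.rank := Finset.mem_range.mp (hJ hj)
      refine ⟨j, hj, hj', ?_⟩
      show ((sEl D hD F j : GL D.Idx F) : Matrix D.Idx D.Idx F) = _
      rw [sEl_coe D hD F j hj', coe_nFund']
    · rintro ⟨j, hj, hj', hg⟩
      refine ⟨sEl D hD F j, ⟨j, hj, rfl⟩, ?_⟩
      show (sEl D hD F j : GL D.Idx F) = g
      rw [sEl_coe D hD F j hj']
      apply Units.ext
      rw [coe_nFund', hg]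
  unfold ChevalleyDatum.parabolicIn
  rw [← hmap]
  exact Subgroup.comap_map_eq_self_of_injective hinj _

/-- the Steinberg character of the datum is the Steinberg function of the (B,N)-pair -/
theorem steinbergCharacter_eq_stFun [DecidableEq ↥(D.group F)] :
    D.steinbergCharacter F = stFun (chevBNPair D hD F) (SfinChev D hD F) := by
  funext g
  unfold ChevalleyDatum.steinbergCharacter stFun SfinChev
  symm
  apply Finset.sum_bij (fun (J' : Finset ↥(D.group F)) _ =>
    (Finset.range D.rank).filter (fun i => sEl D hD F i ∈ J'))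
  · intro J' _
    rw [Finset.mem_powerset]
    exact Finset.filter_subset _ _
  · intro J₁ h₁ J₂ h₂ h
    rw [Finset.mem_powerset] at h₁ h₂
    ext s
    constructor
    · intro hs
      obtain ⟨i, hi, rfl⟩ := Finset.mem_image.mp (h₁ hs)
      have : i ∈ (Finset.range D.rank).filter (fun i => sEl D hD F i ∈ J₁) :=
        Finset.mem_filter.mpr ⟨hi, hs⟩
      rw [h] at this
      exact (Finset.mem_filter.mp this).2
    · intro hs
      obtain ⟨i, hi, rfl⟩ := Finset.mem_image.mp (h₂ hs)
      have : i ∈ (Finset.range D.rank).filter (fun i => sEl D hD F i ∈ J₂) :=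
        Finset.mem_filter.mpr ⟨hi, hs⟩
      rw [← h] at this
      exact (Finset.mem_filter.mp this).2
  · intro J hJ
    rw [Finset.mem_powerset] at hJ
    refine ⟨J.image (sEl D hD F), ?_, ?_⟩
    · rw [Finset.mem_powerset]
      exact Finset.image_subset_image hJ
    · ext i
      rw [Finset.mem_filter]
      constructor
      · rintro ⟨hi, him⟩
        obtain ⟨j, hj, hji⟩ := Finset.mem_image.mp him
        have := sEl_injOn D hD F (Finset.mem_coe.mpr (hJ hj)) (Finset.mem_coe.mpr hi) hji
        rw [← this]; exact hj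
      · intro hi
        exact ⟨hJ hi, Finset.mem_image_of_mem _ hi⟩
  · intro J' hJ'
    rw [Finset.mem_powerset] at hJ'
    have hJeq : J' = ((Finset.range D.rank).filter (fun i => sEl D hD F i ∈ J')).image (sEl D hD F) := by
      ext s
      constructor
      · intro hs
        obtain ⟨i, hi, rfl⟩ := Finset.mem_image.mp (hJ' hs)
        exact Finset.mem_image_of_mem _ (Finset.mem_filter.mpr ⟨hi, hs⟩)
      · intro hs
        obtain ⟨i, hi, rfl⟩ := Finset.mem_image.mp hs
        exact (Finset.mem_filter.mp hi).2
    have hcard : J'.card = ((Finset.range D.rank).filter (fun i => sEl D hD F i ∈ J')).card := by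
      conv_lhs => rw [hJeq]
      apply Finset.card_image_of_injOn
      intro i hi j hj h
      exact sEl_injOn D hD F (Finset.mem_coe.mpr (Finset.mem_filter.mp hi).1)
        (Finset.mem_coe.mpr (Finset.mem_filter.mp hj).1) h
    rw [parabolicIn_eq D hD F _ (Finset.filter_subset _ _), ← hJeq, hcard]

omit hD in
theorem finite_group [Fintype F] : Finite ↥(D.group F) := by
  have hfin : Finite (GL D.Idx F) := by
    have : Finite (Matrix D.Idx D.Idx F) := inferInstance
    exact Finite.of_injective (fun g : GL D.Idx F => (g : Matrix D.Idx D.Idx F)) Units.val_injective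
  infer_instance

/-- the Steinberg character of a Chevalley group is irreducible -/
theorem isIrrCharacter_steinberg [Fintype F] :
    IsIrrCharacter ↥(D.group F) (D.steinbergCharacter F) := by
  classical
  have := finite_group D F
  have : Fintype ↥(D.group F) := Fintype.ofFinite _
  rw [steinbergCharacter_eq_stFun D hD F]
  exact isIrrCharacter_stFun _ _ (coe_SfinChev D hD F)

end

end Cfsg.Agent.Lib.Helper6.ChevSt
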