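/-
helper6: Chevalley groups (types G₂, B₂, D₄, F₄, E₆, E₇, E₈): helper7's longest word represents the
longest element of the Weyl group of the (B,N)-pair, `B ∩ n₀ B n₀⁻¹ = H`, the restriction of the
Steinberg character to `B`, and its degree.
-/
import Mathlib
import Cfsg.Agent.Lib.Helper6.ChevStA
import Cfsg.Agent.Lib.Helper7.ChevCore
import Cfsg.Agent.Lib.Helper7.ChevCanon
import Cfsg.Agent.Lib.Helper7.ChevPar
import Cfsg.Agent.Lib.Helper7.ChevOrder0

set_option autoImplicit false
set_option linter.unusedSectionVars false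

namespace Cfsg.Agent.Lib.Helper6.BNSt

open Cfsg Cfsg.Agent.Lib.Helper3.BN Cfsg.Agent.Lib.Helper3.WordLen Cfsg.Agent.Lib.Helper6.CoxRed

variable {G : Type*} [Group G] (P : Cfsg.BNPair G)

local notation "ℓ" => len (Sbar P)

theorem BStab_eq_of_mkW_eq {n n' : G} (hn : n ∈ P.N) (hn' : n' ∈ P.N)
    (h : mkW P n hn = mkW P n' hn') : BStab P n = BStab P n' := by
  rw [mkW_eq_iff] at h
  ext b
  rw [mem_BStab, mem_BStab]
  constructor
  · intro hb
    have e : n'⁻¹ * (b : G) * n' = (n⁻¹ * n')⁻¹ * (n⁻¹ * (b : G) * n) * (n⁻¹ * n') := by group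
    rw [e]
    exact P.B.mul_mem (P.B.mul_mem (P.B.inv_mem h) hb) h
  · intro hb
    have e : n⁻¹ * (b : G) * n = (n⁻¹ * n') * (n'⁻¹ * (b : G) * n') * (n⁻¹ * n')⁻¹ := by group
    rw [e]
    exact P.B.mul_mem (P.B.mul_mem h hb) (P.B.inv_mem h)

/-- a criterion for representing the longest element -/
theorem eq_w0_of_forall_exists [Finite G] {n : G} (hn : n ∈ P.N)
    (h : ∀ s, s ∈ P.S → ∃ g ∈ C P (mkW P n hn), s * g ∈ C P (mkW P n hn)) :
    mkW P n hn = w0 P := by
  apply eq_w0_of_left
  rintro _ ⟨s, hs, rfl⟩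
  by_contra hcon
  have hle : ℓ (mkW P n hn) ≤ ℓ (sb P s hs * mkW P n hn) := not_lt.mp hcon
  obtain ⟨g, hg, hsg⟩ := h s hs
  have h1 := A_lemma P hs hle hg
  have h2 := eq_of_common P h1 hsg
  exact sb_ne_one P hs (mul_eq_right.mp h2)

end Cfsg.Agent.Lib.Helper6.BNSt

namespace Cfsg.Agent.Lib.Helper6.ChevSt

open Cfsg Cfsg.Lie Matrix Cfsg.Agent.Lib.Helper7 Cfsg.Agent.Lib.Helper6.BNSt
open Cfsg.Agent.Lib.Helper3.BN

section
variable (D : ChevalleyDatum) (hD : D ∈ [chevG2, chevB2, chevD4, chevF4, chevE6, chevE7, chevE8])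
variable (F : Type*) [Field F]
include hD

/-- helper7's longest word as an element of the group -/
noncomputable def nLong (w : List ℕ) : ↥(D.group F) := ⟨nLongGL D hD F w, nLongGL_mem_group D hD F w⟩

theorem nLong_mem_N (w : List ℕ) (hL : LongFacts D w) : nLong D hD F w ∈ (chevBNPair D hD F).N := by
  rw [chevBNPair_N, Subgroup.mem_subgroupOf]
  exact nLongGL_mem_monomial D hD F w hL.lt

/-- the longest word represents the longest element of the Weyl group -/
theorem mkW_nLong [Fintype F] (w : List ℕ) (hL : LongFacts D w) :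
    mkW (chevBNPair D hD F) (nLong D hD F w) (nLong_mem_N D hD F w hL) = w0 (chevBNPair D hD F) := by
  have := finite_group D F
  apply eq_w0_of_forall_exists
  intro s hs
  have hsf : s ∈ fundSet D F := hs
  obtain ⟨i, hi, hsm⟩ := hsf
  have hsn : (s : GL D.Idx F) = nFund D hD F i := coe_eq_nFund_of_mem_fundSet D hD F s i hsm
  have hpos : D.IsPosRoot (D.simple i) := (parFacts_of_mem D hD).simplePos i hi
  have hneg : D.IsNegRoot (D.neg (D.simple i)) := posNegOK_of_mem D hD (D.simple i) hpos.1 hpos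
  -- the elements of `B`
  have hb1 : xGL D hD F (D.simple i) (-1) ∈ D.borelSubgroup F :=
    xGL_pos_mem_borel D hD F _ hpos _
  have hb2 : xGL D hD F (D.simple i) 1 ∈ D.borelSubgroup F :=
    xGL_pos_mem_borel D hD F _ hpos _
  -- `x_{-α}(-1) = n₀ u n₀⁻¹` with `u ∈ U`
  have hxV : xGL D hD F (D.neg (D.simple i)) (-1) ∈ D.negUnipotent F := by
    apply Subgroup.subset_closure
    exact ⟨_, _, hneg, coe_xGL D hD F _ _⟩
  rw [← conj_posUnipotent_eq D hD F w hL] at hxV
  obtain ⟨u, hu, hux⟩ := hxV
  have hux' : nLongGL D hD F w * u * (nLongGL D hD F w)⁻¹ = xGL D hD F (D.neg (D.simple i)) (-1) := hux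
  have huB : u ∈ D.borelSubgroup F := posUnipotent_le_borel D hD F hu
  set b : ↥(D.group F) := ⟨xGL D hD F (D.simple i) (-1), xGL_mem_group D hD F _ _⟩ with hb
  have hbB : b ∈ (chevBNPair D hD F).B := by
    rw [chevBNPair_B, Subgroup.mem_subgroupOf]; exact hb1
  refine ⟨b * nLong D hD F w, C_mul_left _ (self_mem_C _ (nLong_mem_N D hD F w hL)) hbB, ?_⟩
  rw [C_mk, mem_dc]
  refine ⟨⟨xGL D hD F (D.simple i) 1, xGL_mem_group D hD F _ _⟩, ?_,
    ⟨u, borel_le_group D hD F huB⟩, ?_, ?_⟩
  · rw [chevBNPair_B, Subgroup.mem_subgroupOf]; exact hb2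
  · rw [chevBNPair_B, Subgroup.mem_subgroupOf]; exact huB
  · apply Subtype.ext
    show (s : GL D.Idx F) * (xGL D hD F (D.simple i) (-1) * nLongGL D hD F w) =
      xGL D hD F (D.simple i) 1 * nLongGL D hD F w * u
    rw [hsn]
    unfold nFund
    rw [nGL_eq, inv_one]
    have h1 : xGL D hD F (D.simple i) 1 * xGL D hD F (D.simple i) (-1) = 1 := by
      rw [xGL_mul, add_neg_cancel, xGL_zero]
    have h2 : nLongGL D hD F w * u = xGL D hD F (D.neg (D.simple i)) (-1) * nLongGL D hD F w := by
      rw [← hux']; group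
    calc xGL D hD F (D.simple i) 1 * xGL D hD F (D.neg (D.simple i)) (-1) * xGL D hD F (D.simple i) 1 *
          (xGL D hD F (D.simple i) (-1) * nLongGL D hD F w)
        = xGL D hD F (D.simple i) 1 * xGL D hD F (D.neg (D.simple i)) (-1) *
            (xGL D hD F (D.simple i) 1 * xGL D hD F (D.simple i) (-1)) * nLongGL D hD F w := by group
      _ = xGL D hD F (D.simple i) 1 * (xGL D hD F (D.neg (D.simple i)) (-1) * nLongGL D hD F w) := by
          rw [h1]; group
      _ = xGL D hD F (D.simple i) 1 * nLongGL D hD F w * u := by rw [← h2]; group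

/-- `B ∩ n₀ B n₀⁻¹ = H`, as subgroups of `B` -/
theorem BStab_w0 [Fintype F] :
    BStab (chevBNPair D hD F) (repW (chevBNPair D hD F) (w0 (chevBNPair D hD F))) =
      ((D.diagonalSubgroup F).subgroupOf (D.group F)).subgroupOf
        ((D.borelSubgroup F).subgroupOf (D.group F)) := by
  have := finite_group D F
  obtain ⟨w, hL⟩ := exists_longFacts_of_mem D hD
  have h1 := BStab_eq_of_mkW_eq (chevBNPair D hD F) (repW_mem _ (w0 (chevBNPair D hD F)))
    (nLong_mem_N D hD F w hL) (by rw [mkW_repW, mkW_nLong D hD F w hL])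
  rw [h1]
  ext b
  rw [mem_BStab]
  have hbB : ((b : ↥(D.group F)) : GL D.Idx F) ∈ D.borelSubgroup F := b.2
  have hnN : nLongGL D hD F w ∈ Subgroup.normalizer (D.diagonalSubgroup F : Set (GL D.Idx F)) :=
    monomialSubgroup_le_normalizer_diagonal D hD F (nLongGL_mem_monomial D hD F w hL.lt)
  show (nLongGL D hD F w)⁻¹ * ((b : ↥(D.group F)) : GL D.Idx F) * nLongGL D hD F w ∈ D.borelSubgroup F ↔
    ((b : ↥(D.group F)) : GL D.Idx F) ∈ D.diagonalSubgroup F
  constructor
  · intro h
    have h2 : ((b : ↥(D.group F)) : GL D.Idx F) ∈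
        (D.borelSubgroup F).map (MulAut.conj (nLongGL D hD F w)).toMonoidHom := by
      refine ⟨_, h, ?_⟩
      show nLongGL D hD F w * ((nLongGL D hD F w)⁻¹ * ((b : ↥(D.group F)) : GL D.Idx F) *
        nLongGL D hD F w) * (nLongGL D hD F w)⁻¹ = _
      group
    rw [conj_borel_eq D hD F w hL] at h2
    have h3 : ((b : ↥(D.group F)) : GL D.Idx F) ∈
        D.borelSubgroup F ⊓ (D.negUnipotent F ⊔ D.diagonalSubgroup F) := ⟨hbB, h2⟩
    rwa [borel_inf_negBorel D hD F] at h3
  · intro h
    apply diagonal_le_borel D hD F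
    have hinv := Subgroup.inv_mem _ hnN
    rw [Subgroup.mem_set_normalizer_iff] at hinv
    have := (hinv _).mp h
    rwa [inv_inv] at this

/-- the restriction of the Steinberg character to `B` is the permutation character on `B/H` -/
theorem steinberg_apply_borel [Fintype F]
    (b : ↥((D.borelSubgroup F).subgroupOf (D.group F))) :
    D.steinbergCharacter F (((D.borelSubgroup F).subgroupOf (D.group F)).subtype b) =
      Cfsg.fixedPointCharacter (((D.diagonalSubgroup F).subgroupOf (D.group F)).subgroupOf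
        ((D.borelSubgroup F).subgroupOf (D.group F))) b := by
  classical
  have := finite_group D F
  rw [steinbergCharacter_eq_stFun D hD F]
  have h := stFun_apply_B (chevBNPair D hD F) (SfinChev D hD F) (coe_SfinChev D hD F) b
  rw [BStab_w0 D hD F] at h
  exact h

/-- the degree of the Steinberg character -/
theorem steinberg_one [Fintype F] :
    D.steinbergCharacter F 1 = (Fintype.card F : ℂ) ^ (D.nroots / 2) := by
  classical
  have := finite_group D F
  rw [steinbergCharacter_eq_stFun D hD F,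
    stFun_one (chevBNPair D hD F) (SfinChev D hD F) (coe_SfinChev D hD F), BStab_w0 D hD F]
  have hHB : D.diagonalSubgroup F ≤ D.borelSubgroup F := diagonal_le_borel D hD F
  have hBG : D.borelSubgroup F ≤ D.group F := borel_le_group D hD F
  have hHG : D.diagonalSubgroup F ≤ D.group F := le_trans hHB hBG
  have hle : (D.diagonalSubgroup F).subgroupOf (D.group F) ≤
      (D.borelSubgroup F).subgroupOf (D.group F) := by
    intro x hx
    rw [Subgroup.mem_subgroupOf] at hx ⊢
    exact hHB hx
  have h1 := Subgroup.card_eq_card_quotient_mul_card_subgroup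
    (((D.diagonalSubgroup F).subgroupOf (D.group F)).subgroupOf
      ((D.borelSubgroup F).subgroupOf (D.group F)))
  have h2 : Nat.card ↥((D.borelSubgroup F).subgroupOf (D.group F)) = Nat.card (D.borelSubgroup F) :=
    Nat.card_congr (Subgroup.subgroupOfEquivOfLe hBG).toEquiv
  have h3 : Nat.card ↥(((D.diagonalSubgroup F).subgroupOf (D.group F)).subgroupOf
      ((D.borelSubgroup F).subgroupOf (D.group F))) = Nat.card (D.diagonalSubgroup F) := by
    rw [Nat.card_congr (Subgroup.subgroupOfEquivOfLe hle).toEquiv,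
      Nat.card_congr (Subgroup.subgroupOfEquivOfLe hHG).toEquiv]
  rw [h2, h3, card_borel D hD F, card_posUnipotent D hD F] at h1
  have hHpos : 0 < Nat.card (D.diagonalSubgroup F) := by
    have : Finite (D.diagonalSubgroup F) := by
      have hfin : Finite (GL D.Idx F) := by
        have : Finite (Matrix D.Idx D.Idx F) := inferInstance
        exact Finite.of_injective (fun g : GL D.Idx F => (g : Matrix D.Idx D.Idx F))
          Units.val_injective
      infer_instance
    exact Nat.card_pos
  have h4 : Nat.card (↥((D.borelSubgroup F).subgroupOf (D.group F)) ⧸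
      (((D.diagonalSubgroup F).subgroupOf (D.group F)).subgroupOf
        ((D.borelSubgroup F).subgroupOf (D.group F)))) = Fintype.card F ^ (D.nroots / 2) := by
    have : Nat.card (D.diagonalSubgroup F) * Fintype.card F ^ (D.nroots / 2) =
        Nat.card (D.diagonalSubgroup F) * Nat.card (↥((D.borelSubgroup F).subgroupOf (D.group F)) ⧸
      (((D.diagonalSubgroup F).subgroupOf (D.group F)).subgroupOf
        ((D.borelSubgroup F).subgroupOf (D.group F)))) := by
      rw [h1]; ring
    exact (Nat.eq_of_mul_eq_mul_left hHpos this).symm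
  have h6 : ((Nat.card (↥((D.borelSubgroup F).subgroupOf (D.group F)) ⧸
      (((D.diagonalSubgroup F).subgroupOf (D.group F)).subgroupOf
        ((D.borelSubgroup F).subgroupOf (D.group F)))) : ℕ) : ℂ) =
      (Fintype.card F : ℂ) ^ (D.nroots / 2) := by
    rw [h4]; push_cast; rfl
  exact h6

end

end Cfsg.Agent.Lib.Helper6.ChevSt
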