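import Mathlib
import Cfsg.Agent.Lib.Helper6.ChevStB
import Cfsg.Agent.Lib.Helper7.ChevSylow
import Cfsg.Agent.Lib.Helper7.ChevBV
import Cfsg.Agent.Lib.Helper7.ChevMono
import Cfsg.Agent.Lib.Helper7.ChevH

/-!
helper6, for S2314 (helper27's Steinberg count; split X1 of helper7's msg 5363): the GLOBAL hypotheses of
`Cfsg.Agent.Lib.Helper27.StCount.rel_sum` / `sum_stFun_pEl` for the (B,N)-pair `P := chevBNPair D hD F` of a finite
Chevalley group of type G₂, B₂, D₄, F₄, E₆, E₇, E₈ and `Uc := (D.posUnipotent F).subgroupOf (D.group F)`: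
`hUB`, `hUn`, `hUp`, `hUidx`, `hBUH`, `hUH` and `Nat.card Uc = q ^ (D.nroots / 2)`, in the binder shapes of `rel_sum`.
-/

set_option autoImplicit false
set_option linter.unusedSectionVars false

namespace Cfsg.Agent.Lib.Helper6.ChevStX1

open Cfsg Cfsg.Lie Matrix Cfsg.Agent.Lib.Helper7
open Cfsg.Agent.Lib.Helper3.BN
open scoped Pointwise

section
variable (D : ChevalleyDatum) (hD : D ∈ [chevG2, chevB2, chevD4, chevF4, chevE6, chevE7, chevE8])
variable (F : Type*) [Field F]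
include hD

/-- `Uc`: the positive unipotent subgroup, inside `D.group F` -/
abbrev Uc : Subgroup ↥(D.group F) := (D.posUnipotent F).subgroupOf (D.group F)

theorem posUnipotent_le_group : D.posUnipotent F ≤ D.group F :=
  le_trans (posUnipotent_le_borel D hD F) (borel_le_group D hD F)

/-- `hUB` -/
theorem hUB : Uc D F ≤ (chevBNPair D hD F).B := by
  intro x hx
  rw [chevBNPair_B, Subgroup.mem_subgroupOf]
  exact posUnipotent_le_borel D hD F (Subgroup.mem_subgroupOf.1 hx)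

/-- every element of `B` is `h * u`, `h ∈ H`, `u ∈ U` (in `GL`) -/
theorem borel_decomp (b : GL D.Idx F) (hb : b ∈ D.borelSubgroup F) :
    ∃ h ∈ D.diagonalSubgroup F, ∃ u ∈ D.posUnipotent F, b = h * u := by
  have h1 : b ∈ ((D.borelSubgroup F : Subgroup (GL D.Idx F)) : Set (GL D.Idx F)) := hb
  rw [borel_eq_mul D hD F, Set.mem_mul] at h1
  obtain ⟨h, hh, u, hu, he⟩ := h1
  exact ⟨h, hh, u, hu, he.symm⟩

/-- `B` normalises `U` (in `GL`) -/
theorem borel_conj_mem (b : GL D.Idx F) (hb : b ∈ D.borelSubgroup F) (u : GL D.Idx F) (hu : u ∈ D.posUnipotent F) :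
    b * u * b⁻¹ ∈ D.posUnipotent F := by
  obtain ⟨h, hh, u', hu', rfl⟩ := borel_decomp D hD F b hb
  have hn := diagonalSubgroup_le_normalizer_posUnipotent D hD F hh
  rw [Subgroup.mem_set_normalizer_iff] at hn
  have h1 : u' * u * u'⁻¹ ∈ D.posUnipotent F :=
    (D.posUnipotent F).mul_mem ((D.posUnipotent F).mul_mem hu' hu) ((D.posUnipotent F).inv_mem hu')
  have h2 := (hn _).1 h1
  have e : h * u' * u * (h * u')⁻¹ = h * (u' * u * u'⁻¹) * h⁻¹ := by group
  rw [e]
  exact h2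

/-- `hUn` -/
theorem hUn : ∀ b ∈ (chevBNPair D hD F).B, ∀ u ∈ Uc D F, b * u * b⁻¹ ∈ Uc D F := by
  intro b hb u hu
  rw [chevBNPair_B, Subgroup.mem_subgroupOf] at hb
  rw [Subgroup.mem_subgroupOf] at hu ⊢
  exact borel_conj_mem D hD F _ hb _ hu

/-- `Nat.card Uc = q ^ N` -/
theorem card_Uc [Fintype F] : Nat.card (Uc D F) = Fintype.card F ^ (D.nroots / 2) := by
  rw [Nat.card_congr (Subgroup.subgroupOfEquivOfLe (posUnipotent_le_group D hD F)).toEquiv,
    card_posUnipotent D hD F]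

/-- `hUp` -/
theorem hUp [Fintype F] (p : ℕ) [Fact p.Prime] [CharP F p] : IsPGroup p (Uc D F) := by
  obtain ⟨P, hP⟩ := posUnipotent_sylow D hD F p
  have := P.isPGroup'
  rw [hP] at this
  exact this

/-- `hUidx` -/
theorem hUidx [Fintype F] (p : ℕ) [Fact p.Prime] [CharP F p] : ¬ p ∣ (Uc D F).index := by
  have := Cfsg.Agent.Lib.Helper6.ChevSt.finite_group D F
  obtain ⟨P, hP⟩ := posUnipotent_sylow D hD F p
  have h := P.not_dvd_index
  rw [hP] at h
  exact h

/-- `B ∩ N = H` inside `D.group F` -/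
theorem B_inf_N : (chevBNPair D hD F).B ⊓ (chevBNPair D hD F).N =
    (D.diagonalSubgroup F).subgroupOf (D.group F) := by
  rw [chevBNPair_B, chevBNPair_N]
  ext x
  rw [Subgroup.mem_inf, Subgroup.mem_subgroupOf, Subgroup.mem_subgroupOf, Subgroup.mem_subgroupOf,
    ← borel_inf_monomial D hD F, Subgroup.mem_inf]

/-- `hBUH` -/
theorem hBUH : ∀ b ∈ (chevBNPair D hD F).B, ∃ u ∈ Uc D F,
    ∃ h ∈ (chevBNPair D hD F).B ⊓ (chevBNPair D hD F).N, b = u * h := by
  intro b hb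
  rw [chevBNPair_B, Subgroup.mem_subgroupOf] at hb
  obtain ⟨h, hh, u, hu, he⟩ := borel_decomp D hD F _ hb
  have hHG : D.diagonalSubgroup F ≤ D.group F := le_trans (diagonal_le_borel D hD F) (borel_le_group D hD F)
  have hn := diagonalSubgroup_le_normalizer_posUnipotent D hD F hh
  rw [Subgroup.mem_set_normalizer_iff] at hn
  have hu' : h * u * h⁻¹ ∈ D.posUnipotent F := (hn _).1 hu
  refine ⟨⟨h * u * h⁻¹, posUnipotent_le_group D hD F hu'⟩, Subgroup.mem_subgroupOf.2 hu', ⟨h, hHG hh⟩, ?_, ?_⟩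
  · rw [B_inf_N D hD F, Subgroup.mem_subgroupOf]
    exact hh
  · apply Subtype.ext
    show (b : GL D.Idx F) = h * u * h⁻¹ * h
    rw [he]
    group

/-- `hUH` -/
theorem hUH : Uc D F ⊓ ((chevBNPair D hD F).B ⊓ (chevBNPair D hD F).N) = ⊥ := by
  rw [B_inf_N D hD F, Subgroup.eq_bot_iff_forall]
  intro x hx
  rw [Subgroup.mem_inf, Subgroup.mem_subgroupOf, Subgroup.mem_subgroupOf] at hx
  have h1 : (x : GL D.Idx F) ∈ D.posUnipotent F ⊓ D.diagonalSubgroup F := Subgroup.mem_inf.2 hx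
  rw [posUnipotent_inf_diagonalSubgroup D hD F, Subgroup.mem_bot] at h1
  exact Subtype.ext h1

end

end Cfsg.Agent.Lib.Helper6.ChevStX1
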