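import Mathlib
import Cfsg.Prelude.Def_ClassicalGeometry
import Cfsg.Prelude.Def_GeometricClasses
import Cfsg.Agent.Lib.Helper2.OTGDefs
import Cfsg.Agent.Lib.Helper2.OTGN
import Cfsg.Agent.Lib.Helper2.OTGW

/-!
S5681 / S5709 PART (GA') (helper2's market, `notes/S5681_GA_leaves.lean`): leaf (F1) `LL_action`,
exact signature.
-/

set_option autoImplicit false
set_option linter.unusedSectionVars false
set_option linter.unusedVariables false

namespace Cfsg.Agent.Lib.Helper6.OTGLeaf
open Matrix Module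
open Cfsg.Agent.Lib.Helper25.Tens Cfsg.Agent.Lib.Helper19.OSub Cfsg.Agent.Lib.Helper25.OT
open Cfsg.Agent.Lib.Helper2.SOT (fB gim mem_gim fB_add_left fB_add_right fB_smul_left fB_smul_right
  fB_comm)
open Cfsg.Agent.Lib.Helper2.OTG
open Cfsg.Agent.Lib.Helper2.OTGLeaf (kB_val NL_mem_WL NL_perp mem_perpW_gim)
open scoped Kronecker

variable {F : Type*} [Field F] [Fintype F] {a b : ℕ} {G1 : Matrix (Fin a) (Fin a) F}
  {G2 : Matrix (Fin b) (Fin b) F} {M : Subgroup (GL (Idx a b) F)}

/-- the action of a root element on any vector -/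
lemma mv_kB (h : Ctx a b G1 G2) {y z : Fin b → F} (hL : TSL G2 y z) (c : F) (v : Idx a b → F) :
    mv (kB G2 y z c : GL (Idx a b) F) v =
      v + c • ((NL G2 y z : Matrix (Idx a b) (Idx a b) F) *ᵥ v) := by
  change ((kB G2 y z c : GL (Idx a b) F) : Matrix (Idx a b) (Idx a b) F) *ᵥ v = _
  rw [kB_val h hL, Matrix.add_mulVec, Matrix.one_mulVec, Matrix.smul_mulVec]

/-- the action of a conjugate root element on any vector -/
lemma mv_conj_kB (h : Ctx a b G1 G2) {y z : Fin b → F} (hL : TSL G2 y z) (g : GL (Idx a b) F) (c : F)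
    (v : Idx a b → F) :
    mv (g * (kB G2 y z c : GL (Idx a b) F) * g⁻¹) v =
      v + c • mv g ((NL G2 y z : Matrix (Idx a b) (Idx a b) F) *ᵥ mv g⁻¹ v) := by
  rw [mv_mul, mv_mul, mv_kB h hL, mv_add, mv_mv_inv, mv_smul]

/-- (F1) every `l ∈ 𝓛` is `1` modulo `P = R ⊔ W'` and fixes `Y = R^⊥ ⊓ W'^⊥` pointwise. -/
theorem LL_action (h : Ctx a b G1 G2) {y z y' z' : Fin b → F} (hL : TSL G2 y z)
    (hL' : TSL G2 y' z') (g : GL (Idx a b) F) (hg : g ∈ OV G1 G2) (l : GL (Idx a b) F)
    (hl : l ∈ LL G2 y z g y' z') :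
    (∀ v, mv l v - v ∈ (WL y z : Submodule F (Idx a b → F)) ⊔ gim g (WL y' z')) ∧
    (∀ v ∈ perpW G1 G2 (WL y z) ⊓ perpW G1 G2 (gim g (WL y' z')), mv l v = v) := by
  unfold LL at hl
  induction hl using Subgroup.closure_induction with
  | mem t ht =>
    rcases ht with ⟨c, rfl⟩ | ⟨c, rfl⟩
    · constructor
      · intro v
        rw [mv_kB h hL, add_sub_cancel_left]
        exact Submodule.mem_sup_left (Submodule.smul_mem _ _ (NL_mem_WL h hL v))
      · intro v hv
        rw [mv_kB h hL, NL_perp h hL v hv.1, smul_zero, add_zero]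
    · constructor
      · intro v
        rw [mv_conj_kB h hL', add_sub_cancel_left]
        apply Submodule.mem_sup_right
        apply Submodule.smul_mem
        exact mem_gim.2 ⟨_, NL_mem_WL h hL' _, rfl⟩
      · intro v hv
        have h1 : mv g⁻¹ v ∈ perpW G1 G2 (WL y' z') := by
          rw [← mem_perpW_gim h g hg, mv_mv_inv]
          exact hv.2
        rw [mv_conj_kB h hL', NL_perp h hL' _ h1, mv_zero, smul_zero, add_zero]
  | one =>
    constructor
    · intro v; rw [mv_one, sub_self]; exact Submodule.zero_mem _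
    · intro v _; exact mv_one v
  | mul s t _ _ ihs iht =>
    constructor
    · intro v
      have : mv (s * t) v - v = (mv s (mv t v) - mv t v) + (mv t v - v) := by
        rw [mv_mul]; abel
      rw [this]
      exact Submodule.add_mem _ (ihs.1 _) (iht.1 v)
    · intro v hv
      rw [mv_mul, iht.2 v hv, ihs.2 v hv]
  | inv s _ ihs =>
    constructor
    · intro v
      have : mv s⁻¹ v - v = -(mv s (mv s⁻¹ v) - mv s⁻¹ v) := by
        rw [mv_mv_inv]; abel
      rw [this]
      exact Submodule.neg_mem _ (ihs.1 _)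
    · intro v hv
      conv_lhs => rw [← ihs.2 v hv]
      rw [mv_inv_mv]

end Cfsg.Agent.Lib.Helper6.OTGLeaf
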