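import Mathlib
import Cfsg.Prelude.Def_ClassicalGeometry
import Cfsg.Prelude.Def_GeometricClasses
import Cfsg.Agent.Lib.Helper2.OTGDefs
import Cfsg.Agent.Lib.Helper2.OTGN
import Cfsg.Agent.Lib.Helper2.OTGW

/-!
S5681 / S5709 PART (GA') (helper2's market, `notes/S5681_GA_leaves.lean`): the S-block
(S2) `TSL_of_sim`, (S3) `kel_conj_kB`, (S4) `kel_WL`, (S5) `kel_neg_one`, exact signatures.
-/

set_option autoImplicit false
set_option linter.unusedSectionVars false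
set_option linter.unusedVariables false

namespace Cfsg.Agent.Lib.Helper6.OTGLeaf
open Matrix Module
open Cfsg.Agent.Lib.Helper25.Tens Cfsg.Agent.Lib.Helper19.OSub Cfsg.Agent.Lib.Helper25.OT
open Cfsg.Agent.Lib.Helper2.SOT (fB gim mem_gim fB_add_left fB_add_right fB_smul_left fB_smul_right
  fB_comm)
open Cfsg.Agent.Lib.Helper2.OTG
open Cfsg.Agent.Lib.Helper2.OTGLeaf (mat_ext_pt)
open scoped Kronecker

variable {F : Type*} [Field F] [Fintype F] {a b : ℕ} {G1 : Matrix (Fin a) (Fin a) F}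
  {G2 : Matrix (Fin b) (Fin b) F} {M : Subgroup (GL (Idx a b) F)}

/-! ### Kronecker calculus -/

lemma kel_mul_kel_S (α α' : GL (Fin a) F) (β β' : GL (Fin b) F) :
    (kel (α * α') (β * β') : GL (Idx a b) F) = kel α β * kel α' β' := by
  apply Units.ext
  rw [Units.val_mul, kel_val, kel_val, kel_val, Units.val_mul, Units.val_mul,
    Matrix.mul_kronecker_mul]

lemma kel_one_one_S : (kel (1 : GL (Fin a) F) (1 : GL (Fin b) F) : GL (Idx a b) F) = 1 := by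
  apply Units.ext
  rw [kel_val, Units.val_one, Units.val_one, Units.val_one, Matrix.one_kronecker_one]

lemma kel_inv_inv_S (α : GL (Fin a) F) (β : GL (Fin b) F) :
    (kel α⁻¹ β⁻¹ : GL (Idx a b) F) = (kel α β)⁻¹ := by
  rw [eq_inv_iff_mul_eq_one, ← kel_mul_kel_S, inv_mul_cancel, inv_mul_cancel, kel_one_one_S]

/-- `α ⊗ β` on a pure tensor, `mv` form -/
lemma mv_kel_pt (α : GL (Fin a) F) (β : GL (Fin b) F) (x : Fin a → F) (v : Fin b → F) :
    mv (kel α β : GL (Idx a b) F) (pt x v) = pt (mv α x) (mv β v) :=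
  kel_mulVec_pt α β x v

/-- `(α ⊗ β)⁻¹` on a pure tensor -/
lemma mv_kel_inv_pt (α : GL (Fin a) F) (β : GL (Fin b) F) (x : Fin a → F) (v : Fin b → F) :
    mv (kel α β : GL (Idx a b) F)⁻¹ (pt x v) = pt (mv α⁻¹ x) (mv β⁻¹ v) := by
  rw [← kel_inv_inv_S, mv_kel_pt]

/-- two elements of `GL` agreeing on the pure tensors are equal -/
lemma gl_ext_pt_S {g g' : GL (Idx a b) F}
    (h : ∀ (x : Fin a → F) (v : Fin b → F), mv g (pt x v) = mv g' (pt x v)) : g = g' := by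
  apply Units.ext
  exact mat_ext_pt h

/-! ### Block S -/

/-- (S2) similitudes map t.s. lines to t.s. lines. -/
theorem TSL_of_sim (β : GL (Fin b) F) (ν : F)
    (hβ : ∀ y y' : Fin b → F, fB G2 ((β : Matrix (Fin b) (Fin b) F) *ᵥ y)
      ((β : Matrix (Fin b) (Fin b) F) *ᵥ y') = ν * fB G2 y y')
    {y z : Fin b → F} (hL : TSL G2 y z) :
    TSL G2 ((β : Matrix (Fin b) (Fin b) F) *ᵥ y) ((β : Matrix (Fin b) (Fin b) F) *ᵥ z) := by
  refine ⟨by rw [hβ, hL.yy, mul_zero], by rw [hβ, hL.zz, mul_zero], by rw [hβ, hL.yz, mul_zero], ?_⟩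
  rw [LinearIndependent.pair_iff]
  intro s t hst
  have h1 : mv β (s • y + t • z) = mv β 0 := by
    rw [mv_add, mv_smul, mv_smul, mv_zero]
    exact hst
  have h2 := mv_injective β h1
  exact (LinearIndependent.pair_iff.1 hL.li) s t h2

/-- (S3) conjugating a root element by a Kronecker element whose second factor is a similitude of
multiplier `ν`. -/
theorem kel_conj_kB (h : Ctx a b G1 G2) (α : GL (Fin a) F) (β : GL (Fin b) F) (ν : F) (hν : ν ≠ 0)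
    (hβ : ∀ y y' : Fin b → F, fB G2 ((β : Matrix (Fin b) (Fin b) F) *ᵥ y)
      ((β : Matrix (Fin b) (Fin b) F) *ᵥ y') = ν * fB G2 y y')
    {y z : Fin b → F} (hL : TSL G2 y z) (c : F) :
    (kel α β : GL (Idx a b) F) * kB G2 y z c * (kel α β)⁻¹ =
      kB G2 ((β : Matrix (Fin b) (Fin b) F) *ᵥ y) ((β : Matrix (Fin b) (Fin b) F) *ᵥ z)
        (c * ν⁻¹) := by
  have hL' := TSL_of_sim β ν hβ hL
  have key : ∀ u v : Fin b → F, fB G2 u (mv β⁻¹ v) = ν⁻¹ * fB G2 (mv β u) v := by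
    intro u v
    have e := hβ u (mv β⁻¹ v)
    change fB G2 (mv β u) (mv β (mv β⁻¹ v)) = _ at e
    rw [mv_mv_inv] at e
    rw [e, ← mul_assoc, inv_mul_cancel₀ hν, one_mul]
  apply gl_ext_pt_S
  intro x v
  rw [mv_mul, mv_mul, mv_kel_inv_pt, mv_kB_pt h.symm2 h.two hL, mv_kel_pt, mv_mv_inv,
    mv_kB_pt h.symm2 h.two hL', mv_add, mv_mv_inv, mv_smul, mv_sub, mv_smul, mv_smul, key, key]
  change pt x (v + c • ((ν⁻¹ * fB G2 (mv β y) v) • mv β z - (ν⁻¹ * fB G2 (mv β z) v) • mv β y)) =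
    pt x (v + (c * ν⁻¹) • (fB G2 (mv β y) v • mv β z - fB G2 (mv β z) v • mv β y))
  congr 2
  rw [mul_smul, mul_smul, mul_smul, smul_sub, smul_sub, smul_sub]

/-- (S4) the image of `A ⊗ ⟨y,z⟩` under `α ⊗ β` is `A ⊗ ⟨βy,βz⟩`. -/
theorem kel_WL (α : GL (Fin a) F) (β : GL (Fin b) F) (y z : Fin b → F) :
    gim (kel α β) (WL y z : Submodule F (Idx a b → F)) =
      WL ((β : Matrix (Fin b) (Fin b) F) *ᵥ y) ((β : Matrix (Fin b) (Fin b) F) *ᵥ z) := by
  ext v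
  rw [mem_gim, mem_WL_iff]
  constructor
  · rintro ⟨w, hw, rfl⟩
    obtain ⟨x₁, x₂, rfl⟩ := (mem_WL_iff y z w).1 hw
    exact ⟨mv α x₁, mv α x₂, by rw [mv_add, mv_kel_pt, mv_kel_pt]⟩
  · rintro ⟨x₁, x₂, rfl⟩
    refine ⟨pt (mv α⁻¹ x₁) y + pt (mv α⁻¹ x₂) z, ?_, ?_⟩
    · rw [mem_WL_iff]
      exact ⟨_, _, rfl⟩
    · rw [mv_add, mv_kel_pt, mv_kel_pt, mv_mv_inv, mv_mv_inv]

/-- (S5) `(−1) ⊗ β = 1 ⊗ (−β)` -/
theorem kel_neg_one (β : GL (Fin b) F) :
    (kel (-1 : GL (Fin a) F) β : GL (Idx a b) F) = kel 1 (-β) := by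
  apply Units.ext
  rw [kel_val, kel_val, Units.val_neg, Units.val_neg, Units.val_one]
  ext ⟨i, k⟩ ⟨j, l⟩
  simp only [Matrix.kroneckerMap_apply, Matrix.neg_apply]
  ring

end Cfsg.Agent.Lib.Helper6.OTGLeaf
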