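import Mathlib
import Cfsg.Agent.Lib.Helper11.T23UDefs
import Cfsg.Agent.Lib.Helper9.UTNNZ
import Cfsg.Agent.Lib.Helper23.UTNNG

/-!
S5801 conjunct (8) (`GU_2 ⊗ GU_3 < SU_6(q)`, `q ≥ 3`), helper11's market "C4U", leaf R1, part 1:
the calculus of `IsZA q x g Ξ` (`g = u_x(Ξ) : v ↦ v + x ⊗ Ξ (c_x v)`, `c_x v = ctA (cj q x) v`), the A-side mirror of
`Helper9.UTNLeaf.IsZ_*`: `IsZA_kA`, `IsZA_one`, `IsZA_mul`, `IsZA_inv`, `IsZA_conj_kel`, `IsZA_smul_vec`, `IsZA_skew`,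
`IsZA_rk1` (`u_x(c • rk1 q w)` is the transvection with centre `x ⊗ w`).
-/

set_option autoImplicit false
set_option linter.unusedSectionVars false
set_option linter.unusedVariables false

namespace Cfsg.Agent.Lib.Helper6.C4UZA
open Matrix
open Cfsg.Agent.Lib.Helper25.Tens Cfsg.Agent.Lib.Helper25.TensLeaf Cfsg.Agent.Lib.Helper25.TensLeaves
open Cfsg.Agent.Lib.Helper20.UT Cfsg.Agent.Lib.Helper20.UTLeaf Cfsg.Agent.Lib.Helper20.UTN
open Cfsg.Agent.Lib.Helper11.T23U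
open scoped Kronecker

variable {F : Type*} [Field F] [Fintype F] {a b q : ℕ} {M : Subgroup (GL (Idx a b) F)}

lemma ctA_zero (ξ : Fin a → F) : ctA ξ (0 : Idx a b → F) = 0 := by
  ext l; simp [ctA]

/-- `c_x (v + x ⊗ w) = c_x v` for isotropic `x` -/
lemma ctA_cj_add_pt_self {x : Fin a → F} (hx : hv q x x = 0) (v : Idx a b → F) (w : Fin b → F) :
    ctA (cj q x) (v + pt x w) = ctA (cj q x) v := by
  rw [ctA_add, ctA_cj_pt, hx, zero_smul, add_zero]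

/-- `kA q x c = u_x(c • 1)` -/
theorem IsZA_kA (x : Fin a → F) (c : F) (hx : hv q x x = 0) :
    IsZA q x (kA q x c hx : GL (Idx a b) F) (c • (1 : Matrix (Fin b) (Fin b) F)) := by
  intro v
  rw [mv_kA, Matrix.smul_mulVec, Matrix.one_mulVec, pt_smul_right]

theorem IsZA_one (x : Fin a → F) : IsZA q x (1 : GL (Idx a b) F) (0 : Matrix (Fin b) (Fin b) F) := by
  intro v
  rw [mv_one, Matrix.zero_mulVec, pt_zero_right, add_zero]

/-- `u_x(Ξ) u_x(Ξ') = u_x(Ξ + Ξ')` -/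
theorem IsZA_mul {x : Fin a → F} (hx : hv q x x = 0) {g g' : GL (Idx a b) F}
    {Ξ Ξ' : Matrix (Fin b) (Fin b) F} (h : IsZA q x g Ξ) (h' : IsZA q x g' Ξ') :
    IsZA q x (g * g') (Ξ + Ξ') := by
  intro v
  rw [mv_mul, h' v, h _, ctA_cj_add_pt_self hx, Matrix.add_mulVec, pt_add_right]
  abel

theorem IsZA_inv {x : Fin a → F} (hx : hv q x x = 0) {g : GL (Idx a b) F}
    {Ξ : Matrix (Fin b) (Fin b) F} (h : IsZA q x g Ξ) : IsZA q x g⁻¹ (-Ξ) := by
  intro v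
  have h1 : mv g (v + pt x ((-Ξ) *ᵥ ctA (cj q x) v)) = v := by
    rw [h _, ctA_cj_add_pt_self hx, Matrix.neg_mulVec]
    have : pt x (-(Ξ *ᵥ ctA (cj q x) v)) = - pt x (Ξ *ᵥ ctA (cj q x) v) := by
      rw [← neg_one_smul F (Ξ *ᵥ ctA (cj q x) v), pt_smul_right, neg_one_smul]
    rw [this]
    abel
  conv_lhs => rw [← h1]
  rw [mv_inv_mv]

/-- `c_{α x} ((α ⊗ β) w) = β (c_x w)` for an isometry `α` -/
lemma ctA_cj_kel (x : Fin a → F) (α : GL (Fin a) F) (β : GL (Fin b) F)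
    (hα : ∀ u v, hv q (mv α u) (mv α v) = hv q u v) (w : Idx a b → F) :
    ctA (cj q (mv α x)) (mv (kel α β : GL (Idx a b) F) w) = mv β (ctA (cj q x) w) := by
  revert w
  apply Cfsg.Agent.Lib.Helper9.UTNLeaf.pt_ind'
  · rw [mv_zero, ctA_zero, ctA_zero, mv_zero]
  · intro v w hv' hw'
    rw [mv_add, ctA_add, ctA_add, mv_add, hv', hw']
  · intro x' z
    rw [Cfsg.Agent.Lib.Helper9.UTNLeaf.mv_kel_pt, ctA_cj_pt, ctA_cj_pt, hα, mv_smul]

/-- `(α ⊗ β) u_x(Ξ) (α ⊗ β)⁻¹ = u_{α x}(β Ξ β⁻¹)` for an isometry `α` (`β` arbitrary). -/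
theorem IsZA_conj_kel {x : Fin a → F} {g : GL (Idx a b) F}
    {Ξ : Matrix (Fin b) (Fin b) F} (h : IsZA q x g Ξ) (α : GL (Fin a) F) (β : GL (Fin b) F)
    (hα : ∀ u v, hv q (mv α u) (mv α v) = hv q u v) :
    IsZA q (mv α x) (kel α β * g * (kel α β)⁻¹)
      ((β : Matrix (Fin b) (Fin b) F) * Ξ * ((β⁻¹ : GL (Fin b) F) : Matrix (Fin b) (Fin b) F)) := by
  intro v
  have hc : ctA (cj q (mv α x)) v = mv β (ctA (cj q x) (mv (kel α β : GL (Idx a b) F)⁻¹ v)) := by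
    rw [← ctA_cj_kel x α β hα, mv_mv_inv]
  rw [mv_mul, mv_mul, h _, mv_add, mv_mv_inv, Cfsg.Agent.Lib.Helper9.UTNLeaf.mv_kel_pt, hc]
  congr 2
  change (β : Matrix (Fin b) (Fin b) F) *ᵥ _ = _
  rw [← Matrix.mulVec_mulVec, ← Matrix.mulVec_mulVec]
  congr 2
  change _ = mv β⁻¹ (mv β _)
  rw [mv_inv_mv]

/-- `u_{d x}(Ξ) = u_x((d * d^q) • Ξ)`. -/
theorem IsZA_smul_vec {x : Fin a → F} {g : GL (Idx a b) F} {Ξ : Matrix (Fin b) (Fin b) F} (d : F)
    (h : IsZA q (d • x) g Ξ) : IsZA q x g ((d * d ^ q) • Ξ) := by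
  intro v
  have hc : ctA (cj q (d • x)) v = d ^ q • ctA (cj q x) v := by
    ext l
    simp only [ctA, cj, Pi.smul_apply, smul_eq_mul, mul_pow, Finset.mul_sum]
    apply Finset.sum_congr rfl; intro i _; ring
  rw [h v, hc, Matrix.mulVec_smul, pt_smul_left, pt_smul_right, smul_smul,
    Matrix.smul_mulVec, pt_smul_right]

/-- an isometry `u_x(Ξ)` has skew-hermitian `Ξ`. -/
theorem IsZA_skew (hF : Fintype.card F = q ^ 2) {x : Fin a → F} (hx0 : x ≠ 0) (hx : hv q x x = 0)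
    {g : GL (Idx a b) F} (hg : g ∈ GUI a b q F) {Ξ : Matrix (Fin b) (Fin b) F}
    (h : IsZA q x g Ξ) : adjM q Ξ = -Ξ := by
  have hq0 : q ≠ 0 := by
    rintro rfl
    have : 2 ≤ Fintype.card F := Fintype.one_lt_card
    rw [hF] at this; omega
  have hf := hv_unitary (n := a) hF
  obtain ⟨xs, -, hxsxs, hxxs⟩ := Cfsg.Agent.Lib.Helper5.UForm.exists_partner hf
    (Cfsg.Agent.Lib.Helper5.UForm.ND_top hf)
    (Submodule.mem_top : x ∈ (⊤ : Submodule F (Fin a → F))) hx0 hx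
  have hxsx : hv q xs x = 1 := by
    have := hv_conj hF x xs
    rw [hxxs, one_pow] at this
    exact this.symm
  -- the action on `xs ⊗ y`
  have hact : ∀ y : Fin b → F, mv g (pt xs y) = pt xs y + pt x (Ξ *ᵥ y) := by
    intro y
    rw [h _, ctA_cj_pt, hxsx, one_smul]
  have key : ∀ y y' : Fin b → F, hv q y ((Ξ + adjM q Ξ) *ᵥ y') = 0 := by
    intro y y'
    have h1 := mem_GUI.mp hg (pt xs y) (pt xs y')
    rw [hact, hact, hv_add_left, hv_add_right hF, hv_add_right hF, hv_pt, hv_pt, hv_pt, hv_pt,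
      hxsxs, hx, hxsx, hxxs] at h1
    rw [Matrix.add_mulVec, hv_add_right hF, ← hv_adjM hF]
    linear_combination h1
  have hzero : Ξ + adjM q Ξ = 0 := by
    ext i j
    have h1 := key (Pi.single i 1) (Pi.single j 1)
    rw [Matrix.mulVec_single_one] at h1
    have h2 : hv q (Pi.single i (1 : F)) ((Ξ + adjM q Ξ).col j) = ((Ξ + adjM q Ξ) i j) ^ q := by
      unfold hv
      rw [Finset.sum_eq_single i]
      · simp [Matrix.col_apply]
      · intro k _ hk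
        simp [hk]
      · intro hi; exact absurd (Finset.mem_univ i) hi
    rw [h2] at h1
    rw [Matrix.zero_apply]
    exact pow_eq_zero_iff hq0 |>.mp h1
  exact eq_neg_of_add_eq_zero_right hzero

/-- `u_x(c • rk1 q w)` is the transvection `v ↦ v + c h(v, x ⊗ w) (x ⊗ w)` -/
theorem IsZA_rk1 {x : Fin a → F} {g : GL (Idx a b) F} {w : Fin b → F} {c : F}
    (h : IsZA q x g (c • rk1 q w)) (v : Idx a b → F) :
    mv g v = v + (c * hv q v (pt x w)) • pt x w := by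
  rw [h v, Matrix.smul_mulVec, rk1_mulVec, ← hv_pt_right', smul_smul, pt_smul_right]

end Cfsg.Agent.Lib.Helper6.C4UZA
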