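import Mathlib
import Cfsg.Agent.Lib.Helper11.T23UDefs
import Cfsg.Agent.Lib.Helper6.C4UZA
import Cfsg.Agent.Lib.Helper23.UTNN5a
import Cfsg.Agent.Lib.Helper23.UTNNG
import Cfsg.Agent.Lib.Helper23.UTG

/-!
S5801 conjunct (8) (`GU_2 ⊗ GU_3 < SU_6(q)`, `q ≥ 3`), helper11's market "C4U", leaf R1, part 2:
closure properties of `ThA q x M` (add, neg, conjugation by `tvU q y c`, skew) and the `lemmaAH` endgame
`R1_of_smul` (R1 from the closure of `ThA q x M` under the fixed field).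
-/

set_option autoImplicit false
set_option linter.unusedSectionVars false
set_option linter.unusedVariables false

namespace Cfsg.Agent.Lib.Helper6.C4UR1
open Matrix Module
open Cfsg.Agent.Lib.Helper25.Tens Cfsg.Agent.Lib.Helper25.TensLeaf Cfsg.Agent.Lib.Helper25.TensLeaves
open Cfsg.Agent.Lib.Helper20.UT Cfsg.Agent.Lib.Helper20.UTLeaf Cfsg.Agent.Lib.Helper20.UTN
open Cfsg.Agent.Lib.Helper5.UTG Cfsg.Agent.Lib.Helper11.T23U Cfsg.Agent.Lib.Helper6.C4UZA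
open scoped Kronecker

variable {F : Type*} [Field F] [Fintype F] {a b q : ℕ} {M : Subgroup (GL (Idx a b) F)}

theorem ThA_add {x : Fin a → F} (hx : hv q x x = 0) {Ξ Ξ' : Matrix (Fin b) (Fin b) F}
    (h : Ξ ∈ ThA q x M) (h' : Ξ' ∈ ThA q x M) : Ξ + Ξ' ∈ ThA q x M := by
  obtain ⟨g, hg, hZ⟩ := h
  obtain ⟨g', hg', hZ'⟩ := h'
  exact ⟨g * g', M.mul_mem hg hg', IsZA_mul hx hZ hZ'⟩

theorem ThA_neg {x : Fin a → F} (hx : hv q x x = 0) {Ξ : Matrix (Fin b) (Fin b) F}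
    (h : Ξ ∈ ThA q x M) : -Ξ ∈ ThA q x M := by
  obtain ⟨g, hg, hZ⟩ := h
  exact ⟨g⁻¹, M.inv_mem hg, IsZA_inv hx hZ⟩

/-- conjugation by `kB q y c = 1 ⊗ tvU q y c ∈ KG ⊓ GS ≤ M` -/
theorem ThA_conj_tv (hF : Fintype.card F = q ^ 2) (hle : KG a b F ⊓ GS a b q F ≤ M) {x : Fin a → F}
    (y : Fin b → F) {c : F} (hcs : c ^ q = -c) (hy : hv q y y = 0) {Ξ : Matrix (Fin b) (Fin b) F}
    (h : Ξ ∈ ThA q x M) :
    ((tvU q y c hy : GL (Fin b) F) : Matrix (Fin b) (Fin b) F) * Ξ *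
      (((tvU q y c hy)⁻¹ : GL (Fin b) F) : Matrix (Fin b) (Fin b) F) ∈ ThA q x M := by
  obtain ⟨g, hg, hZ⟩ := h
  have hk : (kB q y c hy : GL (Idx a b) F) ∈ M :=
    hle ⟨kB_mem_KG q y c hy, kB_mem_GS hF y hcs hy⟩
  have h1 := IsZA_conj_kel hZ (1 : GL (Fin a) F) (tvU q y c hy) (by intro u v; simp)
  rw [mv_one] at h1
  exact ⟨kB q y c hy * g * (kB q y c hy)⁻¹, M.mul_mem (M.mul_mem hk hg) (M.inv_mem hk), h1⟩

theorem ThA_skew (hF : Fintype.card F = q ^ 2) (hleG : M ≤ GS a b q F) {x : Fin a → F} (hx0 : x ≠ 0)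
    (hx : hv q x x = 0) {Ξ : Matrix (Fin b) (Fin b) F} (h : Ξ ∈ ThA q x M) : adjM q Ξ = -Ξ := by
  obtain ⟨g, hg, hZ⟩ := h
  exact IsZA_skew hF hx0 hx (hleG hg).1 hZ

/-- **R1** from the closure of `ThA q x M` under multiplication by the fixed field -/
theorem R1_of_smul {M : Subgroup (GL (Idx 2 3) F)} (h : MC q M) {x : Fin 2 → F} (hx0 : x ≠ 0)
    (hx : hv q x x = 0)
    (hsm : ∀ r : F, r ^ q = r → ∀ Ξ : Matrix (Fin 3) (Fin 3) F, Ξ ∈ ThA q x M → r • Ξ ∈ ThA q x M)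
    {g : GL (Idx 2 3) F} (hg : g ∈ M) {Ξ : Matrix (Fin 3) (Fin 3) F} (hZ : IsZA q x g Ξ) :
    IsScalarMat Ξ := by
  by_contra hns
  have hF := h.hF
  have hf := hv_unitary (n := 3) hF
  have hadd : ∀ θ θ' : Matrix (Fin 3) (Fin 3) F, θ ∈ ThA q x M → θ' ∈ ThA q x M →
      θ + θ' ∈ ThA q x M := fun θ θ' h1 h2 => ThA_add hx h1 h2
  have hneg : ∀ θ : Matrix (Fin 3) (Fin 3) F, θ ∈ ThA q x M → -θ ∈ ThA q x M :=
    fun θ h1 => ThA_neg hx h1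
  have hconj : ∀ (y : Fin 3 → F) (c : F) (hy : hv q y y = 0), c ^ q = -c →
      ∀ θ : Matrix (Fin 3) (Fin 3) F, θ ∈ ThA q x M →
      ((tvU q y c hy : GL (Fin 3) F) : Matrix (Fin 3) (Fin 3) F) * θ *
        (((tvU q y c hy)⁻¹ : GL (Fin 3) F) : Matrix (Fin 3) (Fin 3) F) ∈ ThA q x M :=
    fun y c hy hc θ h1 => ThA_conj_tv hF h.le y hc hy h1
  have hskew : ∀ θ : Matrix (Fin 3) (Fin 3) F, θ ∈ ThA q x M → adjM q θ = -θ :=
    fun θ h1 => ThA_skew hF h.le_G hx0 hx h1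
  obtain ⟨z, hz0, hz⟩ := Cfsg.Agent.Lib.Helper23.UTNLeaf.lemmaAH hF h.hq (by norm_num : 2 ≤ 3)
    (ThA q x M) hadd hneg hsm hconj hskew ⟨g, hg, hZ⟩ hns
  -- an isotropic centre
  have hw : ∃ w : Fin 3 → F, w ≠ 0 ∧ hv q w w = 0 ∧
      ∀ e : F, e ^ q = -e → e • rk1 q w ∈ ThA q x M := by
    by_cases hzz : hv q z z = 0
    · exact ⟨z, hz0, hzz, hz⟩
    · have hd : 2 ≤ Module.finrank F (⊤ : Submodule F (Fin 3 → F)) := by
        rw [finrank_top, Module.finrank_fin_fun]; norm_num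
      obtain ⟨w, -, hww, hzw⟩ := Cfsg.Agent.Lib.Helper23.UTNLeaf.exists_iso_not_perp_mem hF
        (Cfsg.Agent.Lib.Helper5.UForm.ND_top hf) hd
        (Submodule.mem_top : z ∈ (⊤ : Submodule F (Fin 3 → F))) hzz
      obtain ⟨c₀, hc0, hc⟩ := Cfsg.Agent.Lib.Helper23.UTLeaf.exists_skew hF
      have hwz : hv q w z ≠ 0 := fun h0 => hzw (hv_symm_zero hF h0)
      refine ⟨w, ?_, hww, Cfsg.Agent.Lib.Helper23.UTNLeaf.lemmaAH_caseA hF h.hq (ThA q x M) hadd hneg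
        hsm hconj hskew (hz c₀ hc) hww ?_⟩
      · rintro rfl
        exact hzw (hv_zero_right hF z)
      · rw [Matrix.smul_mulVec, rk1_mulVec, hv_smul_left, hv_smul_left]
        exact mul_ne_zero hc0 (mul_ne_zero hwz hzw)
  obtain ⟨w, hw0, hww, hw⟩ := hw
  apply h.noT
  refine ⟨x, w, hx0, hw0, hx, hww, ?_⟩
  intro c hc t ht
  obtain ⟨g', hg', hZ'⟩ := hw c hc
  have : t = g' := ext_mv (fun v => by rw [ht, IsZA_rk1 hZ'])
  rw [this]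
  exact hg'

end Cfsg.Agent.Lib.Helper6.C4UR1
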