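import Mathlib
import Cfsg.Agent.Lib.Helper11.T23UDefs
import Cfsg.Agent.Lib.Helper6.C4UR1a
import Cfsg.Agent.Lib.Helper19.C4UR1Smul

/-!
S5801 conjunct (8) (`GU_2 ⊗ GU_3 < SU_6(q)`, `q ≥ 3`), helper11's market "C4U", leaf **R1**
(`M ∩ U_{R_x} = X_x`: if `u_x(Ξ) ∈ M` then `Ξ` is scalar), exact signature of notes/S5801_C4_leaves.lean.
Parts: `Helper6.C4UZA` (IsZA calculus), `Helper6.C4UR1a` (ThA closure + `lemmaAH` endgame),
`Helper19.C4UR1Smul` (closure of `ThA` under the fixed field).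
-/

set_option autoImplicit false
set_option linter.unusedSectionVars false
set_option linter.unusedVariables false

namespace Cfsg.Agent.Lib.Helper6.C4UR1
open Matrix Module
open Cfsg.Agent.Lib.Helper25.Tens Cfsg.Agent.Lib.Helper25.TensLeaf Cfsg.Agent.Lib.Helper25.TensLeaves
open Cfsg.Agent.Lib.Helper20.UT Cfsg.Agent.Lib.Helper5.UTG Cfsg.Agent.Lib.Helper11.T23U
open scoped Kronecker

variable {F : Type*} [Field F] [Fintype F] {q : ℕ} {M : Subgroup (GL (Idx 2 3) F)}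

/-- **R1** `M ∩ U_{R_x} = X_x`: if `u_x(Ξ) ∈ M` then `Ξ` is scalar. -/
theorem R1 (h : MC q M) {x : Fin 2 → F} (hx0 : x ≠ 0) (hx : hv q x x = 0) {g : GL (Idx 2 3) F} (hg : g ∈ M)
    {Ξ : Matrix (Fin 3) (Fin 3) F} (hZ : IsZA q x g Ξ) : IsScalarMat Ξ :=
  R1_of_smul h hx0 hx
    (fun r hr Ξ' hΞ' => Cfsg.Agent.Lib.Helper19.C4UR1.ThA_smul h.hF h.le hx0 hx hΞ'
      (fun Ξ₁ Ξ₂ h1 h2 => ThA_add hx h1 h2) (fun Ξ₁ h1 => ThA_neg hx h1) hr)
    hg hZ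

end Cfsg.Agent.Lib.Helper6.C4UR1
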