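/-
helper6: extensions of characters with prescribed determinant (Isaacs 6.24).
-/
import Mathlib
import Cfsg.Agent.Lib.Helper6.DetChar
import Cfsg.Agent.Lib.Helper6.Gallagher2
import Cfsg.Agent.Lib.Helper6.AbelianQuot

set_option autoImplicit false

namespace Cfsg.Agent.Lib.Helper6

open Cfsg Cfsg.Agent.CharLib
open scoped ComplexConjugate

universe u

/-- Unique `d`-th roots in a commutative group among the elements killed by `k`, `gcd(k,d) = 1`. -/
theorem exists_unique_root_of_coprime {A : Type*} [CommGroup A] (ν : A) (k d : ℕ) (hk : ν ^ k = 1)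
    (hcop : Nat.Coprime k d) :
    ∃ m : ℕ, (ν ^ m) ^ d = ν ∧ ∀ β' : A, β' ^ d = ν → β' ^ k = 1 → β' = ν ^ m := by
  have hord : orderOf ν ∣ k := orderOf_dvd_of_pow_eq_one hk
  have hcop' : Nat.Coprime d (orderOf ν) := (Nat.Coprime.coprime_dvd_left hord hcop).symm
  obtain ⟨m, hm⟩ := exists_pow_eq_self_of_coprime hcop'
  have h1 : (ν ^ m) ^ d = ν := by rw [← pow_mul, mul_comm, pow_mul, hm]
  refine ⟨m, h1, ?_⟩
  intro β' hβ'd hβ'k
  have h2 : (β' * (ν ^ m)⁻¹) ^ d = 1 := by rw [mul_pow, inv_pow, h1, hβ'd, mul_inv_cancel]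
  have h3 : (β' * (ν ^ m)⁻¹) ^ k = 1 := by
    rw [mul_pow, inv_pow, hβ'k, ← pow_mul, mul_comm m k, pow_mul, hk, one_pow, inv_one, mul_one]
  have h4 : orderOf (β' * (ν ^ m)⁻¹) = 1 :=
    Nat.eq_one_of_dvd_coprimes hcop (orderOf_dvd_of_pow_eq_one h3) (orderOf_dvd_of_pow_eq_one h2)
  exact mul_inv_eq_one.mp (orderOf_eq_one_iff.mp h4)

variable {G : Type u} [Group G] [Fintype G]

/-- **Isaacs 6.24**: if `ϑ ∈ Irr(N)` extends to `G`, `gcd(|G:N|, ϑ(1)) = 1` and `μ` is a linear
character of `G` extending `det ϑ`, then `ϑ` has a unique extension with determinant `μ`. -/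
theorem existsUnique_extension_with_det (N : Subgroup G) [hN : N.Normal] [Fintype N] {ϑ : N → ℂ}
    (hϑ : IsIrrCharacter N ϑ) {d : ℕ} (hd : ϑ 1 = d) (hcop : Nat.Coprime N.index d)
    {η : G → ℂ} (hη : IsIrrCharacter G η) (hηN : resFun N η = ϑ) {μ : G → ℂ}
    (hμ : IsCharacter G μ) (hμ1 : μ 1 = 1) (hμN : resFun N μ = detChar ϑ) :
    ∃! χ : G → ℂ, IsIrrCharacter G χ ∧ resFun N χ = ϑ ∧ detChar χ = μ := by
  classical
  have hηc : IsCharacter G η := IsIrrCharacter.isCharacter hη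
  have hη1 : η 1 = d := by
    have := congrFun hηN 1
    rw [resFun_apply] at this
    rw [← hd, ← this]
    rfl
  obtain ⟨dθ, hdθpos, hdθ⟩ := IsIrrCharacter.apply_one_pos hϑ
  have hd0 : (d : ℂ) ≠ 0 := by rw [← hd, hdθ]; exact_mod_cast hdθpos.ne'
  have hdetη := detChar_isCharacter hηc
  let δ : G →* ℂˣ := linCharUnitsHom hdetη.1 hdetη.2
  let M : G →* ℂˣ := linCharUnitsHom hμ hμ1
  have hδ : unitsHomToFun G δ = detChar η := rfl
  have hM : unitsHomToFun G M = μ := rfl
  have hdetηN : ∀ n : N, detChar η n = detChar ϑ n := by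
    intro n
    have := congrFun (detChar_resFun N hηc) n
    rw [hηN] at this
    exact this.symm
  have hν : ∀ n : N, (M * δ⁻¹) (n : G) = 1 := by
    intro n
    rw [MonoidHom.mul_apply, MonoidHom.inv_apply, mul_inv_eq_one]
    apply Units.ext
    change μ n = detChar η n
    rw [hdetηN n]
    exact congrFun hμN n
  have hνk : (M * δ⁻¹) ^ N.index = 1 := pow_index_eq_one_of_trivial_on _ hν
  obtain ⟨m, hroot, huniq⟩ := exists_unique_root_of_coprime (M * δ⁻¹) N.index d hνk hcop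
  have hβN : ∀ n : N, ((M * δ⁻¹) ^ m) (n : G) = 1 := by
    intro n
    rw [MonoidHom.pow_apply, hν n, one_pow]
  have hβ1 : unitsHomToFun G ((M * δ⁻¹) ^ m) 1 = 1 := by
    rw [unitsHomToFun_apply, map_one, Units.val_one]
  have hβc : IsCharacter G (unitsHomToFun G ((M * δ⁻¹) ^ m)) := isCharacter_of_hom ((M * δ⁻¹) ^ m)
  refine ⟨unitsHomToFun G ((M * δ⁻¹) ^ m) * η, ⟨?_, ?_, ?_⟩, ?_⟩
  · exact isIrrCharacter_linear_mul hβc hβ1 hη
  · funext n
    rw [resFun_apply, Pi.mul_apply, unitsHomToFun_apply, hβN n, Units.val_one, one_mul, ← hηN]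
    rfl
  · rw [detChar_linear_mul hβc hβ1 hηc hη1, ← hδ, ← map_pow, ← map_mul, hroot, ← hM]
    congr 1
    exact inv_mul_cancel_right M δ
  · rintro χ' ⟨hχ', hχ'N, hχ'det⟩
    have hχ'cf : IsClassFunction G χ' :=
      IsCharacter.isClassFunction (IsIrrCharacter.isCharacter hχ')
    have hbij := gallagher_bijOn N hη (by rw [hηN]; exact hϑ)
    have hmem : χ' ∈ {ψ | IsIrrCharacter G ψ ∧ classInner (indFun N (resFun N η)) ψ ≠ 0} := by
      refine ⟨hχ', ?_⟩
      rw [frobenius_reciprocity N _ hχ'cf, hηN]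
      change classInner ϑ (resFun N χ') ≠ 0
      rw [hχ'N, classInner_irr hϑ hϑ, if_pos rfl]
      exact one_ne_zero
    obtain ⟨β', ⟨hβ', hβ'B⟩, hβ'χ⟩ := hbij.surjOn hmem
    have hβ'χ' : β' * η = χ' := hβ'χ
    have hβ'1 : β' 1 = 1 := by
      have h1 := congrFun hβ'χ' 1
      have h2 := congrFun hχ'N 1
      rw [resFun_apply] at h2
      change χ' 1 = ϑ 1 at h2
      rw [Pi.mul_apply, h2, hd, hη1] at h1
      exact mul_right_cancel₀ hd0 (h1.trans (one_mul _).symm)
    have hβ'c : IsCharacter G β' := IsIrrCharacter.isCharacter hβ'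
    let B' : G →* ℂˣ := linCharUnitsHom hβ'c hβ'1
    have hB' : unitsHomToFun G B' = β' := rfl
    have hB'N : ∀ n : N, B' (n : G) = 1 := by
      intro n
      apply Units.ext
      change β' n = 1
      have := (apply_mul_of_indFun_one_ne_zero N hβ' hβ'B).2 n 1
      rw [mul_one, hβ'1] at this
      exact this
    have hB'k : B' ^ N.index = 1 := pow_index_eq_one_of_trivial_on _ hB'N
    have hB'd : B' ^ d = M * δ⁻¹ := by
      apply unitsHomToFun_injective
      have h3 := detChar_linear_mul hβ'c hβ'1 hηc hη1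
      rw [hβ'χ', hχ'det, ← hM, ← hδ, ← hB', ← map_pow, ← map_mul] at h3
      have h4 := unitsHomToFun_injective h3
      rw [h4]
      congr 1
      exact (mul_inv_cancel_right _ δ).symm
    have := huniq B' hB'd hB'k
    rw [← hβ'χ', ← hB', this]

end Cfsg.Agent.Lib.Helper6
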