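/-
helper6: normal subgroups of prime index above a normal subgroup with solvable quotient.
-/
import Mathlib

set_option autoImplicit false

namespace Cfsg.Agent.Lib.Helper6

variable {G : Type*} [Group G]

/-- If `N` is a proper normal subgroup of the finite group `G` with `G/N` solvable, there is a normal
subgroup of prime index containing `N`. -/
theorem exists_normal_prime_index [Finite G] (N : Subgroup G) [hN : N.Normal] (hne : N ≠ ⊤)
    (hsolv : Group.IsSolvable (G ⧸ N)) :
    ∃ M : Subgroup G, M.Normal ∧ N ≤ M ∧ M.index.Prime := by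
  classical
  -- choose a proper normal subgroup above `N` of maximal order
  let S : Set (Subgroup G) := {M | M.Normal ∧ N ≤ M ∧ M ≠ ⊤}
  have hSfin : S.Finite := Set.toFinite S
  have hSne : S.Nonempty := ⟨N, hN, le_refl N, hne⟩
  obtain ⟨M, hMS, hMmax⟩ := Set.Finite.exists_maximalFor (fun M : Subgroup G => Nat.card M) S hSfin hSne
  obtain ⟨hMn, hNM, hMtop⟩ := hMS
  have hmax : ∀ K : Subgroup G, K.Normal → M ≤ K → K = M ∨ K = ⊤ := by
    intro K hK hMK
    by_cases hKtop : K = ⊤
    · right; exact hKtop
    · left
      have hKS : K ∈ S := ⟨hK, hNM.trans hMK, hKtop⟩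
      have h1 := hMmax hKS (Nat.card_le_card_of_injective (Subgroup.inclusion hMK)
        (Subgroup.inclusion_injective hMK))
      have h2 : Nat.card K = Nat.card M :=
        le_antisymm h1 (Nat.card_le_card_of_injective (Subgroup.inclusion hMK)
          (Subgroup.inclusion_injective hMK))
      exact (Subgroup.eq_of_le_of_card_ge hMK h2.le).symm
  refine ⟨M, hMn, hNM, ?_⟩
  -- the quotient is simple
  have hnt : Nontrivial (G ⧸ M) := by
    rw [← not_subsingleton_iff_nontrivial]
    intro hsub
    apply hMtop
    rw [eq_top_iff]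
    intro x _
    have : (x : G ⧸ M) = 1 := Subsingleton.elim _ _
    exact (QuotientGroup.eq_one_iff x).mp this
  have hsimple : IsSimpleGroup (G ⧸ M) := by
    refine { toNontrivial := hnt, eq_bot_or_eq_top_of_normal := ?_ }
    intro H hH
    have hcn : (H.comap (QuotientGroup.mk' M)).Normal := hH.comap _
    have hle : M ≤ H.comap (QuotientGroup.mk' M) := by
      intro x hx
      rw [Subgroup.mem_comap]
      have : (QuotientGroup.mk' M) x = 1 := (QuotientGroup.eq_one_iff x).mpr hx
      rw [this]
      exact H.one_mem
    rcases hmax _ hcn hle with h | h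
    · left
      rw [eq_bot_iff]
      intro q hq
      obtain ⟨x, rfl⟩ := QuotientGroup.mk'_surjective M q
      have hx : x ∈ H.comap (QuotientGroup.mk' M) := hq
      rw [h] at hx
      rw [Subgroup.mem_bot]
      exact (QuotientGroup.eq_one_iff x).mpr hx
    · right
      rw [eq_top_iff]
      intro q _
      obtain ⟨x, rfl⟩ := QuotientGroup.mk'_surjective M q
      have hx : x ∈ H.comap (QuotientGroup.mk' M) := by rw [h]; exact Subgroup.mem_top x
      exact hx
  have hsolvM : Group.IsSolvable (G ⧸ M) := by
    have hsurj : Function.Surjective (QuotientGroup.map N M (MonoidHom.id G) (by simpa using hNM)) := by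
      intro q
      obtain ⟨x, rfl⟩ := QuotientGroup.mk'_surjective M q
      exact ⟨(x : G ⧸ N), rfl⟩
    exact Group.isSolvable_of_surjective hsurj
  have hcomm : ∀ a b : G ⧸ M, a * b = b * a := IsSimpleGroup.comm_iff_isSolvable.mpr hsolvM
  let _ : CommGroup (G ⧸ M) := { (inferInstance : Group (G ⧸ M)) with mul_comm := hcomm }
  have hp : (Nat.card (G ⧸ M)).Prime := IsSimpleGroup.prime_card
  rwa [← Subgroup.index_eq_card] at hp

end Cfsg.Agent.Lib.Helper6
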