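/-
helper6: extension of invariant characters of coprime degree over solvable quotients
(Isaacs 6.25): `ϑ` extends iff `det ϑ` extends.
-/
import Mathlib
import Cfsg.Agent.Lib.Helper6.DetExt
import Cfsg.Agent.Lib.Helper6.CyclicExtRep
import Cfsg.Agent.Lib.Helper6.PrimeIndex
import Cfsg.Agent.Lib.Helper6.CliffordCorr

set_option autoImplicit false

namespace Cfsg.Agent.Lib.Helper6

open Cfsg Cfsg.Agent.CharLib
open scoped ComplexConjugate

universe u

/-- The quotient of a subgroup `M` by `N ∩ M` is solvable when `G/N` is. -/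
theorem isSolvable_quotient_subgroupOf {G : Type u} [Group G] (N M : Subgroup G) [hN : N.Normal]
    (hsolv : Group.IsSolvable (G ⧸ N)) : Group.IsSolvable (M ⧸ N.subgroupOf M) := by
  let f : M ⧸ N.subgroupOf M →* G ⧸ N :=
    QuotientGroup.map (N.subgroupOf M) N M.subtype (fun x hx => hx)
  have hf : Function.Injective f := by
    rw [injective_iff_map_eq_one]
    intro q hq
    obtain ⟨m, rfl⟩ := QuotientGroup.mk'_surjective (N.subgroupOf M) q
    have h1 : ((m : G) : G ⧸ N) = 1 := hq
    have h2 : (m : G) ∈ N := (QuotientGroup.eq_one_iff _).mp h1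
    exact (QuotientGroup.eq_one_iff m).mpr h2
  exact Group.isSolvable_of_isSolvable_injective hf

theorem exists_extension_of_det_extends_aux : ∀ (k : ℕ) (G : Type u) [Group G] [Finite G]
    (N : Subgroup G) [hN : N.Normal], Nat.card G = k → Group.IsSolvable (G ⧸ N) →
    ∀ (ϑ : N → ℂ), IsIrrCharacter N ϑ → (∀ g : G, conjFun N g ϑ = ϑ) →
    ∀ d : ℕ, ϑ 1 = d → Nat.Coprime N.index d →
    ∀ μ : G → ℂ, IsCharacter G μ → μ 1 = 1 → resFun N μ = detChar ϑ →
    ∃ χ : G → ℂ, IsIrrCharacter G χ ∧ resFun N χ = ϑ := by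
  intro k
  induction k using Nat.strong_induction_on with
  | _ k ih =>
  intro G _ _ N hN hcard hsolv ϑ hϑ hinv d hd hcop μ hμ hμ1 hμN
  classical
  by_cases htop : N = ⊤
  · subst htop
    let e : G ≃* (⊤ : Subgroup G) := Subgroup.topEquiv.symm
    refine ⟨ϑ ∘ e, isIrrCharacter_comp_mulEquiv' e hϑ, ?_⟩
    funext n
    rfl
  · obtain ⟨M, hMn, hNM, hMp⟩ := exists_normal_prime_index N htop hsolv
    have hMtop : M ≠ ⊤ := by
      intro h
      rw [h, Subgroup.index_top] at hMp
      exact Nat.not_prime_one hMp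
    have hcardM : Nat.card M < k := by
      rw [← hcard]
      have h1 := Subgroup.card_mul_index M
      have h2 : 2 ≤ M.index := hMp.two_le
      have h3 : 0 < Nat.card M := Nat.card_pos
      nlinarith
    let _ : Fintype G := Fintype.ofFinite G
    let _ : Fintype M := Fintype.ofFinite M
    let _ : Fintype N := Fintype.ofFinite N
    let _ : Fintype (N.subgroupOf M) := Fintype.ofFinite _
    let e : N.subgroupOf M ≃* N := Subgroup.subgroupOfEquivOfLe hNM
    have hϑ' : IsIrrCharacter (N.subgroupOf M) (ϑ ∘ e) := isIrrCharacter_comp_mulEquiv' e hϑ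
    have hinv' : ∀ m : M, conjFun (N.subgroupOf M) m (ϑ ∘ e) = ϑ ∘ e := by
      intro m
      rw [conjFun_subgroupOf, hinv]
    have hd' : (ϑ ∘ e) 1 = d := by
      rw [Function.comp_apply, map_one, hd]
    have hcop' : Nat.Coprime (N.subgroupOf M).index d := by
      have h1 : (N.subgroupOf M).index ∣ N.index := Subgroup.relIndex_dvd_index_of_le hNM
      exact Nat.Coprime.coprime_dvd_left h1 hcop
    have hμc' : IsCharacter M (resFun M μ) := isCharacter_resFun M hμ
    have hμ1' : resFun M μ 1 = 1 := hμ1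
    have hμN' : resFun (N.subgroupOf M) (resFun M μ) = detChar (ϑ ∘ e) := by
      have h1 : detChar (ϑ ∘ e) = detChar ϑ ∘ e :=
        detChar_comp_hom e.toMonoidHom (IsIrrCharacter.isCharacter hϑ)
      rw [h1, ← hμN]
      rfl
    obtain ⟨η₀, hη₀, hη₀N⟩ := ih (Nat.card M) hcardM M (N.subgroupOf M) rfl
      (isSolvable_quotient_subgroupOf N M hsolv) (ϑ ∘ e) hϑ' hinv' d hd' hcop'
      (resFun M μ) hμc' hμ1' hμN'
    obtain ⟨η, ⟨hη, hηN, hηdet⟩, huniq⟩ :=
      existsUnique_extension_with_det (N.subgroupOf M) hϑ' hd' hcop' hη₀ hη₀N hμc' hμ1' hμN'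
    have hηval : ∀ (m : M) (hm : (m : G) ∈ N), η m = ϑ ⟨m, hm⟩ := by
      intro m hm
      have := congrFun hηN ⟨m, hm⟩
      exact this
    -- invariance of `η`
    have hηinv : ∀ g : G, conjFun M g η = η := by
      intro g
      apply huniq
      refine ⟨isIrrCharacter_conjFun M hη g, ?_, ?_⟩
      · funext n'
        rw [resFun_apply, conjFun_apply]
        have hmem : g * ((n' : M) : G) * g⁻¹ ∈ N := hN.conj_mem _ n'.2 g
        rw [hηval ⟨g * ((n' : M) : G) * g⁻¹, _⟩ hmem]
        have := congrFun (hinv g) (e n')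
        rw [conjFun_apply] at this
        exact this
      · rw [detChar_conjFun M g (IsIrrCharacter.isCharacter hη), hηdet]
        exact conjFun_resFun M (IsCharacter.isClassFunction hμ) g
    have hcyc : IsCyclic (G ⧸ M) := by
      have : Fact M.index.Prime := ⟨hMp⟩
      exact isCyclic_of_prime_card (Subgroup.index_eq_card M).symm
    obtain ⟨χ, hχ, hχM⟩ := exists_irr_extension_of_cyclic M hcyc hη (by
      intro g m
      have := congrFun (hηinv g) m
      rw [conjFun_apply] at this
      exact this)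
    refine ⟨χ, hχ, ?_⟩
    funext n
    rw [resFun_apply]
    have := hχM ⟨n, hNM n.2⟩
    change χ n = _ at this
    rw [this, hηval ⟨n, hNM n.2⟩ n.2]

/-- **Isaacs 6.25**, hard direction: an invariant irreducible character of `N ⊴ G` of degree
coprime to the index, with `G/N` solvable, extends to `G` as soon as its determinant does. -/
theorem exists_extension_of_det_extends {G : Type u} [Group G] [Finite G]
    (N : Subgroup G) [hN : N.Normal] (hsolv : Group.IsSolvable (G ⧸ N))
    {ϑ : N → ℂ} (hϑ : IsIrrCharacter N ϑ) (hinv : ∀ g : G, conjFun N g ϑ = ϑ)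
    {d : ℕ} (hd : ϑ 1 = d) (hcop : Nat.Coprime N.index d)
    {μ : G → ℂ} (hμ : IsCharacter G μ) (hμ1 : μ 1 = 1) (hμN : resFun N μ = detChar ϑ) :
    ∃ χ : G → ℂ, IsIrrCharacter G χ ∧ resFun N χ = ϑ :=
  exists_extension_of_det_extends_aux (Nat.card G) G N rfl hsolv ϑ hϑ hinv d hd hcop μ hμ hμ1 hμN

end Cfsg.Agent.Lib.Helper6
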