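/-
helper6: splitting central extensions by the scalars `ℂˣ` via the transfer (abstract part of
Isaacs 11.31).
-/
import Mathlib
import Cfsg.Agent.Lib.Helper8.TransferMod

set_option autoImplicit false

namespace Cfsg.Agent.Lib.Helper6

section centralSplit

variable {G E : Type*} [Group G] [Group E] (π : E →* G) (ι : ℂˣ →* E) {N : Subgroup G}
  (s : N →* E)

/-- A section over a subgroup `P` of a central extension by `ℂˣ` yields a splitting homomorphism
on the preimage of `P`. -/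
theorem exists_split_of_section (hι : Function.Injective ι)
    (hker : ∀ e, π e = 1 → ∃ c, e = ι c) (hπι : ∀ c, π (ι c) = 1)
    (hcentral : ∀ c e, ι c * e = e * ι c) (P : Subgroup G) (Y : P →* E)
    (hY : ∀ g : P, π (Y g) = g) :
    ∃ ψ : (P.comap π) →* ℂˣ, (∀ (x : P.comap π) (c : ℂˣ), (x : E) = ι c → ψ x = c) ∧
      (∀ (x : P.comap π) (g : P), (x : E) = Y g → ψ x = 1) := by
  classical
  have hex : ∀ x : P.comap π, ∃ c : ℂˣ, (x : E) * (Y ⟨π x, x.2⟩)⁻¹ = ι c := by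
    intro x
    apply hker
    rw [map_mul, map_inv, hY]
    exact mul_inv_cancel _
  choose f hf using hex
  have hmul : ∀ x y : P.comap π, f (x * y) = f x * f y := by
    intro x y
    apply hι
    rw [← hf, map_mul, ← hf x, ← hf y]
    have h1 : (⟨π ((x * y : P.comap π) : E), (x * y).2⟩ : P) =
        (⟨π x, x.2⟩ : P) * ⟨π y, y.2⟩ := by
      apply Subtype.ext
      simp
    rw [h1, map_mul, mul_inv_rev, Subgroup.coe_mul]
    have h2 : (x : E) * (y : E) * ((Y ⟨π y, y.2⟩)⁻¹ * (Y ⟨π x, x.2⟩)⁻¹) =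
        (x : E) * ((y : E) * (Y ⟨π y, y.2⟩)⁻¹) * (Y ⟨π x, x.2⟩)⁻¹ := by group
    rw [h2, hf y, mul_assoc, hcentral, ← mul_assoc]
  refine ⟨MonoidHom.mk' f hmul, ?_, ?_⟩
  · intro x c hx
    apply hι
    change ι (f x) = ι c
    have h2 : (⟨π (x : E), x.2⟩ : P) = 1 := by
      apply Subtype.ext
      change π (x : E) = 1
      rw [hx, hπι]
    rw [← hf, h2, map_one, inv_one, mul_one, hx]
  · intro x g hx
    apply hι
    change ι (f x) = ι 1
    rw [← hf, map_one]
    have h2 : (⟨π (x : E), x.2⟩ : P) = g := by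
      apply Subtype.ext
      change π (x : E) = g
      rw [hx, hY]
    rw [h2, hx, mul_inv_cancel]

/-- If for every prime `p` the extension splits (compatibly with the partial section `s`) over the
preimage of a subgroup of index prime to `p`, it splits. -/
theorem exists_split_of_coprime_indices (hπ : Function.Surjective π) (hπι : ∀ c, π (ι c) = 1)
    (hcentral : ∀ c e, ι c * e = e * ι c) (hπs : ∀ n : N, π (s n) = n)
    (hsnormal : ∀ (e : E) (n : N), ∃ m : N, e⁻¹ * s n * e = s m)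
    (h : ∀ p : ℕ, p.Prime → ∃ P : Subgroup G, N ≤ P ∧ Nat.Coprime P.index p ∧
      ∃ ψ : (P.comap π) →* ℂˣ, (∀ (x : P.comap π) (c : ℂˣ), (x : E) = ι c → ψ x = c) ∧
        (∀ (x : P.comap π) (n : N), (x : E) = s n → ψ x = 1)) :
    ∃ ψ : E →* ℂˣ, (∀ c, ψ (ι c) = c) ∧ ∀ n, ψ (s n) = 1 := by
  classical
  let S : AddSubgroup ℤ :=
    { carrier := {m | ∃ ψ : E →* ℂˣ, (∀ c, ψ (ι c) = c ^ m) ∧ ∀ n, ψ (s n) = 1}
      zero_mem' := ⟨1, fun c => by simp, fun n => by simp⟩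
      add_mem' := by
        rintro a b ⟨ψ₁, h1, h1'⟩ ⟨ψ₂, h2, h2'⟩
        refine ⟨ψ₁ * ψ₂, fun c => ?_, fun n => ?_⟩
        · rw [MonoidHom.mul_apply, h1, h2, zpow_add]
        · rw [MonoidHom.mul_apply, h1', h2', one_mul]
      neg_mem' := by
        rintro a ⟨ψ₁, h1, h1'⟩
        refine ⟨ψ₁⁻¹, fun c => ?_, fun n => ?_⟩
        · rw [MonoidHom.inv_apply, h1, zpow_neg]
        · rw [MonoidHom.inv_apply, h1', inv_one] }
  have hSmem : ∀ m : ℤ, m ∈ S ↔ ∃ ψ : E →* ℂˣ, (∀ c, ψ (ι c) = c ^ m) ∧ ∀ n, ψ (s n) = 1 :=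
    fun m => Iff.rfl
  -- the indices lie in `S`
  have hidx : ∀ p : ℕ, p.Prime → ∃ k : ℕ, Nat.Coprime k p ∧ (k : ℤ) ∈ S := by
    intro p hp
    obtain ⟨P, hNP, hcop, ψ, hψ1, hψ2⟩ := h p hp
    have hPidx : P.index ≠ 0 := by
      intro h0
      rw [h0, Nat.coprime_zero_left] at hcop
      exact hp.one_lt.ne' hcop
    have hHidx : (P.comap π).index = P.index := Subgroup.index_comap_of_surjective P hπ
    have hfi : (P.comap π).FiniteIndex := ⟨by rw [hHidx]; exact hPidx⟩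
    refine ⟨P.index, hcop, (hSmem _).mpr ⟨MonoidHom.transfer ψ, fun c => ?_, fun n => ?_⟩⟩
    · have hmem : ι c ∈ P.comap π := by
        rw [Subgroup.mem_comap, hπι]
        exact P.one_mem
      rw [Cfsg.Agent.Lib.Helper8.transfer_eq_pow_mod ψ (ι c) hmem, hHidx,
        hψ1 ⟨ι c, hmem⟩ c rfl, zpow_natCast]
      intro k g₀ hk
      rw [hψ1 ⟨ι c, hmem⟩ c rfl]
      apply hψ1
      change g₀⁻¹ * (ι c) ^ k * g₀ = ι (c ^ k)
      rw [map_pow, mul_assoc, ← map_pow, hcentral, ← mul_assoc, inv_mul_cancel, one_mul]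
    · have hmem : s n ∈ P.comap π := by
        rw [Subgroup.mem_comap, hπs]
        exact hNP n.2
      rw [Cfsg.Agent.Lib.Helper8.transfer_eq_pow_mod ψ (s n) hmem, hψ2 ⟨s n, hmem⟩ n rfl, one_pow]
      intro k g₀ hk
      rw [hψ2 ⟨s n, hmem⟩ n rfl, one_pow]
      obtain ⟨m, hm⟩ := hsnormal g₀ (n ^ k)
      apply hψ2 _ m
      change g₀⁻¹ * (s n) ^ k * g₀ = s m
      rw [← map_pow, hm]
  obtain ⟨a, ha⟩ := Int.subgroup_cyclic S
  have hdvd : ∀ m ∈ S, a ∣ m := by
    intro m hm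
    rw [ha, AddSubgroup.mem_closure_singleton] at hm
    obtain ⟨k, rfl⟩ := hm
    exact ⟨k, by rw [smul_eq_mul, mul_comm]⟩
  have ha1 : a.natAbs = 1 := by
    by_contra hne
    obtain ⟨p, hp, hpa⟩ := Nat.exists_prime_and_dvd hne
    obtain ⟨k, hcop, hk⟩ := hidx p hp
    have h1 : (p : ℤ) ∣ (k : ℤ) := by
      refine dvd_trans ?_ (hdvd _ hk)
      exact Int.natCast_dvd.mpr hpa
    have h2 : p ∣ k := by exact_mod_cast h1
    have h3 : p ∣ Nat.gcd k p := Nat.dvd_gcd h2 dvd_rfl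
    rw [hcop] at h3
    exact hp.one_lt.ne' (Nat.dvd_one.mp h3)
  have h1S : (1 : ℤ) ∈ S := by
    have haS : a ∈ S := by
      rw [ha]
      exact AddSubgroup.subset_closure rfl
    rcases Int.natAbs_eq a with h | h
    · rw [ha1] at h
      rw [h] at haS
      exact_mod_cast haS
    · rw [ha1] at h
      rw [h] at haS
      have := S.neg_mem haS
      simpa using this
  obtain ⟨ψ, hψ1, hψ2⟩ := (hSmem 1).mp h1S
  exact ⟨ψ, fun c => by rw [hψ1, zpow_one], hψ2⟩

/-- A splitting homomorphism of a central extension by `ℂˣ` yields a section. -/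
theorem exists_section_of_split (hπ : Function.Surjective π)
    (hker : ∀ e, π e = 1 → ∃ c, e = ι c) (hπι : ∀ c, π (ι c) = 1)
    (hπs : ∀ n : N, π (s n) = n)
    (ψ : E →* ℂˣ) (h1 : ∀ c, ψ (ι c) = c) (h2 : ∀ n, ψ (s n) = 1) :
    ∃ Y : G →* E, (∀ g, π (Y g) = g) ∧ ∀ n : N, Y n = s n := by
  classical
  let K : Subgroup E := ψ.ker
  let f : K →* G := π.comp K.subtype
  have hfinj : Function.Injective f := by
    rw [injective_iff_map_eq_one]
    intro x hx
    obtain ⟨c, hc⟩ := hker (x : E) hx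
    have h3 : ψ (x : E) = 1 := x.2
    rw [hc, h1] at h3
    apply Subtype.ext
    rw [hc, h3, map_one]
    rfl
  have hfsurj : Function.Surjective f := by
    intro g
    obtain ⟨e, rfl⟩ := hπ g
    have hmem : e * ι (ψ e)⁻¹ ∈ K := by
      change ψ (e * ι (ψ e)⁻¹) = 1
      rw [map_mul, h1, mul_inv_cancel]
    refine ⟨⟨_, hmem⟩, ?_⟩
    change π (e * ι (ψ e)⁻¹) = π e
    rw [map_mul, hπι, mul_one]
  let fe : K ≃* G := MulEquiv.ofBijective f ⟨hfinj, hfsurj⟩
  refine ⟨K.subtype.comp fe.symm.toMonoidHom, ?_, ?_⟩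
  · intro g
    change f (fe.symm g) = g
    exact fe.apply_symm_apply g
  · intro n
    have hmem : s n ∈ K := h2 n
    have h3 : fe ⟨s n, hmem⟩ = (n : G) := hπs n
    change ((fe.symm (n : G) : K) : E) = s n
    rw [← h3, fe.symm_apply_apply]

end centralSplit

end Cfsg.Agent.Lib.Helper6
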