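/-
helper6: Isaacs 11.31 — an invariant irreducible character of a normal subgroup which extends to
subgroups of index prime to p for all primes p extends to the whole group; proved through the
group of intertwiners (a central extension of G by the scalars) and the transfer.
-/
import Mathlib
import Cfsg.Agent.Lib.Helper6.Ramification2
import Cfsg.Agent.Lib.Helper6.CyclicExtRep
import Cfsg.Agent.Lib.Helper6.CentralSplit

set_option autoImplicit false

namespace Cfsg.Agent.Lib.Helper6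

open Cfsg Cfsg.Agent.CharLib Cfsg.Agent.Lib.Helper24 Matrix
open scoped Kronecker

universe u

variable {G : Type u} [Group G]

section intertwiner

variable (N : Subgroup G) [hN : N.Normal] {d : ℕ} (R : N →* Matrix (Fin d) (Fin d) ℂ)

/-- The group of pairs `(g, P)` with `P` an invertible matrix intertwining `R` with its
`g`-conjugate. -/
def intertwinerGroup : Subgroup (G × (Matrix (Fin d) (Fin d) ℂ)ˣ) where
  carrier := {x | ∀ n : N, (x.2 : Matrix (Fin d) (Fin d) ℂ) * R n =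
    R ⟨x.1 * n * x.1⁻¹, hN.conj_mem n n.2 x.1⟩ * (x.2 : Matrix (Fin d) (Fin d) ℂ)}
  mul_mem' := by
    intro x y hx hy n
    rw [Prod.snd_mul, Units.val_mul, Matrix.mul_assoc, hy n, ← Matrix.mul_assoc,
      hx ⟨y.1 * n * y.1⁻¹, hN.conj_mem n n.2 y.1⟩, Matrix.mul_assoc]
    congr 2
    apply Subtype.ext
    change x.1 * (y.1 * n * y.1⁻¹) * x.1⁻¹ = (x * y).1 * n * (x * y).1⁻¹
    rw [Prod.fst_mul]
    group
  one_mem' := by
    intro n
    rw [Prod.snd_one, Units.val_one, Matrix.one_mul, Matrix.mul_one]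
    congr 1
    apply Subtype.ext
    simp
  inv_mem' := by
    intro x hx n
    have h1 := hx ⟨x.1⁻¹ * n * x.1⁻¹⁻¹, hN.conj_mem n n.2 x.1⁻¹⟩
    have h2 : (⟨x.1 * ((⟨x.1⁻¹ * n * x.1⁻¹⁻¹, hN.conj_mem n n.2 x.1⁻¹⟩ : N) : G) * x.1⁻¹,
        hN.conj_mem _ (hN.conj_mem n n.2 x.1⁻¹) x.1⟩ : N) = n := by
      apply Subtype.ext
      change x.1 * (x.1⁻¹ * n * x.1⁻¹⁻¹) * x.1⁻¹ = n
      group
    rw [h2] at h1
    rw [Prod.snd_inv, Prod.fst_inv]
    have h3 : ((x.2⁻¹ : (Matrix (Fin d) (Fin d) ℂ)ˣ) : Matrix (Fin d) (Fin d) ℂ) *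
        (x.2 : Matrix (Fin d) (Fin d) ℂ) = 1 := by
      rw [← Units.val_mul, inv_mul_cancel, Units.val_one]
    have h4 : (x.2 : Matrix (Fin d) (Fin d) ℂ) *
        ((x.2⁻¹ : (Matrix (Fin d) (Fin d) ℂ)ˣ) : Matrix (Fin d) (Fin d) ℂ) = 1 := by
      rw [← Units.val_mul, mul_inv_cancel, Units.val_one]
    calc ((x.2⁻¹ : (Matrix (Fin d) (Fin d) ℂ)ˣ) : Matrix (Fin d) (Fin d) ℂ) * R n
        = ((x.2⁻¹ : (Matrix (Fin d) (Fin d) ℂ)ˣ) : Matrix (Fin d) (Fin d) ℂ) *
            (R n * (x.2 : Matrix (Fin d) (Fin d) ℂ)) *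
            ((x.2⁻¹ : (Matrix (Fin d) (Fin d) ℂ)ˣ) : Matrix (Fin d) (Fin d) ℂ) := by
          rw [Matrix.mul_assoc, Matrix.mul_assoc, h4, Matrix.mul_one]
      _ = ((x.2⁻¹ : (Matrix (Fin d) (Fin d) ℂ)ˣ) : Matrix (Fin d) (Fin d) ℂ) *
            ((x.2 : Matrix (Fin d) (Fin d) ℂ) * R ⟨x.1⁻¹ * n * x.1⁻¹⁻¹, hN.conj_mem n n.2 x.1⁻¹⟩) *
            ((x.2⁻¹ : (Matrix (Fin d) (Fin d) ℂ)ˣ) : Matrix (Fin d) (Fin d) ℂ) := by rw [h1]
      _ = R ⟨x.1⁻¹ * n * x.1⁻¹⁻¹, hN.conj_mem n n.2 x.1⁻¹⟩ *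
            ((x.2⁻¹ : (Matrix (Fin d) (Fin d) ℂ)ˣ) : Matrix (Fin d) (Fin d) ℂ) := by
          rw [← Matrix.mul_assoc, h3, Matrix.one_mul]

theorem mem_intertwinerGroup (x : G × (Matrix (Fin d) (Fin d) ℂ)ˣ) :
    x ∈ intertwinerGroup N R ↔ ∀ n : N, (x.2 : Matrix (Fin d) (Fin d) ℂ) * R n =
      R ⟨x.1 * n * x.1⁻¹, hN.conj_mem n n.2 x.1⟩ * (x.2 : Matrix (Fin d) (Fin d) ℂ) := Iff.rfl

/-- The projection of the intertwiner group to `G`. -/
def intertwinerFst : intertwinerGroup N R →* G :=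
  (MonoidHom.fst G _).comp (intertwinerGroup N R).subtype

theorem intertwinerFst_apply (x : intertwinerGroup N R) :
    intertwinerFst N R x = (x : G × (Matrix (Fin d) (Fin d) ℂ)ˣ).1 := rfl

/-- The scalar matrices inside the intertwiner group. -/
def intertwinerScalar : ℂˣ →* intertwinerGroup N R :=
  ((MonoidHom.inr G (Matrix (Fin d) (Fin d) ℂ)ˣ).comp
    (Units.map (algebraMap ℂ (Matrix (Fin d) (Fin d) ℂ)).toMonoidHom)).codRestrict
    (intertwinerGroup N R) (by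
      intro c n
      change (algebraMap ℂ (Matrix (Fin d) (Fin d) ℂ) (c : ℂ)) * R n =
        R ⟨1 * n * 1⁻¹, hN.conj_mem n n.2 1⟩ * algebraMap ℂ (Matrix (Fin d) (Fin d) ℂ) (c : ℂ)
      have h : (⟨1 * n * 1⁻¹, hN.conj_mem n n.2 1⟩ : N) = n := Subtype.ext (by simp)
      rw [h]
      exact Algebra.commutes (c : ℂ) (R n))

theorem intertwinerScalar_fst (c : ℂˣ) :
    ((intertwinerScalar N R c : intertwinerGroup N R) : G × (Matrix (Fin d) (Fin d) ℂ)ˣ).1 = 1 := rfl

theorem intertwinerScalar_snd (c : ℂˣ) :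
    (((intertwinerScalar N R c : intertwinerGroup N R) : G × (Matrix (Fin d) (Fin d) ℂ)ˣ).2 :
      Matrix (Fin d) (Fin d) ℂ) = algebraMap ℂ (Matrix (Fin d) (Fin d) ℂ) (c : ℂ) := rfl

/-- The graph of `R` inside the intertwiner group. -/
def intertwinerNormal : N →* intertwinerGroup N R :=
  (MonoidHom.prod N.subtype R.toHomUnits).codRestrict (intertwinerGroup N R) (by
    intro n m
    change ((R.toHomUnits n : (Matrix (Fin d) (Fin d) ℂ)ˣ) : Matrix (Fin d) (Fin d) ℂ) * R m =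
      R ⟨n * m * (n : G)⁻¹, hN.conj_mem m m.2 n⟩ *
        ((R.toHomUnits n : (Matrix (Fin d) (Fin d) ℂ)ˣ) : Matrix (Fin d) (Fin d) ℂ)
    rw [MonoidHom.coe_toHomUnits, ← map_mul, ← map_mul]
    congr 1
    apply Subtype.ext
    simp)

theorem intertwinerNormal_fst (n : N) :
    ((intertwinerNormal N R n : intertwinerGroup N R) : G × (Matrix (Fin d) (Fin d) ℂ)ˣ).1 = n := rfl

theorem intertwinerNormal_snd (n : N) :
    (((intertwinerNormal N R n : intertwinerGroup N R) : G × (Matrix (Fin d) (Fin d) ℂ)ˣ).2 :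
      Matrix (Fin d) (Fin d) ℂ) = R n := rfl

theorem intertwinerFst_surjective
    (hP : ∀ g : G, ∃ P₀ : Matrix (Fin d) (Fin d) ℂ, P₀.det ≠ 0 ∧
      ∀ n : N, P₀ * R n = R ⟨g * n * g⁻¹, hN.conj_mem n n.2 g⟩ * P₀) :
    Function.Surjective (intertwinerFst N R) := by
  intro g
  obtain ⟨P₀, hdet, hP₀⟩ := hP g
  exact ⟨⟨(g, Matrix.nonsingInvUnit P₀ (isUnit_iff_ne_zero.mpr hdet)), hP₀⟩, rfl⟩

theorem intertwinerScalar_injective (hd : 0 < d) : Function.Injective (intertwinerScalar N R) := by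
  intro c c' h
  have h1 := congrArg (fun x : intertwinerGroup N R =>
    ((x : G × (Matrix (Fin d) (Fin d) ℂ)ˣ).2 : Matrix (Fin d) (Fin d) ℂ) ⟨0, hd⟩ ⟨0, hd⟩) h
  simp only [intertwinerScalar_snd, Algebra.algebraMap_eq_smul_one, Matrix.smul_apply,
    Matrix.one_apply_eq, smul_eq_mul, mul_one] at h1
  exact Units.ext h1

theorem intertwinerFst_scalar (c : ℂˣ) : intertwinerFst N R (intertwinerScalar N R c) = 1 := rfl

theorem intertwinerFst_normal (n : N) : intertwinerFst N R (intertwinerNormal N R n) = n := rfl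

theorem exists_scalar_of_fst_eq_one (hd : 0 < d)
    (hschur : ∀ B : Matrix (Fin d) (Fin d) ℂ, (∀ n, B * R n = R n * B) → ∃ c : ℂ, B = c • 1)
    (e : intertwinerGroup N R) (he : intertwinerFst N R e = 1) :
    ∃ c, e = intertwinerScalar N R c := by
  have he' : (e : G × (Matrix (Fin d) (Fin d) ℂ)ˣ).1 = 1 := he
  have hmem := e.2
  rw [mem_intertwinerGroup] at hmem
  have hcomm : ∀ n : N, ((e : G × (Matrix (Fin d) (Fin d) ℂ)ˣ).2 : Matrix (Fin d) (Fin d) ℂ) * R n =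
      R n * ((e : G × (Matrix (Fin d) (Fin d) ℂ)ˣ).2 : Matrix (Fin d) (Fin d) ℂ) := by
    intro n
    have h1 := hmem n
    have h2 : (⟨(e : G × (Matrix (Fin d) (Fin d) ℂ)ˣ).1 * n *
        (e : G × (Matrix (Fin d) (Fin d) ℂ)ˣ).1⁻¹, hN.conj_mem n n.2 _⟩ : N) = n := by
      apply Subtype.ext
      change (e : G × (Matrix (Fin d) (Fin d) ℂ)ˣ).1 * n *
        (e : G × (Matrix (Fin d) (Fin d) ℂ)ˣ).1⁻¹ = n
      rw [he']
      simp
    rw [h2] at h1
    exact h1
  obtain ⟨c, hc⟩ := hschur _ hcomm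
  have hc0 : c ≠ 0 := by
    intro h0
    rw [h0, zero_smul] at hc
    have h1 : ((e : G × (Matrix (Fin d) (Fin d) ℂ)ˣ).2 : Matrix (Fin d) (Fin d) ℂ) *
        (((e : G × (Matrix (Fin d) (Fin d) ℂ)ˣ).2⁻¹ : (Matrix (Fin d) (Fin d) ℂ)ˣ) :
          Matrix (Fin d) (Fin d) ℂ) = 1 := by
      rw [← Units.val_mul, mul_inv_cancel, Units.val_one]
    rw [hc, Matrix.zero_mul] at h1
    have h2 := congrFun (congrFun h1 ⟨0, hd⟩) ⟨0, hd⟩
    simp at h2
  refine ⟨Units.mk0 c hc0, ?_⟩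
  apply Subtype.ext
  apply Prod.ext
  · exact he'
  · apply Units.ext
    rw [intertwinerScalar_snd, hc, Algebra.algebraMap_eq_smul_one]
    rfl

theorem intertwinerScalar_central (c : ℂˣ) (e : intertwinerGroup N R) :
    intertwinerScalar N R c * e = e * intertwinerScalar N R c := by
  apply Subtype.ext
  apply Prod.ext
  · change (1 : G) * (e : G × (Matrix (Fin d) (Fin d) ℂ)ˣ).1 =
      (e : G × (Matrix (Fin d) (Fin d) ℂ)ˣ).1 * 1
    rw [one_mul, mul_one]
  · apply Units.ext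
    change algebraMap ℂ (Matrix (Fin d) (Fin d) ℂ) (c : ℂ) *
      ((e : G × (Matrix (Fin d) (Fin d) ℂ)ˣ).2 : Matrix (Fin d) (Fin d) ℂ) =
      ((e : G × (Matrix (Fin d) (Fin d) ℂ)ˣ).2 : Matrix (Fin d) (Fin d) ℂ) *
        algebraMap ℂ (Matrix (Fin d) (Fin d) ℂ) (c : ℂ)
    exact Algebra.commutes (c : ℂ) _

theorem intertwinerNormal_conj (e : intertwinerGroup N R) (n : N) :
    ∃ m : N, e⁻¹ * intertwinerNormal N R n * e = intertwinerNormal N R m := by
  have h := (mem_intertwinerGroup N R _).mp (e⁻¹).2 n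
  refine ⟨⟨((e⁻¹ : intertwinerGroup N R) : G × (Matrix (Fin d) (Fin d) ℂ)ˣ).1 * n *
    (((e⁻¹ : intertwinerGroup N R) : G × (Matrix (Fin d) (Fin d) ℂ)ˣ).1)⁻¹,
    hN.conj_mem n n.2 _⟩, ?_⟩
  · apply Subtype.ext
    apply Prod.ext
    · change ((e⁻¹ : intertwinerGroup N R) : G × (Matrix (Fin d) (Fin d) ℂ)ˣ).1 * n *
        (e : G × (Matrix (Fin d) (Fin d) ℂ)ˣ).1 =
        ((e⁻¹ : intertwinerGroup N R) : G × (Matrix (Fin d) (Fin d) ℂ)ˣ).1 * n *
          (((e⁻¹ : intertwinerGroup N R) : G × (Matrix (Fin d) (Fin d) ℂ)ˣ).1)⁻¹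
      congr 1
      simp
    · apply Units.ext
      change (((e⁻¹ : intertwinerGroup N R) : G × (Matrix (Fin d) (Fin d) ℂ)ˣ).2 :
          Matrix (Fin d) (Fin d) ℂ) * R n *
        ((e : G × (Matrix (Fin d) (Fin d) ℂ)ˣ).2 : Matrix (Fin d) (Fin d) ℂ) = R _
      rw [h, Matrix.mul_assoc, ← Units.val_mul]
      have h1 : ((e⁻¹ : intertwinerGroup N R) : G × (Matrix (Fin d) (Fin d) ℂ)ˣ).2 *
          (e : G × (Matrix (Fin d) (Fin d) ℂ)ˣ).2 = 1 := by
        change ((e⁻¹ * e : intertwinerGroup N R) : G × (Matrix (Fin d) (Fin d) ℂ)ˣ).2 = 1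
        rw [inv_mul_cancel]
        rfl
      rw [h1, Units.val_one, Matrix.mul_one]

end intertwiner

/-- Matrix form of the extension theorem: a homomorphism `R : N → GL_d(ℂ)` with Schur's property,
conjugation-invariant up to equivalence, which extends to subgroups of index prime to `p` for each
prime `p`, extends to `G`. -/
theorem exists_hom_extension_of_coprime (N : Subgroup G) [hN : N.Normal] {d : ℕ} (hd : 0 < d)
    (R : N →* Matrix (Fin d) (Fin d) ℂ)
    (hschur : ∀ B : Matrix (Fin d) (Fin d) ℂ, (∀ n, B * R n = R n * B) → ∃ c : ℂ, B = c • 1)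
    (hP : ∀ g : G, ∃ P₀ : Matrix (Fin d) (Fin d) ℂ, P₀.det ≠ 0 ∧
      ∀ n : N, P₀ * R n = R ⟨g * n * g⁻¹, hN.conj_mem n n.2 g⟩ * P₀)
    (hsyl : ∀ p : ℕ, p.Prime → ∃ (P : Subgroup G) (hNP : N ≤ P)
      (Y : P →* Matrix (Fin d) (Fin d) ℂ), Nat.Coprime P.index p ∧
        ∀ n : N, Y ⟨n, hNP n.2⟩ = R n) :
    ∃ Y : G →* Matrix (Fin d) (Fin d) ℂ, ∀ n : N, Y n = R n := by
  have hπ := intertwinerFst_surjective N R hP
  have hι := intertwinerScalar_injective N R hd
  have hker := exists_scalar_of_fst_eq_one N R hd hschur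
  have hπι := intertwinerFst_scalar N R
  have hcentral := intertwinerScalar_central N R
  have hπs := intertwinerFst_normal N R
  have hsn := intertwinerNormal_conj N R
  obtain ⟨ψ, hψ1, hψ2⟩ := exists_split_of_coprime_indices (intertwinerFst N R)
      (intertwinerScalar N R) (intertwinerNormal N R) hπ hπι hcentral hπs hsn (by
    intro p hp
    obtain ⟨P, hNP, Y, hcop, hY⟩ := hsyl p hp
    refine ⟨P, hNP, hcop, ?_⟩
    let Yh : P →* intertwinerGroup N R :=
      (MonoidHom.prod P.subtype Y.toHomUnits).codRestrict (intertwinerGroup N R) (by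
        intro g n
        change ((Y.toHomUnits g : (Matrix (Fin d) (Fin d) ℂ)ˣ) : Matrix (Fin d) (Fin d) ℂ) * R n =
          R ⟨g * n * (g : G)⁻¹, hN.conj_mem n n.2 g⟩ *
            ((Y.toHomUnits g : (Matrix (Fin d) (Fin d) ℂ)ˣ) : Matrix (Fin d) (Fin d) ℂ)
        rw [MonoidHom.coe_toHomUnits, ← hY n, ← hY ⟨g * n * (g : G)⁻¹, hN.conj_mem n n.2 g⟩,
          ← map_mul, ← map_mul]
        congr 1
        apply Subtype.ext
        simp)
    have hYh : ∀ g : P, intertwinerFst N R (Yh g) = g := fun g => rfl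
    obtain ⟨ψ, hψ1, hψ2⟩ := exists_split_of_section (intertwinerFst N R) (intertwinerScalar N R)
      hι hker hπι hcentral P Yh hYh
    refine ⟨ψ, hψ1, ?_⟩
    intro x n hx
    apply hψ2 x ⟨n, hNP n.2⟩
    rw [hx]
    apply Subtype.ext
    apply Prod.ext
    · rfl
    · apply Units.ext
      change R n = Y ⟨n, hNP n.2⟩
      rw [hY])
  obtain ⟨Ys, hYs1, hYs2⟩ := exists_section_of_split (intertwinerFst N R) (intertwinerScalar N R)
    (intertwinerNormal N R) hπ hker hπι hπs ψ hψ1 hψ2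
  refine ⟨(Units.coeHom _).comp ((MonoidHom.snd G _).comp
    ((intertwinerGroup N R).subtype.comp Ys)), ?_⟩
  intro n
  change (((Ys (n : G) : intertwinerGroup N R) : G × (Matrix (Fin d) (Fin d) ℂ)ˣ).2 :
    Matrix (Fin d) (Fin d) ℂ) = R n
  rw [hYs2]
  rfl

/-- **Isaacs 11.31** (in a slightly stronger form): an invariant irreducible character `ϑ` of a
normal subgroup `N` which extends to a subgroup `P ≥ N` of index prime to `p`, for every prime
`p`, extends to `G`. -/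
theorem exists_irr_extension_of_coprime [Finite G] (N : Subgroup G) [hN : N.Normal] {ϑ : N → ℂ}
    (hϑ : IsIrrCharacter N ϑ)
    (hinv : ∀ (g : G) (n : N), ϑ ⟨g * n * g⁻¹, hN.conj_mem n n.2 g⟩ = ϑ n)
    (hsyl : ∀ p : ℕ, p.Prime → ∃ (P : Subgroup G) (hNP : N ≤ P) (η : P → ℂ),
      Nat.Coprime P.index p ∧ IsIrrCharacter P η ∧ ∀ n : N, η ⟨n, hNP n.2⟩ = ϑ n) :
    ∃ χ : G → ℂ, IsIrrCharacter G χ ∧ ∀ n : N, χ n = ϑ n := by
  classical
  obtain ⟨d, ρ, hρ, rfl⟩ := hϑ
  have hd : 0 < d := by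
    have := finrank_pos_of_isIrreducible ρ
    rwa [Module.finrank_fin_fun] at this
  let R : N →* Matrix (Fin d) (Fin d) ℂ :=
    { toFun := fun n => LinearMap.toMatrix' (ρ n)
      map_one' := by rw [map_one]; exact LinearMap.toMatrix'_one
      map_mul' := by intro a b; rw [map_mul]; exact LinearMap.toMatrix'_mul _ _ }
  have hR : ∀ n : N, R n = LinearMap.toMatrix' (ρ n) := fun n => rfl
  have hschur : ∀ B : Matrix (Fin d) (Fin d) ℂ, (∀ n, B * R n = R n * B) → ∃ c : ℂ, B = c • 1 := by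
    intro B hB
    obtain ⟨cc, hcc⟩ := exists_eq_smul_one_of_comm ρ (Matrix.toLin' B) (by
      intro n
      have h1 := hB n
      rw [hR] at h1
      have h2 := congrArg Matrix.toLin' h1
      rw [Matrix.toLin'_mul, Matrix.toLin'_mul, Matrix.toLin'_toMatrix'] at h2
      exact h2)
    refine ⟨cc, ?_⟩
    have h3 := congrArg LinearMap.toMatrix' hcc
    rw [LinearMap.toMatrix'_toLin', map_smul] at h3
    rw [h3]
    congr 1
    exact LinearMap.toMatrix'_one
  have hP : ∀ g : G, ∃ P₀ : Matrix (Fin d) (Fin d) ℂ, P₀.det ≠ 0 ∧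
      ∀ n : N, P₀ * R n = R ⟨g * n * g⁻¹, hN.conj_mem n n.2 g⟩ * P₀ := by
    intro g
    let cg : N ≃* N := MulAut.conjNormal g
    let ρ' : Representation ℂ N (Fin d → ℂ) := ρ.comp cg.toMonoidHom
    have hchar : ρ.character = ρ'.character := by
      funext n
      change _ = ρ.character (cg n)
      rw [← hinv g n]
      rfl
    obtain ⟨φ⟩ := nonempty_equiv_of_character_eq ρ ρ' hchar
    refine ⟨LinearMap.toMatrix' φ.toLinearEquiv.toLinearMap, ?_, ?_⟩
    · apply det_ne_zero_of_mul_eq_one (B := LinearMap.toMatrix' φ.toLinearEquiv.symm.toLinearMap)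
      rw [← LinearMap.toMatrix'_comp, LinearEquiv.comp_symm]
      exact LinearMap.toMatrix'_id
    · intro n
      rw [hR, hR, ← LinearMap.toMatrix'_comp, ← LinearMap.toMatrix'_comp]
      congr 1
      exact φ.toIntertwiningMap.isIntertwining' n
  have hsyl' : ∀ p : ℕ, p.Prime → ∃ (P : Subgroup G) (hNP : N ≤ P)
      (Y : P →* Matrix (Fin d) (Fin d) ℂ), Nat.Coprime P.index p ∧
        ∀ n : N, Y ⟨n, hNP n.2⟩ = R n := by
    intro p hp
    obtain ⟨P, hNP, η, hcop, hη, hres⟩ := hsyl p hp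
    obtain ⟨c, σ, hσ, rfl⟩ := hη
    let σN : Representation ℂ N (Fin c → ℂ) := MonoidHom.comp σ (Subgroup.inclusion hNP)
    have hchar : σN.character = ρ.character := funext fun n => hres n
    obtain ⟨φ⟩ := nonempty_equiv_of_character_eq σN ρ hchar
    let σ' : Representation ℂ P (Fin d → ℂ) := conjRep σ φ.toLinearEquiv
    have hσ' : ∀ n : N, σ' ⟨n, hNP n.2⟩ = ρ n := by
      intro n
      apply LinearMap.ext
      intro w
      rw [conjRep_apply]
      have h1 := LinearMap.congr_fun (φ.toIntertwiningMap.isIntertwining' n)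
        (φ.toLinearEquiv.symm w)
      have h2 : φ.toLinearEquiv (φ.toLinearEquiv.symm w) = w := φ.toLinearEquiv.apply_symm_apply w
      have h3 : ρ n w = (ρ n ∘ₗ φ.toIntertwiningMap.toLinearMap) (φ.toLinearEquiv.symm w) := by
        rw [LinearMap.comp_apply]
        congr 1
        exact h2.symm
      rw [h3, ← h1]
      rfl
    refine ⟨P, hNP,
      { toFun := fun g => LinearMap.toMatrix' (σ' g)
        map_one' := by rw [map_one]; exact LinearMap.toMatrix'_one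
        map_mul' := by intro a b; rw [map_mul]; exact LinearMap.toMatrix'_mul _ _ }, hcop, ?_⟩
    intro n
    change LinearMap.toMatrix' (σ' ⟨n, hNP n.2⟩) = LinearMap.toMatrix' (ρ n)
    rw [hσ']
  obtain ⟨Y, hY⟩ := exists_hom_extension_of_coprime N hd R hschur hP hsyl'
  let ρG : Representation ℂ G (Fin d → ℂ) :=
    { toFun := fun g => Matrix.toLin' (Y g)
      map_one' := by rw [map_one, Matrix.toLin'_one]; rfl
      map_mul' := by intro a b; rw [map_mul, Matrix.toLin'_mul]; rfl }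
  have hρG : ∀ n : N, ρG n = ρ n := by
    intro n
    change Matrix.toLin' (Y n) = ρ n
    rw [hY, hR, Matrix.toLin'_toMatrix']
  have hres : (MonoidHom.comp ρG N.subtype : Representation ℂ N (Fin d → ℂ)) = ρ := by
    apply MonoidHom.ext
    intro n
    exact hρG n
  have hirr : ρG.IsIrreducible := isIrreducible_of_comp N.subtype ρG (by rw [hres]; exact hρ)
  refine ⟨ρG.character, ⟨d, ρG, hirr, rfl⟩, ?_⟩
  intro n
  change LinearMap.trace ℂ _ (ρG n) = LinearMap.trace ℂ _ (ρ n)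
  rw [hρG]

end Cfsg.Agent.Lib.Helper6
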