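import Mathlib
import Cfsg.Agent.Lib.Helper5.TWS.Defs

/-!
S5668 (C7 symplectic; owner helper5), symplectic toolkit: ST1' `sfT_tens`, ST1'' `sfT_tens_right` (the tensor power form splits
at position `i`), exact signatures of notes/S5668_I_leaves.lean (helper6; ports of `Helper23.TWULeaf.hv_tens`, `hv_tens_right`).
-/

set_option autoImplicit false
set_option linter.unusedSectionVars false
set_option linter.unusedVariables false

namespace Cfsg.Agent.Lib.Helper6.TWSLeaf
open Matrix Cfsg.Geo Cfsg.Agent.Lib.Helper18.AschA89 Cfsg.Agent.Lib.Helper8.TW Cfsg.Agent.Lib.Helper5.TWS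
open Cfsg.Agent.Lib.Helper25.SpT (sf Jm sfv)

variable {F : Type*} [Field F] [Fintype F] {t k : ℕ}

/-- the Gram matrix splits at position `i` -/
theorem JT_ins (i : Fin (t + 1)) (α β : Fin k) (u u' : Idx t k) :
    JT (t + 1) k F (ins i α u) (ins i β u') = (Jm k : Matrix (Fin k) (Fin k) F) α β * JT t k F u u' := by
  rw [JT_apply, Fin.prod_univ_succAbove _ i, ins_same, ins_same, JT_apply]
  congr 1
  apply Finset.prod_congr rfl
  intro j _
  rw [ins_succAbove, ins_succAbove]

/-- ST1' (M) the form splits at position `i` -/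
theorem sfT_tens (i : Fin (t + 1)) (b b' : Idx t k → F) (a a' : Fin k → F) :
    sfT (tens i b a) (tens i b' a') = sfT b b' * sf a a' := by
  rw [sfT_eq_sum, sfT_eq_sum, Cfsg.Agent.Lib.Helper25.SpT.sf_eq_sum, sum_ins i]
  have h1 : ∀ (α : Fin k) (u : Idx t k),
      ∑ z, tens i b a (ins i α u) * JT (t + 1) k F (ins i α u) z * tens i b' a' z =
        ∑ β : Fin k, ∑ u' : Idx t k, (b u * JT t k F u u' * b' u') * (a α * (Jm k : Matrix (Fin k) (Fin k) F) α β * a' β) := by
    intro α u
    rw [sum_ins i]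
    apply Finset.sum_congr rfl
    intro β _
    apply Finset.sum_congr rfl
    intro u' _
    rw [JT_ins]
    unfold tens
    simp only [ins_same, ins_succAbove]
    ring
  simp only [h1]
  rw [Finset.sum_mul_sum]
  rw [Finset.sum_comm]
  apply Finset.sum_congr rfl
  intro u _
  apply Finset.sum_congr rfl
  intro α _
  rw [Finset.sum_mul_sum, Finset.sum_comm]

/-- ST1'' (M) `sfT v (b ⊗ a) = sfT (ctr i (sfv a) v) b` -/
theorem sfT_tens_right (i : Fin (t + 1)) (v : Idx (t + 1) k → F) (b : Idx t k → F) (a : Fin k → F) :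
    sfT v (tens i b a) = sfT (ctr i (sfv a) v) b := by
  rw [sfT_eq_sum, sfT_eq_sum, sum_ins i, Finset.sum_comm]
  apply Finset.sum_congr rfl
  intro u _
  have h1 : ∀ α : Fin k, ∑ z, v (ins i α u) * JT (t + 1) k F (ins i α u) z * tens i b a z =
      ∑ u' : Idx t k, (∑ β : Fin k, (Jm k : Matrix (Fin k) (Fin k) F) α β * a β) * v (ins i α u) * JT t k F u u' * b u' := by
    intro α
    rw [sum_ins i, Finset.sum_comm]
    apply Finset.sum_congr rfl
    intro u' _
    rw [Finset.sum_mul, Finset.sum_mul, Finset.sum_mul]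
    apply Finset.sum_congr rfl
    intro β _
    rw [JT_ins]
    unfold tens
    simp only [ins_same, ins_succAbove]
    ring
  simp only [h1]
  rw [Finset.sum_comm]
  apply Finset.sum_congr rfl
  intro u' _
  unfold ctr sfv
  rw [Finset.sum_mul, Finset.sum_mul]
  apply Finset.sum_congr rfl
  intro α _
  simp only [Matrix.mulVec, dotProduct]

end Cfsg.Agent.Lib.Helper6.TWSLeaf
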