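import Mathlib
import Cfsg.Prelude.Def_GeometricClasses
import Cfsg.Agent.Lib.Helper5.SUMax
import Cfsg.Agent.Lib.Helper18.C2Defs

/-!
# S5655 part A (`k ≥ 2`): shared definitions (helper6)

`D` is a non-degenerate `k`-decomposition for the standard unitary form, `H = Stab(D) ∩ SU_n(q)`,
`H ≤ M ≤ SU_n(q)`.  `Sset hF M` (helper5, `SUMax`) is the set of centres of the unitary transvection
groups contained in `M`.  `PairGood hF D M i j`: every isotropic vector of `D i ⊕ D j` is such a centre.
-/

set_option autoImplicit false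
set_option linter.unusedSectionVars false
set_option linter.unusedVariables false

namespace Cfsg.Agent.Lib.Helper6.UA
open Cfsg Matrix Cfsg.Agent.Lib.Helper5.UForm Cfsg.Agent.Lib.Helper5.HermBridge
  Cfsg.Agent.Lib.Helper5.SUGen Cfsg.Agent.Lib.Helper5.SUMax Cfsg.Agent.Lib.Helper18.C2

variable {F : Type*} [Field F] [Fintype F] {q n t k : ℕ}

/-- the stabiliser of the decomposition inside `SU_n(q)`, as a subgroup of `GL_n` -/
def HU (D : Fin t → Submodule F (Fin n → F)) (q : ℕ) : Subgroup (GL (Fin n) F) :=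
  Cfsg.Geo.decompositionStabilizer D ⊓ (Cfsg.GU n F q ⊓ Cfsg.Geo.specialLinear (Fin n) F)

/-- every isotropic vector of `D i ⊕ D j` is the centre of a full transvection group of `M` -/
def PairGood (hF : Fintype.card F = q ^ 2) (D : Fin t → Submodule F (Fin n → F))
    (M : Subgroup (GL (Fin n) F)) (i j : Fin t) : Prop :=
  ∀ x ∈ D i, ∀ y ∈ D j, Cfsg.hermForm n F q (x + y) (x + y) = 0 → x + y ∈ Sset hF M

section Basic
variable {D : Fin t → Submodule F (Fin n → F)}
  (hD : Cfsg.Geo.IsNondegenerateMDecomposition (Cfsg.hermForm n F q) k D)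
include hD

lemma ND_block (i : Fin t) : ND (Cfsg.hermForm n F q) (D i) :=
  fun x hx hx0 => (hD.nondegenerate i x hx hx0).1

lemma orth {i j : Fin t} (hij : i ≠ j) {x y : Fin n → F} (hx : x ∈ D i) (hy : y ∈ D j) :
    Cfsg.hermForm n F q x y = 0 := hD.orthogonal i j hij x hx y hy

end Basic

end Cfsg.Agent.Lib.Helper6.UA
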