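import Mathlib
import Cfsg.Prelude.Def_BlockRank
import Cfsg.Agent.Lib.Helper27.DODefs
import Cfsg.Agent.Lib.Helper27.BlkAlgDefs2
import Cfsg.Agent.Lib.Helper16.DOCONJ
import Cfsg.Agent.Lib.Helper29.DOTI
import Cfsg.Agent.Lib.Helper26.DOSETUP
import Cfsg.Agent.Lib.Lead.CharInd
import Cfsg.Agent.Lib.Lead.CharMain
import Cfsg.Agent.Lib.Helper6.DefectOrder
import Cfsg.Agent.Lib.Helper6.FirstMain
import Cfsg.Agent.Lib.Helper6.Def1AbsMain
import Cfsg.Agent.Lib.Helper16.DOINERT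

/-!
helper6: defect-one cluster, Part O, the common core of the leaves DO-GRAM (`gram_main`) and DO-ORTH (`orth_main`),
ROUTE I: `Φ_i := Ind_C^G (φ_i - θ)` (`φ_i` the member of the block of `θ` with central index `i`).
* `⟨Φ_i, χ⟩ = μ χ i - μ χ 0` (Frobenius), `= 0` off `B`;
* `Φ_i` vanishes on the `p`-regular elements (ORTH);
* `⟨Φ_i, Φ_j⟩ = |C|⁻¹ ∑_{n ∈ N} ⟨φ_i - θ, (φ_j - θ)^n⟩_C` (the `p`-singular elements of `C` are a TI-set with normalizer
  `N`) `= e + [i j⁻¹ ∈ E]` (GRAM).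
-/

set_option autoImplicit false
set_option linter.unusedSectionVars false

namespace Cfsg.Agent.Lib.Helper6.DOGS

open Cfsg Cfsg.Agent.Lib.Helper8.DOM Cfsg.Agent.Lib.Helper27.DO Cfsg.Agent.Lib.Helper27.BlkAlg
open Cfsg.Agent.CharLib
open scoped ComplexConjugate

universe u

section ti

variable {G : Type u} [Group G] [Fintype G] {p : ℕ} [Fact p.Prime]

/-- TI: a conjugate of a `p`-singular element of `C` lies in `C` only if the conjugating element normalizes `P`. -/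
theorem mem_Nz_of_conj_mem_Cz (P : Subgroup G) (hP : Nat.card P = p) (hSyl : ¬ p ∣ P.index)
    (c : G) (hc : c ∈ Cz P) (hcs : p ∣ orderOf c) (t : G) (h : t * c * t⁻¹ ∈ Cz P) : t ∈ Nz P := by
  have hpp : p.Prime := Fact.out
  set m := orderOf c / p with hmdef
  have hm : p * m = orderOf c := Nat.mul_div_cancel' hcs
  have ho : 0 < orderOf c := orderOf_pos c
  have hm0 : 0 < m := by
    rcases Nat.eq_zero_or_pos m with h0 | h0
    · rw [h0, mul_zero] at hm
      omega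
    · exact h0
  have hmlt : m < orderOf c := by
    rw [← hm]
    have := hpp.one_lt
    nlinarith
  have hz1 : c ^ m ≠ 1 := by
    intro h1
    have := Nat.le_of_dvd hm0 (orderOf_dvd_of_pow_eq_one h1)
    omega
  have hzp : (c ^ m) ^ p = 1 := by rw [← pow_mul, mul_comm, hm, pow_orderOf_eq_one]
  have hzP : c ^ m ∈ P := Cfsg.Agent.Lib.Helper29.DOTI.mem_of_mem_Cz P hP hSyl (pow_mem hc m) hzp
  have h2 : t * c ^ m * t⁻¹ ∈ P := by
    apply Cfsg.Agent.Lib.Helper29.DOTI.mem_of_mem_Cz P hP hSyl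
    · rw [← conj_pow]
      exact pow_mem h m
    · rw [conj_pow, hzp]
      simp
  exact Cfsg.Agent.Lib.Helper29.DOTI.mem_Nz_of_conj_mem_P P hP hzP hz1 h2

/-- The values on `C` of a function induced from `C` that vanishes on the `p`-regular elements. -/
theorem indFun_Cz_apply (P : Subgroup G) (hP : Nat.card P = p) (hSyl : ¬ p ∣ P.index)
    (α : Cz P → ℂ) (hα : ∀ c : Cz P, ¬ p ∣ orderOf c → α c = 0) (c : Cz P) :
    indFun (Cz P) α (c : G) = (Nat.card (Cz P) : ℂ)⁻¹ * ∑ᶠ n : Nz P, conjC P n α c := by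
  classical
  unfold indFun
  congr 1
  have h1 : ∀ x : G, extendByZero (Cz P) α (x⁻¹ * (c : G) * x) =
      if hx : x ∈ Nz P then conjC P (⟨x, hx⟩ : Nz P)⁻¹ α c else 0 := by
    intro x
    split_ifs with hx
    · have hmem : x⁻¹ * (c : G) * x ∈ Cz P := by
        have := conj_mem_Cz P ((Nz P).inv_mem hx) c.2
        simpa using this
      have h2 : x⁻¹ * (c : G) * x = ((⟨x⁻¹ * (c : G) * x, hmem⟩ : Cz P) : G) := rfl
      rw [h2, extendByZero_apply_coe]
      show α _ = α _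
      congr 1
      apply Subtype.ext
      show x⁻¹ * (c : G) * x = ((⟨x, hx⟩ : Nz P)⁻¹ : Nz P) * (c : G) * (((⟨x, hx⟩ : Nz P)⁻¹ : Nz P) : G)⁻¹
      rw [Subgroup.coe_inv]
      simp
    · by_cases hmem : x⁻¹ * (c : G) * x ∈ Cz P
      · have h2 : x⁻¹ * (c : G) * x = ((⟨x⁻¹ * (c : G) * x, hmem⟩ : Cz P) : G) := rfl
        rw [h2, extendByZero_apply_coe]
        apply hα
        intro hdvd
        apply hx
        rw [← Subgroup.orderOf_coe] at hdvd
        have hdvd' : p ∣ orderOf (c : G) := by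
          have h3 : orderOf (x⁻¹ * (c : G) * x) = orderOf (c : G) := by
            have := MulEquiv.orderOf_eq (MulAut.conj x⁻¹) (c : G)
            rwa [MulAut.conj_apply, inv_inv] at this
          rw [← h3]
          exact hdvd
        have h4 := mem_Nz_of_conj_mem_Cz P hP hSyl (c : G) c.2 hdvd' x⁻¹ (by rwa [inv_inv])
        have := (Nz P).inv_mem h4
        rwa [inv_inv] at this
      · exact extendByZero_apply_of_not_mem _ _ hmem
  rw [Finset.sum_congr rfl (fun x _ => h1 x), finsum_eq_sum_of_fintype]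
  rw [Finset.sum_dite, Finset.sum_const_zero, add_zero]
  have h5 : ∑ n : Nz P, conjC P n α c = ∑ n : Nz P, conjC P n⁻¹ α c :=
    (Equiv.sum_comp (Equiv.inv (Nz P)) (fun n => conjC P n α c)).symm
  rw [h5]
  refine Finset.sum_bij' (fun x _ => ⟨x.1, (Finset.mem_filter.mp x.2).2⟩) (fun n _ => ⟨n.1, by simp⟩) ?_ ?_ ?_ ?_ ?_
  · intro a _
    exact Finset.mem_univ _
  · intro a _
    exact Finset.mem_univ _
  · intro a _
    rfl
  · intro a _
    rfl
  · intro a _
    rfl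

/-- The inner product of two functions induced from `C`, the second vanishing on the `p`-regular elements. -/
theorem classInner_indFun_indFun (P : Subgroup G) (hP : Nat.card P = p) (hSyl : ¬ p ∣ P.index)
    [Fintype (Cz P)] (α β : Cz P → ℂ) (hβ : ∀ c : Cz P, ¬ p ∣ orderOf c → β c = 0) :
    classInner (indFun (Cz P) α) (indFun (Cz P) β) =
      (Nat.card (Cz P) : ℂ)⁻¹ * ∑ᶠ n : Nz P, classInner α (conjC P n β) := by
  classical
  rw [frobenius_reciprocity (Cz P) α (indFun_isClassFunction (Cz P) β)]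
  have h1 : (fun h : Cz P => indFun (Cz P) β (h : G)) =
      fun h => (Nat.card (Cz P) : ℂ)⁻¹ * ∑ n : Nz P, conjC P n β h := by
    funext h
    rw [indFun_Cz_apply P hP hSyl β hβ h, finsum_eq_sum_of_fintype]
  rw [h1, finsum_eq_sum_of_fintype]
  unfold classInner
  have h2 : ∀ h : Cz P, α h * conj ((Nat.card (Cz P) : ℂ)⁻¹ * ∑ n : Nz P, conjC P n β h) =
      ∑ n : Nz P, (Nat.card (Cz P) : ℂ)⁻¹ * (α h * conj (conjC P n β h)) := by
    intro h
    rw [map_mul, map_sum, map_inv₀, Complex.conj_natCast, Finset.mul_sum, Finset.mul_sum]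
    apply Finset.sum_congr rfl
    intro n _
    ring
  simp only [h2]
  rw [Finset.sum_comm]
  congr 1
  apply Finset.sum_congr rfl
  intro n _
  rw [Finset.mul_sum]

end ti

section loc

variable {G : Type u} [Group G] [Finite G] {p : ℕ} [Fact p.Prime] {M : Ideal AlgInt}

/-- The conclusion of the leaf LOC2 (`block_of_pTriv`). -/
def Loc2 (p : ℕ) (M : Ideal AlgInt) (P : Subgroup G) (x0 : G) (θ : IrrCharacter (Cz P)) : Prop :=
  (∀ i : ZMod p, ∃! φ : IrrCharacter (Cz P),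
      φ ∈ blockOf M (θ : Cz P → ℂ) ∧ HasIdx p P x0 (φ : Cz P → ℂ) i) ∧
    (∀ φ ∈ blockOf M (θ : Cz P → ℂ), ∀ y : Cz P, ¬ p ∣ orderOf y →
      (φ : Cz P → ℂ) y = (θ : Cz P → ℂ) y) ∧
    (∀ φ ∈ blockOf M (θ : Cz P → ℂ), PTriv P (φ : Cz P → ℂ) → φ = θ)

variable {P : Subgroup G} {x0 : G} {θ : IrrCharacter (Cz P)}

/-- the member of the block of `θ` with central index `i` -/
noncomputable def phi (h2 : Loc2 p M P x0 θ) (i : ZMod p) : IrrCharacter (Cz P) :=
  (h2.1 i).exists.choose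

theorem phi_mem (h2 : Loc2 p M P x0 θ) (i : ZMod p) : phi h2 i ∈ blockOf M (θ : Cz P → ℂ) :=
  ((h2.1 i).exists.choose_spec).1

theorem phi_idx (h2 : Loc2 p M P x0 θ) (i : ZMod p) :
    HasIdx p P x0 (phi h2 i : Cz P → ℂ) i :=
  ((h2.1 i).exists.choose_spec).2

theorem eq_phi (h2 : Loc2 p M P x0 θ) (i : ZMod p) (φ : IrrCharacter (Cz P))
    (hφ : φ ∈ blockOf M (θ : Cz P → ℂ)) (hi : HasIdx p P x0 (φ : Cz P → ℂ) i) : φ = phi h2 i :=
  (h2.1 i).unique ⟨hφ, hi⟩ ⟨phi_mem h2 i, phi_idx h2 i⟩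

omit [Finite G] [Fact p.Prime] in
theorem x0_mem_P (hx0 : P = Subgroup.zpowers x0) : x0 ∈ P := by
  rw [hx0]
  exact Subgroup.mem_zpowers x0

omit [Finite G] [Fact p.Prime] in
theorem x0_mem_Cz (hx0 : P = Subgroup.zpowers x0) : x0 ∈ Cz P := by
  rw [Subgroup.mem_centralizer_iff]
  intro y hy
  rw [SetLike.mem_coe, hx0] at hy
  obtain ⟨m, rfl⟩ := Subgroup.mem_zpowers_iff.mp hy
  exact ((Commute.refl x0).zpow_left m)

/-- the central index of an irreducible character is unique -/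
theorem hasIdx_unique (hx0 : P = Subgroup.zpowers x0) (φ : IrrCharacter (Cz P)) (i j : ZMod p)
    (hi : HasIdx p P x0 (φ : Cz P → ℂ) i) (hj : HasIdx p P x0 (φ : Cz P → ℂ) j) : i = j := by
  have hpp : p.Prime := Fact.out
  have hζ : IsPrimitiveRoot (zetaP p) p := Complex.isPrimitiveRoot_exp p hpp.ne_zero
  have h1 := hi 1 ⟨x0, x0_mem_Cz hx0⟩ (by simp)
  have h2 := hj 1 ⟨x0, x0_mem_Cz hx0⟩ (by simp)
  obtain ⟨k, hk, hk1⟩ := IsIrrCharacter.apply_one_pos φ.2
  have h3 : (φ : Cz P → ℂ) 1 ≠ 0 := by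
    rw [hk1]
    exact_mod_cast hk.ne'
  have h4 : zetaP p ^ i.val = zetaP p ^ j.val := by
    apply mul_right_cancel₀ h3
    rw [← h1, ← h2]
  exact ZMod.val_injective p (hζ.pow_inj (ZMod.val_lt i) (ZMod.val_lt j) h4)

theorem phi_inj (h2 : Loc2 p M P x0 θ) (hx0 : P = Subgroup.zpowers x0) (i j : ZMod p)
    (h : phi h2 i = phi h2 j) : i = j := by
  have hi := phi_idx h2 i
  have hj := phi_idx h2 j
  rw [h] at hi
  exact hasIdx_unique hx0 _ i j hi hj

/-- `θ` itself has central index `0` -/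
theorem hasIdx_zero_of_pTriv (hx0 : P = Subgroup.zpowers x0) (hθP : PTriv P (θ : Cz P → ℂ)) :
    HasIdx p P x0 (θ : Cz P → ℂ) 0 := by
  classical
  have : Fintype (Cz P) := Fintype.ofFinite _
  intro c c' hc
  rw [ZMod.val_zero, pow_zero, one_mul]
  set z : Cz P := ⟨x0, x0_mem_Cz hx0⟩ with hz
  have hzc : ∀ h : Cz P, h * z = z * h := by
    intro h
    apply Subtype.ext
    show (h : G) * x0 = x0 * (h : G)
    exact (Subgroup.mem_centralizer_iff.mp h.2 x0 (x0_mem_P hx0)).symm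
  have h1 := Cfsg.Agent.Lib.Helper6.irr_mul_central θ z hzc 1
  rw [one_mul] at h1
  have h2 : (θ : Cz P → ℂ) z = (θ : Cz P → ℂ) 1 := hθP z (x0_mem_P hx0)
  obtain ⟨k, hk, hk1⟩ := IsIrrCharacter.apply_one_pos θ.2
  have h3 : (θ : Cz P → ℂ) 1 ≠ 0 := by
    rw [hk1]
    exact_mod_cast hk.ne'
  have h4 : centralChar (θ : Cz P → ℂ) z = 1 := by
    apply mul_right_cancel₀ h3
    rw [← h1, h2, one_mul]
  have h5 := Cfsg.Agent.Lib.Helper6.irr_mul_central θ z hzc c
  rw [h4, one_mul] at h5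
  rw [← h5]
  have h6 : c' = c * z := by
    apply Subtype.ext
    rw [hc]
    exact (congrArg Subtype.val (hzc c)).symm
  rw [h6]

theorem phi_zero (hM : IsPModular p M) (h2 : Loc2 p M P x0 θ) (hx0 : P = Subgroup.zpowers x0)
    (hθP : PTriv P (θ : Cz P → ℂ)) : phi h2 0 = θ := by
  have : M.IsPrime := hM.2.1.isPrime
  exact (eq_phi h2 0 θ (Cfsg.Agent.Lib.Helper6.mem_blockOf_self θ)
    (hasIdx_zero_of_pTriv hx0 hθP)).symm

omit [Finite G] [Fact p.Prime] in
theorem mem_T_iff (T : Subgroup G) (hT : IsInertia P (θ : Cz P → ℂ) T) (n : Nz P) :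
    (n : G) ∈ T ↔ conjC P n (θ : Cz P → ℂ) = (θ : Cz P → ℂ) := by
  constructor
  · intro h
    funext c
    exact ((hT n).mp h).2 c ⟨_, conj_mem_Cz P n.2 c.2⟩ rfl
  · intro h
    apply (hT n).mpr
    refine ⟨n.2, fun c c' hc => ?_⟩
    have h1 := congrFun h c
    rw [← h1]
    have h3 : c' = ⟨(n : G) * (c : G) * (n : G)⁻¹, conj_mem_Cz P n.2 c.2⟩ := Subtype.ext hc
    rw [h3]
    rfl

/-- conjugation by `n ∈ T` permutes the block of `θ` -/
theorem conjC_phi_of_mem (h2 : Loc2 p M P x0 θ) (hx0 : P = Subgroup.zpowers x0) (T : Subgroup G)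
    (hT : IsInertia P (θ : Cz P → ℂ) T) (n : Nz P) (hn : (n : G) ∈ T) (u : (ZMod p)ˣ)
    (hu : (n : G) * x0 * (n : G)⁻¹ = x0 ^ (u : ZMod p).val) (j : ZMod p) :
    conjC P n (phi h2 j : Cz P → ℂ) = (phi h2 ((u : ZMod p) * j) : Cz P → ℂ) := by
  have h1 := Cfsg.Agent.Lib.Helper16.DOCONJ.mem_blockOf_conjC (M := M) P n θ (phi h2 j) (phi_mem h2 j)
  rw [(mem_T_iff T hT n).mp hn] at h1
  have h3 := Cfsg.Agent.Lib.Helper16.DOCONJ.hasIdx_conjC P x0 hx0 n u hu _ j (phi_idx h2 j)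
  have h4 := eq_phi h2 _ ⟨conjC P n (phi h2 j : Cz P → ℂ),
    Cfsg.Agent.Lib.Helper16.DOCONJ.isIrrCharacter_conjC P n (phi h2 j)⟩ h1 h3
  exact congrArg Subtype.val h4

/-- conjugation by `n ∈ N ∖ T` moves the block of `θ` off itself -/
theorem conjC_phi_ne_of_not_mem (hM : IsPModular p M) (h2 : Loc2 p M P x0 θ)
    (hθP : PTriv P (θ : Cz P → ℂ)) (T : Subgroup G)
    (hT : IsInertia P (θ : Cz P → ℂ) T) (n : Nz P) (hn : (n : G) ∉ T) (i j : ZMod p) :
    (phi h2 i : Cz P → ℂ) ≠ conjC P n (phi h2 j : Cz P → ℂ) := by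
  intro h
  have : M.IsPrime := hM.2.1.isPrime
  apply hn
  rw [mem_T_iff T hT n]
  have h1 := Cfsg.Agent.Lib.Helper16.DOCONJ.mem_blockOf_conjC (M := M) P n θ (phi h2 j) (phi_mem h2 j)
  have h3 : SameBlock M (conjC P n (θ : Cz P → ℂ)) (phi h2 i : Cz P → ℂ) := by
    rw [h]
    exact h1
  have h4 : SameBlock M (θ : Cz P → ℂ) (phi h2 i : Cz P → ℂ) := phi_mem h2 i
  have h5 : (⟨conjC P n (θ : Cz P → ℂ), Cfsg.Agent.Lib.Helper16.DOCONJ.isIrrCharacter_conjC P n θ⟩ :
      IrrCharacter (Cz P)) ∈ blockOf M (θ : Cz P → ℂ) :=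
    Cfsg.Agent.Lib.Helper6.sameBlock_trans h4 (Cfsg.Agent.Lib.Helper6.sameBlock_symm h3)
  have h6 := h2.2.2 _ h5 (Cfsg.Agent.Lib.Helper16.DOCONJ.pTriv_conjC P n _ hθP)
  exact congrArg Subtype.val h6

omit [Finite G] [Fact p.Prime] in
theorem conjC_sub (n : Nz P) (a b : Cz P → ℂ) : conjC P n (a - b) = conjC P n a - conjC P n b := rfl

omit [Finite G] [Fact p.Prime] in
theorem classInner_sub_right' {X : Type*} [Group X] [Fintype X] (φ ψ₁ ψ₂ : X → ℂ) :
    classInner φ (ψ₁ - ψ₂) = classInner φ ψ₁ - classInner φ ψ₂ := by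
  have h : ψ₁ - ψ₂ = ψ₁ + (-1 : ℂ) • ψ₂ := by
    funext x
    simp [sub_eq_add_neg]
  rw [h, classInner_add_right, classInner_smul_right]
  simp [sub_eq_add_neg]

open Classical in
/-- the local inner products -/
theorem classInner_alpha_conjC [Fintype (Cz P)] (hM : IsPModular p M) (h2 : Loc2 p M P x0 θ)
    (hP : Nat.card P = p) (hx0 : P = Subgroup.zpowers x0)
    (hθP : PTriv P (θ : Cz P → ℂ)) (T : Subgroup G)
    (hT : IsInertia P (θ : Cz P → ℂ) T) (n : Nz P) (i j : (ZMod p)ˣ) :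
    classInner ((phi h2 i : Cz P → ℂ) - (phi h2 0 : Cz P → ℂ))
        (conjC P n ((phi h2 j : Cz P → ℂ) - (phi h2 0 : Cz P → ℂ))) =
      (if (n : G) ∈ T ∧ (n : G) * x0 * (n : G)⁻¹ = x0 ^ ((i * j⁻¹ : (ZMod p)ˣ) : ZMod p).val
        then 1 else 0) + (if (n : G) ∈ T then 1 else 0) := by
  classical
  have hord : orderOf x0 = p := Cfsg.Agent.Lib.Helper26.DOSETUP.orderOf_gen P hP x0 hx0
  rw [conjC_sub, classInner_sub_left, classInner_sub_right', classInner_sub_right']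
  by_cases hn : (n : G) ∈ T
  · obtain ⟨u, hu⟩ := Cfsg.Agent.Lib.Helper26.DOSETUP.exists_unit P x0 hx0 hord (n : G) n.2
    rw [conjC_phi_of_mem h2 hx0 T hT n hn u hu, conjC_phi_of_mem h2 hx0 T hT n hn u hu, mul_zero,
      classInner_irr', classInner_irr', classInner_irr', classInner_irr']
    have e1 : (phi h2 (i : ZMod p) = phi h2 ((u : ZMod p) * (j : ZMod p))) ↔
        ((n : G) ∈ T ∧ (n : G) * x0 * (n : G)⁻¹ = x0 ^ ((i * j⁻¹ : (ZMod p)ˣ) : ZMod p).val) := by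
      constructor
      · intro h
        refine ⟨hn, ?_⟩
        have h3 := phi_inj h2 hx0 _ _ h
        have h4 : i = u * j := Units.ext (by rw [Units.val_mul]; exact h3)
        rw [hu, h4, mul_inv_cancel_right]
      · rintro ⟨_, h⟩
        rw [hu] at h
        have h3 := Cfsg.Agent.Lib.Helper26.DOSETUP.unit_unique x0 hord _ _ h
        rw [h3, ← Units.val_mul, inv_mul_cancel_right]
    have e2 : ¬ (phi h2 (i : ZMod p) = phi h2 0) := fun h =>
      Units.ne_zero i (phi_inj h2 hx0 _ _ h)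
    have e3 : ¬ (phi h2 0 = phi h2 ((u : ZMod p) * (j : ZMod p))) := fun h => by
      have h3 := phi_inj h2 hx0 _ _ h
      rw [← Units.val_mul] at h3
      exact Units.ne_zero (u * j) h3.symm
    rw [if_neg e2, if_neg e3, if_pos rfl, if_pos hn]
    simp only [e1]
    ring
  · have e : ∀ a b : ZMod p, classInner (phi h2 a : Cz P → ℂ) (conjC P n (phi h2 b : Cz P → ℂ)) = 0 := by
      intro a b
      rw [classInner_irr (phi h2 a).2 (Cfsg.Agent.Lib.Helper16.DOCONJ.isIrrCharacter_conjC P n (phi h2 b)),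
        if_neg (conjC_phi_ne_of_not_mem hM h2 hθP T hT n hn a b)]
    rw [e, e, e, e, if_neg hn, if_neg (fun h => hn h.1)]
    ring

end loc

section count

variable {G : Type u} [Group G] [Finite G]

open Classical in
theorem count_T (P T : Subgroup G) (hTN : T ≤ Nz P) :
    ∑ᶠ n : Nz P, (if (n : G) ∈ T then (1 : ℂ) else 0) = (Nat.card T : ℂ) := by
  have : Fintype (Nz P) := Fintype.ofFinite _
  rw [finsum_eq_sum_of_fintype, Finset.sum_boole]
  congr 1
  rw [← Fintype.card_subtype, ← Nat.card_eq_fintype_card]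
  apply Nat.card_congr
  exact
    { toFun := fun x => ⟨x.1.1, x.2⟩
      invFun := fun t => ⟨⟨t.1, hTN t.2⟩, t.2⟩
      left_inv := fun x => rfl
      right_inv := fun t => rfl }

open Classical in
theorem count_fiber (P T : Subgroup G) (x0 : G) (hx0 : P = Subgroup.zpowers x0) (hCT : Cz P ≤ T)
    (hTN : T ≤ Nz P) (y : G) :
    ∑ᶠ n : Nz P, (if (n : G) ∈ T ∧ (n : G) * x0 * (n : G)⁻¹ = y then (1 : ℂ) else 0) =
      if ∃ n ∈ T, n * x0 * n⁻¹ = y then (Nat.card (Cz P) : ℂ) else 0 := by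
  have : Fintype (Nz P) := Fintype.ofFinite _
  rw [finsum_eq_sum_of_fintype, Finset.sum_boole]
  have hx0P : x0 ∈ P := x0_mem_P hx0
  split_ifs with h
  · obtain ⟨n0, hn0T, hn0⟩ := h
    congr 1
    rw [← Fintype.card_subtype, ← Nat.card_eq_fintype_card]
    apply Nat.card_congr
    have hmemC : ∀ g : G, g * x0 * g⁻¹ = x0 → g ∈ Cz P := by
      intro g hg
      have hcomm : Commute g x0 := by
        show g * x0 = x0 * g
        calc g * x0 = g * x0 * g⁻¹ * g := by group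
          _ = x0 * g := by rw [hg]
      rw [Subgroup.mem_centralizer_iff]
      intro h hh
      rw [SetLike.mem_coe, hx0] at hh
      obtain ⟨m, rfl⟩ := Subgroup.mem_zpowers_iff.mp hh
      exact (hcomm.zpow_right m).symm.eq
    exact
      { toFun := fun x => ⟨n0⁻¹ * x.1.1, by
          apply hmemC
          have h1 := x.2.2
          calc n0⁻¹ * (x.1.1 : G) * x0 * (n0⁻¹ * (x.1.1 : G))⁻¹
              = n0⁻¹ * ((x.1.1 : G) * x0 * (x.1.1 : G)⁻¹) * n0 := by group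
            _ = n0⁻¹ * (n0 * x0 * n0⁻¹) * n0 := by rw [h1, hn0]
            _ = x0 := by group⟩
        invFun := fun c => ⟨⟨n0 * c.1, hTN (T.mul_mem hn0T (hCT c.2))⟩, T.mul_mem hn0T (hCT c.2), by
          have h1 : (c.1 : G) * x0 = x0 * c.1 := (Subgroup.mem_centralizer_iff.mp c.2 x0 hx0P).symm
          show n0 * (c.1 : G) * x0 * (n0 * (c.1 : G))⁻¹ = y
          calc n0 * (c.1 : G) * x0 * (n0 * (c.1 : G))⁻¹
              = n0 * ((c.1 : G) * x0) * (c.1 : G)⁻¹ * n0⁻¹ := by group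
            _ = n0 * (x0 * (c.1 : G)) * (c.1 : G)⁻¹ * n0⁻¹ := by rw [h1]
            _ = n0 * x0 * n0⁻¹ := by group
            _ = y := hn0⟩
        left_inv := fun x => by
          apply Subtype.ext
          apply Subtype.ext
          show n0 * (n0⁻¹ * (x.1.1 : G)) = x.1.1
          group
        right_inv := fun c => by
          apply Subtype.ext
          show n0⁻¹ * (n0 * (c.1 : G)) = c.1
          group }
  · have : (Finset.univ.filter (fun n : Nz P => (n : G) ∈ T ∧ (n : G) * x0 * (n : G)⁻¹ = y)) = ∅ := by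
      apply Finset.filter_eq_empty_iff.mpr
      intro n _ hn
      exact h ⟨n, hn.1, hn.2⟩
    rw [this]
    simp

end count

section glob

variable {G : Type u} [Group G] [Finite G] {p : ℕ} [Fact p.Prime] {M : Ideal AlgInt}
  {P : Subgroup G} {B : Set (IrrCharacter G)} {θ : IrrCharacter (Cz P)} {T : Subgroup G} {x0 : G}

theorem finsum_mem_eq_sum_of_off {α N : Type*} [Fintype α] [AddCommMonoid N] (s : Set α) (f : α → N)
    (h : ∀ x, x ∉ s → f x = 0) : ∑ᶠ x ∈ s, f x = ∑ x, f x := by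
  classical
  rw [Cfsg.Agent.Lib.Helper6.Def1AbsMain.finsum_mem_eq_sum_filter', Finset.sum_filter]
  apply Finset.sum_congr rfl
  intro x _
  split_ifs with hx
  · rfl
  · exact (h x hx).symm

/-- `muC` is the multiplicity of `φ_i` -/
theorem muC_eq_mult (h2 : Loc2 p M P x0 θ) (χ : IrrCharacter G) (a : ZMod p) :
    muC p M P θ x0 χ a = mult (Cz P) (χ : G → ℂ) (phi h2 a : Cz P → ℂ) := by
  unfold muC
  have h1 : {φ : IrrCharacter (Cz P) | φ ∈ blockOf M (θ : Cz P → ℂ) ∧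
      HasIdx p P x0 (φ : Cz P → ℂ) a} = {phi h2 a} := by
    ext φ
    simp only [Set.mem_ofPred_eq, Set.mem_singleton_iff]
    constructor
    · rintro ⟨h3, h4⟩
      exact eq_phi h2 a φ h3 h4
    · rintro rfl
      exact ⟨phi_mem h2 a, phi_idx h2 a⟩
  rw [h1, finsum_mem_singleton]

/-- Frobenius: the coefficients of `Φ_i`. -/
theorem classInner_Phi_irr [Fintype G] [Fintype (Cz P)] (h2 : Loc2 p M P x0 θ)
    (hMULT : ∀ (χ : IrrCharacter G) (i : ZMod p),
      ((muZ p M P θ x0 χ i : ℤ) : ℂ) = muC p M P θ x0 χ i)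
    (χ : IrrCharacter G) (i : ZMod p) :
    classInner (indFun (Cz P) ((phi h2 i : Cz P → ℂ) - (phi h2 0 : Cz P → ℂ))) (χ : G → ℂ) =
      ((muZ p M P θ x0 χ i - muZ p M P θ x0 χ 0 : ℤ) : ℂ) := by
  rw [frobenius_reciprocity (Cz P) _ (IsCharacter.isClassFunction (IsIrrCharacter.isCharacter χ.2)),
    classInner_sub_left]
  have h1 : ∀ a : ZMod p, classInner (phi h2 a : Cz P → ℂ) (fun h : Cz P => (χ : G → ℂ) h) =
      ((muZ p M P θ x0 χ a : ℤ) : ℂ) := by
    intro a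
    rw [← classInner_conj_symm, hMULT χ a, muC_eq_mult h2 χ a]
    have h3 : classInner (fun h : Cz P => (χ : G → ℂ) h) (phi h2 a : Cz P → ℂ) =
        mult (Cz P) (χ : G → ℂ) (phi h2 a : Cz P → ℂ) := by
      unfold classInner mult
      rw [finsum_eq_sum_of_fintype]
    rw [h3, ← muC_eq_mult h2 χ a, ← hMULT χ a, map_intCast]
  rw [h1, h1]
  push_cast
  ring

/-- a function induced from `C` that vanishes on the `p`-regular elements of `C` vanishes on those of `G` -/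
theorem indFun_eq_zero_of_regular [Fintype G] (α : Cz P → ℂ)
    (hα : ∀ c : Cz P, ¬ p ∣ orderOf c → α c = 0) (g : G) (hg : ¬ p ∣ orderOf g) :
    indFun (Cz P) α g = 0 := by
  unfold indFun
  rw [Finset.sum_eq_zero, mul_zero]
  intro x _
  by_cases hmem : x⁻¹ * g * x ∈ Cz P
  · have h2 : x⁻¹ * g * x = ((⟨x⁻¹ * g * x, hmem⟩ : Cz P) : G) := rfl
    rw [h2, extendByZero_apply_coe]
    apply hα
    rw [← Subgroup.orderOf_coe]
    show ¬ p ∣ orderOf (x⁻¹ * g * x)
    have h3 : orderOf (x⁻¹ * g * x) = orderOf g := by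
      have := MulEquiv.orderOf_eq (MulAut.conj x⁻¹) g
      rwa [MulAut.conj_apply, inv_inv] at this
    rw [h3]
    exact hg
  · exact extendByZero_apply_of_not_mem _ _ hmem

theorem alpha_reg (h2 : Loc2 p M P x0 θ) (i : ZMod p) (c : Cz P) (hc : ¬ p ∣ orderOf c) :
    ((phi h2 i : Cz P → ℂ) - (phi h2 0 : Cz P → ℂ)) c = 0 := by
  rw [Pi.sub_apply, h2.2.1 _ (phi_mem h2 i) c hc, h2.2.1 _ (phi_mem h2 0) c hc, sub_self]

/-- ORTH, over LOC2 / MULT / OFF. -/
theorem orth_core (h2 : Loc2 p M P x0 θ)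
    (hMULT : ∀ (χ : IrrCharacter G) (i : ZMod p),
      ((muZ p M P θ x0 χ i : ℤ) : ℂ) = muC p M P θ x0 χ i)
    (hOFF : ∀ χ : IrrCharacter G, χ ∉ B → ∀ i : ZMod p,
      muZ p M P θ x0 χ i = muZ p M P θ x0 χ 0)
    (i : ZMod p) (g : G) (hg : ¬ p ∣ orderOf g) :
    ∑ᶠ χ ∈ B, ((muZ p M P θ x0 χ i - muZ p M P θ x0 χ 0 : ℤ) : ℂ) * (χ : G → ℂ) g = 0 := by
  classical
  have : Fintype G := Fintype.ofFinite G
  have : Fintype (Cz P) := Fintype.ofFinite _
  have : Fintype (IrrCharacter G) := Fintype.ofFinite _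
  rw [finsum_mem_eq_sum_of_off B _ (fun χ hχ => by
    rw [hOFF χ hχ i, sub_self, Int.cast_zero, zero_mul])]
  have h1 := classFunction_eq_sum (indFun_isClassFunction (Cz P)
    ((phi h2 i : Cz P → ℂ) - (phi h2 0 : Cz P → ℂ)))
  have h3 := congrFun h1 g
  rw [indFun_eq_zero_of_regular _ (alpha_reg h2 i) g hg, Finset.sum_apply] at h3
  rw [h3]
  apply Finset.sum_congr rfl
  intro χ _
  rw [Pi.smul_apply, smul_eq_mul, classInner_Phi_irr h2 hMULT χ i]

open Classical in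
/-- GRAM, over LOC2 / MULT / OFF. -/
theorem gram_core (c : Ctx p M P B θ T x0) (h2 : Loc2 p M P x0 θ)
    (hMULT : ∀ (χ : IrrCharacter G) (i : ZMod p),
      ((muZ p M P θ x0 χ i : ℤ) : ℂ) = muC p M P θ x0 χ i)
    (hOFF : ∀ χ : IrrCharacter G, χ ∉ B → ∀ i : ZMod p,
      muZ p M P θ x0 χ i = muZ p M P θ x0 χ 0)
    (E : Subgroup (ZMod p)ˣ)
    (hE : ∀ u : (ZMod p)ˣ, u ∈ E ↔ ∃ n ∈ T, n * x0 * n⁻¹ = x0 ^ (u : ZMod p).val)
    (hcard : Nat.card E = (Cz P).relIndex T) (i j : (ZMod p)ˣ) :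
    ∑ᶠ χ ∈ B, (muZ p M P θ x0 χ i - muZ p M P θ x0 χ 0) *
      (muZ p M P θ x0 χ j - muZ p M P θ x0 χ 0) =
      (Nat.card E : ℤ) + if i * j⁻¹ ∈ E then 1 else 0 := by
  have : Fintype G := Fintype.ofFinite G
  have : Fintype (Cz P) := Fintype.ofFinite _
  have : Fintype (IrrCharacter G) := Fintype.ofFinite _
  obtain ⟨hCT, hTN⟩ := Cfsg.Agent.Lib.Helper16.DOINERT.le_of_isInertia P θ T c.hT
  rw [finsum_mem_eq_sum_of_off B _ (fun χ hχ => by
    rw [hOFF χ hχ i, sub_self, zero_mul])]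
  set αi : Cz P → ℂ := (phi h2 i : Cz P → ℂ) - (phi h2 0 : Cz P → ℂ) with hαi
  set αj : Cz P → ℂ := (phi h2 j : Cz P → ℂ) - (phi h2 0 : Cz P → ℂ) with hαj
  -- Parseval
  have key : classInner (indFun (Cz P) αi) (indFun (Cz P) αj) =
      ∑ χ : IrrCharacter G, ((muZ p M P θ x0 χ i - muZ p M P θ x0 χ 0 : ℤ) : ℂ) *
        ((muZ p M P θ x0 χ j - muZ p M P θ x0 χ 0 : ℤ) : ℂ) := by
    have h1 := classFunction_eq_sum (indFun_isClassFunction (Cz P) αi)
    conv_lhs => rw [h1]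
    rw [classInner_sum_left]
    apply Finset.sum_congr rfl
    intro χ _
    rw [classInner_smul_left, classInner_Phi_irr h2 hMULT χ i, ← classInner_conj_symm,
      classInner_Phi_irr h2 hMULT χ j, map_intCast]
  -- the TI formula
  have key2 := classInner_indFun_indFun P c.hP c.hSyl αi αj (alpha_reg h2 j)
  simp only [hαi, hαj, classInner_alpha_conjC c.hM h2 c.hP c.gen c.hθP T c.hT] at key2
  rw [finsum_add_distrib (Set.toFinite _) (Set.toFinite _), count_T P T hTN,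
    count_fiber P T x0 c.gen hCT hTN] at key2
  have hT' : (Nat.card T : ℂ) = (Nat.card (Cz P) : ℂ) * ((Cz P).relIndex T : ℂ) := by
    have h1 := Subgroup.relIndex_mul_relIndex (⊥ : Subgroup G) (Cz P) T bot_le hCT
    rw [Subgroup.relIndex_bot_left, Subgroup.relIndex_bot_left] at h1
    rw [← h1]
    push_cast
    ring
  have hC0 : (Nat.card (Cz P) : ℂ) ≠ 0 := Nat.cast_ne_zero.mpr Nat.card_pos.ne'
  have hfin : ((∑ χ : IrrCharacter G, (muZ p M P θ x0 χ i - muZ p M P θ x0 χ 0) *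
      (muZ p M P θ x0 χ j - muZ p M P θ x0 χ 0) : ℤ) : ℂ) =
      (((Nat.card E : ℤ) + if i * j⁻¹ ∈ E then 1 else 0 : ℤ) : ℂ) := by
    push_cast at key ⊢
    rw [← key, key2, hT', hcard]
    by_cases hmem : i * j⁻¹ ∈ E
    · rw [if_pos ((hE _).mp hmem), if_pos hmem]
      field_simp
      ring
    · rw [if_neg (fun h => hmem ((hE _).mpr h)), if_neg hmem]
      field_simp
      ring
  exact_mod_cast hfin

end glob

end Cfsg.Agent.Lib.Helper6.DOGS
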