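import Mathlib

/-!
helper6: S4481 (Brauer: the principal 2-block of a group with dihedral Sylow 2-subgroups), vocabulary.

`DihData B h ζ` is the group-free input of the lattice argument: a finite index set `B` (the principal block),
the values `X χ k = χ(σ^k)` on the powers of an element `σ` of order `2h`, the multiplicities `mu χ i` of the
linear character `σ^k ↦ ζ^(ik)` of `⟨σ⟩` in `χ` (`ζ` a primitive `2h`-th root of unity), the trivial character
`b₀`, the orthogonality relations of the columns `σ^k` (`0 < k < 2h`: the centralizers have normal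
2-complements, `σ^k` is conjugate to `σ^l` only for `l = k, 2h - k`, the central involution is `σ^h`), and the
non-vanishing at the central involution.
-/

set_option autoImplicit false

namespace Cfsg.Agent.Lib.Helper6.DihBlk

open scoped ComplexConjugate

/-- The group-free data of the principal 2-block of a group with dihedral Sylow 2-subgroup of order `4h`. -/
structure DihData (B : Type*) [Fintype B] (h : ℕ) (ζ : ℂ) where
  /-- `X χ k = χ(σ^k)`. -/
  X : B → ℕ → ℂ
  /-- `mu χ i` = multiplicity of `σ^k ↦ ζ^(ik)` in `χ|⟨σ⟩`. -/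
  mu : B → ℕ → ℕ
  /-- the trivial character. -/
  b₀ : B
  hexp : ∀ χ k, X χ k = ∑ i ∈ Finset.range (2 * h), (mu χ i : ℂ) * ζ ^ (i * k)
  htriv : ∀ k, X b₀ k = 1
  horth : ∀ k l, 0 < k → k < 2 * h → 0 < l → l < 2 * h →
    ∑ χ, X χ k * conj (X χ l) =
      if k = h then (if l = h then ((2 * (2 * h) : ℕ) : ℂ) else 0)
      else (if l = k ∨ l + k = 2 * h then ((2 * h : ℕ) : ℂ) else 0)
  horth0 : ∀ l, 0 < l → l < 2 * h → ∑ χ, X χ 0 * conj (X χ l) = 0
  hz : ∀ χ, X χ h ≠ 0

/-- The degree `χ(1)` as the sum of the multiplicities. -/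
def DihData.deg {B : Type*} [Fintype B] {h : ℕ} {ζ : ℂ} (D : DihData B h ζ) (χ : B) : ℕ :=
  ∑ i ∈ Finset.range (2 * h), D.mu χ i

end Cfsg.Agent.Lib.Helper6.DihBlk
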