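/-
helper6: blocks of a group with a normal `p`-complement `N`: two irreducible characters lie in the
same block iff they have a common irreducible constituent on `N`.
-/
import Mathlib
import Cfsg.Agent.Lib.Helper6.NormalPBlock
import Cfsg.Agent.Lib.Helper6.NormalBlock
import Cfsg.Agent.Lib.Helper6.CliffordCorr

set_option autoImplicit false

namespace Cfsg.Agent.Lib.Helper6

open Cfsg Cfsg.Agent.CharLib Cfsg.Agent.Lib.Helper24
open scoped ComplexConjugate

universe u

section pcompl

variable {G : Type u} [Group G] [Fintype G] {M : Ideal AlgInt}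

/-- If `G / N` is a `p`-group, the `p`-regular elements lie in `N`. -/
theorem mem_of_pRegular_of_index {p : ℕ} [hpp : Fact p.Prime] (N : Subgroup G) [N.Normal]
    (hC : ∃ k : ℕ, N.index = p ^ k) {x : G} (hx : ¬ p ∣ orderOf x) : x ∈ N := by
  obtain ⟨k, hk⟩ := hC
  rw [← QuotientGroup.eq_one_iff, ← orderOf_eq_one_iff]
  have h1 : orderOf ((x : G) : G ⧸ N) ∣ orderOf x := orderOf_map_dvd (QuotientGroup.mk' _) x
  have h2 : orderOf ((x : G) : G ⧸ N) ∣ p ^ k := by
    rw [← hk, Subgroup.index_eq_card]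
    exact orderOf_dvd_natCard _
  obtain ⟨j, -, hj⟩ := (Nat.dvd_prime_pow hpp.out).mp h2
  rcases Nat.eq_zero_or_pos j with rfl | hj0
  · rw [hj, pow_zero]
  · exfalso
    apply hx
    refine dvd_trans ?_ h1
    rw [hj]
    exact dvd_pow_self p hj0.ne'

/-- Irreducible characters with a common constituent on a normal subgroup have the same central
character values on that subgroup. -/
theorem centralChar_eq_of_common_constituent (N : Subgroup G) [hN : N.Normal] [Fintype N]
    (χ ψ : IrrCharacter G) {θ : N → ℂ} (hθ : IsIrrCharacter N θ)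
    (h1 : classInner (resFun N (χ : G → ℂ)) θ ≠ 0) (h2 : classInner (resFun N (ψ : G → ℂ)) θ ≠ 0)
    {x : G} (hx : x ∈ N) : centralChar (χ : G → ℂ) x = centralChar (ψ : G → ℂ) x := by
  classical
  have hθ1 : θ 1 ≠ 0 := irr_apply_one_ne_zero ⟨θ, hθ⟩
  have hcard : ((conjOrbit N θ).card : ℂ) ≠ 0 := by
    rw [Nat.cast_ne_zero]
    exact Finset.card_ne_zero.mpr ⟨θ, self_mem_conjOrbit N θ⟩
  have key : ∀ φ : IrrCharacter G, classInner (resFun N (φ : G → ℂ)) θ ≠ 0 →
      (φ : G → ℂ) x / (φ : G → ℂ) 1 =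
        (∑ η ∈ conjOrbit N θ, η ⟨x, hx⟩) / (((conjOrbit N θ).card : ℂ) * θ 1) := by
    intro φ hφ
    have hc := congrFun (clifford N φ.2 hθ hφ) ⟨x, hx⟩
    rw [resFun_apply, Pi.smul_apply, Finset.sum_apply, smul_eq_mul] at hc
    change (φ : G → ℂ) x = _ at hc
    rw [hc, clifford_degree N φ.2 hθ hφ]
    field_simp
  unfold centralChar
  rw [mul_div_assoc, mul_div_assoc, key χ h1, key ψ h2]

/-- **Blocks of a group with a normal `p`-complement.** -/
theorem sameBlock_iff_common_constituent {p : ℕ} [hpp : Fact p.Prime] (hM : IsPModular p M)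
    (N : Subgroup G) [hN : N.Normal] [Fintype N] (hNp : ¬ p ∣ Nat.card N)
    (hidx : ∃ k : ℕ, N.index = p ^ k) (χ ψ : IrrCharacter G) :
    SameBlock M (χ : G → ℂ) (ψ : G → ℂ) ↔
      ∃ θ : IrrCharacter N, classInner (fun n : N => (χ : G → ℂ) n) (θ : N → ℂ) ≠ 0 ∧
        classInner (fun n : N => (ψ : G → ℂ) n) (θ : N → ℂ) ≠ 0 := by
  have hprime : M.IsPrime := isPrime_of_isPModular hM
  constructor
  · intro h
    have hres : IsCharacter N (resFun N (χ : G → ℂ)) :=
      isCharacter_resFun N (IsIrrCharacter.isCharacter χ.2)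
    have hne : resFun N (χ : G → ℂ) ≠ 0 := by
      intro h0
      have := congrFun h0 1
      rw [resFun_apply] at this
      exact irr_apply_one_ne_zero χ this
    obtain ⟨θ, hθ, hθχ⟩ := IsCharacter.exists_constituent hres hne
    exact ⟨⟨θ, hθ⟩, hθχ, (constituent_iff_of_sameBlock hM N hNp χ ψ h hθ).mp hθχ⟩
  · rintro ⟨θ, h1, h2⟩
    apply sameBlock_of_forall_pRegular hM χ ψ
    intro g hg
    have hgN := mem_of_pRegular_of_index N hidx hg
    rw [centralChar_eq_of_common_constituent N χ ψ θ.2 h1 h2 hgN, sub_self]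
    exact memLocalIdeal_zero hprime.one_notMem

end pcompl

end Cfsg.Agent.Lib.Helper6
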