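/-
helper6: S4865 leaf (M3) `degree_of_real_over` (planner helper12, notes/S4865_leaves.lean):
the real character over a real `θ` on a normal subgroup of odd index has multiplicity one,
hence `χ(1) · |I_X(θ)| = |X| · θ(1)`.
-/
import Mathlib
import Cfsg.Prelude.Def_Blocks
import Cfsg.Agent.Lib.Helper6.Clifford
import Cfsg.Agent.Lib.Helper6.CliffordCorr
import Cfsg.Agent.Lib.Helper12.RealMDefs
import Cfsg.Agent.Lib.Lead.OddIndexReal
import Cfsg.Agent.Lib.Lead.BlockBasic
import Cfsg.Agent.Lib.Helper23.FSInd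

set_option autoImplicit false

namespace Cfsg.Agent.Lib.Helper6.RealM

open Cfsg Cfsg.Agent.Lib.Helper6 Cfsg.Agent.CharLib Cfsg.Agent.Lib.Helper12.RealM

universe u

/-- The multiplicity of a real `θ` in the real `χ` over it is one (odd index). -/
theorem mult_one_of_real_over {X : Type u} [Group X] [Fintype X] (Y : Subgroup X) [hY : Y.Normal]
    [Fintype ↥Y] (hodd : Odd Y.index) (χ : IrrCharacter X) (hχ : IsRe (χ : X → ℂ))
    (θ : IrrCharacter ↥Y) (hθ : IsRe (θ : ↥Y → ℂ))
    (hover : classInner (resFun Y (χ : X → ℂ)) (θ : ↥Y → ℂ) ≠ 0) :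
    classInner (resFun Y (χ : X → ℂ)) (θ : ↥Y → ℂ) = 1 := by
  classical
  let _ := fintypeIrr X
  have hn : ∀ χ' : IrrCharacter X, ∃ n : ℕ,
      classInner (resFun Y (χ' : X → ℂ)) (θ : ↥Y → ℂ) = n :=
    fun χ' => IsCharacter.classInner_nat
      (isCharacter_resFun Y (IsIrrCharacter.isCharacter χ'.2)) (IsIrrCharacter.isCharacter θ.2)
  choose n hn using hn
  have hz := fun χ' : IrrCharacter X => Cfsg.Agent.Lib.Helper23.exists_fsIndicator χ'
  choose z hz1 hz2 hz3 using hz
  obtain ⟨w, hw1, hw2, hw3⟩ := Cfsg.Agent.Lib.Helper23.exists_fsIndicator θ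
  have hw0 : w ≠ 0 := hw3.mpr hθ
  have hsum : ∑ χ' : IrrCharacter X, (n χ' : ℤ) * z χ' = w := by
    have h := sum_mult_fs_eq Y hodd θ
    rw [hw1] at h
    have h' : ((∑ χ' : IrrCharacter X, (n χ' : ℤ) * z χ' : ℤ) : ℂ) = ((w : ℤ) : ℂ) := by
      rw [← h]
      push_cast
      apply Finset.sum_congr rfl
      intro χ' _
      rw [hn, hz1]
    exact_mod_cast h'
  have hsingle : ∑ χ' : IrrCharacter X, (n χ' : ℤ) * z χ' = (n χ : ℤ) * z χ := by
    apply Finset.sum_eq_single χ
    · intro χ' _ hne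
      by_cases h1 : n χ' = 0
      · rw [h1]; simp
      by_cases h2 : z χ' = 0
      · rw [h2]; simp
      exfalso
      apply hne
      apply real_unique_over Y hodd θ χ' χ ((hz3 χ').mp h2) hχ
      · rw [hn]; exact_mod_cast h1
      · exact hover
    · intro h; exact absurd (Finset.mem_univ χ) h
  rw [hsingle] at hsum
  have hnχ : (n χ : ℤ) = 1 := by
    have hpos : (0 : ℤ) ≤ n χ := Int.natCast_nonneg _
    rcases hw2 with h | h | h
    · exact absurd h hw0
    · rcases hz2 χ with h' | h' | h'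
      · rw [h', h] at hsum; simp at hsum
      · rw [h', h] at hsum; omega
      · rw [h', h] at hsum; omega
    · rcases hz2 χ with h' | h' | h'
      · rw [h', h] at hsum; simp at hsum
      · rw [h', h] at hsum; omega
      · rw [h', h] at hsum; omega
  rw [hn]
  exact_mod_cast hnχ

/-- (M3) of notes/S4865_leaves.lean. -/
theorem degree_of_real_over {X : Type u} [Group X] [Finite X] (Y : Subgroup X) [hY : Y.Normal]
    [Fintype ↥Y] (hodd : Odd Y.index) (χ : IrrCharacter X) (hχ : IsRe (χ : X → ℂ))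
    (θ : IrrCharacter ↥Y) (hθ : IsRe (θ : ↥Y → ℂ))
    (hover : classInner (resFun Y (χ : X → ℂ)) (θ : ↥Y → ℂ) ≠ 0) :
    charDegree (χ : X → ℂ) * Nat.card {g : X // Cfsg.Agent.Lib.Helper6.conjFun Y g (θ : ↥Y → ℂ) = (θ : ↥Y → ℂ)} =
      Nat.card X * charDegree (θ : ↥Y → ℂ) := by
  classical
  let _ := Fintype.ofFinite X
  have hm := mult_one_of_real_over Y hodd χ hχ θ hθ hover
  have hdeg := clifford_degree Y χ.2 θ.2 hover
  rw [hm, one_mul] at hdeg
  obtain ⟨d, hd⟩ := IsCharacter.apply_one (IsIrrCharacter.isCharacter θ.2)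
  obtain ⟨c, hc⟩ := IsCharacter.apply_one (IsIrrCharacter.isCharacter χ.2)
  rw [charDegree_eq_of_apply_one hd, charDegree_eq_of_apply_one hc]
  rw [hd, hc] at hdeg
  have hdeg' : c = (conjOrbit Y (θ : ↥Y → ℂ)).card * d := by exact_mod_cast hdeg
  have horb := card_conjOrbit_mul Y (θ : ↥Y → ℂ)
  rw [hdeg', ← horb]
  ring

end Cfsg.Agent.Lib.Helper6.RealM
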