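import Mathlib

set_option autoImplicit false
open Polynomial Module

namespace Cfsg.Agent.Lib.Helper6.Leaf

/-- (L4) dimension of the fixed space from traces -/
theorem L4 {F : Type*} [Field F] {n : ℕ} (y : Matrix (Fin n) (Fin n) F) (r : ℕ)
    (hr : (r : F) ≠ 0) (hy : y ^ r = 1) :
    ((finrank F (LinearMap.ker (Matrix.toLin' y - 1)) : ℕ) : F) =
      (r : F)⁻¹ * ∑ k ∈ Finset.range r, Matrix.trace (y ^ k) := by
  set S : Matrix (Fin n) (Fin n) F := ∑ k ∈ Finset.range r, y ^ k with hS
  set e : Matrix (Fin n) (Fin n) F := (r : F)⁻¹ • S with he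
  -- `y * S = S`
  have hyS : y * S = S := by
    rw [hS, Finset.mul_sum]
    have h1 : ∀ k ∈ Finset.range r, y * y ^ k = y ^ (k + 1) := fun k _ => (pow_succ' y k).symm
    rw [Finset.sum_congr rfl h1]
    have h2 := (Finset.sum_range_succ' (fun k => y ^ k) r).symm.trans
      (Finset.sum_range_succ (fun k => y ^ k) r)
    simp only [hy, pow_zero] at h2
    exact add_right_cancel h2
  have hye : y * e = e := by rw [he, Matrix.mul_smul, hyS]
  -- on fixed vectors `e` is the identity
  have hfix : ∀ v : Fin n → F, y.mulVec v = v → e.mulVec v = v := by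
    intro v hv
    have hpow : ∀ k : ℕ, (y ^ k).mulVec v = v := by
      intro k
      induction k with
      | zero => simp
      | succ k ih => rw [pow_succ, ← Matrix.mulVec_mulVec, hv, ih]
    rw [he, Matrix.smul_mulVec, hS, Matrix.sum_mulVec]
    rw [Finset.sum_congr rfl (fun k _ => hpow k)]
    rw [Finset.sum_const, Finset.card_range, ← Nat.cast_smul_eq_nsmul F, smul_smul,
      inv_mul_cancel₀ hr, one_smul]
  set p : Submodule F (Fin n → F) := LinearMap.ker (Matrix.toLin' y - 1) with hp
  have hmem : ∀ v : Fin n → F, v ∈ p ↔ y.mulVec v = v := by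
    intro v
    rw [hp, LinearMap.mem_ker, LinearMap.sub_apply, Matrix.toLin'_apply, Module.End.one_apply,
      sub_eq_zero]
  have hproj : LinearMap.IsProj p (Matrix.toLin' e) := by
    constructor
    · intro v
      rw [hmem, Matrix.toLin'_apply, Matrix.mulVec_mulVec, hye]
    · intro v hv
      rw [Matrix.toLin'_apply]
      exact hfix v ((hmem v).mp hv)
  have htr := hproj.trace
  rw [Matrix.trace_toLin'_eq] at htr
  rw [← htr, he, Matrix.trace_smul, hS, Matrix.trace_sum, smul_eq_mul]

end Cfsg.Agent.Lib.Helper6.Leaf
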