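import Mathlib

/-!
# S5544 leaf G: the polynomial endgame of Sakuma's theorem (planner: helper12).
All certificates (cofactors, resultant, per-case constants) are from helper12's CAS
(`notes/S5544_polyG_data.md`), re-verified with exact rational arithmetic.
-/

set_option autoImplicit false
set_option maxHeartbeats 1600000

namespace Cfsg.Agent.Lib.Helper6.SakG

/-- S5544 leaf G: the polynomial endgame.  (l1..l6 are the inner products (a_i,a_j) with |i-j| = 1..6.) -/
theorem polyG (l1 l2 l3 l4e l4o l5 l6 : ℝ)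
    (h3 : -32768*l1^3 - 1920*l1*l2 + 36864*l1^2 - 2169*l1 - 33*l2 - 7*l3 + 33 = 0)
    (h4e : 32768*l1^2*l2 - 32768*l1^3 - 2432*l1*l2 + 1792*l1*l3 + 2304*l1^2 + 128*l2^2 - 1622*l1 - 177*l2 - 42*l3 + 7*l4e + 42 = 0)
    (h4o : 32768*l1^2*l2 - 32768*l1^3 - 2432*l1*l2 + 1792*l1*l3 + 2304*l1^2 + 128*l2^2 - 1622*l1 - 177*l2 - 42*l3 + 7*l4o + 42 = 0)
    (h5 : -32768*l1^2*l2 + 32768*l1^2*l3 + 2304*l1*l2 - 2304*l1*l3 + 1792*l1*l4o - 1792*l1^2 + 128*l2*l3 - 128*l2^2 - 168*l1 + 177*l2 + 33*l3 - 42*l4o + 7*l5 - 7 = 0)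
    (hA : -704512*l1^2*l2 + 786432*l1^3 + 89344*l1*l2 - 2240*l1*l3 - 177984*l1^2 + 1280*l2^2 + 8890*l1 - 1152*l2 + 70*l3 + 7*l4e - 135 = 0)
    (hB : 98304*l1^2*l2 - 2818048*l1^2*l3 + 3047424*l1^3 + 6784*l1*l2 + 178432*l1*l3 - 8960*l1*l4o - 534784*l1^2 + 5120*l2*l3 + 384*l2^2 + 27754*l1 - 201*l2 - 2054*l3 + 259*l4o + 28*l5 - 442 = 0)
    (h6 : -2818048*l1^2*l3 + 98304*l1^2*l4o + 3047424*l1^3 + 8320*l1*l2 + 178432*l1*l3 - 10496*l1*l4o + 5376*l1*l5 - 540160*l1^2 + 5120*l2*l3 + 384*l2*l4o + 27859*l1 - 174*l2 - 2054*l3 + 232*l4o - 77*l5 + 21*l6 - 463 = 0) :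
    l1 = 1 ∨ l2 = 1 ∨ l3 = 1 ∨ l4e = 1 ∨ l5 = 1 ∨ l6 = 1 := by
  have hG1 : 6291456*l1^4 + 122880*l1^2*l2 - 6979584*l1^3 + 26688*l1*l2 + 552960*l1^2 + 384*l2^2 - 14400*l1 - 501*l2 + 117 = 0 := by
    linear_combination (1/3 : ℝ) * hA - (1/3 : ℝ) * h4e + (1/3 : ℝ) * (-576*l1 + 16) * h3
  have hG2 : -1610612736*l1^5 - 78643200*l1^3*l2 + 1815085056*l1^4 - 282624*l1*l2^2 + 4780032*l1^2*l2 - 132415488*l1^3 - 497568*l1*l2 + 2580480*l1^2 - 8352*l2^2 + 6048*l1 + 8703*l2 - 351 = 0 := by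
    linear_combination (7/24 : ℝ) * hB - (7/6 : ℝ) * h5 + (7/24 : ℝ) * (2304*l1 - 61) * h4o +
      (7/24 : ℝ) * (1179648/7*l1^2 - 18432/7*l1 + 4608/7*l2 + 376/7) * h3
  have hres : l1 * (l1 - 1/64)^2 * (l1 - 5/256) * (l1 - 3/128) * (l1 - 1/32) * (l1 - 13/256) * (l1 - 1/8) * (l1 - 1) = 0 := by
    linear_combination (1 / (-4118350906606118082969600 : ℝ)) * (-28499341391953920*l1^6 - 1280243851591680*l1^4*l2 - 1132570506449387520*l1^5 - 2978393389793280*l1^3*l2 + 59219540579450880*l1^4 - 55876811489280*l1^2*l2 - 4767154616401920*l1^3 + 1154819358720*l1*l2 + 130006425600000*l1^2 - 1006942233600*l1 + 7035724800*l2 - 295682400) * hG1 +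
      (1 / (-4118350906606118082969600 : ℝ)) * (-111325552312320*l1^5 - 1739461754880*l1^3*l2 - 1869051655618560*l1^4 - 3995326218240*l1^2*l2 - 243816820899840*l1^3 + 42148823040*l1*l2 + 8836654694400*l1^2 - 65102745600*l1 + 323481600*l2 - 98560800) * hG2
  -- split the product
  rcases mul_eq_zero.mp hres with hres | h1
  swap
  · exact Or.inl (by linarith)
  rcases mul_eq_zero.mp hres with hres | h18
  swap
  · have hl1 : l1 = 1/8 := by linarith
    subst hl1
    have hl2 : l2 = 1 := by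
      linear_combination ((1/3591) : ℝ) * hG1 + ((4/1633905) : ℝ) * hG2
    exact Or.inr (Or.inl hl2)
  rcases mul_eq_zero.mp hres with hres | h13
  swap
  · have hl1 : l1 = 13/256 := by linarith
    subst hl1
    have hl2 : l2 = 13/256 := by
      linear_combination ((3784/3501225) : ℝ) * hG1 + ((64/3501225) : ℝ) * hG2
    subst hl2
    have hl3 : l3 = 1 := by linear_combination (-1/7 : ℝ) * h3
    exact Or.inr (Or.inr (Or.inl hl3))
  rcases mul_eq_zero.mp hres with hres | h132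
  swap
  · have hl1 : l1 = 1/32 := by linarith
    subst hl1
    have hl2 : l2 = 0 := by
      linear_combination ((179/62775) : ℝ) * hG1 + ((4/62775) : ℝ) * hG2
    subst hl2
    have hl3 : l3 = 1/32 := by linear_combination (-1/7 : ℝ) * h3
    subst hl3
    have hl4 : l4e = 1 := by linear_combination (1/7 : ℝ) * h4e
    exact Or.inr (Or.inr (Or.inr (Or.inl hl4)))
  rcases mul_eq_zero.mp hres with hres | h3128
  swap
  · have hl1 : l1 = 3/128 := by linarith
    subst hl1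
    have hl2 : l2 = 3/128 := by
      linear_combination ((2/315) : ℝ) * hG1 + ((2/12285) : ℝ) * hG2
    subst hl2
    have hl3 : l3 = 3/128 := by linear_combination (-1/7 : ℝ) * h3
    subst hl3
    have hl4 : l4o = 3/128 := by linear_combination (1/7 : ℝ) * h4o
    subst hl4
    have hl5 : l5 = 1 := by linear_combination (1/7 : ℝ) * h5
    exact Or.inr (Or.inr (Or.inr (Or.inr (Or.inl hl5))))
  rcases mul_eq_zero.mp hres with hres | h5256
  swap
  · have hl1 : l1 = 5/256 := by linarith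
    subst hl1
    have hl2 : l2 = 13/256 := by
      linear_combination ((2312/169425) : ℝ) * hG1 + ((64/169425) : ℝ) * hG2
    subst hl2
    have hl3 : l3 = 1/8 := by linear_combination (-1/7 : ℝ) * h3
    subst hl3
    have hl4 : l4o = 13/256 := by linear_combination (1/7 : ℝ) * h4o
    subst hl4
    have hl5 : l5 = 5/256 := by linear_combination (1/7 : ℝ) * h5
    subst hl5
    have hl6 : l6 = 1 := by linear_combination (1/21 : ℝ) * h6
    exact Or.inr (Or.inr (Or.inr (Or.inr (Or.inr hl6))))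
  rcases mul_eq_zero.mp hres with h0 | h164
  · -- l1 = 0
    subst h0
    have hl2 : l2 = 1 := by
      linear_combination ((-29/2925) : ℝ) * hG1 + ((-4/8775) : ℝ) * hG2
    exact Or.inr (Or.inl hl2)
  · -- l1 = 1/64
    have hl1 : l1 = 1/64 := by
      have := pow_eq_zero_iff (two_ne_zero) |>.mp h164
      linarith
    subst hl1
    have hq : (l2 - 1/64) * (l2 - 1/8) = 0 := by
      linear_combination (1/384 : ℝ) * hG1
    rcases mul_eq_zero.mp hq with h | h
    · have hl2 : l2 = 1/64 := by linarith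
      subst hl2
      have hl3 : l3 = 1 := by linear_combination (-1/7 : ℝ) * h3
      exact Or.inr (Or.inr (Or.inl hl3))
    · have hl2 : l2 = 1/8 := by linarith
      subst hl2
      have hl3 : l3 = 1/64 := by linear_combination (-1/7 : ℝ) * h3
      subst hl3
      have hl4 : l4e = 1 := by linear_combination (1/7 : ℝ) * h4e
      exact Or.inr (Or.inr (Or.inr (Or.inl hl4)))

end Cfsg.Agent.Lib.Helper6.SakG
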