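import Mathlib
import Cfsg.Agent.Lib.Helper12.U3Defs
import Cfsg.Agent.Lib.Helper4.U3BRUHAT
import Cfsg.Agent.Lib.Helper13.U3Line

/-!
helper6: U3 INVFIX (S2148 market "U3", planner helper12): every element `g` with `g * g = 1` of the model group
fixes an isotropic point (is conjugate into `PP`).  Uniform in the characteristic, following the planner's sketch:
after conjugation `g ve = c • vf`, `g vf = c⁻¹ • ve`, `bar c = c`, `g w0 = - w0` (determinant), and
`u = ve - c • vf + l • w0` with `l * bar l = 2 c` is isotropic with `g u = -u`.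
-/

set_option autoImplicit false

namespace Cfsg.Agent.Lib.Helper6.U3Leaf

open Cfsg.Agent.Lib.Helper18.PSUMod Cfsg.Agent.Lib.Helper5.HermBridge Cfsg.Agent.Lib.Helper12.U3
open Cfsg.Agent.Lib.Helper13

section line

variable {F : Type*} [Field F] [Fintype F] {q : ℕ} (hF : Fintype.card F = q ^ 2)

/-- N8 INVFIX: every involution fixes an isotropic point. -/
theorem invol_fix (g : GG hF) (hg : g * g = 1) : ∃ a : GG hF, a⁻¹ * g * a ∈ PP hF := by
  have hB := barOK_frob hF
  have hb := hB.invol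
  by_cases hgP : g ∈ PP hF
  · exact ⟨1, by simpa using hgP⟩
  obtain ⟨hiso, hfar⟩ := Cfsg.Agent.Lib.Helper4.U3Leaf.far_of_not_mem hF g hgP
  obtain ⟨x, hx⟩ := exists_EG_of_far hb hiso hfar
  obtain ⟨c, hc0, hx⟩ : ∃ c : F, c ≠ 0 ∧ av g ve = c • av (EG hb x) vf := ⟨_, hfar, hx⟩
  obtain ⟨E, hE⟩ : ∃ E : GG hF, E = EG hb x := ⟨_, rfl⟩
  rw [← hE] at hx
  have hEve : av E ve = ve := by rw [hE]; exact av_EG_ve hb x
  obtain ⟨g', hg'⟩ : ∃ g' : GG hF, g' = E⁻¹ * g * E := ⟨_, rfl⟩
  have h1 : av g' ve = c • vf := by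
    rw [hg', av_mul, av_mul, hEve, hx, av_smul, av_inv_av]
  have hg'2 : g' * g' = 1 := by
    rw [hg']
    have : E⁻¹ * g * E * (E⁻¹ * g * E) = E⁻¹ * (g * g) * E := by group
    rw [this, hg]; group
  have h2 : av g' vf = c⁻¹ • ve := by
    have h := congrArg (fun t => av t (ve : V F 1)) hg'2
    simp only [av_mul, av_one] at h
    rw [h1, av_smul] at h
    rw [← h, smul_smul, inv_mul_cancel₀ hc0, one_smul]
  have hbc0 : frobHom hF c ≠ 0 := (map_ne_zero _).2 hc0
  -- `bar c = c`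
  have h3 : frobHom hF c = c := by
    have h := hV_av g' (ve : V F 1) vf
    rw [h1, h2, hV_smul_left, hV_smul_right, hV_ve_right, hV_vf_right] at h
    have h' : c * (frobHom hF c⁻¹ * 1) = 1 := by simpa [ve, vf] using h
    rw [map_inv₀] at h'
    field_simp at h'
    exact h'.symm
  -- `g'` preserves `⟨w0⟩`
  have hw1 : (av g' (w0 : V F 1)).1 = 0 := by
    have h := hV_av g' (w0 : V F 1) ve
    rw [h1, hV_smul_right, hV_vf_right, hV_ve_right] at h
    have h' : frobHom hF c * (av g' (w0 : V F 1)).1 = 0 := by simpa [w0, vw] using h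
    rcases mul_eq_zero.1 h' with h'' | h''
    · exact absurd h'' hbc0
    · exact h''
  have hw2 : (av g' (w0 : V F 1)).2.2 = 0 := by
    have h := hV_av g' (w0 : V F 1) vf
    rw [h2, hV_smul_right, hV_ve_right, hV_vf_right] at h
    have h' : frobHom hF c⁻¹ * (av g' (w0 : V F 1)).2.2 = 0 := by simpa [w0, vw] using h
    rcases mul_eq_zero.1 h' with h'' | h''
    · exact absurd h'' ((map_ne_zero _).2 (inv_ne_zero hc0))
    · exact h''
  obtain ⟨β, hβ⟩ : ∃ β : F, av g' (vw 1 : V F 1) = β • vw 1 := by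
    refine ⟨(av g' (vw 1 : V F 1)).2.1 0, ?_⟩
    have h := decomp (av g' (vw 1 : V F 1))
    have hw1' : (av g' (vw 1 : V F 1)).1 = 0 := hw1
    have hw2' : (av g' (vw 1 : V F 1)).2.2 = 0 := hw2
    rw [hw1', hw2', zero_smul, zero_smul, zero_add, add_zero] at h
    rw [← U3Line.vw_eq_smul]
    exact h
  have hdet := U3Line.det_Mt_mul g' hβ
  have hβ1 : β = -1 := by
    have hM : (U3Line.Mt g').det = -1 := by
      rw [U3Line.Mt, Matrix.det_fin_two_of, h1, h2]
      simp [ve, vf, hc0]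
    rw [hM] at hdet
    linear_combination -hdet
  -- the parameter `l`
  obtain ⟨l, hl⟩ : ∃ l : F, l * frobHom hF l = 2 * c := by
    by_cases h2c : (2 : F) * c = 0
    · exact ⟨0, by rw [h2c]; simp⟩
    · exact hB.nm _ h2c (by rw [map_mul, h3, map_ofNat])
  obtain ⟨u, hu⟩ : ∃ u : V F 1, u = ve - c • vf + l • vw 1 := ⟨_, rfl⟩
  have hu1 : u.1 = 1 := by rw [hu]; simp [ve, vf, vw]
  have hu0 : u ≠ 0 := by
    intro h
    rw [h] at hu1
    simp at hu1
  have huu : hV (frobHom hF) u u = 0 := by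
    have e1 : u = (1, (fun _ => l), -c) := by
      rw [hu]
      refine Prod.ext ?_ (Prod.ext ?_ ?_)
      · simp [ve, vf, vw]
      · funext i
        simp [ve, vf, vw]
      · simp [ve, vf, vw]
    rw [e1]
    simp only [hV, hW, Finset.univ_unique, Finset.sum_singleton, map_neg, map_one, h3]
    linear_combination hl
  have hgu : av g' u = (-1 : F) • u := by
    have h : av g' u = c • vf - c • (c⁻¹ • ve) + l • ((-1 : F) • vw 1) := by
      rw [hu, av_add, av_sub, av_smul, av_smul, h1, h2, hβ, hβ1]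
    rw [h, hu, smul_smul, mul_inv_cancel₀ hc0]
    module
  obtain ⟨b, κ, hκ, hbu⟩ := exists_av_ve hB hu0 huu
  refine ⟨E * b, ?_⟩
  have e : (E * b)⁻¹ * g * (E * b) = b⁻¹ * g' * b := by rw [hg']; group
  rw [e]
  refine ⟨-1, ?_⟩
  have hbve : av b ve = κ⁻¹ • u := by
    rw [hbu, smul_smul, inv_mul_cancel₀ hκ, one_smul]
  rw [av_mul, av_mul, hbve, av_smul, hgu, av_smul, av_smul]
  have : av b⁻¹ u = κ • ve := by
    apply av_injective b
    rw [av_av_inv, av_smul, hbve, smul_smul, mul_inv_cancel₀ hκ, one_smul]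
  rw [this, smul_smul, smul_smul]
  congr 1
  field_simp

end line

end Cfsg.Agent.Lib.Helper6.U3Leaf
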