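import Mathlib
import Cfsg.Agent.Lib.Helper12.U3Defs
import Cfsg.Agent.Lib.Helper4.U3IDXP
import Cfsg.Agent.Lib.Helper18.SU3Sylow

/-!
helper6: U3 CARDP (S2148 market "U3", planner helper12): `|PP| = q^3 (q^2 - 1)`, from helper4's `index_PP = q^3 + 1`
and helper18's `card_SU3 : |SU_3(q)| = q^3 (q^2-1)(q^3+1)` transported along `PsiF`.
-/

set_option autoImplicit false

namespace Cfsg.Agent.Lib.Helper6.U3Leaf

open Cfsg.Agent.Lib.Helper18.PSUMod Cfsg.Agent.Lib.Helper5.HermBridge Cfsg.Agent.Lib.Helper12.U3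

section model

variable {F : Type*} [Field F] [Fintype F] {q : ℕ} (hF : Fintype.card F = q ^ 2)

/-- the order of the model group -/
theorem card_GG : Nat.card (GG hF) = q ^ 3 * ((q ^ 2 - 1) * (q ^ 3 + 1)) := by
  obtain ⟨ζ, τ, hζ, hτ, hN⟩ := exists_consts hF
  rw [← Nat.card_congr (PsiF (m := 1) hF hζ hτ hN).toEquiv]
  exact Cfsg.Agent.Lib.Helper18.SU3Model.card_SU3 hF

/-- M3 -/
theorem card_PP : Nat.card (PP hF) = q ^ 3 * (q ^ 2 - 1) := by
  have h1 := Subgroup.card_mul_index (PP hF)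
  rw [Cfsg.Agent.Lib.Helper4.U3Leaf.index_PP hF, card_GG hF] at h1
  have h2 : Nat.card (PP hF) * (q ^ 3 + 1) = q ^ 3 * (q ^ 2 - 1) * (q ^ 3 + 1) := by
    rw [h1]; ring
  exact Nat.eq_of_mul_eq_mul_right (by positivity) h2

end model

end Cfsg.Agent.Lib.Helper6.U3Leaf
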