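import Mathlib
import Cfsg.Agent.Lib.Helper12.U3Defs
import Cfsg.Agent.Lib.Helper20.U3CARDQ

/-!
helper6: U3 CARDTV (S2148 market "U3", planner helper12): every root group `TV u` (`u` isotropic, nonzero) has order `q`
(it is conjugate to `TT hF = TV ve`, of order `q` by helper20's `card_TT`).
-/

set_option autoImplicit false

namespace Cfsg.Agent.Lib.Helper6.U3Leaf

open Cfsg.Agent.Lib.Helper18.PSUMod Cfsg.Agent.Lib.Helper5.HermBridge Cfsg.Agent.Lib.Helper12.U3

section line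

variable {F : Type*} [Field F] [Fintype F] {q : ℕ} (hF : Fintype.card F = q ^ 2)

/-- N2a -/
theorem card_TV (u : V F 1) (hu0 : u ≠ 0) (hu : hV (frobHom hF) u u = 0) :
    Nat.card (TV (frobHom hF) u) = q := by
  have hB := barOK_frob hF
  obtain ⟨g, a, ha, rfl⟩ := exists_av_ve hB hu0 hu
  rw [TV_smul hB.invol ha]
  have hTe : TT hF = TV (frobHom hF) ve := Te_eq_TV hB.invol
  refine Eq.trans ?_ (Cfsg.Agent.Lib.Helper20.U3Leaf.card_TT hF)
  rw [hTe]
  symm
  refine Nat.card_congr ⟨fun t => ⟨g * t.1 * g⁻¹, conj_mem_TV g t.2⟩,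
    fun t => ⟨g⁻¹ * t.1 * g, ?_⟩, ?_, ?_⟩
  · rw [← conj_mem_TV_iff g]
    have : g * (g⁻¹ * t.1 * g) * g⁻¹ = t.1 := by group
    rw [this]
    exact t.2
  · intro t
    apply Subtype.ext
    show g⁻¹ * (g * t.1 * g⁻¹) * g = t.1
    group
  · intro t
    apply Subtype.ext
    show g * (g⁻¹ * t.1 * g) * g⁻¹ = t.1
    group

end line

end Cfsg.Agent.Lib.Helper6.U3Leaf
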