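import Mathlib
import Cfsg.Agent.Lib.Helper12.U3Defs
import Cfsg.Agent.Lib.Helper6.U3INVFIX
import Cfsg.Agent.Lib.Helper7.U3Borel
import Cfsg.Agent.Lib.Helper13.U3CARDSL

/-!
helper6: U3 ELPAIR (S2148 market "U3", planner helper12): for `q` even the product of two elements `s, t` with
`s * s = 1 = t * t` has order dividing `q (q^2 - 1)`: each of them lies in a root group `TV u`, `TV v`; if `u ⟂ v` they
commute, otherwise `⟨u, v⟩` is a hyperbolic line and both lie in a conjugate of `SLn`.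
-/

set_option autoImplicit false

namespace Cfsg.Agent.Lib.Helper6.U3Leaf

open Cfsg.Agent.Lib.Helper18.PSUMod Cfsg.Agent.Lib.Helper5.HermBridge Cfsg.Agent.Lib.Helper12.U3
open Cfsg.Agent.Lib.Helper7.U3B

section line

variable {F : Type*} [Field F] [Fintype F] {q : ℕ} (hF : Fintype.card F = q ^ 2)

/-- `q` even: the characteristic is two -/
theorem two_eq_zero_of_even (hF : Fintype.card F = q ^ 2) (hq : Even q) : (2 : F) = 0 := by
  obtain ⟨p, hp⟩ := CharP.exists F
  have := hp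
  have : Fact p.Prime := ⟨CharP.char_is_prime F p⟩
  obtain ⟨n, hpn, hn⟩ := FiniteField.card F p
  have h2 : 2 ∣ p ^ (n : ℕ) := by
    rw [← hn, hF]
    exact Dvd.dvd.pow hq.two_dvd (by norm_num)
  have h3 : 2 ∣ p := Nat.Prime.dvd_of_dvd_pow Nat.prime_two h2
  have h4 : p = 2 := ((Nat.prime_dvd_prime_iff_eq Nat.prime_two hpn).1 h3).symm
  subst h4
  exact_mod_cast CharP.cast_eq_zero F 2

/-- `q` even: an element of `PP` of order at most two lies in `TT` -/
theorem mem_TT_of_sq (hq : Even q) (s : GG hF) (hsP : s ∈ PP hF) (hs : s * s = 1) : s ∈ TT hF := by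
  have h2 := two_eq_zero_of_even hF hq
  have hca : ca s = 1 := by
    have h := ca_mul_of_mem hF s s hsP hsP
    rw [hs, ca_one] at h
    have h' : (ca s - 1) ^ 2 = 0 := by linear_combination -h + (1 - ca s) * h2
    have := pow_eq_zero_iff (two_ne_zero) |>.1 h'
    linear_combination this
  have hsQ : s ∈ QQ hF := mem_QQ_of_ca hF s hsP hca
  rw [mem_TT_iff hF s hsQ]
  have h := cq_mul hF s s hsQ hsQ
  rw [hs, cq_one] at h
  have h' : wq hF s * frobHom hF (wq hF s) = 0 := by linear_combination h + cq hF s * h2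
  rcases mul_eq_zero.1 h' with h'' | h''
  · exact h''
  · exact (map_eq_zero _).1 h''

/-- `q` even: every element of order at most two lies in a root group -/
theorem exists_mem_TV_of_sq (hq : Even q) (s : GG hF) (hs : s * s = 1) :
    ∃ u : V F 1, u ≠ 0 ∧ hV (frobHom hF) u u = 0 ∧ s ∈ TV (frobHom hF) u := by
  have hB := barOK_frob hF
  obtain ⟨a, ha⟩ := invol_fix hF s hs
  have hs' : (a⁻¹ * s * a) * (a⁻¹ * s * a) = 1 := by
    have : (a⁻¹ * s * a) * (a⁻¹ * s * a) = a⁻¹ * (s * s) * a := by group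
    rw [this, hs]; group
  have h1 := mem_TT_of_sq hF hq _ ha hs'
  have hTe : TT hF = TV (frobHom hF) ve := Te_eq_TV hB.invol
  rw [hTe] at h1
  have h2 := conj_mem_TV a h1
  have h3 : a * (a⁻¹ * s * a) * a⁻¹ = s := by group
  rw [h3] at h2
  refine ⟨av a ve, ?_, ?_, h2⟩
  · intro h
    have := av_eq_zero.1 h
    simp [ve, Prod.ext_iff] at this
  · rw [hV_av]; simp [hV, ve]

theorem TV_ve_le_SLn : TV (frobHom hF) (ve : V F 1) ≤ SLn hF := by
  rintro g ⟨c, -, -, hg⟩
  show av g w0 = w0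
  rw [hg]
  simp [w0, vw, hV, ve]

theorem TV_vf_le_SLn : TV (frobHom hF) (vf : V F 1) ≤ SLn hF := by
  rintro g ⟨c, -, -, hg⟩
  show av g w0 = w0
  rw [hg]
  simp [w0, vw, hV, vf]

/-- N9 ELATION-PAIR -/
theorem elation_pair (hq : Even q) (s t : GG hF) (hs : s * s = 1) (ht : t * t = 1) :
    (s * t) ^ (q * (q ^ 2 - 1)) = 1 := by
  have hB := barOK_frob hF
  have hb := hB.invol
  obtain ⟨u, hu0, hu, hsu⟩ := exists_mem_TV_of_sq hF hq s hs
  obtain ⟨v, hv0, hv, htv⟩ := exists_mem_TV_of_sq hF hq t ht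
  by_cases huv : hV (frobHom hF) u v = 0
  · -- the two elements commute
    have hcomm : s * t = t * s := TV_comm hb huv hsu htv
    have h2 : (s * t) ^ 2 = 1 := by
      rw [pow_two]
      calc s * t * (s * t) = s * (t * s) * t := by group
        _ = s * (s * t) * t := by rw [hcomm]
        _ = (s * s) * (t * t) := by group
        _ = 1 := by rw [hs, ht, one_mul]
    have heven : Even (q * (q ^ 2 - 1)) := hq.mul_right _
    obtain ⟨k, hk⟩ := heven
    have hk' : q * (q ^ 2 - 1) = 2 * k := by omega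
    rw [hk', pow_mul, h2, one_pow]
  · -- a hyperbolic pair: move it to `(ve, vf)`
    obtain ⟨g₁, a, ha, hug⟩ := exists_av_ve hB hu0 hu
    obtain ⟨v', hv'⟩ : ∃ v' : V F 1, v' = av g₁⁻¹ v := ⟨_, rfl⟩
    have hv'iso : hV (frobHom hF) v' v' = 0 := by rw [hv', hV_av, hv]
    have hv'far : v'.2.2 ≠ 0 := by
      intro h
      apply huv
      have h1 : hV (frobHom hF) (av g₁⁻¹ u) v' = hV (frobHom hF) u v := by rw [hv', hV_av]
      rw [← h1, hug, av_smul, av_inv_av, hV_smul_left, hV_ve_left, h, map_zero, mul_zero]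
    obtain ⟨x, hx⟩ := exists_EG_of_far hb hv'iso hv'far
    obtain ⟨g, hg⟩ : ∃ g : GG hF, g = g₁ * EG hb x := ⟨_, rfl⟩
    have hgve : av g ve = av g₁ ve := by rw [hg, av_mul, av_EG_ve]
    have hgvf : v = v'.2.2 • av g vf := by
      rw [hg, av_mul, ← av_smul, ← hx, hv', av_av_inv]
    have hs1 : g⁻¹ * s * g ∈ TV (frobHom hF) ve := by
      rw [← conj_mem_TV_iff g]
      have : g * (g⁻¹ * s * g) * g⁻¹ = s := by group
      rw [this, hgve, ← TV_smul hb ha, ← hug]
      exact hsu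
    have ht1 : g⁻¹ * t * g ∈ TV (frobHom hF) vf := by
      rw [← conj_mem_TV_iff g]
      have : g * (g⁻¹ * t * g) * g⁻¹ = t := by group
      rw [this, ← TV_smul hb hv'far, ← hgvf]
      exact htv
    have hst : g⁻¹ * (s * t) * g ∈ SLn hF := by
      have : g⁻¹ * (s * t) * g = (g⁻¹ * s * g) * (g⁻¹ * t * g) := by group
      rw [this]
      exact (SLn hF).mul_mem (TV_ve_le_SLn hF hs1) (TV_vf_le_SLn hF ht1)
    have hpow : (⟨g⁻¹ * (s * t) * g, hst⟩ : ↥(SLn hF)) ^ Nat.card ↥(SLn hF) = 1 :=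
      pow_card_eq_one'
    rw [Cfsg.Agent.Lib.Helper13.U3Leaf.card_SLn hF] at hpow
    have hpow' : (g⁻¹ * (s * t) * g) ^ (q * (q ^ 2 - 1)) = 1 := by
      have := congrArg (Subtype.val) hpow
      simpa using this
    have hconj : (g⁻¹ * (s * t) * g) ^ (q * (q ^ 2 - 1)) = g⁻¹ * (s * t) ^ (q * (q ^ 2 - 1)) * g := by
      have := conj_pow (a := g⁻¹) (b := s * t) (i := q * (q ^ 2 - 1))
      simpa using this
    rw [hconj] at hpow'
    have : (s * t) ^ (q * (q ^ 2 - 1)) = g * (g⁻¹ * (s * t) ^ (q * (q ^ 2 - 1)) * g) * g⁻¹ := by group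
    rw [this, hpow']; group

end line

end Cfsg.Agent.Lib.Helper6.U3Leaf
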