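import Mathlib
import Cfsg.Prelude.Def_Classical
import Cfsg.Prelude.Def_ClassicalGeometry
import Cfsg.Prelude.Def_GeometricClasses
import Cfsg.Agent.Lib.Helper5.SUMax
import Cfsg.Agent.Lib.Helper22.C3LDefs
import Cfsg.Agent.Lib.Helper22.C3LTool
import Cfsg.Agent.Lib.Helper16.C3uDefs

/-!
Unitary C3 (cubic field) market (helper16), leaves C3uE0 `iso_mem_Sset` and C3uE1 `all_mem_Sset` in CORE form
(the other leaves they use - TR, W3, F1, F3 - are hypotheses), helper6.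
-/

set_option autoImplicit false
set_option linter.unusedSectionVars false
set_option linter.unusedVariables false

namespace Cfsg.Agent.Lib.Helper6.C3uLeaf
open Cfsg Matrix Module Cfsg.Agent.Lib.Helper5.SpMax Cfsg.Agent.Lib.Helper5.SUMax
  Cfsg.Agent.Lib.Helper22.C3L Cfsg.Agent.Lib.Helper16.C3u

universe u
variable {F : Type u} [Field F] [Fintype F] {n q : ℕ} {E : Type u} [Field E] [Algebra F E]

local notation "𝕍" => (Fin n → F)
local notation "𝕄" => Matrix (Fin n) (Fin n) F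
local notation "ℍ" => (Cfsg.GU n F q ⊓ Cfsg.Geo.specialLinear (Fin n) F)

/-- the zero vector is a centre of every subgroup -/
theorem zero_mem_Sset (hF : Fintype.card F = q ^ 2) (M : Subgroup (GL (Fin n) F)) :
    (0 : 𝕍) ∈ Sset hF M := by
  intro c hc g hg
  have h1 : g = 1 := by
    apply Units.ext
    apply mat_eq_of_mulVec
    intro x
    rw [hg, smul_zero, add_zero, Units.val_one, Matrix.one_mulVec]
  rw [h1]
  exact M.one_mem

/-- E0 (core): if one non-zero `E`-isotropic vector is a centre of `M`, all are; `TR` = leaf C3uTR -/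
theorem iso_mem_Sset_core (S : KU n q F E) (hF : Fintype.card F = q ^ 2)
    (TR : ∀ {u u' : 𝕍}, u ≠ 0 → S.fE u u = 0 → u' ≠ 0 → S.fE u' u' = 0 →
      ∃ s ∈ ℍ, (∀ e : E, (s : 𝕄) * S.ρ e = S.ρ e * (s : 𝕄)) ∧ (s : 𝕄) *ᵥ u = u')
    (M : Subgroup (GL (Fin n) F))
    (hM : ∀ g ∈ ℍ, (∀ e : E, (g : 𝕄) * S.ρ e = S.ρ e * (g : 𝕄)) → g ∈ M)
    {p : 𝕍} (hp0 : p ≠ 0) (hp : S.fE p p = 0) (hpS : p ∈ Sset hF M) :
    ∀ v : 𝕍, S.fE v v = 0 → v ∈ Sset hF M := by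
  intro v hv
  by_cases hv0 : v = 0
  · rw [hv0]
    exact zero_mem_Sset hF M
  · obtain ⟨s, hsH, hsc, hsv⟩ := TR hp0 hp hv0 hv
    have hsM := hM s hsH hsc
    have h1 := Sset_mulVec_mem hF hsM hsH.1 hpS
    rwa [hsv] at h1

/-- E1 (core): if all `E`-isotropic vectors are centres of `M`, so are all `f`-isotropic vectors;
`hst` = leaf F1, `F3` = leaf F3 at `e₀ = 1`, `W3` = leaf W3 -/
theorem all_mem_Sset_core (S : KU n q F E) (hF : Fintype.card F = q ^ 2)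
    (hst : S.st ≠ RingEquiv.refl E)
    (F3 : ∃ a : E, S.st a = -a ∧ S.τ a ≠ 0)
    (W3 : ∀ {x : 𝕍}, x ≠ 0 → ∃ a : 𝕍, S.fE a a = 0 ∧ S.fE x a ≠ 0)
    (M : Subgroup (GL (Fin n) F))
    (h : ∀ v : 𝕍, S.fE v v = 0 → v ∈ Sset hF M) :
    ∀ x : 𝕍, Cfsg.hermForm n F q x x = 0 → x ∈ Sset hF M := by
  intro x hxx
  by_cases hν : S.fE x x = 0
  · exact h x hν
  have hx0 : x ≠ 0 := by
    rintro rfl
    exact hν (S.fE_zero_left 0)
  obtain ⟨a₀, ha₀, hδ⟩ := W3 hx0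
  -- choose `γ` with `γ + st γ = ν`, `τ (st γ) ≠ 0`
  obtain ⟨γ, hγ, hτγ⟩ : ∃ γ : E, γ + S.st γ = S.fE x x ∧ S.τ (S.st γ) ≠ 0 := by
    obtain ⟨γ₀, hγ₀⟩ := Cfsg.Agent.Lib.Helper5.UForm.tr_surj (σ := S.st) S.st_st hst (S.fE x x)
      (S.st_fE_self x)
    by_cases h0 : S.τ (S.st γ₀) = 0
    · obtain ⟨s, hs, hτs⟩ := F3
      refine ⟨γ₀ + s, ?_, ?_⟩
      · rw [map_add, hs, ← hγ₀]
        ring
      · rw [map_add, map_add, h0, hs, map_neg, zero_add]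
        exact neg_ne_zero.mpr hτs
    · exact ⟨γ₀, hγ₀, h0⟩
  -- `a := λ a₀` with `fE x a = γ`
  obtain ⟨a, haa, hxa⟩ : ∃ a : 𝕍, S.fE a a = 0 ∧ S.fE x a = γ := by
    refine ⟨act S.ρ (S.st (γ / S.fE x a₀)) a₀, ?_, ?_⟩
    · rw [S.fE_act_left, S.fE_act_right, ha₀, mul_zero, mul_zero]
    · rw [S.fE_act_right, S.st_st, div_mul_cancel₀ _ hδ]
  have hax : S.fE a x = S.st γ := by rw [S.herm x a, hxa]
  have hbb : S.fE (x - a) (x - a) = 0 := by
    rw [S.fE_sub_left, S.fE_sub_right, S.fE_sub_right, hxa, hax, haa, ← hγ]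
    ring
  have hab : S.fE a (x - a) = S.st γ := by
    rw [S.fE_sub_right, hax, haa, sub_zero]
  have hfab : Cfsg.hermForm n F q a (x - a) = S.τ (S.st γ) := by
    rw [S.form_eq', hab]
  have hfbb : Cfsg.hermForm n F q (x - a) (x - a) = 0 := by
    rw [S.form_eq', hbb, map_zero]
  have hskew : Cfsg.Agent.Lib.Helper5.HermBridge.frobQ hF (S.τ (S.st γ)) = -(S.τ (S.st γ)) := by
    rw [Cfsg.Agent.Lib.Helper5.HermBridge.frobQ_apply, ← S.τ_st, S.st_st]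
    have h1 : S.τ γ + S.τ (S.st γ) = 0 := by
      rw [← map_add, hγ, ← S.form_eq', hxx]
    exact eq_neg_of_add_eq_zero_left h1
  have hc : Cfsg.Agent.Lib.Helper5.HermBridge.frobQ hF (S.τ (S.st γ))⁻¹ = -(S.τ (S.st γ))⁻¹ := by
    rw [map_inv₀, hskew, inv_neg]
  have h1 := Sset_tv hF (h a haa) (h (x - a) hbb) hfbb hc
  rw [hfab, inv_mul_cancel₀ hτγ, one_smul] at h1
  have h2 : a + (x - a) = x := by abel
  rwa [h2] at h1

end Cfsg.Agent.Lib.Helper6.C3uLeaf
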