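import Mathlib
import Cfsg.Prelude.Def_Classical
import Cfsg.Prelude.Def_ClassicalGeometry
import Cfsg.Prelude.Def_GeometricClasses
import Cfsg.Agent.Lib.Helper5.SUMax
import Cfsg.Agent.Lib.Helper22.C3LDefs
import Cfsg.Agent.Lib.Helper22.C3LTool
import Cfsg.Agent.Lib.Helper16.C3uDefs
import Cfsg.Agent.Lib.Helper6.C3uECore
import Cfsg.Agent.Lib.Helper12.C3uF
import Cfsg.Agent.Lib.Helper26.C3uW1

/-!
Unitary C3 (cubic field) market (helper16), leaf C3uE1 `all_mem_Sset`, EXACT signature (helper6).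
-/

set_option autoImplicit false
set_option linter.unusedSectionVars false
set_option linter.unusedVariables false

namespace Cfsg.Agent.Lib.Helper6.C3uLeaf
open Cfsg Matrix Module Cfsg.Agent.Lib.Helper5.SpMax Cfsg.Agent.Lib.Helper5.SUMax
  Cfsg.Agent.Lib.Helper22.C3L Cfsg.Agent.Lib.Helper16.C3u

universe u
variable {F : Type u} [Field F] [Fintype F] {n q : ℕ} {E : Type u} [Field E] [Algebra F E]

local notation "𝕍" => (Fin n → F)
local notation "𝕄" => Matrix (Fin n) (Fin n) F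
local notation "ℍ" => (Cfsg.GU n F q ⊓ Cfsg.Geo.specialLinear (Fin n) F)

/-- E1: if all `E`-isotropic vectors are centres of `M`, so are all `f`-isotropic vectors -/
theorem all_mem_Sset (S : KU n q F E) (hF : Fintype.card F = q ^ 2) [FiniteDimensional F E]
    (hn : 2 * finrank F E ≤ n) (M : Subgroup (GL (Fin n) F))
    (h : ∀ v : 𝕍, S.fE v v = 0 → v ∈ Sset hF M) :
    ∀ x : 𝕍, Cfsg.hermForm n F q x x = 0 → x ∈ Sset hF M := by
  have hr : 0 < finrank F E := Module.finrank_pos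
  have hn0 : 0 < n := by omega
  refine all_mem_Sset_core S hF (Cfsg.Agent.Lib.Helper12.C3uLeaf.st_ne_refl S hF) ?_
    (fun hx => Cfsg.Agent.Lib.Helper26.C3uLeaf.exists_iso_not_perp S hF hn hx) M h
  obtain ⟨a, ha, hτ⟩ := Cfsg.Agent.Lib.Helper12.C3uLeaf.exists_skew_tau_ne S hF hn0
    (e₀ := 1) one_ne_zero (map_one _)
  rw [mul_one] at hτ
  exact ⟨a, ha, hτ⟩

end Cfsg.Agent.Lib.Helper6.C3uLeaf
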