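import Mathlib
import Cfsg.Prelude.Def_Classical
import Cfsg.Prelude.Def_ClassicalGeometry
import Cfsg.Prelude.Def_GeometricClasses
import Cfsg.Agent.Lib.Helper5.SUMax
import Cfsg.Agent.Lib.Helper5.UForm
import Cfsg.Agent.Lib.Helper22.C3LDefs
import Cfsg.Agent.Lib.Helper22.C3LTool
import Cfsg.Agent.Lib.Helper16.C3uDefs
import Cfsg.Agent.Lib.Helper13.C3qDefs
import Cfsg.Agent.Lib.Helper12.C3uF
import Cfsg.Agent.Lib.Helper12.C3uW0

/-!
S5840 conjunct (7) (rank-one unitary C3, planner helper13, notes/S5840_C3_leaves.lean): leaf **DU**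
`mem_of_perp` (helper6), exact signature: duality for the sesquilinear pairing `(x, y) ↦ τ (x * st y)`
on `E`.  Tools: `stSub S Φ = st⁻¹ Φ` (an `F`-subspace of the same dimension), the bilinear form
`tauB S = τ (x * y)`.
-/

set_option autoImplicit false
set_option linter.unusedSectionVars false
set_option linter.unusedVariables false

namespace Cfsg.Agent.Lib.Helper6.C3qLeaf
open Cfsg Matrix Module Cfsg.Agent.Lib.Helper5.SpMax Cfsg.Agent.Lib.Helper5.SUMax
  Cfsg.Agent.Lib.Helper22.C3L Cfsg.Agent.Lib.Helper16.C3u Cfsg.Agent.Lib.Helper13.C3q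

universe u
variable {F : Type u} [Field F] [Fintype F] {n q : ℕ} {E : Type u} [Field E] [Algebra F E]

local notation "𝕍" => (Fin n → F)
local notation "𝕄" => Matrix (Fin n) (Fin n) F
local notation "ℍ" => (Cfsg.GU n F q ⊓ Cfsg.Geo.specialLinear (Fin n) F)

theorem du_st_fsmul (S : KU n q F E) (c : F) (e : E) : S.st (c • e) = (c ^ q) • S.st e := by
  rw [Algebra.smul_def, map_mul, S.st_alg, ← Algebra.smul_def]

/-- the `F`-subspace `st⁻¹ Φ = st Φ` -/
def stSub (S : KU n q F E) (Φ : Submodule F E) : Submodule F E where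
  carrier := {x | S.st x ∈ Φ}
  add_mem' := by
    intro a b ha hb
    show S.st (a + b) ∈ Φ
    rw [map_add]
    exact Φ.add_mem ha hb
  zero_mem' := by
    show S.st 0 ∈ Φ
    rw [map_zero]
    exact Φ.zero_mem
  smul_mem' := by
    intro c x hx
    show S.st (c • x) ∈ Φ
    rw [du_st_fsmul]
    exact Φ.smul_mem _ hx

theorem mem_stSub (S : KU n q F E) (Φ : Submodule F E) (x : E) : x ∈ stSub S Φ ↔ S.st x ∈ Φ :=
  Iff.rfl

theorem one_lt_card_du (hF : Fintype.card F = q ^ 2) : 1 < Fintype.card F :=
  Fintype.one_lt_card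

/-- `st Φ` has the dimension of `Φ` -/
theorem finrank_stSub (S : KU n q F E) [FiniteDimensional F E] (Φ : Submodule F E) :
    finrank F (stSub S Φ) = finrank F Φ := by
  classical
  have : Finite E := Module.finite_of_finite F
  have e : ↥(stSub S Φ) ≃ ↥Φ :=
    { toFun := fun x => ⟨S.st x.1, x.2⟩
      invFun := fun y => ⟨S.st y.1, by
        show S.st (S.st y.1) ∈ Φ
        rw [S.st_st]; exact y.2⟩
      left_inv := fun x => Subtype.ext (S.st_st x.1)
      right_inv := fun y => Subtype.ext (S.st_st y.1) }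
  have h1 := Nat.card_congr e
  rw [Module.natCard_eq_pow_finrank (K := F) (V := ↥(stSub S Φ)),
    Module.natCard_eq_pow_finrank (K := F) (V := ↥Φ)] at h1
  exact Nat.pow_right_injective (Finite.one_lt_card (α := F)) h1

/-- the bilinear form `τ (x * y)` -/
def tauB (S : KU n q F E) : LinearMap.BilinForm F E := (LinearMap.mul F E).compr₂ S.τ

theorem tauB_apply (S : KU n q F E) (x y : E) : tauB S x y = S.τ (x * y) := rfl

theorem tauB_ker (S : KU n q F E) (hF : Fintype.card F = q ^ 2) (hn : 0 < n) :
    LinearMap.ker (tauB S) = ⊥ := by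
  rw [LinearMap.ker_eq_bot']
  intro a ha
  apply Cfsg.Agent.Lib.Helper12.C3uLeaf.tau_nondeg S hF hn
  intro b
  have := LinearMap.congr_fun ha b
  simpa [tauB_apply] using this

theorem finrank_tauB_orthogonal (S : KU n q F E) (hF : Fintype.card F = q ^ 2) (hn : 0 < n)
    [FiniteDimensional F E] (W : Submodule F E) :
    finrank F W + finrank F ((tauB S).orthogonal W) = finrank F E := by
  have h := LinearMap.BilinForm.finrank_add_finrank_orthogonal' (B := tauB S) W
  rw [tauB_ker S hF hn, inf_bot_eq, finrank_bot, add_zero] at h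
  exact h

/-- **DU** [M] duality for `(x, y) ↦ τ (x * st y)`: a pair of mutually orthogonal subspaces of
complementary dimensions are each other's orthogonal -/
theorem mem_of_perp (S : KU n q F E) (hF : Fintype.card F = q ^ 2) (hn : 0 < n)
    [FiniteDimensional F E] (B Φ : Submodule F E) (hdim : finrank F Φ + finrank F B = finrank F E)
    (hperp : ∀ b ∈ B, ∀ φ ∈ Φ, S.τ (b * S.st φ) = 0) :
    (∀ φ : E, (∀ b ∈ B, S.τ (b * S.st φ) = 0) → φ ∈ Φ) ∧
    (∀ b : E, (∀ φ ∈ Φ, S.τ (b * S.st φ) = 0) → b ∈ B) := by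
  constructor
  · -- `Φ = st⁻¹ (B^⊥)`
    have hle : Φ ≤ stSub S ((tauB S).orthogonal B) := by
      intro φ hφ
      rw [mem_stSub, LinearMap.BilinForm.mem_orthogonal_iff]
      intro b hb
      rw [tauB_apply]
      exact hperp b hb φ hφ
    have hfr : finrank F Φ = finrank F ↥(stSub S ((tauB S).orthogonal B)) := by
      rw [finrank_stSub]
      have := finrank_tauB_orthogonal S hF hn B
      omega
    have heq := Submodule.eq_of_le_of_finrank_eq hle hfr
    intro φ h
    rw [heq, mem_stSub, LinearMap.BilinForm.mem_orthogonal_iff]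
    intro b hb
    rw [tauB_apply]
    exact h b hb
  · -- `B = (st Φ)^⊥`
    have hle : B ≤ (tauB S).orthogonal (stSub S Φ) := by
      intro b hb
      rw [LinearMap.BilinForm.mem_orthogonal_iff]
      intro y hy
      rw [tauB_apply, mul_comm]
      have := hperp b hb (S.st y) hy
      rwa [S.st_st] at this
    have hfr : finrank F B = finrank F ↥((tauB S).orthogonal (stSub S Φ)) := by
      have := finrank_tauB_orthogonal S hF hn (stSub S Φ)
      rw [finrank_stSub] at this
      omega
    have heq := Submodule.eq_of_le_of_finrank_eq hle hfr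
    intro b h
    rw [heq, LinearMap.BilinForm.mem_orthogonal_iff]
    intro y hy
    rw [tauB_apply, mul_comm]
    have := h (S.st y) hy
    rwa [S.st_st] at this

end Cfsg.Agent.Lib.Helper6.C3qLeaf
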