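import Mathlib
import Cfsg.Prelude.Def_Classical
import Cfsg.Prelude.Def_ClassicalGeometry
import Cfsg.Prelude.Def_GeometricClasses
import Cfsg.Agent.Lib.Helper5.SUMax
import Cfsg.Agent.Lib.Helper5.UForm
import Cfsg.Agent.Lib.Helper22.C3LDefs
import Cfsg.Agent.Lib.Helper22.C3LTool
import Cfsg.Agent.Lib.Helper16.C3uDefs
import Cfsg.Agent.Lib.Helper13.C3qDefs
import Cfsg.Agent.Lib.Helper12.C3uF
import Cfsg.Agent.Lib.Helper12.C3uW0
import Cfsg.Agent.Lib.Helper26.C3uW1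
import Cfsg.Agent.Lib.Helper27.C3qKC

/-!
S5840 conjunct (7) (rank-one unitary C3, planner helper13, notes/S5840_C3_leaves.lean): leaf **G1**
`exists_skew_meet` (helper6), exact signature: `B ≠ 0`, `2 dim Φ ≥ r`, `B ⟂ Φ` for `τ (x * st y)`:
some skew `a` has `a Φ ∩ B ≠ 0` (pigeonhole `Φ → {z : st z = z, τ z = 0}`, `φ ↦ b φ* + b* φ`, on
helper27's `card_K0_le`).
-/

set_option autoImplicit false
set_option linter.unusedSectionVars false
set_option linter.unusedVariables false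

namespace Cfsg.Agent.Lib.Helper6.C3qLeaf
open Cfsg Matrix Module Cfsg.Agent.Lib.Helper5.SpMax Cfsg.Agent.Lib.Helper5.SUMax
  Cfsg.Agent.Lib.Helper22.C3L Cfsg.Agent.Lib.Helper16.C3u Cfsg.Agent.Lib.Helper13.C3q

universe u
variable {F : Type u} [Field F] [Fintype F] {n q : ℕ} {E : Type u} [Field E] [Algebra F E]

local notation "𝕍" => (Fin n → F)
local notation "𝕄" => Matrix (Fin n) (Fin n) F
local notation "ℍ" => (Cfsg.GU n F q ⊓ Cfsg.Geo.specialLinear (Fin n) F)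

/-- **G1** [M] (generic in `r`) `B ≠ 0`, `2 dim Φ ≥ r`: a skew `a` with `a Φ ∩ B ≠ 0` -/
theorem exists_skew_meet (S : KU n q F E) (hF : Fintype.card F = q ^ 2) (hn : 0 < n)
    [FiniteDimensional F E] (B Φ : Submodule F E) (hB : B ≠ ⊥)
    (hΦ : finrank F E ≤ 2 * finrank F Φ)
    (hperp : ∀ b ∈ B, ∀ φ ∈ Φ, S.τ (b * S.st φ) = 0) :
    ∃ a : E, S.st a = -a ∧ smulSub a Φ ⊓ B ≠ ⊥ := by
  classical
  have hq : 1 < q := Cfsg.Agent.Lib.Helper26.C3uLeaf.one_lt_q26 hF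
  have : Finite E := Module.finite_of_finite F
  obtain ⟨b, hbB, hb0⟩ := Submodule.exists_mem_ne_zero_of_ne_bot hB
  -- the map `η`
  have hη : ∀ φ : ↥Φ, S.st (b * S.st φ.1 + S.st b * φ.1) = b * S.st φ.1 + S.st b * φ.1 ∧
      S.τ (b * S.st φ.1 + S.st b * φ.1) = 0 := by
    intro φ
    refine ⟨?_, ?_⟩
    · rw [map_add, map_mul, map_mul, S.st_st, S.st_st]; ring
    · have h1 := hperp b hbB φ.1 φ.2
      have h2 : S.st b * φ.1 = S.st (b * S.st φ.1) := by rw [map_mul, S.st_st]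
      rw [map_add, h2, S.τ_st, h1, zero_pow (by omega), add_zero]
  let η : ↥Φ → {z : E // S.st z = z ∧ S.τ z = 0} :=
    fun φ => ⟨b * S.st φ.1 + S.st b * φ.1, hη φ⟩
  -- cardinalities
  have hK := Cfsg.Agent.Lib.Helper27.C3qLeaf.card_K0_le S hF hn
  have hcardΦ : Nat.card ↥Φ = q ^ (2 * finrank F Φ) := by
    rw [Module.natCard_eq_pow_finrank (K := F) (V := ↥Φ), Nat.card_eq_fintype_card, hF, ← pow_mul]
  have hlt : Nat.card {z : E // S.st z = z ∧ S.τ z = 0} < Nat.card ↥Φ := by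
    have h1 : q ^ finrank F E ≤ q ^ (2 * finrank F Φ) := Nat.pow_le_pow_right (by omega) hΦ
    have h2 : 0 < Nat.card {z : E // S.st z = z ∧ S.τ z = 0} :=
      Nat.card_pos_iff.mpr ⟨⟨⟨0, map_zero _, map_zero _⟩⟩, inferInstance⟩
    rw [hcardΦ]
    nlinarith
  have : Fintype ↥Φ := Fintype.ofFinite _
  have : Fintype {z : E // S.st z = z ∧ S.τ z = 0} := Fintype.ofFinite _
  rw [Nat.card_eq_fintype_card, Nat.card_eq_fintype_card] at hlt
  obtain ⟨φ₁, φ₂, hne, heq⟩ := Fintype.exists_ne_map_eq_of_card_lt η hlt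
  have heq' : b * S.st φ₁.1 + S.st b * φ₁.1 = b * S.st φ₂.1 + S.st b * φ₂.1 :=
    congrArg Subtype.val heq
  obtain ⟨φ, hφdef⟩ : ∃ φ : E, φ = φ₁.1 - φ₂.1 := ⟨_, rfl⟩
  have hφΦ : φ ∈ Φ := by rw [hφdef]; exact Φ.sub_mem φ₁.2 φ₂.2
  have hφ0 : φ ≠ 0 := by
    rw [hφdef]
    intro h
    exact hne (Subtype.ext (sub_eq_zero.mp h))
  have hrel : b * S.st φ + S.st b * φ = 0 := by
    rw [hφdef, map_sub]
    linear_combination heq'
  have hstφ0 : S.st φ ≠ 0 := by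
    intro h
    apply hφ0
    rw [← S.st_st φ, h, map_zero]
  refine ⟨b / φ, ?_, ?_⟩
  · rw [map_div₀]
    field_simp
    linear_combination hrel
  · intro hbot
    have hmem : b ∈ smulSub (b / φ) Φ ⊓ B := by
      refine Submodule.mem_inf.mpr ⟨?_, hbB⟩
      exact mem_smulSub.mpr ⟨φ, hφΦ, div_mul_cancel₀ b hφ0⟩
    rw [hbot, Submodule.mem_bot] at hmem
    exact hb0 hmem

end Cfsg.Agent.Lib.Helper6.C3qLeaf
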