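import Mathlib
import Cfsg.Prelude.Def_Classical
import Cfsg.Prelude.Def_ClassicalGeometry
import Cfsg.Prelude.Def_GeometricClasses
import Cfsg.Agent.Lib.Helper5.SUMax
import Cfsg.Agent.Lib.Helper5.UForm
import Cfsg.Agent.Lib.Helper22.C3LDefs
import Cfsg.Agent.Lib.Helper22.C3LTool
import Cfsg.Agent.Lib.Helper16.C3uDefs
import Cfsg.Agent.Lib.Helper12.C3uF
import Cfsg.Agent.Lib.Helper12.C3uW0
import Cfsg.Agent.Lib.Helper26.C3uW1
import Cfsg.Agent.Lib.Helper22.C3u2FM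
import Cfsg.Agent.Lib.Helper16.C3u2N0

/-!
S5840 / S5801 rank-one unitary C3, stage (A) market (notes/S5840_C3_A_leaves.lean), leaf **SK2**
`sk_two` (helper6): for `n = 2 [E:F]` a matrix mapping every isotropic `E`-line into an `E`-line
normalises `E`.  Core `sk_two_core` takes the statements of the leaves FM (`map_mul_of_fixed`) and
N0 (`mem_normalizer_of_conj`) as hypotheses.
-/

set_option autoImplicit false
set_option linter.unusedSectionVars false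
set_option linter.unusedVariables false

namespace Cfsg.Agent.Lib.Helper6.C3u2Leaf
open Cfsg Matrix Module Cfsg.Agent.Lib.Helper5.SpMax Cfsg.Agent.Lib.Helper5.SUMax
  Cfsg.Agent.Lib.Helper22.C3L Cfsg.Agent.Lib.Helper16.C3u

universe u
variable {F : Type u} [Field F] [Fintype F] {n q : ℕ} {E : Type u} [Field E] [Algebra F E]

local notation "𝕍" => (Fin n → F)
local notation "𝕄" => Matrix (Fin n) (Fin n) F
local notation "ℍ" => (Cfsg.GU n F q ⊓ Cfsg.Geo.specialLinear (Fin n) F)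

/-- uniqueness of the coefficient on an `E`-line -/
theorem sk2_act_inj (S : KU n q F E) {v : 𝕍} (hv : v ≠ 0) {x y : E}
    (h : act S.ρ x v = act S.ρ y v) : x = y := by
  have h1 : act S.ρ (x - y) v = 0 := by rw [act_sub, h, sub_self]
  rcases act_eq_zero S.ρ h1 with h2 | h2
  · exact sub_eq_zero.mp h2
  · exact absurd h2 hv

/-- two `E`-lines spanning `V` (`n = 2r`) are independent -/
theorem sk2_indep (S : KU n q F E) [FiniteDimensional F E] (hn : n = 2 * finrank F E)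
    {u₀ u₁ : 𝕍} (hu₀ : u₀ ≠ 0) (hu₁ : u₁ ≠ 0) (htop : line S.ρ u₀ ⊔ line S.ρ u₁ = ⊤)
    {x y x' y' : E} (h : act S.ρ x u₀ + act S.ρ y u₁ = act S.ρ x' u₀ + act S.ρ y' u₁) :
    x = x' ∧ y = y' := by
  have hinf : line S.ρ u₀ ⊓ line S.ρ u₁ = ⊥ := by
    have h1 := Submodule.finrank_sup_add_finrank_inf_eq (line S.ρ u₀) (line S.ρ u₁)
    rw [htop, finrank_top, finrank_line hu₀, finrank_line hu₁, Module.finrank_fin_fun] at h1
    have h2 : finrank F ↥(line S.ρ u₀ ⊓ line S.ρ u₁) = 0 := by omega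
    exact Submodule.finrank_eq_zero.mp h2
  have h3 : act S.ρ (x - x') u₀ = act S.ρ (y' - y) u₁ := by
    rw [act_sub, act_sub]
    have := h
    calc act S.ρ x u₀ - act S.ρ x' u₀
        = (act S.ρ x u₀ + act S.ρ y u₁) - act S.ρ x' u₀ - act S.ρ y u₁ := by abel
      _ = (act S.ρ x' u₀ + act S.ρ y' u₁) - act S.ρ x' u₀ - act S.ρ y u₁ := by rw [h]
      _ = act S.ρ y' u₁ - act S.ρ y u₁ := by abel
  have h4 : act S.ρ (x - x') u₀ ∈ line S.ρ u₀ ⊓ line S.ρ u₁ :=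
    Submodule.mem_inf.mpr ⟨act_mem_line _ _, by rw [h3]; exact act_mem_line _ _⟩
  rw [hinf, Submodule.mem_bot] at h4
  have h5 : act S.ρ (y' - y) u₁ = 0 := by rw [← h3, h4]
  constructor
  · rcases act_eq_zero S.ρ h4 with h6 | h6
    · exact sub_eq_zero.mp h6
    · exact absurd h6 hu₀
  · rcases act_eq_zero S.ρ h5 with h6 | h6
    · exact (sub_eq_zero.mp h6).symm
    · exact absurd h6 hu₁

/-- a hyperbolic pair spans `V` when `n = 2r` -/
theorem sk2_pair_top (S : KU n q F E) [FiniteDimensional F E] (hn : n = 2 * finrank F E)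
    {v₀ v₁ : 𝕍} (hv₀ : v₀ ≠ 0) (h00 : S.fE v₀ v₀ = 0) (h11 : S.fE v₁ v₁ = 0)
    (h01 : S.fE v₀ v₁ = 1) : line S.ρ v₀ ⊔ line S.ρ v₁ = ⊤ := by
  have hv₁ : v₁ ≠ 0 := by
    rintro rfl
    rw [S.fE_zero_right] at h01
    exact zero_ne_one h01
  have hinf : line S.ρ v₀ ⊓ line S.ρ v₁ = ⊥ := by
    rw [eq_bot_iff]
    intro z hz
    obtain ⟨hz0, hz1⟩ := Submodule.mem_inf.mp hz
    obtain ⟨x, rfl⟩ := mem_line.mp hz0
    obtain ⟨y, hy⟩ := mem_line.mp hz1
    have h1 : S.fE (act S.ρ x v₀) v₁ = S.fE (act S.ρ y v₁) v₁ := by rw [hy]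
    rw [S.fE_act_left, S.fE_act_left, h01, h11, mul_one, mul_zero] at h1
    rw [h1, act_zero]
    exact Submodule.zero_mem _
  have h1 := Submodule.finrank_sup_add_finrank_inf_eq (line S.ρ v₀) (line S.ρ v₁)
  rw [hinf, finrank_bot, finrank_line hv₀, finrank_line hv₁, add_zero] at h1
  apply Submodule.eq_top_of_finrank_eq
  rw [h1, Module.finrank_fin_fun]
  omega

/-- SK2, core: with the statements of FM and N0 as hypotheses -/
theorem sk_two_core (S : KU n q F E) (hF : Fintype.card F = q ^ 2) [FiniteDimensional F E]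
    (hn : n = 2 * finrank F E)
    (hFM : ∀ α : E →ₗ[F] E, (∀ t c : E, S.st c = c → α (t * c) = α t * α c) →
      ∀ x y : E, α (x * y) = α x * α y)
    (hN0 : ∀ g : GL (Fin n) F,
      (∀ e : E, ∃ l : E, (g : 𝕄) * S.ρ e * ((g⁻¹ : GL (Fin n) F) : 𝕄) = S.ρ l) →
      g ∈ Cfsg.Geo.subalgebraNormalizer S.ρ.range)
    (g : GL (Fin n) F)
    (h : ∀ v : 𝕍, S.fE v v = 0 → ∀ e : E,
      ∃ e' : E, (g : 𝕄) *ᵥ (act S.ρ e v) = act S.ρ e' ((g : 𝕄) *ᵥ v)) :
    g ∈ Cfsg.Geo.subalgebraNormalizer S.ρ.range := by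
  have hr : 0 < finrank F E := Module.finrank_pos
  have hn0 : 0 < n := by omega
  obtain ⟨v₀, hv₀, h00⟩ := Cfsg.Agent.Lib.Helper26.C3uLeaf.exists_iso S hF (by omega)
  obtain ⟨v₁, h11, h01⟩ := Cfsg.Agent.Lib.Helper26.C3uLeaf.exists_partner S hF hv₀ h00
  have hv₁ : v₁ ≠ 0 := by
    rintro rfl
    rw [S.fE_zero_right] at h01
    exact zero_ne_one h01
  have h10 : S.fE v₁ v₀ = 1 := by rw [S.herm, h01, map_one]
  have hgne : ∀ x : 𝕍, x ≠ 0 → (g : 𝕄) *ᵥ x ≠ 0 := by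
    intro x hx h0
    apply hx
    rw [← inv_mul_mulVec g x, h0, Matrix.mulVec_zero]
  obtain ⟨u₀, hu₀def⟩ : ∃ u₀ : 𝕍, u₀ = (g : 𝕄) *ᵥ v₀ := ⟨_, rfl⟩
  obtain ⟨u₁, hu₁def⟩ : ∃ u₁ : 𝕍, u₁ = (g : 𝕄) *ᵥ v₁ := ⟨_, rfl⟩
  have hu₀ : u₀ ≠ 0 := by rw [hu₀def]; exact hgne _ hv₀
  have hu₁ : u₁ ≠ 0 := by rw [hu₁def]; exact hgne _ hv₁
  -- the maps `α`, `β`
  have hα' : ∀ t : E, ∃ e' : E, (g : 𝕄) *ᵥ (act S.ρ t v₀) = act S.ρ e' u₀ := by
    intro t; rw [hu₀def]; exact h v₀ h00 t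
  have hβ' : ∀ t : E, ∃ e' : E, (g : 𝕄) *ᵥ (act S.ρ t v₁) = act S.ρ e' u₁ := by
    intro t; rw [hu₁def]; exact h v₁ h11 t
  choose α hα using hα'
  choose β hβ using hβ'
  have hα1 : α 1 = 1 := by
    apply sk2_act_inj S hu₀
    rw [← hα, act_one, act_one, hu₀def]
  have hαadd : ∀ s t, α (s + t) = α s + α t := by
    intro s t
    apply sk2_act_inj S hu₀
    rw [← hα, act_add, Matrix.mulVec_add, hα, hα, act_add]
  have hαsmul : ∀ (c : F) t, α (c • t) = c • α t := by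
    intro c t
    apply sk2_act_inj S hu₀
    rw [← hα, act_smul, Matrix.mulVec_smul, hα, act_smul]
  -- the images span
  have htop : line S.ρ u₀ ⊔ line S.ρ u₁ = ⊤ := by
    rw [eq_top_iff]
    intro y _
    have hy : ((g⁻¹ : GL (Fin n) F) : 𝕄) *ᵥ y ∈ line S.ρ v₀ ⊔ line S.ρ v₁ := by
      rw [sk2_pair_top S hn hv₀ h00 h11 h01]; exact Submodule.mem_top
    obtain ⟨a, ha, b, hb, hab⟩ := Submodule.mem_sup.mp hy
    obtain ⟨x, rfl⟩ := mem_line.mp ha
    obtain ⟨z, rfl⟩ := mem_line.mp hb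
    have : y = act S.ρ (α x) u₀ + act S.ρ (β z) u₁ := by
      rw [← hα, ← hβ, ← Matrix.mulVec_add, hab, mul_inv_mulVec]
    rw [this]
    exact Submodule.add_mem_sup (act_mem_line _ _) (act_mem_line _ _)
  -- the key relation
  have hkey : ∀ a : E, S.st a = -a → ∀ t : E, β (t * a) = α t * β a := by
    intro a ha t
    have hiso : S.fE (v₀ + act S.ρ a v₁) (v₀ + act S.ρ a v₁) = 0 := by
      rw [S.add_left, S.fE_add_right, S.fE_add_right, S.fE_act_left, S.fE_act_left,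
        S.fE_act_right, S.fE_act_right, h00, h11, h01, h10, ha]
      ring
    obtain ⟨e', he'⟩ := h _ hiso t
    have hw : (g : 𝕄) *ᵥ (v₀ + act S.ρ a v₁) = act S.ρ 1 u₀ + act S.ρ (β a) u₁ := by
      rw [Matrix.mulVec_add, hβ, act_one, hu₀def]
    have hl : (g : 𝕄) *ᵥ act S.ρ t (v₀ + act S.ρ a v₁) =
        act S.ρ (α t) u₀ + act S.ρ (β (t * a)) u₁ := by
      rw [act_vadd, ← act_mul, Matrix.mulVec_add, hα, hβ]
    rw [hl, hw, act_vadd, ← act_mul, ← act_mul, mul_one] at he'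
    obtain ⟨e1, e2⟩ := sk2_indep S hn hu₀ hu₁ htop he'
    rw [e2, ← e1]
  -- a non-zero skew element
  obtain ⟨a₀, ha₀0, ha₀⟩ := Cfsg.Agent.Lib.Helper5.UForm.exists_skew S.st_st
    (Cfsg.Agent.Lib.Helper12.C3uLeaf.st_ne_refl S hF)
  have hβa₀ : β a₀ ≠ 0 := by
    intro h0
    have h1 := hβ a₀
    rw [h0, act_zero] at h1
    have h2 : act S.ρ a₀ v₁ = 0 := by
      rw [← inv_mul_mulVec g (act S.ρ a₀ v₁), h1, Matrix.mulVec_zero]
    rcases act_eq_zero S.ρ h2 with h3 | h3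
    · exact ha₀0 h3
    · exact hv₁ h3
  let αL : E →ₗ[F] E :=
    { toFun := α
      map_add' := hαadd
      map_smul' := by
        intro c t
        simp only [RingHom.id_apply]
        exact hαsmul c t }
  have hαL : ∀ t, αL t = α t := fun _ => rfl
  have hfix : ∀ t c : E, S.st c = c → αL (t * c) = αL t * αL c := by
    intro t c hc
    rw [hαL, hαL, hαL]
    have hskew : S.st (c * a₀) = -(c * a₀) := by rw [map_mul, hc, ha₀]; ring
    have e1 : β (t * (c * a₀)) = α t * β (c * a₀) := hkey _ hskew t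
    have e2 : β (c * a₀) = α c * β a₀ := hkey _ ha₀ c
    have e3 : β (t * c * a₀) = α (t * c) * β a₀ := hkey _ ha₀ (t * c)
    rw [← mul_assoc, e3, e2] at e1
    have e4 : α (t * c) * β a₀ = (α t * α c) * β a₀ := by rw [e1]; ring
    exact mul_right_cancel₀ hβa₀ e4
  have hmul : ∀ x y : E, α (x * y) = α x * α y := hFM αL hfix
  -- `β s = α s * β₁`
  obtain ⟨β₁, hβ₁def⟩ : ∃ β₁ : E, β₁ = α a₀⁻¹ * β a₀ := ⟨_, rfl⟩
  have hββ : ∀ s : E, β s = α s * β₁ := by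
    intro s
    have e1 : β (s * a₀⁻¹ * a₀) = α (s * a₀⁻¹) * β a₀ := hkey _ ha₀ _
    rw [inv_mul_cancel_right₀ ha₀0, hmul] at e1
    rw [e1, hβ₁def]; ring
  -- semilinearity
  have hsemi : ∀ (e : E) (x : 𝕍), (g : 𝕄) *ᵥ act S.ρ e x = act S.ρ (α e) ((g : 𝕄) *ᵥ x) := by
    intro e x
    have hx : x ∈ line S.ρ v₀ ⊔ line S.ρ v₁ := by
      rw [sk2_pair_top S hn hv₀ h00 h11 h01]; exact Submodule.mem_top
    obtain ⟨a, ha, b, hb, rfl⟩ := Submodule.mem_sup.mp hx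
    obtain ⟨t, rfl⟩ := mem_line.mp ha
    obtain ⟨s, rfl⟩ := mem_line.mp hb
    rw [act_vadd, ← act_mul, ← act_mul, Matrix.mulVec_add, Matrix.mulVec_add, hα, hβ, hα, hβ,
      act_vadd, ← act_mul, ← act_mul, hmul, hββ, hββ, hmul]
    congr 2
    ring
  apply hN0
  intro e
  refine ⟨α e, ?_⟩
  apply mat_eq_of_mulVec
  intro y
  rw [← Matrix.mulVec_mulVec, ← Matrix.mulVec_mulVec, ← act_def, hsemi, mul_inv_mulVec, act_def]

/-- **SK2** (exact signature of notes/S5840_C3_A_leaves.lean), wired on FM (helper22) and N0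
(helper16) -/
theorem sk_two (S : KU n q F E) (hF : Fintype.card F = q ^ 2) [FiniteDimensional F E]
    (hn : n = 2 * finrank F E) (g : GL (Fin n) F)
    (h : ∀ v : 𝕍, S.fE v v = 0 → ∀ e : E,
      ∃ e' : E, (g : 𝕄) *ᵥ (act S.ρ e v) = act S.ρ e' ((g : 𝕄) *ᵥ v)) :
    g ∈ Cfsg.Geo.subalgebraNormalizer S.ρ.range := by
  have hr : 0 < finrank F E := Module.finrank_pos
  have hn0 : 0 < n := by omega
  exact sk_two_core S hF hn
    (fun α hα => Cfsg.Agent.Lib.Helper22.C3u2Leaf.map_mul_of_fixed S hF α hα)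
    (fun g' hg' => Cfsg.Agent.Lib.Helper16.C3u2Leaf.mem_normalizer_of_conj S hn0 g' hg') g h

end Cfsg.Agent.Lib.Helper6.C3u2Leaf
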