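import Mathlib
import Cfsg.Prelude.Def_Classical
import Cfsg.Prelude.Def_ClassicalGeometry
import Cfsg.Prelude.Def_GeometricClasses
import Cfsg.Agent.Lib.Helper5.SUMax
import Cfsg.Agent.Lib.Helper5.UForm
import Cfsg.Agent.Lib.Helper22.C3LDefs
import Cfsg.Agent.Lib.Helper22.C3LTool
import Cfsg.Agent.Lib.Helper16.C3uDefs
import Cfsg.Agent.Lib.Helper12.C3uF
import Cfsg.Agent.Lib.Helper12.C3uW0
import Cfsg.Agent.Lib.Helper26.C3uW1
import Cfsg.Agent.Lib.Helper16.C3u2TR2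
import Cfsg.Agent.Lib.Helper6.C3u2SK2
import Cfsg.Agent.Lib.Helper27.C3u2CW1

/-!
S5840 / S5801 rank-one unitary C3 (`GU_2(q^r).r < SU_2r(q)`), STAGE (A), assembled (helper6): for
`n = 2 [E:F]`, `M ≤ SU` containing `C_SU(E)` and not normalising `E`, `L₀ = E v₀` isotropic, some `g ∈ M`
has `0 < dim_F (L₀ ∩ g L₀) < [E:F]` (`exists_partial_two`, `exists_partial_two'`).  Leaves: CW0, CW1
(helper27), TR2, N0 (helper16), FM (helper22), SK2 (helper6); plan: notes/S5840_C3_A_leaves.lean.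
-/

set_option autoImplicit false
set_option linter.unusedSectionVars false
set_option linter.unusedVariables false

namespace Cfsg.Agent.Lib.Helper6.C3u2AMain
open Cfsg Matrix Module Cfsg.Agent.Lib.Helper5.SpMax Cfsg.Agent.Lib.Helper5.SUMax
  Cfsg.Agent.Lib.Helper22.C3L Cfsg.Agent.Lib.Helper16.C3u

universe u
variable {F : Type u} [Field F] [Fintype F] {n q : ℕ} {E : Type u} [Field E] [Algebra F E]

local notation "𝕍" => (Fin n → F)
local notation "𝕄" => Matrix (Fin n) (Fin n) F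
local notation "ℍ" => (Cfsg.GU n F q ⊓ Cfsg.Geo.specialLinear (Fin n) F)

/-! ## assembly of stage (A) -/

/-- the image of an `E`-line under a matrix commuting with `E` -/
theorem img_line_of_comm (S : KU n q F E) {s : GL (Fin n) F}
    (hs : ∀ e : E, (s : 𝕄) * S.ρ e = S.ρ e * (s : 𝕄)) (v : 𝕍) :
    img s (line S.ρ v) = line S.ρ ((s : 𝕄) *ᵥ v) := by
  have hact : ∀ e : E, (s : 𝕄) *ᵥ act S.ρ e v = act S.ρ e ((s : 𝕄) *ᵥ v) := by
    intro e
    rw [act_def, act_def, Matrix.mulVec_mulVec, Matrix.mulVec_mulVec, hs e]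
  apply le_antisymm
  · intro x hx
    obtain ⟨w, hw, rfl⟩ := mem_img.mp hx
    obtain ⟨e, rfl⟩ := mem_line.mp hw
    rw [hact]
    exact act_mem_line _ _
  · intro x hx
    obtain ⟨e, rfl⟩ := mem_line.mp hx
    rw [← hact]
    exact mulVec_mem_img (act_mem_line _ _)

/-- an isotropic `E`-line is totally isotropic for `f` -/
theorem form_line_self (S : KU n q F E) {v : 𝕍} (hv : S.fE v v = 0) {x : 𝕍}
    (hx : x ∈ line S.ρ v) : Cfsg.hermForm n F q x x = 0 := by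
  obtain ⟨e, rfl⟩ := mem_line.mp hx
  rw [S.form_eq', S.fE_act_left, S.fE_act_right, hv, mul_zero, mul_zero, map_zero]

/-- **(A)** some `g ∈ M` moves the base line `L₀` to a line meeting `L₀` non-trivially and properly -/
theorem exists_partial_two (S : KU n q F E) (hF : Fintype.card F = q ^ 2) [FiniteDimensional F E]
    (hn : n = 2 * finrank F E) (M : Subgroup (GL (Fin n) F)) (hMS : M ≤ ℍ)
    (hM : ∀ g ∈ ℍ, (∀ e : E, (g : 𝕄) * S.ρ e = S.ρ e * (g : 𝕄)) → g ∈ M)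
    (hnot : ¬ M ≤ Cfsg.Geo.subalgebraNormalizer S.ρ.range) {v₀ : 𝕍} (hv₀ : v₀ ≠ 0)
    (hiso : S.fE v₀ v₀ = 0) :
    ∃ g ∈ M, line S.ρ v₀ ⊓ img g (line S.ρ v₀) ≠ ⊥ ∧ img g (line S.ρ v₀) ≠ line S.ρ v₀ := by
  by_contra hcon
  push Not at hcon
  have hr : 0 < finrank F E := Module.finrank_pos
  have hn0 : 0 < n := by omega
  apply hnot
  intro g hg
  apply Cfsg.Agent.Lib.Helper6.C3u2Leaf.sk_two S hF hn g
  intro v hv e
  by_cases hv0 : v = 0
  · subst hv0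
    exact ⟨0, by rw [act_vzero, Matrix.mulVec_zero, act_vzero]⟩
  -- `s L₀ = E v`
  obtain ⟨s, hsH, hsc, hsv⟩ := Cfsg.Agent.Lib.Helper16.C3u2Leaf.exists_cent_map_line S hF hn hv₀ hiso hv0 hv
  have hsM : s ∈ M := hM s hsH hsc
  have hsv0 : (s : 𝕄) *ᵥ v₀ ≠ 0 := by
    intro h0
    apply hv₀
    rw [← inv_mul_mulVec s v₀, h0, Matrix.mulVec_zero]
  have hsL : img s (line S.ρ v₀) = line S.ρ v := by
    rw [img_line_of_comm S hsc, line_eq_of_mem hsv hsv0]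
  -- the image `W = g (E v)` is totally isotropic of dimension `r`
  have hgU : ∀ x y, Cfsg.hermForm n F q ((g : 𝕄) *ᵥ x) ((g : 𝕄) *ᵥ y) =
      Cfsg.hermForm n F q x y := mem_GU.mp (hMS hg).1
  have hWti : ∀ x ∈ img g (line S.ρ v), Cfsg.hermForm n F q x x = 0 := by
    intro x hx
    obtain ⟨y, hy, rfl⟩ := mem_img.mp hx
    rw [hgU]
    exact form_line_self S hv hy
  have hWdim : finrank F E ≤ finrank F ↥(img g (line S.ρ v)) := by
    rw [finrank_img, finrank_line hv0]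
  obtain ⟨w, hwW, hw0, hww⟩ := Cfsg.Agent.Lib.Helper27.C3u2Leaf.exists_iso_of_ti S hF hn0 _ hWti hWdim
  -- `s' L₀ = E w`
  obtain ⟨s', hs'H, hs'c, hs'w⟩ := Cfsg.Agent.Lib.Helper16.C3u2Leaf.exists_cent_map_line S hF hn hv₀ hiso hw0 hww
  have hs'M : s' ∈ M := hM s' hs'H hs'c
  have hs'v0 : (s' : 𝕄) *ᵥ v₀ ≠ 0 := by
    intro h0
    apply hv₀
    rw [← inv_mul_mulVec s' v₀, h0, Matrix.mulVec_zero]
  have hs'L : img s' (line S.ρ v₀) = line S.ρ w := by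
    rw [img_line_of_comm S hs'c, line_eq_of_mem hs'w hs'v0]
  -- `g'' = s'⁻¹ g s`
  have hg''M : s'⁻¹ * g * s ∈ M := M.mul_mem (M.mul_mem (M.inv_mem hs'M) hg) hsM
  have himg : ∀ x : 𝕍, x ∈ img (s'⁻¹ * g * s) (line S.ρ v₀) ↔
      (s' : 𝕄) *ᵥ x ∈ img g (line S.ρ v) := by
    intro x
    rw [← hsL]
    constructor
    · intro hx
      obtain ⟨y, hy, rfl⟩ := mem_img.mp hx
      have : (s' : 𝕄) *ᵥ (((s'⁻¹ * g * s : GL (Fin n) F) : 𝕄) *ᵥ y) =
          (g : 𝕄) *ᵥ ((s : 𝕄) *ᵥ y) := by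
        rw [Units.val_mul, Units.val_mul, ← Matrix.mulVec_mulVec, ← Matrix.mulVec_mulVec,
          mul_inv_mulVec]
      rw [this]
      exact mulVec_mem_img (mulVec_mem_img hy)
    · intro hx
      obtain ⟨y', hy', hxy⟩ := mem_img.mp hx
      obtain ⟨y, hy, rfl⟩ := mem_img.mp hy'
      have : x = ((s'⁻¹ * g * s : GL (Fin n) F) : 𝕄) *ᵥ y := by
        rw [Units.val_mul, Units.val_mul, ← Matrix.mulVec_mulVec, ← Matrix.mulVec_mulVec, hxy,
          inv_mul_mulVec]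
      rw [this]
      exact mulVec_mem_img hy
  have hmeet : line S.ρ v₀ ⊓ img (s'⁻¹ * g * s) (line S.ρ v₀) ≠ ⊥ := by
    intro hbot
    have hy : ((s'⁻¹ : GL (Fin n) F) : 𝕄) *ᵥ w ∈
        line S.ρ v₀ ⊓ img (s'⁻¹ * g * s) (line S.ρ v₀) := by
      refine Submodule.mem_inf.mpr ⟨?_, ?_⟩
      · rw [← mem_img_iff, hs'L]
        exact self_mem_line w
      · rw [himg, mul_inv_mulVec]
        exact hwW
    rw [hbot, Submodule.mem_bot] at hy
    apply hw0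
    rw [← mul_inv_mulVec s' w, hy, Matrix.mulVec_zero]
  have heq := hcon _ hg''M hmeet
  -- `g` maps `E v` into `E w`
  have hmaps : ∀ x ∈ line S.ρ v, (g : 𝕄) *ᵥ x ∈ line S.ρ w := by
    intro x hx
    have h1 : ((s'⁻¹ : GL (Fin n) F) : 𝕄) *ᵥ ((g : 𝕄) *ᵥ x) ∈
        img (s'⁻¹ * g * s) (line S.ρ v₀) := by
      rw [himg, mul_inv_mulVec]
      exact mulVec_mem_img hx
    rw [heq, ← mem_img_iff, hs'L] at h1
    exact h1
  have hgv0 : (g : 𝕄) *ᵥ v ≠ 0 := by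
    intro h0
    apply hv0
    rw [← inv_mul_mulVec g v, h0, Matrix.mulVec_zero]
  have hline : line S.ρ ((g : 𝕄) *ᵥ v) = line S.ρ w :=
    line_eq_of_mem (hmaps v (self_mem_line v)) hgv0
  have h2 := hmaps _ (act_mem_line e v)
  rw [← hline] at h2
  obtain ⟨e', he'⟩ := mem_line.mp h2
  exact ⟨e', he'.symm⟩

/-- **(A)**, dimension form -/
theorem exists_partial_two' (S : KU n q F E) (hF : Fintype.card F = q ^ 2) [FiniteDimensional F E]
    (hn : n = 2 * finrank F E) (M : Subgroup (GL (Fin n) F)) (hMS : M ≤ ℍ)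
    (hM : ∀ g ∈ ℍ, (∀ e : E, (g : 𝕄) * S.ρ e = S.ρ e * (g : 𝕄)) → g ∈ M)
    (hnot : ¬ M ≤ Cfsg.Geo.subalgebraNormalizer S.ρ.range) {v₀ : 𝕍} (hv₀ : v₀ ≠ 0)
    (hiso : S.fE v₀ v₀ = 0) :
    ∃ g ∈ M, 0 < finrank F ↥(line S.ρ v₀ ⊓ img g (line S.ρ v₀)) ∧
      finrank F ↥(line S.ρ v₀ ⊓ img g (line S.ρ v₀)) < finrank F E := by
  obtain ⟨g, hg, hne, hneq⟩ := exists_partial_two S hF hn M hMS hM hnot hv₀ hiso
  refine ⟨g, hg, ?_, ?_⟩
  · rw [Module.finrank_pos_iff_exists_ne_zero]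
    obtain ⟨x, hx, hx0⟩ := Submodule.exists_mem_ne_zero_of_ne_bot hne
    exact ⟨⟨x, hx⟩, fun h => hx0 (congrArg Subtype.val h)⟩
  · have hfr : finrank F ↥(img g (line S.ρ v₀)) = finrank F E := by
      rw [finrank_img, finrank_line hv₀]
    rw [← hfr]
    apply Submodule.finrank_lt_finrank_of_lt
    refine lt_of_le_of_ne inf_le_right ?_
    intro h
    apply hneq
    have hle : img g (line S.ρ v₀) ≤ line S.ρ v₀ := by
      rw [← h]; exact inf_le_left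
    have hfr0 : finrank F ↥(line S.ρ v₀) = finrank F E := finrank_line hv₀
    exact Submodule.eq_of_le_of_finrank_eq hle (by rw [hfr, hfr0])

end Cfsg.Agent.Lib.Helper6.C3u2AMain
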