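/-
helper6: Brauer's deficiency classes.  The property "every non-principal block has defect `< r`"
passes from `G` to the centralizers of `p`-elements, and (for `r > 0`) back from the centralizers
of the elements of order `p`.
-/
import Mathlib
import Cfsg.Agent.Lib.Helper6.BrauerIdem
import Cfsg.Agent.Lib.Helper6.DefectOrder
import Cfsg.Agent.Lib.Lead.SecondMain4
import Cfsg.Agent.S0936

set_option autoImplicit false

namespace Cfsg.Agent.Lib.Helper6

open Cfsg Cfsg.Agent.CharLib Cfsg.Agent.Lib.Helper24 Cfsg.Agent.Lib.Helper23
open scoped ComplexConjugate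

universe u

namespace DeficiencyClass

section cent

variable {G : Type u} [Group G]

theorem isPGroup_zpowers {p : ℕ} {y : G} (hy : ∃ k : ℕ, orderOf y = p ^ k) :
    IsPGroup p (Subgroup.zpowers y) := by
  obtain ⟨k, hk⟩ := hy
  apply IsPGroup.of_card (n := k)
  rw [Nat.card_zpowers, hk]

theorem centralizer_zpowers_eq_singleton (y : G) :
    Subgroup.centralizer ((Subgroup.zpowers y : Subgroup G) : Set G) =
      Subgroup.centralizer ({y} : Set G) := by
  ext g
  constructor
  · intro hg
    rw [Subgroup.mem_centralizer_singleton_iff]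
    exact ((Subgroup.mem_centralizer_iff.mp hg) y (Subgroup.mem_zpowers y)).symm
  · intro hg
    rw [Subgroup.mem_centralizer_singleton_iff] at hg
    rw [Subgroup.mem_centralizer_iff]
    rintro _ ⟨i, rfl⟩
    have h1 : Commute g y := hg
    exact ((h1.zpow_right i).eq).symm

theorem zpowers_le_centralizer_singleton (y : G) :
    Subgroup.zpowers y ≤ Subgroup.centralizer ({y} : Set G) := by
  rw [Subgroup.zpowers_le, Subgroup.mem_centralizer_singleton_iff]

theorem centralizer_singleton_le_normalizer (y : G) :
    Subgroup.centralizer ({y} : Set G) ≤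
      Subgroup.normalizer ((Subgroup.zpowers y : Subgroup G) : Set G) := by
  rw [← centralizer_zpowers_eq_singleton]
  exact Subgroup.centralizer_le_normalizer _

end cent

section main

variable {G : Type u} [Group G] [Finite G] {M : Ideal AlgInt}

/-- Blocks of centralizers of `p`-elements induce blocks of `G`. -/
theorem inducedBlockDefined_centralizer {p : ℕ} [hpp : Fact p.Prime] (hM : IsPModular p M)
    (y : G) (hy : ∃ k : ℕ, orderOf y = p ^ k)
    (b : Set (IrrCharacter (Subgroup.centralizer ({y} : Set G)))) (hb : IsPBlock M b) :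
    InducedBlockDefined M (Subgroup.centralizer ({y} : Set G)) b :=
  inducedBlockDefined_of_le_normalizer hM (Subgroup.zpowers y) _ (isPGroup_zpowers hy)
    (zpowers_le_centralizer_singleton y) (centralizer_zpowers_eq_singleton y).le
    (centralizer_singleton_le_normalizer y) b hb

/-- Deficiency class passes to centralizers of `p`-elements. -/
theorem deficiency_down {p : ℕ} [hpp : Fact p.Prime] (hM : IsPModular p M) (r : ℕ)
    (hG : ∀ B' : Set (IrrCharacter G), IsPBlock M B' → B' ≠ principalBlock M G →
      blockDefect p B' < r) (y : G) (hy : ∃ k : ℕ, orderOf y = p ^ k)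
    (b : Set (IrrCharacter (Subgroup.centralizer ({y} : Set G)))) (hb : IsPBlock M b)
    (hne : b ≠ principalBlock M (Subgroup.centralizer ({y} : Set G))) :
    blockDefect p b < r := by
  have hprime : M.IsPrime := isPrime_of_isPModular hM
  have hdef := inducedBlockDefined_centralizer hM y hy b hb
  obtain ⟨B, hind⟩ := id hdef
  have hBne : B ≠ principalBlock M G := by
    intro h
    rw [h] at hind
    exact hne ((Cfsg.Agent.S0936.result p M hM _ b hdef).mp hind)
  have hlt := hG B hind.2.1 hBne
  obtain ⟨D, hD⟩ := exists_isDefectGroup hM b hb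
  obtain ⟨E, hE, hle⟩ := exists_defectGroup_ge_of_induced hM _ b B hind D hD
  have hcD := card_defectGroup_eq hM b hb D hD
  have hcE := card_defectGroup_eq hM B hind.2.1 E hE
  have hcmap : Nat.card (D.map (Subgroup.centralizer ({y} : Set G)).subtype) = Nat.card D :=
    Subgroup.card_map_of_injective (Subgroup.subtype_injective _)
  have h1 : p ^ blockDefect p b ≤ p ^ blockDefect p B := by
    rw [← hcD, ← hcE, ← hcmap]
    exact Subgroup.card_le_of_le hle
  have h2 : blockDefect p b ≤ blockDefect p B :=
    (Nat.pow_le_pow_iff_right hpp.out.one_lt).mp h1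
  omega

/-- Deficiency class passes back from the centralizers of the elements of order `p`. -/
theorem deficiency_up {p : ℕ} [hpp : Fact p.Prime] (hM : IsPModular p M) (r : ℕ) (hr : 0 < r)
    (hC : ∀ y : G, orderOf y = p →
      ∀ b : Set (IrrCharacter (Subgroup.centralizer ({y} : Set G))), IsPBlock M b →
        b ≠ principalBlock M (Subgroup.centralizer ({y} : Set G)) → blockDefect p b < r)
    (B : Set (IrrCharacter G)) (hB : IsPBlock M B) (hne : B ≠ principalBlock M G) :
    blockDefect p B < r := by
  classical
  have hprime : M.IsPrime := isPrime_of_isPModular hM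
  by_contra hcon
  push Not at hcon
  obtain ⟨D, hD⟩ := exists_isDefectGroup hM B hB
  have hcard := card_defectGroup_eq hM B hB D hD
  obtain ⟨x, hx, hxS⟩ := hD
  have hxS' : IsSylowIn p (Subgroup.centralizer ({x} : Set G)) D := hxS
  have hDp : IsPGroup p D := hxS'.isPGroup
  have hDx : D ≤ Subgroup.centralizer ({x} : Set G) := hxS'.le
  -- an element of order `p` in the centre of `D`
  have hDnt : Nontrivial D := by
    rw [← Finite.one_lt_card_iff_nontrivial, hcard]
    exact Nat.one_lt_pow (by omega) hpp.out.one_lt
  have hZ : Nontrivial (Subgroup.center D) := hDp.center_nontrivial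
  have hZp : IsPGroup p (Subgroup.center D) := hDp.to_subgroup _
  have hdvd : p ∣ Nat.card (Subgroup.center D) := by
    rcases hZp.card_eq_or_dvd with h1 | h1
    · exfalso
      have := Finite.one_lt_card_iff_nontrivial.mpr hZ
      omega
    · exact h1
  obtain ⟨z, hz⟩ := exists_prime_orderOf_dvd_card' p hdvd
  set y : G := ((z : D) : G) with hydef
  have hy : orderOf y = p := by
    rw [hydef, Subgroup.orderOf_coe, Subgroup.orderOf_coe]
    exact hz
  have hyD : y ∈ D := (z : D).2
  have hDy : D ≤ Subgroup.centralizer ({y} : Set G) := by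
    intro d hd
    rw [Subgroup.mem_centralizer_singleton_iff]
    have h1 := Subgroup.mem_center_iff.mp z.2 ⟨d, hd⟩
    exact congrArg Subtype.val h1
  have hxy : x ∈ Subgroup.centralizer ((Subgroup.zpowers y : Subgroup G) : Set G) := by
    rw [centralizer_zpowers_eq_singleton, Subgroup.mem_centralizer_singleton_iff]
    have := Subgroup.mem_centralizer_singleton_iff.mp (hDx hyD)
    exact this.symm
  -- a block of the centralizer inducing `B` with a unit coefficient at `x`
  obtain ⟨b, hind, hcoef⟩ := BrauerIdem.exists_induced_block_coeff hM (Subgroup.zpowers y)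
    (Subgroup.centralizer ({y} : Set G)) (isPGroup_zpowers ⟨1, by rw [hy, pow_one]⟩)
    (zpowers_le_centralizer_singleton y) (centralizer_zpowers_eq_singleton y).le
    (centralizer_singleton_le_normalizer y) B hB x hxy hx.2.1
  have hbne : b ≠ principalBlock M (Subgroup.centralizer ({y} : Set G)) := by
    intro h
    have h1 := (Cfsg.Agent.S0936.result p M hM _ b ⟨B, hind⟩).mpr h
    exact hne (isInducedBlock_unique hind h1)
  have hlt := hC y hy b hind.1 hbne
  -- the defect of `b` is at least that of `B`
  let _ := Fintype.ofFinite (Subgroup.centralizer ({y} : Set G))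
  obtain ⟨Db, hDb⟩ := exists_isDefectGroup hM b hind.1
  have hcDb := card_defectGroup_eq hM b hind.1 Db hDb
  obtain ⟨l, hl, hlS⟩ := hDb
  have hlS' : IsSylowIn p (Subgroup.centralizer ({l} : Set (Subgroup.centralizer ({y} : Set G))))
      Db := hlS
  obtain ⟨ξ₀, hbeq⟩ := hind.1
  have hξ₀ : ξ₀ ∈ b := by rw [hbeq]; exact mem_blockOf_self ξ₀
  have hcle : CentLE p (⟨x, (centralizer_zpowers_eq_singleton y).le hxy⟩ :
      Subgroup.centralizer ({y} : Set G)) l := by
    apply centLE_of_blockCoeff hM ξ₀ l (hl.2.2 ξ₀ hξ₀)
    rw [← hbeq]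
    exact hcoef
  have hQ : IsPGroup p (D.subgroupOf (Subgroup.centralizer ({y} : Set G))) := hDp.comap_subtype
  have hQx : D.subgroupOf (Subgroup.centralizer ({y} : Set G)) ≤
      Subgroup.centralizer ({(⟨x, (centralizer_zpowers_eq_singleton y).le hxy⟩ :
        Subgroup.centralizer ({y} : Set G))} : Set (Subgroup.centralizer ({y} : Set G))) := by
    intro q hq
    rw [Subgroup.mem_centralizer_singleton_iff]
    have h1 := Subgroup.mem_centralizer_singleton_iff.mp (hDx (Subgroup.mem_subgroupOf.mp hq))
    exact Subtype.ext h1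
  have hle := card_le_of_centLE hcle hQ hQx hlS'
  have hcQ : Nat.card (D.subgroupOf (Subgroup.centralizer ({y} : Set G))) = Nat.card D :=
    Nat.card_congr (Subgroup.subgroupOfEquivOfLe hDy).toEquiv
  rw [hcQ, hcard, hcDb] at hle
  have h2 : blockDefect p B ≤ blockDefect p b :=
    (Nat.pow_le_pow_iff_right hpp.out.one_lt).mp hle
  omega

end main

end DeficiencyClass

end Cfsg.Agent.Lib.Helper6
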