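/-
helper6: Brauer's count of the characters of a block by subsections,
`k(B) = ∑_{(x,b)} l(b)`, from the second main theorem, block orthogonality on `p`-regular
elements and the decomposition of `G` into `p`-sections.
-/
import Mathlib
import Cfsg.Agent.Lib.Helper6.BlockOrth
import Cfsg.Agent.Lib.Helper6.BrauerMap
import Cfsg.Agent.Lib.Helper6.PrincipalConst
import Cfsg.Agent.Lib.Helper10.Coherence
import Cfsg.Agent.Lib.Lead.KleinBlock4
import Cfsg.Agent.Lib.Lead.SecondMain4
import Cfsg.Agent.S0923

set_option autoImplicit false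

namespace Cfsg.Agent.Lib.Helper6

open Cfsg Cfsg.Agent.CharLib Cfsg.Agent.Lib.Helper24
open scoped ComplexConjugate

universe u

section ortho

variable {H : Type u} [Group H] [Fintype H]

/-- Orthogonality passes from generating sets to spans. -/
theorem classInner_eq_zero_of_mem_span {S T : Set (H → ℂ)}
    (h : ∀ f ∈ S, ∀ g ∈ T, classInner f g = 0) {f g : H → ℂ}
    (hf : f ∈ Submodule.span ℂ S) (hg : g ∈ Submodule.span ℂ T) : classInner f g = 0 := by
  induction hf using Submodule.span_induction with
  | mem f hf =>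
    induction hg using Submodule.span_induction with
    | mem g hg => exact h f hf g hg
    | zero => exact classInner_zero_right _
    | add g₁ g₂ _ _ h1 h2 => rw [classInner_add_right, h1, h2, add_zero]
    | smul c g _ h1 => rw [classInner_smul_right, h1, mul_zero]
  | zero => exact classInner_zero_left _
  | add f₁ f₂ _ _ h1 h2 => rw [classInner_add_left, h1, h2, add_zero]
  | smul c f _ h1 => rw [classInner_smul_left, h1, mul_zero]

/-- The sum map of a family of subspaces. -/
noncomputable def sumMap {ι : Type*} [Fintype ι] [DecidableEq ι]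
    (W : ι → Submodule ℂ (H → ℂ)) : (∀ i, W i) →ₗ[ℂ] (H → ℂ) :=
  LinearMap.lsum ℂ (fun i => W i) ℂ (fun i => (W i).subtype)

theorem sumMap_apply {ι : Type*} [Fintype ι] [DecidableEq ι]
    (W : ι → Submodule ℂ (H → ℂ)) (w : ∀ i, W i) : sumMap W w = ∑ i, (w i : H → ℂ) := by
  unfold sumMap
  rw [LinearMap.lsum_apply, LinearMap.sum_apply]
  rfl

/-- The sum map of a pairwise orthogonal family is injective. -/
theorem sumMap_injective {ι : Type*} [Fintype ι] [DecidableEq ι]
    (W : ι → Submodule ℂ (H → ℂ))
    (horth : ∀ i j, i ≠ j → ∀ f ∈ W i, ∀ g ∈ W j, classInner f g = 0) :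
    Function.Injective (sumMap W) := by
  rw [injective_iff_map_eq_zero]
  intro w hw
  rw [sumMap_apply] at hw
  funext j
  have h1 : classInner (∑ i, (w i : H → ℂ)) (w j : H → ℂ) =
      classInner (w j : H → ℂ) (w j : H → ℂ) := by
    rw [classInner_sum_left, Finset.sum_eq_single j]
    · intro i _ hij
      exact horth i j hij _ (w i).2 _ (w j).2
    · intro h
      exact absurd (Finset.mem_univ j) h
  rw [hw, classInner_zero_left] at h1
  have h2 := Cfsg.Agent.Lib.Helper10.classInner_self_eq_zero h1.symm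
  exact Subtype.ext h2

end ortho

section reg

variable {H : Type u} [Group H] [Fintype H] {M : Ideal AlgInt}

/-- The span of the `p`-regular parts of the members of a set of irreducible characters. -/
noncomputable def regSpan (p : ℕ) (A : Set (IrrCharacter H)) : Submodule ℂ (H → ℂ) :=
  Submodule.span ℂ ((fun χ : IrrCharacter H => pRegularPart p (χ : H → ℂ)) '' A)

omit [Fintype H] in
theorem blockRank_eq_finrank_regSpan (p : ℕ) (A : Set (IrrCharacter H)) :
    blockRank p A = Module.finrank ℂ (regSpan p A) := rfl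

omit [Fintype H] in
theorem pRegularPart_mem_regSpan (p : ℕ) {A : Set (IrrCharacter H)} {ψ : IrrCharacter H}
    (hψ : ψ ∈ A) : pRegularPart p (ψ : H → ℂ) ∈ regSpan p A :=
  Submodule.subset_span ⟨ψ, hψ, rfl⟩

omit [Fintype H] in
theorem regSpan_mono (p : ℕ) {A A' : Set (IrrCharacter H)} (h : A ⊆ A') :
    regSpan p A ≤ regSpan p A' :=
  Submodule.span_mono (Set.image_mono h)

/-- Characters in different blocks have orthogonal `p`-regular parts. -/
theorem classInner_pRegularPart_eq_zero {p : ℕ} [hpp : Fact p.Prime] (hM : IsPModular p M)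
    (ψ ψ' : IrrCharacter H) (h : ¬ SameBlock M (ψ' : H → ℂ) (ψ : H → ℂ)) :
    classInner (pRegularPart p (ψ : H → ℂ)) (pRegularPart p (ψ' : H → ℂ)) = 0 := by
  classical
  have hprime : M.IsPrime := isPrime_of_isPModular hM
  have h1 := sum_regular_eq_zero_of_not_mem_block hM ψ' ψ h ψ' (mem_blockOf_self ψ')
  unfold classInner
  have h2 : ∑ g : H, pRegularPart p (ψ : H → ℂ) g * conj (pRegularPart p (ψ' : H → ℂ) g) =
      ∑ x : H, (if ¬ p ∣ orderOf x then (ψ : H → ℂ) x * conj ((ψ' : H → ℂ) x) else 0) := by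
    apply Finset.sum_congr rfl
    intro g _
    by_cases hg : IsPRegular p g
    · have hg' : ¬ p ∣ orderOf g := hg
      rw [pRegularPart_of_regular' p _ hg, pRegularPart_of_regular' p _ hg, if_pos hg']
    · have hg' : ¬ ¬ p ∣ orderOf g := hg
      rw [pRegularPart_of_singular' p _ hg, zero_mul, if_neg hg']
  rw [h2, h1, mul_zero]

/-- Sets of characters with no common block have orthogonal regular spans. -/
theorem regSpan_orthogonal {p : ℕ} [hpp : Fact p.Prime] (hM : IsPModular p M)
    {A A' : Set (IrrCharacter H)}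
    (hAA' : ∀ ψ ∈ A, ∀ ψ' ∈ A', ¬ SameBlock M (ψ' : H → ℂ) (ψ : H → ℂ)) :
    ∀ f ∈ regSpan p A, ∀ g ∈ regSpan p A', classInner f g = 0 := by
  intro f hf g hg
  apply classInner_eq_zero_of_mem_span _ hf hg
  rintro _ ⟨ψ, hψ, rfl⟩ _ ⟨ψ', hψ', rfl⟩
  exact classInner_pRegularPart_eq_zero hM ψ ψ' (hAA' ψ hψ ψ' hψ')

/-- The regular rank of a union of blocks is the sum of the regular ranks. -/
theorem finrank_regSpan_sUnion {p : ℕ} [hpp : Fact p.Prime] (hM : IsPModular p M)
    (J : Set (Set (IrrCharacter H))) (hJ : ∀ b ∈ J, IsPBlock M b) :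
    Module.finrank ℂ (regSpan p (⋃₀ J)) = ∑ᶠ b ∈ J, Module.finrank ℂ (regSpan p b) := by
  classical
  have hprime : M.IsPrime := isPrime_of_isPModular hM
  let _ : Fintype ↥J := Fintype.ofFinite _
  set W : ↥J → Submodule ℂ (H → ℂ) := fun b => regSpan p (b : Set (IrrCharacter H)) with hW
  have hinj : Function.Injective (sumMap W) := by
    apply sumMap_injective
    intro b b' hbb'
    apply regSpan_orthogonal hM
    intro ψ hψ ψ' hψ' hsame
    apply hbb'
    apply Subtype.ext
    have h1 : ψ ∈ (b' : Set (IrrCharacter H)) := by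
      obtain ⟨ψ₀, h0⟩ := hJ _ b'.2
      rw [h0] at hψ' ⊢
      exact sameBlock_trans hψ' hsame
    exact isPBlock_eq_of_mem (hJ _ b.2) (hJ _ b'.2) hψ h1
  have hrange : LinearMap.range (sumMap W) = regSpan p (⋃₀ J) := by
    apply le_antisymm
    · rintro _ ⟨w, rfl⟩
      rw [sumMap_apply]
      apply Submodule.sum_mem
      intro b _
      exact regSpan_mono p (Set.subset_sUnion_of_mem b.2) (w b).2
    · unfold regSpan
      rw [Submodule.span_le]
      rintro _ ⟨ψ, ⟨b, hb, hψb⟩, rfl⟩
      refine ⟨Pi.single (⟨b, hb⟩ : ↥J) ⟨pRegularPart p (ψ : H → ℂ),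
        pRegularPart_mem_regSpan p hψb⟩, ?_⟩
      rw [sumMap_apply, Finset.sum_eq_single (⟨b, hb⟩ : ↥J)]
      · rw [Pi.single_eq_same]
      · intro b' _ hb'
        rw [Pi.single_eq_of_ne hb']
        rfl
      · intro h
        exact absurd (Finset.mem_univ _) h
  rw [← hrange, LinearMap.finrank_range_of_inj hinj, Module.finrank_pi_fintype,
    ← finsum_set_coe_eq_finsum_mem, finsum_eq_sum_of_fintype]

/-- Members of a regular span are class functions. -/
theorem isClassFunction_of_mem_regSpan (p : ℕ) {A : Set (IrrCharacter H)} {f : H → ℂ}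
    (hf : f ∈ regSpan p A) : IsClassFunction H f := by
  unfold regSpan at hf
  induction hf using Submodule.span_induction with
  | mem f hf =>
    obtain ⟨ψ, -, rfl⟩ := hf
    intro g h
    change pRegularPart p (ψ : H → ℂ) (h * g * h⁻¹) = pRegularPart p (ψ : H → ℂ) g
    have hψ : IsClassFunction H (ψ : H → ℂ) :=
      IsCharacter.isClassFunction (IsIrrCharacter.isCharacter ψ.2)
    by_cases hg : IsPRegular p g
    · have hg' : IsPRegular p (h * g * h⁻¹) := by
        unfold IsPRegular at hg ⊢
        rwa [orderOf_conj_eq']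
      rw [pRegularPart_of_regular' p _ hg, pRegularPart_of_regular' p _ hg', hψ g h]
    · have hg' : ¬ IsPRegular p (h * g * h⁻¹) := by
        unfold IsPRegular at hg ⊢
        rwa [orderOf_conj_eq']
      rw [pRegularPart_of_singular' p _ hg, pRegularPart_of_singular' p _ hg']
  | zero => intro g h; rfl
  | add f₁ f₂ _ _ h1 h2 =>
    intro g h
    rw [Pi.add_apply, Pi.add_apply, h1 g h, h2 g h]
  | smul c f _ h1 =>
    intro g h
    rw [Pi.smul_apply, Pi.smul_apply, h1 g h]

/-- Members of a regular span vanish at the `p`-singular elements. -/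
theorem apply_eq_zero_of_mem_regSpan (p : ℕ) {A : Set (IrrCharacter H)} {f : H → ℂ}
    (hf : f ∈ regSpan p A) {y : H} (hy : ¬ IsPRegular p y) : f y = 0 := by
  unfold regSpan at hf
  induction hf using Submodule.span_induction with
  | mem f hf =>
    obtain ⟨ψ, -, rfl⟩ := hf
    exact pRegularPart_of_singular' p _ hy
  | zero => rfl
  | add f₁ f₂ _ _ h1 h2 => rw [Pi.add_apply, h1, h2, add_zero]
  | smul c f _ h1 => rw [Pi.smul_apply, h1, smul_zero]

end reg

section regpart

variable {G : Type u} [Group G] [Finite G]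

theorem pRegularPart_add (p : ℕ) (f g : G → ℂ) :
    pRegularPart p (f + g) = pRegularPart p f + pRegularPart p g := by
  funext y
  by_cases hy : IsPRegular p y
  · rw [Pi.add_apply, pRegularPart_of_regular' p _ hy, pRegularPart_of_regular' p _ hy,
      pRegularPart_of_regular' p _ hy, Pi.add_apply]
  · rw [Pi.add_apply, pRegularPart_of_singular' p _ hy, pRegularPart_of_singular' p _ hy,
      pRegularPart_of_singular' p _ hy, add_zero]

theorem pRegularPart_smul (p : ℕ) (a : ℂ) (f : G → ℂ) :
    pRegularPart p (a • f) = a • pRegularPart p f := by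
  funext y
  by_cases hy : IsPRegular p y
  · rw [Pi.smul_apply, pRegularPart_of_regular' p _ hy, pRegularPart_of_regular' p _ hy,
      Pi.smul_apply]
  · rw [Pi.smul_apply, pRegularPart_of_singular' p _ hy, pRegularPart_of_singular' p _ hy,
      smul_zero]

theorem pRegularPart_sum (p : ℕ) {ι : Type*} (s : Finset ι) (f : ι → G → ℂ) :
    pRegularPart p (∑ i ∈ s, f i) = ∑ i ∈ s, pRegularPart p (f i) := by
  classical
  induction s using Finset.induction_on with
  | empty =>
    rw [Finset.sum_empty, Finset.sum_empty]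
    funext y
    by_cases hy : IsPRegular p y
    · rw [pRegularPart_of_regular' p _ hy]
    · rw [pRegularPart_of_singular' p _ hy]
      rfl
  | insert a s ha ih =>
    rw [Finset.sum_insert ha, Finset.sum_insert ha, pRegularPart_add, ih]

end regpart

section maps

variable {G : Type u} [Group G] [Fintype G]

/-- Restriction of a function on `G` to the `p`-section of `x`: the function
`y ↦ f (x y)` on the `p`-regular elements of `C_G(x)`. -/
noncomputable def secRes (p : ℕ) (x : G) :
    (G → ℂ) →ₗ[ℂ] (Subgroup.centralizer ({x} : Set G) → ℂ) where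
  toFun f := pRegularPart p (fun c : Subgroup.centralizer ({x} : Set G) => f (x * (c : G)))
  map_add' f g := by
    rw [← pRegularPart_add]
    rfl
  map_smul' a f := by
    rw [RingHom.id_apply, ← pRegularPart_smul]
    rfl

theorem secRes_apply (p : ℕ) (x : G) (f : G → ℂ) :
    secRes p x f =
      pRegularPart p (fun c : Subgroup.centralizer ({x} : Set G) => f (x * (c : G))) := rfl

/-- Extension of a function on `C_G(x)` to the set `x · C_G(x)_{p'}`. -/
noncomputable def secExt (p : ℕ) (x : G) (f : Subgroup.centralizer ({x} : Set G) → ℂ) :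
    G → ℂ := by
  classical
  exact fun g => if h : x⁻¹ * g ∈ Subgroup.centralizer ({x} : Set G) ∧ IsPRegular p (x⁻¹ * g)
    then f ⟨x⁻¹ * g, h.1⟩ else 0

omit [Fintype G] in
theorem secExt_of_pos (p : ℕ) (x : G) (f : Subgroup.centralizer ({x} : Set G) → ℂ) (g : G)
    (h1 : x⁻¹ * g ∈ Subgroup.centralizer ({x} : Set G)) (h2 : IsPRegular p (x⁻¹ * g)) :
    secExt p x f g = f ⟨x⁻¹ * g, h1⟩ := by
  unfold secExt
  exact dif_pos ⟨h1, h2⟩

omit [Fintype G] in
theorem secExt_of_neg (p : ℕ) (x : G) (f : Subgroup.centralizer ({x} : Set G) → ℂ) (g : G)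
    (h : ¬ (x⁻¹ * g ∈ Subgroup.centralizer ({x} : Set G) ∧ IsPRegular p (x⁻¹ * g))) :
    secExt p x f g = 0 := by
  unfold secExt
  exact dif_neg h

omit [Fintype G] in
theorem secExt_add (p : ℕ) (x : G) (f g : Subgroup.centralizer ({x} : Set G) → ℂ) :
    secExt p x (f + g) = secExt p x f + secExt p x g := by
  funext y
  by_cases h : x⁻¹ * y ∈ Subgroup.centralizer ({x} : Set G) ∧ IsPRegular p (x⁻¹ * y)
  · rw [Pi.add_apply, secExt_of_pos p x _ y h.1 h.2, secExt_of_pos p x _ y h.1 h.2,
      secExt_of_pos p x _ y h.1 h.2, Pi.add_apply]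
  · rw [Pi.add_apply, secExt_of_neg p x _ y h, secExt_of_neg p x _ y h,
      secExt_of_neg p x _ y h, add_zero]

omit [Fintype G] in
theorem secExt_smul (p : ℕ) (x : G) (a : ℂ) (f : Subgroup.centralizer ({x} : Set G) → ℂ) :
    secExt p x (a • f) = a • secExt p x f := by
  funext y
  by_cases h : x⁻¹ * y ∈ Subgroup.centralizer ({x} : Set G) ∧ IsPRegular p (x⁻¹ * y)
  · rw [Pi.smul_apply, secExt_of_pos p x _ y h.1 h.2, secExt_of_pos p x _ y h.1 h.2,
      Pi.smul_apply]
  · rw [Pi.smul_apply, secExt_of_neg p x _ y h, secExt_of_neg p x _ y h, smul_zero]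

/-- The class function on `G` induced from a function on the `p`-section of `x`. -/
noncomputable def secInd (p : ℕ) (x : G) :
    (Subgroup.centralizer ({x} : Set G) → ℂ) →ₗ[ℂ] (G → ℂ) where
  toFun f := fun g => ∑ c : G, secExt p x f (c * g * c⁻¹)
  map_add' f g := by
    funext y
    rw [Pi.add_apply, ← Finset.sum_add_distrib]
    apply Finset.sum_congr rfl
    intro c _
    rw [secExt_add, Pi.add_apply]
  map_smul' a f := by
    funext y
    rw [RingHom.id_apply, Pi.smul_apply, smul_eq_mul, Finset.mul_sum]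
    apply Finset.sum_congr rfl
    intro c _
    rw [secExt_smul, Pi.smul_apply, smul_eq_mul]

theorem secInd_apply (p : ℕ) (x : G) (f : Subgroup.centralizer ({x} : Set G) → ℂ) (g : G) :
    secInd p x f g = ∑ c : G, secExt p x f (c * g * c⁻¹) := rfl

theorem secInd_isClassFunction (p : ℕ) (x : G) (f : Subgroup.centralizer ({x} : Set G) → ℂ) :
    IsClassFunction G (secInd p x f) := by
  intro g h
  rw [secInd_apply, secInd_apply]
  apply Fintype.sum_equiv (Equiv.mulRight h)
  intro c
  rw [Equiv.coe_mulRight]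
  congr 1
  group

end maps

section eval

variable {G : Type u} [Group G] [Fintype G]

omit [Fintype G] in
theorem conj_mem_centralizer_of_conj_eq {x x' y' c : G} (hcomm : Commute x' y')
    (hc : c * x' * c⁻¹ = x) : c * y' * c⁻¹ ∈ Subgroup.centralizer ({x} : Set G) := by
  rw [Subgroup.mem_centralizer_singleton_iff, ← hc]
  have := hcomm.eq
  calc c * y' * c⁻¹ * (c * x' * c⁻¹) = c * (y' * x') * c⁻¹ := by group
    _ = c * (x' * y') * c⁻¹ := by rw [this]
    _ = c * x' * c⁻¹ * (c * y' * c⁻¹) := by group

theorem secExt_conj_of_eq (p : ℕ) (x : G) (f : Subgroup.centralizer ({x} : Set G) → ℂ)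
    (c x' y' : G) (hcomm : Commute x' y') (hy' : ¬ p ∣ orderOf y') (hc : c * x' * c⁻¹ = x) :
    secExt p x f (c * (x' * y') * c⁻¹) =
      f ⟨c * y' * c⁻¹, conj_mem_centralizer_of_conj_eq hcomm hc⟩ := by
  have heq : x⁻¹ * (c * (x' * y') * c⁻¹) = c * y' * c⁻¹ := by
    rw [← hc]; group
  have h1 : x⁻¹ * (c * (x' * y') * c⁻¹) ∈ Subgroup.centralizer ({x} : Set G) := by
    rw [heq]; exact conj_mem_centralizer_of_conj_eq hcomm hc
  have h2 : IsPRegular p (x⁻¹ * (c * (x' * y') * c⁻¹)) := by
    rw [heq]
    unfold IsPRegular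
    rw [orderOf_conj_eq']
    exact hy'
  rw [secExt_of_pos p x f _ h1 h2]
  congr 1
  exact Subtype.ext heq

theorem secExt_conj_of_ne {p : ℕ} [hpp : Fact p.Prime] (x : G) (hx : ∃ k : ℕ, orderOf x = p ^ k)
    (f : Subgroup.centralizer ({x} : Set G) → ℂ)
    (c x' y' : G) (hx' : ∃ k : ℕ, orderOf x' = p ^ k) (hcomm : Commute x' y')
    (hy' : ¬ p ∣ orderOf y') (hc : c * x' * c⁻¹ ≠ x) :
    secExt p x f (c * (x' * y') * c⁻¹) = 0 := by
  apply secExt_of_neg
  rintro ⟨h1, h2⟩
  apply hc
  have hp1 : IsPPart p (c * (x' * y') * c⁻¹) x :=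
    ⟨x⁻¹ * (c * (x' * y') * c⁻¹), by group, (Subgroup.mem_centralizer_singleton_iff.mp h1).symm, hx, h2⟩
  have hp0 : IsPPart p (x' * y') x' := ⟨y', rfl, hcomm, hx', hy'⟩
  have hp2 : IsPPart p (c * (x' * y') * c⁻¹) (c * x' * c⁻¹) := isPPart_conj hp0 c
  exact isPPart_unique hp2 hp1

/-- Evaluation of `secInd` on the `p`-section of `x` itself. -/
theorem secInd_apply_section_self {p : ℕ} [hpp : Fact p.Prime] (x : G)
    (hx : ∃ k : ℕ, orderOf x = p ^ k)
    (w : Subgroup.centralizer ({x} : Set G) → ℂ)
    (hw : IsClassFunction (Subgroup.centralizer ({x} : Set G)) w)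
    (y' : Subgroup.centralizer ({x} : Set G)) (hy' : ¬ p ∣ orderOf y') :
    secInd p x w (x * (y' : G)) = (Nat.card (Subgroup.centralizer ({x} : Set G)) : ℂ) * w y' := by
  classical
  let _ : Fintype (Subgroup.centralizer ({x} : Set G)) := Fintype.ofFinite _
  have hcomm : Commute x (y' : G) := (Subgroup.mem_centralizer_singleton_iff.mp y'.2).symm
  have hy'' : ¬ p ∣ orderOf (y' : G) := by rwa [Subgroup.orderOf_coe]
  rw [secInd_apply]
  have h1 : ∀ c : G, secExt p x w (c * (x * (y' : G)) * c⁻¹) =
      if c ∈ Subgroup.centralizer ({x} : Set G) then w y' else 0 := by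
    intro c
    by_cases hc : c ∈ Subgroup.centralizer ({x} : Set G)
    · rw [if_pos hc]
      have hc' : c * x * c⁻¹ = x := by
        have := Subgroup.mem_centralizer_singleton_iff.mp hc
        rw [this]; group
      rw [secExt_conj_of_eq p x w c x (y' : G) hcomm hy'' hc']
      have h2 := hw y' ⟨c, hc⟩
      rw [← h2]
      congr 1
    · rw [if_neg hc]
      apply secExt_conj_of_ne x hx w c x (y' : G) hx hcomm hy''
      intro hc'
      apply hc
      rw [Subgroup.mem_centralizer_singleton_iff]
      have : c * x = x * c := by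
        calc c * x = c * x * c⁻¹ * c := by group
          _ = x * c := by rw [hc']
      exact this
  rw [Finset.sum_congr rfl (fun c _ => h1 c),
    sum_eq_sum_subgroup_of_support (Subgroup.centralizer ({x} : Set G))
      (fun c => if c ∈ Subgroup.centralizer ({x} : Set G) then w y' else 0)
      (fun g hg => if_neg hg)]
  have h3 : ∀ k : Subgroup.centralizer ({x} : Set G),
      (if (k : G) ∈ Subgroup.centralizer ({x} : Set G) then w y' else 0) = w y' :=
    fun k => if_pos k.2
  rw [Finset.sum_congr rfl (fun k _ => h3 k), Finset.sum_const, Finset.card_univ,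
    nsmul_eq_mul, Nat.card_eq_fintype_card]

/-- `secInd` vanishes on the `p`-sections of elements not conjugate to `x`. -/
theorem secInd_apply_section_ne {p : ℕ} [hpp : Fact p.Prime] (x : G)
    (hx : ∃ k : ℕ, orderOf x = p ^ k)
    (w : Subgroup.centralizer ({x} : Set G) → ℂ) (x' : G) (hx' : ∃ k : ℕ, orderOf x' = p ^ k)
    (hne : ¬ IsConj x' x) (y' : G) (hcomm : Commute x' y') (hy' : ¬ p ∣ orderOf y') :
    secInd p x w (x' * y') = 0 := by
  rw [secInd_apply]
  apply Finset.sum_eq_zero
  intro c _
  apply secExt_conj_of_ne x hx w c x' y' hx' hcomm hy'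
  intro hc
  apply hne
  rw [isConj_iff]
  exact ⟨c, hc⟩

/-- Frobenius reciprocity for `secInd` and `secRes`. -/
theorem classInner_secInd (p : ℕ) (x : G) [Fintype (Subgroup.centralizer ({x} : Set G))]
    (w : Subgroup.centralizer ({x} : Set G) → ℂ)
    {χ : G → ℂ} (hχ : IsClassFunction G χ) :
    classInner (secInd p x w) χ =
      (Nat.card (Subgroup.centralizer ({x} : Set G)) : ℂ) * classInner w (secRes p x χ) := by
  classical
  unfold classInner
  have hG0 : (Nat.card G : ℂ) ≠ 0 := Nat.cast_ne_zero.mpr Nat.card_pos.ne'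
  have hC0 : (Nat.card (Subgroup.centralizer ({x} : Set G)) : ℂ) ≠ 0 :=
    Nat.cast_ne_zero.mpr Nat.card_pos.ne'
  -- the inner sum for a fixed conjugating element
  have h1 : ∀ c : G, ∑ g : G, secExt p x w (c * g * c⁻¹) * conj (χ g) =
      ∑ g : G, secExt p x w g * conj (χ g) := by
    intro c
    apply Fintype.sum_equiv (MulAut.conj c).toEquiv
    intro g
    have h2 : (MulAut.conj c).toEquiv g = c * g * c⁻¹ := rfl
    rw [h2, hχ g c]
  have h3 : ∑ g : G, secInd p x w g * conj (χ g) =
      (Nat.card G : ℂ) * ∑ g : G, secExt p x w g * conj (χ g) := by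
    simp only [secInd_apply, Finset.sum_mul]
    rw [Finset.sum_comm, Finset.sum_congr rfl (fun c _ => h1 c), Finset.sum_const,
      Finset.card_univ, nsmul_eq_mul, Nat.card_eq_fintype_card]
  -- reindex over the section
  have h4 : ∑ g : G, secExt p x w g * conj (χ g) =
      ∑ k : Subgroup.centralizer ({x} : Set G), w k * conj (secRes p x χ k) := by
    have h5 : ∑ g : G, secExt p x w g * conj (χ g) =
        ∑ g : G, secExt p x w (x * g) * conj (χ (x * g)) := by
      symm
      apply Fintype.sum_equiv (Equiv.mulLeft x)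
      intro g
      rfl
    rw [h5, sum_eq_sum_subgroup_of_support (Subgroup.centralizer ({x} : Set G))]
    · apply Finset.sum_congr rfl
      intro k _
      rw [secRes_apply]
      by_cases hk : IsPRegular p k
      · have hk' : IsPRegular p (x⁻¹ * (x * (k : G))) := by
          rw [inv_mul_cancel_left]
          unfold IsPRegular at hk ⊢
          rwa [Subgroup.orderOf_coe]
        have hm : x⁻¹ * (x * (k : G)) ∈ Subgroup.centralizer ({x} : Set G) := by
          rw [inv_mul_cancel_left]; exact k.2
        rw [secExt_of_pos p x w _ hm hk', pRegularPart_of_regular' p _ hk]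
        congr 2
        exact Subtype.ext (inv_mul_cancel_left x (k : G))
      · rw [pRegularPart_of_singular' p _ hk, map_zero, mul_zero, secExt_of_neg, zero_mul]
        rintro ⟨-, h2⟩
        apply hk
        rw [inv_mul_cancel_left] at h2
        unfold IsPRegular at h2 ⊢
        rwa [Subgroup.orderOf_coe] at h2
    · intro g hg
      rw [secExt_of_neg, zero_mul]
      rintro ⟨h2, -⟩
      rw [inv_mul_cancel_left] at h2
      exact hg h2
  rw [h3, h4]
  field_simp

end eval

section smt

variable {G : Type u} [Group G] [Fintype G] {M : Ideal AlgInt}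

/-- The irreducible characters of `C_G(x)` whose block induces `B`. -/
def secChars (M : Ideal AlgInt) (x : G) (B : Set (IrrCharacter G)) :
    Set (IrrCharacter (Subgroup.centralizer ({x} : Set G))) :=
  {ψ | IsInducedBlock M (Subgroup.centralizer ({x} : Set G))
    (blockOf M (ψ : Subgroup.centralizer ({x} : Set G) → ℂ)) B}

omit [Fintype G] in
theorem secChars_eq_sUnion [hp : M.IsPrime] (x : G) (B : Set (IrrCharacter G)) :
    secChars M x B =
      ⋃₀ {b | IsInducedBlock M (Subgroup.centralizer ({x} : Set G)) b B} := by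
  ext ψ
  constructor
  · intro hψ
    exact ⟨_, hψ, mem_blockOf_self ψ⟩
  · rintro ⟨b, hb, hψb⟩
    have h1 : b = blockOf M (ψ : Subgroup.centralizer ({x} : Set G) → ℂ) :=
      isPBlock_eq_of_mem hb.1 ⟨ψ, rfl⟩ hψb (mem_blockOf_self ψ)
    change IsInducedBlock M _ (blockOf M (ψ : Subgroup.centralizer ({x} : Set G) → ℂ)) B
    rw [← h1]
    exact hb

/-- **Second main theorem, span form**: the restriction of `χ ∈ B` to the `p`-section of `x`
lies in the span of the `p`-regular parts of the characters whose block induces `B`. -/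
theorem secRes_mem_regSpan {p : ℕ} [hpp : Fact p.Prime] (hM : IsPModular p M) (x : G)
    (hx : ∃ k : ℕ, orderOf x = p ^ k) (B : Set (IrrCharacter G)) (hB : IsPBlock M B)
    (χ : IrrCharacter G) (hχ : χ ∈ B) [Fintype (Subgroup.centralizer ({x} : Set G))] :
    secRes p x (χ : G → ℂ) ∈ regSpan p (secChars M x B) := by
  classical
  have hprime : M.IsPrime := isPrime_of_isPModular hM
  set C := Subgroup.centralizer ({x} : Set G) with hC
  let _ := fintypeIrr C
  set A := secChars M x B with hA
  set ϑ : C → ℂ := fun c => (χ : G → ℂ) (x * (c : G)) with hϑ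
  have hχcls : IsClassFunction G (χ : G → ℂ) :=
    IsCharacter.isClassFunction (IsIrrCharacter.isCharacter χ.2)
  have hϑcls : IsClassFunction C ϑ := by
    intro c h
    change (χ : G → ℂ) (x * ((h * c * h⁻¹ : C) : G)) = (χ : G → ℂ) (x * (c : G))
    have hcomm : (h : G) * x = x * (h : G) := Subgroup.mem_centralizer_singleton_iff.mp h.2
    have h1 : x * ((h * c * h⁻¹ : C) : G) = (h : G) * (x * (c : G)) * (h : G)⁻¹ := by
      push_cast
      rw [← mul_assoc, ← mul_assoc, ← mul_assoc, hcomm]
    rw [h1, hχcls]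
  have hdec := classFunction_eq_sum hϑcls
  have h1 : secRes p x (χ : G → ℂ) =
      ∑ ψ : IrrCharacter C, classInner ϑ (ψ : C → ℂ) • pRegularPart p (ψ : C → ℂ) := by
    rw [secRes_apply]
    change pRegularPart p ϑ = _
    conv_lhs => rw [hdec]
    rw [pRegularPart_sum]
    apply Finset.sum_congr rfl
    intro ψ _
    rw [pRegularPart_smul]
  rw [h1, ← Finset.sum_filter_add_sum_filter_not Finset.univ (fun ψ : IrrCharacter C => ψ ∈ A)]
  have h2 : ∑ ψ ∈ Finset.univ.filter (fun ψ : IrrCharacter C => ¬ ψ ∈ A),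
      classInner ϑ (ψ : C → ℂ) • pRegularPart p (ψ : C → ℂ) = 0 := by
    funext y
    rw [Finset.sum_apply, Pi.zero_apply]
    by_cases hy : IsPRegular p y
    · -- regular elements: the second main theorem
      rw [Finset.sum_filter]
      set F : IrrCharacter C → ℂ := fun ψ =>
        if ¬ ψ ∈ A then (classInner ϑ (ψ : C → ℂ) • pRegularPart p (ψ : C → ℂ)) y else 0 with hF
      change ∑ ψ, F ψ = 0
      apply sum_irr_eq_zero_of_forall_block (M := M)
      intro ψ'
      have hsame : ∀ φ ∈ blockOf M (ψ' : C → ℂ), blockOf M (φ : C → ℂ) = blockOf M (ψ' : C → ℂ) :=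
        fun φ hφ => isPBlock_eq_of_mem ⟨φ, rfl⟩ ⟨ψ', rfl⟩ (mem_blockOf_self φ) hφ
      by_cases hψ' : ψ' ∈ A
      · apply finsum_mem_eq_zero_of_forall_eq_zero
        intro φ hφ
        have hφA : φ ∈ A := by
          change IsInducedBlock M C (blockOf M (φ : C → ℂ)) B
          rw [hsame φ hφ]
          exact hψ'
        simp only [hF, hφA, not_true_eq_false, if_false]
      · have hnot : ¬ IsInducedBlock M C (blockOf M (ψ' : C → ℂ)) B := hψ'
        have h3 := Cfsg.Agent.S0923.result p M hM x hx B hB χ hχ (blockOf M (ψ' : C → ℂ))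
          ⟨ψ', rfl⟩ hnot y hy
        rw [blockPart_apply] at h3
        rw [← h3]
        apply finsum_mem_congr rfl
        intro φ hφ
        have hφA : ¬ φ ∈ A := by
          intro hc
          apply hψ'
          change IsInducedBlock M C (blockOf M (ψ' : C → ℂ)) B
          rw [← hsame φ hφ]
          exact hc
        simp only [hF, hφA, not_false_eq_true, if_true, Pi.smul_apply, smul_eq_mul]
        rw [pRegularPart_of_regular' p _ hy]
    · apply Finset.sum_eq_zero
      intro ψ _
      rw [Pi.smul_apply, pRegularPart_of_singular' p _ hy, smul_zero]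
  rw [h2, add_zero]
  apply Submodule.sum_mem
  intro ψ hψ
  apply Submodule.smul_mem
  exact pRegularPart_mem_regSpan p (Finset.mem_filter.mp hψ).2

end smt

section count

variable {G : Type u} [Group G] [Fintype G] {M : Ideal AlgInt}

/-- The span of a block. -/
noncomputable def blockSpan (B : Set (IrrCharacter G)) : Submodule ℂ (G → ℂ) :=
  Submodule.span ℂ (Set.range (fun χ : B => ((χ : IrrCharacter G) : G → ℂ)))

omit [Fintype G] in
theorem finrank_blockSpan [Finite G] (B : Set (IrrCharacter G)) :
    Module.finrank ℂ (blockSpan B) = Nat.card B := by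
  classical
  let _ : Fintype ↥B := Fintype.ofFinite _
  unfold blockSpan
  have hli : LinearIndependent ℂ (fun χ : B => ((χ : IrrCharacter G) : G → ℂ)) :=
    (linearIndependent_irr (G := G)).comp (Subtype.val : B → IrrCharacter G)
      Subtype.val_injective
  rw [finrank_span_eq_card hli, Nat.card_eq_fintype_card]

omit [Fintype G] in
theorem isClassFunction_of_mem_blockSpan {B : Set (IrrCharacter G)} {f : G → ℂ}
    (hf : f ∈ blockSpan B) : IsClassFunction G f := by
  unfold blockSpan at hf
  induction hf using Submodule.span_induction with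
  | mem f hf =>
    obtain ⟨ψ, rfl⟩ := hf
    exact IsCharacter.isClassFunction (IsIrrCharacter.isCharacter (ψ : IrrCharacter G).2)
  | zero => intro g h; rfl
  | add f₁ f₂ _ _ h1 h2 =>
    intro g h
    rw [Pi.add_apply, Pi.add_apply, h1 g h, h2 g h]
  | smul c f _ h1 =>
    intro g h
    rw [Pi.smul_apply, Pi.smul_apply, h1 g h]

/-- A class function orthogonal to all irreducible characters outside `B` lies in the span of
`B`. -/
theorem mem_blockSpan_of_orthogonal {B : Set (IrrCharacter G)} {f : G → ℂ}
    (hf : IsClassFunction G f) (h : ∀ χ : IrrCharacter G, χ ∉ B → classInner f (χ : G → ℂ) = 0) :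
    f ∈ blockSpan B := by
  classical
  let _ := fintypeIrr G
  rw [classFunction_eq_sum hf]
  apply Submodule.sum_mem
  intro χ _
  by_cases hχ : χ ∈ B
  · apply Submodule.smul_mem
    exact Submodule.subset_span ⟨⟨χ, hχ⟩, rfl⟩
  · rw [h χ hχ, zero_smul]
    exact Submodule.zero_mem _

/-- **Brauer's count by subsections**, in terms of the regular spans. -/
theorem card_block_eq_sum_finrank {p : ℕ} [hpp : Fact p.Prime] (hM : IsPModular p M)
    (B : Set (IrrCharacter G)) (hB : IsPBlock M B) (X : Finset G)
    (hX : ∀ x ∈ X, ∃ k : ℕ, orderOf x = p ^ k)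
    (hXrep : ∀ g : G, (∃ k : ℕ, orderOf g = p ^ k) → ∃! x, x ∈ X ∧ IsConj g x) :
    Nat.card B = ∑ x ∈ X, Module.finrank ℂ (regSpan p (secChars M x B)) := by
  classical
  have hprime : M.IsPrime := isPrime_of_isPModular hM
  let _ : ∀ x : G, Fintype (Subgroup.centralizer ({x} : Set G)) := fun x => Fintype.ofFinite _
  set U : ∀ x : ↥X, Submodule ℂ (Subgroup.centralizer ({(x : G)} : Set G) → ℂ) :=
    fun x => regSpan p (secChars M (x : G) B) with hU
  -- (I) restriction to the sections
  have hmem1 : ∀ (x : ↥X) (f : blockSpan B), secRes p (x : G) (f : G → ℂ) ∈ U x := by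
    intro x f
    have h1 : blockSpan B ≤ (U x).comap (secRes p (x : G)) := by
      unfold blockSpan
      rw [Submodule.span_le]
      rintro _ ⟨χ, rfl⟩
      exact secRes_mem_regSpan hM (x : G) (hX x x.2) B hB χ χ.2
    exact h1 f.2
  let L₁ : blockSpan B →ₗ[ℂ] (∀ x : ↥X, U x) :=
    LinearMap.pi (fun x =>
      ((secRes p (x : G)).domRestrict (blockSpan B)).codRestrict (U x) (hmem1 x))
  have hL₁ : Function.Injective L₁ := by
    rw [injective_iff_map_eq_zero]
    intro f hf
    apply Subtype.ext
    funext g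
    obtain ⟨_, _, u, -, hpart, -⟩ := exists_ppart_data p g
    obtain ⟨v, huv, hcomm, hu, hv⟩ := hpart
    obtain ⟨x, ⟨hxX, hconj⟩, -⟩ := hXrep u hu
    obtain ⟨c, hc⟩ := isConj_iff.mp hconj
    have hfx : secRes p x (f : G → ℂ) = 0 := by
      have h1 := congrFun hf ⟨x, hxX⟩
      exact congrArg Subtype.val h1
    have hmem := conj_mem_centralizer_of_conj_eq hcomm hc
    have hreg : IsPRegular p (⟨c * v * c⁻¹, hmem⟩ : Subgroup.centralizer ({x} : Set G)) := by
      unfold IsPRegular
      rw [Subgroup.orderOf_mk, orderOf_conj_eq']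
      exact hv
    have h3 := congrFun hfx ⟨c * v * c⁻¹, hmem⟩
    rw [secRes_apply, pRegularPart_of_regular' p _ hreg] at h3
    have hcls := isClassFunction_of_mem_blockSpan f.2
    change (f : G → ℂ) g = 0
    rw [← hcls g c, ← huv]
    have h4 : c * (u * v) * c⁻¹ = x * (c * v * c⁻¹) := by rw [← hc]; group
    rw [h4]
    exact h3
  -- (II) induction from the sections
  let L₂' : (∀ x : ↥X, U x) →ₗ[ℂ] (G → ℂ) :=
    LinearMap.lsum ℂ (fun x : ↥X => U x) ℂ (fun x => (secInd p (x : G)).comp (U x).subtype)
  have hL₂'app : ∀ u : (∀ x : ↥X, U x),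
      L₂' u = ∑ x : ↥X, secInd p (x : G) ((u x : U x) : _ → ℂ) := by
    intro u
    simp only [L₂', LinearMap.lsum_apply, LinearMap.sum_apply, LinearMap.comp_apply,
      LinearMap.proj_apply, Submodule.subtype_apply]
  have hmem2 : ∀ u : (∀ x : ↥X, U x), L₂' u ∈ blockSpan B := by
    intro u
    rw [hL₂'app]
    apply mem_blockSpan_of_orthogonal
    · apply IsClassFunction.sum
      intro x _
      exact secInd_isClassFunction p (x : G) _
    · intro χ hχ
      have hχcls : IsClassFunction G (χ : G → ℂ) :=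
        IsCharacter.isClassFunction (IsIrrCharacter.isCharacter χ.2)
      rw [classInner_sum_left]
      apply Finset.sum_eq_zero
      intro x _
      rw [classInner_secInd p (x : G) _ hχcls]
      have h0 : classInner ((u x : U x) : _ → ℂ) (secRes p (x : G) (χ : G → ℂ)) = 0 := by
        apply regSpan_orthogonal hM _ _ (u x).2 _
          (secRes_mem_regSpan hM (x : G) (hX x x.2) (blockOf M (χ : G → ℂ)) ⟨χ, rfl⟩ χ
            (mem_blockOf_self χ))
        intro ψ hψ ψ' hψ' hsame
        apply hχ
        have heq : blockOf M (ψ : Subgroup.centralizer ({(x : G)} : Set G) → ℂ) =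
            blockOf M (ψ' : Subgroup.centralizer ({(x : G)} : Set G) → ℂ) :=
          isPBlock_eq_of_mem ⟨ψ, rfl⟩ ⟨ψ', rfl⟩ (mem_blockOf_self ψ) hsame
        have h1 : IsInducedBlock M (Subgroup.centralizer ({(x : G)} : Set G))
            (blockOf M (ψ : Subgroup.centralizer ({(x : G)} : Set G) → ℂ)) B := hψ
        have h2 : IsInducedBlock M (Subgroup.centralizer ({(x : G)} : Set G))
            (blockOf M (ψ' : Subgroup.centralizer ({(x : G)} : Set G) → ℂ))
            (blockOf M (χ : G → ℂ)) := hψ'
        rw [← heq] at h2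
        have h3 := isInducedBlock_unique h1 h2
        rw [h3]
        exact mem_blockOf_self χ
      rw [h0, mul_zero]
  let L₂ : (∀ x : ↥X, U x) →ₗ[ℂ] blockSpan B := L₂'.codRestrict (blockSpan B) hmem2
  have hL₂ : Function.Injective L₂ := by
    rw [injective_iff_map_eq_zero]
    intro u hu
    have hu' : ∑ x : ↥X, secInd p (x : G) ((u x : U x) : _ → ℂ) = 0 := by
      rw [← hL₂'app]
      exact congrArg Subtype.val hu
    funext x₀
    apply Subtype.ext
    funext y'
    change ((u x₀ : U x₀) : _ → ℂ) y' = 0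
    by_cases hy' : IsPRegular p y'
    · have h1 := congrFun hu' ((x₀ : G) * (y' : G))
      rw [Finset.sum_apply, Finset.sum_eq_single x₀] at h1
      · rw [secInd_apply_section_self (x₀ : G) (hX _ x₀.2) _
          (isClassFunction_of_mem_regSpan p (u x₀).2) y' hy'] at h1
        exact (mul_eq_zero.mp h1).resolve_left (Nat.cast_ne_zero.mpr Nat.card_pos.ne')
      · intro x _ hx
        have hcomm : Commute (x₀ : G) (y' : G) :=
          (Subgroup.mem_centralizer_singleton_iff.mp y'.2).symm
        have hy'' : ¬ p ∣ orderOf (y' : G) := by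
          rw [Subgroup.orderOf_coe]
          exact hy'
        apply secInd_apply_section_ne (x : G) (hX _ x.2) _ (x₀ : G) (hX _ x₀.2) _ (y' : G)
          hcomm hy''
        intro hconj
        obtain ⟨z, -, hz⟩ := hXrep (x₀ : G) (hX _ x₀.2)
        have e1 := hz x₀ ⟨x₀.2, IsConj.refl _⟩
        have e2 := hz x ⟨x.2, hconj⟩
        exact hx (Subtype.ext (e2.trans e1.symm))
      · intro h
        exact absurd (Finset.mem_univ _) h
    · exact apply_eq_zero_of_mem_regSpan p (u x₀).2 hy'
  have h1 := LinearMap.finrank_le_finrank_of_injective hL₁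
  have h2 := LinearMap.finrank_le_finrank_of_injective hL₂
  have h3 := le_antisymm h1 h2
  rw [finrank_blockSpan, Module.finrank_pi_fintype] at h3
  rw [h3, ← Finset.sum_coe_sort X
    (fun x => Module.finrank ℂ (regSpan p (secChars M x B)))]

end count

end Cfsg.Agent.Lib.Helper6
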