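import Mathlib
import Cfsg.Agent.Lib.Helper29.SpPrfDefs
import Cfsg.Agent.Lib.Helper20.AschA89Main
import Cfsg.Agent.Lib.Helper17.SpAschQ0
import Cfsg.Agent.Lib.Helper17.SpAschZ
import Cfsg.Agent.Lib.Helper28.SLMP7core
import Cfsg.Agent.Lib.Helper15.PerfectIndex
import Cfsg.Agent.Lib.Helper16.SpMT
import Cfsg.Agent.Lib.Helper6.TWSlot

/-!
S5662 block PRF (planner helper29), leaves (C3) `perfect_gl2_f3`, (C3') `scalar_of_perfect_slot` (helper6).
-/

set_option autoImplicit false
set_option linter.unusedSectionVars false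
set_option linter.unusedVariables false

namespace Cfsg.Agent.Lib.Helper6.SpPrfLeaf
open Matrix Cfsg Cfsg.Geo Cfsg.Agent.Lib.Helper20.Asch Cfsg.Agent.Lib.Helper29.SpAsch
  Cfsg.Agent.Lib.Helper18.AschA89
open scoped Kronecker

variable {F : Type*} [Field F] [Fintype F] {n m : ℕ} {J : Matrix (Fin n) (Fin n) F}
  {H N : Subgroup (GL (Fin n) F)}

open scoped LinearAlgebra.Projectivization in
/-- the action of `GL_2(F)` on the projective line -/
noncomputable def projHom (F : Type*) [Field F] :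
    GL (Fin 2) F →* Equiv.Perm (ℙ F (Fin 2 → F)) :=
  (MulAction.toPermHom (LinearMap.GeneralLinearGroup F (Fin 2 → F)) (ℙ F (Fin 2 → F))).comp
    (Matrix.GeneralLinearGroup.toLin (n := Fin 2) (R := F)).toMonoidHom

open scoped LinearAlgebra.Projectivization in
lemma projHom_mk (g : GL (Fin 2) F) (v : Fin 2 → F) (hv : v ≠ 0) :
    ∃ hv' : (g : Matrix (Fin 2) (Fin 2) F) *ᵥ v ≠ 0,
      projHom F g (Projectivization.mk F v hv) =
        Projectivization.mk F ((g : Matrix (Fin 2) (Fin 2) F) *ᵥ v) hv' := by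
  have hv' : (g : Matrix (Fin 2) (Fin 2) F) *ᵥ v ≠ 0 := by
    intro h0
    apply hv
    have := congrArg (fun w => ((g⁻¹ : GL (Fin 2) F) : Matrix (Fin 2) (Fin 2) F) *ᵥ w) h0
    simp only [Matrix.mulVec_mulVec, Matrix.mulVec_zero] at this
    rw [← Units.val_mul, inv_mul_cancel, Units.val_one, Matrix.one_mulVec] at this
    exact this
  refine ⟨hv', ?_⟩
  rfl

/-- (C3) -/
theorem perfect_gl2_f3 (hF : Fintype.card F = 3) (R : Subgroup (GL (Fin 2) F)) (hR : ⁅R, R⁆ = R) :
    R = ⊥ := by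
  classical
  have hsolv : Group.IsSolvable (Equiv.Perm (Projectivization F (Fin 2 → F))) := by
    apply Cfsg.Agent.Lib.Helper15.PerfectIndex.isSolvable_perm_of_card_le_four
    have hfr : Module.finrank F (Fin 2 → F) = 2 := by simp
    have := Projectivization.card_of_finrank_two (k := F) (V := Fin 2 → F) hfr
    rw [this, Nat.card_eq_fintype_card, hF]
  have hmap : R.map (projHom F) = ⊥ := by
    by_contra hne
    have := Group.IsSolvable.commutator_lt_of_ne_bot hne
    rw [← Subgroup.map_commutator, hR] at this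
    exact lt_irrefl _ this
  have hscal : ∀ g ∈ R, ∃ c : F, (g : Matrix (Fin 2) (Fin 2) F) = c • (1 : Matrix (Fin 2) (Fin 2) F) := by
    intro g hg
    have h1 : projHom F g = 1 := by
      have : projHom F g ∈ R.map (projHom F) := Subgroup.mem_map_of_mem _ hg
      rw [hmap] at this
      exact Subgroup.mem_bot.1 this
    apply Cfsg.Agent.Lib.Helper16.SpMLeaf.scalar_of_eigen16
    intro v hv
    obtain ⟨hv', h2⟩ := projHom_mk g v hv
    rw [h1, Equiv.Perm.one_apply] at h2
    obtain ⟨a, ha⟩ := (Projectivization.mk_eq_mk_iff F _ _ hv hv').1 h2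
    refine ⟨((a⁻¹ : Fˣ) : F), ?_⟩
    have h3 : (a⁻¹ : Fˣ) • (a • ((g : Matrix (Fin 2) (Fin 2) F) *ᵥ v)) = (a⁻¹ : Fˣ) • v := by rw [ha]
    rw [smul_smul, inv_mul_cancel, one_smul] at h3
    rw [h3]
    rfl
  have hcomm : ⁅R, R⁆ = ⊥ := by
    rw [Subgroup.commutator_eq_bot_iff_le_centralizer]
    intro x hx y hy
    obtain ⟨c, hc⟩ := hscal x hx
    apply Units.ext
    rw [Units.val_mul, Units.val_mul, hc]
    simp
  rw [← hR, hcomm]

/-- (C3') -/
theorem scalar_of_perfect_slot (hF : Fintype.card F = 3) {t : ℕ} (e : Fin n ≃ (Fin t → Fin 2)) (P : GL (Fin n) F)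
    (i : Fin t) (X : Subgroup (GL (Fin n) F)) (hX : ⁅X, X⁆ = X)
    (hof : ∀ T ∈ Env X, ∃ A : Matrix (Fin 2) (Fin 2) F, T = conjR e P (slot 2 t i A))
    (hC3 : ∀ R : Subgroup (GL (Fin 2) F), ⁅R, R⁆ = R → R = ⊥) : X ≤ scalars (Fin n) F := by
  classical
  have hmemEnv : ∀ x : X, ((x : GL (Fin n) F) : Matrix (Fin n) (Fin n) F) ∈ Env X := by
    intro x
    exact Algebra.subset_adjoin ⟨x.1, x.2, rfl⟩
  have hinj : ∀ A B : Matrix (Fin 2) (Fin 2) F,
      conjR e P (slot 2 t i A) = conjR e P (slot 2 t i B) → A = B := by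
    intro A B h
    exact Cfsg.Agent.Lib.Helper6.TWQ.slot_injective (by norm_num) i (conjR_injective e P h)
  -- the matrix of `x` in the slot
  let f : X → Matrix (Fin 2) (Fin 2) F := fun x => Classical.choose (hof _ (hmemEnv x))
  have hf : ∀ x : X, ((x : GL (Fin n) F) : Matrix (Fin n) (Fin n) F) = conjR e P (slot 2 t i (f x)) :=
    fun x => Classical.choose_spec (hof _ (hmemEnv x))
  let ψ₀ : X →* Matrix (Fin 2) (Fin 2) F :=
    { toFun := f
      map_one' := by
        apply hinj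
        rw [← hf, Cfsg.Agent.Lib.Helper6.TWQ.slot_one, conjR_one]
        rfl
      map_mul' := by
        intro x y
        apply hinj
        rw [← hf, Cfsg.Agent.Lib.Helper6.TWQ.slot_mul, conjR_mul, ← hf, ← hf]
        rfl }
  let ψ : X →* GL (Fin 2) F := ψ₀.toHomUnits
  have hψ : ∀ x : X, ((ψ x : GL (Fin 2) F) : Matrix (Fin 2) (Fin 2) F) = f x := fun x => rfl
  have htop : _root_.commutator X = ⊤ := by
    apply Subgroup.map_injective X.subtype_injective
    rw [Subgroup.map_subtype_commutator, hX]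
    ext g
    simp
  have hperf : ⁅ψ.range, ψ.range⁆ = ψ.range := by
    rw [MonoidHom.range_eq_map, ← Subgroup.map_commutator]
    congr 1
  have hbot := hC3 _ hperf
  intro x hx
  have h1 : ψ ⟨x, hx⟩ = 1 := by
    have : ψ ⟨x, hx⟩ ∈ ψ.range := ⟨_, rfl⟩
    rw [hbot] at this
    exact Subgroup.mem_bot.1 this
  have h2 : f ⟨x, hx⟩ = 1 := by
    rw [← hψ, h1, Units.val_one]
  have h3 : x = 1 := by
    apply Units.ext
    have := hf ⟨x, hx⟩
    rw [h2, Cfsg.Agent.Lib.Helper6.TWQ.slot_one, conjR_one] at this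
    exact this
  rw [h3]
  exact Subgroup.one_mem _

end Cfsg.Agent.Lib.Helper6.SpPrfLeaf
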