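import Mathlib
import Cfsg.Agent.Lib.Helper29.SpPrfDefs
import Cfsg.Agent.Lib.Helper20.AschA89Main
import Cfsg.Agent.Lib.Helper17.SpAschQ0
import Cfsg.Agent.Lib.Helper17.SpAschZ
import Cfsg.Agent.Lib.Helper28.SLMP7core
import Cfsg.Agent.Lib.Helper26.SpPrfA56
import Cfsg.Agent.Lib.Helper26.SpPrfA7E3
import Cfsg.Agent.Lib.Helper23.SpPrfB1
import Cfsg.Agent.Lib.Helper12.OAschWC

/-!
S5662 block PRF (planner helper29), leaves (E1) `all_congruent`, (E2) `normalise` (helper6).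
-/

set_option autoImplicit false
set_option linter.unusedSectionVars false
set_option linter.unusedVariables false

namespace Cfsg.Agent.Lib.Helper6.SpPrfLeaf
open Matrix Cfsg Cfsg.Geo Cfsg.Agent.Lib.Helper20.Asch Cfsg.Agent.Lib.Helper29.SpAsch
  Cfsg.Agent.Lib.Helper18.AschA89
open scoped Kronecker

variable {F : Type*} [Field F] [Fintype F] {n m : ℕ} {J : Matrix (Fin n) (Fin n) F}
  {H N : Subgroup (GL (Fin n) F)}

/-- (E1) -/
theorem all_congruent (hH : H ≤ isoG J) {s t : ℕ} (hs : 0 < s) (e : Fin n ≃ (Fin t → Fin s))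
    (P : GL (Fin n) F) (c : F) (hc : c ≠ 0) (G : Fin t → Matrix (Fin s) (Fin s) F)
    (hG : ∀ i, IsUnit (G i).det) (hgram : gramT e P J = c • ptens s t G)
    (hact : ∀ i j : Fin t, ∃ g ∈ H, ∃ σ : Equiv.Perm (Fin t), σ i = j ∧
      ∀ k, ∀ A : Matrix (Fin s) (Fin s) F, ∃ A' : Matrix (Fin s) (Fin s) F,
        (g : Matrix (Fin n) (Fin n) F) * conjR e P (slot s t k A) *
          ((g⁻¹ : GL (Fin n) F) : Matrix (Fin n) (Fin n) F) = conjR e P (slot s t (σ k) A'))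
    (i₀ : Fin t) :
    ∀ i, ∃ (b : Matrix (Fin s) (Fin s) F) (d : F), IsUnit b.det ∧ d ≠ 0 ∧ G i = d • (bᵀ * G i₀ * b) := by
  intro i
  obtain ⟨g, hgH, σ, hσ, hconj⟩ := hact i i₀
  obtain ⟨hB1, hB2, hB3, hB4, hB5⟩ := Cfsg.Agent.Lib.Helper23.SpPrfLeaf.stdM_props (J := J) e P
  set g' := stdM e P (g : Matrix (Fin n) (Fin n) F) with hg'
  set gi := stdM e P ((g⁻¹ : GL (Fin n) F) : Matrix (Fin n) (Fin n) F) with hgi
  have h1 : g' * gi = 1 := by
    rw [hg', hgi, ← hB3, ← Units.val_mul, mul_inv_cancel, Units.val_one, hB4]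
  have h2 : gi * g' = 1 := by
    rw [hg', hgi, ← hB3, ← Units.val_mul, inv_mul_cancel, Units.val_one, hB4]
  have hslot : ∀ k, ∀ A : Matrix (Fin s) (Fin s) F, ∃ A' : Matrix (Fin s) (Fin s) F,
      g' * slot s t k A * gi = slot s t (σ k) A' := by
    intro k A
    obtain ⟨A', hA'⟩ := hconj k A
    refine ⟨A', ?_⟩
    have := congrArg (stdM e P) hA'
    rw [hB3, hB3, hB2, hB2] at this
    exact this
  obtain ⟨c', a, hc', ha, hga⟩ := Cfsg.Agent.Lib.Helper26.SpPrfLeaf.wreath_data hs g' gi h1 h2 σ hslot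
  have hiso := hB5 g (hH hgH)
  rw [← hg', hga, hgram] at hiso
  have hG0 : ∀ i, G i ≠ 0 := by
    intro j h0
    have := hG j
    rw [h0] at this
    have hne : Nonempty (Fin s) := ⟨⟨0, hs⟩⟩
    rw [Matrix.det_zero] at this
    exact not_isUnit_zero this
  obtain ⟨d, hd, hd'⟩ := Cfsg.Agent.Lib.Helper26.SpPrfLeaf.congr_of_isometry G a hG0 c c' hc hc' σ hiso i
  rw [hσ] at hd'
  refine ⟨a i, d⁻¹, ha i, inv_ne_zero hd, ?_⟩
  rw [hd', smul_smul, inv_mul_cancel₀ hd, one_smul]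

/-- (E2) -/
theorem normalise {s t : ℕ} (e : Fin n ≃ (Fin t → Fin s)) (P : GL (Fin n) F) (c : F) (hc : c ≠ 0)
    (G : Fin t → Matrix (Fin s) (Fin s) F) (hgram : gramT e P J = c • ptens s t G)
    (G₀ : Matrix (Fin s) (Fin s) F)
    (hcong : ∀ i, ∃ (b : Matrix (Fin s) (Fin s) F) (d : F), IsUnit b.det ∧ d ≠ 0 ∧ G i = d • (bᵀ * G₀ * b)) :
    ∃ (P' : GL (Fin n) F) (c' : F), c' ≠ 0 ∧ gramT e P' J = c' • ptens s t (fun _ => G₀) ∧
      tensorWreathSubgroup s t e P' = tensorWreathSubgroup s t e P := by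
  classical
  choose b d hb hd hGi using hcong
  -- the units `b i`
  let bu : Fin t → GL (Fin s) F := fun i => Matrix.nonsingInvUnit (b i) (hb i)
  have hbu : ∀ i, ((bu i : GL (Fin s) F) : Matrix (Fin s) (Fin s) F) = b i := fun i => rfl
  obtain ⟨P', hP', hgr⟩ := Cfsg.Agent.Lib.Helper12.OAschLeaf.wreath_change_basis e P (fun i => (bu i)⁻¹)
  refine ⟨P', c * ∏ i, d i, mul_ne_zero hc (Finset.prod_ne_zero_iff.2 fun i _ => hd i), ?_, hP'⟩
  have := hgr J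
  change gramT e P' J = _ * gramT e P J * _ at this
  rw [this, hgram, Cfsg.Agent.Lib.Helper20.AschLeaf.ptens_transpose, Matrix.mul_smul, Matrix.smul_mul,
    Cfsg.Agent.Lib.Helper20.AschLeaf.ptens_mul, Cfsg.Agent.Lib.Helper20.AschLeaf.ptens_mul]
  have hfac : (fun i => ((((bu i)⁻¹ : GL (Fin s) F) : Matrix (Fin s) (Fin s) F))ᵀ * G i *
      (((bu i)⁻¹ : GL (Fin s) F) : Matrix (Fin s) (Fin s) F)) = fun i => d i • G₀ := by
    funext i
    have e1 : ((bu i : GL (Fin s) F) : Matrix (Fin s) (Fin s) F) *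
        (((bu i)⁻¹ : GL (Fin s) F) : Matrix (Fin s) (Fin s) F) = 1 := by
      rw [← Units.val_mul, mul_inv_cancel, Units.val_one]
    have e2 : ((((bu i)⁻¹ : GL (Fin s) F) : Matrix (Fin s) (Fin s) F))ᵀ * (b i)ᵀ = 1 := by
      rw [← Matrix.transpose_mul, ← hbu i, e1, Matrix.transpose_one]
    rw [hGi i, Matrix.mul_smul, Matrix.smul_mul]
    congr 1
    calc ((((bu i)⁻¹ : GL (Fin s) F) : Matrix (Fin s) (Fin s) F))ᵀ * ((b i)ᵀ * G₀ * b i) *
          (((bu i)⁻¹ : GL (Fin s) F) : Matrix (Fin s) (Fin s) F)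
        = (((((bu i)⁻¹ : GL (Fin s) F) : Matrix (Fin s) (Fin s) F))ᵀ * (b i)ᵀ) * G₀ *
          (b i * (((bu i)⁻¹ : GL (Fin s) F) : Matrix (Fin s) (Fin s) F)) := by
          simp only [mul_assoc]
      _ = G₀ := by rw [e2, ← hbu i, e1, one_mul, mul_one]
  rw [hfac, Cfsg.Agent.Lib.Helper20.AschLeaf.ptens_smul, smul_smul]

end Cfsg.Agent.Lib.Helper6.SpPrfLeaf
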