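import Mathlib
import Cfsg.Agent.Lib.Helper17.OSubDefs
import Cfsg.Agent.Lib.Helper15.QuadClass

/-!
S5659 leaves B2, B3, B6, B7 (owner helper17; notes/S5659_leaves.lean): rational geometry for an
orthogonal rational structure of the standard unitary form.
-/

set_option autoImplicit false
set_option linter.unusedSectionVars false
set_option linter.unusedVariables false

namespace Cfsg.Agent.Lib.Helper6.OSubLeaf
open Cfsg Matrix Cfsg.Agent.Lib.Helper5.SpMax
  Cfsg.Agent.Lib.Helper5.UForm Cfsg.Agent.Lib.Helper5.HermBridge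
  Cfsg.Agent.Lib.Helper5.SUGen Cfsg.Agent.Lib.Helper5.SUMax Cfsg.Agent.Lib.Helper5.USub
  Cfsg.Agent.Lib.Helper17.OSub

variable {F : Type*} [Field F] [Fintype F] {q n : ℕ}

section Rat
variable {hF : Fintype.card F = q ^ 2} {F₀ : Subfield F} {P : GL (Fin n) F}
  (S : Setup hF F₀ P)
include S

/-- the form is `F₀`-linear in the second variable on rational scalars -/
lemma smul_right_rat {c : F} (hc : c ∈ F₀) (x a : Fin n → F) :
    Cfsg.hermForm n F q x (c • a) = c * Cfsg.hermForm n F q x a := by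
  have hf := herm_unitary (n := n) hF
  rw [u_smul_right hf, (S.fix_iff c).mp hc]

/-- LEAF B7: a scalar carrying a non-zero rational vector to a rational vector is rational. -/
theorem mem_of_smul_rat {z : Fin n → F} {μ : F} (hz : IsRat F₀ P z) (hz0 : z ≠ 0)
    (h : IsRat F₀ P (μ • z)) : μ ∈ F₀ := by
  have hw0 : ((P⁻¹ : GL (Fin n) F) : Matrix (Fin n) (Fin n) F) *ᵥ z ≠ 0 := by
    intro h0
    apply hz0
    rw [← mul_inv_mulVec P z, h0, Matrix.mulVec_zero]
  obtain ⟨i, hi⟩ : ∃ i, (((P⁻¹ : GL (Fin n) F) : Matrix (Fin n) (Fin n) F) *ᵥ z) i ≠ 0 := by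
    by_contra hcon
    push Not at hcon
    exact hw0 (funext hcon)
  have h1 := h i
  rw [Matrix.mulVec_smul, Pi.smul_apply, smul_eq_mul] at h1
  have h2 : μ = (μ * (((P⁻¹ : GL (Fin n) F) : Matrix (Fin n) (Fin n) F) *ᵥ z) i) /
      ((((P⁻¹ : GL (Fin n) F) : Matrix (Fin n) (Fin n) F) *ᵥ z) i) := by
    field_simp
  rw [h2]
  exact F₀.div_mem h1 (hz i)

/-- LEAF B2: dual vector for an independent rational pair. -/
theorem exists_dual {a b : Fin n → F} (ha : IsRat F₀ P a) (hb : IsRat F₀ P b)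
    (hind : Ind F₀ a b) :
    ∃ p, IsRat F₀ P p ∧ Cfsg.hermForm n F q a p = 1 ∧ Cfsg.hermForm n F q b p = 0 := by
  have hf := herm_unitary (n := n) hF
  have ha0 : a ≠ 0 := ind_ne_zero hind
  obtain ⟨p1, hp1, hap1⟩ := S.nd ha ha0
  set α := Cfsg.hermForm n F q a p1 with hα
  set β := Cfsg.hermForm n F q b p1 with hβ
  have hαm : α ∈ F₀ := S.form a p1 ha hp1
  have hβm : β ∈ F₀ := S.form b p1 hb hp1
  have hkm : β / α ∈ F₀ := F₀.div_mem hβm hαm
  have hb1 : IsRat F₀ P (b - (β / α) • a) := isRat_sub hb (isRat_smul hkm ha)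
  have hb10 : b - (β / α) • a ≠ 0 := by
    intro h0
    have := (hind (-(β / α)) 1 (F₀.neg_mem hkm) F₀.one_mem (by
      rw [one_smul, neg_smul, neg_add_eq_sub]; exact h0)).2
    exact one_ne_zero this
  obtain ⟨p2, hp2, hb1p2⟩ := S.nd hb1 hb10
  set γ := Cfsg.hermForm n F q a p2 with hγ
  set δ := Cfsg.hermForm n F q b p2 with hδ
  have hγm : γ ∈ F₀ := S.form a p2 ha hp2
  have hδm : δ ∈ F₀ := S.form b p2 hb hp2
  have hval : Cfsg.hermForm n F q (b - (β / α) • a) p2 = δ - β / α * γ := by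
    rw [u_sub_left hf, hf.smul_left]
  have hΔ : α * δ - β * γ ≠ 0 := by
    intro h0
    apply hb1p2
    rw [hval]
    field_simp
    linear_combination h0
  have hΔm : α * δ - β * γ ∈ F₀ := F₀.sub_mem (F₀.mul_mem hαm hδm) (F₀.mul_mem hβm hγm)
  have hsm : δ / (α * δ - β * γ) ∈ F₀ := F₀.div_mem hδm hΔm
  have htm : -β / (α * δ - β * γ) ∈ F₀ := F₀.div_mem (F₀.neg_mem hβm) hΔm
  refine ⟨(δ / (α * δ - β * γ)) • p1 + (-β / (α * δ - β * γ)) • p2,
    isRat_add (isRat_smul hsm hp1) (isRat_smul htm hp2), ?_, ?_⟩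
  · rw [u_add_right hf, smul_right_rat S hsm, smul_right_rat S htm, ← hα, ← hγ,
      div_mul_eq_mul_div, div_mul_eq_mul_div, ← add_div, div_eq_one_iff_eq hΔ]
    ring
  · rw [u_add_right hf, smul_right_rat S hsm, smul_right_rat S htm, ← hβ, ← hδ,
      div_mul_eq_mul_div, div_mul_eq_mul_div, ← add_div, div_eq_zero_iff]
    left
    ring

/-- LEAF B3: hyperbolic partner of a rational isotropic vector. -/
theorem exists_partner {z : Fin n → F} (hz : RS q F₀ P z) :
    ∃ z', RS q F₀ P z' ∧ Cfsg.hermForm n F q z z' = 1 := by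
  have hf := herm_unitary (n := n) hF
  obtain ⟨hzr, hz0, hzz⟩ := hz
  obtain ⟨p, hp, hzp⟩ := S.nd hzr hz0
  set α := Cfsg.hermForm n F q z p with hα
  have hαm : α ∈ F₀ := S.form z p hzr hp
  have hαi : α⁻¹ ∈ F₀ := F₀.inv_mem hαm
  obtain ⟨p1, hp1d⟩ : ∃ p1 : Fin n → F, p1 = α⁻¹ • p := ⟨_, rfl⟩
  have hp1 : IsRat F₀ P p1 := by rw [hp1d]; exact isRat_smul hαi hp
  have hzp1 : Cfsg.hermForm n F q z p1 = 1 := by
    rw [hp1d, smul_right_rat S hαi, ← hα, inv_mul_cancel₀ hzp]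
  have hp1z : Cfsg.hermForm n F q p1 z = 1 := by
    rw [S.sym hzr hp1, hzp1]
  obtain ⟨k, hk⟩ : ∃ k : F, k = 2⁻¹ * Cfsg.hermForm n F q p1 p1 := ⟨_, rfl⟩
  have h2m : (2 : F) ∈ F₀ := by
    have : (2 : F) = 1 + 1 := by norm_num
    rw [this]; exact F₀.add_mem F₀.one_mem F₀.one_mem
  have hkm : k ∈ F₀ := by
    rw [hk]; exact F₀.mul_mem (F₀.inv_mem h2m) (S.form p1 p1 hp1 hp1)
  have h2 := S.two_ne_zero
  have hz'r : IsRat F₀ P (p1 - k • z) := isRat_sub hp1 (isRat_smul hkm hzr)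
  have h1 : Cfsg.hermForm n F q z (p1 - k • z) = 1 := by
    rw [u_sub_right hf, smul_right_rat S hkm, hzz, mul_zero, sub_zero, hzp1]
  refine ⟨p1 - k • z, ⟨hz'r, ?_, ?_⟩, h1⟩
  · intro h0
    rw [h0, u_zero_right hf] at h1
    exact zero_ne_one h1
  · have e1 : Cfsg.hermForm n F q p1 (p1 - k • z) = Cfsg.hermForm n F q p1 p1 - k := by
      rw [u_sub_right hf, smul_right_rat S hkm, hp1z, mul_one]
    have e2 : Cfsg.hermForm n F q (k • z) (p1 - k • z) = k := by
      rw [hf.smul_left, h1, mul_one]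
    rw [u_sub_left hf, e1, e2, hk]
    field_simp
    ring

/-- LEAF B6: a rational vector orthogonal to all rational vectors of `z'^⊥` is a rational
multiple of `z'`. -/
theorem eq_smul_of_perp {z' y : Fin n → F} (hz' : IsRat F₀ P z') (hz'0 : z' ≠ 0)
    (hy : IsRat F₀ P y)
    (h : ∀ r, IsRat F₀ P r → Cfsg.hermForm n F q r z' = 0 → Cfsg.hermForm n F q y r = 0) :
    ∃ s, s ∈ F₀ ∧ y = s • z' := by
  have hf := herm_unitary (n := n) hF
  by_cases hind : Ind F₀ y z'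
  · exfalso
    obtain ⟨p, hp, hyp, hz'p⟩ := exists_dual S hy hz' hind
    have h1 : Cfsg.hermForm n F q p z' = 0 := by rw [S.sym hz' hp, hz'p]
    have h2 := h p hp h1
    rw [hyp] at h2
    exact one_ne_zero h2
  · unfold Ind at hind
    push Not at hind
    obtain ⟨s, t, hs, ht, hst, hne⟩ := hind
    have hs0 : s ≠ 0 := by
      intro hs0
      have ht0 : t ≠ 0 := hne hs0
      rw [hs0, zero_smul, zero_add] at hst
      exact hz'0 ((smul_eq_zero.mp hst).resolve_left ht0)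
    refine ⟨-t / s, F₀.div_mem (F₀.neg_mem ht) hs, ?_⟩
    have h1 : s • y = -(t • z') := eq_neg_of_add_eq_zero_left hst
    have h3 : y = s⁻¹ • (s • y) := by rw [smul_smul, inv_mul_cancel₀ hs0, one_smul]
    rw [h3, h1, smul_neg, smul_smul, ← neg_smul]
    congr 1
    field_simp

end Rat

end Cfsg.Agent.Lib.Helper6.OSubLeaf
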