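/-
helper6: S4503 PART H, leaf BRH-ARITH (`arith`): the final arithmetic.
-/
import Mathlib

set_option autoImplicit false

namespace Cfsg.Agent.Lib.Helper6.BRHARITH

/-- ARITH : the final arithmetic. -/
theorem arith {p : ℕ} [Fact p.Prime] (f n a : ℕ) (hfdvd : f ∣ p - 1) (hf2 : 2 ≤ f) (hfn : f ≤ n)
    (hdeg : 2 * n + 1 < p) (hcnt : f ≤ 2 * a + 1) (hfrob : (p - 1) * a ≤ f ^ 2) : False := by
  have hpp : p.Prime := Fact.out
  obtain ⟨q, hq⟩ := hfdvd
  have hq3 : 3 ≤ q := by
    by_contra h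
    have h2 : q ≤ 2 := by omega
    have : f * q ≤ f * 2 := Nat.mul_le_mul_left f h2
    omega
  have ha1 : 1 ≤ a := by omega
  have h1 : f * (3 * a) ≤ f * f := by
    calc f * (3 * a) = (f * 3) * a := by ring
      _ ≤ (f * q) * a := Nat.mul_le_mul_right a (Nat.mul_le_mul_left f hq3)
      _ = (p - 1) * a := by rw [hq]
      _ ≤ f ^ 2 := hfrob
      _ = f * f := by ring
  have h2 : 3 * a ≤ f := Nat.le_of_mul_le_mul_left h1 (by omega)
  have ha : a = 1 := by omega
  subst ha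
  have hf3 : f = 3 := by omega
  subst hf3
  have h3 : 3 * q ≤ 9 := by
    have : (p - 1) * 1 ≤ 3 ^ 2 := hfrob
    rw [hq] at this
    omega
  have hq' : q = 3 := by omega
  subst hq'
  have hp10 : p = 10 := by omega
  rw [hp10] at hpp
  exact absurd hpp (by norm_num)

end Cfsg.Agent.Lib.Helper6.BRHARITH
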