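/-
helper6: S4503 PART H, leaf BRH-CNT (`count_le`), twin: at least half of the non-trivial non-exceptional characters
of the principal block have sign `-1`.
-/
import Mathlib
import Cfsg.Agent.Lib.Helper6.BRHDefs
import Cfsg.Agent.Lib.Helper29.DOTI

set_option autoImplicit false
set_option linter.unusedSectionVars false
set_option linter.unusedVariables false

namespace Cfsg.Agent.Lib.Helper6.BRHCNT

open Cfsg Cfsg.Agent.Lib.Helper8.DOM Cfsg.Agent.Lib.Helper27.DO Cfsg.Agent.CharLib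
open Cfsg.Agent.Lib.Helper6.BRH
open scoped ComplexConjugate

universe u

variable {G : Type u} [Group G] [Finite G] {p : ℕ} [Fact p.Prime]

/-- CNT : at least half of the non-trivial non-exceptional characters have sign `-1`. -/
theorem count_le (P : Subgroup G) (hP : Nat.card P = p) {X Y : Set (IrrCharacter G)}
    {v : IrrCharacter G → ℤ} {ε : ℤ} (d : B0 p P X Y v ε)
    (hf : (Cz P).relIndex (Nz P) < p - 1)
    (hYdeg : ε = 1 → ∀ ψ0 ∈ Y, charDegree (ψ0 : G → ℂ) = (Cz P).relIndex (Nz P))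
    (hminus : ∀ η ∈ X, v η = -1 → charDegree (η : G → ℂ) = p - 1)
    (hplus : ∀ η ∈ X, v η = 1 → η ≠ trivIrr G → p + 1 ≤ charDegree (η : G → ℂ)) :
    (Cz P).relIndex (Nz P) ≤ 2 * Nat.card {η : IrrCharacter G | η ∈ X ∧ v η = -1} + 1 := by
  classical
  have hpp : p.Prime := Fact.out
  have hp2 : 2 ≤ p := hpp.two_le
  set f := (Cz P).relIndex (Nz P) with hfdef
  have hXfin : X.Finite := Set.toFinite X
  set Xf := hXfin.toFinset with hXf
  have hmemX : ∀ η, η ∈ Xf ↔ η ∈ X := fun η => Set.Finite.mem_toFinset hXfin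
  -- `v (trivIrr G) = 1`
  have hvt : v (trivIrr G) = 1 := by
    have hnt : Nontrivial P := by
      rw [← Finite.one_lt_card_iff_nontrivial, hP]
      exact hpp.one_lt
    obtain ⟨x, hx⟩ := exists_ne (1 : P)
    have hx1 : (x : G) ≠ 1 := fun h => hx (Subtype.ext h)
    have hord := Cfsg.Agent.Lib.Helper29.DOTI.orderOf_eq_of_mem P hP x.2 hx1
    have h1 := d.valX (trivIrr G) d.trivX (x : G) (by rw [hord])
    have h2 : ((trivIrr G : IrrCharacter G) : G → ℂ) (x : G) = 1 := rfl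
    rw [h2] at h1
    exact_mod_cast h1.symm
  -- `Y` is not empty
  have hf0 : 0 < f := by
    apply Nat.pos_of_ne_zero
    intro h0
    have h1 := d.dvd
    rw [← hfdef, h0, zero_dvd_iff] at h1
    omega
  obtain ⟨ψ0, hψ0⟩ : Y.Nonempty := by
    have h1 : 0 < Nat.card Y := by
      rw [d.cardY]
      exact Nat.div_pos (Nat.le_of_dvd (by omega) d.dvd) hf0
    have : Nonempty Y := (Nat.card_pos_iff.mp h1).1
    exact Set.nonempty_coe_sort.mp this
  -- the three parts of `X`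
  set Sm := Xf.filter (fun η => v η = -1) with hSm
  set Sq := Xf.filter (fun η => ¬ v η = -1) with hSq
  have hcard : Sm.card + Sq.card = f := by
    rw [hSm, hSq, Finset.card_filter_add_card_filter_not, hfdef, ← d.cardX,
      Nat.card_coe_set_eq, Set.ncard_eq_toFinset_card X hXfin]
  have hvq : ∀ η ∈ Sq, v η = 1 := by
    intro η hη
    rw [hSq, Finset.mem_filter, hmemX] at hη
    rcases d.sgnX η hη.1 with h | h
    · exact h
    · exact absurd h hη.2
  have htq : trivIrr G ∈ Sq := by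
    rw [hSq, Finset.mem_filter, hmemX]
    refine ⟨d.trivX, ?_⟩
    rw [hvt]
    norm_num
  have hSmcard : Nat.card {η : IrrCharacter G | η ∈ X ∧ v η = -1} = Sm.card := by
    rw [Nat.card_coe_set_eq, Set.ncard_eq_toFinset_card _ (Set.toFinite _)]
    congr 1
    ext η
    simp [hSm, hmemX]
  rw [hSmcard]
  -- the degree relation
  have hdeg := d.degY ψ0 hψ0
  rw [finsum_mem_eq_finite_toFinset_sum _ hXfin, ← hXf,
    ← Finset.sum_filter_add_sum_filter_not Xf (fun η => v η = -1), ← hSm, ← hSq] at hdeg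
  have hsumM : ∑ η ∈ Sm, v η * (charDegree (η : G → ℂ) : ℤ) = -((Sm.card : ℤ) * ((p : ℤ) - 1)) := by
    have h1 : ∀ η ∈ Sm, v η * (charDegree (η : G → ℂ) : ℤ) = -((p : ℤ) - 1) := by
      intro η hη
      rw [hSm, Finset.mem_filter, hmemX] at hη
      rw [hη.2, hminus η hη.1 hη.2, Nat.cast_sub (by omega)]
      push_cast
      ring
    rw [Finset.sum_congr rfl h1, Finset.sum_const, nsmul_eq_mul]
    ring
  have hsumQ : 1 + ((Sq.card : ℤ) - 1) * ((p : ℤ) + 1) ≤
      ∑ η ∈ Sq, v η * (charDegree (η : G → ℂ) : ℤ) := by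
    rw [← Finset.add_sum_erase Sq _ htq, hvt, one_mul]
    have h1 : (1 : ℤ) ≤ (charDegree ((trivIrr G : IrrCharacter G) : G → ℂ) : ℤ) := by
      exact_mod_cast charDegree_pos (trivIrr G)
    have h2 : ((Sq.card : ℤ) - 1) * ((p : ℤ) + 1) ≤
        ∑ η ∈ Sq.erase (trivIrr G), v η * (charDegree (η : G → ℂ) : ℤ) := by
      have h3 : ∀ η ∈ Sq.erase (trivIrr G), ((p : ℤ) + 1) ≤ v η * (charDegree (η : G → ℂ) : ℤ) := by
        intro η hη
        rw [Finset.mem_erase] at hη
        have h4 := hvq η hη.2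
        have h5 : η ∈ X := by
          have := hη.2
          rw [hSq, Finset.mem_filter, hmemX] at this
          exact this.1
        rw [h4, one_mul]
        exact_mod_cast hplus η h5 h4 hη.1
      have h6 := Finset.card_nsmul_le_sum (Sq.erase (trivIrr G)) _ _ h3
      rw [Finset.card_erase_of_mem htq, nsmul_eq_mul, Nat.cast_sub (Finset.card_pos.mpr ⟨_, htq⟩)] at h6
      exact_mod_cast h6
    linarith
  -- the upper bound `ε ψ0(1) ≤ f`
  have hup : ε * (charDegree (ψ0 : G → ℂ) : ℤ) ≤ (f : ℤ) := by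
    rcases d.sgn with h | h
    · rw [h, one_mul, hYdeg h ψ0 hψ0]
    · rw [h]
      have : (0 : ℤ) ≤ (charDegree (ψ0 : G → ℂ) : ℤ) := Int.natCast_nonneg _
      have : (0 : ℤ) ≤ (f : ℤ) := Int.natCast_nonneg _
      linarith
  -- conclusion
  by_contra hcon
  have hcon' : 2 * Sm.card + 2 ≤ f := by omega
  have hb : Sm.card + 1 ≤ Sq.card - 1 + 0 := by omega
  have hq1 : 1 ≤ Sq.card := Finset.card_pos.mpr ⟨_, htq⟩
  have hbZ : ((Sm.card : ℤ) + 1) ≤ (Sq.card : ℤ) - 1 := by
    have : ((Sm.card + 1 : ℕ) : ℤ) ≤ ((Sq.card - 1 : ℕ) : ℤ) := by exact_mod_cast (by omega)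
    rw [Nat.cast_sub hq1] at this
    exact_mod_cast this
  have hpZ : (0 : ℤ) ≤ (p : ℤ) + 1 := by positivity
  have hmul : ((Sm.card : ℤ) + 1) * ((p : ℤ) + 1) ≤ ((Sq.card : ℤ) - 1) * ((p : ℤ) + 1) :=
    mul_le_mul_of_nonneg_right hbZ hpZ
  have hfZ : (f : ℤ) < (p : ℤ) - 1 := by
    have : ((f : ℕ) : ℤ) < ((p - 1 : ℕ) : ℤ) := by exact_mod_cast hf
    rw [Nat.cast_sub (by omega)] at this
    exact_mod_cast this
  rw [hsumM] at hdeg
  nlinarith

end Cfsg.Agent.Lib.Helper6.BRHCNT
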