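/-
helper6: S4503 PART H, leaf BRH-DEGREL (`degY_rel`), twin: the degree relation `ε ψ0(1) = ∑_X v η(1)` in `ℤ`.
-/
import Mathlib
import Cfsg.Agent.Lib.Helper6.BRHDefs

set_option autoImplicit false
set_option linter.unusedSectionVars false
set_option linter.unusedVariables false

namespace Cfsg.Agent.Lib.Helper6.BRHDEGREL

open Cfsg Cfsg.Agent.Lib.Helper8.DOM Cfsg.Agent.Lib.Helper27.DO Cfsg.Agent.CharLib
open Cfsg.Agent.Lib.Helper6.BRH
open scoped ComplexConjugate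

universe u

variable {G : Type u} [Group G] [Finite G] {p : ℕ} [Fact p.Prime]

/-- DEGREL : the degree relation `ε ψ0(1) = ∑_X v η(1)` in `ℤ`. -/
theorem degY_rel (X Y : Set (IrrCharacter G)) (v : IrrCharacter G → ℤ) (ε : ℤ)
    (hrel : ∀ ψ ∈ Y, ∀ g : G, ¬ p ∣ orderOf g →
      (ε : ℂ) * (ψ : G → ℂ) g = ∑ᶠ χ ∈ X, (v χ : ℂ) * (χ : G → ℂ) g) :
    ∀ ψ0 ∈ Y, ε * (charDegree (ψ0 : G → ℂ) : ℤ) =
      ∑ᶠ η ∈ X, v η * (charDegree (η : G → ℂ) : ℤ) := by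
  classical
  have hpp : p.Prime := Fact.out
  intro ψ0 hψ0
  have h1 := hrel ψ0 hψ0 1 (by
    rw [orderOf_one]
    exact hpp.not_dvd_one)
  rw [apply_one_eq, finsum_mem_eq_finite_toFinset_sum _ (Set.toFinite X)] at h1
  rw [finsum_mem_eq_finite_toFinset_sum _ (Set.toFinite X)]
  have h2 : ((ε * (charDegree (ψ0 : G → ℂ) : ℤ) : ℤ) : ℂ) =
      ((∑ η ∈ (Set.toFinite X).toFinset, v η * (charDegree (η : G → ℂ) : ℤ) : ℤ) : ℂ) := by
    push_cast
    rw [h1]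
    apply Finset.sum_congr rfl
    intro η _
    rw [apply_one_eq]
  exact_mod_cast h2

end Cfsg.Agent.Lib.Helper6.BRHDEGREL
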