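/-
helper6: S4503 PART H, leaf BRH-FROBB (`sum_mult_eq`), twin:
`∑_{u ≠ 0} ⟨Λ|_C, lam u⟩ = (p/|C|) ∑_{y ∈ C p-regular} |ψ(y)|² - ⟨ψ|_C, ψ'|_C⟩`.
-/
import Mathlib
import Cfsg.Agent.Lib.Helper6.BRHDefs
import Cfsg.Agent.Lib.Lead.CharDecomp
import Cfsg.Agent.Lib.Lead.CharEquiv

set_option autoImplicit false
set_option linter.unusedSectionVars false

namespace Cfsg.Agent.Lib.Helper6.BRHFROBB

open Cfsg Cfsg.Agent.Lib.Helper8.DOM Cfsg.Agent.Lib.Helper27.DO Cfsg.Agent.CharLib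
open Cfsg.Agent.Lib.Helper6.BRH
open scoped ComplexConjugate

universe u

variable {G : Type u} [Group G] [Finite G] {p : ℕ} [Fact p.Prime]

/-- FROBB : `∑_{u ≠ 0} ⟨Λ|_C, lam u⟩ = (p/|C|) ∑_{y ∈ K} |ψ(y)|² - ⟨ψ|_C, ψ'|_C⟩`, the last term a natural number. -/
theorem sum_mult_eq (P : Subgroup G) (lam : ZMod p → IrrCharacter (Cz P)) (hlam : LamData p P lam)
    (ψ ψ' : IrrCharacter G)
    (hreg : ∀ g : G, ¬ p ∣ orderOf g → (ψ' : G → ℂ) g = (ψ : G → ℂ) g) :
    ∃ n : ℕ, ∑ᶠ u ∈ {u : ZMod p | u ≠ 0},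
        mult (Cz P) (fun g => (ψ : G → ℂ) g * conj ((ψ' : G → ℂ) g)) (lam u : Cz P → ℂ) =
      (((p : ℝ) * (Nat.card (Cz P) : ℝ)⁻¹ *
        ∑ᶠ y ∈ {y : G | y ∈ Cz P ∧ ¬ p ∣ orderOf y}, Complex.normSq ((ψ : G → ℂ) y) : ℝ) : ℂ) -
        (n : ℂ) := by
  classical
  have hpp : p.Prime := Fact.out
  have : NeZero p := ⟨hpp.ne_zero⟩
  let _ : Fintype G := Fintype.ofFinite G
  let _ : Fintype (Cz P) := Fintype.ofFinite _
  obtain ⟨n, hn⟩ := IsCharacter.classInner_nat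
    (IsCharacter.restrict (IsIrrCharacter.isCharacter ψ.2) (Cz P))
    (IsCharacter.restrict (IsIrrCharacter.isCharacter ψ'.2) (Cz P))
  refine ⟨n, ?_⟩
  set L : G → ℂ := fun g => (ψ : G → ℂ) g * conj ((ψ' : G → ℂ) g) with hLdef
  -- the sum of the `lam u`, `u ≠ 0`
  have hsum : ∀ h : Cz P, ∑ u ∈ (Finset.univ.erase (0 : ZMod p)), (lam u : Cz P → ℂ) h =
      if p ∣ orderOf h then -1 else ((p : ℂ) - 1) := by
    intro h
    by_cases hh : p ∣ orderOf h
    · rw [if_pos hh]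
      have h1 := hlam.sing h hh
      rw [finsum_eq_sum_of_fintype, ← Finset.add_sum_erase _ _ (Finset.mem_univ (0 : ZMod p)),
        hlam.zero h] at h1
      linear_combination h1
    · rw [if_neg hh, Finset.sum_congr rfl (fun u _ => hlam.reg u h hh), Finset.sum_const,
        Finset.card_erase_of_mem (Finset.mem_univ _), Finset.card_univ, ZMod.card, nsmul_eq_mul,
        mul_one, Nat.cast_sub hpp.one_lt.le, Nat.cast_one]
  -- left side
  have hfin : ({u : ZMod p | u ≠ 0} : Set (ZMod p)).Finite := Set.toFinite _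
  have hset : hfin.toFinset = Finset.univ.erase (0 : ZMod p) := by
    ext u
    simp
  rw [finsum_mem_eq_finite_toFinset_sum _ hfin, hset]
  have hmult : ∀ u : ZMod p, mult (Cz P) L (lam u : Cz P → ℂ) =
      (Nat.card (Cz P) : ℂ)⁻¹ * ∑ h : Cz P, L (h : G) * conj ((lam u : Cz P → ℂ) h) := by
    intro u
    unfold mult
    rw [finsum_eq_sum_of_fintype]
  rw [Finset.sum_congr rfl (fun u _ => hmult u), ← Finset.mul_sum, Finset.sum_comm]
  have h2 : ∀ h : Cz P, ∑ u ∈ (Finset.univ.erase (0 : ZMod p)),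
      L (h : G) * conj ((lam u : Cz P → ℂ) h) =
      if p ∣ orderOf h then -L (h : G) else ((p : ℂ) - 1) * L (h : G) := by
    intro h
    rw [← Finset.mul_sum, ← map_sum, hsum h]
    split_ifs
    · rw [map_neg, map_one]
      ring
    · rw [map_sub, map_one, Complex.conj_natCast]
      ring
  rw [Finset.sum_congr rfl (fun h _ => h2 h)]
  -- split into `p ∑_{reg} - ∑_{all}`
  have h3 : ∀ h : Cz P, (if p ∣ orderOf h then -L (h : G) else ((p : ℂ) - 1) * L (h : G)) =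
      (p : ℂ) * (if ¬ p ∣ orderOf (h : G) then
        ((Complex.normSq ((ψ : G → ℂ) (h : G)) : ℝ) : ℂ) else 0) - L (h : G) := by
    intro h
    rw [Subgroup.orderOf_coe]
    by_cases hh : p ∣ orderOf h
    · rw [if_pos hh, if_neg (not_not.mpr hh)]
      ring
    · rw [if_neg hh, if_pos hh]
      have h4 : L (h : G) = ((Complex.normSq ((ψ : G → ℂ) (h : G)) : ℝ) : ℂ) := by
        rw [hLdef]
        simp only
        rw [hreg (h : G) (by rwa [Subgroup.orderOf_coe]), Complex.mul_conj]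
      rw [h4]
      ring
  rw [Finset.sum_congr rfl (fun h _ => h3 h), Finset.sum_sub_distrib, ← Finset.mul_sum]
  -- the second sum is `|C| n`
  have h5 : ∑ h : Cz P, L (h : G) = (Nat.card (Cz P) : ℂ) * (n : ℂ) := by
    rw [← hn]
    unfold classInner
    have hC0 : (Nat.card (Cz P) : ℂ) ≠ 0 := Nat.cast_ne_zero.mpr Nat.card_pos.ne'
    rw [← mul_assoc, mul_inv_cancel₀ hC0, one_mul]
  -- the first sum as a `finsum` over `G`
  have h6 : ∑ h : Cz P, (if ¬ p ∣ orderOf (h : G) then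
      ((Complex.normSq ((ψ : G → ℂ) (h : G)) : ℝ) : ℂ) else 0) =
      ((∑ᶠ y ∈ {y : G | y ∈ Cz P ∧ ¬ p ∣ orderOf y}, Complex.normSq ((ψ : G → ℂ) y) : ℝ) : ℂ) := by
    have hfin2 : ({y : G | y ∈ Cz P ∧ ¬ p ∣ orderOf y} : Set G).Finite := Set.toFinite _
    rw [finsum_mem_eq_finite_toFinset_sum _ hfin2, Complex.ofReal_sum]
    have h7 : ∑ h : Cz P, (if ¬ p ∣ orderOf (h : G) then
        ((Complex.normSq ((ψ : G → ℂ) (h : G)) : ℝ) : ℂ) else 0) =
        ∑ y ∈ Finset.univ.filter (fun y : G => y ∈ Cz P), (if ¬ p ∣ orderOf y then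
        ((Complex.normSq ((ψ : G → ℂ) y) : ℝ) : ℂ) else 0) := by
      symm
      exact Finset.sum_subtype (Finset.univ.filter (fun y : G => y ∈ Cz P)) (by simp)
        (fun y : G => if ¬ p ∣ orderOf y then
          ((Complex.normSq ((ψ : G → ℂ) y) : ℝ) : ℂ) else 0)
    rw [h7, ← Finset.sum_filter, Finset.filter_filter]
    apply Finset.sum_congr
    · ext y
      simp
    · intro y _
      rfl
  rw [h5, h6]
  have hC0 : (Nat.card (Cz P) : ℂ) ≠ 0 := Nat.cast_ne_zero.mpr Nat.card_pos.ne'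
  push_cast
  field_simp

end Cfsg.Agent.Lib.Helper6.BRHFROBB
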