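/-
helper6: S4503 PART H, leaf BRH-NE (`ne_of_psum`): a character is not orthogonal to itself on `P`.
-/
import Mathlib
import Cfsg.Agent.Lib.Helper6.BRHDefs

set_option autoImplicit false

namespace Cfsg.Agent.Lib.Helper6.BRHNE

open Cfsg Cfsg.Agent.CharLib Cfsg.Agent.Lib.Helper6.BRH
open scoped ComplexConjugate

universe u

variable {G : Type u} [Group G] [Finite G]

/-- a character is not orthogonal to itself on `P` -/
theorem ne_of_psum (P : Subgroup G) (ψ ψ' : IrrCharacter G)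
    (hP0 : ∑ᶠ x ∈ (P : Set G), (ψ : G → ℂ) x * conj ((ψ' : G → ℂ) x) = 0) : ψ ≠ ψ' := by
  classical
  rintro rfl
  have hfin : (P : Set G).Finite := Set.toFinite _
  rw [finsum_mem_eq_finite_toFinset_sum _ hfin] at hP0
  have h1 : ∀ x : G, (ψ : G → ℂ) x * conj ((ψ : G → ℂ) x) = ((Complex.normSq ((ψ : G → ℂ) x) : ℝ) : ℂ) :=
    fun x => Complex.mul_conj _
  rw [Finset.sum_congr rfl (fun x _ => h1 x), ← Complex.ofReal_sum] at hP0
  have h2 : ∑ x ∈ hfin.toFinset, Complex.normSq ((ψ : G → ℂ) x) = 0 := by exact_mod_cast hP0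
  have h3 := (Finset.sum_eq_zero_iff_of_nonneg (fun x _ => Complex.normSq_nonneg _)).mp h2 1
    (by simp)
  rw [Complex.normSq_eq_zero, apply_one_eq] at h3
  have h4 := charDegree_pos ψ
  have h5 : charDegree (ψ : G → ℂ) = 0 := by exact_mod_cast h3
  omega

end Cfsg.Agent.Lib.Helper6.BRHNE
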