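/-
helper6: S4503 PART H, leaf BRH-PFIX (`psum_constituent`), twin: a constituent of `Λ = ψ ψ̄'` has no `P`-fixed points.
-/
import Mathlib
import Cfsg.Agent.Lib.Helper6.BRHDefs
import Cfsg.Agent.Lib.Helper6.DefectOrder

set_option autoImplicit false
set_option linter.unusedSectionVars false

namespace Cfsg.Agent.Lib.Helper6.BRHPFIX

open Cfsg Cfsg.Agent.CharLib Cfsg.Agent.Lib.Helper6.BRH
open scoped ComplexConjugate

universe u

variable {G : Type u} [Group G] [Finite G]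

/-- PFIX : a constituent of `Λ = ψ ψ̄'` has no `P`-fixed points. -/
theorem psum_constituent (P : Subgroup G) (ψ ψ' : IrrCharacter G) (mL : IrrCharacter G → ℕ)
    (hL : (fun g => (ψ : G → ℂ) g * conj ((ψ' : G → ℂ) g)) =
      ∑ᶠ η : IrrCharacter G, mL η • (η : G → ℂ))
    (hP0 : ∑ᶠ x ∈ (P : Set G), (ψ : G → ℂ) x * conj ((ψ' : G → ℂ) x) = 0) :
    ∀ ζ : IrrCharacter G, mL ζ ≠ 0 → ∑ᶠ x ∈ (P : Set G), (ζ : G → ℂ) x = 0 := by
  classical
  let _ : Fintype G := Fintype.ofFinite G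
  let _ : Fintype (IrrCharacter G) := Fintype.ofFinite _
  let _ : Fintype P := Fintype.ofFinite _
  rw [finsum_eq_sum_of_fintype] at hL
  -- sums over `P` as sums over the subtype
  have hsub : ∀ f : G → ℂ, ∑ᶠ x ∈ (P : Set G), f x = ∑ x : P, f (x : G) := by
    intro f
    rw [finsum_mem_eq_finite_toFinset_sum _ (Set.toFinite _)]
    exact Finset.sum_subtype _ (by simp) f
  have key : ∀ ζ : IrrCharacter G, ∃ n : ℕ, ∑ x : P, (ζ : G → ℂ) (x : G) = (Nat.card P : ℂ) * (n : ℂ) :=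
    fun ζ => Cfsg.Agent.Lib.Helper6.exists_sum_subgroup_eq (ζ : G → ℂ) (IsIrrCharacter.isCharacter ζ.2) P
  choose n hn using key
  have h1 : ∑ x : P, (ψ : G → ℂ) (x : G) * conj ((ψ' : G → ℂ) (x : G)) =
      ((Nat.card P * ∑ ζ : IrrCharacter G, mL ζ * n ζ : ℕ) : ℂ) := by
    have h2 : ∀ x : P, (ψ : G → ℂ) (x : G) * conj ((ψ' : G → ℂ) (x : G)) =
        ∑ ζ : IrrCharacter G, (mL ζ : ℂ) * (ζ : G → ℂ) (x : G) := by
      intro x
      have := congrFun hL (x : G)
      simp only [Finset.sum_apply, nsmul_eq_mul] at this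
      exact this
    rw [Finset.sum_congr rfl (fun x _ => h2 x), Finset.sum_comm]
    push_cast
    rw [Finset.mul_sum]
    apply Finset.sum_congr rfl
    intro ζ _
    rw [← Finset.mul_sum, hn ζ]
    ring
  rw [hsub, h1] at hP0
  have h3 : Nat.card P * ∑ ζ : IrrCharacter G, mL ζ * n ζ = 0 := by exact_mod_cast hP0
  have h4 : ∑ ζ : IrrCharacter G, mL ζ * n ζ = 0 := by
    rcases Nat.mul_eq_zero.mp h3 with h | h
    · exact absurd h Nat.card_pos.ne'
    · exact h
  intro ζ hζ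
  have h5 := (Finset.sum_eq_zero_iff.mp h4) ζ (Finset.mem_univ ζ)
  have h6 : n ζ = 0 := by
    rcases Nat.mul_eq_zero.mp h5 with h | h
    · exact absurd h hζ
    · exact h
  rw [hsub, hn ζ, h6]
  simp

end Cfsg.Agent.Lib.Helper6.BRHPFIX
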