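/-
helper6: S4503 PART H, leaf BRH-PHI (`phi_pairing`): the class function `Φ = ψ ψ̄ - ψ ψ̄'` vanishes on the `p`-regular
elements and `⟨Φ, 1⟩ = 1`; hence `⟨Φ, F⟩ = c` for every sum `F` of irreducible characters that is constant `c` on the
`p`-singular elements.
-/
import Mathlib
import Cfsg.Agent.Lib.Helper6.BRHDefs
import Cfsg.Agent.Lib.Lead.CharDecomp

set_option autoImplicit false
set_option linter.unusedSectionVars false

namespace Cfsg.Agent.Lib.Helper6.BRHPHI

open Cfsg Cfsg.Agent.CharLib Cfsg.Agent.Lib.Helper6.BRH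
open scoped ComplexConjugate

universe u

variable {G : Type u} [Group G] [Finite G] {p : ℕ} [Fact p.Prime]

/-- PHI : `Φ` vanishes on the `p`-regular elements and `⟨Φ, 1⟩ = 1`. -/
theorem phi_pairing (ψ ψ' : IrrCharacter G) (hne : ψ ≠ ψ')
    (hreg : ∀ g : G, ¬ p ∣ orderOf g → (ψ' : G → ℂ) g = (ψ : G → ℂ) g)
    (mA mL : IrrCharacter G → ℕ)
    (hA : (fun g => (ψ : G → ℂ) g * conj ((ψ : G → ℂ) g)) =
      ∑ᶠ η : IrrCharacter G, mA η • (η : G → ℂ))
    (hL : (fun g => (ψ : G → ℂ) g * conj ((ψ' : G → ℂ) g)) =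
      ∑ᶠ η : IrrCharacter G, mL η • (η : G → ℂ))
    (S : Set (IrrCharacter G)) (c : ℤ)
    (hS : ∀ g : G, p ∣ orderOf g → ∑ᶠ η ∈ S, (η : G → ℂ) g = (c : ℂ)) :
    ∑ᶠ η ∈ S, ((mA η : ℤ) - (mL η : ℤ)) = c := by
  classical
  let _ : Fintype G := Fintype.ofFinite G
  let _ : Fintype (IrrCharacter G) := Fintype.ofFinite _
  rw [finsum_eq_sum_of_fintype] at hA hL
  have hSfin : S.Finite := Set.toFinite S
  -- the functions
  set A : G → ℂ := fun g => (ψ : G → ℂ) g * conj ((ψ : G → ℂ) g) with hAdef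
  set L : G → ℂ := fun g => (ψ : G → ℂ) g * conj ((ψ' : G → ℂ) g) with hLdef
  set F : G → ℂ := ∑ η ∈ hSfin.toFinset, (η : G → ℂ) with hFdef
  have hF : ∀ g : G, p ∣ orderOf g → F g = (c : ℂ) := by
    intro g hg
    rw [← hS g hg, finsum_mem_eq_finite_toFinset_sum _ hSfin, hFdef, Finset.sum_apply]
  -- first evaluation: orthonormality
  have hone : ∀ ζ : IrrCharacter G, classInner (ζ : G → ℂ) F = if ζ ∈ S then 1 else 0 := by
    intro ζ
    rw [hFdef, classInner_sum_right]
    simp only [classInner_irr']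
    rw [Finset.sum_ite_eq]
    simp
  have hdec : ∀ (m : IrrCharacter G → ℕ),
      classInner (∑ η : IrrCharacter G, m η • (η : G → ℂ)) F = ∑ η ∈ hSfin.toFinset, (m η : ℂ) := by
    intro m
    rw [classInner_sum_left]
    have h1 : ∀ η : IrrCharacter G, classInner (m η • (η : G → ℂ)) F =
        if η ∈ hSfin.toFinset then (m η : ℂ) else 0 := by
      intro η
      have h2 : m η • (η : G → ℂ) = (m η : ℂ) • (η : G → ℂ) := by
        rw [Nat.cast_smul_eq_nsmul]
      rw [h2, classInner_smul_left, hone η]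
      simp only [Set.Finite.mem_toFinset]
      split_ifs <;> simp
    rw [Finset.sum_congr rfl (fun η _ => h1 η), Finset.sum_ite_mem, Finset.univ_inter]
  have hfirst : classInner (A - L) F =
      ∑ η ∈ hSfin.toFinset, ((mA η : ℂ) - (mL η : ℂ)) := by
    rw [classInner_sub_left, hA, hL, hdec mA, hdec mL, Finset.sum_sub_distrib]
  -- second evaluation: `Φ` vanishes on the `p`-regular elements
  have hsecond : classInner (A - L) F = (c : ℂ) * classInner (A - L) (1 : G → ℂ) := by
    have h1 : ∑ g : G, (A - L) g * conj (F g) =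
        (c : ℂ) * ∑ g : G, (A - L) g * conj ((1 : G → ℂ) g) := by
      rw [Finset.mul_sum]
      apply Finset.sum_congr rfl
      intro g _
      by_cases hg : p ∣ orderOf g
      · rw [hF g hg, Pi.one_apply, map_one, mul_one, map_intCast, mul_comm]
      · have h0 : (A - L) g = 0 := by
          rw [Pi.sub_apply, hAdef, hLdef]
          simp only
          rw [hreg g hg, sub_self]
        rw [h0, zero_mul, zero_mul, mul_zero]
    unfold classInner
    rw [h1]
    ring
  have hA1 : classInner A (1 : G → ℂ) = 1 := by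
    have h1 : classInner A (1 : G → ℂ) = classInner (ψ : G → ℂ) (ψ : G → ℂ) := by
      unfold classInner
      congr 1
      apply Finset.sum_congr rfl
      intro g _
      rw [Pi.one_apply, map_one, mul_one]
    rw [h1, classInner_irr', if_pos rfl]
  have hL1 : classInner L (1 : G → ℂ) = 0 := by
    have h1 : classInner L (1 : G → ℂ) = classInner (ψ : G → ℂ) (ψ' : G → ℂ) := by
      unfold classInner
      congr 1
      apply Finset.sum_congr rfl
      intro g _
      rw [Pi.one_apply, map_one, mul_one]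
    rw [h1, classInner_irr', if_neg hne]
  have hAL1 : classInner (A - L) (1 : G → ℂ) = 1 := by
    rw [classInner_sub_left, hA1, hL1, sub_zero]
  rw [hAL1, mul_one] at hsecond
  rw [hsecond] at hfirst
  rw [finsum_mem_eq_finite_toFinset_sum _ hSfin]
  have h3 : ((∑ η ∈ hSfin.toFinset, ((mA η : ℤ) - (mL η : ℤ)) : ℤ) : ℂ) = (c : ℂ) := by
    rw [hfirst]
    push_cast
    rfl
  exact_mod_cast h3

end Cfsg.Agent.Lib.Helper6.BRHPHI
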