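/-
helper6: S4503 PART H, leaf BRH-Y0 (`degY_of_pos`), twin: if `ε = 1` the exceptional characters have degree `f`.
-/
import Mathlib
import Cfsg.Agent.Lib.Helper6.BRHDefs

set_option autoImplicit false
set_option linter.unusedSectionVars false
set_option linter.unusedVariables false

namespace Cfsg.Agent.Lib.Helper6.BRHY0

open Cfsg Cfsg.Agent.Lib.Helper8.DOM Cfsg.Agent.Lib.Helper27.DO Cfsg.Agent.CharLib
open Cfsg.Agent.Lib.Helper6.BRH
open scoped ComplexConjugate

universe u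

variable {G : Type u} [Group G] [Finite G] {p : ℕ} [Fact p.Prime]

/-- Y0 : if `ε = 1` the exceptional characters have degree `f`. -/
theorem degY_of_pos (P : Subgroup G) (hP : Nat.card P = p) {X Y : Set (IrrCharacter G)}
    {v : IrrCharacter G → ℤ} {ε : ℤ} (d : B0 p P X Y v ε) (hε : ε = 1)
    (mA mL : IrrCharacter G → ℕ)
    (hY : ∑ᶠ η ∈ Y, ((mA η : ℤ) - (mL η : ℤ)) = -ε)
    (hfix : ∀ ζ : IrrCharacter G, mL ζ ≠ 0 → ∑ᶠ x ∈ (P : Set G), (ζ : G → ℂ) x = 0) :
    ∀ ψ0 ∈ Y, charDegree (ψ0 : G → ℂ) = (Cz P).relIndex (Nz P) := by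
  classical
  subst hε
  -- a constituent of `Λ` in `Y`
  have h1 : ∃ ψ1 ∈ Y, mL ψ1 ≠ 0 := by
    by_contra hcon
    push Not at hcon
    have h2 : ∑ᶠ η ∈ Y, ((mA η : ℤ) - (mL η : ℤ)) = ∑ᶠ η ∈ Y, (mA η : ℤ) := by
      apply finsum_mem_congr rfl
      intro η hη
      rw [hcon η hη]
      simp
    have h3 : (0 : ℤ) ≤ ∑ᶠ η ∈ Y, (mA η : ℤ) := by
      rw [finsum_mem_eq_finite_toFinset_sum _ (Set.toFinite Y)]
      exact Finset.sum_nonneg (fun η _ => Int.natCast_nonneg _)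
    rw [h2] at hY
    omega
  obtain ⟨ψ1, hψ1, hm⟩ := h1
  -- its degree
  have h4 : charDegree (ψ1 : G → ℂ) = (Cz P).relIndex (Nz P) := by
    have h5 := hfix ψ1 hm
    have hsplit : (P : Set G) = {1} ∪ {x : G | x ∈ P ∧ x ≠ 1} := by
      ext x
      simp only [SetLike.mem_coe, Set.mem_union, Set.mem_singleton_iff, Set.mem_ofPred_eq]
      constructor
      · intro hx
        by_cases h : x = 1
        · exact Or.inl h
        · exact Or.inr ⟨hx, h⟩
      · rintro (rfl | ⟨hx, _⟩)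
        · exact P.one_mem
        · exact hx
    have hdisj : Disjoint ({1} : Set G) {x : G | x ∈ P ∧ x ≠ 1} := by
      rw [Set.disjoint_left]
      intro x hx hx2
      exact hx2.2 hx
    rw [hsplit, finsum_mem_union hdisj (Set.toFinite _) (Set.toFinite _), finsum_mem_singleton,
      d.psumY ψ1 hψ1, apply_one_eq] at h5
    have h6 : ((charDegree (ψ1 : G → ℂ) : ℕ) : ℂ) = (((Cz P).relIndex (Nz P) : ℕ) : ℂ) := by
      push_cast at h5
      linear_combination h5
    exact_mod_cast h6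
  intro ψ0 hψ0
  have h7 := d.degY ψ0 hψ0
  have h8 := d.degY ψ1 hψ1
  rw [← h8] at h7
  rw [← h4]
  have h9 : (charDegree (ψ0 : G → ℂ) : ℤ) = (charDegree (ψ1 : G → ℂ) : ℤ) := by
    linarith
  exact_mod_cast h9

end Cfsg.Agent.Lib.Helper6.BRHY0
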