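/-
helper6: the principal block of a group with a Sylow `p`-subgroup `P` of order `p` (`f = |N_G(P) : C_G(P)| < p - 1`), FULL
clean form for the follow-up family of S4503 (S4504, ...): `exists_B0_full` = `BRHMain.exists_B0` (structure `BRH.B0`) together
with `principalBlock M G = X ∪ Y`, the degree congruences `η(1) ≡ v η`, `ξ(1) ≡ ε f (mod p)`, the agreement of the exceptional
characters on the `p`-regular elements and the relation `ε ξ = ∑_X v η` there.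
-/
import Mathlib
import Cfsg.Prelude.Def_BlockRank
import Cfsg.Agent.Lib.Helper6.BRHDefs
import Cfsg.Agent.Lib.Helper7.DOS4441
import Cfsg.Agent.Lib.Helper8.DOMFinal
import Cfsg.Agent.Lib.Helper8.DOFULL
import Cfsg.Agent.Lib.Helper26.DODEFP
import Cfsg.Agent.Lib.Lead.CharDecomp
import Cfsg.Agent.Lib.Helper6.BRHPHI
import Cfsg.Agent.Lib.Helper6.BRHNE
import Cfsg.Agent.Lib.Helper6.BRHARITH
import Cfsg.Agent.Lib.Helper6.BRHFROBB
import Cfsg.Agent.Lib.Helper16.BRHVALS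
import Cfsg.Agent.Lib.Helper16.BRHTRIVX
import Cfsg.Agent.Lib.Helper23.BRHDEGM
import Cfsg.Agent.Lib.Helper23.BRHDEGP
import Cfsg.Agent.Lib.Helper7.BRHSUMY
import Cfsg.Agent.Lib.Helper7.BRHPSUMY
import Cfsg.Agent.Lib.Helper6.BRHDEGREL
import Cfsg.Agent.Lib.Helper6.BRHCNT
import Cfsg.Agent.Lib.Helper6.BRHY0
import Cfsg.Agent.Lib.Helper6.BRHPFIX
import Cfsg.Agent.Lib.Helper29.BRHLAM
import Cfsg.Agent.Lib.Helper10.BRHROW
import Cfsg.Agent.Lib.Helper10.BRHFROBA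

set_option autoImplicit false

namespace Cfsg.Agent.Lib.Helper6.BRHB0X

open Cfsg Cfsg.Agent.Lib.Helper8.DOM Cfsg.Agent.Lib.Helper27.DO Cfsg.Agent.CharLib
open Cfsg.Agent.Lib.Helper6.BRH Cfsg.Agent.Lib.Helper7.DOS4441
open Cfsg.Agent.Lib.Helper6.BRHPHI Cfsg.Agent.Lib.Helper6.BRHNE Cfsg.Agent.Lib.Helper6.BRHARITH
open Cfsg.Agent.Lib.Helper6.BRHFROBB Cfsg.Agent.Lib.Helper16.BRHVALS Cfsg.Agent.Lib.Helper16.BRHTRIVX
open Cfsg.Agent.Lib.Helper23.BRHDEGM Cfsg.Agent.Lib.Helper23.BRHDEGP Cfsg.Agent.Lib.Helper7.BRHSUMY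
open Cfsg.Agent.Lib.Helper7.BRHPSUMY Cfsg.Agent.Lib.Helper6.BRHDEGREL Cfsg.Agent.Lib.Helper6.BRHCNT
open Cfsg.Agent.Lib.Helper6.BRHY0 Cfsg.Agent.Lib.Helper6.BRHPFIX Cfsg.Agent.Lib.Helper29.BRHLAM
open Cfsg.Agent.Lib.Helper10.BRHROW Cfsg.Agent.Lib.Helper10.BRHFROBA
open scoped ComplexConjugate

universe u

variable {G : Type u} [Group G] [Finite G] {p : ℕ} [Fact p.Prime] {M : Ideal AlgInt}

/-- the principal block, full clean form -/
theorem exists_B0_full (hM : IsPModular p M) (P : Subgroup G) (hP : Nat.card P = p)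
    (hSyl : ¬ p ∣ P.index) (hf : (Cz P).relIndex (Nz P) < p - 1) :
    ∃ (X Y : Set (IrrCharacter G)) (v : IrrCharacter G → ℤ) (ε : ℤ), B0 p P X Y v ε ∧
      principalBlock M G = X ∪ Y ∧
      (∀ η ∈ X, (charDegree (η : G → ℂ) : ℤ) ≡ v η [ZMOD p]) ∧
      (∀ ξ ∈ Y, (charDegree (ξ : G → ℂ) : ℤ) ≡ ε * ((Cz P).relIndex (Nz P) : ℤ) [ZMOD p]) ∧
      (∀ ξ ∈ Y, ∀ ξ' ∈ Y, ∀ g : G, ¬ p ∣ orderOf g → (ξ : G → ℂ) g = (ξ' : G → ℂ) g) ∧
      (∀ ξ ∈ Y, ∀ g : G, ¬ p ∣ orderOf g →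
        (ε : ℂ) * (ξ : G → ℂ) g = ∑ᶠ χ ∈ X, (v χ : ℂ) * (χ : G → ℂ) g) := by
  classical
  let _ : Fintype G := Fintype.ofFinite G
  let _ : Fintype (IrrCharacter G) := Fintype.ofFinite _
  have : M.IsMaximal := hM.2.1
  have hpp : p.Prime := Fact.out
  have hidx : ¬ p ∣ P.relIndex (Nz P) :=
    fun h => hSyl (dvd_trans h (Subgroup.relIndex_dvd_index_of_le Subgroup.le_normalizer))
  have hfinal := Cfsg.Agent.Lib.Helper8.DOMFinal.card_conjClasses_le_sum_blockRank M hM P hP hidx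
  have hdvd : p ∣ Nat.card G := by
    rw [← hP]
    exact Subgroup.card_subgroup_dvd_card P
  have hd := blockDefect_principal_pos M hM hdvd
  have hB := isPBlock_principal (G := G) M
  have hBP := Cfsg.Agent.Lib.Helper26.DODEFP.isDefectGroup_of_pos hM P hP hSyl
    (principalBlock M G) hB hd
  obtain ⟨x0, hx0⟩ := exists_gen P hP
  obtain ⟨hfd, -, X, Y, v, ε, hXY, hdisj, hcX, hcY, hsX, hsε, hYreg, hrel, hdX, hdY, hvX, -, hgal⟩ :=
    Cfsg.Agent.Lib.Helper8.DOFULL.struct_full_of hM P hP hSyl hfinal (principalBlock M G) hB hBP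
      (triv P) (pTriv_triv P) (isInducedBlock_triv M hM P hP x0 hx0) (Nz P) (isInertia_triv P)
  have hf0 : (Cz P).relIndex (Nz P) ≠ 0 := by
    intro h0
    rw [h0, zero_dvd_iff] at hfd
    have := hpp.one_lt
    omega
  have hvalX : ∀ η ∈ X, ∀ g : G, p ∣ orderOf g → (η : G → ℂ) g = (v η : ℂ) :=
    fun η hη => valX_singular P hP hSyl η (v η) (hvX η hη)
  have hYne : Y.Nonempty := by
    have h1 : 0 < Nat.card Y := by
      rw [hcY]
      apply Nat.div_pos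
      · exact Nat.le_of_dvd (Nat.sub_pos_of_lt hpp.one_lt) hfd
      · exact Nat.pos_of_ne_zero hf0
    have : Nonempty Y := (Nat.card_pos_iff.mp h1).1
    exact Set.nonempty_coe_sort.mp this
  have hsumY := sumY_singular hM X Y v ε hXY hdisj hsε hYne hvalX hYreg hrel
  refine ⟨X, Y, v, ε,
    { dvd := hfd
      disj := hdisj
      cardX := hcX
      cardY := hcY
      sgnX := hsX
      sgn := hsε
      trivX := triv_mem_X hM P hP hSyl hf X Y hXY hfd hcY hYreg hgal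
      valX := hvalX
      sumY := hsumY
      psumY := psumY_eq P hP Y ε hfd hcY hsumY hgal
      degY := degY_rel (p := p) X Y v ε hrel }, hXY, ?_, ?_, hYreg, hrel⟩
  · intro η hη
    have h1 := hdX η hη
    rw [charDegree_triv, Nat.div_self (Nat.pos_of_ne_zero hf0)] at h1
    simpa using h1
  · intro ξ hξ
    have h1 := hdY ξ hξ
    rw [charDegree_triv, mul_one] at h1
    exact h1

end Cfsg.Agent.Lib.Helper6.BRHB0X
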