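/-
helper6: the number of 3-elements of the Ree group `²G₂(q)`, `q = 3^(2m+1)`, is `q^6`
(work package WP-F for helper13's Ree cluster).

Generic part: if the Sylow `p`-subgroups of a finite group are pairwise disjoint (TI) of order `p^a`,
then the number of solutions of `g^(p^a) = 1` is `1 + n_p (p^a - 1)`.
-/
import Cfsg.Agent.Lib.Helper27.ReeCentD

set_option autoImplicit false

namespace Cfsg.Agent.Lib.Helper6.ReeThree

open Cfsg Cfsg.Lie Matrix Cfsg.Agent.Lib.Helper7 Cfsg.Agent.Lib.Helper27.ReeCent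

section General

variable {G : Type*} [Group G] [Finite G] {p : ℕ} [Fact p.Prime]

/-- an element killed by a power of `p` lies in a Sylow `p`-subgroup -/
theorem exists_sylow_mem_of_pow_eq_one (a : ℕ) (g : G) (hg : g ^ (p ^ a) = 1) :
    ∃ P : Sylow p G, g ∈ P := by
  obtain ⟨j, -, hj⟩ := (Nat.dvd_prime_pow (Fact.out : p.Prime)).mp (orderOf_dvd_of_pow_eq_one hg)
  have hz : IsPGroup p ↥(Subgroup.zpowers g) :=
    IsPGroup.of_card (n := j) (by rw [Nat.card_zpowers, hj])
  obtain ⟨S, hS⟩ := hz.exists_le_sylow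
  exact ⟨S, hS (Subgroup.mem_zpowers g)⟩

/-- counting the `p`-elements when the Sylow `p`-subgroups intersect trivially -/
theorem card_pow_eq_one_of_TI (a : ℕ) (hP : ∀ P : Sylow p G, Nat.card ↥(P : Subgroup G) = p ^ a)
    (hTI : ∀ P Q : Sylow p G, P ≠ Q → (P : Subgroup G) ⊓ (Q : Subgroup G) = ⊥) :
    Nat.card {g : G // g ^ (p ^ a) = 1} = 1 + Nat.card (Sylow p G) * (p ^ a - 1) := by
  classical
  haveI : Fintype G := Fintype.ofFinite G
  haveI : Fintype (Sylow p G) := Fintype.ofFinite _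
  rw [Nat.card_eq_fintype_card, Fintype.card_subtype, Nat.card_eq_fintype_card]
  have key : (Finset.univ.filter (fun g : G => g ^ (p ^ a) = 1)) =
      insert (1 : G) ((Finset.univ : Finset (Sylow p G)).biUnion
        (fun P => ((Finset.univ.filter (fun g : G => g ∈ (P : Subgroup G))).erase 1))) := by
    ext g
    simp only [Finset.mem_filter, Finset.mem_univ, true_and, Finset.mem_insert, Finset.mem_biUnion,
      Finset.mem_erase]
    constructor
    · intro hg
      by_cases h1 : g = 1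
      · exact Or.inl h1
      · obtain ⟨P, hgP⟩ := exists_sylow_mem_of_pow_eq_one a g hg
        exact Or.inr ⟨P, h1, hgP⟩
    · rintro (rfl | ⟨P, -, hgP⟩)
      · exact one_pow _
      · have := pow_card_eq_one' (G := ↥(P : Subgroup G)) (x := ⟨g, hgP⟩)
        rw [hP P] at this
        exact congrArg Subtype.val this
  rw [key, Finset.card_insert_of_notMem, Finset.card_biUnion, add_comm]
  · congr 1
    rw [Finset.sum_const_nat (m := p ^ a - 1), Finset.card_univ]
    intro P _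
    rw [Finset.card_erase_of_mem, ← Fintype.card_subtype, ← Nat.card_eq_fintype_card]
    · exact congrArg (· - 1) (hP P)
    · simp only [Finset.mem_filter, Finset.mem_univ, true_and]
      exact Subgroup.one_mem _
  · intro P _ Q _ hPQ
    rw [Function.onFun, Finset.disjoint_left]
    intro g hgP hgQ
    simp only [Finset.mem_erase, Finset.mem_filter, Finset.mem_univ, true_and] at hgP hgQ
    have : g ∈ (P : Subgroup G) ⊓ (Q : Subgroup G) := Subgroup.mem_inf.mpr ⟨hgP.2, hgQ.2⟩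
    rw [hTI P Q hPQ, Subgroup.mem_bot] at this
    exact hgP.1 this
  · simp only [Finset.mem_biUnion, Finset.mem_erase, not_exists, not_and]
    intro P _ h
    exact absurd rfl h

end General

section Ree

variable {K : Type*} [Field K] [Fintype K] {m : ℕ} (hK : Fintype.card K = 3 ^ (2 * m + 1))
include hK

/-- the normalizer of `U¹` is contained in `B¹` -/
theorem normalizer_reeUnip_le :
    Subgroup.normalizer ((reeUnip K m : Subgroup ↥(twistedG2 K (3 ^ m))) : Set ↥(twistedG2 K (3 ^ m))) ≤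
      reeBorel K m := by
  obtain ⟨τ, hτ⟩ := exists_tauData hK
  have hsq := sq_dichotomy_of_card hK
  have htw := twistedG2_eq_fixTau hτ hsq
  intro g hg
  by_contra hgB
  rw [mem_reeBorel] at hgB
  have hne : reeUnip K m ≠ ⊥ := by
    rw [← Subgroup.one_lt_card_iff_ne_bot, card_reeUnip hK]
    exact Nat.one_lt_pow (by norm_num) (Nat.one_lt_pow (by omega) (by norm_num))
  obtain ⟨⟨y, hyU⟩, hy1⟩ := Subgroup.ne_bot_iff_exists_ne_one.mp hne
  rw [Subgroup.mem_set_normalizer_iff''] at hg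
  have hy' := (hg y).mp hyU
  rw [SetLike.mem_coe, mem_reeUnip] at hy'
  have hyU' := (mem_reeUnip y).mp hyU
  have := TI_aux hτ (g : GL chevG2.Idx K) (htw ▸ g.2) hgB (y : GL chevG2.Idx K) hyU'
    (by simpa using hy')
  apply hy1
  exact Subtype.ext (Subtype.ext this)

/-- the normalizer of `U¹` is `B¹` -/
theorem normalizer_reeUnip :
    Subgroup.normalizer ((reeUnip K m : Subgroup ↥(twistedG2 K (3 ^ m))) : Set ↥(twistedG2 K (3 ^ m))) =
      reeBorel K m := by
  refine le_antisymm (normalizer_reeUnip_le hK) ?_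
  intro g hg
  rw [mem_reeBorel] at hg
  have hn := borel_le_normalizer_posUnipotent hg
  rw [Subgroup.mem_set_normalizer_iff] at hn ⊢
  intro z
  rw [SetLike.mem_coe, SetLike.mem_coe, mem_reeUnip, mem_reeUnip]
  exact hn z.1

theorem card_reeUnip_eq_sylow :
    Nat.card ↥(reeUnip K m) = 3 ^ (Nat.card ↥(twistedG2 K (3 ^ m))).factorization 3 := by
  obtain ⟨q, hq⟩ : ∃ q, q = 3 ^ (2 * m + 1) := ⟨_, rfl⟩
  have hq3 : q % 3 = 0 := by
    rw [hq, pow_succ]
    exact Nat.mul_mod_left _ _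
  have hqpos : 0 < q := by rw [hq]; positivity
  have hr : ¬ 3 ∣ (q - 1) * (q ^ 3 + 1) := by
    rw [Nat.dvd_iff_mod_eq_zero, Nat.mul_mod]
    have h1 : (q - 1) % 3 = 2 := by omega
    have h2 : (q ^ 3 + 1) % 3 = 1 := by
      rw [Nat.add_mod, Nat.pow_mod, hq3]
    rw [h1, h2]
    norm_num
  have hcardG : Nat.card ↥(twistedG2 K (3 ^ m)) = 3 ^ (3 * (2 * m + 1)) * ((q - 1) * (q ^ 3 + 1)) := by
    rw [Cfsg.Agent.S1069.result hK, ← hq]
    have : 3 ^ (3 * (2 * m + 1)) = q ^ 3 := by rw [hq, ← pow_mul, mul_comm]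
    rw [this]
    ring
  rw [hcardG, factorization_three _ _ hr, card_reeUnip hK, ← pow_mul, mul_comm]

/-- the number of Sylow 3-subgroups of the Ree group is `q^3 + 1` -/
theorem card_sylow_three :
    Nat.card (Sylow 3 ↥(twistedG2 K (3 ^ m))) = (3 ^ (2 * m + 1)) ^ 3 + 1 := by
  haveI : Fact (Nat.Prime 3) := ⟨Nat.prime_three⟩
  have h1 : Nat.card (Sylow 3 ↥(twistedG2 K (3 ^ m))) = (Subgroup.normalizer
      ((reeUnip K m : Subgroup ↥(twistedG2 K (3 ^ m))) : Set ↥(twistedG2 K (3 ^ m)))).index :=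
    Sylow.card_eq_index_normalizer (Sylow.ofCard (reeUnip K m) (card_reeUnip_eq_sylow hK))
  rw [normalizer_reeUnip hK] at h1
  have h2 := Subgroup.card_mul_index (reeBorel K m)
  rw [card_reeBorel hK, Cfsg.Agent.S1069.result hK, ← h1] at h2
  have hpos : 0 < (3 ^ (2 * m + 1) - 1) * (3 ^ (2 * m + 1)) ^ 3 := by
    apply Nat.mul_pos
    · have : 3 ^ 1 ≤ 3 ^ (2 * m + 1) := Nat.pow_le_pow_right (by norm_num) (by omega)
      omega
    · positivity
  apply Nat.eq_of_mul_eq_mul_left hpos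
  rw [h2]
  ring

/-- **WP-F**: the number of 3-elements of `²G₂(q)` is `q^6` -/
theorem card_three_elements :
    Nat.card {g : ↥(twistedG2 K (3 ^ m)) // g ^ ((3 ^ (2 * m + 1)) ^ 3) = 1} = (3 ^ (2 * m + 1)) ^ 6 := by
  haveI : Fact (Nat.Prime 3) := ⟨Nat.prime_three⟩
  have hpow : (3 ^ (2 * m + 1)) ^ 3 = 3 ^ ((2 * m + 1) * 3) := by rw [← pow_mul]
  have hP : ∀ P : Sylow 3 ↥(twistedG2 K (3 ^ m)),
      Nat.card ↥(P : Subgroup ↥(twistedG2 K (3 ^ m))) = 3 ^ ((2 * m + 1) * 3) := by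
    intro P
    rw [Sylow.card_eq_multiplicity, ← card_reeUnip_eq_sylow hK, card_reeUnip hK, hpow]
  have h := card_pow_eq_one_of_TI (G := ↥(twistedG2 K (3 ^ m))) (p := 3) ((2 * m + 1) * 3) hP
    (ree_sylow3_TI hK)
  rw [← hpow] at h
  rw [h, card_sylow_three hK]
  have h1 : 1 ≤ (3 ^ (2 * m + 1)) ^ 3 := Nat.one_le_pow _ _ (by positivity)
  obtain ⟨t, ht⟩ : ∃ t, (3 ^ (2 * m + 1)) ^ 3 = t + 1 := ⟨(3 ^ (2 * m + 1)) ^ 3 - 1, by omega⟩
  have h6 : (3 ^ (2 * m + 1)) ^ 6 = ((3 ^ (2 * m + 1)) ^ 3) ^ 2 := by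
    rw [← pow_mul (3 ^ (2 * m + 1)) 3 2]
  rw [h6, ht, Nat.add_sub_cancel]
  ring

end Ree

end Cfsg.Agent.Lib.Helper6.ReeThree
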