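/-
helper6: the 3-elements of the Ree group `²G₂(q)`, `q = 3^(2m+1)`, have order dividing `9`, and there
are elements of order `9` (work package WP-K for helper13's Ree cluster).
-/
import Cfsg.Agent.Lib.Helper6.ReeThreeElts
import Cfsg.Agent.Lib.Helper7.G2Tw20

set_option autoImplicit false

namespace Cfsg.Agent.Lib.Helper6.ReeThree

open Cfsg Cfsg.Lie Matrix Cfsg.Agent.Lib.Helper7 Cfsg.Agent.Lib.Helper27.ReeCent

section
variable {F : Type*} [Field F]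
variable {τ : ↥(chevG2.group F) ≃* ↥(chevG2.group F)} {θ : ℕ} (hτ : TauData F τ θ)
include hτ

/-- the cube of an element of `U¹`, in the coordinates of `U¹` -/
theorem reeU_cube' (t u v : F) : reeU θ t u v ^ 3 = reeU θ 0 0 (-(t ^ 2 * (t ^ θ) ^ 3)) := by
  rw [pow_succ, pow_two, reeU_mul hτ, reeU_mul hτ]
  have h3 := hτ.three
  congr 1
  · linear_combination t * h3
  · linear_combination (u - (t ^ θ) ^ 3 * t) * h3
  · linear_combination (v - t * u) * h3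

theorem reeU_pow_nine (t u v : F) : reeU θ t u v ^ 9 = 1 := by
  have hθ : θ ≠ 0 := (theta_pos hτ).ne'
  have : reeU θ t u v ^ 9 = (reeU θ t u v ^ 3) ^ 3 := by rw [← pow_mul]
  rw [this, reeU_cube' hτ, reeU_cube' hτ, ← reeU_000 hτ]
  congr 1
  simp

theorem reeU_one_cube_ne [Nontrivial F] : reeU θ (1 : F) 0 0 ^ 3 ≠ 1 := by
  intro h
  have := (reeU_cube_eq_one_iff hτ (1 : F) 0 0).mp h
  exact one_ne_zero this

end

section Ree

variable {K : Type*} [Field K] [Fintype K] {m : ℕ} (hK : Fintype.card K = 3 ^ (2 * m + 1))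
include hK

/-- the elements of `U¹` have order dividing `9` -/
theorem pow_nine_of_mem_reeUnip (y : ↥(twistedG2 K (3 ^ m))) (hy : y ∈ reeUnip K m) : y ^ 9 = 1 := by
  obtain ⟨τ, hτ⟩ := exists_tauData hK
  have hsq := sq_dichotomy_of_card hK
  have htw := twistedG2_eq_fixTau hτ hsq
  rw [mem_reeUnip] at hy
  have hmem : (y : GL chevG2.Idx K) ∈ chevG2.posUnipotent K ⊓ fixTau K τ :=
    Subgroup.mem_inf.mpr ⟨hy, htw ▸ y.2⟩
  obtain ⟨t, u, v, e⟩ := (posUnipotent_inf_fixTau hτ _).mp hmem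
  apply Subtype.ext
  rw [Subgroup.coe_pow, e, reeU_pow_nine hτ]
  rfl

/-- every 3-element is conjugate into `U¹` -/
theorem exists_conj_mem_reeUnip (g : ↥(twistedG2 K (3 ^ m))) (a : ℕ) (hg : g ^ (3 ^ a) = 1) :
    ∃ c : ↥(twistedG2 K (3 ^ m)), c * g * c⁻¹ ∈ reeUnip K m := by
  haveI : Fact (Nat.Prime 3) := ⟨Nat.prime_three⟩
  obtain ⟨P, hgP⟩ := exists_sylow_mem_of_pow_eq_one (p := 3) a g hg
  obtain ⟨c, hc⟩ := MulAction.exists_smul_eq ↥(twistedG2 K (3 ^ m)) P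
    (Sylow.ofCard (reeUnip K m) (card_reeUnip_eq_sylow hK))
  refine ⟨c, ?_⟩
  have h1 : c * g * c⁻¹ ∈ ((c • P : Sylow 3 ↥(twistedG2 K (3 ^ m))) : Subgroup ↥(twistedG2 K (3 ^ m))) := by
    rw [sylow_mem_smul]
    have : c⁻¹ * (c * g * c⁻¹) * c = g := by group
    rw [this]
    exact hgP
  rw [hc] at h1
  exact h1

/-- **WP-K (1)**: the 3-elements of `²G₂(q)` have order dividing `9` -/
theorem ree_three_element_pow_nine (g : ↥(twistedG2 K (3 ^ m)))
    (hg : g ^ ((3 ^ (2 * m + 1)) ^ 3) = 1) : g ^ 9 = 1 := by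
  have hpow : (3 ^ (2 * m + 1)) ^ 3 = 3 ^ ((2 * m + 1) * 3) := by rw [← pow_mul]
  rw [hpow] at hg
  obtain ⟨c, hc⟩ := exists_conj_mem_reeUnip hK g _ hg
  have h9 := pow_nine_of_mem_reeUnip hK _ hc
  rw [conj_pow] at h9
  have := congrArg (fun z => c⁻¹ * z * c) h9
  simpa [mul_assoc] using this

/-- **WP-K (2)**: `²G₂(q)` has elements of order `9` -/
theorem ree_exists_order_nine : ∃ g : ↥(twistedG2 K (3 ^ m)), orderOf g = 9 := by
  obtain ⟨τ, hτ⟩ := exists_tauData hK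
  have hsq := sq_dichotomy_of_card hK
  have htw := twistedG2_eq_fixTau hτ hsq
  haveI : Fact (Nat.Prime 3) := ⟨Nat.prime_three⟩
  refine ⟨⟨reeU (3 ^ m) (1 : K) 0 0, reeU_mem_twistedG2 (3 ^ m) _ _ _⟩, ?_⟩
  have h := orderOf_eq_prime_pow (p := 3) (n := 1)
    (x := (⟨reeU (3 ^ m) (1 : K) 0 0, reeU_mem_twistedG2 (3 ^ m) _ _ _⟩ : ↥(twistedG2 K (3 ^ m)))) ?_ ?_
  · simpa using h
  · intro h1
    have h2 := congrArg Subtype.val h1
    rw [Subgroup.coe_pow] at h2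
    exact reeU_one_cube_ne hτ (by simpa using h2)
  · apply Subtype.ext
    rw [Subgroup.coe_pow]
    show reeU (3 ^ m) (1 : K) 0 0 ^ (3 ^ (1 + 1)) = 1
    exact reeU_pow_nine hτ _ _ _

end Ree

end Cfsg.Agent.Lib.Helper6.ReeThree
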