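/-
helper6: the arithmetic lemma (task L2) for helper13's Ree cluster: a family of divisors `t i ≥ 5` of
`q^2 - q + 1` with multiplicities `6 / n i` satisfying the counting identity consists of exactly the two
tori `q + r + 1`, `q - r + 1` (`r^2 = 3 q`), both with `n = 6`.
-/
import Mathlib

set_option autoImplicit false

namespace Cfsg.Agent.Lib.Helper6.ReeArith

/-- `6 / n = 1` forces `n = 6` for a divisor `n` of `6` -/
theorem eq_six_of_div (n : ℕ) (hn : n ∣ 6) (h : 6 / n = 1) : n = 6 := by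
  have h6 : n ≤ 6 := Nat.le_of_dvd (by norm_num) hn
  interval_cases n <;> simp_all

theorem one_le_six_div (n : ℕ) (hn : n ∣ 6) : 1 ≤ 6 / n := by
  have h6 : n ≤ 6 := Nat.le_of_dvd (by norm_num) hn
  have hpos : 0 < n := Nat.pos_of_dvd_of_pos hn (by norm_num)
  exact Nat.div_pos h6 hpos

/-- the two-element case, in symmetric form -/
theorem two_case (x y q r a b : ℕ) (hq : 27 ≤ q) (hr : r * r = 3 * q) (hx : 5 ≤ x) (hy : 5 ≤ y)
    (ha : 1 ≤ a) (hb : 1 ≤ b) (hxy : x * y = q ^ 2 - q + 1)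
    (hsum : a * y * (x - 1) + b * x * (y - 1) = 2 * (q ^ 2 - q + 1 - q - 1)) :
    a = 1 ∧ b = 1 ∧ ((x = q + r + 1 ∧ y = q - r + 1) ∨ (x = q - r + 1 ∧ y = q + r + 1)) := by
  have hqq : q ≤ q ^ 2 := by nlinarith
  have hrq : r ≤ q := by
    by_contra h
    rw [not_le] at h
    nlinarith
  obtain ⟨x', rfl⟩ : ∃ x', x = x' + 1 := ⟨x - 1, by omega⟩
  obtain ⟨y', rfl⟩ : ∃ y', y = y' + 1 := ⟨y - 1, by omega⟩
  obtain ⟨d, hd⟩ : ∃ d, q = r + d := ⟨q - r, by omega⟩
  simp only [Nat.add_sub_cancel] at hsum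
  -- move to the integers
  have hN : ((x' : ℤ) + 1) * (y' + 1) = (q : ℤ) ^ 2 - q + 1 := by
    have := congrArg (fun z : ℕ => (z : ℤ)) hxy
    push_cast [Nat.cast_sub hqq] at this
    linarith
  have hN27 : (q : ℤ) ^ 2 - q + 1 ≥ 27 * 26 + 1 := by
    have : (27 : ℤ) ≤ q := by exact_mod_cast hq
    nlinarith
  have hle : q + 1 ≤ q ^ 2 - q + 1 := by
    have : 2 * q ≤ q ^ 2 := by nlinarith
    omega
  have hS : (a : ℤ) * (y' + 1) * x' + b * (x' + 1) * y' = 2 * ((q : ℤ) ^ 2 - q + 1 - q - 1) := by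
    have h2q : 2 * q ≤ q ^ 2 := by nlinarith
    have e : q ^ 2 - q + 1 - q - 1 = q ^ 2 - 2 * q := by omega
    rw [e] at hsum
    have := congrArg (fun z : ℕ => (z : ℤ)) hsum
    push_cast [Nat.cast_sub h2q] at this
    linarith
  have hx' : (4 : ℤ) ≤ x' := by
    have : 4 ≤ x' := by omega
    exact_mod_cast this
  have hy' : (4 : ℤ) ≤ y' := by
    have : 4 ≤ y' := by omega
    exact_mod_cast this
  have ha' : (1 : ℤ) ≤ a := by exact_mod_cast ha
  have hb' : (1 : ℤ) ≤ b := by exact_mod_cast hb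
  have hq' : (27 : ℤ) ≤ q := by exact_mod_cast hq
  have hr' : (r : ℤ) * r = 3 * q := by exact_mod_cast hr
  -- `5 (x + y) ≤ N + 25`
  have h5 : 5 * (((x' : ℤ) + 1) + (y' + 1)) ≤ (q : ℤ) ^ 2 - q + 1 + 25 := by nlinarith
  have hyx : (0 : ℤ) ≤ (y' + 1) * x' := by positivity
  have hxy' : (0 : ℤ) ≤ (x' + 1) * y' := by positivity
  have ha1 : a = 1 := by
    by_contra hne
    have ha2 : (2 : ℤ) ≤ a := by
      have : 2 ≤ a := by omega
      exact_mod_cast this
    have h1 : 2 * (((y' : ℤ) + 1) * x') ≤ (a : ℤ) * (y' + 1) * x' := by nlinarith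
    have h2 : ((x' : ℤ) + 1) * y' ≤ (b : ℤ) * (x' + 1) * y' := by nlinarith
    nlinarith
  have hb1 : b = 1 := by
    by_contra hne
    have hb2 : (2 : ℤ) ≤ b := by
      have : 2 ≤ b := by omega
      exact_mod_cast this
    have h1 : ((y' : ℤ) + 1) * x' ≤ (a : ℤ) * (y' + 1) * x' := by nlinarith
    have h2 : 2 * (((x' : ℤ) + 1) * y') ≤ (b : ℤ) * (x' + 1) * y' := by nlinarith
    nlinarith
  refine ⟨ha1, hb1, ?_⟩
  subst ha1 hb1
  have hsum2 : ((x' : ℤ) + 1) + (y' + 1) = 2 * q + 2 := by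
    push_cast at hS
    nlinarith
  have hprodz : (((x' : ℤ) + 1) - (y' + 1) - 2 * r) * (((x' : ℤ) + 1) - (y' + 1) + 2 * r) = 0 := by
    nlinarith
  have hdz : (q : ℤ) = r + d := by exact_mod_cast hd
  rcases mul_eq_zero.mp hprodz with h | h
  · left
    have e1 : (x' : ℤ) + 1 = q + r + 1 := by linarith
    have e2 : (y' : ℤ) + 1 = d + 1 := by linarith
    have e1' : x' + 1 = q + r + 1 := by exact_mod_cast e1
    have e2' : y' + 1 = d + 1 := by exact_mod_cast e2
    refine ⟨e1', ?_⟩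
    rw [e2']
    omega
  · right
    have e1 : (y' : ℤ) + 1 = q + r + 1 := by linarith
    have e2 : (x' : ℤ) + 1 = d + 1 := by linarith
    have e1' : y' + 1 = q + r + 1 := by exact_mod_cast e1
    have e2' : x' + 1 = d + 1 := by exact_mod_cast e2
    refine ⟨?_, e1'⟩
    rw [e2']
    omega

/-- **Task L2** (helper13's `ToriArith`) -/
theorem ree_tori_arith (S : Finset ℕ) (t n : ℕ → ℕ) (q r : ℕ) (hq : 27 ≤ q) (hr : r * r = 3 * q)
    (ht : ∀ i ∈ S, 5 ≤ t i) (hn : ∀ i ∈ S, n i ∣ 6) (hprod : ∏ i ∈ S, t i = q ^ 2 - q + 1)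
    (hsum : ∑ i ∈ S, (6 / n i) * ((q ^ 2 - q + 1) / t i) * (t i - 1) = 2 * (q ^ 2 - q + 1 - q - 1)) :
    ∃ i j, i ≠ j ∧ S = {i, j} ∧ n i = 6 ∧ n j = 6 ∧ t i = q + r + 1 ∧ t j = q - r + 1 := by
  obtain ⟨N, hN⟩ : ∃ N, N = q ^ 2 - q + 1 := ⟨_, rfl⟩
  rw [← hN] at hprod hsum
  have hqq : 27 * q ≤ q ^ 2 := by nlinarith
  have hNbig : 26 * q + 1 ≤ N := by omega
  -- lower bound for each term
  have hterm : ∀ i ∈ S, N - N / 5 ≤ (6 / n i) * (N / t i) * (t i - 1) := by
    intro i hi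
    have hdvd : t i ∣ N := hprod ▸ Finset.dvd_prod_of_mem t hi
    obtain ⟨k, hk⟩ := hdvd
    have hti := ht i hi
    have hk' : N / t i = k := by
      rw [hk]
      exact Nat.mul_div_cancel_left k (by omega)
    rw [hk']
    have ha := one_le_six_div (n i) (hn i hi)
    have hk5 : k ≤ N / 5 := by
      rw [← hk']
      exact Nat.div_le_div_left hti (by norm_num)
    have h1 : k * (t i - 1) ≤ (6 / n i) * k * (t i - 1) := by
      have : k ≤ (6 / n i) * k := Nat.le_mul_of_pos_left k ha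
      exact Nat.mul_le_mul_right _ this
    have h2 : k * (t i - 1) = N - k := by
      obtain ⟨s, hs⟩ : ∃ s, t i = s + 1 := ⟨t i - 1, by omega⟩
      rw [hs, Nat.add_sub_cancel, hk, hs]
      have : (s + 1) * k = k * s + k := by ring
      rw [this, Nat.add_sub_cancel]
    omega
  -- at most two terms
  have hcard : S.card ≤ 2 := by
    by_contra h
    rw [not_le] at h
    have h1 := Finset.card_nsmul_le_sum S _ (N - N / 5) hterm
    rw [hsum, smul_eq_mul] at h1
    have h2 : 3 * (N - N / 5) ≤ S.card * (N - N / 5) := Nat.mul_le_mul_right _ h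
    omega
  have hc : S.card = 0 ∨ S.card = 1 ∨ S.card = 2 := by omega
  rcases hc with hc | hc | hc
  · exfalso
    rw [Finset.card_eq_zero] at hc
    rw [hc, Finset.prod_empty] at hprod
    omega
  · exfalso
    obtain ⟨i, hi⟩ := Finset.card_eq_one.mp hc
    rw [hi, Finset.prod_singleton] at hprod
    rw [hi, Finset.sum_singleton, hprod, Nat.div_self (by omega)] at hsum
    have ha := one_le_six_div (n i) (hn i (by rw [hi]; exact Finset.mem_singleton_self i))
    rcases Nat.eq_or_lt_of_le ha with ha1 | ha2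
    · rw [← ha1] at hsum
      have : N = 2 * q + 1 := by omega
      have : q ^ 2 = 3 * q := by omega
      nlinarith
    · have : 2 * (1 * (N - 1)) ≤ (6 / n i) * 1 * (N - 1) := by
        have : 2 * 1 ≤ (6 / n i) * 1 := by omega
        calc 2 * (1 * (N - 1)) = (2 * 1) * (N - 1) := by ring
          _ ≤ (6 / n i) * 1 * (N - 1) := Nat.mul_le_mul_right _ this
      omega
  · obtain ⟨i, j, hij, hS⟩ := Finset.card_eq_two.mp hc
    have hi : i ∈ S := by rw [hS]; simp
    have hj : j ∈ S := by rw [hS]; simp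
    rw [hS, Finset.prod_pair hij] at hprod
    rw [hS, Finset.sum_pair hij] at hsum
    have hti := ht i hi
    have htj := ht j hj
    have e1 : N / t i = t j := by
      rw [← hprod]
      exact Nat.mul_div_cancel_left _ (by omega)
    have e2 : N / t j = t i := by
      rw [← hprod]
      exact Nat.mul_div_cancel _ (by omega)
    rw [e1, e2, hN] at hsum
    rw [hN] at hprod
    obtain ⟨ha, hb, hcase⟩ := two_case (t i) (t j) q r (6 / n i) (6 / n j) hq hr hti htj
      (one_le_six_div _ (hn i hi)) (one_le_six_div _ (hn j hj)) hprod hsum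
    have hni := eq_six_of_div _ (hn i hi) ha
    have hnj := eq_six_of_div _ (hn j hj) hb
    rcases hcase with ⟨h1, h2⟩ | ⟨h1, h2⟩
    · exact ⟨i, j, hij, hS, hni, hnj, h1, h2⟩
    · exact ⟨j, i, hij.symm, by rw [hS, Finset.pair_comm], hnj, hni, h2, h1⟩

end Cfsg.Agent.Lib.Helper6.ReeArith
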