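/-
helper6: a coordinate-free API for subgroups of `Cfsg.SU n F q` generated by unitary transvections
(the unitary sibling of `Helper6.SpGen`), on top of helper5's `SUGen` (`av`, `exists_tv`,
`closure_transvections_eq_top`).  `h := Cfsg.hermForm n F q`, `bar := frobQ hF` (`c ↦ c ^ q`).

* `Tu hF v c` : the transvection `x ↦ x + c h(x,v) v` (`v` isotropic, `bar c = -c`; `1` otherwise)
* `av_Tu`, `Tu_mul`, `Tu_inv`, `Tu_zero`, `conj_Tu`, `Tu_smul`, `Tu_commute_of_perp`, `coe_Tu`
* `Rt hF M` : isotropic vectors whose whole transvection group lies in `M`; `Rt_ap`, `Rt_smul`, `Rt_zero`,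
  `Rt_line` (all isotropic vectors of a hyperbolic line), `eq_top_of_Rt_all`
* `Apar hF M v` : the additive group of skew parameters `c` with `Tu hF v c ∈ M`; `Apar_ap`, `Apar_smul`.
-/
import Mathlib
import Cfsg.Agent.Lib.Helper5.SUGen

set_option autoImplicit false
set_option linter.unusedSectionVars false
set_option linter.unusedVariables false
set_option linter.unusedSimpArgs false

namespace Cfsg.Agent.Lib.Helper6.SUApi

open Cfsg Matrix Cfsg.Agent.Lib.Helper14 Cfsg.Agent.Lib.Helper5.SpMax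
  Cfsg.Agent.Lib.Helper5.UForm Cfsg.Agent.Lib.Helper5.UEichler Cfsg.Agent.Lib.Helper5.HermBridge
  Cfsg.Agent.Lib.Helper5.SUGen

variable {F : Type*} [Field F] [Fintype F] {q n : ℕ} (hF : Fintype.card F = q ^ 2)

open Classical in
/-- the unitary transvection `T_v(c)` as an element of `SU`; `1` unless `v` is isotropic and `c` is skew -/
noncomputable def Tu (v : Fin n → F) (c : F) : ↥(Cfsg.SU n F q) :=
  if h : Cfsg.hermForm n F q v v = 0 ∧ frobQ hF c = -c then Classical.choose (exists_tv hF h.1 h.2)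
  else 1

theorem coe_Tu {v : Fin n → F} (hv : Cfsg.hermForm n F q v v = 0) {c : F} (hc : frobQ hF c = -c) :
    ((Tu hF v c : Matrix.SpecialLinearGroup (Fin n) F) : Matrix (Fin n) (Fin n) F) =
      Cfsg.unitaryTransvection n q v c := by
  unfold Tu
  rw [dif_pos ⟨hv, hc⟩]
  exact Classical.choose_spec (exists_tv hF hv hc)

theorem Tu_of_not {v : Fin n → F} {c : F}
    (h : ¬ (Cfsg.hermForm n F q v v = 0 ∧ frobQ hF c = -c)) : Tu hF v c = 1 := by
  unfold Tu
  rw [dif_neg h]

theorem av_Tu {v : Fin n → F} (hv : Cfsg.hermForm n F q v v = 0) {c : F} (hc : frobQ hF c = -c)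
    (x : Fin n → F) : av (Tu hF v c) x = x + (c * Cfsg.hermForm n F q x v) • v := by
  unfold av
  rw [coe_Tu hF hv hc, ut_mulVec]

/-- the defining formula holds for all `v`, `c` for which `Tu` is not trivially `1`; a uniform version -/
theorem av_Tu' (v : Fin n → F) (c : F) (x : Fin n → F) :
    av (Tu hF v c) x = x ∨ av (Tu hF v c) x = x + (c * Cfsg.hermForm n F q x v) • v := by
  by_cases h : Cfsg.hermForm n F q v v = 0 ∧ frobQ hF c = -c
  · right; exact av_Tu hF h.1 h.2 x
  · left; rw [Tu_of_not hF h, av_one]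

theorem Tu_zero (v : Fin n → F) : Tu hF v (0 : F) = 1 := by
  by_cases hv : Cfsg.hermForm n F q v v = 0
  · apply av_ext
    intro x
    rw [av_Tu hF hv (by simp), av_one, zero_mul, zero_smul, add_zero]
  · exact Tu_of_not hF (fun h => hv h.1)

theorem Tu_zero_vec (c : F) : Tu hF (0 : Fin n → F) c = 1 := by
  have hf := herm_unitary (n := n) hF
  by_cases hc : frobQ hF c = -c
  · apply av_ext
    intro x
    rw [av_Tu hF (u_zero_left hf _) hc, av_one, smul_zero, add_zero]
  · exact Tu_of_not hF (fun h => hc h.2)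

theorem Tu_mul {v : Fin n → F} (hv : Cfsg.hermForm n F q v v = 0) {c d : F}
    (hc : frobQ hF c = -c) (hd : frobQ hF d = -d) :
    Tu hF v c * Tu hF v d = Tu hF v (c + d) := by
  have hf := herm_unitary (n := n) hF
  have hcd : frobQ hF (c + d) = -(c + d) := by rw [map_add, hc, hd]; ring
  apply av_ext
  intro x
  rw [av_mul, av_Tu hF hv hd, av_Tu hF hv hc, av_Tu hF hv hcd, hf.add_left, hf.smul_left, hv]
  module

theorem Tu_inv {v : Fin n → F} (hv : Cfsg.hermForm n F q v v = 0) {c : F}
    (hc : frobQ hF c = -c) : (Tu hF v c)⁻¹ = Tu hF v (-c) := by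
  have hc' : frobQ hF (-c) = -(-c) := by rw [map_neg, hc]
  rw [inv_eq_iff_mul_eq_one, Tu_mul hF hv hc hc', add_neg_cancel, Tu_zero]

/-- conjugation moves the centre (no hypothesis needed) -/
theorem conj_Tu (g : ↥(Cfsg.SU n F q)) (v : Fin n → F) (c : F) :
    g * Tu hF v c * g⁻¹ = Tu hF (av g v) c := by
  have hiso : Cfsg.hermForm n F q (av g v) (av g v) = Cfsg.hermForm n F q v v := av_iso g v v
  by_cases h : Cfsg.hermForm n F q v v = 0 ∧ frobQ hF c = -c
  · have h' : Cfsg.hermForm n F q (av g v) (av g v) = 0 := by rw [hiso]; exact h.1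
    apply av_ext
    intro x
    rw [av_mul, av_mul, av_Tu hF h.1 h.2, av_Tu hF h' h.2, av_add, av_smul, av_av_inv]
    have h3 : Cfsg.hermForm n F q (av g⁻¹ x) v = Cfsg.hermForm n F q x (av g v) := by
      have := av_iso g (av g⁻¹ x) v
      rw [av_av_inv] at this
      exact this.symm
    rw [h3]
  · have h' : ¬ (Cfsg.hermForm n F q (av g v) (av g v) = 0 ∧ frobQ hF c = -c) := by
      rw [hiso]; exact h
    rw [Tu_of_not hF h, Tu_of_not hF h']
    group

/-- scaling the centre by `a` multiplies the parameter by the norm of `a` -/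
theorem Tu_smul (a : F) (v : Fin n → F) {c : F} (hc : frobQ hF c = -c) :
    Tu hF (a • v) c = Tu hF v (a * frobQ hF a * c) := by
  have hf := herm_unitary (n := n) hF
  have hc' : frobQ hF (a * frobQ hF a * c) = -(a * frobQ hF a * c) := by
    rw [map_mul, map_mul, hf.involutive, hc]; ring
  by_cases ha : a = 0
  · rw [ha, zero_smul, Tu_zero_vec, zero_mul, zero_mul, Tu_zero]
  have ha1 : frobQ hF a ≠ 0 := by rwa [Ne, map_eq_zero]
  have hiff : Cfsg.hermForm n F q (a • v) (a • v) = 0 ↔ Cfsg.hermForm n F q v v = 0 := by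
    rw [hf.smul_left, u_smul_right hf]
    constructor
    · intro h
      rcases mul_eq_zero.mp h with h | h
      · exact absurd h ha
      · rcases mul_eq_zero.mp h with h | h
        · exact absurd h ha1
        · exact h
    · intro h
      rw [h, mul_zero, mul_zero]
  by_cases hv : Cfsg.hermForm n F q v v = 0
  · apply av_ext
    intro x
    rw [av_Tu hF (hiff.mpr hv) hc, av_Tu hF hv hc', u_smul_right hf, smul_smul]
    congr 2
    ring
  · rw [Tu_of_not hF (fun h => hv h.1), Tu_of_not hF (fun h => hv (hiff.mp h.1))]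

theorem Tu_commute_of_perp {a b : Fin n → F} (hab : Cfsg.hermForm n F q a b = 0) (c d : F) :
    Commute (Tu hF a c) (Tu hF b d) := by
  have hf := herm_unitary (n := n) hF
  have hba : Cfsg.hermForm n F q b a = 0 := by rw [hf.herm, hab, map_zero]
  have h := conj_Tu hF (Tu hF a c) b d
  have hfix : av (Tu hF a c) b = b := by
    rcases av_Tu' hF a c b with h1 | h1
    · exact h1
    · rw [h1, hba, mul_zero, zero_smul, add_zero]
  rw [hfix] at h
  show Tu hF a c * Tu hF b d = Tu hF b d * Tu hF a c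
  calc Tu hF a c * Tu hF b d = (Tu hF a c * Tu hF b d * (Tu hF a c)⁻¹) * Tu hF a c := by group
    _ = Tu hF b d * Tu hF a c := by rw [h]

/-! ### root vectors of a subgroup -/

/-- the isotropic vectors whose whole transvection group lies in `M` -/
def Rt (M : Subgroup ↥(Cfsg.SU n F q)) : Set (Fin n → F) :=
  {v | Cfsg.hermForm n F q v v = 0 ∧ ∀ c : F, frobQ hF c = -c → Tu hF v c ∈ M}

variable {M : Subgroup ↥(Cfsg.SU n F q)}

theorem Rt_zero : (0 : Fin n → F) ∈ Rt hF M := by
  have hf := herm_unitary (n := n) hF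
  refine ⟨u_zero_left hf _, fun c _ => ?_⟩
  rw [Tu_zero_vec]
  exact M.one_mem

theorem Rt_ap {g : ↥(Cfsg.SU n F q)} (hg : g ∈ M) {v : Fin n → F} (hv : v ∈ Rt hF M) :
    av g v ∈ Rt hF M := by
  refine ⟨by rw [av_iso]; exact hv.1, fun c hc => ?_⟩
  rw [← conj_Tu]
  exact M.mul_mem (M.mul_mem hg (hv.2 c hc)) (M.inv_mem hg)

theorem Rt_smul (a : F) {v : Fin n → F} (hv : v ∈ Rt hF M) : a • v ∈ Rt hF M := by
  have hf := herm_unitary (n := n) hF
  refine ⟨by rw [hf.smul_left, u_smul_right hf, hv.1, mul_zero, mul_zero], fun c hc => ?_⟩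
  rw [Tu_smul hF a v hc]
  apply hv.2
  rw [map_mul, map_mul, hf.involutive, hc]; ring

/-- `Rt` is closed under `v ↦ v + (c h(v,w)) w` for skew `c` (image under a transvection of `M`) -/
theorem Rt_add_smul {v w : Fin n → F} (hv : v ∈ Rt hF M) (hw : w ∈ Rt hF M) {c : F}
    (hc : frobQ hF c = -c) : v + (c * Cfsg.hermForm n F q v w) • w ∈ Rt hF M := by
  rw [← av_Tu hF hw.1 hc]
  exact Rt_ap hF (hw.2 c hc) hv

/-- **hyperbolic lines**: if `v, w ∈ Rt M` are not perpendicular, every isotropic vector of the plane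
`⟨v, w⟩` lies in `Rt M` -/
theorem Rt_line {v w : Fin n → F} (hv : v ∈ Rt hF M) (hw : w ∈ Rt hF M)
    (hne : Cfsg.hermForm n F q v w ≠ 0) (x y : F)
    (hiso : Cfsg.hermForm n F q (x • v + y • w) (x • v + y • w) = 0) :
    x • v + y • w ∈ Rt hF M := by
  have hf := herm_unitary (n := n) hF
  by_cases hx : x = 0
  · rw [hx, zero_smul, zero_add]
    exact Rt_smul hF y hw
  -- `x ≠ 0`: the vector is `x • (v + (y/x) • w)` and `y/x = c h(v,w)` with `c` skew
  set η := Cfsg.hermForm n F q v w with hη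
  have hwv : Cfsg.hermForm n F q w v = frobQ hF η := by rw [hη, ← hf.herm]
  -- the isotropy condition
  have hcond : x * frobQ hF y * η + y * frobQ hF x * frobQ hF η = 0 := by
    have := hiso
    rw [hf.add_left, u_add_right hf, u_add_right hf, hf.smul_left, hf.smul_left, hf.smul_left,
      hf.smul_left, u_smul_right hf, u_smul_right hf, u_smul_right hf, u_smul_right hf,
      hv.1, hw.1, hwv, ← hη] at this
    linear_combination this
  set c := y / (x * η) with hcdef
  have hx1 : frobQ hF x ≠ 0 := by rwa [Ne, map_eq_zero]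
  have hη1 : frobQ hF η ≠ 0 := by rwa [Ne, map_eq_zero]
  have hc : frobQ hF c = -c := by
    rw [hcdef, map_div₀, map_mul]
    field_simp
    linear_combination hcond
  have h1 := Rt_smul hF x (Rt_add_smul hF hv hw hc)
  have e : x • (v + (c * η) • w) = x • v + y • w := by
    rw [smul_add, smul_smul]
    congr 2
    rw [hcdef]
    field_simp
  rw [← hη] at h1
  rwa [e] at h1

/-- if every isotropic vector is a root vector of `M`, then `M` is everything -/
theorem eq_top_of_Rt_all (hn : 3 ≤ n) (h32 : ¬ (n = 3 ∧ q = 2))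
    (hall : ∀ v : Fin n → F, Cfsg.hermForm n F q v v = 0 → v ∈ Rt hF M) : M = ⊤ := by
  have hf := herm_unitary (n := n) hF
  rw [eq_top_iff, ← closure_transvections_eq_top hF hn h32, Subgroup.closure_le]
  rintro A ⟨v, c, hv, hA⟩
  by_cases hv0 : v = 0
  · have : A = 1 := by
      apply Subtype.ext; apply Subtype.ext
      rw [hA, hv0]
      unfold Cfsg.unitaryTransvection
      simp [Matrix.vecMulVec]
      ext i j; simp
    rw [this]; exact M.one_mem
  -- `A ∈ SU` forces `c` skew
  have hc : frobQ hF c = -c := by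
    obtain ⟨y, hy⟩ : ∃ y, Cfsg.hermForm n F q y v ≠ 0 := by
      by_contra hcon
      push Not at hcon
      apply hv0
      apply u_eq_zero_of_forall_right hf
      intro x
      rw [hf.herm, hcon x, map_zero]
    have h1 := A.2 y y
    change Cfsg.hermForm n F q (av A y) (av A y) = _ at h1
    have hav : av A y = y + (c * Cfsg.hermForm n F q y v) • v := by
      unfold av; rw [hA, ut_mulVec]
    rw [hav, hf.add_left, u_add_right hf, u_add_right hf, hf.smul_left, hf.smul_left,
      u_smul_right hf, u_smul_right hf, hv, map_mul] at h1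
    have hvy : Cfsg.hermForm n F q v y = frobQ hF (Cfsg.hermForm n F q y v) := hf.herm v y
    rw [hvy] at h1
    have hN : Cfsg.hermForm n F q y v * frobQ hF (Cfsg.hermForm n F q y v) ≠ 0 :=
      mul_ne_zero hy (by rwa [Ne, map_eq_zero])
    have : (frobQ hF c + c) * (Cfsg.hermForm n F q y v * frobQ hF (Cfsg.hermForm n F q y v)) = 0 := by
      linear_combination h1
    rcases mul_eq_zero.mp this with h | h
    · linear_combination h
    · exact absurd h hN
  have : A = Tu hF v c := by
    apply Subtype.ext; apply Subtype.ext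
    rw [hA, coe_Tu hF hv hc]
  rw [this]
  exact (hall v hv).2 c hc

/-! ### parameter groups -/

/-- the additive group of skew parameters `c` with `Tu hF v c ∈ M` (for isotropic `v`) -/
def Apar (M : Subgroup ↥(Cfsg.SU n F q)) {v : Fin n → F} (hv : Cfsg.hermForm n F q v v = 0) :
    AddSubgroup F where
  carrier := {c | frobQ hF c = -c ∧ Tu hF v c ∈ M}
  add_mem' := by
    rintro c d ⟨hc, hcM⟩ ⟨hd, hdM⟩
    refine ⟨by rw [map_add, hc, hd]; ring, ?_⟩
    rw [← Tu_mul hF hv hc hd]
    exact M.mul_mem hcM hdM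
  zero_mem' := ⟨by simp, by rw [Tu_zero]; exact M.one_mem⟩
  neg_mem' := by
    rintro c ⟨hc, hcM⟩
    refine ⟨by rw [map_neg, hc], ?_⟩
    rw [← Tu_inv hF hv hc]
    exact M.inv_mem hcM

theorem mem_Apar {v : Fin n → F} (hv : Cfsg.hermForm n F q v v = 0) (c : F) :
    c ∈ Apar hF M hv ↔ frobQ hF c = -c ∧ Tu hF v c ∈ M := Iff.rfl

theorem mem_Rt_iff_Apar {v : Fin n → F} (hv : Cfsg.hermForm n F q v v = 0) :
    v ∈ Rt hF M ↔ ∀ c : F, frobQ hF c = -c → c ∈ Apar hF M hv :=
  ⟨fun h c hc => ⟨hc, h.2 c hc⟩, fun h => ⟨hv, fun c hc => (h c hc).2⟩⟩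

theorem Apar_ap {g : ↥(Cfsg.SU n F q)} (hg : g ∈ M) {v : Fin n → F}
    (hv : Cfsg.hermForm n F q v v = 0) (hgv : Cfsg.hermForm n F q (av g v) (av g v) = 0) (c : F) :
    c ∈ Apar hF M hgv ↔ c ∈ Apar hF M hv := by
  rw [mem_Apar, mem_Apar, ← conj_Tu]
  constructor
  · rintro ⟨hc, h⟩
    refine ⟨hc, ?_⟩
    have : Tu hF v c = g⁻¹ * (g * Tu hF v c * g⁻¹) * g := by group
    rw [this]
    exact M.mul_mem (M.mul_mem (M.inv_mem hg) h) hg
  · rintro ⟨hc, h⟩
    exact ⟨hc, M.mul_mem (M.mul_mem hg h) (M.inv_mem hg)⟩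

end Cfsg.Agent.Lib.Helper6.SUApi
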