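/-
helper6: unitary transvection API, part B: Siegel elements.
For isotropic `a ⊥ b` and ARBITRARY `s : F`:  `S_{a,b}(s) : x ↦ x + s h(x,b) a - bar(s) h(x,a) b`.
It is DEFINED as a product of three transvections with centres in the totally isotropic plane `⟨a,b⟩`
(`Sg hF θ a b s`, `θ ≠ 0` an auxiliary skew element), so membership in a subgroup is free from `Rt`.
* `av_Sg`, `Sg_mem`, `conj_Sg`, `Sg_mul`, `Sg_inv`, `conj_Sg_Tu` (R3), `Sg_comm` (R2: the commutator of two
  Siegel elements through `b` is a transvection with centre `b`), `Sg_conj_u` (the one-step third conjugate).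
-/
import Mathlib
import Cfsg.Agent.Lib.Helper6.SUApiA

set_option autoImplicit false
set_option linter.unusedSectionVars false
set_option linter.unusedVariables false
set_option linter.unusedSimpArgs false

namespace Cfsg.Agent.Lib.Helper6.SUApi

open Cfsg Matrix Cfsg.Agent.Lib.Helper14 Cfsg.Agent.Lib.Helper5.SpMax
  Cfsg.Agent.Lib.Helper5.UForm Cfsg.Agent.Lib.Helper5.UEichler Cfsg.Agent.Lib.Helper5.HermBridge
  Cfsg.Agent.Lib.Helper5.SUGen

variable {F : Type*} [Field F] [Fintype F] {q n : ℕ} (hF : Fintype.card F = q ^ 2)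

/-- the Siegel element `x ↦ x + s h(x,b) a - bar(s) h(x,a) b` (for isotropic `a ⊥ b`, skew `θ ≠ 0`) -/
noncomputable def Sg (θ : F) (a b : Fin n → F) (s : F) : ↥(Cfsg.SU n F q) :=
  Tu hF (a + frobQ hF (s / θ) • b) θ * Tu hF a (-θ) *
    Tu hF b (-((s / θ) * frobQ hF (s / θ)) * θ)

section
variable {θ : F} (hθ : frobQ hF θ = -θ) (hθ0 : θ ≠ 0)
variable {a b : Fin n → F} (ha : Cfsg.hermForm n F q a a = 0) (hb : Cfsg.hermForm n F q b b = 0)
  (hab : Cfsg.hermForm n F q a b = 0)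
include hθ hθ0 ha hb hab

theorem av_Sg (s : F) (x : Fin n → F) :
    av (Sg hF θ a b s) x
      = x + (s * Cfsg.hermForm n F q x b) • a - (frobQ hF s * Cfsg.hermForm n F q x a) • b := by
  have hf := herm_unitary (n := n) hF
  have hba : Cfsg.hermForm n F q b a = 0 := by rw [hf.herm, hab, map_zero]
  obtain ⟨t, ht⟩ : ∃ t : F, t = s / θ := ⟨_, rfl⟩
  have hs : s = t * θ := by rw [ht]; field_simp
  obtain ⟨l, hl⟩ : ∃ l : F, l = frobQ hF t := ⟨_, rfl⟩
  have hlbar : frobQ hF l = t := by rw [hl, hf.involutive]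
  have hsbar : frobQ hF s = -(l * θ) := by rw [hs, map_mul, hθ, ← hl]; ring
  have hiso : Cfsg.hermForm n F q (a + l • b) (a + l • b) = 0 := by
    rw [hf.add_left, u_add_right hf, u_add_right hf, hf.smul_left, hf.smul_left, u_smul_right hf,
      u_smul_right hf, ha, hb, hab, hba]
    ring
  have hθ' : frobQ hF (-θ) = -(-θ) := by rw [map_neg, hθ]
  have hN : frobQ hF (-(t * l) * θ) = -(-(t * l) * θ) := by
    rw [map_mul, map_neg, map_mul, hlbar, ← hl, hθ]; ring
  unfold Sg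
  rw [← ht, ← hl, av_mul, av_mul, av_Tu hF hb hN, av_Tu hF ha hθ', av_Tu hF hiso hθ, hsbar, hs]
  simp only [hf.add_left, u_add_right hf, hf.smul_left, u_smul_right hf, ha, hb, hab, hba, hlbar]
  module

/-- the image of a vector perpendicular to `a` and `b` -/
theorem av_Sg_of_perp (s : F) {x : Fin n → F} (hxa : Cfsg.hermForm n F q x a = 0)
    (hxb : Cfsg.hermForm n F q x b = 0) : av (Sg hF θ a b s) x = x := by
  rw [av_Sg hF hθ hθ0 ha hb hab, hxa, hxb, mul_zero, mul_zero, zero_smul, zero_smul, add_zero,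
    sub_zero]

theorem Sg_mul (s s' : F) : Sg hF θ a b s * Sg hF θ a b s' = Sg hF θ a b (s + s') := by
  have hf := herm_unitary (n := n) hF
  have hba : Cfsg.hermForm n F q b a = 0 := by rw [hf.herm, hab, map_zero]
  apply av_ext
  intro x
  rw [av_mul, av_Sg hF hθ hθ0 ha hb hab, av_Sg hF hθ hθ0 ha hb hab, av_Sg hF hθ hθ0 ha hb hab]
  simp only [hf.add_left, u_sub_left hf, hf.smul_left, ha, hb, hab, hba, map_add]
  module

theorem Sg_zero : Sg hF θ a b (0 : F) = 1 := by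
  apply av_ext
  intro x
  rw [av_Sg hF hθ hθ0 ha hb hab, av_one, map_zero, zero_mul, zero_mul, zero_smul, zero_smul, add_zero,
    sub_zero]

theorem Sg_inv (s : F) : (Sg hF θ a b s)⁻¹ = Sg hF θ a b (-s) := by
  rw [inv_eq_iff_mul_eq_one, Sg_mul hF hθ hθ0 ha hb hab, add_neg_cancel, Sg_zero hF hθ hθ0 ha hb hab]

/-- (R3): conjugating a transvection by a Siegel element -/
theorem conj_Sg_Tu (s : F) (y : Fin n → F) (c : F) :
    Sg hF θ a b s * Tu hF y c * (Sg hF θ a b s)⁻¹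
      = Tu hF (y + (s * Cfsg.hermForm n F q y b) • a - (frobQ hF s * Cfsg.hermForm n F q y a) • b) c := by
  rw [conj_Tu, av_Sg hF hθ hθ0 ha hb hab]

end

/-- conjugation of a Siegel element (no hypotheses) -/
theorem conj_Sg (g : ↥(Cfsg.SU n F q)) (θ : F) (a b : Fin n → F) (s : F) :
    g * Sg hF θ a b s * g⁻¹ = Sg hF θ (av g a) (av g b) s := by
  unfold Sg
  rw [show av g a + frobQ hF (s / θ) • av g b = av g (a + frobQ hF (s / θ) • b) from by
    rw [av_add, av_smul], ← conj_Tu, ← conj_Tu, ← conj_Tu]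
  group

/-- membership: the three centres are root vectors of `M` -/
theorem Sg_mem {M : Subgroup ↥(Cfsg.SU n F q)} {θ : F} (hθ : frobQ hF θ = -θ)
    {a b : Fin n → F} (ha : a ∈ Rt hF M) (hb : b ∈ Rt hF M)
    (hab : ∀ l : F, a + l • b ∈ Rt hF M) (s : F) : Sg hF θ a b s ∈ M := by
  have hf := herm_unitary (n := n) hF
  unfold Sg
  refine M.mul_mem (M.mul_mem ((hab _).2 θ hθ) (ha.2 (-θ) (by rw [map_neg, hθ]))) (hb.2 _ ?_)
  rw [map_mul, map_neg, map_mul, hf.involutive, hθ]; ring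

section
variable {θ : F} (hθ : frobQ hF θ = -θ) (hθ0 : θ ≠ 0)
variable {b z z' : Fin n → F} (hb : Cfsg.hermForm n F q b b = 0)
  (hz : Cfsg.hermForm n F q z z = 0) (hz' : Cfsg.hermForm n F q z' z' = 0)
  (hbz : Cfsg.hermForm n F q b z = 0) (hbz' : Cfsg.hermForm n F q b z' = 0)
include hθ hθ0 hb hz hz' hbz hbz'

/-- (R2): two Siegel elements through `b` commute up to a transvection with centre `b` -/
theorem Sg_comm (s s' : F) :
    Sg hF θ b z s * Sg hF θ b z' s'
      = Tu hF b (frobQ hF (s * frobQ hF s' * Cfsg.hermForm n F q z' z)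
          - s * frobQ hF s' * Cfsg.hermForm n F q z' z) *
        (Sg hF θ b z' s' * Sg hF θ b z s) := by
  have hf := herm_unitary (n := n) hF
  have hzb : Cfsg.hermForm n F q z b = 0 := by rw [hf.herm, hbz, map_zero]
  have hz'b : Cfsg.hermForm n F q z' b = 0 := by rw [hf.herm, hbz', map_zero]
  have hzz' : Cfsg.hermForm n F q z z' = frobQ hF (Cfsg.hermForm n F q z' z) := hf.herm z z'
  set κ := Cfsg.hermForm n F q z' z with hκ
  have hc : frobQ hF (frobQ hF (s * frobQ hF s' * κ) - s * frobQ hF s' * κ)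
      = -(frobQ hF (s * frobQ hF s' * κ) - s * frobQ hF s' * κ) := by
    rw [map_sub, hf.involutive]; ring
  apply av_ext
  intro x
  rw [av_mul, av_mul, av_mul, av_Tu hF hb hc, av_Sg hF hθ hθ0 hb hz' hbz', av_Sg hF hθ hθ0 hb hz hbz,
    av_Sg hF hθ hθ0 hb hz hbz, av_Sg hF hθ hθ0 hb hz' hbz']
  simp only [hf.add_left, u_sub_left hf, hf.smul_left, hb, hz, hz', hbz, hbz', hzb, hz'b, hzz',
    map_mul, hf.involutive, ← hκ]
  module

end

/-- **the one-step third conjugate**: if `u` fixes `e₀` and maps `e₁` to `e₀ + e₁`, then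
`S_{e₀,e₁}(s) u S_{e₀,e₁}(s)⁻¹ = T_{e₀}(bar s - s) u` -/
theorem Sg_conj_u {θ : F} (hθ : frobQ hF θ = -θ) (hθ0 : θ ≠ 0) {e0 e1 : Fin n → F}
    (h0 : Cfsg.hermForm n F q e0 e0 = 0) (h1 : Cfsg.hermForm n F q e1 e1 = 0)
    (h01 : Cfsg.hermForm n F q e0 e1 = 0) (u : ↥(Cfsg.SU n F q)) (hu0 : av u e0 = e0)
    (hu1 : av u e1 = e0 + e1) (s : F) :
    Sg hF θ e0 e1 s * u * (Sg hF θ e0 e1 s)⁻¹ = Tu hF e0 (frobQ hF s - s) * u := by
  have hf := herm_unitary (n := n) hF
  have h10 : Cfsg.hermForm n F q e1 e0 = 0 := by rw [hf.herm, h01, map_zero]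
  have h2 : Cfsg.hermForm n F q (e0 + e1) (e0 + e1) = 0 := by
    rw [hf.add_left, u_add_right hf, u_add_right hf, h0, h1, h01, h10]; ring
  have h02 : Cfsg.hermForm n F q e0 (e0 + e1) = 0 := by
    rw [u_add_right hf, h0, h01]; ring
  have hc : frobQ hF (frobQ hF s - s) = -(frobQ hF s - s) := by
    rw [map_sub, hf.involutive]; ring
  -- `u S u⁻¹ = S_{e₀, e₀+e₁}`
  have hconj := conj_Sg hF u θ e0 e1 s
  rw [hu0, hu1] at hconj
  -- reduce to an identity between Siegel elements and a transvection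
  have key : Sg hF θ e0 e1 s = Tu hF e0 (frobQ hF s - s) * Sg hF θ e0 (e0 + e1) s := by
    apply av_ext
    intro x
    rw [av_mul, av_Tu hF h0 hc, av_Sg hF hθ hθ0 h0 h1 h01, av_Sg hF hθ hθ0 h0 h2 h02]
    simp only [hf.add_left, u_sub_left hf, u_add_right hf, hf.smul_left, h0, h1, h01, h10]
    module
  calc Sg hF θ e0 e1 s * u * (Sg hF θ e0 e1 s)⁻¹
      = Sg hF θ e0 e1 s * (u * Sg hF θ e0 e1 s * u⁻¹)⁻¹ * u := by group
    _ = Tu hF e0 (frobQ hF s - s) * u := by
        rw [hconj, key]; group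

end Cfsg.Agent.Lib.Helper6.SUApi
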