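/-
helper6: generation criteria for Sp_2m(F), part E (characteristic free endgames).
`Rt M` = vectors whose whole transvection group lies in `M`.
* `Rt_smul`, `Rt_zero`, `Rt_add_smul` (closure under `v + t w` when `f(v,w) ≠ 0`), `Rt_of_card_two`
* `eq_top_of_long_links` : all `e_i, f_i ∈ Rt M` and, for every `j`, SOME `w ∈ Rt M` supported exactly on
  the hyperbolic planes `j, j+1`  ⟹  `M = ⊤`
* `eq_top_of_hypSys`, `eq_top_of_hypSys_links` : the same for an arbitrary symplectic basis `(e i, f i)`.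
-/
import Mathlib
import Cfsg.Agent.Lib.Helper6.SpGenB

set_option autoImplicit false

namespace Cfsg.Agent.Lib.Helper6.SpGen

open Matrix Cfsg.Agent.Lib.Helper5 Cfsg.Agent.Lib.Helper14.SpPerfect
open Cfsg.Agent.Lib.Helper14

variable {F : Type*} [Field F] {m : ℕ}
variable {M : Subgroup (Matrix.symplecticGroup (Fin m) F)}

theorem Rt_zero : (0 : Fin m ⊕ Fin m → F) ∈ Rt M := by
  intro s
  rw [Tr_zero_vec]
  exact M.one_mem

theorem Rt_smul (a : F) {w : Fin m ⊕ Fin m → F} (hw : w ∈ Rt M) : a • w ∈ Rt M := by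
  intro s
  rw [Tr_smul]
  exact hw _

/-- `Rt M` is closed under `v ↦ v + t w` for `w ∈ Rt M` not perpendicular to `v` -/
theorem Rt_add_smul {v w : Fin m ⊕ Fin m → F} (hv : v ∈ Rt M) (hw : w ∈ Rt M)
    (h : Cfsg.sympForm m F v w ≠ 0) (t : F) : v + t • w ∈ Rt M := by
  have h1 := (Rel.move (M := M) hw (t / Cfsg.sympForm m F v w) v).mem_Rt hv
  rwa [div_mul_cancel₀ _ h] at h1

/-- the whole hyperbolic plane of two non-perpendicular vectors of `Rt M` lies in `Rt M` -/
theorem Rt_plane {v w : Fin m ⊕ Fin m → F} (hv : v ∈ Rt M) (hw : w ∈ Rt M)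
    (h : Cfsg.sympForm m F v w ≠ 0) (a b : F) : a • v + b • w ∈ Rt M := by
  by_cases ha : a = 0
  · rw [ha, zero_smul, zero_add]
    exact Rt_smul b hw
  · have h1 := Rt_add_smul hv hw h (b / a)
    have h2 := Rt_smul a h1
    rwa [smul_add, smul_smul, mul_div_cancel₀ _ ha] at h2

/-- over the field with two elements one transvection is the whole root group -/
theorem Rt_of_card_two [Fintype F] (hF : Fintype.card F = 2) {w : Fin m ⊕ Fin m → F}
    (h : Tr w (1 : F) ∈ M) : w ∈ Rt M := by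
  intro s
  have hs := FiniteField.pow_card s
  rw [hF] at hs
  have : s * (s - 1) = 0 := by linear_combination hs
  rcases mul_eq_zero.mp this with h0 | h1
  · rw [h0, Tr_zero]; exact M.one_mem
  · rw [sub_eq_zero.mp h1]; exact h

/-- all long root groups and, for every pair of adjacent hyperbolic planes, some root group supported
exactly on these two planes: the subgroup is everything -/
theorem eq_top_of_long_links (hm : 0 < m) (hL : Long M)
    (hP : ∀ j k : Fin m, k.val = j.val + 1 → ∃ w : Fin m ⊕ Fin m → F, w ∈ Rt M ∧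
      (w (Sum.inl j) ≠ 0 ∨ w (Sum.inr j) ≠ 0) ∧ (w (Sum.inl k) ≠ 0 ∨ w (Sum.inr k) ≠ 0) ∧
      ∀ l : Fin m, l ≠ j → l ≠ k → w (Sum.inl l) = 0 ∧ w (Sum.inr l) = 0) :
    M = ⊤ := by
  refine eq_top_of_long_pairs hm hL ?_
  intro j k hjk
  obtain ⟨w, hw, hwj, hwk, hw0⟩ := hP j k hjk
  have hne : j ≠ k := by
    intro h; rw [h] at hjk; omega
  obtain ⟨y1, r1, a1, b1, s1⟩ := norm10 hL j w hwj
  have hk1 : y1 (Sum.inl k) ≠ 0 ∨ y1 (Sum.inr k) ≠ 0 := by
    rw [(s1 k hne.symm).1, (s1 k hne.symm).2]; exact hwk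
  obtain ⟨y2, r2, a2, b2, s2⟩ := norm10 hL k y1 hk1
  have hy2 : y2 = eV j + eV k := by
    funext c
    rcases c with l | l
    · by_cases hlj : l = j
      · rw [hlj, (s2 j hne).1, a1]; simp [hne]
      · by_cases hlk : l = k
        · rw [hlk, a2]; simp [hne.symm]
        · rw [(s2 l hlk).1, (s1 l hlj).1, (hw0 l hlj hlk).1]; simp [hlj, hlk]
    · by_cases hlj : l = j
      · rw [hlj, (s2 j hne).2, b1]; simp
      · by_cases hlk : l = k
        · rw [hlk, b2]; simp
        · rw [(s2 l hlk).2, (s1 l hlj).2, (hw0 l hlj hlk).2]; simp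
  rw [← hy2]
  exact (r1.trans r2).mem_Rt hw

/-! ### an arbitrary symplectic basis -/

/-- the conjugate subgroup `g⁻¹ M g` -/
def conjSub (g : Matrix.symplecticGroup (Fin m) F) (M : Subgroup (Matrix.symplecticGroup (Fin m) F)) :
    Subgroup (Matrix.symplecticGroup (Fin m) F) :=
  M.comap (MulAut.conj g).toMonoidHom

theorem mem_conjSub (g x : Matrix.symplecticGroup (Fin m) F) :
    x ∈ conjSub g M ↔ g * x * g⁻¹ ∈ M := by
  unfold conjSub
  rw [Subgroup.mem_comap]
  rfl

theorem Rt_conjSub (g : Matrix.symplecticGroup (Fin m) F) (w : Fin m ⊕ Fin m → F) :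
    w ∈ Rt (conjSub g M) ↔ ap g w ∈ Rt M := by
  constructor
  · intro h s
    have := (mem_conjSub g _).mp (h s)
    rwa [conj_Tr'] at this
  · intro h s
    rw [mem_conjSub, conj_Tr']
    exact h s

theorem conjSub_eq_top (g : Matrix.symplecticGroup (Fin m) F) (h : conjSub g M = ⊤) : M = ⊤ := by
  rw [eq_top_iff]
  intro x _
  have h1 : g⁻¹ * x * g ∈ conjSub g M := by rw [h]; trivial
  rw [mem_conjSub] at h1
  have : g * (g⁻¹ * x * g) * g⁻¹ = x := by group
  rwa [this] at h1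

/-- `eq_top_of_long_pairs` for an arbitrary symplectic basis -/
theorem eq_top_of_hypSys (hm : 0 < m) (e f : Fin m → (Fin m ⊕ Fin m → F)) (hs : HypSys F m m e f)
    (he : ∀ i, e i ∈ Rt M) (hf : ∀ i, f i ∈ Rt M)
    (hP : ∀ j k : Fin m, k.val = j.val + 1 → e j + e k ∈ Rt M) : M = ⊤ := by
  apply conjSub_eq_top (ofCols e f hs)
  apply eq_top_of_long_pairs hm
  · intro i
    constructor
    · rw [Rt_conjSub, ap_ofCols_eV]; exact he i
    · rw [Rt_conjSub, ap_ofCols_fV]; exact hf i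
  · intro j k hjk
    rw [Rt_conjSub, ap_add, ap_ofCols_eV, ap_ofCols_eV]
    exact hP j k hjk

/-- coordinates with respect to a symplectic basis: `w = Σ a_i e_i + Σ b_i f_i` -/
theorem eq_top_of_hypSys_links (hm : 0 < m) (e f : Fin m → (Fin m ⊕ Fin m → F))
    (hs : HypSys F m m e f)
    (he : ∀ i, e i ∈ Rt M) (hf : ∀ i, f i ∈ Rt M)
    (hP : ∀ j k : Fin m, k.val = j.val + 1 → ∃ a b c d : F, (a ≠ 0 ∨ b ≠ 0) ∧ (c ≠ 0 ∨ d ≠ 0) ∧
      a • e j + b • f j + c • e k + d • f k ∈ Rt M) : M = ⊤ := by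
  apply conjSub_eq_top (ofCols e f hs)
  apply eq_top_of_long_links hm
  · intro i
    constructor
    · rw [Rt_conjSub, ap_ofCols_eV]; exact he i
    · rw [Rt_conjSub, ap_ofCols_fV]; exact hf i
  · intro j k hjk
    obtain ⟨a, b, c, d, hab, hcd, hw⟩ := hP j k hjk
    have hne : j ≠ k := by
      intro h; rw [h] at hjk; omega
    refine ⟨a • eV j + b • fV j + c • eV k + d • fV k, ?_, ?_, ?_, ?_⟩
    · rw [Rt_conjSub, ap_add, ap_add, ap_add, ap_smul, ap_smul, ap_smul, ap_smul,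
        ap_ofCols_eV, ap_ofCols_eV, ap_ofCols_fV, ap_ofCols_fV]
      exact hw
    · simpa [hne] using hab
    · simpa [hne.symm] using hcd
    · intro l hlj hlk
      simp [hlj, hlk]

end Cfsg.Agent.Lib.Helper6.SpGen
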