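import Mathlib
import Cfsg.Prelude.Def_ClassicalGeometry
import Cfsg.Prelude.Def_GeometricClasses
import Cfsg.Agent.Lib.Helper5.SpMax
import Cfsg.Agent.Lib.Helper22.C3Defs

/-!
S5665 leaf C3L0 (owner helper22; notes/S5665_leaves.lean): extraction of the skew-adjoint generator
`J` of the quadratic field subalgebra `K` from the hypotheses of the frozen statement, and the
description of the normaliser of `K` as the matrices commuting or anticommuting with `J`.
-/

set_option autoImplicit false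

namespace Cfsg.Agent.Lib.Helper6.C3Leaf
open Cfsg Matrix Cfsg.Agent.Lib.Helper5 Cfsg.Agent.Lib.Helper5.SpMax Cfsg.Agent.Lib.Helper22.C3

variable {F : Type*} [Field F] {m : ℕ}

local notation "𝕍" => (Fin m ⊕ Fin m → F)
local notation "𝕄" => Matrix (Fin m ⊕ Fin m) (Fin m ⊕ Fin m) F

/-- `k'` is an adjoint of `k` for the symplectic form -/
def L0Adj (k k' : 𝕄) : Prop :=
  ∀ u v : 𝕍, sympForm m F (k *ᵥ u) v = sympForm m F u (k' *ᵥ v)

lemma l0_eq_zero_of_form (w : 𝕍) (h : ∀ u, sympForm m F u w = 0) : w = 0 := by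
  by_contra hw
  obtain ⟨a, ha⟩ := sympForm_nondeg w hw
  apply ha
  rw [sympForm_swap, h a, neg_zero]

lemma l0_adj_unique {k k' k'' : 𝕄} (h1 : L0Adj k k') (h2 : L0Adj k k'') : k' = k'' := by
  apply mat_eq_of_mulVec
  intro v
  have : k' *ᵥ v - k'' *ᵥ v = 0 := by
    apply l0_eq_zero_of_form
    intro u
    rw [sympForm_sub_right, ← h1 u v, ← h2 u v, sub_self]
  exact sub_eq_zero.mp this

lemma l0_adj_symm {k k' : 𝕄} (h : L0Adj k k') : L0Adj k' k := by
  intro u v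
  rw [sympForm_swap m (k' *ᵥ u) v, ← h v u, sympForm_swap m (k *ᵥ v) u, neg_neg]

lemma l0_adj_mul {k k' l l' : 𝕄} (hk : L0Adj k k') (hl : L0Adj l l') :
    L0Adj (k * l) (l' * k') := by
  intro u v
  rw [← Matrix.mulVec_mulVec, ← Matrix.mulVec_mulVec, hk, hl]

lemma l0_adj_add {k k' l l' : 𝕄} (hk : L0Adj k k') (hl : L0Adj l l') :
    L0Adj (k + l) (k' + l') := by
  intro u v
  rw [Matrix.add_mulVec, Matrix.add_mulVec, sympForm_add_left, sympForm_add_right, hk, hl]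

lemma l0_adj_sub {k k' l l' : 𝕄} (hk : L0Adj k k') (hl : L0Adj l l') :
    L0Adj (k - l) (k' - l') := by
  intro u v
  rw [Matrix.sub_mulVec, Matrix.sub_mulVec, sympForm_sub_left, sympForm_sub_right, hk, hl]

lemma l0_adj_smul (c : F) {k k' : 𝕄} (hk : L0Adj k k') : L0Adj (c • k) (c • k') := by
  intro u v
  rw [Matrix.smul_mulVec, Matrix.smul_mulVec, sympForm_smul_left, sympForm_smul_right, hk]

lemma l0_adj_one : L0Adj (1 : 𝕄) 1 := by
  intro u v
  rw [Matrix.one_mulVec, Matrix.one_mulVec]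

/-- conjugation of `a + b J` by a matrix commuting with `J` up to the sign `ε` -/
lemma l0_conj (J : 𝕄) (g : GL (Fin m ⊕ Fin m) F) (ε : F) (hg : (g : 𝕄) * J = ε • (J * (g : 𝕄)))
    (a b : F) :
    (g : 𝕄) * (a • (1 : 𝕄) + b • J) * ((g⁻¹ : GL (Fin m ⊕ Fin m) F) : 𝕄) =
      a • (1 : 𝕄) + (b * ε) • J := by
  have h1 : (g : 𝕄) * (a • (1 : 𝕄) + b • J) = (a • (1 : 𝕄) + (b * ε) • J) * (g : 𝕄) := by
    rw [Matrix.mul_add, Matrix.add_mul, Matrix.mul_smul, Matrix.mul_smul, Matrix.smul_mul,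
      Matrix.smul_mul, Matrix.mul_one, Matrix.one_mul, hg, smul_smul]
  rw [h1, Matrix.mul_assoc, ← Units.val_mul, mul_inv_cancel, Units.val_one, Matrix.mul_one]

lemma l0_conj' (J : 𝕄) (g : GL (Fin m ⊕ Fin m) F) (ε : F) (hε : ε * ε = 1)
    (hg : (g : 𝕄) * J = ε • (J * (g : 𝕄))) (a b : F) :
    ((g⁻¹ : GL (Fin m ⊕ Fin m) F) : 𝕄) * (a • (1 : 𝕄) + b • J) * (g : 𝕄) =
      a • (1 : 𝕄) + (b * ε) • J := by
  have hg' : J * (g : 𝕄) = ε • ((g : 𝕄) * J) := by
    rw [hg, smul_smul, hε, one_smul]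
  have h1 : (a • (1 : 𝕄) + b • J) * (g : 𝕄) = (g : 𝕄) * (a • (1 : 𝕄) + (b * ε) • J) := by
    rw [Matrix.mul_add, Matrix.add_mul, Matrix.mul_smul, Matrix.mul_smul, Matrix.smul_mul,
      Matrix.smul_mul, Matrix.mul_one, Matrix.one_mul, hg', smul_smul]
  rw [Matrix.mul_assoc, h1, ← Matrix.mul_assoc, ← Units.val_mul, inv_mul_cancel, Units.val_one,
    Matrix.one_mul]

theorem l0_two_ne_zero [Fintype F] (hodd : Odd (Fintype.card F)) : (2 : F) ≠ 0 := by
  intro h
  have : CharP F 2 := CharTwo.of_one_ne_zero_of_two_eq_zero one_ne_zero h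
  obtain ⟨k, -, hk⟩ := FiniteField.card F 2
  rw [hk] at hodd
  have hev : Even (2 ^ (k : ℕ)) := (Nat.even_pow.2 ⟨even_two, k.ne_zero⟩)
  exact (Nat.not_even_iff_odd.2 hodd) hev

/-- L0. extraction of `J` from the field subalgebra `K` of the statement. -/
theorem exists_CS [Fintype F] (hodd : Odd (Fintype.card F))
    (K : Subalgebra F 𝕄) (hK : Cfsg.Geo.IsFieldSubalgebra 2 K)
    (hac : Cfsg.Geo.IsAdjointClosedFor (Cfsg.sympForm m F) K)
    (hnsa : ¬ Cfsg.Geo.IsSelfAdjointFor (Cfsg.sympForm m F) K) :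
    ∃ S : CS m F, ∀ g : GL (Fin m ⊕ Fin m) F, g ∈ Cfsg.Geo.subalgebraNormalizer K ↔
      ((g : 𝕄) * S.J = S.J * (g : 𝕄) ∨ (g : 𝕄) * S.J = -(S.J * (g : 𝕄))) := by
  classical
  have h2 : (2 : F) ≠ 0 := l0_two_ne_zero hodd
  -- a non-self-adjoint element and its adjoint
  unfold Cfsg.Geo.IsSelfAdjointFor at hnsa
  push Not at hnsa
  obtain ⟨k₀, hk₀K, u₀, v₀, hne⟩ := hnsa
  obtain ⟨k₀', hk₀'K, hadj₀⟩ := hac k₀ hk₀K
  have hadj₀' : L0Adj k₀ k₀' := hadj₀
  obtain ⟨J, hJdef⟩ : ∃ J : 𝕄, J = k₀ - k₀' := ⟨_, rfl⟩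
  have hJK : J ∈ K := by rw [hJdef]; exact K.sub_mem hk₀K hk₀'K
  have hJadj : L0Adj J (-J) := by
    have := l0_adj_sub hadj₀' (l0_adj_symm hadj₀')
    rw [hJdef, neg_sub]
    exact this
  have hJ0 : J ≠ 0 := by
    intro h0
    rw [hJdef, sub_eq_zero] at h0
    apply hne
    have := hadj₀ u₀ v₀
    rw [← h0] at this
    exact this
  have h1ne : (1 : 𝕄) ≠ 0 := by
    intro h1
    apply hJ0
    rw [← Matrix.mul_one J, h1, Matrix.mul_zero]
  have hJns : ∀ c : F, J ≠ c • (1 : 𝕄) := by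
    intro c hc
    have h3 : L0Adj J J := by
      have := l0_adj_smul c (l0_adj_one (F := F) (m := m))
      rw [← hc] at this
      exact this
    have h4 : -J = J := l0_adj_unique hJadj h3
    have h5 : (2 : F) • J = 0 := by
      rw [two_smul]
      nth_rewrite 1 [← h4]
      exact neg_add_cancel J
    rcases smul_eq_zero.mp h5 with h6 | h6
    · exact h2 h6
    · exact hJ0 h6
  -- `1, J` are linearly independent
  have hli : ∀ s t : F, s • (1 : 𝕄) + t • J = 0 → s = 0 ∧ t = 0 := by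
    intro s t hst
    by_cases ht : t = 0
    · rw [ht, zero_smul, add_zero] at hst
      rcases smul_eq_zero.mp hst with h | h
      · exact ⟨h, ht⟩
      · exact absurd h h1ne
    · exfalso
      apply hJns (-(t⁻¹ * s))
      have h3 : t • J = -(s • (1 : 𝕄)) := by
        rw [eq_neg_iff_add_eq_zero, add_comm]; exact hst
      calc J = t⁻¹ • (t • J) := by rw [smul_smul, inv_mul_cancel₀ ht, one_smul]
        _ = -(t⁻¹ * s) • (1 : 𝕄) := by rw [h3, smul_neg, smul_smul, neg_smul]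
  -- `K` is spanned by `1, J`
  have hspanK : Submodule.span F {(1 : 𝕄), J} = Subalgebra.toSubmodule K := by
    have hle : Submodule.span F {(1 : 𝕄), J} ≤ Subalgebra.toSubmodule K := by
      rw [Submodule.span_le]
      intro x hx
      rcases hx with hx | hx
      · rw [hx]; exact K.one_mem
      · rw [Set.mem_singleton_iff] at hx
        rw [hx]; exact hJK
    apply Submodule.eq_of_le_of_finrank_eq hle
    have h3 := finrank_span_eq_card (R := F) (b := ![(1 : 𝕄), J]) (LinearIndependent.pair_iff.mpr hli)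
    rw [Matrix.range_cons_cons_empty, Fintype.card_fin] at h3
    rw [h3, Subalgebra.finrank_toSubmodule, hK.finrank_eq]
  have hspan : ∀ x ∈ K, ∃ a b : F, x = a • (1 : 𝕄) + b • J := by
    intro x hx
    have hx' : x ∈ Submodule.span F {(1 : 𝕄), J} := by
      rw [hspanK]; exact hx
    obtain ⟨a, b, hab⟩ := Submodule.mem_span_pair.mp hx'
    exact ⟨a, b, hab.symm⟩
  have hmemK : ∀ a b : F, a • (1 : 𝕄) + b • J ∈ K := fun a b =>
    K.add_mem (K.smul_mem K.one_mem a) (K.smul_mem hJK b)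
  -- `J * J` is a scalar
  obtain ⟨δ, hδ⟩ : ∃ δ : F, J * J = δ • (1 : 𝕄) := by
    obtain ⟨a, b, hab⟩ := hspan (J * J) (K.mul_mem hJK hJK)
    have h3 : L0Adj (J * J) (J * J) := by
      have := l0_adj_mul hJadj hJadj
      rwa [neg_mul_neg] at this
    have h4 : L0Adj (J * J) (a • (1 : 𝕄) + b • (-J)) := by
      rw [hab]
      exact l0_adj_add (l0_adj_smul a l0_adj_one) (l0_adj_smul b hJadj)
    have h5 := l0_adj_unique h3 h4
    rw [hab] at h5
    have h6 : (0 : F) • (1 : 𝕄) + (2 * b) • J = 0 := by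
      have : (2 * b) • J = (a • (1 : 𝕄) + b • J) - (a • (1 : 𝕄) + b • (-J)) := by
        rw [smul_neg, mul_smul, two_smul]; abel
      rw [zero_smul, zero_add, this, ← h5, sub_self]
    have hb : b = 0 := by
      have := (hli 0 (2 * b) h6).2
      rcases mul_eq_zero.mp this with h | h
      · exact absurd h h2
      · exact h
    refine ⟨a, ?_⟩
    rw [hab, hb, zero_smul, add_zero]
  have hδnsq : ∀ c : F, c * c ≠ δ := by
    intro c hc
    have hx : J - c • (1 : 𝕄) ∈ K := K.sub_mem hJK (K.smul_mem K.one_mem c)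
    have hy : J + c • (1 : 𝕄) ∈ K := K.add_mem hJK (K.smul_mem K.one_mem c)
    have hxy : (J - c • (1 : 𝕄)) * (J + c • (1 : 𝕄)) = 0 := by
      rw [Matrix.sub_mul, Matrix.mul_add, Matrix.mul_add, hδ, Matrix.mul_smul, Matrix.smul_mul,
        Matrix.smul_mul, Matrix.mul_one, Matrix.one_mul, Matrix.mul_smul, Matrix.mul_one, smul_smul,
        hc]
      abel
    by_cases hx0 : J - c • (1 : 𝕄) = 0
    · exact hJns c (sub_eq_zero.mp hx0)
    · obtain ⟨x', hx'K, hx'⟩ := hK.inv _ hx hx0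
      have h3 : x' * (J - c • (1 : 𝕄)) = 1 := by
        rw [hK.comm _ hx'K _ hx]; exact hx'
      have h4 : J + c • (1 : 𝕄) = 0 := by
        calc J + c • (1 : 𝕄) = (x' * (J - c • (1 : 𝕄))) * (J + c • (1 : 𝕄)) := by
              rw [h3, Matrix.one_mul]
          _ = 0 := by rw [Matrix.mul_assoc, hxy, Matrix.mul_zero]
      apply hJns (-c)
      rw [neg_smul]
      exact eq_neg_of_add_eq_zero_left h4
  have hskew : ∀ u v : 𝕍, sympForm m F (J *ᵥ u) v = - sympForm m F u (J *ᵥ v) := by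
    intro u v
    rw [hJadj u v, Matrix.neg_mulVec, sympForm_neg_right]
  refine ⟨⟨J, δ, hδ, hδnsq, hskew⟩, ?_⟩
  intro g
  change g ∈ Cfsg.Geo.subalgebraNormalizer K ↔
    ((g : 𝕄) * J = J * (g : 𝕄) ∨ (g : 𝕄) * J = -(J * (g : 𝕄)))
  have hback : ∀ ε : F, ε * ε = 1 → (g : 𝕄) * J = ε • (J * (g : 𝕄)) →
      g ∈ Cfsg.Geo.subalgebraNormalizer K := by
    intro ε hε hg k
    constructor
    · intro hk
      obtain ⟨a, b, hab⟩ := hspan k hk
      rw [hab, l0_conj J g ε hg a b]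
      exact hmemK _ _
    · intro hk
      obtain ⟨a, b, hab⟩ := hspan _ hk
      have h3 : k = ((g⁻¹ : GL (Fin m ⊕ Fin m) F) : 𝕄) *
          ((g : 𝕄) * k * ((g⁻¹ : GL (Fin m ⊕ Fin m) F) : 𝕄)) * (g : 𝕄) := by
        rw [Matrix.mul_assoc, Matrix.mul_assoc, Matrix.mul_assoc, ← Units.val_mul, inv_mul_cancel,
          Units.val_one, Matrix.mul_one, ← Matrix.mul_assoc, ← Units.val_mul, inv_mul_cancel,
          Units.val_one, Matrix.one_mul]
      rw [h3, hab, l0_conj' J g ε hε hg a b]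
      exact hmemK _ _
  constructor
  · intro hg
    have hJ₁K : (g : 𝕄) * J * ((g⁻¹ : GL (Fin m ⊕ Fin m) F) : 𝕄) ∈ K := (hg J).mp hJK
    obtain ⟨a, b, hab⟩ := hspan _ hJ₁K
    have hsq₁ : ((g : 𝕄) * J * ((g⁻¹ : GL (Fin m ⊕ Fin m) F) : 𝕄)) *
        ((g : 𝕄) * J * ((g⁻¹ : GL (Fin m ⊕ Fin m) F) : 𝕄)) = δ • (1 : 𝕄) := by
      have : ((g : 𝕄) * J * ((g⁻¹ : GL (Fin m ⊕ Fin m) F) : 𝕄)) *
          ((g : 𝕄) * J * ((g⁻¹ : GL (Fin m ⊕ Fin m) F) : 𝕄)) =
          (g : 𝕄) * (J * J) * ((g⁻¹ : GL (Fin m ⊕ Fin m) F) : 𝕄) := by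
        rw [Matrix.mul_assoc (g : 𝕄) J, Matrix.mul_assoc (g : 𝕄) (J * _),
          Matrix.mul_assoc J _ _, ← Matrix.mul_assoc _ (g : 𝕄) _, ← Units.val_mul, inv_mul_cancel,
          Units.val_one, Matrix.one_mul, ← Matrix.mul_assoc J J, ← Matrix.mul_assoc (g : 𝕄)]
      rw [this, hδ, Matrix.mul_smul, Matrix.mul_one, Matrix.smul_mul, ← Units.val_mul,
        mul_inv_cancel, Units.val_one]
    rw [hab] at hsq₁
    have hexp : (a • (1 : 𝕄) + b • J) * (a • (1 : 𝕄) + b • J) =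
        (a * a + b * b * δ) • (1 : 𝕄) + (2 * a * b) • J := by
      rw [Matrix.mul_add, Matrix.add_mul, Matrix.add_mul, Matrix.smul_mul, Matrix.smul_mul,
        Matrix.smul_mul, Matrix.smul_mul, Matrix.mul_smul, Matrix.mul_smul, Matrix.mul_smul,
        Matrix.mul_smul, Matrix.one_mul, Matrix.one_mul, Matrix.mul_one, hδ]
      module
    rw [hexp] at hsq₁
    have h3 : (a * a + b * b * δ - δ) • (1 : 𝕄) + (2 * a * b) • J = 0 := by
      rw [sub_smul, ← hsq₁]; abel
    obtain ⟨h4, h5⟩ := hli _ _ h3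
    have hb0 : b ≠ 0 := by
      intro hb
      rw [hb] at h4
      apply hδnsq a
      linear_combination h4
    have ha0 : a = 0 := by
      rcases mul_eq_zero.mp h5 with h | h
      · rcases mul_eq_zero.mp h with h' | h'
        · exact absurd h' h2
        · exact h'
      · exact absurd h hb0
    have hδ0 : δ ≠ 0 := fun h => hδnsq 0 (by rw [h, mul_zero])
    have hbb : b * b = 1 := by
      rw [ha0] at h4
      have : (b * b - 1) * δ = 0 := by linear_combination h4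
      rcases mul_eq_zero.mp this with h | h
      · exact sub_eq_zero.mp h
      · exact absurd h hδ0
    have hgJ : (g : 𝕄) * J = (a • (1 : 𝕄) + b • J) * (g : 𝕄) := by
      rw [← hab, Matrix.mul_assoc, ← Units.val_mul, inv_mul_cancel, Units.val_one, Matrix.mul_one]
    rw [ha0, zero_smul, zero_add, Matrix.smul_mul] at hgJ
    rcases mul_self_eq_one_iff.mp hbb with hb | hb
    · left
      rw [hgJ, hb, one_smul]
    · right
      rw [hgJ, hb, neg_smul, one_smul]
  · rintro (hg | hg)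
    · exact hback 1 (one_mul 1) (by rw [one_smul]; exact hg)
    · exact hback (-1) (by ring) (by rw [neg_smul, one_smul]; exact hg)

end Cfsg.Agent.Lib.Helper6.C3Leaf
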