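import Mathlib
import Cfsg.Prelude.Def_ClassicalGeometry
import Cfsg.Prelude.Def_GeometricClasses
import Cfsg.Agent.Lib.Helper5.SpMax
import Cfsg.Agent.Lib.Helper22.C3Defs

/-!
S5665 leaf C3P (owner helper22; notes/S5665_leaves.lean): a symplectic transvection neither commutes
nor anticommutes with `J`.
-/

set_option autoImplicit false

namespace Cfsg.Agent.Lib.Helper6.C3Leaf
open Cfsg Matrix Cfsg.Agent.Lib.Helper5 Cfsg.Agent.Lib.Helper5.SpMax Cfsg.Agent.Lib.Helper22.C3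

variable {F : Type*} [Field F] {m : ℕ}

local notation "𝕍" => (Fin m ⊕ Fin m → F)
local notation "𝕄" => Matrix (Fin m ⊕ Fin m) (Fin m ⊕ Fin m) F

/-- `J` has no eigenvector -/
lemma c3p_no_eigen (S : CS m F) (v : 𝕍) (hv : v ≠ 0) (c : F) (h : S.J *ᵥ v = c • v) : False := by
  have h1 : S.J *ᵥ (S.J *ᵥ v) = (c * c) • v := by
    rw [h, Matrix.mulVec_smul, h, smul_smul]
  rw [S.JJ] at h1
  have h2 : (S.δ - c * c) • v = 0 := by
    rw [sub_smul, h1, sub_self]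
  rcases smul_eq_zero.mp h2 with h3 | h3
  · exact S.nsq c (sub_eq_zero.mp h3).symm
  · exact hv h3

/-- P. a transvection does not normalise `K` -/
theorem tvc_not_comm (S : CS m F) (h2 : (2 : F) ≠ 0) (v : 𝕍) (hv : v ≠ 0) :
    ¬ (((tvc v 1 : GL (Fin m ⊕ Fin m) F) : 𝕄) * S.J = S.J * ((tvc v 1 : GL (Fin m ⊕ Fin m) F) : 𝕄) ∨
       ((tvc v 1 : GL (Fin m ⊕ Fin m) F) : 𝕄) * S.J = -(S.J * ((tvc v 1 : GL (Fin m ⊕ Fin m) F) : 𝕄))) := by
  rintro (h | h)
  · -- commuting case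
    obtain ⟨a, ha⟩ := sympForm_nondeg v hv
    have hav : sympForm m F a v ≠ 0 := by
      rw [sympForm_swap]
      exact neg_ne_zero.mpr ha
    have h1 : (((tvc v 1 : GL (Fin m ⊕ Fin m) F) : 𝕄) * S.J) *ᵥ a =
        (S.J * ((tvc v 1 : GL (Fin m ⊕ Fin m) F) : 𝕄)) *ᵥ a := by rw [h]
    rw [← Matrix.mulVec_mulVec, ← Matrix.mulVec_mulVec, tvc_mulVec, tvc_mulVec, Matrix.mulVec_add,
      Matrix.mulVec_smul, one_mul, one_mul] at h1
    have h3 : sympForm m F (S.J *ᵥ a) v • v = sympForm m F a v • (S.J *ᵥ v) := add_left_cancel h1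
    apply c3p_no_eigen S v hv ((sympForm m F a v)⁻¹ * sympForm m F (S.J *ᵥ a) v)
    rw [mul_smul, h3, smul_smul, inv_mul_cancel₀ hav, one_smul]
  · -- anticommuting case
    have h1 : (((tvc v 1 : GL (Fin m ⊕ Fin m) F) : 𝕄) * S.J) *ᵥ v =
        (-(S.J * ((tvc v 1 : GL (Fin m ⊕ Fin m) F) : 𝕄))) *ᵥ v := by rw [h]
    rw [Matrix.neg_mulVec, ← Matrix.mulVec_mulVec, ← Matrix.mulVec_mulVec, tvc_mulVec, tvc_mulVec,
      sympForm_self, mul_zero, zero_smul, add_zero, one_mul, S.form_J_self] at h1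
    have h3 : (2 : F) • (S.J *ᵥ v) = S.N v • v := by
      have : S.J *ᵥ v + S.J *ᵥ v = S.N v • v := by
        have h4 : S.J *ᵥ v + S.J *ᵥ v = (S.J *ᵥ v + -S.N v • v) + S.N v • v + S.J *ᵥ v := by
          rw [neg_smul, neg_add_cancel_right]
        rw [h4, h1, neg_add_cancel_comm]
      rw [two_smul]; exact this
    apply c3p_no_eigen S v hv ((2 : F)⁻¹ * S.N v)
    rw [mul_smul, ← h3, smul_smul, inv_mul_cancel₀ h2, one_smul]

end Cfsg.Agent.Lib.Helper6.C3Leaf
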