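/-
helper6: Sp_2m(F) generation API, part G: the Siegel / short root elements
`S_{a,b}(c) : x ↦ x + c (f(x,a) b + f(x,b) a)` for perpendicular `a, b`, with the relations
(R1) `Tr (a+b) c = Tr a c * Tr b c * S_{a,b}(c)` (here: the DEFINITION of `Sab`),
(R2) `S_{v,z}(c) S_{v,z'}(c') = S_{v, c z + c' z'}(1) Tr v (c c' f(z',z))`,
(R3) `S_{v,z}(a) Tr y b S_{v,z}(a)⁻¹ = Tr (y + a (f(y,v) z + f(y,z) v)) b`,
and the parameter groups `Apar M v = {c | Tr v c ∈ M}`.
Everything for an arbitrary field (no characteristic assumption).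
-/
import Mathlib
import Cfsg.Agent.Lib.Helper6.SpGenE

set_option autoImplicit false
set_option linter.unusedSimpArgs false

namespace Cfsg.Agent.Lib.Helper6.SpGen

open Matrix Cfsg.Agent.Lib.Helper5 Cfsg.Agent.Lib.Helper14.SpPerfect
open Cfsg.Agent.Lib.Helper14

variable {F : Type*} [Field F] {m : ℕ}

/-- the Siegel element `S_{a,b}(c)`; for `a ⊥ b` it is `x ↦ x + c (f(x,a) b + f(x,b) a)` -/
def Sab (a b : Fin m ⊕ Fin m → F) (c : F) : Matrix.symplecticGroup (Fin m) F :=
  Tr (a + b) c * (Tr a c)⁻¹ * (Tr b c)⁻¹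

theorem sympForm_perp_symm {a b : Fin m ⊕ Fin m → F} (h : Cfsg.sympForm m F a b = 0) :
    Cfsg.sympForm m F b a = 0 := by
  rw [sympForm_swap, h, neg_zero]

theorem ap_Sab {a b : Fin m ⊕ Fin m → F} (hab : Cfsg.sympForm m F a b = 0) (c : F)
    (x : Fin m ⊕ Fin m → F) :
    ap (Sab a b c) x
      = x + c • (Cfsg.sympForm m F x a • b + Cfsg.sympForm m F x b • a) := by
  have hba := sympForm_perp_symm hab
  unfold Sab
  rw [← Tr_neg, ← Tr_neg, ap_mul, ap_mul, ap_Tr, ap_Tr, ap_Tr]
  simp only [sympForm_add_left, sympForm_add_right, sympForm_smul_left, sympForm_self, hab, hba]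
  funext k
  simp only [Pi.add_apply, Pi.smul_apply, smul_eq_mul]
  ring

theorem Sab_mem {M : Subgroup (Matrix.symplecticGroup (Fin m) F)} {a b : Fin m ⊕ Fin m → F} {c : F}
    (hab : Tr (a + b) c ∈ M) (ha : Tr a c ∈ M) (hb : Tr b c ∈ M) : Sab a b c ∈ M :=
  M.mul_mem (M.mul_mem hab (M.inv_mem ha)) (M.inv_mem hb)

theorem Sab_mem_of_Rt {M : Subgroup (Matrix.symplecticGroup (Fin m) F)} {a b : Fin m ⊕ Fin m → F}
    (hab : a + b ∈ Rt M) (ha : a ∈ Rt M) (hb : b ∈ Rt M) (c : F) : Sab a b c ∈ M :=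
  Sab_mem (hab c) (ha c) (hb c)

theorem Sab_symm {a b : Fin m ⊕ Fin m → F} (hab : Cfsg.sympForm m F a b = 0) (c : F) :
    Sab a b c = Sab b a c := by
  apply ap_ext
  intro x
  rw [ap_Sab hab, ap_Sab (sympForm_perp_symm hab), add_comm (Cfsg.sympForm m F x a • b)]

theorem Sab_smul_right {a b : Fin m ⊕ Fin m → F} (hab : Cfsg.sympForm m F a b = 0) (t c : F) :
    Sab a (t • b) c = Sab a b (t * c) := by
  apply ap_ext
  intro x
  have h' : Cfsg.sympForm m F a (t • b) = 0 := by rw [sympForm_smul_right, hab, mul_zero]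
  rw [ap_Sab hab, ap_Sab h', sympForm_smul_right]
  funext k
  simp only [Pi.add_apply, Pi.smul_apply, smul_eq_mul]
  ring

theorem Sab_zero (a b : Fin m ⊕ Fin m → F) : Sab a b (0 : F) = 1 := by
  unfold Sab
  rw [Tr_zero, Tr_zero, Tr_zero]
  group

/-- (R1): for perpendicular `a, b` -/
theorem Tr_add_of_perp {a b : Fin m ⊕ Fin m → F} (hab : Cfsg.sympForm m F a b = 0) (c : F) :
    Tr (a + b) c = Tr a c * Tr b c * Sab a b c := by
  apply ap_ext
  intro x
  have hba := sympForm_perp_symm hab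
  rw [ap_mul, ap_mul, ap_Sab hab, ap_Tr, ap_Tr, ap_Tr]
  simp only [sympForm_add_left, sympForm_add_right, sympForm_smul_left, sympForm_self, hab, hba]
  funext k
  simp only [Pi.add_apply, Pi.smul_apply, smul_eq_mul]
  ring

/-- transvections with perpendicular centres commute -/
theorem Tr_commute_of_perp {a b : Fin m ⊕ Fin m → F} (hab : Cfsg.sympForm m F a b = 0) (c d : F) :
    Commute (Tr a c) (Tr b d) := by
  have hba := sympForm_perp_symm hab
  have h := conj_Tr' (Tr a c) b d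
  rw [ap_Tr, hba, mul_zero, zero_smul, add_zero] at h
  have : Tr a c * Tr b d = Tr b d * Tr a c := by
    calc Tr a c * Tr b d = (Tr a c * Tr b d * (Tr a c)⁻¹) * Tr a c := by group
      _ = Tr b d * Tr a c := by rw [h]
  exact this

/-- (R3) -/
theorem conj_Sab_Tr {v z : Fin m ⊕ Fin m → F} (hvz : Cfsg.sympForm m F v z = 0) (a : F)
    (y : Fin m ⊕ Fin m → F) (b : F) :
    Sab v z a * Tr y b * (Sab v z a)⁻¹
      = Tr (y + a • (Cfsg.sympForm m F y v • z + Cfsg.sympForm m F y z • v)) b := by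
  rw [conj_Tr', ap_Sab hvz]

/-- (R2) -/
theorem Sab_mul {v z z' : Fin m ⊕ Fin m → F} (hvz : Cfsg.sympForm m F v z = 0)
    (hvz' : Cfsg.sympForm m F v z' = 0) (c c' : F) :
    Sab v z c * Sab v z' c'
      = Sab v (c • z + c' • z') 1 * Tr v (c * c' * Cfsg.sympForm m F z' z) := by
  apply ap_ext
  intro x
  have hzv := sympForm_perp_symm hvz
  have hz'v := sympForm_perp_symm hvz'
  have hZ : Cfsg.sympForm m F v (c • z + c' • z') = 0 := by
    rw [sympForm_add_right, sympForm_smul_right, sympForm_smul_right, hvz, hvz', mul_zero, mul_zero,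
      add_zero]
  rw [ap_mul, ap_mul, ap_Sab hvz, ap_Sab hvz', ap_Sab hZ, ap_Tr]
  simp only [sympForm_add_left, sympForm_add_right, sympForm_smul_left, sympForm_smul_right,
    sympForm_self, hvz, hvz', hzv, hz'v]
  funext k
  simp only [Pi.add_apply, Pi.smul_apply, smul_eq_mul]
  ring

/-- (R2), the transvection on the left -/
theorem Sab_mul' {v z z' : Fin m ⊕ Fin m → F} (hvz : Cfsg.sympForm m F v z = 0)
    (hvz' : Cfsg.sympForm m F v z' = 0) (c c' : F) :
    Sab v z c * Sab v z' c'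
      = Tr v (c * c' * Cfsg.sympForm m F z' z) * Sab v (c • z + c' • z') 1 := by
  apply ap_ext
  intro x
  have hzv := sympForm_perp_symm hvz
  have hz'v := sympForm_perp_symm hvz'
  have hZ : Cfsg.sympForm m F v (c • z + c' • z') = 0 := by
    rw [sympForm_add_right, sympForm_smul_right, sympForm_smul_right, hvz, hvz', mul_zero, mul_zero,
      add_zero]
  rw [ap_mul, ap_mul, ap_Sab hvz, ap_Sab hvz', ap_Tr, ap_Sab hZ]
  simp only [sympForm_add_left, sympForm_add_right, sympForm_smul_left, sympForm_smul_right,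
    sympForm_self, hvz, hvz', hzv, hz'v]
  funext k
  simp only [Pi.add_apply, Pi.smul_apply, smul_eq_mul]
  ring

/-- the pencil identity: three Siegel elements through `v` multiply to a transvection -/
theorem Sab_pencil {v z z' : Fin m ⊕ Fin m → F} (hvz : Cfsg.sympForm m F v z = 0)
    (hvz' : Cfsg.sympForm m F v z' = 0) (c c' : F) :
    Sab v z c * Sab v z' c' * (Sab v (c • z + c' • z') 1)⁻¹
      = Tr v (c * c' * Cfsg.sympForm m F z' z) := by
  rw [Sab_mul' hvz hvz']
  group

theorem Sab_add {a b : Fin m ⊕ Fin m → F} (hab : Cfsg.sympForm m F a b = 0) (c c' : F) :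
    Sab a b c * Sab a b c' = Sab a b (c + c') := by
  apply ap_ext
  intro x
  have hba := sympForm_perp_symm hab
  rw [ap_mul, ap_Sab hab, ap_Sab hab, ap_Sab hab]
  simp only [sympForm_add_left, sympForm_add_right, sympForm_smul_left, sympForm_smul_right,
    sympForm_self, hab, hba]
  funext k
  simp only [Pi.add_apply, Pi.smul_apply, smul_eq_mul]
  ring

theorem Sab_inv {a b : Fin m ⊕ Fin m → F} (hab : Cfsg.sympForm m F a b = 0) (c : F) :
    (Sab a b c)⁻¹ = Sab a b (-c) := by
  rw [inv_eq_iff_mul_eq_one, Sab_add hab, add_neg_cancel, Sab_zero]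

/-- the pencil identity with equal parameters, as used for squaring in characteristic two -/
theorem Sab_pencil_same {v z z' : Fin m ⊕ Fin m → F} (hvz : Cfsg.sympForm m F v z = 0)
    (hvz' : Cfsg.sympForm m F v z' = 0) (g : F) :
    Sab v z g * Sab v z' g * Sab v (z + z') (-g)
      = Tr v (g ^ 2 * Cfsg.sympForm m F z' z) := by
  have hZ : Cfsg.sympForm m F v (z + z') = 0 := by
    rw [sympForm_add_right, hvz, hvz', add_zero]
  have h := Sab_pencil hvz hvz' g g
  rw [← smul_add, Sab_smul_right hZ, mul_one, Sab_inv hZ] at h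
  rw [h]
  congr 1
  ring

/-! ### parameter groups -/

/-- the additive group of parameters `c` with `Tr v c ∈ M` -/
def Apar (M : Subgroup (Matrix.symplecticGroup (Fin m) F)) (v : Fin m ⊕ Fin m → F) : AddSubgroup F where
  carrier := {c | Tr v c ∈ M}
  add_mem' := by
    intro c d hc hd
    show Tr v (c + d) ∈ M
    rw [← Tr_mul]
    exact M.mul_mem hc hd
  zero_mem' := by
    show Tr v (0 : F) ∈ M
    rw [Tr_zero]
    exact M.one_mem
  neg_mem' := by
    intro c hc
    show Tr v (-c) ∈ M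
    rw [Tr_neg]
    exact M.inv_mem hc

variable {M : Subgroup (Matrix.symplecticGroup (Fin m) F)}

theorem mem_Apar (v : Fin m ⊕ Fin m → F) (c : F) : c ∈ Apar M v ↔ Tr v c ∈ M := Iff.rfl

theorem Apar_ap {g : Matrix.symplecticGroup (Fin m) F} (hg : g ∈ M) (v : Fin m ⊕ Fin m → F) :
    Apar M (ap g v) = Apar M v := by
  ext c
  rw [mem_Apar, mem_Apar, ← conj_Tr']
  constructor
  · intro h
    have : Tr v c = g⁻¹ * (g * Tr v c * g⁻¹) * g := by group
    rw [this]
    exact M.mul_mem (M.mul_mem (M.inv_mem hg) h) hg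
  · intro h
    exact M.mul_mem (M.mul_mem hg h) (M.inv_mem hg)

theorem mem_Rt_iff_Apar (v : Fin m ⊕ Fin m → F) : v ∈ Rt M ↔ Apar M v = ⊤ := by
  constructor
  · intro h
    rw [eq_top_iff]
    intro c _
    exact h c
  · intro h c
    have : c ∈ Apar M v := by rw [h]; trivial
    exact this

theorem Apar_smul (t : F) (v : Fin m ⊕ Fin m → F) (c : F) :
    c ∈ Apar M (t • v) ↔ t ^ 2 * c ∈ Apar M v := by
  rw [mem_Apar, mem_Apar, Tr_smul]

theorem Apar_neg_vec (v : Fin m ⊕ Fin m → F) : Apar M (-v) = Apar M v := by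
  ext c
  have : -v = (-1 : F) • v := by rw [neg_smul, one_smul]
  rw [this, Apar_smul]
  have : (-1 : F) ^ 2 * c = c := by ring
  rw [this]

theorem Sab_mem_of_Apar {a b : Fin m ⊕ Fin m → F} {c : F} (hab : c ∈ Apar M (a + b))
    (ha : c ∈ Apar M a) (hb : c ∈ Apar M b) : Sab a b c ∈ M :=
  Sab_mem hab ha hb

/-- (R3) as a statement on parameter groups: conjugating by a Siegel element of `M` -/
theorem Apar_conj_Sab {v z : Fin m ⊕ Fin m → F} (hvz : Cfsg.sympForm m F v z = 0) {a : F}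
    (hS : Sab v z a ∈ M) (y : Fin m ⊕ Fin m → F) :
    Apar M (y + a • (Cfsg.sympForm m F y v • z + Cfsg.sympForm m F y z • v)) = Apar M y := by
  rw [← ap_Sab hvz]
  exact Apar_ap hS y

end Cfsg.Agent.Lib.Helper6.SpGen
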