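import Mathlib

/-!
# S5672 (C7 unitary) — STAGE III (sub-planner helper19), leaf **A8** `exists_down` (helper6), exact signature of
`notes/S5672_III_leaves.lean` (pure combinatorics of `Fin.succAbove`).
-/

set_option autoImplicit false
set_option linter.unusedSectionVars false
set_option linter.unusedVariables false

namespace Cfsg.Agent.Lib.Helper6.TWU3Leaf

variable {t : ℕ}

/-- A8 (S) -/
theorem exists_down (j : Fin (t + 1)) (J : Finset (Fin (t + 1))) (hj : j ∉ J) :
    ∃ J' : Finset (Fin t), J = J'.map (Fin.succAboveEmb j) ∧ J'.card = J.card := by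
  classical
  have hJ : J = (Finset.univ.filter (fun i : Fin t => j.succAbove i ∈ J)).map (Fin.succAboveEmb j) := by
    ext x
    rw [Finset.mem_map]
    constructor
    · intro hx
      have hxj : x ≠ j := fun h => hj (h ▸ hx)
      obtain ⟨i, hi⟩ := Fin.exists_succAbove_eq hxj
      refine ⟨i, ?_, ?_⟩
      · rw [Finset.mem_filter]
        exact ⟨Finset.mem_univ i, by rw [hi]; exact hx⟩
      · rw [Fin.succAboveEmb_apply]; exact hi
    · rintro ⟨i, hi, rfl⟩
      rw [Finset.mem_filter] at hi
      rw [Fin.succAboveEmb_apply]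
      exact hi.2
  refine ⟨_, hJ, ?_⟩
  conv_rhs => rw [hJ]
  rw [Finset.card_map]

end Cfsg.Agent.Lib.Helper6.TWU3Leaf
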