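/-
helper6: PART H of S4503 with `≤` instead of `<` (for the equality case S4504): `partH_le`.  Same spine as `BRHMain.partH`
(only the final arithmetic differs).  Below the original header of `BRHMain`:
helper6: S4503 (Brauer: p ∥ |G|, no normal subgroup of order p, χ faithful ⇒ p ≤ 2 χ(1) + 1), PART H (the principal-block
argument), the SPINE over the leaves of `notes/S4503_H_leaves.lean`:
* `exists_B0` : the principal block of a group with a Sylow `p`-subgroup of order `p` in the form `BRH.B0`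
  (DO-FULL at `θ = 1_C`, `T = N` + VALS, TRIVX, SUMY, PSUMY, DEGREL);
* `partH` : the output of PART E (helper14: `ψ'` etc.) is contradictory when `G` is the normal closure of `P`.
-/
import Mathlib
import Cfsg.Prelude.Def_BlockRank
import Cfsg.Agent.Lib.Helper6.BRHDefs
import Cfsg.Agent.Lib.Helper7.DOS4441
import Cfsg.Agent.Lib.Helper8.DOMFinal
import Cfsg.Agent.Lib.Helper8.DOFULL
import Cfsg.Agent.Lib.Helper26.DODEFP
import Cfsg.Agent.Lib.Lead.CharDecomp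
import Cfsg.Agent.Lib.Helper6.BRHPHI
import Cfsg.Agent.Lib.Helper6.BRHNE
import Cfsg.Agent.Lib.Helper6.BRHARITH
import Cfsg.Agent.Lib.Helper6.BRHFROBB
import Cfsg.Agent.Lib.Helper16.BRHVALS
import Cfsg.Agent.Lib.Helper16.BRHTRIVX
import Cfsg.Agent.Lib.Helper23.BRHDEGM
import Cfsg.Agent.Lib.Helper23.BRHDEGP
import Cfsg.Agent.Lib.Helper7.BRHSUMY
import Cfsg.Agent.Lib.Helper7.BRHPSUMY
import Cfsg.Agent.Lib.Helper6.BRHDEGREL
import Cfsg.Agent.Lib.Helper6.BRHCNT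
import Cfsg.Agent.Lib.Helper6.BRHY0
import Cfsg.Agent.Lib.Helper6.BRHPFIX
import Cfsg.Agent.Lib.Helper29.BRHLAM
import Cfsg.Agent.Lib.Helper10.BRHROW
import Cfsg.Agent.Lib.Helper10.BRHFROBA
import Cfsg.Agent.Lib.Helper6.BRHMain

set_option autoImplicit false

namespace Cfsg.Agent.Lib.Helper6.BRHLe

open Cfsg Cfsg.Agent.Lib.Helper8.DOM Cfsg.Agent.Lib.Helper27.DO Cfsg.Agent.CharLib
open Cfsg.Agent.Lib.Helper6.BRH Cfsg.Agent.Lib.Helper7.DOS4441
open Cfsg.Agent.Lib.Helper6.BRHPHI Cfsg.Agent.Lib.Helper6.BRHNE Cfsg.Agent.Lib.Helper6.BRHARITH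
open Cfsg.Agent.Lib.Helper6.BRHFROBB Cfsg.Agent.Lib.Helper16.BRHVALS Cfsg.Agent.Lib.Helper16.BRHTRIVX
open Cfsg.Agent.Lib.Helper23.BRHDEGM Cfsg.Agent.Lib.Helper23.BRHDEGP Cfsg.Agent.Lib.Helper7.BRHSUMY
open Cfsg.Agent.Lib.Helper7.BRHPSUMY Cfsg.Agent.Lib.Helper6.BRHDEGREL Cfsg.Agent.Lib.Helper6.BRHCNT
open Cfsg.Agent.Lib.Helper6.BRHY0 Cfsg.Agent.Lib.Helper6.BRHPFIX Cfsg.Agent.Lib.Helper29.BRHLAM
open Cfsg.Agent.Lib.Helper10.BRHROW Cfsg.Agent.Lib.Helper10.BRHFROBA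
open Cfsg.Agent.Lib.Helper6.BRHMain
open scoped ComplexConjugate

universe u

variable {G : Type u} [Group G] [Finite G] {p : ℕ} [Fact p.Prime] {M : Ideal AlgInt}

/-- ARITH with `≤`: the final arithmetic leaves only `p - 1 = 2 f`. -/
theorem arith_le {p : ℕ} [Fact p.Prime] (f n a : ℕ) (hfdvd : f ∣ p - 1) (hf2 : 2 ≤ f) (hfn : f ≤ n)
    (hdeg : 2 * n + 1 ≤ p) (hcnt : f ≤ 2 * a + 1) (hfrob : (p - 1) * a ≤ f ^ 2) : 2 * f = p - 1 := by
  have hpp : p.Prime := Fact.out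
  obtain ⟨q, hq⟩ := hfdvd
  have hq2 : 2 ≤ q := by
    by_contra h
    have h2 : q ≤ 1 := by omega
    have : f * q ≤ f * 1 := Nat.mul_le_mul_left f h2
    omega
  rcases Nat.lt_or_ge q 3 with h3 | h3
  · have hq' : q = 2 := by omega
    rw [hq'] at hq
    omega
  · exfalso
    have ha1 : 1 ≤ a := by omega
    have h1 : f * (3 * a) ≤ f * f := by
      calc f * (3 * a) = (f * 3) * a := by ring
        _ ≤ (f * q) * a := Nat.mul_le_mul_right a (Nat.mul_le_mul_left f h3)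
        _ = (p - 1) * a := by rw [hq]
        _ ≤ f ^ 2 := hfrob
        _ = f * f := by ring
    have h2 : 3 * a ≤ f := Nat.le_of_mul_le_mul_left h1 (by omega)
    have ha : a = 1 := by omega
    subst ha
    have hf3 : f = 3 := by omega
    subst hf3
    have h4 : 3 * q ≤ 9 := by
      have : (p - 1) * 1 ≤ 3 ^ 2 := hfrob
      rw [hq] at this
      omega
    have hq' : q = 3 := by omega
    subst hq'
    have hp10 : p = 10 := by omega
    rw [hp10] at hpp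
    exact absurd hpp (by norm_num)

/-- PART H with `≤` (for the equality case S4504): the output of PART E with `2 ψ(1) + 1 ≤ p` forces `f = (p-1)/2`. -/
theorem partH_le (hM : IsPModular p M) (P : Subgroup G) (hP : Nat.card P = p) (hSyl : ¬ p ∣ P.index)
    (hcl : Subgroup.normalClosure (P : Set G) = ⊤) (ψ ψ' : IrrCharacter G)
    (hreg : ∀ g : G, ¬ p ∣ orderOf g → (ψ' : G → ℂ) g = (ψ : G → ℂ) g)
    (hP0 : ∑ᶠ x ∈ (P : Set G), (ψ : G → ℂ) x * conj ((ψ' : G → ℂ) x) = 0)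
    (hf2 : 2 ≤ (Cz P).relIndex (Nz P))
    (hfn : (Cz P).relIndex (Nz P) ≤ charDegree (ψ : G → ℂ))
    (hdeg : 2 * charDegree (ψ : G → ℂ) + 1 ≤ p)
    (hK : (p : ℝ) * ∑ᶠ y ∈ {y : G | y ∈ Cz P ∧ ¬ p ∣ orderOf y}, Complex.normSq ((ψ : G → ℂ) y) ≤
      ((Cz P).relIndex (Nz P) : ℝ) ^ 2 * (Nat.card (Cz P) : ℝ)) :
    2 * (Cz P).relIndex (Nz P) = p - 1 := by
  classical
  have hpp : p.Prime := Fact.out
  have hp2 : 2 ≤ p := hpp.two_le
  have hf : (Cz P).relIndex (Nz P) < p - 1 := by omega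
  obtain ⟨X, Y, v, ε, d⟩ := exists_B0 hM P hP hSyl hf
  obtain ⟨lam, hlam⟩ := exists_lam hM P hP hSyl
  have hψc := IsIrrCharacter.isCharacter ψ.2
  have hψ'c := IsIrrCharacter.isCharacter ψ'.2
  obtain ⟨mA, hA⟩ := IsCharacter.exists_decomp (IsCharacter.mul hψc (IsCharacter.conj hψc))
  obtain ⟨mL, hL⟩ := IsCharacter.exists_decomp (IsCharacter.mul hψc (IsCharacter.conj hψ'c))
  have hne := ne_of_psum P ψ ψ' hP0
  -- (1) the pairing with `X`
  have hX : ∀ η ∈ X, (mA η : ℤ) - (mL η : ℤ) = v η := by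
    intro η hη
    have h1 := phi_pairing (p := p) ψ ψ' hne hreg mA mL hA hL {η} (v η) (by
      intro g hg
      rw [finsum_mem_singleton]
      exact d.valX η hη g hg)
    rwa [finsum_mem_singleton] at h1
  have hYsum : ∑ᶠ η ∈ Y, ((mA η : ℤ) - (mL η : ℤ)) = -ε := by
    apply phi_pairing (p := p) ψ ψ' hne hreg mA mL hA hL Y (-ε)
    intro g hg
    rw [d.sumY g hg, Int.cast_neg]
  -- (2) fixed points
  have hfix := psum_constituent P ψ ψ' mL hL hP0
  have hmL : ∀ η ∈ X, v η = -1 → mL η ≠ 0 := by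
    intro η hη hv h0
    have := hX η hη
    rw [hv, h0] at this
    have h2 : (0 : ℤ) ≤ (mA η : ℤ) := Int.natCast_nonneg _
    push_cast at this
    omega
  have hminus : ∀ η ∈ X, v η = -1 → charDegree (η : G → ℂ) = p - 1 := by
    intro η hη hv
    apply degree_minus P hP η
    · intro g hg
      rw [d.valX η hη g hg, hv]
      norm_num
    · exact hfix η (hmL η hη hv)
  have hplus : ∀ η ∈ X, v η = 1 → η ≠ trivIrr G → p + 1 ≤ charDegree (η : G → ℂ) := by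
    intro η hη hv hne'
    apply degree_plus P hP hcl η hne'
    intro g hg
    rw [d.valX η hη g hg, hv]
    norm_num
  -- (3) the exceptional characters
  have hYdeg : ε = 1 → ∀ ψ0 ∈ Y, charDegree (ψ0 : G → ℂ) = (Cz P).relIndex (Nz P) :=
    fun hε => degY_of_pos P hP d hε mA mL hYsum hfix
  -- (4) counting
  have hcnt := count_le P hP d hf hYdeg hminus hplus
  -- (5) restriction to `C`
  set S : Set (IrrCharacter G) := {η : IrrCharacter G | η ∈ X ∧ v η = -1} with hSdef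
  have hrow : ∀ η ∈ S, ∀ u : ZMod p, u ≠ 0 →
      ∃ m : ℕ, 1 ≤ m ∧ mult (Cz P) (η : G → ℂ) (lam u : Cz P → ℂ) = (m : ℂ) := by
    rintro η ⟨hη, hv⟩ u hu
    apply row_of_lam P lam hlam η _ u hu
    intro c _ hc
    rw [d.valX η hη c hc, hv]
    norm_num
  have hge : ∀ u : ZMod p, u ≠ 0 → ∃ m : ℕ, Nat.card S ≤ m ∧
      mult (Cz P) (fun g => (ψ : G → ℂ) g * conj ((ψ' : G → ℂ) g)) (lam u : Cz P → ℂ) = (m : ℂ) :=
    fun u hu => mult_ge P lam ψ ψ' mL hL S (fun η hη => hmL η hη.1 hη.2) u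
      (fun η hη => hrow η hη u hu)
  obtain ⟨n, hn⟩ := sum_mult_eq P lam hlam ψ ψ' hreg
  have hfrob : (p - 1) * Nat.card S ≤ ((Cz P).relIndex (Nz P)) ^ 2 := by
    have : NeZero p := ⟨hpp.ne_zero⟩
    choose m hm1 hm2 using hge
    have h1 : ∑ᶠ u ∈ {u : ZMod p | u ≠ 0},
        mult (Cz P) (fun g => (ψ : G → ℂ) g * conj ((ψ' : G → ℂ) g)) (lam u : Cz P → ℂ) =
        ((∑ u ∈ (Finset.univ.filter fun u : ZMod p => u ≠ 0),
          if h : u ≠ 0 then m u h else 0 : ℕ) : ℂ) := by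
      rw [finsum_mem_eq_finite_toFinset_sum _ (Set.toFinite _)]
      push_cast
      apply Finset.sum_congr
      · ext u
        simp
      · intro u hu
        have hu' : u ≠ 0 := by simpa using hu
        rw [dif_pos hu', hm2 u hu']
    have h2 : (p - 1) * Nat.card S ≤ ∑ u ∈ (Finset.univ.filter fun u : ZMod p => u ≠ 0),
          if h : u ≠ 0 then m u h else 0 := by
      have h3 : (Finset.univ.filter fun u : ZMod p => u ≠ 0).card = p - 1 := by
        rw [Finset.filter_ne' Finset.univ (0 : ZMod p), Finset.card_erase_of_mem (Finset.mem_univ _),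
          Finset.card_univ, ZMod.card]
      rw [← h3, ← smul_eq_mul, ← Finset.sum_const]
      apply Finset.sum_le_sum
      intro u hu
      have hu' : u ≠ 0 := by simpa using hu
      rw [dif_pos hu']
      exact hm1 u hu'
    set N1 : ℕ := ∑ u ∈ (Finset.univ.filter fun u : ZMod p => u ≠ 0),
          if h : u ≠ 0 then m u h else 0 with hN1
    rw [h1] at hn
    have hC0 : (0 : ℝ) < (Nat.card (Cz P) : ℝ) := by exact_mod_cast Nat.card_pos
    set Kn : ℝ := ∑ᶠ y ∈ {y : G | y ∈ Cz P ∧ ¬ p ∣ orderOf y}, Complex.normSq ((ψ : G → ℂ) y)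
      with hKn
    have h4 : ((N1 : ℝ) + (n : ℝ)) = (p : ℝ) * (Nat.card (Cz P) : ℝ)⁻¹ * Kn := by
      have h5 : (((N1 : ℝ) + (n : ℝ) : ℝ) : ℂ) =
          (((p : ℝ) * (Nat.card (Cz P) : ℝ)⁻¹ * Kn : ℝ) : ℂ) := by
        push_cast
        push_cast at hn
        rw [hn]
        ring
      exact_mod_cast h5
    have h6 : (p : ℝ) * (Nat.card (Cz P) : ℝ)⁻¹ * Kn ≤ ((Cz P).relIndex (Nz P) : ℝ) ^ 2 := by
      have h7 : (p : ℝ) * (Nat.card (Cz P) : ℝ)⁻¹ * Kn =
          ((p : ℝ) * Kn) * (Nat.card (Cz P) : ℝ)⁻¹ := by ring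
      rw [h7, ← div_eq_mul_inv, div_le_iff₀ hC0]
      exact hK
    have h8 : ((N1 : ℝ)) ≤ ((Cz P).relIndex (Nz P) : ℝ) ^ 2 := by
      have : (0 : ℝ) ≤ (n : ℝ) := Nat.cast_nonneg n
      linarith
    have h9 : N1 ≤ ((Cz P).relIndex (Nz P)) ^ 2 := by exact_mod_cast h8
    exact le_trans h2 h9
  -- (6) arithmetic
  exact arith_le (p := p) ((Cz P).relIndex (Nz P)) (charDegree (ψ : G → ℂ)) (Nat.card S) d.dvd hf2 hfn
    hdeg hcnt hfrob

end Cfsg.Agent.Lib.Helper6.BRHLe
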