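/-
helper6: S4504, step (IV), the combinatorial core (`core`): the multiplicities `mA`, `mL` of `ψ ψ̄`, `ψ ψ̄'` are determined
by the degree count when `ψ(1) = f = (p-1)/2`.
-/
import Mathlib

set_option autoImplicit false

namespace Cfsg.Agent.Lib.Helper6.BRHEqCore

open Finset

variable {ι : Type*} [Fintype ι] [DecidableEq ι]

/-- a sum of naturals over `univ` that is already reached on `S` vanishes off `S` and is termwise tight on `S` -/
theorem tight_of_sum_le (g : ι → ℕ) (S : Finset ι) (lo : ι → ℕ) (T : ℕ) (hsum : ∑ η, g η = T)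
    (hlo : ∀ η ∈ S, lo η ≤ g η) (hT : T ≤ ∑ η ∈ S, lo η) :
    (∀ η ∈ S, g η = lo η) ∧ ∀ η, η ∉ S → g η = 0 := by
  have h1 : ∑ η ∈ S, g η + ∑ η ∈ Sᶜ, g η = T := by rw [Finset.sum_add_sum_compl, hsum]
  have h2 : ∑ η ∈ S, lo η ≤ ∑ η ∈ S, g η := Finset.sum_le_sum hlo
  have h3 : ∑ η ∈ Sᶜ, g η = 0 := by omega
  have h4 : ∑ η ∈ S, g η = ∑ η ∈ S, lo η := by omega
  constructor
  · intro η hη
    by_contra hne
    have hlt : lo η < g η := lt_of_le_of_ne (hlo η hη) (Ne.symm hne)
    have : ∑ η ∈ S, lo η < ∑ η ∈ S, g η := Finset.sum_lt_sum hlo ⟨η, hη, hlt⟩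
    omega
  · intro η hη
    exact (Finset.sum_eq_zero_iff.mp h3) η (Finset.mem_compl.mpr hη)


omit [Fintype ι] [DecidableEq ι] in
/-- a sum of `card` terms each `≥ c` with total `card * c` is termwise tight -/
theorem eq_of_sum_eq_card_mul (S : Finset ι) (g : ι → ℕ) (c : ℕ) (h : ∀ η ∈ S, c ≤ g η)
    (hs : ∑ η ∈ S, g η ≤ S.card * c) : ∀ η ∈ S, g η = c := by
  intro η hη
  by_contra hne
  have hlt : c < g η := lt_of_le_of_ne (h η hη) (Ne.symm hne)
  have h1 : ∑ _η ∈ S, c < ∑ η ∈ S, g η := Finset.sum_lt_sum h ⟨η, hη, hlt⟩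
  rw [Finset.sum_const, smul_eq_mul] at h1
  omega

/-- arithmetic of the even case -/
theorem arith_even (a f : ℕ) (ha1 : 1 ≤ a) (heven : f = 2 * a) :
    f ^ 2 = (f + 1) + (1 + (a - 1) * (2 * f + 2)) := by
  obtain ⟨a', rfl⟩ : ∃ a', a = a' + 1 := ⟨a - 1, by omega⟩
  subst heven
  simp only [Nat.add_sub_cancel]
  ring

set_option maxHeartbeats 1600000 in
/-- the combinatorial core of step (IV) -/
theorem core (deg mA mL : ι → ℕ) (hdeg : ∀ i, 0 < deg i)
    (X Y : Finset ι) (hXY : Disjoint X Y) (v : ι → ℤ) (hv : ∀ η ∈ X, v η = 1 ∨ v η = -1)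
    (t : ι) (ht : t ∈ X) (hvt : v t = 1) (hdt : deg t = 1) (f : ℕ) (hf2 : 2 ≤ f) (hcard : X.card = f)
    (ε : ℤ) (hε : ε = 1 ∨ ε = -1)
    (h1 : ∀ η ∈ X, (mA η : ℤ) - mL η = v η)
    (h2 : ∑ ξ ∈ Y, ((mA ξ : ℤ) - mL ξ) = -ε)
    (hA : ∑ η, mA η * deg η = f ^ 2) (hL : ∑ η, mL η * deg η = f ^ 2)
    (hm : ∀ η ∈ X, v η = -1 → deg η = 2 * f)
    (hp : ∀ η ∈ X, v η = 1 → η ≠ t → 2 * f + 2 ≤ deg η)
    (dY : ℕ) (hdY : ∀ ξ ∈ Y, deg ξ = dY) (hYne : Y.Nonempty)
    (hrel : ε * dY = ∑ η ∈ X, v η * deg η)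
    (hmod : (dY : ℤ) ≡ ε * f [ZMOD (2 * (f : ℤ) + 1)])
    (hpos : ε = 1 → dY = f) :
    (∀ η ∈ X, v η = 1 → η ≠ t → deg η = 2 * f + 2) ∧
    ((Odd f ∧ ε = 1 ∧ dY = f ∧ 2 * (X.filter (fun η => v η = -1)).card + 1 = f ∧
       (∀ η, mA η = if η ∈ X ∧ v η = 1 then 1 else 0) ∧
       ∃ ξ0 ∈ Y, ∀ η, mL η = if (η ∈ X ∧ v η = -1) ∨ η = ξ0 then 1 else 0) ∨
     (Even f ∧ ε = -1 ∧ dY = f + 1 ∧ 2 * (X.filter (fun η => v η = -1)).card = f ∧
       (∃ ξ0 ∈ Y, ∀ η, mA η = if (η ∈ X ∧ v η = 1) ∨ η = ξ0 then 1 else 0) ∧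
       ∀ η, mL η = if η ∈ X ∧ v η = -1 then 1 else 0)) := by
  classical
  set Sm := X.filter (fun η => v η = -1) with hSm
  set Sq := X.filter (fun η => ¬ v η = -1) with hSq
  set a := Sm.card with ha
  set q := Sq.card with hq
  have haq : a + q = f := by
    rw [ha, hq, hSm, hSq, Finset.card_filter_add_card_filter_not, hcard]
  have hmemSm : ∀ η, η ∈ Sm ↔ η ∈ X ∧ v η = -1 := fun η => by rw [hSm, Finset.mem_filter]
  have hmemSq : ∀ η, η ∈ Sq ↔ η ∈ X ∧ v η = 1 := by
    intro η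
    rw [hSq, Finset.mem_filter]
    constructor
    · rintro ⟨hX, hne⟩
      rcases hv η hX with h | h
      · exact ⟨hX, h⟩
      · exact absurd h hne
    · rintro ⟨hX, h⟩
      exact ⟨hX, by rw [h]; norm_num⟩
  have htq : t ∈ Sq := (hmemSq t).mpr ⟨ht, hvt⟩
  have hq1 : 1 ≤ q := Finset.card_pos.mpr ⟨t, htq⟩
  have hdisjmq : Disjoint Sm Sq := by
    rw [Finset.disjoint_left]
    intro η h1' h2'
    have := ((hmemSm η).mp h1').2
    have := ((hmemSq η).mp h2').2
    omega
  -- multiplicities on `X`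
  have hmLm : ∀ η ∈ Sm, mL η = mA η + 1 := by
    intro η hη
    have h3 := h1 η ((hmemSm η).mp hη).1
    rw [((hmemSm η).mp hη).2] at h3
    omega
  have hmAq : ∀ η ∈ Sq, mA η = mL η + 1 := by
    intro η hη
    have h3 := h1 η ((hmemSq η).mp hη).1
    rw [((hmemSq η).mp hη).2] at h3
    omega
  -- the sum over `X`
  set D := ∑ η ∈ Sq.erase t, deg η with hD
  have hDlo : (q - 1) * (2 * f + 2) ≤ D := by
    have h3 := Finset.card_nsmul_le_sum (Sq.erase t) deg (2 * f + 2) (by
      intro η hη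
      rw [Finset.mem_erase] at hη
      exact hp η ((hmemSq η).mp hη.2).1 ((hmemSq η).mp hη.2).2 hη.1)
    rwa [Finset.card_erase_of_mem htq, smul_eq_mul] at h3
  have hsumq : ∑ η ∈ Sq, deg η = 1 + D := by
    rw [← Finset.add_sum_erase Sq deg htq, hdt]
  have hsumm : ∑ η ∈ Sm, deg η = a * (2 * f) := by
    rw [Finset.sum_congr rfl (fun η hη => hm η ((hmemSm η).mp hη).1 ((hmemSm η).mp hη).2),
      Finset.sum_const, smul_eq_mul]
  have hrel' : ε * dY = 1 + (D : ℤ) - (a : ℤ) * (2 * f) := by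
    rw [hrel, ← Finset.sum_filter_add_sum_filter_not X (fun η => v η = -1), ← hSm, ← hSq]
    have h3 : ∑ η ∈ Sm, v η * (deg η : ℤ) = -((a : ℤ) * (2 * f)) := by
      rw [Finset.sum_congr rfl (fun η hη => by
        rw [((hmemSm η).mp hη).2, hm η ((hmemSm η).mp hη).1 ((hmemSm η).mp hη).2]),
        Finset.sum_const, nsmul_eq_mul]
      push_cast
      ring
    have h4 : ∑ η ∈ Sq, v η * (deg η : ℤ) = 1 + (D : ℤ) := by
      rw [Finset.sum_congr rfl (fun η hη => by rw [((hmemSq η).mp hη).2, one_mul])]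
      have : ((∑ η ∈ Sq, deg η : ℕ) : ℤ) = ((1 + D : ℕ) : ℤ) := by rw [hsumq]
      push_cast at this
      exact this
    rw [h3, h4]
    ring
  -- `2 a ≤ f`
  have h2a : 2 * a ≤ f := by
    have h3 : a * (2 * f) ≤ f ^ 2 := by
      calc a * (2 * f) = ∑ η ∈ Sm, deg η := hsumm.symm
        _ ≤ ∑ η ∈ Sm, mL η * deg η := by
            apply Finset.sum_le_sum
            intro η hη
            have := hmLm η hη
            exact Nat.le_mul_of_pos_left _ (by omega)
        _ ≤ ∑ η, mL η * deg η := Finset.sum_le_sum_of_subset (Finset.subset_univ _)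
        _ = f ^ 2 := hL
    have h4 : (2 * a) * f ≤ f * f := by
      calc (2 * a) * f = a * (2 * f) := by ring
        _ ≤ f ^ 2 := h3
        _ = f * f := by ring
    exact Nat.le_of_mul_le_mul_right h4 (by omega)
  -- `ε dY ≤ f`
  have hup : ε * dY ≤ (f : ℤ) := by
    rcases hε with h | h
    · rw [h, one_mul, hpos h]
    · rw [h]
      have : (0 : ℤ) ≤ (dY : ℤ) := Int.natCast_nonneg _
      have : (0 : ℤ) ≤ (f : ℤ) := Int.natCast_nonneg _
      linarith
  have hDloZ : ((q : ℤ) - 1) * (2 * f + 2) ≤ (D : ℤ) := by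
    have : (((q - 1) * (2 * f + 2) : ℕ) : ℤ) ≤ (D : ℤ) := by exact_mod_cast hDlo
    rw [Nat.cast_mul, Nat.cast_sub hq1] at this
    push_cast at this
    exact this
  have haqZ : (a : ℤ) + q = f := by exact_mod_cast haq
  -- `f ≤ 2 a + 1`
  have hfa : f ≤ 2 * a + 1 := by
    by_contra hcon
    have h3 : (2 : ℤ) * a + 2 ≤ f := by
      have : 2 * a + 2 ≤ f := by omega
      exact_mod_cast this
    have hf0 : (0 : ℤ) ≤ (f : ℤ) := Int.natCast_nonneg _
    have ha0 : (0 : ℤ) ≤ (a : ℤ) := Int.natCast_nonneg _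
    nlinarith
  have hdYpos : 0 < dY := by
    obtain ⟨ξ, hξ⟩ := hYne
    rw [← hdY ξ hξ]
    exact hdeg ξ
  rcases (by omega : f = 2 * a + 1 ∨ f = 2 * a) with hodd | heven
  · -- `f` odd
    have hq' : q = a + 1 := by omega
    have hD1 : a * (2 * f + 2) ≤ D := by
      have := hDlo
      rw [hq'] at this
      simpa using this
    have hDZ : ((a : ℤ)) * (2 * f + 2) ≤ (D : ℤ) := by exact_mod_cast hD1
    have hfZ : (f : ℤ) = 2 * a + 1 := by exact_mod_cast hodd
    have hεd : ε * dY = f := by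
      apply le_antisymm hup
      rw [hrel']
      nlinarith
    have hDeq : D = a * (2 * f + 2) := by
      have : (D : ℤ) = (a : ℤ) * (2 * f + 2) := by
        rw [hrel'] at hεd
        nlinarith
      exact_mod_cast this
    have hε1 : ε = 1 := by
      rcases hε with h | h
      · exact h
      · rw [h] at hεd
        have : (0 : ℤ) ≤ (dY : ℤ) := Int.natCast_nonneg _
        have : (2 : ℤ) ≤ f := by exact_mod_cast hf2
        linarith
    have hdYf : dY = f := hpos hε1
    have hdegq : ∀ η ∈ Sq.erase t, deg η = 2 * f + 2 := by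
      apply eq_of_sum_eq_card_mul
      · intro η hη
        rw [Finset.mem_erase] at hη
        exact hp η ((hmemSq η).mp hη.2).1 ((hmemSq η).mp hη.2).2 hη.1
      · rw [Finset.card_erase_of_mem htq, ← hD, hDeq]
        have : q - 1 = a := by omega
        rw [this]
    have hfsq : f ^ 2 = 1 + a * (2 * f + 2) := by
      rw [hodd]
      ring
    -- `mA`
    have hmA := tight_of_sum_le (fun η => mA η * deg η) Sq deg (f ^ 2) hA
      (by
        intro η hη
        have := hmAq η hη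
        exact Nat.le_mul_of_pos_left _ (by omega))
      (by rw [hsumq, hDeq, hfsq])
    have hmA1 : ∀ η ∈ Sq, mA η = 1 := by
      intro η hη
      have h3 := hmA.1 η hη
      have h4 : mA η * deg η = 1 * deg η := by simpa using h3
      exact Nat.eq_of_mul_eq_mul_right (hdeg η) h4
    have hmA0 : ∀ η, η ∉ Sq → mA η = 0 := by
      intro η hη
      have h3 := hmA.2 η hη
      rcases Nat.mul_eq_zero.mp h3 with h | h
      · exact h
      · exact absurd h (hdeg η).ne'
    -- a constituent of `Λ` in `Y`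
    have hY0 : ∃ ξ0 ∈ Y, 1 ≤ mL ξ0 := by
      by_contra hcon
      push Not at hcon
      have h3 : (0 : ℤ) ≤ ∑ ξ ∈ Y, ((mA ξ : ℤ) - mL ξ) := by
        apply Finset.sum_nonneg
        intro ξ hξ
        have := hcon ξ hξ
        have h4 : mL ξ = 0 := by omega
        rw [h4]
        simp
      rw [h2, hε1] at h3
      omega
    obtain ⟨ξ0, hξ0, hmLξ0⟩ := hY0
    have hξ0X : ξ0 ∉ X := fun h => (Finset.disjoint_left.mp hXY h) hξ0
    have hξ0Sm : ξ0 ∉ Sm := fun h => hξ0X ((hmemSm ξ0).mp h).1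
    have hmL := tight_of_sum_le (fun η => mL η * deg η) (insert ξ0 Sm) deg (f ^ 2) hL
      (by
        intro η hη
        rw [Finset.mem_insert] at hη
        rcases hη with rfl | hη
        · exact Nat.le_mul_of_pos_left _ hmLξ0
        · have := hmLm η hη
          exact Nat.le_mul_of_pos_left _ (by omega))
      (by
        rw [Finset.sum_insert hξ0Sm, hsumm, hdY ξ0 hξ0, hdYf, hodd]
        ring_nf
        omega)
    have hmL1 : ∀ η ∈ insert ξ0 Sm, mL η = 1 := by
      intro η hη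
      have h3 := hmL.1 η hη
      have h4 : mL η * deg η = 1 * deg η := by simpa using h3
      exact Nat.eq_of_mul_eq_mul_right (hdeg η) h4
    have hmL0 : ∀ η, η ∉ insert ξ0 Sm → mL η = 0 := by
      intro η hη
      have h3 := hmL.2 η hη
      rcases Nat.mul_eq_zero.mp h3 with h | h
      · exact h
      · exact absurd h (hdeg η).ne'
    refine ⟨?_, Or.inl ⟨⟨a, by omega⟩, hε1, hdYf, by omega, ?_, ξ0, hξ0, ?_⟩⟩
    · intro η hX hv1 hne
      exact hdegq η (Finset.mem_erase.mpr ⟨hne, (hmemSq η).mpr ⟨hX, hv1⟩⟩)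
    · intro η
      by_cases h : η ∈ X ∧ v η = 1
      · rw [if_pos h]
        exact hmA1 η ((hmemSq η).mpr h)
      · rw [if_neg h]
        exact hmA0 η (fun h' => h ((hmemSq η).mp h'))
    · intro η
      by_cases h : (η ∈ X ∧ v η = -1) ∨ η = ξ0
      · rw [if_pos h]
        apply hmL1
        rw [Finset.mem_insert]
        rcases h with h | h
        · exact Or.inr ((hmemSm η).mpr h)
        · exact Or.inl h
      · rw [if_neg h]
        apply hmL0
        rw [Finset.mem_insert]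
        rintro (h' | h')
        · exact h (Or.inr h')
        · exact h (Or.inl ((hmemSm η).mp h'))
  · -- `f` even
    have ha1 : 1 ≤ a := by omega
    have hq' : q = a := by omega
    have hfsq : f ^ 2 = a * (2 * f) := by
      rw [heven]
      ring
    -- `mL`
    have hmL := tight_of_sum_le (fun η => mL η * deg η) Sm deg (f ^ 2) hL
      (by
        intro η hη
        have := hmLm η hη
        exact Nat.le_mul_of_pos_left _ (by omega))
      (by rw [hsumm, hfsq])
    have hmL1 : ∀ η ∈ Sm, mL η = 1 := by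
      intro η hη
      have h3 := hmL.1 η hη
      have h4 : mL η * deg η = 1 * deg η := by simpa using h3
      exact Nat.eq_of_mul_eq_mul_right (hdeg η) h4
    have hmL0 : ∀ η, η ∉ Sm → mL η = 0 := by
      intro η hη
      have h3 := hmL.2 η hη
      rcases Nat.mul_eq_zero.mp h3 with h | h
      · exact h
      · exact absurd h (hdeg η).ne'
    -- `ε = -1` and a constituent of `A` in `Y`
    have hYL : ∀ ξ ∈ Y, mL ξ = 0 := by
      intro ξ hξ
      apply hmL0
      intro h
      exact (Finset.disjoint_left.mp hXY ((hmemSm ξ).mp h).1) hξ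
    have h2' : ∑ ξ ∈ Y, (mA ξ : ℤ) = -ε := by
      rw [← h2]
      apply Finset.sum_congr rfl
      intro ξ hξ
      rw [hYL ξ hξ]
      simp
    have hεm : ε = -1 := by
      rcases hε with h | h
      · exfalso
        have h3 : (0 : ℤ) ≤ ∑ ξ ∈ Y, (mA ξ : ℤ) :=
          Finset.sum_nonneg (fun ξ _ => Int.natCast_nonneg _)
        rw [h2', h] at h3
        omega
      · exact h
    have hY0 : ∃ ξ0 ∈ Y, 1 ≤ mA ξ0 := by
      by_contra hcon
      push Not at hcon
      have h3 : ∑ ξ ∈ Y, (mA ξ : ℤ) = 0 := by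
        apply Finset.sum_eq_zero
        intro ξ hξ
        have := hcon ξ hξ
        have h4 : mA ξ = 0 := by omega
        rw [h4]
        simp
      rw [h2', hεm] at h3
      omega
    obtain ⟨ξ0, hξ0, hmAξ0⟩ := hY0
    have hξ0X : ξ0 ∉ X := fun h => (Finset.disjoint_left.mp hXY h) hξ0
    have hξ0Sq : ξ0 ∉ Sq := fun h => hξ0X ((hmemSq ξ0).mp h).1
    -- `dY ≥ f + 1`
    have hdYlo : f + 1 ≤ dY := by
      rw [hεm] at hmod
      have h3 := (Int.modEq_iff_dvd.mp hmod)
      obtain ⟨k, hk⟩ := h3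
      have hdZ : (0 : ℤ) < (dY : ℤ) := by exact_mod_cast hdYpos
      have hf0 : (0 : ℤ) ≤ (f : ℤ) := Int.natCast_nonneg _
      have hk1 : k ≤ -1 := by
        by_contra hk0
        have hk0' : 0 ≤ k := by omega
        have : (0 : ℤ) ≤ (2 * (f : ℤ) + 1) * k := by positivity
        linarith
      have : (f : ℤ) + 1 ≤ dY := by nlinarith
      exact_mod_cast this
    have hD1 : (a - 1) * (2 * f + 2) ≤ D := by
      have := hDlo
      rwa [hq'] at this
    -- `mA`
    have hlow : f ^ 2 ≤ ∑ η ∈ insert ξ0 Sq, deg η := by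
      rw [Finset.sum_insert hξ0Sq, hsumq, hdY ξ0 hξ0]
      have h3 : f ^ 2 = (f + 1) + (1 + (a - 1) * (2 * f + 2)) := arith_even a f ha1 heven
      rw [h3]
      omega
    have hmA := tight_of_sum_le (fun η => mA η * deg η) (insert ξ0 Sq) deg (f ^ 2) hA
      (by
        intro η hη
        rw [Finset.mem_insert] at hη
        rcases hη with rfl | hη
        · exact Nat.le_mul_of_pos_left _ hmAξ0
        · have := hmAq η hη
          exact Nat.le_mul_of_pos_left _ (by omega))
      hlow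
    have hmA1 : ∀ η ∈ insert ξ0 Sq, mA η = 1 := by
      intro η hη
      have h3 := hmA.1 η hη
      have h4 : mA η * deg η = 1 * deg η := by simpa using h3
      exact Nat.eq_of_mul_eq_mul_right (hdeg η) h4
    have hmA0 : ∀ η, η ∉ insert ξ0 Sq → mA η = 0 := by
      intro η hη
      have h3 := hmA.2 η hη
      rcases Nat.mul_eq_zero.mp h3 with h | h
      · exact h
      · exact absurd h (hdeg η).ne'
    -- the degrees are tight
    have hsumS : ∑ η ∈ insert ξ0 Sq, deg η = f ^ 2 := by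
      apply le_antisymm _ hlow
      calc ∑ η ∈ insert ξ0 Sq, deg η = ∑ η ∈ insert ξ0 Sq, mA η * deg η := by
            apply Finset.sum_congr rfl
            intro η hη
            rw [hmA1 η hη, one_mul]
        _ ≤ ∑ η, mA η * deg η := Finset.sum_le_sum_of_subset (Finset.subset_univ _)
        _ = f ^ 2 := hA
    rw [Finset.sum_insert hξ0Sq, hsumq, hdY ξ0 hξ0] at hsumS
    have h3 : f ^ 2 = (f + 1) + (1 + (a - 1) * (2 * f + 2)) := arith_even a f ha1 heven
    have hdYeq : dY = f + 1 := by omega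
    have hDeq : D = (a - 1) * (2 * f + 2) := by omega
    have hdegq : ∀ η ∈ Sq.erase t, deg η = 2 * f + 2 := by
      apply eq_of_sum_eq_card_mul
      · intro η hη
        rw [Finset.mem_erase] at hη
        exact hp η ((hmemSq η).mp hη.2).1 ((hmemSq η).mp hη.2).2 hη.1
      · rw [Finset.card_erase_of_mem htq, ← hD, hDeq, ← hq, hq']
    refine ⟨?_, Or.inr ⟨⟨a, by omega⟩, hεm, hdYeq, by omega, ⟨ξ0, hξ0, ?_⟩, ?_⟩⟩
    · intro η hX hv1 hne
      exact hdegq η (Finset.mem_erase.mpr ⟨hne, (hmemSq η).mpr ⟨hX, hv1⟩⟩)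
    · intro η
      by_cases h : (η ∈ X ∧ v η = 1) ∨ η = ξ0
      · rw [if_pos h]
        apply hmA1
        rw [Finset.mem_insert]
        rcases h with h | h
        · exact Or.inr ((hmemSq η).mpr h)
        · exact Or.inl h
      · rw [if_neg h]
        apply hmA0
        rw [Finset.mem_insert]
        rintro (h' | h')
        · exact h (Or.inr h')
        · exact h (Or.inl ((hmemSq η).mp h'))
    · intro η
      by_cases h : η ∈ X ∧ v η = -1
      · rw [if_pos h]
        exact hmL1 η ((hmemSm η).mpr h)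
      · rw [if_neg h]
        exact hmL0 η (fun h' => h ((hmemSm η).mp h'))

end Cfsg.Agent.Lib.Helper6.BRHEqCore
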