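/-
helper6: S4504 (the equality case `p = 2 χ(1) + 1` of Brauer's theorem S4503), step (IV): when `ψ(1) = f = (p - 1)/2`
(`f = |N_G(P) : C_G(P)|`, `G` the normal closure of `P`), the products `ψ ψ̄` and `ψ ψ̄'` decompose inside the principal block
`B_0 = X ∪ Y` with all multiplicities `≤ 1`, and the degrees of `B_0` are `1, p + 1 (v = 1), p - 1 (v = -1)`, and `f` resp. `f + 1`
for the two exceptional characters:
* `f` odd  : `ε = 1`, `ξ(1) = f`, `ψ ψ̄ = 1 + ∑_{X⁺ ∖ 1} η`, `ψ ψ̄' = ∑_{X⁻} η + ξ0`, `2 |X⁻| + 1 = f`;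
* `f` even : `ε = -1`, `ξ(1) = f + 1`, `ψ ψ̄ = 1 + ∑_{X⁺ ∖ 1} η + ξ0`, `ψ ψ̄' = ∑_{X⁻} η`, `2 |X⁻| = f`.
`eq_case_full` (everything, including the data of `BRHB0X.exists_B0_full`), `eq_case` (the announced seam).
-/
import Mathlib
import Cfsg.Prelude.Def_BlockRank
import Cfsg.Agent.Lib.Helper6.BRHDefs
import Cfsg.Agent.Lib.Helper6.BRHB0X
import Cfsg.Agent.Lib.Helper6.BRHEqCore
import Cfsg.Agent.Lib.Helper29.DOTI

set_option autoImplicit false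

namespace Cfsg.Agent.Lib.Helper6.BRHEq

open Cfsg Cfsg.Agent.Lib.Helper8.DOM Cfsg.Agent.Lib.Helper27.DO Cfsg.Agent.CharLib
open Cfsg.Agent.Lib.Helper6.BRH
open Cfsg.Agent.Lib.Helper6.BRHPHI Cfsg.Agent.Lib.Helper6.BRHNE
open Cfsg.Agent.Lib.Helper23.BRHDEGM Cfsg.Agent.Lib.Helper23.BRHDEGP
open Cfsg.Agent.Lib.Helper6.BRHY0 Cfsg.Agent.Lib.Helper6.BRHPFIX
open Cfsg.Agent.Lib.Helper6.BRHB0X
open scoped ComplexConjugate

universe u

variable {G : Type u} [Group G] [Finite G] {p : ℕ} [Fact p.Prime] {M : Ideal AlgInt}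

/-- a decomposition with indicator multiplicities is the sum over the set -/
theorem finsum_indicator (m : IrrCharacter G → ℕ) (S : Set (IrrCharacter G))
    [DecidablePred (· ∈ S)]
    (hm : ∀ η, m η = if η ∈ S then 1 else 0) (g : G) :
    (∑ᶠ η : IrrCharacter G, m η • (η : G → ℂ)) g = ∑ᶠ η ∈ S, (η : G → ℂ) g := by
  classical
  let _ : Fintype (IrrCharacter G) := Fintype.ofFinite _
  rw [finsum_eq_sum_of_fintype, Finset.sum_apply,
    finsum_mem_eq_finite_toFinset_sum _ (Set.toFinite S)]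
  have h1 : (Set.toFinite S).toFinset = Finset.univ.filter (fun η => η ∈ S) := by
    ext η
    simp
  rw [h1, Finset.sum_filter]
  apply Finset.sum_congr rfl
  intro η _
  rw [Pi.smul_apply, hm η]
  split_ifs <;> simp

omit [Finite G] in
/-- the value of `trivIrr` -/
theorem trivIrr_apply (g : G) : ((trivIrr G : IrrCharacter G) : G → ℂ) g = 1 := rfl

omit [Finite G] in
theorem charDegree_trivIrr' : charDegree ((trivIrr G : IrrCharacter G) : G → ℂ) = 1 := by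
  apply charDegree_eq_of_apply_one
  rw [trivIrr_apply]
  norm_num

/-- step (IV), full form -/
theorem eq_case_full (hM : IsPModular p M) (P : Subgroup G) (hP : Nat.card P = p) (hSyl : ¬ p ∣ P.index)
    (hcl : Subgroup.normalClosure (P : Set G) = ⊤) (ψ ψ' : IrrCharacter G)
    (hreg : ∀ g : G, ¬ p ∣ orderOf g → (ψ' : G → ℂ) g = (ψ : G → ℂ) g)
    (hP0 : ∑ᶠ x ∈ (P : Set G), (ψ : G → ℂ) x * conj ((ψ' : G → ℂ) x) = 0)
    (hf2 : 2 ≤ (Cz P).relIndex (Nz P))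
    (h2f : 2 * (Cz P).relIndex (Nz P) = p - 1)
    (hψdeg : charDegree (ψ : G → ℂ) = (Cz P).relIndex (Nz P)) :
    ∃ (X Y : Set (IrrCharacter G)) (v : IrrCharacter G → ℤ) (ε : ℤ), B0 p P X Y v ε ∧
      principalBlock M G = X ∪ Y ∧
      (∀ η ∈ X, (charDegree (η : G → ℂ) : ℤ) ≡ v η [ZMOD p]) ∧
      (∀ ξ ∈ Y, (charDegree (ξ : G → ℂ) : ℤ) ≡ ε * ((Cz P).relIndex (Nz P) : ℤ) [ZMOD p]) ∧
      (∀ ξ ∈ Y, ∀ ξ' ∈ Y, ∀ g : G, ¬ p ∣ orderOf g → (ξ : G → ℂ) g = (ξ' : G → ℂ) g) ∧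
      (∀ ξ ∈ Y, ∀ g : G, ¬ p ∣ orderOf g →
        (ε : ℂ) * (ξ : G → ℂ) g = ∑ᶠ χ ∈ X, (v χ : ℂ) * (χ : G → ℂ) g) ∧
      v (trivIrr G) = 1 ∧
      (∀ η ∈ X, v η = 1 → η ≠ trivIrr G → charDegree (η : G → ℂ) = p + 1) ∧
      (∀ η ∈ X, v η = -1 → charDegree (η : G → ℂ) = p - 1) ∧
      ((Odd ((Cz P).relIndex (Nz P)) ∧ ε = 1 ∧
          (∀ ξ ∈ Y, charDegree (ξ : G → ℂ) = (Cz P).relIndex (Nz P)) ∧
          2 * Nat.card {η : IrrCharacter G | η ∈ X ∧ v η = -1} + 1 = (Cz P).relIndex (Nz P) ∧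
          (∀ g : G, (ψ : G → ℂ) g * conj ((ψ : G → ℂ) g) =
            1 + ∑ᶠ η ∈ {η : IrrCharacter G | η ∈ X ∧ v η = 1 ∧ η ≠ trivIrr G}, (η : G → ℂ) g) ∧
          ∃ ξ0 ∈ Y, ∀ g : G, (ψ : G → ℂ) g * conj ((ψ' : G → ℂ) g) =
            ∑ᶠ η ∈ {η : IrrCharacter G | η ∈ X ∧ v η = -1}, (η : G → ℂ) g + (ξ0 : G → ℂ) g) ∨
       (Even ((Cz P).relIndex (Nz P)) ∧ ε = -1 ∧
          (∀ ξ ∈ Y, charDegree (ξ : G → ℂ) = (Cz P).relIndex (Nz P) + 1) ∧
          2 * Nat.card {η : IrrCharacter G | η ∈ X ∧ v η = -1} = (Cz P).relIndex (Nz P) ∧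
          (∃ ξ0 ∈ Y, ∀ g : G, (ψ : G → ℂ) g * conj ((ψ : G → ℂ) g) =
            1 + ∑ᶠ η ∈ {η : IrrCharacter G | η ∈ X ∧ v η = 1 ∧ η ≠ trivIrr G}, (η : G → ℂ) g +
              (ξ0 : G → ℂ) g) ∧
          ∀ g : G, (ψ : G → ℂ) g * conj ((ψ' : G → ℂ) g) =
            ∑ᶠ η ∈ {η : IrrCharacter G | η ∈ X ∧ v η = -1}, (η : G → ℂ) g)) := by
  classical
  let _ : Fintype G := Fintype.ofFinite G
  let _ : Fintype (IrrCharacter G) := Fintype.ofFinite _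
  have hpp : p.Prime := Fact.out
  have hp2 : 2 ≤ p := hpp.two_le
  set f := (Cz P).relIndex (Nz P) with hfdef
  have hf : f < p - 1 := by omega
  have hpf : p = 2 * f + 1 := by omega
  obtain ⟨X, Y, v, ε, d, hXY, hcongX, hcongY, hYreg, hrel⟩ := exists_B0_full hM P hP hSyl hf
  have hψc := IsIrrCharacter.isCharacter ψ.2
  have hψ'c := IsIrrCharacter.isCharacter ψ'.2
  obtain ⟨mA, hA⟩ := IsCharacter.exists_decomp (IsCharacter.mul hψc (IsCharacter.conj hψc))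
  obtain ⟨mL, hL⟩ := IsCharacter.exists_decomp (IsCharacter.mul hψc (IsCharacter.conj hψ'c))
  have hne := ne_of_psum P ψ ψ' hP0
  -- (1) the pairing with `X`
  have hX : ∀ η ∈ X, (mA η : ℤ) - (mL η : ℤ) = v η := by
    intro η hη
    have h1 := phi_pairing (p := p) ψ ψ' hne hreg mA mL hA hL {η} (v η) (by
      intro g hg
      rw [finsum_mem_singleton]
      exact d.valX η hη g hg)
    rwa [finsum_mem_singleton] at h1
  have hYsum : ∑ᶠ η ∈ Y, ((mA η : ℤ) - (mL η : ℤ)) = -ε := by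
    apply phi_pairing (p := p) ψ ψ' hne hreg mA mL hA hL Y (-ε)
    intro g hg
    rw [d.sumY g hg, Int.cast_neg]
  -- (2) fixed points
  have hfix := psum_constituent P ψ ψ' mL hL hP0
  have hmL : ∀ η ∈ X, v η = -1 → mL η ≠ 0 := by
    intro η hη hv h0
    have := hX η hη
    rw [hv, h0] at this
    have h2 : (0 : ℤ) ≤ (mA η : ℤ) := Int.natCast_nonneg _
    push_cast at this
    omega
  have hminus : ∀ η ∈ X, v η = -1 → charDegree (η : G → ℂ) = p - 1 := by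
    intro η hη hv
    apply degree_minus P hP η
    · intro g hg
      rw [d.valX η hη g hg, hv]
      norm_num
    · exact hfix η (hmL η hη hv)
  have hplus : ∀ η ∈ X, v η = 1 → η ≠ trivIrr G → p + 1 ≤ charDegree (η : G → ℂ) := by
    intro η hη hv hne'
    apply degree_plus P hP hcl η hne'
    intro g hg
    rw [d.valX η hη g hg, hv]
    norm_num
  -- (3) the exceptional characters
  have hYdeg : ε = 1 → ∀ ψ0 ∈ Y, charDegree (ψ0 : G → ℂ) = f :=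
    fun hε => degY_of_pos P hP d hε mA mL hYsum hfix
  -- `v (trivIrr G) = 1`
  have hvt : v (trivIrr G) = 1 := by
    have hnt : Nontrivial P := by
      rw [← Finite.one_lt_card_iff_nontrivial, hP]
      exact hpp.one_lt
    obtain ⟨x, hx⟩ := exists_ne (1 : P)
    have hx1 : (x : G) ≠ 1 := fun h => hx (Subtype.ext h)
    have hord := Cfsg.Agent.Lib.Helper29.DOTI.orderOf_eq_of_mem P hP x.2 hx1
    have h1 := d.valX (trivIrr G) d.trivX (x : G) (by rw [hord])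
    rw [trivIrr_apply] at h1
    exact_mod_cast h1.symm
  -- finsets
  have hXfin : X.Finite := Set.toFinite X
  have hYfin : Y.Finite := Set.toFinite Y
  set Xf := hXfin.toFinset with hXf
  set Yf := hYfin.toFinset with hYf
  have hmemX : ∀ η, η ∈ Xf ↔ η ∈ X := fun η => Set.Finite.mem_toFinset hXfin
  have hmemY : ∀ η, η ∈ Yf ↔ η ∈ Y := fun η => Set.Finite.mem_toFinset hYfin
  have hdisjf : Disjoint Xf Yf := by
    rw [Finset.disjoint_left]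
    intro η h1 h2
    exact (Set.disjoint_left.mp d.disj ((hmemX η).mp h1)) ((hmemY η).mp h2)
  have hcardX : Xf.card = f := by
    rw [hfdef, ← d.cardX, Nat.card_coe_set_eq, Set.ncard_eq_toFinset_card X hXfin]
  have hf0 : 0 < f := by omega
  obtain ⟨ξ1, hξ1⟩ : Y.Nonempty := by
    have h1 : 0 < Nat.card Y := by
      rw [d.cardY]
      exact Nat.div_pos (Nat.le_of_dvd (by omega) d.dvd) hf0
    have : Nonempty Y := (Nat.card_pos_iff.mp h1).1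
    exact Set.nonempty_coe_sort.mp this
  -- degree sums
  have hone : ¬ p ∣ orderOf (1 : G) := by
    rw [orderOf_one]
    intro h
    have := Nat.le_of_dvd Nat.one_pos h
    omega
  have hdegsum : ∀ (m : IrrCharacter G → ℕ) (φ : G → ℂ),
      φ = ∑ᶠ η : IrrCharacter G, m η • (η : G → ℂ) → φ 1 = ((f : ℂ)) ^ 2 →
      ∑ η, m η * charDegree (η : G → ℂ) = f ^ 2 := by
    intro m φ hφ h1
    have h2 : φ 1 = ((∑ η, m η * charDegree (η : G → ℂ) : ℕ) : ℂ) := by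
      rw [hφ, finsum_eq_sum_of_fintype, Finset.sum_apply]
      push_cast
      apply Finset.sum_congr rfl
      intro η _
      rw [Pi.smul_apply, apply_one_eq, nsmul_eq_mul]
    rw [h1] at h2
    have h3 : ((f ^ 2 : ℕ) : ℂ) = ((∑ η, m η * charDegree (η : G → ℂ) : ℕ) : ℂ) := by
      rw [← h2]
      push_cast
      ring
    exact_mod_cast h3.symm
  have hψ1 : (ψ : G → ℂ) 1 = (f : ℂ) := by rw [apply_one_eq, hψdeg]
  have hψ'1 : (ψ' : G → ℂ) 1 = (f : ℂ) := by rw [hreg 1 hone, hψ1]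
  have hAsum : ∑ η, mA η * charDegree (η : G → ℂ) = f ^ 2 := by
    apply hdegsum mA _ hA
    show (ψ : G → ℂ) 1 * conj ((ψ : G → ℂ) 1) = _
    rw [hψ1, Complex.conj_natCast]
    ring
  have hLsum : ∑ η, mL η * charDegree (η : G → ℂ) = f ^ 2 := by
    apply hdegsum mL _ hL
    show (ψ : G → ℂ) 1 * conj ((ψ' : G → ℂ) 1) = _
    rw [hψ1, hψ'1, Complex.conj_natCast]
    ring
  -- the degree of the exceptional characters
  have hdY : ∀ ξ ∈ Yf, charDegree (ξ : G → ℂ) = charDegree (ξ1 : G → ℂ) := by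
    intro ξ hξ
    have h1 := hYreg ξ ((hmemY ξ).mp hξ) ξ1 hξ1 1 hone
    rw [apply_one_eq, apply_one_eq] at h1
    exact_mod_cast h1
  have hrelf : ε * (charDegree (ξ1 : G → ℂ) : ℤ) =
      ∑ η ∈ Xf, v η * (charDegree (η : G → ℂ) : ℤ) := by
    rw [d.degY ξ1 hξ1, finsum_mem_eq_finite_toFinset_sum _ hXfin]
  have hmodf : (charDegree (ξ1 : G → ℂ) : ℤ) ≡ ε * (f : ℤ) [ZMOD (2 * (f : ℤ) + 1)] := by
    have h1 := hcongY ξ1 hξ1
    have h2 : (p : ℤ) = 2 * (f : ℤ) + 1 := by exact_mod_cast hpf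
    rwa [h2] at h1
  have hYsumf : ∑ ξ ∈ Yf, ((mA ξ : ℤ) - (mL ξ : ℤ)) = -ε := by
    rw [← hYsum, finsum_mem_eq_finite_toFinset_sum _ hYfin]
  -- the combinatorial core
  obtain ⟨hdegp, hcases⟩ := Cfsg.Agent.Lib.Helper6.BRHEqCore.core
    (fun η : IrrCharacter G => charDegree (η : G → ℂ)) mA mL (fun η => charDegree_pos η)
    Xf Yf hdisjf v (fun η hη => d.sgnX η ((hmemX η).mp hη))
    (trivIrr G) ((hmemX _).mpr d.trivX) hvt charDegree_trivIrr' f hf2 hcardX ε d.sgn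
    (fun η hη => hX η ((hmemX η).mp hη)) hYsumf hAsum hLsum
    (fun η hη hv => by
      have := hminus η ((hmemX η).mp hη) hv
      omega)
    (fun η hη hv hne' => by
      have := hplus η ((hmemX η).mp hη) hv hne'
      omega)
    (charDegree (ξ1 : G → ℂ)) hdY ⟨ξ1, (hmemY ξ1).mpr hξ1⟩ hrelf hmodf
    (fun hε => hYdeg hε ξ1 hξ1)
  have hcardm : (Xf.filter (fun η => v η = -1)).card =
      Nat.card {η : IrrCharacter G | η ∈ X ∧ v η = -1} := by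
    rw [Nat.card_coe_set_eq, Set.ncard_eq_toFinset_card _ (Set.toFinite _)]
    congr 1
    ext η
    simp [hmemX]
  rw [hcardm] at hcases
  -- splitting off the trivial character
  have hsplit : ∀ g : G, ∑ᶠ η ∈ {η : IrrCharacter G | η ∈ X ∧ v η = 1}, (η : G → ℂ) g =
      1 + ∑ᶠ η ∈ {η : IrrCharacter G | η ∈ X ∧ v η = 1 ∧ η ≠ trivIrr G}, (η : G → ℂ) g := by
    intro g
    have h1 : {η : IrrCharacter G | η ∈ X ∧ v η = 1} =
        insert (trivIrr G) {η : IrrCharacter G | η ∈ X ∧ v η = 1 ∧ η ≠ trivIrr G} := by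
      ext η
      simp only [Set.mem_ofPred_eq, Set.mem_insert_iff]
      constructor
      · rintro ⟨h1, h2⟩
        by_cases h : η = trivIrr G
        · exact Or.inl h
        · exact Or.inr ⟨h1, h2, h⟩
      · rintro (rfl | ⟨h1, h2, -⟩)
        · exact ⟨d.trivX, hvt⟩
        · exact ⟨h1, h2⟩
    rw [h1, finsum_mem_insert _ (by simp) (Set.toFinite _), trivIrr_apply]
  -- adding the exceptional constituent
  have hins : ∀ (c : ℤ) (ξ0 : IrrCharacter G), ξ0 ∈ Y → ∀ g : G,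
      ∑ᶠ η ∈ {η : IrrCharacter G | (η ∈ X ∧ v η = c) ∨ η = ξ0}, (η : G → ℂ) g =
      ∑ᶠ η ∈ {η : IrrCharacter G | η ∈ X ∧ v η = c}, (η : G → ℂ) g + (ξ0 : G → ℂ) g := by
    intro c ξ0 hξ0 g
    have h1 : {η : IrrCharacter G | (η ∈ X ∧ v η = c) ∨ η = ξ0} =
        insert ξ0 {η : IrrCharacter G | η ∈ X ∧ v η = c} := by
      ext η
      simp only [Set.mem_ofPred_eq, Set.mem_insert_iff]
      tauto
    have h2 : ξ0 ∉ {η : IrrCharacter G | η ∈ X ∧ v η = c} := by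
      rintro ⟨h2, -⟩
      exact (Set.disjoint_left.mp d.disj h2) hξ0
    rw [h1, finsum_mem_insert _ h2 (Set.toFinite _), add_comm]
  have hdegY' : ∀ (n : ℕ), charDegree (ξ1 : G → ℂ) = n → ∀ ξ ∈ Y, charDegree (ξ : G → ℂ) = n :=
    fun n hn ξ hξ => by rw [hdY ξ ((hmemY ξ).mpr hξ), hn]
  refine ⟨X, Y, v, ε, d, hXY, hcongX, hcongY, hYreg, hrel, hvt, ?_, hminus, ?_⟩
  · intro η hη hv hne'
    rw [hdegp η ((hmemX η).mpr hη) hv hne']
    omega
  · rcases hcases with ⟨hodd, hε, hdY1, hcnt, hmA, ξ0, hξ0, hmL'⟩ | ⟨hev, hε, hdY1, hcnt, ⟨ξ0, hξ0, hmA⟩, hmL'⟩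
    · refine Or.inl ⟨hodd, hε, hdegY' _ hdY1, hcnt, ?_, ξ0, (hmemY ξ0).mp hξ0, ?_⟩
      · intro g
        rw [← hsplit g, ← finsum_indicator mA {η : IrrCharacter G | η ∈ X ∧ v η = 1} (fun η => by
          rw [hmA η]; simp only [hmemX, Set.mem_ofPred_eq]) g, ← hA]
        rfl
      · intro g
        rw [← hins (-1) ξ0 ((hmemY ξ0).mp hξ0) g,
          ← finsum_indicator mL {η : IrrCharacter G | (η ∈ X ∧ v η = -1) ∨ η = ξ0} (fun η => by
          rw [hmL' η]; simp only [hmemX, Set.mem_ofPred_eq]) g, ← hL]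
        rfl
    · refine Or.inr ⟨hev, hε, hdegY' _ hdY1, hcnt, ⟨ξ0, (hmemY ξ0).mp hξ0, ?_⟩, ?_⟩
      · intro g
        rw [← hsplit g, ← hins 1 ξ0 ((hmemY ξ0).mp hξ0) g,
          ← finsum_indicator mA {η : IrrCharacter G | (η ∈ X ∧ v η = 1) ∨ η = ξ0} (fun η => by
          rw [hmA η]; simp only [hmemX, Set.mem_ofPred_eq]) g, ← hA]
        rfl
      · intro g
        rw [← finsum_indicator mL {η : IrrCharacter G | η ∈ X ∧ v η = -1} (fun η => by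
          rw [hmL' η]; simp only [hmemX, Set.mem_ofPred_eq]) g, ← hL]
        rfl

/-- step (IV), the seam as announced -/
theorem eq_case (hM : IsPModular p M) (P : Subgroup G) (hP : Nat.card P = p) (hSyl : ¬ p ∣ P.index)
    (hcl : Subgroup.normalClosure (P : Set G) = ⊤) (ψ ψ' : IrrCharacter G)
    (hreg : ∀ g : G, ¬ p ∣ orderOf g → (ψ' : G → ℂ) g = (ψ : G → ℂ) g)
    (hP0 : ∑ᶠ x ∈ (P : Set G), (ψ : G → ℂ) x * conj ((ψ' : G → ℂ) x) = 0)
    (hf2 : 2 ≤ (Cz P).relIndex (Nz P))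
    (h2f : 2 * (Cz P).relIndex (Nz P) = p - 1)
    (hψdeg : charDegree (ψ : G → ℂ) = (Cz P).relIndex (Nz P)) :
    ∃ (X Y : Set (IrrCharacter G)) (v : IrrCharacter G → ℤ) (ε : ℤ), B0 p P X Y v ε ∧
      principalBlock M G = X ∪ Y ∧
      (∀ ξ ∈ Y, ∀ ξ' ∈ Y, ∀ g : G, ¬ p ∣ orderOf g → (ξ : G → ℂ) g = (ξ' : G → ℂ) g) ∧
      (∀ η ∈ X, v η = 1 → η ≠ trivIrr G → charDegree (η : G → ℂ) = p + 1) ∧
      (∀ η ∈ X, v η = -1 → charDegree (η : G → ℂ) = p - 1) ∧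
      ((Odd ((Cz P).relIndex (Nz P)) ∧ ε = 1 ∧
          (∀ ξ ∈ Y, charDegree (ξ : G → ℂ) = (Cz P).relIndex (Nz P)) ∧
          2 * Nat.card {η : IrrCharacter G | η ∈ X ∧ v η = -1} + 1 = (Cz P).relIndex (Nz P) ∧
          (∀ g : G, (ψ : G → ℂ) g * conj ((ψ : G → ℂ) g) =
            1 + ∑ᶠ η ∈ {η : IrrCharacter G | η ∈ X ∧ v η = 1 ∧ η ≠ trivIrr G}, (η : G → ℂ) g) ∧
          ∃ ξ0 ∈ Y, ∀ g : G, (ψ : G → ℂ) g * conj ((ψ' : G → ℂ) g) =
            ∑ᶠ η ∈ {η : IrrCharacter G | η ∈ X ∧ v η = -1}, (η : G → ℂ) g + (ξ0 : G → ℂ) g) ∨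
       (Even ((Cz P).relIndex (Nz P)) ∧ ε = -1 ∧
          (∀ ξ ∈ Y, charDegree (ξ : G → ℂ) = (Cz P).relIndex (Nz P) + 1) ∧
          2 * Nat.card {η : IrrCharacter G | η ∈ X ∧ v η = -1} = (Cz P).relIndex (Nz P) ∧
          (∃ ξ0 ∈ Y, ∀ g : G, (ψ : G → ℂ) g * conj ((ψ : G → ℂ) g) =
            1 + ∑ᶠ η ∈ {η : IrrCharacter G | η ∈ X ∧ v η = 1 ∧ η ≠ trivIrr G}, (η : G → ℂ) g +
              (ξ0 : G → ℂ) g) ∧
          ∀ g : G, (ψ : G → ℂ) g * conj ((ψ' : G → ℂ) g) =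
            ∑ᶠ η ∈ {η : IrrCharacter G | η ∈ X ∧ v η = -1}, (η : G → ℂ) g)) := by
  obtain ⟨X, Y, v, ε, d, hXY, -, -, hYreg, -, -, hp, hm, hc⟩ :=
    eq_case_full hM P hP hSyl hcl ψ ψ' hreg hP0 hf2 h2f hψdeg
  exact ⟨X, Y, v, ε, d, hXY, hYreg, hp, hm, hc⟩

end Cfsg.Agent.Lib.Helper6.BRHEq
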