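/-
helper6: S4715 (heights and the inertial index), definitions shared by the leaves.

For `z ∈ Z(D)`, `H = D C_G(D) ≤ C_G(z)`, and the block `b` of `H` induces a block `majBlock z` of
`C_G(z)`; `(z, majBlock z)` is a major subsection of `B = b^G`.  `kap z` is its diagonal contribution
`m_{χχ}` and `theta z` the class function of `G` on the `p`-section of `z` attached to it.
-/
import Mathlib
import Cfsg.Agent.Lib.Helper23.MajSubOM

set_option autoImplicit false

namespace Cfsg.Agent.Lib.Helper6.HtBound

open Cfsg Cfsg.Agent.CharLib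
open Cfsg.Agent.Lib.Helper23.Subsec Cfsg.Agent.Lib.Helper23.MajSubOM
open scoped ComplexConjugate

universe u

section defs

variable {G : Type u} [Group G]

/-- The centralizer of an element. -/
abbrev Cz (z : G) : Subgroup G := Subgroup.centralizer ({z} : Set G)

/-- The `g`-conjugate of every member of `e` (a set of irreducible characters of `X`) is a member of
`e'` (a set of irreducible characters of `X'`; in use `X' = g X g⁻¹`). -/
def BlockConjTo (g : G) {X X' : Subgroup G} (e : Set (IrrCharacter X))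
    (e' : Set (IrrCharacter X')) : Prop :=
  ∀ ζ ∈ e, ∃ ζ' ∈ e', ∀ (c : X) (c' : X'), (c' : G) = g * (c : G) * g⁻¹ →
    (ζ' : X' → ℂ) c' = (ζ : X → ℂ) c

/-- Conjugation by `g` as an isomorphism `X ≃* X'`, for `X' = g X g⁻¹`. -/
def cjX (g : G) (X X' : Subgroup G) (h : ∀ x : G, x ∈ X ↔ g * x * g⁻¹ ∈ X') : X ≃* X' where
  toFun x := ⟨g * (x : G) * g⁻¹, (h x).mp x.2⟩
  invFun y := ⟨g⁻¹ * (y : G) * g, (h _).mpr (by
    have : g * (g⁻¹ * (y : G) * g) * g⁻¹ = (y : G) := by group
    rw [this]; exact y.2)⟩
  left_inv x := by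
    apply Subtype.ext
    show g⁻¹ * (g * (x : G) * g⁻¹) * g = (x : G)
    group
  right_inv y := by
    apply Subtype.ext
    show g * (g⁻¹ * (y : G) * g) * g⁻¹ = (y : G)
    group
  map_mul' x y := by
    apply Subtype.ext
    show g * ((x : G) * (y : G)) * g⁻¹ = g * (x : G) * g⁻¹ * (g * (y : G) * g⁻¹)
    group

theorem cjX_coe (g : G) (X X' : Subgroup G) (h : ∀ x : G, x ∈ X ↔ g * x * g⁻¹ ∈ X') (x : X) :
    ((cjX g X X' h x : X') : G) = g * (x : G) * g⁻¹ := rfl

theorem cjX_symm_coe (g : G) (X X' : Subgroup G) (h : ∀ x : G, x ∈ X ↔ g * x * g⁻¹ ∈ X')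
    (y : X') : (((cjX g X X' h).symm y : X) : G) = g⁻¹ * (y : G) * g := rfl

/-- The block of `C_G(z)` induced (inside `C_G(z)`) from the block `b` of `H`, if there is one. -/
noncomputable def majBlock (M : Ideal AlgInt) (H : Subgroup G) (b : Set (IrrCharacter H)) (z : G) :
    Set (IrrCharacter (Cz z)) :=
  open Classical in
  if h : ∃ β : Set (IrrCharacter (Cz z)), IsInducedBlockIn M (Cz z) H b β then h.choose else ∅

theorem majBlock_spec {M : Ideal AlgInt} {H : Subgroup G} {b : Set (IrrCharacter H)} {z : G}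
    (h : ∃ β : Set (IrrCharacter (Cz z)), IsInducedBlockIn M (Cz z) H b β) :
    IsInducedBlockIn M (Cz z) H b (majBlock M H b z) := by
  unfold majBlock
  rw [dif_pos h]
  exact h.choose_spec

variable [Fintype G]

/-- The diagonal contribution `m_{χχ}` of the subsection `(z, majBlock z)` (a nonnegative real). -/
noncomputable def kap (p : ℕ) (M : Ideal AlgInt) (H : Subgroup G) (b : Set (IrrCharacter H))
    (χ : IrrCharacter G) (z : G) : ℝ :=
  letI : Fintype (Cz z) := Fintype.ofFinite _
  (contrib p (Cz z) (majBlock M H b z) z χ χ).re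

/-- The class function of `G` on the `p`-section of `z` attached to `χ` and `(z, majBlock z)`. -/
noncomputable def theta (p : ℕ) (M : Ideal AlgInt) (H : Subgroup G) (b : Set (IrrCharacter H))
    (χ : IrrCharacter G) (z : G) : G → ℂ :=
  letI : Fintype (Cz z) := Fintype.ofFinite _
  secFun p z (Cz z) (decFun (Cz z) (majBlock M H b z) z χ)

end defs

end Cfsg.Agent.Lib.Helper6.HtBound
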