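/-
helper6: Isaacs 7.10, part C3: the key arithmetic relations.
-/
import Mathlib
import Cfsg.Agent.Lib.Helper6.D8C2

set_option autoImplicit false

namespace Cfsg.Agent.Lib.Helper6.D8Cent

open DihedralGroup Cfsg Cfsg.Agent.CharLib Cfsg.Agent.Lib.Helper6
open scoped ComplexConjugate

universe u

namespace Ctx

variable {G : Type u} [Group G] [Fintype G] (C : Ctx G)

theorem a_ne_one : C.a ≠ 1 := by
  intro h
  have := C.orderOf_a
  rw [h, orderOf_one] at this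
  omega

theorem not_isConj_a_one : ¬ IsConj C.a 1 := by
  intro h
  have := orderOf_of_isConj h
  rw [C.orderOf_a, orderOf_one] at this
  omega

theorem card_class_t : (Nat.card {x : G // IsConj C.t x} : ℂ) * 8 = (Nat.card G : ℂ) := by
  have h := card_conj_mul_card_centralizer C.t
  have h2 : Nat.card {x : G // IsConj C.t x} = Nat.card {x : G // IsConj x C.t} :=
    Nat.card_congr (Equiv.subtypeEquivRight (fun x => isConj_comm))
  rw [← h2] at h
  have h3 : Nat.card (Subgroup.centralizer ({C.t} : Set G)) = 8 := C.card_D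
  rw [h3] at h
  exact_mod_cast h

include C in
set_option maxHeartbeats 800000 in
theorem key (hperf : commutator G = ⊤) :
    ∃ (d1 d2 d3 : ℕ) (c1 c2 c3 : ℤ), (c1 = 1 ∨ c1 = -1) ∧ (c2 = 1 ∨ c2 = -1) ∧ (c3 = 1 ∨ c3 = -1) ∧
      Odd d1 ∧ Odd d2 ∧ Odd d3 ∧ d1 ≠ 1 ∧ d2 ≠ 1 ∧ d3 ≠ 1 ∧
      1 + c1 * d1 + c2 * d2 + c3 * d3 = 0 ∧
      1 + d1 ^ 2 + d2 ^ 2 + d3 ^ 2 ≤ Nat.card G ∧
      (Nat.card G : ℤ) * (d1 * d2 * d3 + c1 * d2 * d3 + c2 * d1 * d3 + c3 * d1 * d2) =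
        256 * (d1 * d2 * d3) := by
  classical
  let _ := fintypeIrr G
  obtain ⟨d, c, τ, hdata⟩ := C.exists_data hperf
  have hd : ∀ χ : IrrCharacter G, (χ : G → ℂ) 1 = d χ := fun χ => (hdata χ).1
  have hc : ∀ χ : IrrCharacter G, (χ : G → ℂ) C.a = c χ := fun χ => (hdata χ).2.1
  have hτ : ∀ χ : IrrCharacter G, (χ : G → ℂ) C.t = τ χ := fun χ => (hdata χ).2.2.1
  -- the trivial character
  have hd0 : d (triv G) = 1 := by
    have := hd (triv G)
    rw [triv_apply] at this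
    exact_mod_cast this.symm
  have hc0 : c (triv G) = 1 := by
    have := hc (triv G)
    rw [triv_apply] at this
    exact_mod_cast this.symm
  have hτ0 : τ (triv G) = 1 := by
    have := hτ (triv G)
    rw [triv_apply] at this
    exact_mod_cast this.symm
  -- column orthogonality at `a`
  have hsumc : ∑ χ : IrrCharacter G, c χ ^ 2 = 4 := by
    have h := sum_irr_mul_conj (G := G) C.a C.a
    rw [classIndicator_self, C.card_centralizer_a, one_mul] at h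
    have h2 : ∀ χ : IrrCharacter G, (χ : G → ℂ) C.a * conj ((χ : G → ℂ) C.a) = ((c χ ^ 2 : ℤ) : ℂ) := by
      intro χ
      rw [hc χ, map_intCast]
      push_cast
      ring
    simp only [h2] at h
    exact_mod_cast h
  obtain ⟨χ1, χ2, χ3, h01, h02, h03, h12, h13, h23, hc1, hc2, hc3, hrest⟩ :=
    exists_three c (triv G) hc0 hsumc
  -- sums weighted by `c`
  have hsumF : ∀ F : IrrCharacter G → ℂ, ∑ χ : IrrCharacter G, (c χ : ℂ) * F χ =
      F (triv G) + c χ1 * F χ1 + c χ2 * F χ2 + c χ3 * F χ3 := by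
    intro F
    rw [sum_four (triv G) χ1 χ2 χ3 h01 h02 h03 h12 h13 h23 (fun χ => (c χ : ℂ) * F χ)
      (fun χ a0 a1 a2 a3 => by rw [hrest χ a0 a1 a2 a3]; simp), hc0]
    simp
  -- oddness
  have hoddc : ∀ χ : IrrCharacter G, (c χ = 1 ∨ c χ = -1) → Odd (c χ) := by
    intro χ h
    rcases h with h | h <;> rw [h] <;> decide
  have ho1 := (hdata χ1).2.2.2 (hoddc χ1 hc1)
  have ho2 := (hdata χ2).2.2.2 (hoddc χ2 hc2)
  have ho3 := (hdata χ3).2.2.2 (hoddc χ3 hc3)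
  -- degrees are not one
  have hne1 : ∀ χ : IrrCharacter G, triv G ≠ χ → d χ ≠ 1 := by
    intro χ hχ h
    apply hχ
    symm
    apply eq_triv_of_degree_one hperf
    rw [hd χ, h]
    norm_num
  -- (O1)
  have hO1 : 1 + c χ1 * d χ1 + c χ2 * d χ2 + c χ3 * d χ3 = 0 := by
    have h := sum_irr_mul_conj (G := G) C.a 1
    rw [classIndicator_of_not C.not_isConj_a_one, zero_mul] at h
    have h2 : ∀ χ : IrrCharacter G, (χ : G → ℂ) C.a * conj ((χ : G → ℂ) 1) = (c χ : ℂ) * (d χ : ℂ) := by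
      intro χ
      rw [hc χ, hd χ, map_natCast]
    simp only [h2] at h
    rw [hsumF (fun χ => (d χ : ℂ)), hd0] at h
    have h3 : ((1 + c χ1 * d χ1 + c χ2 * d χ2 + c χ3 * d χ3 : ℤ) : ℂ) = 0 := by
      push_cast
      rw [← h]
      ring
    exact_mod_cast h3
  -- (O2)
  have hsumτ : ∑ χ : IrrCharacter G, τ χ ^ 2 = 8 := by
    have h := sum_irr_mul_conj (G := G) C.t C.t
    have h3 : Nat.card (Subgroup.centralizer ({C.t} : Set G)) = 8 := C.card_D
    rw [classIndicator_self, h3, one_mul] at h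
    have h2 : ∀ χ : IrrCharacter G, (χ : G → ℂ) C.t * conj ((χ : G → ℂ) C.t) = ((τ χ ^ 2 : ℤ) : ℂ) := by
      intro χ
      rw [hτ χ, map_intCast]
      push_cast
      ring
    simp only [h2] at h
    exact_mod_cast h
  have hτle := four_le_sum (triv G) χ1 χ2 χ3 h01 h02 h03 h12 h13 h23 (fun χ => τ χ ^ 2)
    (fun χ => sq_nonneg _)
  rw [hsumτ] at hτle
  simp only [hτ0] at hτle
  have hτsq : ∀ χ : IrrCharacter G, Odd (τ χ) → τ χ ^ 2 ≤ 7 → τ χ ^ 2 = 1 := by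
    intro χ hodd hle
    have h1 : τ χ ≤ 2 := by nlinarith
    have h2 : -2 ≤ τ χ := by nlinarith
    rw [Int.odd_iff] at hodd
    have h3 : τ χ = 1 ∨ τ χ = -1 := by omega
    rcases h3 with h3 | h3 <;> rw [h3] <;> norm_num
  have hτ1 : τ χ1 ^ 2 = 1 := hτsq χ1 ho1.1 (by nlinarith [sq_nonneg (τ χ2), sq_nonneg (τ χ3)])
  have hτ2 : τ χ2 ^ 2 = 1 := hτsq χ2 ho2.1 (by nlinarith [sq_nonneg (τ χ1), sq_nonneg (τ χ3)])
  have hτ3 : τ χ3 ^ 2 = 1 := hτsq χ3 ho3.1 (by nlinarith [sq_nonneg (τ χ1), sq_nonneg (τ χ2)])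
  -- (O4)
  have hO4 : 1 + d χ1 ^ 2 + d χ2 ^ 2 + d χ3 ^ 2 ≤ Nat.card G := by
    have h := finsum_irr_apply_one_sq (G := G)
    rw [finsum_eq_sum_of_fintype] at h
    have h2 : ∀ χ : IrrCharacter G, (χ : G → ℂ) 1 ^ 2 = (((d χ : ℤ) ^ 2 : ℤ) : ℂ) := by
      intro χ
      rw [hd χ]
      push_cast
      ring
    simp only [h2] at h
    have h3 : ∑ χ : IrrCharacter G, (d χ : ℤ) ^ 2 = (Nat.card G : ℤ) := by exact_mod_cast h
    have h4 := four_le_sum (triv G) χ1 χ2 χ3 h01 h02 h03 h12 h13 h23 (fun χ => (d χ : ℤ) ^ 2)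
      (fun χ => sq_nonneg _)
    rw [h3] at h4
    simp only [hd0] at h4
    push_cast at h4
    have h5 : ((1 + d χ1 ^ 2 + d χ2 ^ 2 + d χ3 ^ 2 : ℕ) : ℤ) ≤ (Nat.card G : ℤ) := by
      push_cast
      linarith
    exact_mod_cast h5
  -- (O3)
  have hd1pos : (d χ1 : ℂ) ≠ 0 := by
    have := ho1.2.pos
    exact_mod_cast this.ne'
  have hd2pos : (d χ2 : ℂ) ≠ 0 := by
    have := ho2.2.pos
    exact_mod_cast this.ne'
  have hd3pos : (d χ3 : ℂ) ≠ 0 := by
    have := ho3.2.pos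
    exact_mod_cast this.ne'
  have hO3 : (Nat.card G : ℤ) * (d χ1 * d χ2 * d χ3 + c χ1 * d χ2 * d χ3 + c χ2 * d χ1 * d χ3 +
      c χ3 * d χ1 * d χ2) = 256 * (d χ1 * d χ2 * d χ3) := by
    have h := Cfsg.Agent.S0840.result C.t C.t C.a
    rw [C.card_pairs hperf, finsum_eq_sum_of_fintype] at h
    have h2 : ∀ χ : IrrCharacter G, (χ : G → ℂ) C.t * (χ : G → ℂ) C.t * conj ((χ : G → ℂ) C.a) /
        (χ : G → ℂ) 1 = (c χ : ℂ) * (((τ χ ^ 2 : ℤ) : ℂ) / (d χ : ℂ)) := by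
      intro χ
      rw [hτ χ, hc χ, hd χ, map_intCast]
      push_cast
      ring
    simp only [h2] at h
    rw [hsumF (fun χ => ((τ χ ^ 2 : ℤ) : ℂ) / (d χ : ℂ)), hτ1, hτ2, hτ3, hτ0, hd0] at h
    have hK := C.card_class_t
    have hN : (Nat.card G : ℂ) ≠ 0 := card_ne_zero_complex
    set K : ℂ := (Nat.card {x : G // IsConj C.t x} : ℂ) with hKdef
    set N : ℂ := (Nat.card G : ℂ) with hNdef
    have hK' : K = N / 8 := by
      rw [← hK]
      ring
    rw [hK'] at h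
    have h3 : ((((Nat.card G : ℤ) * (d χ1 * d χ2 * d χ3 + c χ1 * d χ2 * d χ3 + c χ2 * d χ1 * d χ3 +
      c χ3 * d χ1 * d χ2) : ℤ)) : ℂ) = ((256 * (d χ1 * d χ2 * d χ3) : ℤ) : ℂ) := by
      push_cast
      rw [← hNdef]
      push_cast at h
      field_simp at h
      linear_combination (-1 : ℂ) * h
    exact_mod_cast h3
  exact ⟨d χ1, d χ2, d χ3, c χ1, c χ2, c χ3, hc1, hc2, hc3, ho1.2, ho2.2, ho3.2, hne1 χ1 h01,
    hne1 χ2 h02, hne1 χ3 h03, hO1, hO4, hO3⟩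

end Ctx

end Cfsg.Agent.Lib.Helper6.D8Cent
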