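/-
helper6: Isaacs 7.10, part D: the arithmetic.
-/
import Mathlib

set_option autoImplicit false

namespace Cfsg.Agent.Lib.Helper6.D8Cent

/-- two positive signs -/
theorem arithA (n d1 d2 d3 : ℤ) (h1 : 3 ≤ d1) (h2 : 3 ≤ d2) (h3 : d3 = d1 + d2 + 1) (hn : 0 < n)
    (heq : n * (d1 * d2 * d3 + d2 * d3 + d1 * d3 - d1 * d2) = 256 * (d1 * d2 * d3))
    (h8 : n % 8 = 0) (h16 : n % 16 ≠ 0) (hsq : 1 + d1 ^ 2 + d2 ^ 2 + d3 ^ 2 ≤ n) : n = 168 := by
  subst h3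
  have hQ : 0 < d1 * d2 * (d1 + d2 + 1) := by positivity
  have hPQ : d1 * d2 * (d1 + d2 + 1) < d1 * d2 * (d1 + d2 + 1) + d2 * (d1 + d2 + 1) + d1 * (d1 + d2 + 1) - d1 * d2 := by
    nlinarith [mul_pos (by linarith : (0:ℤ) < d1) (by linarith : (0:ℤ) < d2), sq_nonneg d1, sq_nonneg d2]
  have hlt : n < 256 := by
    by_contra h
    push Not at h
    nlinarith [mul_le_mul_of_nonneg_right h (le_of_lt (lt_trans hQ hPQ))]
  have hd1 : d1 ≤ 15 := by nlinarith [sq_nonneg d2, sq_nonneg (d1 + d2 + 1)]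
  have hd2 : d2 ≤ 15 := by nlinarith [sq_nonneg d1, sq_nonneg (d1 + d2 + 1)]
  have hd3 : d1 + d2 + 1 ≤ 15 := by nlinarith [sq_nonneg d1, sq_nonneg d2]
  interval_cases d1 <;> interval_cases d2 <;> omega

end Cfsg.Agent.Lib.Helper6.D8Cent

namespace Cfsg.Agent.Lib.Helper6.D8Cent

/-- one positive sign -/
theorem arithB (n d1 d2 d3 : ℤ) (h2 : 3 ≤ d2) (h3 : 3 ≤ d3) (h1 : d1 = d2 + d3 - 1) (hn : 0 < n)
    (heq : n * (d1 * d2 * d3 + d2 * d3 - d1 * d3 - d1 * d2) = 256 * (d1 * d2 * d3))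
    (h8 : n % 8 = 0) (h16 : n % 16 ≠ 0) (hsq : 1 + d1 ^ 2 + d2 ^ 2 + d3 ^ 2 ≤ n)
    (ho2 : d2 % 2 = 1) (ho3 : d3 % 2 = 1) : n = 360 := by
  subst h1
  have hs : 0 < d2 + d3 - 1 := by linarith
  have hQ : 0 < (d2 + d3 - 1) * d2 * d3 := by
    have : 0 < d2 := by linarith
    have : 0 < d3 := by linarith
    positivity
  have h23 : 0 ≤ (d2 - 3) * (d3 - 3) := mul_nonneg (by linarith) (by linarith)
  have hPQ : (d2 + d3 - 1) * d2 * d3 <
      3 * ((d2 + d3 - 1) * d2 * d3 + d2 * d3 - (d2 + d3 - 1) * d3 - (d2 + d3 - 1) * d2) := by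
    nlinarith [mul_nonneg h23 (le_of_lt hs), mul_pos (by linarith : (0:ℤ) < d2) (by linarith : (0:ℤ) < d3)]
  have hlt : n < 768 := by
    by_contra h
    push Not at h
    have hP : 0 < (d2 + d3 - 1) * d2 * d3 + d2 * d3 - (d2 + d3 - 1) * d3 - (d2 + d3 - 1) * d2 := by
      linarith
    nlinarith [mul_le_mul_of_nonneg_right h (le_of_lt hP)]
  have hd2 : d2 ≤ 27 := by nlinarith [sq_nonneg d3, sq_nonneg (d2 + d3 - 1)]
  have hd3 : d3 ≤ 27 := by nlinarith [sq_nonneg d2, sq_nonneg (d2 + d3 - 1)]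
  have hd1 : d2 + d3 - 1 ≤ 27 := by nlinarith [sq_nonneg d2, sq_nonneg d3]
  interval_cases d2 <;> interval_cases d3 <;> omega

end Cfsg.Agent.Lib.Helper6.D8Cent

namespace Cfsg.Agent.Lib.Helper6.D8Cent

theorem arith (n d1 d2 d3 : ℕ) (c1 c2 c3 : ℤ) (hc1 : c1 = 1 ∨ c1 = -1) (hc2 : c2 = 1 ∨ c2 = -1)
    (hc3 : c3 = 1 ∨ c3 = -1) (ho1 : Odd d1) (ho2 : Odd d2) (ho3 : Odd d3) (hn1 : d1 ≠ 1) (hn2 : d2 ≠ 1)
    (hn3 : d3 ≠ 1) (hsum : 1 + c1 * d1 + c2 * d2 + c3 * d3 = 0)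
    (hsq : 1 + d1 ^ 2 + d2 ^ 2 + d3 ^ 2 ≤ n)
    (heq : (n : ℤ) * (d1 * d2 * d3 + c1 * d2 * d3 + c2 * d1 * d3 + c3 * d1 * d2) = 256 * (d1 * d2 * d3))
    (h8 : 8 ∣ n) (h16 : ¬ 16 ∣ n) : n = 168 ∨ n = 360 := by
  rw [Nat.odd_iff] at ho1 ho2 ho3
  have g1 : (3 : ℤ) ≤ d1 := by omega
  have g2 : (3 : ℤ) ≤ d2 := by omega
  have g3 : (3 : ℤ) ≤ d3 := by omega
  have p1 : (d1 : ℤ) % 2 = 1 := by omega
  have p2 : (d2 : ℤ) % 2 = 1 := by omega
  have p3 : (d3 : ℤ) % 2 = 1 := by omega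
  have hn : (0 : ℤ) < n := by
    have : 0 < n := by nlinarith
    exact_mod_cast this
  have h8' : (n : ℤ) % 8 = 0 := by omega
  have h16' : (n : ℤ) % 16 ≠ 0 := by omega
  have hsq' : (1 : ℤ) + (d1 : ℤ) ^ 2 + (d2 : ℤ) ^ 2 + (d3 : ℤ) ^ 2 ≤ n := by exact_mod_cast hsq
  rcases hc1 with rfl | rfl <;> rcases hc2 with rfl | rfl <;> rcases hc3 with rfl | rfl
  · omega
  · left
    have := arithA n d1 d2 d3 g1 g2 (by linarith) hn (by linear_combination heq) h8' h16' hsq'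
    exact_mod_cast this
  · left
    have := arithA n d1 d3 d2 g1 g3 (by linarith) hn (by linear_combination heq) h8' h16'
      (by linarith)
    exact_mod_cast this
  · right
    have := arithB n d1 d2 d3 g2 g3 (by linarith) hn (by linear_combination heq) h8' h16' hsq' p2 p3
    exact_mod_cast this
  · left
    have := arithA n d2 d3 d1 g2 g3 (by linarith) hn (by linear_combination heq) h8' h16'
      (by linarith)
    exact_mod_cast this
  · right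
    have := arithB n d2 d1 d3 g1 g3 (by linarith) hn (by linear_combination heq) h8' h16'
      (by linarith) p1 p3
    exact_mod_cast this
  · right
    have := arithB n d3 d1 d2 g1 g2 (by linarith) hn (by linear_combination heq) h8' h16'
      (by linarith) p1 p2
    exact_mod_cast this
  · omega

end Cfsg.Agent.Lib.Helper6.D8Cent
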