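/-
helper6: Brauer's extended first main theorem in the language of block induction.  For a
`p`-subgroup `P` and a subgroup `H ⊇ N_G(P)`, induction is a bijection between the blocks of `H`
with defect group `P` and the blocks of `G` with defect group `P`.
-/
import Mathlib
import Cfsg.Agent.Lib.Helper6.BrauerCorrH
import Cfsg.Agent.Lib.Helper24.InducedTrans

set_option autoImplicit false
set_option linter.unusedSectionVars false

namespace Cfsg.Agent.Lib.Helper6.HKFirstMain

open Cfsg Cfsg.Agent.CharLib Cfsg.Agent.Lib.Helper24 Cfsg.Agent.Lib.Helper23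
  Cfsg.Agent.Lib.Helper6 Cfsg.Agent.Lib.Helper6.BrauerCorrH

universe u

variable {G : Type u} [Group G] [Finite G] {M : Ideal AlgInt} {p : ℕ} [hpp : Fact p.Prime]

/-- **Extended first main theorem, from `G` to `H`**. -/
theorem exists_block_H_induced (hM : IsPModular p M) (P H : Subgroup G) (hP : IsPGroup p P)
    (hH : Subgroup.normalizer (P : Set G) ≤ H) (B : Set (IrrCharacter G)) (hB : IsPBlock M B)
    (hBD : IsDefectGroup p M B P) :
    ∃ c : Set (IrrCharacter H), IsPBlock M c ∧ IsDefectGroup p M c (P.subgroupOf H) ∧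
      IsInducedBlock M H c B := by
  have hprime : M.IsPrime := isPrime_of_isPModular hM
  have hPH : P ≤ H := Subgroup.le_normalizer.trans hH
  obtain ⟨b, hb, hbD, hind⟩ := exists_block_normalizer hM P hP B hB hBD
  set φ := normEquiv hPH hH with hφ
  have hb' : IsPBlock M (BlockIso.pullBlock φ b) := BlockIso.isPBlock_pullBlock φ hb
  have hb'D : IsDefectGroup p M (BlockIso.pullBlock φ b) ((P.subgroupOf H).subgroupOf
      (Subgroup.normalizer ((P.subgroupOf H : Subgroup H) : Set H))) := by
    rw [← comap_normEquiv hPH hH]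
    exact BlockIso.isDefectGroup_pullBlock φ hbD
  obtain ⟨c, hindc⟩ := inducedBlockDefined_of_le_normalizer hM (P.subgroupOf H)
    (Subgroup.normalizer ((P.subgroupOf H : Subgroup H) : Set H)) hP.comap_subtype
    Subgroup.le_normalizer (Subgroup.centralizer_le_normalizer _) le_rfl _ hb'
  have hcD := isDefectGroup_of_induced_normalizer hM (P.subgroupOf H) hP.comap_subtype _ c hindc
    hb'D
  refine ⟨c, hindc.2.1, hcD, ?_⟩
  exact isInducedBlock_cancel H (Subgroup.normalizer (P : Set G))
    (Subgroup.normalizer ((P.subgroupOf H : Subgroup H) : Set H)) φ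
    (fun k' => normEquiv_coe hPH hH k') b c B hindc hind

/-- **Extended first main theorem, defect groups**: a block of `H ⊇ N_G(P)` with defect group `P`
induces a block with defect group `P`. -/
theorem isDefectGroup_of_induced_H (hM : IsPModular p M) (P H : Subgroup G) (hP : IsPGroup p P)
    (hH : Subgroup.normalizer (P : Set G) ≤ H) (c : Set (IrrCharacter H))
    (hcD : IsDefectGroup p M c (P.subgroupOf H)) (B : Set (IrrCharacter G))
    (hind : IsInducedBlock M H c B) : IsDefectGroup p M B P := by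
  have hprime : M.IsPrime := isPrime_of_isPModular hM
  have hPH : P ≤ H := Subgroup.le_normalizer.trans hH
  obtain ⟨β, hβ, hβD, hβc⟩ := exists_block_normalizer hM (P.subgroupOf H) hP.comap_subtype
    c hind.1 hcD
  set φ := normEquiv hPH hH with hφ
  set b := BlockIso.pullBlock φ.symm β with hbdef
  have hbD : IsDefectGroup p M b (P.subgroupOf (Subgroup.normalizer (P : Set G))) := by
    rw [← comap_normEquiv_symm hPH hH]
    exact BlockIso.isDefectGroup_pullBlock φ.symm hβD
  have hβeq : BlockIso.pullBlock φ b = β := BlockIso.pullBlock_symm_pullBlock φ.symm β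
  rw [← hβeq] at hβc
  have hbB : IsInducedBlock M (Subgroup.normalizer (P : Set G)) b B :=
    isInducedBlock_trans H (Subgroup.normalizer (P : Set G))
      (Subgroup.normalizer ((P.subgroupOf H : Subgroup H) : Set H)) φ
      (fun k' => normEquiv_coe hPH hH k') b c B hβc hind
  exact isDefectGroup_of_induced_normalizer hM P hP b B hbB hbD

/-- **Extended first main theorem, uniqueness**. -/
theorem block_H_unique (hM : IsPModular p M) (P H : Subgroup G) (hP : IsPGroup p P)
    (hH : Subgroup.normalizer (P : Set G) ≤ H) (c₁ c₂ : Set (IrrCharacter H))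
    (hc₁D : IsDefectGroup p M c₁ (P.subgroupOf H)) (hc₂D : IsDefectGroup p M c₂ (P.subgroupOf H))
    (B : Set (IrrCharacter G)) (h₁ : IsInducedBlock M H c₁ B) (h₂ : IsInducedBlock M H c₂ B) :
    c₁ = c₂ := by
  have hprime : M.IsPrime := isPrime_of_isPModular hM
  have hPH : P ≤ H := Subgroup.le_normalizer.trans hH
  obtain ⟨β₁, hβ₁, hβ₁D, hβ₁c⟩ := exists_block_normalizer hM (P.subgroupOf H) hP.comap_subtype
    c₁ h₁.1 hc₁D
  obtain ⟨β₂, hβ₂, hβ₂D, hβ₂c⟩ := exists_block_normalizer hM (P.subgroupOf H) hP.comap_subtype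
    c₂ h₂.1 hc₂D
  set φ := normEquiv hPH hH with hφ
  set b₁ := BlockIso.pullBlock φ.symm β₁ with hb₁def
  set b₂ := BlockIso.pullBlock φ.symm β₂ with hb₂def
  have hb₂D : IsDefectGroup p M b₂ (P.subgroupOf (Subgroup.normalizer (P : Set G))) := by
    rw [← comap_normEquiv_symm hPH hH]
    exact BlockIso.isDefectGroup_pullBlock φ.symm hβ₂D
  have hβ₁eq : BlockIso.pullBlock φ b₁ = β₁ := BlockIso.pullBlock_symm_pullBlock φ.symm β₁
  have hβ₂eq : BlockIso.pullBlock φ b₂ = β₂ := BlockIso.pullBlock_symm_pullBlock φ.symm β₂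
  have hβ₁c' := hβ₁c
  have hβ₂c' := hβ₂c
  rw [← hβ₁eq] at hβ₁c'
  rw [← hβ₂eq] at hβ₂c'
  have hb₁B : IsInducedBlock M (Subgroup.normalizer (P : Set G)) b₁ B :=
    isInducedBlock_trans H (Subgroup.normalizer (P : Set G))
      (Subgroup.normalizer ((P.subgroupOf H : Subgroup H) : Set H)) φ
      (fun k' => normEquiv_coe hPH hH k') b₁ c₁ B hβ₁c' h₁
  have hb₂B : IsInducedBlock M (Subgroup.normalizer (P : Set G)) b₂ B :=
    isInducedBlock_trans H (Subgroup.normalizer (P : Set G))
      (Subgroup.normalizer ((P.subgroupOf H : Subgroup H) : Set H)) φ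
      (fun k' => normEquiv_coe hPH hH k') b₂ c₂ B hβ₂c' h₂
  have hbb : b₁ = b₂ := block_normalizer_unique hM P hP B b₁ b₂ hb₁B hb₂B hb₂D
  have hββ : β₁ = β₂ := by rw [← hβ₁eq, ← hβ₂eq, hbb]
  rw [hββ] at hβ₁c
  exact isInducedBlock_unique hβ₁c hβ₂c

end Cfsg.Agent.Lib.Helper6.HKFirstMain
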