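/-
helper6: for a block `b` of `H = P C_G(P)` with defect group `P` and stabilizer `T` in `N_G(P)`:
`b^G` has defect group `P` iff `p ∤ |T : H|`.
-/
import Mathlib
import Cfsg.Agent.Lib.Helper6.CoverDefect

set_option autoImplicit false

namespace Cfsg.Agent.Lib.Helper6

open Cfsg Cfsg.Agent.CharLib Cfsg.Agent.Lib.Helper24 Cfsg.Agent.Lib.Helper23
open scoped ComplexConjugate

universe u

namespace StabIndex

open Fong BlockIso

section A

variable {G : Type u} [Group G] [Finite G] {M : Ideal AlgInt} {P H T : Subgroup G}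
  {b : Set (IrrCharacter H)}

/-- The stabilizer of the statements, read in an intermediate group `H ≤ K ≤ N_G(P)`. -/
theorem mem_T_iff {K : Subgroup G} (hHK : H ≤ K) [hn : (H.subgroupOf K).Normal]
    (hKN : K ≤ Subgroup.normalizer (P : Set G))
    (hT : ∀ g : G, g ∈ T ↔ (g ∈ Subgroup.normalizer (P : Set G) ∧ ∀ θ ∈ b,
      ∀ θ' : IrrCharacter H, (∀ h h' : H, (h' : G) = g * h * g⁻¹ →
        (θ' : H → ℂ) h' = (θ : H → ℂ) h) → θ' ∈ b)) (g : K) :
    (g : G) ∈ T ↔ ∀ θ ∈ pullBlock (Subgroup.subgroupOfEquivOfLe hHK) b,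
      FongReynolds.conjIrr g θ ∈ pullBlock (Subgroup.subgroupOfEquivOfLe hHK) b := by
  set e := Subgroup.subgroupOfEquivOfLe hHK with he
  constructor
  · intro hg θ hθ
    have hg' : (g : G)⁻¹ ∈ T := inv_mem hg
    obtain ⟨-, h2⟩ := (hT _).mp hg'
    apply h2 (irrCompIso e.symm θ) hθ (irrCompIso e.symm (FongReynolds.conjIrr g θ))
    intro h h' hh'
    show (θ : H.subgroupOf K → ℂ) ⟨g * (e.symm h') * g⁻¹, _⟩ = (θ : H.subgroupOf K → ℂ) (e.symm h)
    refine congrArg (θ : H.subgroupOf K → ℂ) ?_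
    apply Subtype.ext
    apply Subtype.ext
    show (g : G) * (h' : G) * (g : G)⁻¹ = (h : G)
    rw [hh']
    group
  · intro hall
    have : (g : G)⁻¹ ∈ T := by
      apply (hT _).mpr
      refine ⟨inv_mem (hKN g.2), ?_⟩
      intro θ₂ hθ₂ θ₂' hrel
      have h1 := hall (irrCompIso e θ₂) (irrCompIso_mem_pullBlock e hθ₂)
      have h2 : θ₂' = irrCompIso e.symm (FongReynolds.conjIrr g (irrCompIso e θ₂)) := by
        apply Subtype.ext
        funext h'
        have hmem : (g : G) * (h' : G) * (g : G)⁻¹ ∈ H := by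
          have := hn.conj_mem (e.symm h') (e.symm h').2 g
          exact Subgroup.mem_subgroupOf.mp this
        have := hrel ⟨(g : G) * (h' : G) * (g : G)⁻¹, hmem⟩ h' (by
          show (h' : G) = (g : G)⁻¹ * ((g : G) * (h' : G) * (g : G)⁻¹) * (g : G)⁻¹⁻¹
          group)
        rw [this]
        show (θ₂ : H → ℂ) _ = (θ₂ : H → ℂ) (e ⟨g * (e.symm h') * g⁻¹, _⟩)
        refine congrArg (θ₂ : H → ℂ) ?_
        apply Subtype.ext
        rfl
      rw [h2]
      exact h1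
    have h3 := inv_mem this
    rwa [inv_inv] at h3

/-- `H ≤ T`. -/
theorem le_T (hHN : H ≤ Subgroup.normalizer (P : Set G))
    (hT : ∀ g : G, g ∈ T ↔ (g ∈ Subgroup.normalizer (P : Set G) ∧ ∀ θ ∈ b,
      ∀ θ' : IrrCharacter H, (∀ h h' : H, (h' : G) = g * h * g⁻¹ →
        (θ' : H → ℂ) h' = (θ : H → ℂ) h) → θ' ∈ b)) : H ≤ T := by
  intro g hg
  apply (hT g).mpr
  refine ⟨hHN hg, ?_⟩
  intro θ hθ θ' hrel
  have : θ' = θ := by
    apply Subtype.ext
    funext h'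
    have hcls : IsClassFunction H (θ : H → ℂ) :=
      IsCharacter.isClassFunction (IsIrrCharacter.isCharacter θ.2)
    have h1 := hrel ((⟨g, hg⟩ : H)⁻¹ * h' * (⟨g, hg⟩ : H)) h' (by
      simp only [Subgroup.coe_mul, Subgroup.coe_inv]
      group)
    rw [h1]
    have h2 := hcls h' (⟨g, hg⟩ : H)⁻¹
    rw [inv_inv] at h2
    exact h2
  rw [this]
  exact hθ

theorem T_le
    (hT : ∀ g : G, g ∈ T ↔ (g ∈ Subgroup.normalizer (P : Set G) ∧ ∀ θ ∈ b,
      ∀ θ' : IrrCharacter H, (∀ h h' : H, (h' : G) = g * h * g⁻¹ →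
        (θ' : H → ℂ) h' = (θ : H → ℂ) h) → θ' ∈ b)) :
    T ≤ Subgroup.normalizer (P : Set G) := fun g hg => ((hT g).mp hg).1

/-- The order of the defect group of the transported block. -/
theorem pow_defect_pullBlock {p : ℕ} [hpp : Fact p.Prime] (hM : IsPModular p M)
    {K : Subgroup G} (hHK : H ≤ K) (hPH : P ≤ H) (hb : IsPBlock M b)
    (hbP : IsDefectGroup p M b (P.subgroupOf H)) :
    p ^ blockDefect p (pullBlock (Subgroup.subgroupOfEquivOfLe hHK) b) = Nat.card P := by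
  set e := Subgroup.subgroupOfEquivOfLe hHK with he
  have hD := isDefectGroup_pullBlock (p := p) e hbP
  have h1 := card_defectGroup_eq hM _ (isPBlock_pullBlock e hb) _ hD
  rw [← h1, Subgroup.comap_equiv_eq_map_symm',
    Subgroup.card_map_of_injective (f := e.symm.toMonoidHom) e.symm.injective]
  exact Nat.card_congr (Subgroup.subgroupOfEquivOfLe hPH).toEquiv

end A

section B

variable {G : Type u} [Group G] [Finite G] {M : Ideal AlgInt} {P H T : Subgroup G}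
  {b : Set (IrrCharacter H)} {p : ℕ} [hpp : Fact p.Prime]

/-- If `p ∤ |T : H|` then `b^G` has defect group `P`. -/
theorem isDefectGroup_of_not_dvd (hM : IsPModular p M) (hP : IsPGroup p P) (hPH : P ≤ H)
    (hCH : Subgroup.centralizer (P : Set G) ≤ H) (hHN : H ≤ Subgroup.normalizer (P : Set G))
    (hnorm : Subgroup.normalizer (P : Set G) ≤ Subgroup.normalizer (H : Set G))
    (hb : IsPBlock M b) (hbP : IsDefectGroup p M b (P.subgroupOf H))
    (B : Set (IrrCharacter G)) (hind : IsInducedBlock M H b B)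
    (hT : ∀ g : G, g ∈ T ↔ (g ∈ Subgroup.normalizer (P : Set G) ∧ ∀ θ ∈ b,
      ∀ θ' : IrrCharacter H, (∀ h h' : H, (h' : G) = g * h * g⁻¹ →
        (θ' : H → ℂ) h' = (θ : H → ℂ) h) → θ' ∈ b))
    (hidx : ¬ p ∣ H.relIndex T) : IsDefectGroup p M B P := by
  classical
  let _ := Fintype.ofFinite G
  have hprime : M.IsPrime := isPrime_of_isPModular hM
  set N₀ : Subgroup G := Subgroup.normalizer (P : Set G) with hN₀
  have hn : (H.subgroupOf N₀).Normal := Subgroup.normal_subgroupOf_of_le_normalizer hnorm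
  let _ := Fintype.ofFinite H
  let _ := Fintype.ofFinite N₀
  let _ := Fintype.ofFinite (H.subgroupOf N₀)
  let _ := Fintype.ofFinite (T.subgroupOf N₀)
  set e := Subgroup.subgroupOfEquivOfLe hHN with he
  have hHT : H ≤ T := le_T hHN hT
  have hTN : T ≤ N₀ := T_le hT
  have hb' : IsPBlock M (pullBlock e b) := isPBlock_pullBlock e hb
  have hNT : H.subgroupOf N₀ ≤ T.subgroupOf N₀ := by
    intro x hx
    exact Subgroup.mem_subgroupOf.mpr (hHT (Subgroup.mem_subgroupOf.mp hx))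
  have hstab : ∀ t ∈ T.subgroupOf N₀, ∀ θ ∈ pullBlock e b,
      FongReynolds.conjIrr t θ ∈ pullBlock e b := by
    intro t ht
    exact (mem_T_iff hHN le_rfl hT t).mp (Subgroup.mem_subgroupOf.mp ht)
  have hTb : ∀ g : N₀, ∀ θ ∈ pullBlock e b, FongReynolds.conjIrr g θ ∈ pullBlock e b →
      g ∈ T.subgroupOf N₀ := by
    intro g θ hθ hg
    apply Subgroup.mem_subgroupOf.mpr
    apply (mem_T_iff hHN le_rfl hT g).mpr
    intro θ₂ hθ₂
    exact FongReynolds.conjIrr_mem_of_conjIrr_mem hb' hθ hg hθ₂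
  have hidx' : ¬ p ∣ (H.subgroupOf N₀).relIndex (T.subgroupOf N₀) := by
    rw [Subgroup.relIndex_subgroupOf hTN]
    exact hidx
  obtain ⟨θ₀, hθ₀⟩ : ∃ θ₀, θ₀ ∈ b := by
    obtain ⟨θ₀, hθ₀⟩ := hb
    exact ⟨θ₀, by rw [hθ₀]; exact mem_blockOf_self θ₀⟩
  obtain ⟨χ₁, hχ₁⟩ := exists_irr_over_constituent (H.subgroupOf N₀) (irrCompIso e θ₀)
  have hi1 : IsInducedBlock M N₀ (blockOf M (χ₁ : N₀ → ℂ)) B :=
    ExtFirstMain.isInducedBlock_of_over hM P H N₀ hP hPH hCH hHN le_rfl b B hind χ₁ θ₀ hθ₀ hχ₁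
  have hcov : FongReynolds.CoversG (pullBlock e b) (blockOf M (χ₁ : N₀ → ℂ)) :=
    ⟨χ₁, mem_blockOf_self χ₁, irrCompIso e θ₀, irrCompIso_mem_pullBlock e hθ₀, hχ₁⟩
  obtain ⟨D₁, hD₁⟩ := exists_isDefectGroup (p := p) hM (blockOf M (χ₁ : N₀ → ℂ)) ⟨χ₁, rfl⟩
  have hcard := CoverDefect.card_defectGroup_le_of_stab (H.subgroupOf N₀) hM hb' hNT hstab hTb
    hidx' (blockOf M (χ₁ : N₀ → ℂ)) ⟨χ₁, rfl⟩ hcov D₁ hD₁
  rw [pow_defect_pullBlock hM hHN hPH hb hbP] at hcard
  have hPn : (P.subgroupOf N₀).Normal := Subgroup.normal_subgroupOf_of_le_normalizer le_rfl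
  have hle : P.subgroupOf N₀ ≤ D₁ :=
    le_of_isDefectGroup_of_normal hM (P.subgroupOf N₀) hP.comap_subtype ⟨χ₁, rfl⟩ hD₁
  have hcP : Nat.card (P.subgroupOf N₀) = Nat.card P :=
    Nat.card_congr (Subgroup.subgroupOfEquivOfLe Subgroup.le_normalizer).toEquiv
  have heq : P.subgroupOf N₀ = D₁ := Subgroup.eq_of_le_of_card_ge hle (by rw [hcP]; exact hcard)
  rw [← heq] at hD₁
  exact isDefectGroup_of_induced_normalizer hM P hP _ B hi1 hD₁

/-- If `b^G` has defect group `P` then `p ∤ |T : H|`. -/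
theorem not_dvd_of_isDefectGroup (hM : IsPModular p M) (hP : IsPGroup p P) (hPH : P ≤ H)
    (hCH : Subgroup.centralizer (P : Set G) ≤ H) (hHN : H ≤ Subgroup.normalizer (P : Set G))
    (hnorm : Subgroup.normalizer (P : Set G) ≤ Subgroup.normalizer (H : Set G))
    (hb : IsPBlock M b) (hbP : IsDefectGroup p M b (P.subgroupOf H))
    (B : Set (IrrCharacter G)) (hind : IsInducedBlock M H b B)
    (hT : ∀ g : G, g ∈ T ↔ (g ∈ Subgroup.normalizer (P : Set G) ∧ ∀ θ ∈ b,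
      ∀ θ' : IrrCharacter H, (∀ h h' : H, (h' : G) = g * h * g⁻¹ →
        (θ' : H → ℂ) h' = (θ : H → ℂ) h) → θ' ∈ b))
    (hBP : IsDefectGroup p M B P) : ¬ p ∣ H.relIndex T := by
  classical
  let _ := Fintype.ofFinite G
  have hprime : M.IsPrime := isPrime_of_isPModular hM
  have hp : p.Prime := hpp.out
  have hHT : H ≤ T := le_T hHN hT
  have hTN : T ≤ Subgroup.normalizer (P : Set G) := T_le hT
  have hn : (H.subgroupOf T).Normal :=
    Subgroup.normal_subgroupOf_of_le_normalizer (hTN.trans hnorm)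
  let _ := Fintype.ofFinite H
  let _ := Fintype.ofFinite T
  let _ := Fintype.ofFinite (H.subgroupOf T)
  let _ := fintypeIrr T
  set e := Subgroup.subgroupOfEquivOfLe hHT with he
  have hb' : IsPBlock M (pullBlock e b) := isPBlock_pullBlock e hb
  -- invariance of the transported block
  have hinv : ∀ g : T, ∀ θ ∈ pullBlock e b, ∀ θ' : IrrCharacter (H.subgroupOf T),
      (∀ n : H.subgroupOf T, (θ' : H.subgroupOf T → ℂ) n =
        (θ : H.subgroupOf T → ℂ) ⟨g * n * g⁻¹, hn.conj_mem n n.2 g⟩) → θ' ∈ pullBlock e b := by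
    intro g
    exact (FongReynolds.stab_iff g).mpr ((mem_T_iff hHT hTN hT g).mp g.2)
  -- the blocks of `T` covering the transported block
  set 𝒮 : Set (Set (IrrCharacter T)) := {B' | IsPBlock M B' ∧ ∃ χ ∈ B', ∃ θ ∈ pullBlock e b,
    classInner (fun n : H.subgroupOf T => (χ : T → ℂ) n) (θ : H.subgroupOf T → ℂ) ≠ 0} with h𝒮
  obtain ⟨θ₀, hθ₀⟩ : ∃ θ₀, θ₀ ∈ b := by
    obtain ⟨θ₀, hθ₀⟩ := hb
    exact ⟨θ₀, by rw [hθ₀]; exact mem_blockOf_self θ₀⟩
  obtain ⟨χ₁, hχ₁⟩ := exists_irr_over_constituent (H.subgroupOf T) (irrCompIso e θ₀)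
  have hne : 𝒮.Nonempty := ⟨blockOf M (χ₁ : T → ℂ), ⟨χ₁, rfl⟩, χ₁, mem_blockOf_self χ₁,
    irrCompIso e θ₀, irrCompIso_mem_pullBlock e hθ₀, hχ₁⟩
  obtain ⟨BT, hBT𝒮, hBTmax⟩ := Set.exists_max_image 𝒮 (fun B' => blockDefect p B')
    (Set.toFinite 𝒮) hne
  obtain ⟨hBT, χ₂, hχ₂, θ₂, hθ₂, hover⟩ := hBT𝒮
  -- `BT` induces `B`
  have hover' : classInner (fun n : H.subgroupOf T => (χ₂ : T → ℂ) n)
      (((irrCompIso e.symm θ₂ : IrrCharacter H) : H → ℂ) ∘ e) ≠ 0 := by
    have h1 : ((irrCompIso e.symm θ₂ : IrrCharacter H) : H → ℂ) ∘ e =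
        (θ₂ : H.subgroupOf T → ℂ) := by
      have := congrArg (fun θ : IrrCharacter (H.subgroupOf T) => (θ : H.subgroupOf T → ℂ))
        (irrCompIso_irrCompIso_symm e θ₂)
      exact this
    rw [h1]
    exact hover
  have hiT : IsInducedBlock M T (blockOf M (χ₂ : T → ℂ)) B :=
    ExtFirstMain.isInducedBlock_of_over hM P H T hP hPH hCH hHT hTN b B hind χ₂
      (irrCompIso e.symm θ₂) hθ₂ hover'
  rw [blockOf_eq_of_mem hBT hχ₂] at hiT
  have hBTD : IsDefectGroup p M BT (P.subgroupOf T) :=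
    ExtFirstMain.isDefectGroup_of_induced hM B P hBP T (hPH.trans hHT) hTN BT hiT
  have hfong := Fong.fong (H.subgroupOf T) hM (pullBlock e b) hb' hinv BT hBT
    ⟨χ₂, hχ₂, θ₂, hθ₂, hover⟩
    (fun B' hB' hcov' => hBTmax B' ⟨hB', hcov'⟩) (P.subgroupOf T) hBTD
  have h3 := hfong.2.2
  have hc1 : p ^ blockDefect p BT = Nat.card P := by
    rw [← card_defectGroup_eq hM BT hBT _ hBTD]
    exact Nat.card_congr (Subgroup.subgroupOfEquivOfLe (hPH.trans hHT)).toEquiv
  have hc2 : p ^ blockDefect p (pullBlock e b) = Nat.card P :=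
    pow_defect_pullBlock hM hHT hPH hb hbP
  have hdd : blockDefect p BT = blockDefect p (pullBlock e b) :=
    Nat.pow_right_injective hp.two_le (hc1.trans hc2.symm)
  have hz : (H.subgroupOf T).index.factorization p = 0 := by omega
  intro hdiv
  have hidx0 : (H.subgroupOf T).index ≠ 0 := Subgroup.index_ne_zero_of_finite
  have := (hp.dvd_iff_one_le_factorization hidx0).mp hdiv
  omega

end B

end StabIndex

end Cfsg.Agent.Lib.Helper6
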