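import Mathlib
import Cfsg.Agent.Lib.Helper16.OOEndConDefs

/-!
# S2344 Part III leaf (CB): the generic conjugation lemma for `ubarMat` (planner: helper16).
-/

set_option autoImplicit false
set_option linter.unusedSectionVars false
set_option linter.unusedVariables false

namespace Cfsg.Agent.Lib.Helper6.OOEndCB

open Matrix Cfsg.Agent.Lib.Helper16.OOEnd Cfsg.Agent.Lib.Helper26.OOMin Cfsg.Agent.Lib.Helper27.OPMin

variable {F : Type*} [Field F] {m : ℕ}

/-- the polar form of `quadFormOdd` -/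
def polar (u v : Ix (m + 1) → F) : F :=
  Cfsg.quadFormOdd (m + 1) F (u + v) - Cfsg.quadFormOdd (m + 1) F u -
    Cfsg.quadFormOdd (m + 1) F v

theorem polar_eq (u v : Ix (m + 1) → F) :
    polar u v = 2 * u (.inl ()) * v (.inl ()) +
      ∑ i : Fin (m + 1), (u (.inr (.inl i)) * v (.inr (.inr i)) +
        u (.inr (.inr i)) * v (.inr (.inl i))) := by
  unfold polar Cfsg.quadFormOdd
  simp only [Pi.add_apply]
  have h : ∀ i : Fin (m + 1),
      (u (.inr (.inl i)) + v (.inr (.inl i))) * (u (.inr (.inr i)) + v (.inr (.inr i))) =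
      u (.inr (.inl i)) * u (.inr (.inr i)) + v (.inr (.inl i)) * v (.inr (.inr i)) +
        (u (.inr (.inl i)) * v (.inr (.inr i)) + u (.inr (.inr i)) * v (.inr (.inl i))) := by
    intro i; ring
  simp only [h, Finset.sum_add_distrib]
  ring

theorem polar_smul_right (u v : Ix (m + 1) → F) (c : F) : polar u (c • v) = c * polar u v := by
  rw [polar_eq, polar_eq, mul_add, Finset.mul_sum]
  simp only [Pi.smul_apply, smul_eq_mul]
  congr 1
  · ring
  · refine Finset.sum_congr rfl (fun i _ => ?_)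
    ring

theorem quadFormOdd_smul (c : F) (v : Ix (m + 1) → F) :
    Cfsg.quadFormOdd (m + 1) F (c • v) = c ^ 2 * Cfsg.quadFormOdd (m + 1) F v := by
  unfold Cfsg.quadFormOdd
  simp only [Pi.smul_apply, smul_eq_mul]
  rw [mul_add, Finset.mul_sum]
  congr 1
  · ring
  · refine Finset.sum_congr rfl (fun i _ => ?_)
    ring

theorem e0_dot (u : Ix (m + 1) → F) : (e0 : Ix (m + 1) → F) ⬝ᵥ u = u (.inr (.inl 0)) := by
  unfold e0
  rw [single_dotProduct, one_mul]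

theorem polar_f0 (u : Ix (m + 1) → F) : polar u f0 = (e0 : Ix (m + 1) → F) ⬝ᵥ u := by
  rw [polar_eq, e0_dot]
  unfold f0
  have h1 : (Pi.single (Sum.inr (Sum.inr 0)) 1 : Ix (m + 1) → F) (.inl ()) = 0 := by
    rw [Pi.single_apply, if_neg (by simp)]
  have h2 : ∀ i : Fin (m + 1),
      (Pi.single (Sum.inr (Sum.inr 0)) 1 : Ix (m + 1) → F) (.inr (.inl i)) = 0 := by
    intro i
    rw [Pi.single_apply, if_neg (by simp)]
  have h3 : ∀ i : Fin (m + 1),
      (Pi.single (Sum.inr (Sum.inr 0)) 1 : Ix (m + 1) → F) (.inr (.inr i)) =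
        if i = 0 then 1 else 0 := by
    intro i
    rw [Pi.single_apply]
    simp
  simp only [h1, h2, h3, mul_zero, add_zero, zero_add, mul_ite, mul_one]
  rw [Finset.sum_ite_eq' Finset.univ (0 : Fin (m + 1))]
  simp

theorem polar_hat (u : Ix (m + 1) → F) (z : Ix m → F) : polar u (hat z) = hatJ z ⬝ᵥ u := by
  rw [polar_eq]
  unfold hat hatJ dotProduct
  rw [Fintype.sum_sum_type, Fintype.sum_sum_type]
  simp only [Sum.elim_inl, Sum.elim_inr, Finset.univ_unique, Finset.sum_singleton]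
  rw [Finset.sum_add_distrib]
  have h1 : ∀ i : Fin (m + 1), u (.inr (.inl i)) * (Fin.cons 0 (cy z) : Fin (m + 1) → F) i =
      (Fin.cons 0 (cy z) : Fin (m + 1) → F) i * u (.inr (.inl i)) := fun i => mul_comm _ _
  have h2 : ∀ i : Fin (m + 1), u (.inr (.inr i)) * (Fin.cons 0 (cx z) : Fin (m + 1) → F) i =
      (Fin.cons 0 (cx z) : Fin (m + 1) → F) i * u (.inr (.inr i)) := fun i => mul_comm _ _
  simp only [h1, h2]
  ring

theorem quadFormOdd_hat (z : Ix m → F) : Cfsg.quadFormOdd (m + 1) F (hat z) = Qp z := by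
  unfold Qp Cfsg.quadFormOdd hat
  simp only [Sum.elim_inl, Sum.elim_inr]
  rw [Fin.sum_univ_succ]
  simp only [Fin.cons_zero, Fin.cons_succ, mul_zero, zero_add]
  rfl

/-- own copy of leaf CA's `ubarMat_mulVec` -/
theorem ubarMat_mulVec_aux (z : Ix m → F) (u : Ix (m + 1) → F) :
    ubarMat z *ᵥ u =
      u + (e0 ⬝ᵥ u) • hat z - (hatJ z ⬝ᵥ u) • f0 - (Qp z * (e0 ⬝ᵥ u)) • f0 := by
  unfold ubarMat
  rw [sub_mulVec, sub_mulVec, add_mulVec, one_mulVec, smul_mulVec, vecMulVec_mulVec,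
    vecMulVec_mulVec, vecMulVec_mulVec, op_smul_eq_smul, op_smul_eq_smul, op_smul_eq_smul,
    smul_smul]

theorem polar_mulVec (A : Matrix (Ix (m + 1)) (Ix (m + 1)) F)
    (hA : ∀ u, Cfsg.quadFormOdd (m + 1) F (A *ᵥ u) = Cfsg.quadFormOdd (m + 1) F u)
    (u v : Ix (m + 1) → F) : polar (A *ᵥ u) (A *ᵥ v) = polar u v := by
  unfold polar
  rw [← mulVec_add, hA, hA, hA]

/-- leaf CB -/
theorem conj_ubarMat (A : Matrix (Ix (m + 1)) (Ix (m + 1)) F)
    (hA : ∀ u, Cfsg.quadFormOdd (m + 1) F (A *ᵥ u) = Cfsg.quadFormOdd (m + 1) F u) (l : Fˣ)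
    (he : A *ᵥ e0 = (l : F) • e0) (hf : A *ᵥ f0 = ((l⁻¹ : Fˣ) : F) • f0) (z z' : Ix m → F)
    (hz : A *ᵥ hat z = (l : F) • hat z') : A * ubarMat z = ubarMat z' * A := by
  have hl : (l : F) * ((l⁻¹ : Fˣ) : F) = 1 := by
    rw [← Units.val_mul, mul_inv_cancel, Units.val_one]
  have hl' : ((l⁻¹ : Fˣ) : F) * (l : F) = 1 := by rw [mul_comm]; exact hl
  -- `f0 = A (l f0)`, `ẑ' = A (l⁻¹ ẑ)`
  have hf' : (f0 : Ix (m + 1) → F) = A *ᵥ ((l : F) • f0) := by
    rw [mulVec_smul, hf, smul_smul, hl, one_smul]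
  have hz' : hat z' = A *ᵥ (((l⁻¹ : Fˣ) : F) • hat z) := by
    rw [mulVec_smul, hz, smul_smul, hl', one_smul]
  have h1 : ∀ u, (e0 : Ix (m + 1) → F) ⬝ᵥ (A *ᵥ u) = (l : F) * (e0 ⬝ᵥ u) := by
    intro u
    rw [← polar_f0, ← polar_f0]
    conv_lhs => rw [hf']
    rw [polar_mulVec A hA, polar_smul_right]
  have h2 : ∀ u, hatJ z' ⬝ᵥ (A *ᵥ u) = ((l⁻¹ : Fˣ) : F) * (hatJ z ⬝ᵥ u) := by
    intro u
    rw [← polar_hat, ← polar_hat, hz', polar_mulVec A hA, polar_smul_right]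
  have h3 : Qp z' = ((l⁻¹ : Fˣ) : F) ^ 2 * Qp z := by
    rw [← quadFormOdd_hat, ← quadFormOdd_hat, hz', hA, quadFormOdd_smul]
  rw [ext_iff_mulVec]
  intro u
  rw [← mulVec_mulVec, ← mulVec_mulVec, ubarMat_mulVec_aux, ubarMat_mulVec_aux, h1, h2, h3,
    mulVec_sub, mulVec_sub, mulVec_add, mulVec_smul, mulVec_smul, mulVec_smul, hz, hf]
  funext k
  simp only [Pi.add_apply, Pi.sub_apply, Pi.smul_apply, smul_eq_mul]
  linear_combination (Qp z * (e0 ⬝ᵥ u) * ((l⁻¹ : Fˣ) : F) * f0 k) * hl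

end Cfsg.Agent.Lib.Helper6.OOEndCB
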