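import Mathlib
import Cfsg.Prelude.Def_ClassicalGeometry
import Cfsg.Prelude.Def_GeometricClasses
import Cfsg.Agent.Lib.Helper2.SOTDefs
import Cfsg.Agent.Lib.Helper2.SOTGDefs
import Cfsg.Agent.Lib.Helper4.SOTS
import Cfsg.Agent.Lib.Helper7.SpTN
import Cfsg.Agent.Lib.Helper27.SOTLADefs

/-!
S5666 (LA) leaves R2e (helper27's sub-market, notes/S5666_LA_leaves.lean): the Levi part.
-/

set_option autoImplicit false
set_option linter.unusedSectionVars false
set_option linter.unusedVariables false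
set_option linter.unusedSimpArgs false

namespace Cfsg.Agent.Lib.Helper6.SOTLALeaf
open Matrix
open Cfsg.Agent.Lib.Helper25.Tens Cfsg.Agent.Lib.Helper25.SpT Cfsg.Agent.Lib.Helper19.OSub
open Cfsg.Agent.Lib.Helper2.SOT Cfsg.Agent.Lib.Helper27.SOTLA
open scoped Kronecker

variable {F : Type*} [Field F] [Fintype F] {a b : ℕ} {G : Matrix (Fin b) (Fin b) F}
  {M : Subgroup (GL (Idx a b) F)}

/-- (R2e-1) pure block algebra: the LEVI PART `K` of `g⁻¹` makes `g K` of `U`-form. -/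
theorem levi_UA {o o' : Fin a} (hoo' : o ≠ o') (g : GL (Idx a b) F)
    (hg1 : ∀ i : Fin a, i ≠ o → ablk (g : Matrix (Idx a b) (Idx a b) F) i o = 0)
    (hg2 : ∀ j : Fin a, j ≠ o' → ablk (g : Matrix (Idx a b) (Idx a b) F) o' j = 0)
    (hg3 : ∀ j : Fin a, j ≠ o' →
      ablk ((g⁻¹ : GL (Idx a b) F) : Matrix (Idx a b) (Idx a b) F) o' j = 0)
    (hg4 : ∀ i : Fin a, i ≠ o →
      ablk ((g⁻¹ : GL (Idx a b) F) : Matrix (Idx a b) (Idx a b) F) i o = 0)
    (K : Matrix (Idx a b) (Idx a b) F)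
    (hK : ∀ i j : Fin a, ablk K i j =
      if (i = o ∧ j = o) ∨ (i = o' ∧ j = o') ∨ (i ≠ o ∧ i ≠ o' ∧ j ≠ o ∧ j ≠ o') then
        ablk ((g⁻¹ : GL (Idx a b) F) : Matrix (Idx a b) (Idx a b) F) i j else 0) :
    UA o o' ((g : Matrix (Idx a b) (Idx a b) F) * K) := by
  have hoo'' : o' ≠ o := fun h => hoo' h.symm
  have gi : (g : Matrix (Idx a b) (Idx a b) F) *
      ((g⁻¹ : GL (Idx a b) F) : Matrix (Idx a b) (Idx a b) F) = 1 := by
    rw [← Units.val_mul, mul_inv_cancel, Units.val_one]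
  -- it suffices to compare termwise with `g g⁻¹`
  have key : ∀ i j : Fin a, (∀ m : Fin a,
      ablk (g : Matrix (Idx a b) (Idx a b) F) i m * ablk K m j =
      ablk (g : Matrix (Idx a b) (Idx a b) F) i m *
        ablk ((g⁻¹ : GL (Idx a b) F) : Matrix (Idx a b) (Idx a b) F) m j) →
      ablk ((g : Matrix (Idx a b) (Idx a b) F) * K) i j = if i = j then 1 else 0 := by
    intro i j h
    rw [ablk_mul, Finset.sum_congr rfl (fun m _ => h m), ← ablk_mul, gi, ablk_one]
  refine ⟨?_, ?_, ?_⟩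
  · intro i j hi hj
    apply key
    intro m
    rw [hK m j]
    by_cases hP : (m = o ∧ j = o) ∨ (m = o' ∧ j = o') ∨ (m ≠ o ∧ m ≠ o' ∧ j ≠ o ∧ j ≠ o')
    · rw [if_pos hP]
    · rw [if_neg hP, Matrix.mul_zero]
      by_cases hjo : j = o
      · subst hjo
        have hm : m ≠ j := fun h => hP (Or.inl ⟨h, rfl⟩)
        rw [hg4 m hm, Matrix.mul_zero]
      · by_cases hm : m = o
        · subst hm
          rw [hg1 i hi, Matrix.zero_mul]
        · by_cases hm' : m = o'
          · subst hm'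
            rw [hg3 j hj, Matrix.mul_zero]
          · exact absurd (Or.inr (Or.inr ⟨hm, hm', hjo, hj⟩)) hP
  · have := key o o (by
      intro m
      rw [hK m o]
      by_cases hm : m = o
      · rw [if_pos (Or.inl ⟨hm, rfl⟩)]
      · rw [hg4 m hm]
        simp)
    rw [this, if_pos rfl]
  · have := key o' o' (by
      intro m
      rw [hK m o']
      by_cases hm : m = o'
      · rw [if_pos (Or.inr (Or.inl ⟨hm, rfl⟩))]
      · rw [hg2 m hm]
        simp)
    rw [this, if_pos rfl]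

lemma dot_gram (X Y Γ : Matrix (Idx a b) (Idx a b) F) (v w : Idx a b → F) :
    (X *ᵥ v) ⬝ᵥ (Γ *ᵥ (Y *ᵥ w)) = v ⬝ᵥ ((Xᵀ * Γ * Y) *ᵥ w) := by
  rw [← Matrix.vecMul_transpose, ← Matrix.dotProduct_mulVec, Matrix.mulVec_mulVec,
    Matrix.mulVec_mulVec, Matrix.mul_assoc]

/-- the Gram matrix identity of an element of `SpV G`. -/
theorem gram_of_mem_SpV {g : GL (Idx a b) F} (hS : g ∈ SpV G) :
    (g : Matrix (Idx a b) (Idx a b) F)ᵀ * (Jm a ⊗ₖ G : Matrix (Idx a b) (Idx a b) F) *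
      (g : Matrix (Idx a b) (Idx a b) F) = (Jm a ⊗ₖ G : Matrix (Idx a b) (Idx a b) F) := by
  rw [mem_SpV] at hS
  ext p q
  have h := hS (Pi.single p 1) (Pi.single q 1)
  unfold mv fV at h
  rw [dot_gram, Matrix.mulVec_single_one, single_one_dotProduct, Matrix.mulVec_single_one,
    single_one_dotProduct] at h
  exact h

/-- the Gram matrix criterion for matrices. -/
theorem fV_of_gram {K : Matrix (Idx a b) (Idx a b) F}
    (h : Kᵀ * (Jm a ⊗ₖ G : Matrix (Idx a b) (Idx a b) F) * K =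
      (Jm a ⊗ₖ G : Matrix (Idx a b) (Idx a b) F)) (v w : Idx a b → F) :
    fV G (K *ᵥ v) (K *ᵥ w) = fV G v w := by
  unfold fV
  rw [dot_gram, h]

lemma ablk_transpose (X : Matrix (Idx a b) (Idx a b) F) (i j : Fin a) :
    ablk Xᵀ i j = (ablk X j i)ᵀ := rfl

/-- the blocks of `Xᵀ Γ Y`, `Γ = J ⊗ G`. -/
theorem ablk_gram (X Y : Matrix (Idx a b) (Idx a b) F) (i j : Fin a) :
    ablk (Xᵀ * (Jm a ⊗ₖ G : Matrix (Idx a b) (Idx a b) F) * Y) i j =
      ∑ m, ∑ n, (Jm a m n : F) • ((ablk X m i)ᵀ * G * ablk Y n j) := by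
  rw [ablk_mul]
  simp only [ablk_mul, ablk_kron, ablk_transpose, Finset.sum_mul]
  rw [Finset.sum_comm]
  apply Finset.sum_congr rfl
  intro m _
  apply Finset.sum_congr rfl
  intro n _
  rw [Matrix.mul_smul, Matrix.smul_mul]

/-- where `J` does not vanish, relative to the first hyperbolic pair. -/
lemma Jm_class {o o' : Fin a} (ho : o.val = 0) (ho' : o'.val = 1) {m n : Fin a}
    (h : (Jm a m n : F) ≠ 0) : (m = o ↔ n = o') ∧ (m = o' ↔ n = o) := by
  rw [Jm_apply] at h
  simp only [Fin.ext_iff, ho, ho']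
  by_cases h1 : m.val + 1 = n.val ∧ m.val % 2 = 0
  · constructor <;> constructor <;> intro h' <;> omega
  · rw [if_neg h1] at h
    by_cases h2 : n.val + 1 = m.val ∧ n.val % 2 = 0
    · constructor <;> constructor <;> intro h' <;> omega
    · rw [if_neg h2] at h
      exact absurd rfl h

/-- (R2e-2) the Levi part of a symplectic element stabilising `R` and `R^⊥` is symplectic. -/
theorem levi_symp (ea : Even a) {o o' : Fin a} (ho : o.val = 0) (ho' : o'.val = 1)
    (g' : GL (Idx a b) F) (hS : g' ∈ SpV G)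
    (h1 : ∀ i : Fin a, i ≠ o → ablk (g' : Matrix (Idx a b) (Idx a b) F) i o = 0)
    (h2 : ∀ j : Fin a, j ≠ o' → ablk (g' : Matrix (Idx a b) (Idx a b) F) o' j = 0)
    (K : Matrix (Idx a b) (Idx a b) F)
    (hK : ∀ i j : Fin a, ablk K i j =
      if (i = o ∧ j = o) ∨ (i = o' ∧ j = o') ∨ (i ≠ o ∧ i ≠ o' ∧ j ≠ o ∧ j ≠ o') then
        ablk (g' : Matrix (Idx a b) (Idx a b) F) i j else 0) :
    ∀ v w : Idx a b → F, fV G (K *ᵥ v) (K *ᵥ w) = fV G v w := by
  have hoo' : o ≠ o' := by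
    intro h
    have := congrArg Fin.val h
    omega
  have hoo'' : o' ≠ o := fun h => hoo' h.symm
  apply fV_of_gram
  have hg := gram_of_mem_SpV hS
  apply ext_ablk
  intro i j
  have hgij := congrArg (fun X => ablk X i j) hg
  simp only [ablk_gram, ablk_kron] at hgij
  rw [ablk_gram, ablk_kron]
  by_cases hc : (i = o ∧ j = o') ∨ (i = o' ∧ j = o) ∨ (i ≠ o ∧ i ≠ o' ∧ j ≠ o ∧ j ≠ o')
  · rw [← hgij]
    apply Finset.sum_congr rfl
    intro m _
    apply Finset.sum_congr rfl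
    intro n _
    by_cases hJ : (Jm a m n : F) = 0
    · rw [hJ, zero_smul, zero_smul]
    · obtain ⟨c1, c2⟩ := Jm_class ho ho' hJ
      congr 1
      rw [hK m i, hK n j]
      rcases hc with ⟨hi, hj⟩ | ⟨hi, hj⟩ | ⟨hi, hi', hj, hj'⟩
      · subst hi; subst hj
        by_cases hm : m = i
        · have hn : n = j := c1.mp hm
          rw [if_pos (Or.inl ⟨hm, rfl⟩), if_pos (Or.inr (Or.inl ⟨hn, rfl⟩))]
        · rw [h1 m hm]
          have : ¬ ((m = i ∧ i = i) ∨ (m = j ∧ i = j) ∨ (m ≠ i ∧ m ≠ j ∧ i ≠ i ∧ i ≠ j)) := by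
            rintro (⟨h, _⟩ | ⟨_, h⟩ | ⟨_, _, h, _⟩)
            · exact hm h
            · exact hoo' h
            · exact h rfl
          rw [if_neg this]
          simp only [Matrix.transpose_zero, Matrix.zero_mul, Matrix.mul_zero]
      · subst hi; subst hj
        by_cases hn : n = j
        · have hm : m = i := c2.mpr hn
          rw [if_pos (Or.inr (Or.inl ⟨hm, rfl⟩)), if_pos (Or.inl ⟨hn, rfl⟩)]
        · rw [h1 n hn]
          have : ¬ ((n = j ∧ j = j) ∨ (n = i ∧ j = i) ∨ (n ≠ j ∧ n ≠ i ∧ j ≠ j ∧ j ≠ i)) := by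
            rintro (⟨h, _⟩ | ⟨_, h⟩ | ⟨_, _, h, _⟩)
            · exact hn h
            · exact hoo' h
            · exact h rfl
          rw [if_neg this]
          simp only [Matrix.transpose_zero, Matrix.zero_mul, Matrix.mul_zero]
      · by_cases hm : m = o
        · have hn : n = o' := c1.mp hm
          subst hm; subst hn
          rw [h2 j hj']
          have : ¬ ((n = m ∧ j = m) ∨ (n = n ∧ j = n) ∨ (n ≠ m ∧ n ≠ n ∧ j ≠ m ∧ j ≠ n)) := by
            rintro (⟨_, h⟩ | ⟨_, h⟩ | ⟨_, h, _, _⟩)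
            · exact hj h
            · exact hj' h
            · exact h rfl
          rw [if_neg this]
          simp only [Matrix.transpose_zero, Matrix.zero_mul, Matrix.mul_zero]
        · by_cases hm' : m = o'
          · have hn : n = o := c2.mp hm'
            subst hm'; subst hn
            rw [h2 i hi']
            have : ¬ ((m = n ∧ i = n) ∨ (m = m ∧ i = m) ∨ (m ≠ n ∧ m ≠ m ∧ i ≠ n ∧ i ≠ m)) := by
              rintro (⟨_, h⟩ | ⟨_, h⟩ | ⟨_, h, _, _⟩)
              · exact hi h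
              · exact hi' h
              · exact h rfl
            rw [if_neg this]
            simp only [Matrix.transpose_zero, Matrix.zero_mul, Matrix.mul_zero]
          · have hn : n ≠ o := fun h => hm' (c2.mpr h)
            have hn' : n ≠ o' := fun h => hm (c1.mpr h)
            rw [if_pos (Or.inr (Or.inr ⟨hm, hm', hi, hi'⟩)), if_pos (Or.inr (Or.inr ⟨hn, hn', hj, hj'⟩))]
  · have hJ : (Jm a i j : F) = 0 := by
      by_contra hJ
      obtain ⟨c1, c2⟩ := Jm_class ho ho' hJ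
      apply hc
      by_cases hi : i = o
      · exact Or.inl ⟨hi, c1.mp hi⟩
      · by_cases hi' : i = o'
        · exact Or.inr (Or.inl ⟨hi', c2.mp hi'⟩)
        · exact Or.inr (Or.inr ⟨hi, hi', fun h => hi' (c2.mpr h), fun h => hi (c1.mpr h)⟩)
    rw [hJ, zero_smul]
    apply Finset.sum_eq_zero
    intro m _
    apply Finset.sum_eq_zero
    intro n _
    by_cases hJ' : (Jm a m n : F) = 0
    · rw [hJ', zero_smul]
    · obtain ⟨c1, c2⟩ := Jm_class ho ho' hJ'
      rw [hK m i, hK n j]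
      by_cases hP : (m = o ∧ i = o) ∨ (m = o' ∧ i = o') ∨ (m ≠ o ∧ m ≠ o' ∧ i ≠ o ∧ i ≠ o')
      · by_cases hP' : (n = o ∧ j = o) ∨ (n = o' ∧ j = o') ∨ (n ≠ o ∧ n ≠ o' ∧ j ≠ o ∧ j ≠ o')
        · exfalso
          apply hc
          rcases hP with ⟨hm, hi⟩ | ⟨hm, hi⟩ | ⟨hm, hm', hi, hi'⟩
          · have hn : n = o' := c1.mp hm
            rcases hP' with ⟨hn2, _⟩ | ⟨_, hj⟩ | ⟨_, hn2, _, _⟩
            · exact absurd (hn.symm.trans hn2) hoo''
            · exact Or.inl ⟨hi, hj⟩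
            · exact absurd hn hn2
          · have hn : n = o := c2.mp hm
            rcases hP' with ⟨_, hj⟩ | ⟨hn2, _⟩ | ⟨hn2, _, _, _⟩
            · exact Or.inr (Or.inl ⟨hi, hj⟩)
            · exact absurd (hn.symm.trans hn2) hoo'
            · exact absurd hn hn2
          · rcases hP' with ⟨hn, _⟩ | ⟨hn, _⟩ | ⟨_, _, hj, hj'⟩
            · exact absurd (c2.mpr hn) hm'
            · exact absurd (c1.mpr hn) hm
            · exact Or.inr (Or.inr ⟨hi, hi', hj, hj'⟩)
        · rw [if_neg hP', Matrix.mul_zero, smul_zero]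
      · rw [if_neg hP, Matrix.transpose_zero, Matrix.zero_mul, Matrix.zero_mul, smul_zero]

end Cfsg.Agent.Lib.Helper6.SOTLALeaf
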