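import Mathlib
import Cfsg.Agent.Lib.Helper5.TWU.Defs
import Cfsg.Agent.Lib.Helper8.TW.Defs
import Cfsg.Agent.Lib.Helper23.TWUT3
import Cfsg.Agent.Lib.Helper12.TWIIBZ
import Cfsg.Agent.Lib.Helper14.TWIIDefs
import Cfsg.Agent.Lib.Helper14.TWUIIDefs
import Cfsg.Agent.Lib.Helper6.TWT1
import Cfsg.Agent.Lib.Helper5.UForm
import Cfsg.Agent.Lib.Helper5.HermBridge

/-!
S5672-II market (sub-planner helper14, notes/S5672_II_leaves.lean): leaf **R4** `star_of_QU` (helper6), exact signature.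
An element normalising `slot i (Q_U^A(y))` inside `slot i (End A)` and stabilising `W(i,y)` normalises the LINEAR root group `Q(i,y)`.
-/

set_option autoImplicit false
set_option linter.unusedSectionVars false
set_option linter.unusedVariables false

namespace Cfsg.Agent.Lib.Helper6.TWUIILeaf
open Matrix Cfsg.Geo Cfsg.Agent.Lib.Helper18.AschA89 Cfsg.Agent.Lib.Helper8.TW Cfsg.Agent.Lib.Helper5.TWU
  Cfsg.Agent.Lib.Helper14.TWII Cfsg.Agent.Lib.Helper14.TWUII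
open Cfsg.Agent.Lib.Helper20.UT (hv)
open Cfsg.Agent.Lib.Helper23.TWUQ (NSp)

variable {F : Type*} [Field F] [Fintype F] {t k q : ℕ}

/-- trace onto the fixed field -/
theorem exists_tr_eq (hF : Fintype.card F = q ^ 2) (r : F) (hr : r ^ q = r) : ∃ z : F, z + z ^ q = r := by
  have hf := Cfsg.Agent.Lib.Helper20.UT.hv_unitary (n := 1) hF
  obtain ⟨z, hz⟩ := Cfsg.Agent.Lib.Helper5.UForm.tr_surj hf.involutive hf.ne_refl r hr
  exact ⟨z, hz⟩

theorem exists_moved_q (hF : Fintype.card F = q ^ 2) : ∃ ζ : F, ζ ^ q ≠ ζ := by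
  have hf := Cfsg.Agent.Lib.Helper20.UT.hv_unitary (n := 1) hF
  obtain ⟨z, hz⟩ := Cfsg.Agent.Lib.Helper5.UForm.exists_moved hf.ne_refl
  exact ⟨z, hz⟩

theorem exists_skew_q (hF : Fintype.card F = q ^ 2) : ∃ c : F, c ≠ 0 ∧ c ^ q = -c := by
  have hf := Cfsg.Agent.Lib.Helper20.UT.hv_unitary (n := 1) hF
  obtain ⟨c, hc0, hc⟩ := Cfsg.Agent.Lib.Helper5.UForm.exists_skew hf.involutive hf.ne_refl
  exact ⟨c, hc0, hc⟩

/-- an admissible `c` for every `w` -/
theorem exists_adm_c (hF : Fintype.card F = q ^ 2) (w : Fin k → F) : ∃ c : F, c + c ^ q + hv q w w = 0 := by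
  obtain ⟨z, hz⟩ := exists_tr_eq hF (-(hv q w w)) (by
    rw [Cfsg.Agent.Lib.Helper20.UT.neg_pow_q hF, Cfsg.Agent.Lib.Helper20.UT.hv_self_pow hF])
  exact ⟨z, by rw [hz]; ring⟩

lemma dag_smul6 (c : F) (v : Fin k → F) : dag q (c • v) = c ^ q • dag q v := by
  funext x
  show (c * v x) ^ q = c ^ q * (v x) ^ q
  rw [mul_pow]

lemma dag_zero6 (hq : q ≠ 0) : dag q (0 : Fin k → F) = 0 := by
  funext x
  show (0 : F) ^ q = 0
  exact zero_pow hq

/-- R4 (M-L) **(★)** -/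
theorem star_of_QU (hF : Fintype.card F = q ^ 2) (hk : 2 ≤ k) (i : Fin (t + 1)) (y : Fin k → F) (hy0 : y ≠ 0)
    (hy : hv q y y = 0) (g' : GL (Idx (t + 1) k) F) (hstab : img g' (Wf i y) = Wf i y)
    (hQ : ∀ (w : Fin k → F) (c : F), hv q w y = 0 → c + c ^ q + hv q w w = 0 →
      ∃ M : Matrix (Fin k) (Fin k) F,
        (g' : Matrix (Idx (t + 1) k) (Idx (t + 1) k) F) * slot k (t + 1) i (etaA q y w c) =
          slot k (t + 1) i M * (g' : Matrix (Idx (t + 1) k) (Idx (t + 1) k) F))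
    (ξ : Fin k → F) (hξ : ξ ⬝ᵥ y = 0) :
    ∃ ξ'' : Fin k → F, ξ'' ⬝ᵥ y = 0 ∧
      (g' : Matrix (Idx (t + 1) k) (Idx (t + 1) k) F) * rootN i y ξ =
        rootN i y ξ'' * (g' : Matrix (Idx (t + 1) k) (Idx (t + 1) k) F) := by
  classical
  have hq0 : q ≠ 0 := Cfsg.Agent.Lib.Helper23.TWUT.q_ne_zero hF
  obtain ⟨G, hG⟩ : ∃ G : Matrix (Idx (t + 1) k) (Idx (t + 1) k) F, G = (g' : Matrix _ _ F) := ⟨_, rfl⟩
  rw [← hG] at hQ ⊢
  -- the subspace of matrices `A` with `G * slot i A ∈ slot i (End A) * G`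
  obtain ⟨P, hP⟩ : ∃ P : Matrix (Fin k) (Fin k) F → Prop,
      P = fun A => ∃ M : Matrix (Fin k) (Fin k) F, G * slot k (t + 1) i A = slot k (t + 1) i M * G := ⟨_, rfl⟩
  have P_one : P 1 := by
    rw [hP]
    exact ⟨1, by rw [slot_one, mul_one, one_mul]⟩
  have P_add : ∀ A B, P A → P B → P (A + B) := by
    rw [hP]
    rintro A B ⟨M, hM⟩ ⟨M', hM'⟩
    exact ⟨M + M', by rw [slot_add, slot_add, mul_add, add_mul, hM, hM']⟩
  have P_smul : ∀ (c : F) A, P A → P (c • A) := by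
    rw [hP]
    rintro c A ⟨M, hM⟩
    exact ⟨c • M, by rw [slot_smul, slot_smul, Matrix.mul_smul, Matrix.smul_mul, hM]⟩
  have P_sub : ∀ A B, P A → P B → P (A - B) := by
    intro A B hA hB
    have := P_add A ((-1 : F) • B) hA (P_smul (-1) B hB)
    rwa [neg_one_smul, ← sub_eq_add_neg] at this
  have P_eta : ∀ (w : Fin k → F) (c : F), hv q w y = 0 → c + c ^ q + hv q w w = 0 → P (etaA q y w c - 1) := by
    intro w c hw hc
    apply P_sub _ _ _ P_one
    rw [hP]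
    exact hQ w c hw hc
  -- the vector `v` with `v† = ξ`
  obtain ⟨v, hvdef⟩ : ∃ v : Fin k → F, v = fun x => (ξ x) ^ q := ⟨_, rfl⟩
  have hdagv : dag q v = ξ := by
    funext x
    show (v x) ^ q = ξ x
    rw [hvdef]
    exact Cfsg.Agent.Lib.Helper20.UT.pow_q_pow_q' hF _
  have hyv : hv q y v = 0 := by
    rw [Cfsg.Agent.Lib.Helper20.UT.hv_eq_dot]
    show dag q v ⬝ᵥ y = 0
    rw [hdagv, hξ]
  have hvy : hv q v y = 0 := Cfsg.Agent.Lib.Helper20.UT.hv_symm_zero hF hyv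
  obtain ⟨ζ, hζ⟩ := exists_moved_q hF
  obtain ⟨c₀, hc₀0, hc₀⟩ := exists_skew_q hF
  obtain ⟨c, hc⟩ := exists_adm_c hF v
  obtain ⟨c', hc'⟩ := exists_adm_c hF (ζ • v)
  -- the three building blocks
  obtain ⟨A, hA⟩ : ∃ A : Matrix (Fin k) (Fin k) F, A = Matrix.vecMulVec v (dag q y) := ⟨_, rfl⟩
  obtain ⟨Bm, hBm⟩ : ∃ Bm : Matrix (Fin k) (Fin k) F, Bm = Matrix.vecMulVec y ξ := ⟨_, rfl⟩
  obtain ⟨Cm, hCm⟩ : ∃ Cm : Matrix (Fin k) (Fin k) F, Cm = Matrix.vecMulVec y (dag q y) := ⟨_, rfl⟩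
  have e1 : etaA q y v c - 1 = A - Bm + c • Cm := by
    unfold etaA
    rw [hdagv, ← hA, ← hBm, ← hCm]
    abel
  have e2 : etaA q y (ζ • v) c' - 1 = ζ • A - ζ ^ q • Bm + c' • Cm := by
    unfold etaA
    rw [dag_smul6, hdagv, Matrix.smul_vecMulVec, Matrix.vecMulVec_smul, ← hA, ← hBm, ← hCm]
    abel
  have e3 : etaA q y 0 c₀ - 1 = c₀ • Cm := by
    unfold etaA
    rw [dag_zero6 hq0, Matrix.zero_vecMulVec, Matrix.vecMulVec_zero, ← hCm]
    abel
  have p1 : P (A - Bm + c • Cm) := e1 ▸ P_eta v c hvy hc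
  have p2 : P (ζ • A - ζ ^ q • Bm + c' • Cm) := e2 ▸ P_eta (ζ • v) c'
    (by rw [Cfsg.Agent.Lib.Helper20.UT.hv_smul_left, hvy, mul_zero]) hc'
  have p3 : P (c₀ • Cm) := e3 ▸ P_eta 0 c₀ (Cfsg.Agent.Lib.Helper20.UT.hv_zero_left q y)
    (by rw [Cfsg.Agent.Lib.Helper20.UT.hv_zero_left, hc₀]; ring)
  have pC : P Cm := by
    have := P_smul c₀⁻¹ _ p3
    rwa [smul_smul, inv_mul_cancel₀ hc₀0, one_smul] at this
  have pB' : P ((ζ ^ q - ζ) • Bm) := by
    have h1 := P_sub _ _ (P_sub _ _ (P_smul ζ _ p1) p2) (P_smul (ζ * c - c') _ pC)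
    have e : ζ • (A - Bm + c • Cm) - (ζ • A - ζ ^ q • Bm + c' • Cm) - (ζ * c - c') • Cm = (ζ ^ q - ζ) • Bm := by
      module
    rwa [e] at h1
  have pB : P Bm := by
    have hne : ζ ^ q - ζ ≠ 0 := sub_ne_zero.mpr hζ
    have := P_smul (ζ ^ q - ζ)⁻¹ _ pB'
    rwa [smul_smul, inv_mul_cancel₀ hne, one_smul] at this
  rw [hP, hBm] at pB
  obtain ⟨M, hM⟩ := pB
  -- `M` has its columns in `F y`
  have hN : ∀ u : Idx (t + 1) k → F, rootN i y ξ *ᵥ u ∈ Wf i y := by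
    intro u x
    rw [Cfsg.Agent.Lib.Helper6.TWLeaf.rootN_mulVec_slice]
    exact Submodule.smul_mem _ _ (Submodule.mem_span_singleton_self y)
  have hMW : ∀ u : Idx (t + 1) k → F, slot k (t + 1) i M *ᵥ u ∈ Wf i y := by
    intro u
    have h1 : slot k (t + 1) i M *ᵥ u =
        G *ᵥ (rootN i y ξ *ᵥ (((g'⁻¹ : GL (Idx (t + 1) k) F) : Matrix _ _ F) *ᵥ u)) := by
      have hrn : rootN i y ξ = slot k (t + 1) i (Matrix.vecMulVec y ξ) := rfl
      rw [Matrix.mulVec_mulVec, Matrix.mulVec_mulVec, hrn, hM, Matrix.mul_assoc, hG,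
        ← Units.val_mul, mul_inv_cancel, Units.val_one, Matrix.mul_one]
    rw [h1, hG, ← hstab]
    exact Cfsg.Agent.Lib.Helper12.TWIIBLeaf.mv_mem_img g' _ _ (hN _)
  have hcol : ∀ a' : Fin k → F, M *ᵥ a' ∈ Submodule.span F {y} := by
    intro a'
    obtain ⟨x0⟩ : Nonempty (Idx (t + 1) k) := ⟨fun _ => ⟨0, by omega⟩⟩
    have h1 := hMW (fun z => a' (z i)) x0
    rw [Cfsg.Agent.Lib.Helper6.TWLeaf.slot_mulVec_slice] at h1
    have h2 : slice i x0 (fun z : Idx (t + 1) k => a' (z i)) = a' := by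
      funext a
      show a' (Function.update x0 i a i) = a' a
      rw [Function.update_self]
    rwa [h2] at h1
  have hφ : ∀ b : Fin k, ∃ φ : F, φ • y = M *ᵥ Pi.single b 1 := fun b =>
    Submodule.mem_span_singleton.mp (hcol _)
  choose ξ'' hξ'' using hφ
  have hMeq : M = Matrix.vecMulVec y ξ'' := by
    ext a b
    have h1 := congrFun (hξ'' b) a
    rw [Matrix.mulVec_single_one] at h1
    rw [Matrix.vecMulVec_apply]
    show M a b = y a * ξ'' b
    rw [mul_comm]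
    exact h1.symm
  refine ⟨ξ'', ?_, ?_⟩
  · -- `M * M = 0`
    have hNN : rootN i y ξ * rootN i y ξ = 0 := by
      unfold rootN
      rw [slot_mul, Matrix.vecMulVec_mul_vecMulVec, hξ, zero_smul, Matrix.vecMulVec_zero, slot_zero]
    have hrn : rootN i y ξ = slot k (t + 1) i (Matrix.vecMulVec y ξ) := rfl
    have h1 : slot k (t + 1) i M * slot k (t + 1) i M * G = 0 := by
      rw [Matrix.mul_assoc, ← hM, ← Matrix.mul_assoc, ← hM, Matrix.mul_assoc, ← hrn, hNN, Matrix.mul_zero]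
    have h2 : slot k (t + 1) i M * slot k (t + 1) i M = 0 := by
      have := congrArg (fun X => X * ((g'⁻¹ : GL (Idx (t + 1) k) F) : Matrix _ _ F)) h1
      beta_reduce at this
      rwa [Matrix.mul_assoc, hG, ← Units.val_mul, mul_inv_cancel, Units.val_one, Matrix.mul_one,
        Matrix.zero_mul] at this
    rw [slot_mul, ← slot_zero (m := k) (t := t + 1) i] at h2
    have h3 : M * M = 0 := Cfsg.Agent.Lib.Helper6.TWLeaf.slot_injective i _ _ h2
    rw [hMeq, Matrix.vecMulVec_mul_vecMulVec] at h3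
    by_contra hne
    apply hne
    obtain ⟨a, ha⟩ := Function.ne_iff.mp hy0
    have h6 : ξ'' = 0 := by
      funext b
      have := congrFun (congrFun h3 a) b
      rw [Matrix.vecMulVec_apply, Pi.smul_apply, smul_eq_mul] at this
      rcases mul_eq_zero.mp this with h7 | h7
      · exact absurd h7 ha
      · rcases mul_eq_zero.mp h7 with h8 | h8
        · exact absurd h8 hne
        · exact h8
    rw [h6, zero_dotProduct]
  · have hrn : ∀ η : Fin k → F, rootN i y η = slot k (t + 1) i (Matrix.vecMulVec y η) := fun _ => rfl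
    rw [hrn, hrn, hM, hMeq]

end Cfsg.Agent.Lib.Helper6.TWUIILeaf
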