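import Mathlib
import Cfsg.Agent.Lib.Helper5.TWU.Defs
import Cfsg.Agent.Lib.Helper14.TWIIDefs
import Cfsg.Agent.Lib.Helper19.TWU3Defs
import Cfsg.Agent.Lib.Helper28.TWU2ADefs
import Cfsg.Agent.Lib.Helper23.TWUT3
import Cfsg.Agent.Lib.Helper19.TWU3Tool
import Cfsg.Agent.Lib.Helper12.TWU3A910

/-!
S5672-IIA market (sub-planner helper28, notes/S5672_IIA_leaves.lean): leaf **L6** `skew_of_mem_DUV` (helper6), exact signature.
By-product: `nilU_ne_zero` (`nilU q J z ≠ 0` when `z j ≠ 0` on `J`, `0 < k`).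
-/

set_option autoImplicit false
set_option linter.unusedSectionVars false
set_option linter.unusedVariables false

namespace Cfsg.Agent.Lib.Helper6.TWU2ALeaf
open Matrix Cfsg.Geo Cfsg.Agent.Lib.Helper18.AschA89 Cfsg.Agent.Lib.Helper8.TW
open Cfsg.Agent.Lib.Helper5.TWU Cfsg.Agent.Lib.Helper19.TWU3 Cfsg.Agent.Lib.Helper28.TWU2A
open Cfsg.Agent.Lib.Helper20.UT (hv)
open Cfsg.Agent.Lib.Helper23.TWUT (adjM)

variable {F : Type*} [Field F] [Fintype F] {t k q : ℕ}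

/-- `nilU q J z ≠ 0` -/
theorem nilU_ne_zero (hk : 0 < k) (J : Finset (Fin t)) (z : Fin t → Fin k → F) (hz : ∀ j ∈ J, z j ≠ 0) :
    nilU q J z ≠ 0 := by
  classical
  have hex : ∀ j : Fin t, ∃ a : Fin k, j ∈ J → z j a ≠ 0 := by
    intro j
    by_cases hj : j ∈ J
    · obtain ⟨a, ha⟩ := Function.ne_iff.mp (hz j hj)
      exact ⟨a, fun _ => ha⟩
    · exact ⟨⟨0, hk⟩, fun h => absurd h hj⟩
  choose x hx using hex
  intro h0
  have h1 : nilU q J z x x = 0 := by rw [h0, Matrix.zero_apply]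
  unfold nilU at h1
  rw [if_pos (fun _ _ => rfl)] at h1
  rw [Finset.prod_eq_zero_iff] at h1
  obtain ⟨j, hj, hj0⟩ := h1
  rcases mul_eq_zero.mp hj0 with h2 | h2
  · exact hx j hj h2
  · exact hx j hj (eq_zero_of_pow_eq_zero h2)

/-- L6 (M) -/
theorem skew_of_mem_DUV (hF : Fintype.card F = q ^ 2) (hk : 2 ≤ k) (J : Finset (Fin t)) (hJ : J.Nonempty) (z : Fin t → Fin k → F)
    (hz : ∀ j ∈ J, z j ≠ 0 ∧ hv q (z j) (z j) = 0) (c : F) (g : GL (Idx t k) F) (hg : g ∈ DUV t k q F)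
    (hgv : (g : Matrix (Idx t k) (Idx t k) F) = 1 + c • nilU q J z) : c ^ q = -c := by
  obtain ⟨N, hN⟩ : ∃ N, N = nilU q J z := ⟨_, rfl⟩
  have hsq : N * N = 0 := by
    rw [hN]
    exact Cfsg.Agent.Lib.Helper12.TWU3Leaf.nilU_sq_zero J hJ z (fun j hj => (hz j hj).2)
  have hadj : adjM q N = N := by
    rw [hN]
    exact Cfsg.Agent.Lib.Helper12.TWU3Leaf.adjM_nilU hF J z
  have hN0 : N ≠ 0 := by
    rw [hN]
    exact nilU_ne_zero (by omega) J z (fun j hj => (hz j hj).1)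
  obtain ⟨μ, hμ⟩ := mem_DUV.mp hg
  have hval : ∀ u, mv g u = u + c • (N *ᵥ u) := by
    intro u
    unfold mv
    rw [hgv, ← hN, Matrix.add_mulVec, Matrix.one_mulVec, Matrix.smul_mulVec]
  have hself : ∀ u v, hv q u (N *ᵥ v) = hv q (N *ᵥ u) v := by
    intro u v
    rw [Cfsg.Agent.Lib.Helper23.TWUT.hv_mulVec_right hF, hadj]
  have hNN : ∀ u v, hv q (N *ᵥ u) (N *ᵥ v) = 0 := by
    intro u v
    rw [← hself, Matrix.mulVec_mulVec, hsq, Matrix.zero_mulVec]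
    exact Cfsg.Agent.Lib.Helper20.UT.hv_zero_right hF u
  have key : ∀ u v, (c + c ^ q) * hv q (N *ᵥ u) v = ((μ : F) - 1) * hv q u v := by
    intro u v
    have h1 := hμ u v
    rw [hval, hval, Cfsg.Agent.Lib.Helper20.UT.hv_add_left, Cfsg.Agent.Lib.Helper20.UT.hv_add_right hF,
      Cfsg.Agent.Lib.Helper20.UT.hv_add_right hF, Cfsg.Agent.Lib.Helper20.UT.hv_smul_left,
      Cfsg.Agent.Lib.Helper20.UT.hv_smul_left, Cfsg.Agent.Lib.Helper20.UT.hv_smul_right,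
      Cfsg.Agent.Lib.Helper20.UT.hv_smul_right, hNN, hself] at h1
    linear_combination h1
  obtain ⟨w, v, hwv⟩ : ∃ w v, hv q (N *ᵥ w) v ≠ 0 := by
    by_contra hcon
    push Not at hcon
    apply hN0
    apply Cfsg.Agent.Lib.Helper19.TWU3Leaf.mat_ext_mulVec
    intro w
    rw [Matrix.zero_mulVec]
    exact Cfsg.Agent.Lib.Helper23.TWUT.hv_nondeg_left (Cfsg.Agent.Lib.Helper23.TWUT.q_ne_zero hF) (hcon w)
  have hμ1 : (μ : F) - 1 = 0 := by
    have h1 := key (N *ᵥ w) v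
    rw [Matrix.mulVec_mulVec, hsq, Matrix.zero_mulVec, Cfsg.Agent.Lib.Helper20.UT.hv_zero_left, mul_zero] at h1
    rcases mul_eq_zero.mp h1.symm with h | h
    · exact h
    · exact absurd h hwv
  have h2 := key w v
  rw [hμ1, zero_mul] at h2
  rcases mul_eq_zero.mp h2 with h | h
  · linear_combination h
  · exact absurd h hwv

end Cfsg.Agent.Lib.Helper6.TWU2ALeaf
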