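import Mathlib
import Cfsg.Agent.Lib.Helper5.TWU.Defs
import Cfsg.Agent.Lib.Helper14.TWIIDefs
import Cfsg.Agent.Lib.Helper19.TWU3Defs
import Cfsg.Agent.Lib.Helper28.TWU2ADefs
import Cfsg.Agent.Lib.Helper23.TWUT3
import Cfsg.Agent.Lib.Helper19.TWU3Tool
import Cfsg.Agent.Lib.Helper12.TWTS
import Cfsg.Agent.Lib.Helper12.TWUIIS
import Cfsg.Agent.Lib.Helper22.UnitRA

/-!
S5672-IIA market (sub-planner helper28, notes/S5672_IIA_leaves.lean): leaf **L7** `XTU_of_one` (helper6), exact signature.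
By-products: `vv_conj` (`d (s w†) d⁻¹ = (d s)(d w)†` for an isometry `d`), `nilU_conj_slot`, `nilU_update_smul`, `nilU_congr`.
-/

set_option autoImplicit false
set_option linter.unusedSectionVars false
set_option linter.unusedVariables false

namespace Cfsg.Agent.Lib.Helper6.TWU2ALeaf
open Matrix Cfsg.Geo Cfsg.Agent.Lib.Helper18.AschA89 Cfsg.Agent.Lib.Helper8.TW
open Cfsg.Agent.Lib.Helper5.TWU Cfsg.Agent.Lib.Helper19.TWU3 Cfsg.Agent.Lib.Helper28.TWU2A
open Cfsg.Agent.Lib.Helper20.UT (hv)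
open Cfsg.Agent.Lib.Helper23.TWUT (adjM)

variable {F : Type*} [Field F] [Fintype F] {t k q : ℕ}

/-- `d (s w†) d⁻¹ = (d s)(d w)†` for an isometry `d` -/
theorem vv_conj (d : GL (Fin k) F) (hd : d ∈ GUA k q F) (s w : Fin k → F) :
    (d : Matrix (Fin k) (Fin k) F) * vv q s w * ((d⁻¹ : GL (Fin k) F) : Matrix (Fin k) (Fin k) F) =
      vv q ((d : Matrix (Fin k) (Fin k) F) *ᵥ s) ((d : Matrix (Fin k) (Fin k) F) *ᵥ w) := by
  apply Cfsg.Agent.Lib.Helper19.TWU3Leaf.mat_ext_mulVec
  intro v
  rw [← Matrix.mulVec_mulVec, ← Matrix.mulVec_mulVec, Cfsg.Agent.Lib.Helper19.TWU3Leaf.vv_mulVec,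
    Cfsg.Agent.Lib.Helper19.TWU3Leaf.vv_mulVec, Matrix.mulVec_smul]
  congr 1
  have h1 := Cfsg.Agent.Lib.Helper23.TWUT.mem_GUA.mp hd
    (((d⁻¹ : GL (Fin k) F) : Matrix (Fin k) (Fin k) F) *ᵥ v) w
  rw [Matrix.mulVec_mulVec, ← Units.val_mul, mul_inv_cancel, Units.val_one, Matrix.one_mulVec] at h1
  exact h1.symm

/-- `nilU q J` depends only on the vectors at the positions of `J` -/
theorem nilU_congr (J : Finset (Fin t)) (y y' : Fin t → Fin k → F) (h : ∀ j ∈ J, y j = y' j) :
    nilU q J y = nilU q J y' := by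
  funext x x'
  unfold nilU
  by_cases hc : ∀ j, j ∉ J → x j = x' j
  · rw [if_pos hc, if_pos hc]
    apply Finset.prod_congr rfl
    intro j hj
    rw [h j hj]
  · rw [if_neg hc, if_neg hc]

/-- scaling one of the vectors -/
theorem nilU_update_smul (J : Finset (Fin t)) (y : Fin t → Fin k → F) {j₀ : Fin t} (hj₀ : j₀ ∈ J) (l : F) :
    nilU q J (Function.update y j₀ (l • y j₀)) = (l * l ^ q) • nilU q J y := by
  funext x x'
  rw [Matrix.smul_apply]
  unfold nilU
  by_cases hc : ∀ j, j ∉ J → x j = x' j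
  · rw [if_pos hc, if_pos hc, ← Finset.mul_prod_erase J _ hj₀, ← Finset.mul_prod_erase J _ hj₀,
      Function.update_self, Pi.smul_apply, Pi.smul_apply, smul_eq_mul, smul_eq_mul, smul_eq_mul]
    have h1 : ∏ j ∈ J.erase j₀, Function.update y j₀ (l • y j₀) j (x j) *
        (Function.update y j₀ (l • y j₀) j (x' j)) ^ q = ∏ j ∈ J.erase j₀, y j (x j) * (y j (x' j)) ^ q := by
      apply Finset.prod_congr rfl
      intro j hj
      rw [Function.update_of_ne (Finset.ne_of_mem_erase hj)]
    rw [h1, mul_pow]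
    ring
  · rw [if_neg hc, if_neg hc, smul_zero]

/-- conjugating by a `slot` isometry moves one of the vectors -/
theorem nilU_conj_slot (J : Finset (Fin t)) (z : Fin t → Fin k → F) {j₀ : Fin t} (hj₀ : j₀ ∈ J) (d : GL (Fin k) F)
    (hd : d ∈ GUA k q F) :
    slot k t j₀ (d : Matrix (Fin k) (Fin k) F) * nilU q J z *
        slot k t j₀ ((d⁻¹ : GL (Fin k) F) : Matrix (Fin k) (Fin k) F) =
      nilU q J (Function.update z j₀ ((d : Matrix (Fin k) (Fin k) F) *ᵥ z j₀)) := by
  rw [Cfsg.Agent.Lib.Helper19.TWU3Leaf.nilU_eq_ptens, Cfsg.Agent.Lib.Helper12.TWLeaf.slot_mul_ptens,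
    Cfsg.Agent.Lib.Helper12.TWLeaf.ptens_mul_slot, Cfsg.Agent.Lib.Helper19.TWU3Leaf.nilU_eq_ptens]
  congr 1
  funext j
  by_cases hj : j = j₀
  · subst hj
    rw [Function.update_self, Function.update_self]
    unfold famU
    rw [if_pos hj₀, if_pos hj₀, Function.update_self, vv_conj d hd]
  · rw [Function.update_of_ne hj, Function.update_of_ne hj]
    unfold famU
    rw [Function.update_of_ne hj]

/-- L7 (M-L) one elementary element gives `XTU` -/
theorem XTU_of_one (hF : Fintype.card F = q ^ 2) (hk : 3 ≤ k) (X : Subgroup (GL (Idx t k) F)) (hHX : HU t k q F ≤ X)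
    (J : Finset (Fin t)) (hJ : J.Nonempty) (z : Fin t → Fin k → F) (hz : ∀ j ∈ J, z j ≠ 0 ∧ hv q (z j) (z j) = 0)
    (c : F) (hc0 : c ≠ 0) (hc : c ^ q = -c) (h : InM X (1 + c • nilU q J z)) : XTU q X J := by
  classical
  -- moving the vectors
  have hmove : ∀ y : Fin t → Fin k → F, (∀ j ∈ J, y j ≠ 0 ∧ hv q (y j) (y j) = 0) →
      InM X (1 + c • nilU q J y) := by
    intro y hy
    have hind : ∀ S : Finset (Fin t), S ⊆ J →
        InM X (1 + c • nilU q J (fun j => if j ∈ S then y j else z j)) := by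
      intro S
      induction S using Finset.induction_on with
      | empty =>
        intro _
        simpa using h
      | insert a S ha ih =>
        intro hS
        have haJ : a ∈ J := hS (Finset.mem_insert_self a S)
        obtain ⟨g, hgX, hgv⟩ := ih (fun j hj => hS (Finset.mem_insert_of_mem hj))
        obtain ⟨d, hdU, hdet, hdz⟩ := Cfsg.Agent.Lib.Helper12.TWUIILeaf.exists_SUA_map hF hk (z a) (y a)
          (hz a haJ).1 (hz a haJ).2 (hy a haJ).1 (hy a haJ).2
        have hsl : slotGL a d ∈ X := hHX (Cfsg.Agent.Lib.Helper12.TWUIILeaf.slotGL_mem_HU hF a d hdU hdet)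
        refine ⟨slotGL a d * g * (slotGL a d)⁻¹, X.mul_mem (X.mul_mem hsl hgX) (X.inv_mem hsl), ?_⟩
        have hinv : (((slotGL a d)⁻¹ : GL (Idx t k) F) : Matrix (Idx t k) (Idx t k) F) =
            slot k t a ((d⁻¹ : GL (Fin k) F) : Matrix (Fin k) (Fin k) F) := rfl
        rw [Units.val_mul, Units.val_mul, hgv, hinv, slotGL_val, Matrix.mul_add, Matrix.add_mul, Matrix.mul_one,
          Matrix.mul_smul, Matrix.smul_mul, nilU_conj_slot J _ haJ d hdU]
        have h1 : slot k t a (d : Matrix (Fin k) (Fin k) F) *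
            slot k t a ((d⁻¹ : GL (Fin k) F) : Matrix (Fin k) (Fin k) F) = 1 := by
          rw [slot_mul, ← Units.val_mul, mul_inv_cancel, Units.val_one, slot_one]
        rw [h1]
        congr 2
        apply nilU_congr
        intro j hj
        by_cases hja : j = a
        · subst hja
          rw [Function.update_self, if_neg ha, hdz, if_pos (Finset.mem_insert_self j S)]
        · rw [Function.update_of_ne hja]
          by_cases hjS : j ∈ S
          · rw [if_pos hjS, if_pos (Finset.mem_insert_of_mem hjS)]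
          · rw [if_neg hjS, if_neg (fun h' => by
              rcases Finset.mem_insert.mp h' with h'' | h''
              · exact hja h''
              · exact hjS h'')]
    have h2 := hind J (Finset.Subset.refl J)
    have h3 : nilU q J (fun j => if j ∈ J then y j else z j) = nilU q J y := by
      apply nilU_congr
      intro j hj
      rw [if_pos hj]
    rwa [h3] at h2
  -- scalars
  intro y c' hy hc'
  by_cases hc'0 : c' = 0
  · rw [hc'0, zero_smul, add_zero]
    exact ⟨1, X.one_mem, rfl⟩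
  · obtain ⟨s, hs⟩ : ∃ s : F, s = c' * c⁻¹ := ⟨_, rfl⟩
    have hs0 : s ≠ 0 := by
      rw [hs]
      exact mul_ne_zero hc'0 (inv_ne_zero hc0)
    have hsq : s ^ q = s := by
      rw [hs, mul_pow, inv_pow, hc', hc]
      field_simp
    obtain ⟨l, hl0, hl⟩ := Cfsg.Agent.Lib.Helper22.UnitR.exists_norm_eq hF s hs0 hsq
    obtain ⟨j₀, hj₀⟩ := hJ
    have h4 := hmove (Function.update y j₀ (l • y j₀)) (by
      intro j hj
      by_cases hjj : j = j₀
      · subst hjj
        rw [Function.update_self]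
        refine ⟨smul_ne_zero hl0 (hy j hj).1, ?_⟩
        rw [Cfsg.Agent.Lib.Helper20.UT.hv_smul_left, Cfsg.Agent.Lib.Helper20.UT.hv_smul_right, (hy j hj).2,
          mul_zero, mul_zero]
      · rw [Function.update_of_ne hjj]
        exact hy j hj)
    rw [nilU_update_smul J y hj₀ l, smul_smul] at h4
    have h5 : c * (l * l ^ q) = c' := by
      rw [mul_comm l, hl, hs]
      field_simp
    rwa [h5] at h4

end Cfsg.Agent.Lib.Helper6.TWU2ALeaf
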