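import Mathlib
import Cfsg.Agent.Lib.Helper5.TWU.Defs
import Cfsg.Agent.Lib.Helper14.TWIIDefs
import Cfsg.Agent.Lib.Helper19.TWU3Defs
import Cfsg.Agent.Lib.Helper28.TWU2ADefs

/-!
S5672-IIA market (sub-planner helper28, notes/S5672_IIA_leaves.lean): leaf **S2** `nilU_singleton` (helper6), exact signature.
-/

set_option autoImplicit false
set_option linter.unusedSectionVars false
set_option linter.unusedVariables false

namespace Cfsg.Agent.Lib.Helper6.TWU2ALeaf
open Matrix Cfsg.Geo Cfsg.Agent.Lib.Helper18.AschA89 Cfsg.Agent.Lib.Helper8.TW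
open Cfsg.Agent.Lib.Helper5.TWU Cfsg.Agent.Lib.Helper19.TWU3 Cfsg.Agent.Lib.Helper28.TWU2A
open Cfsg.Agent.Lib.Helper20.UT (hv)

variable {F : Type*} [Field F] [Fintype F] {t k q : ℕ}

/-- S2 (S) -/
theorem nilU_singleton (i : Fin t) (y : Fin t → Fin k → F) :
    nilU q {i} y = rootN i (y i) (dag q (y i)) := by
  funext x x'
  unfold nilU rootN
  rw [slot_apply, Finset.prod_singleton, Matrix.vecMulVec_apply]
  simp only [Finset.mem_singleton]
  rfl

end Cfsg.Agent.Lib.Helper6.TWU2ALeaf
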