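import Mathlib
import Cfsg.Agent.Lib.Helper15.AschUCtx
import Cfsg.Agent.Lib.Helper4.AschA4
import Cfsg.Agent.Lib.Helper6.TWQ1
import Cfsg.Agent.Lib.Helper20.AschA89F2J
import Cfsg.Agent.Lib.Helper1.AFKrP
import Cfsg.Agent.Lib.Helper25.AFCb
import Cfsg.Agent.Lib.Helper25.AFTns
import Cfsg.Agent.Lib.Helper23.SpPrfB5
import Cfsg.Agent.Lib.Helper22.UnitRA
import Cfsg.Agent.Lib.Helper22.PolUnD
import Cfsg.Agent.Lib.Helper7.AschForms

/-!
S5663 sub-block T2 (sub-planner helper14), leaves T2-A `exists_hyp_basis`, T2-B `std_to_Jt`, T2-C `coeff_fixed` (helper6).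
-/

set_option autoImplicit false
set_option linter.unusedSectionVars false
set_option linter.unusedVariables false

namespace Cfsg.Agent.Lib.Helper6.UALeaf
open Matrix Cfsg Cfsg.Geo Cfsg.Agent.Lib.Helper20.Asch
open Cfsg.Agent.Lib.Helper15.AschU Cfsg.Agent.Lib.Helper15.AschForm Cfsg.Agent.Lib.Helper18.AschA89

variable {F : Type*} [Field F] [Fintype F] {n q : ℕ} {H : Subgroup (GL (Fin n) F)}

/-- a hermitian non-degenerate Gram matrix is congruent to `1` (copy of helper23's `wu2_std_one`, to keep the imports light) -/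
theorem herm_std_one (hF : Fintype.card F = q ^ 2) {σ : F ≃+* F} (hσ : IsFrob q σ) {m : ℕ}
    (G : Matrix (Fin m) (Fin m) F) (hherm : (G.map σ)ᵀ = G) (hdet : G.det ≠ 0) :
    ∃ S : GL (Fin m) F, (S : Matrix (Fin m) (Fin m) F)ᵀ * G *
      (S : Matrix (Fin m) (Fin m) F).map (σ : F →+* F) = 1 := by
  have hup := hσ.unitaryPow_sform G hherm hdet
  obtain ⟨S, hS⟩ := Cfsg.Agent.Lib.Helper22.UnitR.exists_std_basis hF m _ hup
  refine ⟨S, ?_⟩
  apply Cfsg.Agent.Lib.Helper7.AschLeaf.eq_of_forall_dot (σ : F →+* F)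
  intro u v
  rw [← Cfsg.Agent.Lib.Helper7.AschLeaf.dot_conj]
  have h1 := hS u v
  unfold sform at h1
  rw [h1, (hσ.rform (n := m)).rep, gramF_hermForm hσ.q_ne_zero]

/-- (T2-A) -/
theorem exists_hyp_basis (hF : Fintype.card F = q ^ 2) {σ : F ≃+* F} (hσ : IsFrob q σ) :
    ∃ (S₀ : GL (Fin 2) F) (θ : F), θ ≠ 0 ∧ σ θ = -θ ∧
      (S₀ : Matrix (Fin 2) (Fin 2) F)ᵀ * (S₀ : Matrix (Fin 2) (Fin 2) F).map (σ : F →+* F) =
        θ • (J2 : Matrix (Fin 2) (Fin 2) F) := by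
  classical
  -- a skew element
  obtain ⟨x, hx⟩ : ∃ x : F, σ x ≠ x := by
    by_contra hcon
    push Not at hcon
    apply hσ.ne_refl
    ext a
    exact hcon a
  set θ : F := x - σ x with hθ
  have hθ0 : θ ≠ 0 := by
    intro h0
    apply hx
    rw [hθ, sub_eq_zero] at h0
    exact h0.symm
  have hσθ : σ θ = -θ := by
    rw [hθ, map_sub, hσ.invol]
    ring
  set G : Matrix (Fin 2) (Fin 2) F := θ • (J2 : Matrix (Fin 2) (Fin 2) F) with hG
  have hJmap : (J2 : Matrix (Fin 2) (Fin 2) F).map σ = J2 := by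
    ext i j
    fin_cases i <;> fin_cases j <;> simp [J2]
  have hherm : (G.map σ)ᵀ = G := by
    ext i j
    fin_cases i <;> fin_cases j <;> simp [hG, J2, hσθ]
  have hdet : G.det ≠ 0 := by
    rw [hG, Matrix.det_fin_two]
    simp [J2]
    exact hθ0
  obtain ⟨S, hS⟩ := herm_std_one hF hσ G hherm hdet
  refine ⟨S⁻¹, θ, hθ0, hσθ, ?_⟩
  have h1 : ((S⁻¹ : GL (Fin 2) F) : Matrix (Fin 2) (Fin 2) F) * (S : Matrix (Fin 2) (Fin 2) F) = 1 := by
    rw [← Units.val_mul, inv_mul_cancel, Units.val_one]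
  have h2 : (S : Matrix (Fin 2) (Fin 2) F) * ((S⁻¹ : GL (Fin 2) F) : Matrix (Fin 2) (Fin 2) F) = 1 := by
    rw [← Units.val_mul, mul_inv_cancel, Units.val_one]
  have h3 : ((S⁻¹ : GL (Fin 2) F) : Matrix (Fin 2) (Fin 2) F)ᵀ * (S : Matrix (Fin 2) (Fin 2) F)ᵀ = 1 := by
    rw [← Matrix.transpose_mul, h2, Matrix.transpose_one]
  have h4 : (S : Matrix (Fin 2) (Fin 2) F).map (σ : F →+* F) *
      ((S⁻¹ : GL (Fin 2) F) : Matrix (Fin 2) (Fin 2) F).map (σ : F →+* F) = 1 := by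
    rw [← Matrix.map_mul, h2, Matrix.map_one _ (map_zero _) (map_one _)]
  calc ((S⁻¹ : GL (Fin 2) F) : Matrix (Fin 2) (Fin 2) F)ᵀ *
        ((S⁻¹ : GL (Fin 2) F) : Matrix (Fin 2) (Fin 2) F).map (σ : F →+* F)
      = ((S⁻¹ : GL (Fin 2) F) : Matrix (Fin 2) (Fin 2) F)ᵀ * 1 *
        ((S⁻¹ : GL (Fin 2) F) : Matrix (Fin 2) (Fin 2) F).map (σ : F →+* F) := by rw [mul_one]
    _ = ((S⁻¹ : GL (Fin 2) F) : Matrix (Fin 2) (Fin 2) F)ᵀ *
        ((S : Matrix (Fin 2) (Fin 2) F)ᵀ * G * (S : Matrix (Fin 2) (Fin 2) F).map (σ : F →+* F)) *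
        ((S⁻¹ : GL (Fin 2) F) : Matrix (Fin 2) (Fin 2) F).map (σ : F →+* F) := by rw [hS]
    _ = (((S⁻¹ : GL (Fin 2) F) : Matrix (Fin 2) (Fin 2) F)ᵀ * (S : Matrix (Fin 2) (Fin 2) F)ᵀ) * G *
        ((S : Matrix (Fin 2) (Fin 2) F).map (σ : F →+* F) *
        ((S⁻¹ : GL (Fin 2) F) : Matrix (Fin 2) (Fin 2) F).map (σ : F →+* F)) := by
        simp only [mul_assoc]
    _ = G := by rw [h3, h4, one_mul, mul_one]

end Cfsg.Agent.Lib.Helper6.UALeaf
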