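import Mathlib
import Cfsg.Agent.Lib.Helper15.AschUCtx
import Cfsg.Agent.Lib.Helper4.AschA4
import Cfsg.Agent.Lib.Helper6.TWQ1
import Cfsg.Agent.Lib.Helper20.AschA89F2J
import Cfsg.Agent.Lib.Helper1.AFKrP
import Cfsg.Agent.Lib.Helper25.AFCb
import Cfsg.Agent.Lib.Helper25.AFTns
import Cfsg.Agent.Lib.Helper23.SpPrfB5
import Cfsg.Agent.Lib.Helper22.UnitRA
import Cfsg.Agent.Lib.Helper22.PolUnD

/-!
S5663 sub-block T2 (sub-planner helper14), leaves T2-B `std_to_Jt` and T2-C `coeff_fixed` (helper6).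
-/

set_option autoImplicit false
set_option linter.unusedSectionVars false
set_option linter.unusedVariables false

namespace Cfsg.Agent.Lib.Helper6.UALeaf
open Matrix Cfsg Cfsg.Geo Cfsg.Agent.Lib.Helper20.Asch
open Cfsg.Agent.Lib.Helper15.AschU Cfsg.Agent.Lib.Helper15.AschForm Cfsg.Agent.Lib.Helper18.AschA89

variable {F : Type*} [Field F] [Fintype F] {n q : ℕ} {H : Subgroup (GL (Fin n) F)}

/-- (T2-B) -/
theorem std_to_Jt (σ : F →+* F) {t : ℕ} (e : Fin n ≃ (Fin t → Fin 2)) (P : GL (Fin n) F) (c : F)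
    (hstd : gramIn σ 1 e P = c • (1 : Matrix (Fin t → Fin 2) (Fin t → Fin 2) F))
    (S₀ : GL (Fin 2) F) (θ : F)
    (hS : (S₀ : Matrix (Fin 2) (Fin 2) F)ᵀ * (S₀ : Matrix (Fin 2) (Fin 2) F).map σ = θ • (J2 : Matrix (Fin 2) (Fin 2) F)) :
    ∃ P' : GL (Fin n) F, tensorWreathSubgroup 2 t e P' = tensorWreathSubgroup 2 t e P ∧
      gramIn σ 1 e P' = (c * θ ^ t) • (Jt t : Matrix (Fin t → Fin 2) (Fin t → Fin 2) F) := by
  obtain ⟨g, hgmem, hgval⟩ := Cfsg.Agent.Lib.Helper25.AFLeaf.exists_ptensGL (m := 2) (t := t) (fun _ => S₀)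
  refine ⟨P * glReindex e.symm g, Cfsg.Agent.Lib.Helper25.AFLeaf.tensorWreathSubgroup_mul e P g hgmem, ?_⟩
  rw [Cfsg.Agent.Lib.Helper25.AFLeaf.gramIn_mul, hstd, hgval,
    Cfsg.Agent.Lib.Helper20.AschLeaf.ptens_transpose, Cfsg.Agent.Lib.Helper1.AFLeaf.map_ptens,
    Matrix.mul_smul, Matrix.smul_mul, Matrix.mul_one, Cfsg.Agent.Lib.Helper20.AschLeaf.ptens_mul]
  have h1 : (fun i : Fin t => (S₀ : Matrix (Fin 2) (Fin 2) F)ᵀ *
      (S₀ : Matrix (Fin 2) (Fin 2) F).map σ) = fun _ => θ • (J2 : Matrix (Fin 2) (Fin 2) F) := by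
    funext i
    exact hS
  rw [h1, Cfsg.Agent.Lib.Helper20.AschLeaf.ptens_smul, Finset.prod_const, Finset.card_univ,
    Fintype.card_fin, smul_smul]
  rfl

/-- (T2-C) -/
theorem coeff_fixed {σ : F ≃+* F} (hσ : IsFrob q σ) {t : ℕ} (e : Fin n ≃ (Fin t → Fin 2)) (P : GL (Fin n) F) (c : F)
    (hstd : gramIn (σ : F →+* F) 1 e P = c • (1 : Matrix (Fin t → Fin 2) (Fin t → Fin 2) F)) : σ c = c := by
  have h1 := congrFun (congrFun hstd (fun _ => 0)) (fun _ => 0)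
  rw [Matrix.smul_apply, Matrix.one_apply_eq, smul_eq_mul, mul_one] at h1
  rw [← h1]
  unfold gramIn
  rw [Matrix.reindex_apply, Matrix.submatrix_apply, Matrix.mul_one, Matrix.mul_apply, map_sum]
  refine Finset.sum_congr rfl (fun k _ => ?_)
  rw [Matrix.transpose_apply, Matrix.map_apply, map_mul]
  change σ _ * σ (σ _) = _
  rw [hσ.invol, mul_comm]
  rfl

end Cfsg.Agent.Lib.Helper6.UALeaf
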