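/-
Helper6 library: element orders in a semidirect product `N ⋊ L` with `N` abelian of prime exponent.
-/
import Mathlib

set_option autoImplicit false

namespace Cfsg.Agent.Lib.Helper6.PGSemi

open SemidirectProduct

variable {N L : Type*} [CommGroup N] [Group L] (φ : L →* MulAut N)

theorem eq_inl_of_right_eq_one (x : N ⋊[φ] L) (h : x.right = 1) : x = inl x.left := by
  apply SemidirectProduct.ext
  · simp
  · simp [h]

theorem pow_right (x : N ⋊[φ] L) (k : ℕ) : (x ^ k).right = x.right ^ k := by
  have := map_pow (rightHom : N ⋊[φ] L →* L) x k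
  simpa using this

/-- conjugation by `x` acts on `inl n` through `φ x.right` -/
theorem conj_inl (x : N ⋊[φ] L) (n : N) : x * inl n * x⁻¹ = inl (φ x.right n) := by
  have hx : x = inl x.left * inr x.right := (inl_left_mul_inr_right x).symm
  have h1 : (inr x.right : N ⋊[φ] L) * inl n * (inr x.right)⁻¹ = inl (φ x.right n) := by
    rw [← map_inv, ← inl_aut]
  calc x * inl n * x⁻¹
      = inl x.left * (inr x.right * inl n * (inr x.right)⁻¹) * (inl x.left)⁻¹ := by
        conv_lhs => rw [hx]
        group
    _ = inl x.left * inl (φ x.right n) * (inl x.left)⁻¹ := by rw [h1]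
    _ = inl (x.left * φ x.right n * x.left⁻¹) := by rw [← map_inv, ← map_mul, ← map_mul]
    _ = inl (φ x.right n) := by rw [mul_comm x.left, mul_inv_cancel_right]

variable {p : ℕ} (hexp : ∀ n : N, n ^ p = 1)

include hexp in
theorem pow_mul_eq_one (x : N ⋊[φ] L) (d : ℕ) (hd : x.right ^ d = 1) : x ^ (d * p) = 1 := by
  have h1 : (x ^ d).right = 1 := by rw [pow_right, hd]
  rw [pow_mul, eq_inl_of_right_eq_one φ _ h1, ← map_pow, hexp, map_one]

include hexp in
/-- elements of order prime to `p` have the same order as their image in `L` -/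
theorem orderOf_right_of_coprime (x : N ⋊[φ] L) (hcop : (orderOf x).Coprime p) :
    orderOf x.right = orderOf x := by
  apply Nat.dvd_antisymm
  · have : x.right = rightHom x := rfl
    rw [this]
    exact orderOf_map_dvd _ x
  · have h := orderOf_dvd_of_pow_eq_one (pow_mul_eq_one φ hexp x (orderOf x.right)
      (pow_orderOf_eq_one _))
    exact hcop.dvd_of_dvd_mul_right h

include hexp in
/-- an element of order `p * a` maps to an element of order `p * a`, or to an element of order
`a` fixing a nontrivial element of `N`. -/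
theorem order_mul_cases (hp : p.Prime) {a : ℕ} (ha : a.Prime) (hap : a ≠ p) (x : N ⋊[φ] L)
    (hx : orderOf x = p * a) :
    orderOf x.right = p * a ∨ (orderOf x.right = a ∧ ∃ n : N, n ≠ 1 ∧ φ x.right n = n) := by
  set l := x.right with hl
  have hd1 : orderOf l ∣ p * a := by
    rw [← hx]
    have : l = rightHom x := rfl
    rw [this]
    exact orderOf_map_dvd _ x
  have hd2 : a ∣ orderOf l := by
    have h := orderOf_dvd_of_pow_eq_one (pow_mul_eq_one φ hexp x (orderOf l)
      (pow_orderOf_eq_one _))
    rw [hx] at h
    have hcop : Nat.Coprime a p := (Nat.coprime_primes ha hp).mpr hap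
    have h2 : a ∣ orderOf l * p := (Dvd.intro_left p rfl).trans h
    exact hcop.dvd_of_dvd_mul_right h2
  obtain ⟨e, he⟩ := hd2
  have he' : e ∣ p := by
    rw [he, mul_comm p a] at hd1
    exact (Nat.mul_dvd_mul_iff_left ha.pos).mp hd1
  rcases (Nat.dvd_prime hp).mp he' with h1 | h1
  · right
    have hla : orderOf l = a := by rw [he, h1, mul_one]
    refine ⟨hla, ?_⟩
    have hr : (x ^ a).right = 1 := by rw [pow_right, ← hl, ← hla, pow_orderOf_eq_one]
    have hy : x ^ a = inl (x ^ a).left := eq_inl_of_right_eq_one φ _ hr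
    refine ⟨(x ^ a).left, ?_, ?_⟩
    · intro h
      rw [h, map_one] at hy
      have := orderOf_dvd_of_pow_eq_one hy
      rw [hx] at this
      have h2 : p * a ≤ a := Nat.le_of_dvd ha.pos this
      have h3 : 2 * a ≤ p * a := Nat.mul_le_mul_right a hp.two_le
      have := ha.pos
      omega
    · have hc : x * x ^ a * x⁻¹ = x ^ a := by
        rw [← pow_succ', pow_succ, mul_inv_cancel_right]
      have h2 := conj_inl φ x (x ^ a).left
      rw [← hy, hc] at h2
      have h3 : (inl (x ^ a).left : N ⋊[φ] L) = inl (φ x.right (x ^ a).left) := by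
        rw [← h2, ← hy]
      exact (inl_injective h3).symm
  · left
    rw [he, h1, mul_comm]

end Cfsg.Agent.Lib.Helper6.PGSemi
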