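import Mathlib
import Cfsg.Prelude.Def_Classical
import Cfsg.Prelude.Def_ClassicalGeometry
import Cfsg.Prelude.Def_GeometricClasses
import Cfsg.Agent.Lib.Helper5.SUMax
import Cfsg.Agent.Lib.Helper22.C3LDefs
import Cfsg.Agent.Lib.Helper22.C3LTool
import Cfsg.Agent.Lib.Helper16.C3uDefs

/-!
Unitary C3 (cubic field) market (helper16), leaf C3uA `exists_partial` in CORE form
(the other leaves it uses - F2, TR, W4, SK - are hypotheses), helper6.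
-/

set_option autoImplicit false
set_option linter.unusedSectionVars false
set_option linter.unusedVariables false

namespace Cfsg.Agent.Lib.Helper6.C3uLeaf
open Cfsg Matrix Module Cfsg.Agent.Lib.Helper5.SpMax Cfsg.Agent.Lib.Helper5.SUMax
  Cfsg.Agent.Lib.Helper22.C3L Cfsg.Agent.Lib.Helper16.C3u

universe u
variable {F : Type u} [Field F] [Fintype F] {n q : ℕ} {E : Type u} [Field E] [Algebra F E]

local notation "𝕍" => (Fin n → F)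
local notation "𝕄" => Matrix (Fin n) (Fin n) F
local notation "ℍ" => (Cfsg.GU n F q ⊓ Cfsg.Geo.specialLinear (Fin n) F)

/-- an element of `GU` commuting with `E` preserves `fE` (`F2` = leaf F2 `tau_nondeg`) -/
theorem fE_of_comm (S : KU n q F E)
    (F2 : ∀ {a : E}, (∀ b, S.τ (a * b) = 0) → a = 0)
    {s : GL (Fin n) F} (hs : s ∈ Cfsg.GU n F q)
    (hsc : ∀ e : E, (s : 𝕄) * S.ρ e = S.ρ e * (s : 𝕄)) (x y : 𝕍) :
    S.fE ((s : 𝕄) *ᵥ x) ((s : 𝕄) *ᵥ y) = S.fE x y := by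
  rw [← sub_eq_zero]
  apply F2
  intro b
  rw [sub_mul, map_sub, sub_eq_zero, mul_comm _ b, mul_comm _ b, ← S.form_act_left,
    ← S.form_act_left, ← cent_mulVec_act S.ρ hsc, mem_GU.mp hs]

/-- the inverse of an element of `GU` commuting with `E` preserves `fE` -/
theorem fE_of_comm_inv (S : KU n q F E)
    (F2 : ∀ {a : E}, (∀ b, S.τ (a * b) = 0) → a = 0)
    {s : GL (Fin n) F} (hs : s ∈ Cfsg.GU n F q)
    (hsc : ∀ e : E, (s : 𝕄) * S.ρ e = S.ρ e * (s : 𝕄)) (x y : 𝕍) :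
    S.fE (((s⁻¹ : GL (Fin n) F) : 𝕄) *ᵥ x) (((s⁻¹ : GL (Fin n) F) : 𝕄) *ᵥ y) = S.fE x y :=
  fE_of_comm S F2 ((Cfsg.GU n F q).inv_mem hs) ((cent S.ρ).inv_mem hsc) x y

/-- A (core): an image of the base line meeting the `E`-hyperplane `v₀^⊥` non-trivially, not inside it -/
theorem exists_partial_core (S : KU n q F E) (hF : Fintype.card F = q ^ 2)
    (F2 : ∀ {a : E}, (∀ b, S.τ (a * b) = 0) → a = 0)
    (TR : ∀ {u u' : 𝕍}, u ≠ 0 → S.fE u u = 0 → u' ≠ 0 → S.fE u' u' = 0 →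
      ∃ s ∈ ℍ, (∀ e : E, (s : 𝕄) * S.ρ e = S.ρ e * (s : 𝕄)) ∧ (s : 𝕄) *ᵥ u = u')
    (W4 : ∀ {w w' : 𝕍}, w ≠ 0 → w' ∉ line S.ρ w →
      ∃ a : 𝕍, S.fE a a = 0 ∧ S.fE w a = 0 ∧ S.fE w' a ≠ 0)
    (SK : ∀ g : GL (Fin n) F, (∀ v : 𝕍, S.fE v v = 0 → ∀ e : E,
      ∃ e' : E, (g : 𝕄) *ᵥ (act S.ρ e v) = act S.ρ e' ((g : 𝕄) *ᵥ v)) →
      g ∈ Cfsg.Geo.subalgebraNormalizer S.ρ.range)
    (M : Subgroup (GL (Fin n) F)) (hMS : M ≤ ℍ)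
    (hM : ∀ g ∈ ℍ, (∀ e : E, (g : 𝕄) * S.ρ e = S.ρ e * (g : 𝕄)) → g ∈ M)
    (hnot : ¬ M ≤ Cfsg.Geo.subalgebraNormalizer S.ρ.range) {v₀ : 𝕍} (hv₀ : v₀ ≠ 0)
    (hiso : S.fE v₀ v₀ = 0) :
    ∃ g ∈ M, img g (line S.ρ v₀) ⊓ S.hyp v₀ ≠ ⊥ ∧ ¬ img g (line S.ρ v₀) ≤ S.hyp v₀ := by
  -- some `g₀ ∈ M` does not map `L₀` into an `E`-line
  obtain ⟨g₀, hg₀M, e, hbad⟩ : ∃ g₀ ∈ M, ∃ e : E, ∀ e' : E,
      (g₀ : 𝕄) *ᵥ act S.ρ e v₀ ≠ act S.ρ e' ((g₀ : 𝕄) *ᵥ v₀) := by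
    by_contra hcon
    push Not at hcon
    apply hnot
    intro g hgM
    apply SK
    intro v hv e
    by_cases hv0 : v = 0
    · refine ⟨0, ?_⟩
      rw [hv0, act_vzero, Matrix.mulVec_zero, act_vzero]
    · obtain ⟨s, hsH, hsc, hsv⟩ := TR hv₀ hiso hv0 hv
      have hsM := hM s hsH hsc
      obtain ⟨e', he'⟩ := hcon (g * s) (M.mul_mem hgM hsM) e
      refine ⟨e', ?_⟩
      rw [← hsv, ← cent_mulVec_act S.ρ hsc, Matrix.mulVec_mulVec, Matrix.mulVec_mulVec,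
        ← Units.val_mul]
      exact he'
  have hw : (g₀ : 𝕄) *ᵥ v₀ ≠ 0 := by
    intro h0
    apply hv₀
    apply mulVec_inj g₀
    rw [h0, Matrix.mulVec_zero]
  have hw' : (g₀ : 𝕄) *ᵥ act S.ρ e v₀ ∉ line S.ρ ((g₀ : 𝕄) *ᵥ v₀) := by
    intro hmem
    obtain ⟨e', he'⟩ := mem_line.mp hmem
    exact hbad e' he'.symm
  obtain ⟨a, haa, hwa, hw'a⟩ := W4 hw hw'
  have ha0 : a ≠ 0 := by
    rintro rfl
    exact hw'a (S.fE_zero_right _)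
  obtain ⟨s, hsH, hsc, hsv⟩ := TR hv₀ hiso ha0 haa
  have hsM := hM s hsH hsc
  have hsa : ((s⁻¹ : GL (Fin n) F) : 𝕄) *ᵥ a = v₀ := by
    rw [← hsv, inv_mul_mulVec]
  refine ⟨s⁻¹ * g₀, M.mul_mem (M.inv_mem hsM) hg₀M, ?_, ?_⟩
  · intro hbot
    have h1 : ((s⁻¹ * g₀ : GL (Fin n) F) : 𝕄) *ᵥ v₀ ∈
        img (s⁻¹ * g₀) (line S.ρ v₀) ⊓ S.hyp v₀ := by
      refine Submodule.mem_inf.mpr ⟨mulVec_mem_img (self_mem_line v₀), ?_⟩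
      rw [S.mem_hyp, Units.val_mul, ← Matrix.mulVec_mulVec]
      have h2 : S.fE (((s⁻¹ : GL (Fin n) F) : 𝕄) *ᵥ ((g₀ : 𝕄) *ᵥ v₀)) v₀ =
          S.fE (((s⁻¹ : GL (Fin n) F) : 𝕄) *ᵥ ((g₀ : 𝕄) *ᵥ v₀))
            (((s⁻¹ : GL (Fin n) F) : 𝕄) *ᵥ a) := by rw [hsa]
      rw [h2, fE_of_comm_inv S F2 hsH.1 hsc, hwa]
    rw [hbot, Submodule.mem_bot] at h1
    apply hv₀
    apply mulVec_inj (s⁻¹ * g₀)
    rw [h1, Matrix.mulVec_zero]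
  · intro hle
    have h1 : ((s⁻¹ * g₀ : GL (Fin n) F) : 𝕄) *ᵥ act S.ρ e v₀ ∈ S.hyp v₀ :=
      hle (mulVec_mem_img (act_mem_line e v₀))
    rw [S.mem_hyp, Units.val_mul, ← Matrix.mulVec_mulVec] at h1
    apply hw'a
    rw [← fE_of_comm_inv S F2 hsH.1 hsc, hsa]
    exact h1

end Cfsg.Agent.Lib.Helper6.C3uLeaf
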