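import Mathlib
import Cfsg.Prelude.Def_Classical
import Cfsg.Prelude.Def_ClassicalGeometry
import Cfsg.Prelude.Def_GeometricClasses
import Cfsg.Agent.Lib.Helper5.SUMax
import Cfsg.Agent.Lib.Helper22.C3LDefs
import Cfsg.Agent.Lib.Helper22.C3LTool
import Cfsg.Agent.Lib.Helper16.C3uDefs
import Cfsg.Agent.Lib.Helper6.C3uECore
import Cfsg.Agent.Lib.Helper12.C3uF
import Cfsg.Agent.Lib.Helper12.C3uW0
import Cfsg.Agent.Lib.Helper26.C3uW1
import Cfsg.Agent.Lib.Helper28.C3uTRcore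

/-!
Unitary C3 (cubic field) market (helper16), leaf C3uE0 `iso_mem_Sset`, EXACT signature (helper6);
also `tr_wired` = the statement of leaf TR wired on helper28's core + helper12's F1, W0 + helper26's W3.
-/

set_option autoImplicit false
set_option linter.unusedSectionVars false
set_option linter.unusedVariables false

namespace Cfsg.Agent.Lib.Helper6.C3uLeaf
open Cfsg Matrix Module Cfsg.Agent.Lib.Helper5.SpMax Cfsg.Agent.Lib.Helper5.SUMax
  Cfsg.Agent.Lib.Helper22.C3L Cfsg.Agent.Lib.Helper16.C3u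

universe u
variable {F : Type u} [Field F] [Fintype F] {n q : ℕ} {E : Type u} [Field E] [Algebra F E]

local notation "𝕍" => (Fin n → F)
local notation "𝕄" => Matrix (Fin n) (Fin n) F
local notation "ℍ" => (Cfsg.GU n F q ⊓ Cfsg.Geo.specialLinear (Fin n) F)

/-- leaf TR `exists_cent_map` (exact statement), wired on helper28's core -/
theorem tr_wired (S : KU n q F E) (hF : Fintype.card F = q ^ 2) [FiniteDimensional F E]
    (hn : 3 * finrank F E ≤ n) {u u' : 𝕍} (hu0 : u ≠ 0) (hu : S.fE u u = 0) (hu'0 : u' ≠ 0)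
    (hu' : S.fE u' u' = 0) :
    ∃ s ∈ ℍ, (∀ e : E, (s : 𝕄) * S.ρ e = S.ρ e * (s : 𝕄)) ∧ (s : 𝕄) *ᵥ u = u' :=
  Cfsg.Agent.Lib.Helper28.C3uTR.exists_cent_map_core S
    (Cfsg.Agent.Lib.Helper12.C3uLeaf.st_ne_refl S hF)
    (fun x hx => Cfsg.Agent.Lib.Helper12.C3uLeaf.fE_nondeg S hF hx)
    (fun x hx => Cfsg.Agent.Lib.Helper26.C3uLeaf.exists_iso_not_perp S hF (by omega) hx)
    hn hu0 hu hu'0 hu'

/-- E0: if one non-zero `E`-isotropic vector is a centre of `M`, all are -/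
theorem iso_mem_Sset (S : KU n q F E) (hF : Fintype.card F = q ^ 2) [FiniteDimensional F E]
    (hn : 3 * finrank F E ≤ n) (M : Subgroup (GL (Fin n) F)) (hMS : M ≤ ℍ)
    (hM : ∀ g ∈ ℍ, (∀ e : E, (g : 𝕄) * S.ρ e = S.ρ e * (g : 𝕄)) → g ∈ M)
    {p : 𝕍} (hp0 : p ≠ 0) (hp : S.fE p p = 0) (hpS : p ∈ Sset hF M) :
    ∀ v : 𝕍, S.fE v v = 0 → v ∈ Sset hF M :=
  iso_mem_Sset_core S hF (fun hu0 hu hu'0 hu' => tr_wired S hF hn hu0 hu hu'0 hu') M hM hp0 hp hpS

end Cfsg.Agent.Lib.Helper6.C3uLeaf
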