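import Mathlib
import Cfsg.Prelude.Def_Classical
import Cfsg.Prelude.Def_ClassicalGeometry
import Cfsg.Prelude.Def_GeometricClasses
import Cfsg.Agent.Lib.Helper5.SUMax
import Cfsg.Agent.Lib.Helper22.C3LDefs
import Cfsg.Agent.Lib.Helper22.C3LTool
import Cfsg.Agent.Lib.Helper16.C3uDefs
import Cfsg.Agent.Lib.Helper6.C3uACore
import Cfsg.Agent.Lib.Helper6.C3uE0
import Cfsg.Agent.Lib.Helper26.C3uW4
import Cfsg.Agent.Lib.Helper11.C3uSKCore

/-!
Unitary C3 (cubic field) market (helper16), leaf C3uA `exists_partial`, EXACT signature (helper6);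
also `sk_wired` = the statement of leaf SK wired on helper11's core.
-/

set_option autoImplicit false
set_option linter.unusedSectionVars false
set_option linter.unusedVariables false

namespace Cfsg.Agent.Lib.Helper6.C3uLeaf
open Cfsg Matrix Module Cfsg.Agent.Lib.Helper5.SpMax Cfsg.Agent.Lib.Helper5.SUMax
  Cfsg.Agent.Lib.Helper22.C3L Cfsg.Agent.Lib.Helper16.C3u

universe u
variable {F : Type u} [Field F] [Fintype F] {n q : ℕ} {E : Type u} [Field E] [Algebra F E]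

local notation "𝕍" => (Fin n → F)
local notation "𝕄" => Matrix (Fin n) (Fin n) F
local notation "ℍ" => (Cfsg.GU n F q ⊓ Cfsg.Geo.specialLinear (Fin n) F)

/-- leaf SK `mem_normalizer_of_iso_lines` (exact statement), wired on helper11's core -/
theorem sk_wired (S : KU n q F E) (hF : Fintype.card F = q ^ 2)
    [FiniteDimensional F E] (hn : 4 * finrank F E ≤ n) (g : GL (Fin n) F)
    (h : ∀ v : 𝕍, S.fE v v = 0 → ∀ e : E,
      ∃ e' : E, (g : 𝕄) *ᵥ (act S.ρ e v) = act S.ρ e' ((g : 𝕄) *ᵥ v)) :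
    g ∈ Cfsg.Geo.subalgebraNormalizer S.ρ.range :=
  Cfsg.Agent.Lib.Helper11.C3uLeaf.mem_normalizer_of_iso_lines_core S
    (Cfsg.Agent.Lib.Helper12.C3uLeaf.st_ne_refl S hF) hn
    (fun v hv => Cfsg.Agent.Lib.Helper12.C3uLeaf.finrank_hyp S hF hv)
    (fun x hx => Cfsg.Agent.Lib.Helper26.C3uLeaf.exists_iso_not_perp S hF (by omega) hx)
    (fun w w' hw hw' => Cfsg.Agent.Lib.Helper26.C3uLeaf.exists_iso_sep S hF hn hw hw') g h

/-- A: an image of the base line meeting the `E`-hyperplane `v₀^⊥` non-trivially, not inside it -/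
theorem exists_partial (S : KU n q F E) (hF : Fintype.card F = q ^ 2) [FiniteDimensional F E]
    (hn : 4 * finrank F E ≤ n) (M : Subgroup (GL (Fin n) F)) (hMS : M ≤ ℍ)
    (hM : ∀ g ∈ ℍ, (∀ e : E, (g : 𝕄) * S.ρ e = S.ρ e * (g : 𝕄)) → g ∈ M)
    (hnot : ¬ M ≤ Cfsg.Geo.subalgebraNormalizer S.ρ.range) {v₀ : 𝕍} (hv₀ : v₀ ≠ 0)
    (hiso : S.fE v₀ v₀ = 0) :
    ∃ g ∈ M, img g (line S.ρ v₀) ⊓ S.hyp v₀ ≠ ⊥ ∧ ¬ img g (line S.ρ v₀) ≤ S.hyp v₀ := by
  have hr : 0 < finrank F E := Module.finrank_pos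
  have hn0 : 0 < n := by omega
  exact exists_partial_core S hF
    (fun h => Cfsg.Agent.Lib.Helper12.C3uLeaf.tau_nondeg S hF hn0 h)
    (fun hu0 hu hu'0 hu' => tr_wired S hF (by omega) hu0 hu hu'0 hu')
    (fun hw hw' => Cfsg.Agent.Lib.Helper26.C3uLeaf.exists_iso_sep S hF hn hw hw')
    (fun g h => sk_wired S hF hn g h) M hMS hM hnot hv₀ hiso

end Cfsg.Agent.Lib.Helper6.C3uLeaf
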