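import Mathlib
import Cfsg.Prelude.Def_Classical
import Cfsg.Prelude.Def_ClassicalGeometry
import Cfsg.Prelude.Def_GeometricClasses
import Cfsg.Agent.Lib.Helper5.SUMax
import Cfsg.Agent.Lib.Helper22.C3LDefs
import Cfsg.Agent.Lib.Helper22.C3LTool
import Cfsg.Agent.Lib.Helper16.C3uDefs

/-!
Unitary C3 (cubic field) market (helper16), leaf C3uCb `exists_second_transvection` in CORE form
(the leaf TR it uses is a hypothesis), helper6.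
-/

set_option autoImplicit false
set_option linter.unusedSectionVars false
set_option linter.unusedVariables false

namespace Cfsg.Agent.Lib.Helper6.C3uLeaf
open Cfsg Matrix Module Cfsg.Agent.Lib.Helper5.SpMax Cfsg.Agent.Lib.Helper5.SUMax
  Cfsg.Agent.Lib.Helper22.C3L Cfsg.Agent.Lib.Helper16.C3u

universe u
variable {F : Type u} [Field F] [Fintype F] {n q : ℕ} {E : Type u} [Field E] [Algebra F E]

local notation "𝕍" => (Fin n → F)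
local notation "𝕄" => Matrix (Fin n) (Fin n) F
local notation "ℍ" => (Cfsg.GU n F q ⊓ Cfsg.Geo.specialLinear (Fin n) F)

/-- the inverse of an element acting on a line through a map `A` of `E` with right inverse `B` -/
theorem inv_on_line (ρ : E →ₐ[F] 𝕄) {v₀ : 𝕍} {g : GL (Fin n) F} {A B : E → E}
    (hg : ∀ e, (g : 𝕄) *ᵥ act ρ e v₀ = act ρ (A e) v₀) (hAB : ∀ e, A (B e) = e) (e : E) :
    ((g⁻¹ : GL (Fin n) F) : 𝕄) *ᵥ act ρ e v₀ = act ρ (B e) v₀ := by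
  have h := hg (B e)
  rw [hAB] at h
  rw [← h, inv_mul_mulVec]

/-- Cb (core): the commutator with a torus conjugate: a second transvection of the line with the same
centre -/
theorem exists_second_transvection_core (S : KU n q F E)
    (TR : ∀ {u u' : 𝕍}, u ≠ 0 → S.fE u u = 0 → u' ≠ 0 → S.fE u' u' = 0 →
      ∃ s ∈ ℍ, (∀ e : E, (s : 𝕄) * S.ρ e = S.ρ e * (s : 𝕄)) ∧ (s : 𝕄) *ᵥ u = u')
    (M : Subgroup (GL (Fin n) F))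
    (hM : ∀ g ∈ ℍ, (∀ e : E, (g : 𝕄) * S.ρ e = S.ρ e * (g : 𝕄)) → g ∈ M)
    {v₀ : 𝕍} (hv₀ : v₀ ≠ 0) (hiso : S.fE v₀ v₀ = 0) {π : E} {ℓ : E →ₗ[F] F}
    {t : GL (Fin n) F} (hℓπ : ℓ π = 0) (ht : t ∈ M)
    (htL : ∀ e : E, (t : 𝕄) *ᵥ act S.ρ e v₀ = act S.ρ e v₀ + ℓ e • act S.ρ π v₀)
    {θ : E} (hθ : θ ≠ 0) (hθπ : ℓ (θ * π) = 0) :
    ∃ m ∈ M, ∀ e : E, (m : 𝕄) *ᵥ act S.ρ e v₀ =
      act S.ρ e v₀ + (ℓ (θ⁻¹ * π) * ℓ (θ * e)) • act S.ρ π v₀ := by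
  have hθi : θ⁻¹ ≠ 0 := inv_ne_zero hθ
  have e1 : θ * (θ⁻¹ * π) = π := mul_inv_cancel_left₀ hθ π
  -- the four maps of `E`
  obtain ⟨A1, hA1d⟩ : ∃ A1 : E → E, ∀ e, A1 e = e + ℓ e • π := ⟨_, fun _ => rfl⟩
  obtain ⟨B1, hB1d⟩ : ∃ B1 : E → E, ∀ e, B1 e = e - ℓ e • π := ⟨_, fun _ => rfl⟩
  obtain ⟨A3, hA3d⟩ : ∃ A3 : E → E, ∀ e, A3 e = e + ℓ (θ * e) • (θ⁻¹ * π) := ⟨_, fun _ => rfl⟩
  obtain ⟨B3, hB3d⟩ : ∃ B3 : E → E, ∀ e, B3 e = e - ℓ (θ * e) • (θ⁻¹ * π) := ⟨_, fun _ => rfl⟩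
  have hAB1 : ∀ e, A1 (B1 e) = e := by
    intro e
    rw [hA1d, hB1d, map_sub, map_smul, hℓπ, smul_zero, sub_zero]
    abel
  have hAB3 : ∀ e, A3 (B3 e) = e := by
    intro e
    rw [hA3d, hB3d, mul_sub, mul_smul_comm, e1, map_sub, map_smul, hℓπ, smul_zero, sub_zero]
    abel
  have ht1 : ∀ e, (t : 𝕄) *ᵥ act S.ρ e v₀ = act S.ρ (A1 e) v₀ := by
    intro e
    rw [htL, hA1d, act_add, act_smul]
  have ht1i := inv_on_line S.ρ ht1 hAB1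
  -- the torus conjugate
  have hu0 : act S.ρ θ⁻¹ v₀ ≠ 0 := by
    intro h0
    rcases act_eq_zero S.ρ h0 with h | h
    · exact hθi h
    · exact hv₀ h
  have hu : S.fE (act S.ρ θ⁻¹ v₀) (act S.ρ θ⁻¹ v₀) = 0 := by
    rw [S.fE_act_left, S.fE_act_right, hiso, mul_zero, mul_zero]
  obtain ⟨h, hhH, hhc, hhv⟩ := TR hv₀ hiso hu0 hu
  have hhM := hM h hhH hhc
  have hh1 : ∀ e, (h : 𝕄) *ᵥ act S.ρ e v₀ = act S.ρ (e * θ⁻¹) v₀ := by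
    intro e
    rw [cent_mulVec_act S.ρ hhc, hhv, ← act_mul]
  have hh1i : ∀ e, ((h⁻¹ : GL (Fin n) F) : 𝕄) *ᵥ act S.ρ e v₀ = act S.ρ (e * θ) v₀ :=
    inv_on_line S.ρ (A := fun e => e * θ⁻¹) (B := fun e => e * θ) hh1
      (fun e => by rw [mul_assoc, mul_inv_cancel₀ hθ, mul_one])
  have ht3 : ∀ e, ((h * t * h⁻¹ : GL (Fin n) F) : 𝕄) *ᵥ act S.ρ e v₀ = act S.ρ (A3 e) v₀ := by
    intro e
    rw [Units.val_mul, Units.val_mul, ← Matrix.mulVec_mulVec, ← Matrix.mulVec_mulVec, hh1i, ht1,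
      hh1, hA1d, hA3d]
    congr 1
    rw [add_mul, mul_assoc, mul_inv_cancel₀ hθ, mul_one, smul_mul_assoc, mul_comm e θ,
      mul_comm π θ⁻¹]
  have ht3i := inv_on_line S.ρ ht3 hAB3
  have ht3M : h * t * h⁻¹ ∈ M := M.mul_mem (M.mul_mem hhM ht) (M.inv_mem hhM)
  refine ⟨t * (h * t * h⁻¹) * t⁻¹ * (h * t * h⁻¹)⁻¹,
    M.mul_mem (M.mul_mem (M.mul_mem ht ht3M) (M.inv_mem ht)) (M.inv_mem ht3M), ?_⟩
  intro e
  rw [Units.val_mul, Units.val_mul, Units.val_mul, ← Matrix.mulVec_mulVec, ← Matrix.mulVec_mulVec,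
    ← Matrix.mulVec_mulVec, ht3i, ht1i, ht3, ht1, ← act_smul, ← act_add]
  congr 1
  -- the computation in `E`
  have hℓB3 : ℓ (B3 e) = ℓ e - ℓ (θ * e) * ℓ (θ⁻¹ * π) := by
    rw [hB3d, map_sub, map_smul, smul_eq_mul]
  have hy : B1 (B3 e) = e - ℓ (θ * e) • (θ⁻¹ * π) - (ℓ e - ℓ (θ * e) * ℓ (θ⁻¹ * π)) • π := by
    rw [hB1d, hℓB3, hB3d]
  have hℓθy : ℓ (θ * B1 (B3 e)) = ℓ (θ * e) := by
    rw [hy, mul_sub, mul_sub, mul_smul_comm, mul_smul_comm, e1, map_sub, map_sub, map_smul,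
      map_smul, hℓπ, hθπ, smul_zero, smul_zero, sub_zero, sub_zero]
  have hz : A3 (B1 (B3 e)) = e - (ℓ e - ℓ (θ * e) * ℓ (θ⁻¹ * π)) • π := by
    rw [hA3d, hℓθy, hy]
    abel
  rw [hA1d, hz, map_sub, map_smul, hℓπ, smul_zero, sub_zero, sub_smul, mul_smul, mul_smul]
  have h5 : ℓ (θ * e) • ℓ (θ⁻¹ * π) • π = ℓ (θ⁻¹ * π) • ℓ (θ * e) • π := smul_comm _ _ _
  rw [h5]
  abel

end Cfsg.Agent.Lib.Helper6.C3uLeaf
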