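import Mathlib
import Cfsg.Prelude.Def_Classical
import Cfsg.Prelude.Def_ClassicalGeometry
import Cfsg.Prelude.Def_GeometricClasses
import Cfsg.Agent.Lib.Helper5.SUMax
import Cfsg.Agent.Lib.Helper22.C3LDefs
import Cfsg.Agent.Lib.Helper22.C3LTool
import Cfsg.Agent.Lib.Helper16.C3uDefs
import Cfsg.Agent.Lib.Helper6.C3uCbCore
import Cfsg.Agent.Lib.Helper6.C3uE0

/-!
Unitary C3 (cubic field) market (helper16), leaf C3uCb `exists_second_transvection`, EXACT signature (helper6).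
-/

set_option autoImplicit false
set_option linter.unusedSectionVars false
set_option linter.unusedVariables false

namespace Cfsg.Agent.Lib.Helper6.C3uLeaf
open Cfsg Matrix Module Cfsg.Agent.Lib.Helper5.SpMax Cfsg.Agent.Lib.Helper5.SUMax
  Cfsg.Agent.Lib.Helper22.C3L Cfsg.Agent.Lib.Helper16.C3u

universe u
variable {F : Type u} [Field F] [Fintype F] {n q : ℕ} {E : Type u} [Field E] [Algebra F E]

local notation "𝕍" => (Fin n → F)
local notation "𝕄" => Matrix (Fin n) (Fin n) F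
local notation "ℍ" => (Cfsg.GU n F q ⊓ Cfsg.Geo.specialLinear (Fin n) F)

/-- Cb: the commutator with a torus conjugate: a second transvection of the line with the same
centre -/
theorem exists_second_transvection (S : KU n q F E) (hF : Fintype.card F = q ^ 2)
    [FiniteDimensional F E] (hn : 3 * finrank F E ≤ n) (M : Subgroup (GL (Fin n) F))
    (hMS : M ≤ ℍ)
    (hM : ∀ g ∈ ℍ, (∀ e : E, (g : 𝕄) * S.ρ e = S.ρ e * (g : 𝕄)) → g ∈ M)
    {v₀ : 𝕍} (hv₀ : v₀ ≠ 0) (hiso : S.fE v₀ v₀ = 0) {π : E} {ℓ : E →ₗ[F] F}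
    {t : GL (Fin n) F} (hℓπ : ℓ π = 0) (ht : t ∈ M)
    (htL : ∀ e : E, (t : 𝕄) *ᵥ act S.ρ e v₀ = act S.ρ e v₀ + ℓ e • act S.ρ π v₀)
    {θ : E} (hθ : θ ≠ 0) (hθπ : ℓ (θ * π) = 0) :
    ∃ m ∈ M, ∀ e : E, (m : 𝕄) *ᵥ act S.ρ e v₀ =
      act S.ρ e v₀ + (ℓ (θ⁻¹ * π) * ℓ (θ * e)) • act S.ρ π v₀ :=
  exists_second_transvection_core S (fun hu0 hu hu'0 hu' => tr_wired S hF hn hu0 hu hu'0 hu') M hM
    hv₀ hiso hℓπ ht htL hθ hθπ

end Cfsg.Agent.Lib.Helper6.C3uLeaf
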