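import Mathlib
import Cfsg.Agent.Lib.Helper16.OOEndConDefs
import Cfsg.Agent.Lib.Helper6.OOEndCB

/-!
# S2344 Part III leaf (CD): the rank-one identity for `ubarMat (std i b)` (planner: helper16).
-/

set_option autoImplicit false
set_option linter.unusedSectionVars false
set_option linter.unusedVariables false
set_option linter.unusedSimpArgs false

namespace Cfsg.Agent.Lib.Helper6.OOEndCD

open Matrix Cfsg.Agent.Lib.Helper16.OOEnd Cfsg.Agent.Lib.Helper26.OOMin Cfsg.Agent.Lib.Helper27.OPMin
  Cfsg.Agent.Lib.Helper6.OOEndCB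

variable {F : Type*} [Field F]

section gen

variable {n : ℕ}

theorem mk_inl (u0 : F) (x y : Fin n → F) (u : Unit) : mk u0 x y (.inl u) = u0 := rfl

theorem mk_inrl (u0 : F) (x y : Fin n → F) (k : Fin n) : mk u0 x y (.inr (.inl k)) = x k := rfl

theorem mk_inrr (u0 : F) (x y : Fin n → F) (k : Fin n) : mk u0 x y (.inr (.inr k)) = y k := rfl

theorem embO_mulVec (A : Matrix (Fin n ⊕ Fin n) (Fin n ⊕ Fin n) F) (u0 : F) (v : Fin n ⊕ Fin n → F) :
    embO A *ᵥ (Sum.elim (fun _ => u0) v : Ix n → F) = Sum.elim (fun _ => u0) (A *ᵥ v) := by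
  unfold embO
  rw [fromBlocks_mulVec, Sum.elim_comp_inl, Sum.elim_comp_inr, one_mulVec, zero_mulVec,
    zero_mulVec, add_zero, zero_add]

theorem radMatO_mulVec (R : Matrix (Fin n) (Fin n) F) (u0 : F) (x y : Fin n → F) :
    radMatO R *ᵥ mk u0 x y = mk u0 (x + (R - Rᵀ) *ᵥ y) y := by
  unfold radMatO mk radMat
  rw [embO_mulVec, fromBlocks_mulVec, Sum.elim_comp_inl, Sum.elim_comp_inr, one_mulVec,
    zero_mulVec, one_mulVec, zero_add]

theorem leviMatO_mulVec (g : Matrix (Fin n) (Fin n) F) (u0 : F) (x y : Fin n → F) :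
    leviMatO g *ᵥ mk u0 x y = mk u0 (g *ᵥ x) ((g⁻¹)ᵀ *ᵥ y) := by
  unfold leviMatO mk leviMat
  rw [embO_mulVec, fromBlocks_mulVec, Sum.elim_comp_inl, Sum.elim_comp_inr, zero_mulVec,
    zero_mulVec, add_zero, zero_add]

theorem swapMat_mulVec (a : Fin n) (x y : Fin n → F) :
    (swapMat a : Matrix _ _ F) *ᵥ Sum.elim x y =
      Sum.elim (fun k => if k = a then y k else x k) (fun k => if k = a then x k else y k) := by
  unfold swapMat
  rw [fromBlocks_mulVec, Sum.elim_comp_inl, Sum.elim_comp_inr]
  simp only [sub_mulVec, one_mulVec, single_mulVec]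
  congr 1
  · funext k
    by_cases hk : k = a
    · subst hk; simp
    · simp [hk]
  · funext k
    by_cases hk : k = a
    · subst hk; simp
    · simp [hk]

theorem wMatO_mulVec (a b : Fin n) (hab : a ≠ b) (u0 : F) (x y : Fin n → F) :
    wMatO a b *ᵥ mk u0 x y =
      mk u0 (fun k => if k = a ∨ k = b then y k else x k)
        (fun k => if k = a ∨ k = b then x k else y k) := by
  unfold wMatO mk
  rw [embO_mulVec, ← mulVec_mulVec, swapMat_mulVec, swapMat_mulVec]
  congr 2
  · funext k
    by_cases hka : k = a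
    · subst hka
      simp [hab]
    · by_cases hkb : k = b
      · subst hkb; simp [hka]
      · simp [hka, hkb]
  · funext k
    by_cases hka : k = a
    · subst hka
      simp [hab]
    · by_cases hkb : k = b
      · subst hkb; simp [hka]
      · simp [hka, hkb]

/-- the Levi image of a transvection, on vectors -/
theorem levi_transvection_mulVec (p q : Fin n) (hpq : p ≠ q) (c u0 : F) (x y : Fin n → F) :
    leviMatO ((SpecialLinearGroup.transvection hpq c : SpecialLinearGroup (Fin n) F) :
        Matrix (Fin n) (Fin n) F) *ᵥ mk u0 x y =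
      mk u0 (fun k => x k + if k = p then c * x q else 0)
        (fun k => y k - if k = q then c * y p else 0) := by
  rw [leviMatO_mulVec, SpecialLinearGroup.transvection_coe]
  have hinv : ((1 : Matrix (Fin n) (Fin n) F) + single p q c)⁻¹ = 1 + single p q (-c) := by
    apply inv_eq_right_inv
    have h := transvection_mul_transvection_same p q hpq c (-c)
    rw [add_neg_cancel, transvection_zero] at h
    exact h
  rw [hinv, transpose_add, transpose_one, transpose_single, add_mulVec, add_mulVec, one_mulVec,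
    one_mulVec, single_mulVec, single_mulVec]
  congr 1
  · funext k
    by_cases hk : k = p
    · subst hk; simp
    · simp [hk]
  · funext k
    by_cases hk : k = q
    · subst hk; simp; ring
    · simp [hk]

/-- the radical element of a matrix unit, on vectors -/
theorem rad_single_mulVec (p q : Fin n) (u0 : F) (x y : Fin n → F) :
    radMatO (Matrix.single p q (1 : F)) *ᵥ mk u0 x y =
      mk u0 (fun k => x k + (if k = p then y q else 0) - (if k = q then y p else 0)) y := by
  rw [radMatO_mulVec, transpose_single, sub_mulVec, single_mulVec, single_mulVec]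
  congr 1
  funext k
  simp only [Pi.add_apply, Pi.sub_apply, one_mul, Function.update_apply, Pi.zero_apply]
  ring

/-- the Levi image of a diagonal matrix, on vectors -/
theorem levi_diagonal_mulVec (d d' : Fin n → F) (hd : ∀ k, d k * d' k = 1) (u0 : F)
    (x y : Fin n → F) :
    leviMatO (diagonal d) *ᵥ mk u0 x y = mk u0 (fun k => d k * x k) (fun k => d' k * y k) := by
  rw [leviMatO_mulVec]
  have hinv : (diagonal d : Matrix (Fin n) (Fin n) F)⁻¹ = diagonal d' := by
    apply inv_eq_right_inv
    rw [diagonal_mul_diagonal, ← diagonal_one]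
    congr 1
    funext k
    exact hd k
  rw [hinv, diagonal_transpose]
  congr 1
  · funext k
    rw [mulVec_diagonal]
  · funext k
    rw [mulVec_diagonal]

end gen

variable {m : ℕ}

theorem cons_single (i : Fin m) (c : F) :
    (Fin.cons 0 (Pi.single i c : Fin m → F) : Fin (m + 1) → F) = Pi.single i.succ c := by
  funext k
  refine Fin.cases ?_ (fun k' => ?_) k
  · rw [Fin.cons_zero, Pi.single_apply, if_neg (Fin.succ_ne_zero i).symm]
  · rw [Fin.cons_succ, Pi.single_apply, Pi.single_apply]
    simp only [Fin.succ_inj]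

theorem hat_std (i : Fin m) (b : F) :
    hat (std i b) = mk 0 (Pi.single i.succ b) (Pi.single i.succ (-1)) := by
  unfold hat std
  simp only [c0_mk, cx_mk, cy_mk, cons_single]
  rfl

theorem hatJ_std (i : Fin m) (b : F) :
    hatJ (std i b) = mk 0 (Pi.single i.succ (-1)) (Pi.single i.succ b) := by
  unfold hatJ std
  simp only [c0_mk, cx_mk, cy_mk, cons_single, mul_zero]
  rfl

theorem Qp_std (i : Fin m) (b : F) : Qp (std i b) = -b := by
  rw [Qp_eq]
  unfold std
  simp only [c0_mk, cx_mk, cy_mk]
  rw [single_dotProduct, Pi.single_eq_same]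
  ring

theorem f0_eq : (f0 : Ix (m + 1) → F) = mk 0 0 (Pi.single 0 1) := by
  unfold f0
  funext k
  rcases k with u | k | k
  · rw [Pi.single_apply, if_neg (by simp)]; rfl
  · rw [Pi.single_apply, if_neg (by simp)]; rfl
  · rw [mk_inrr, Pi.single_apply, Pi.single_apply]
    simp

theorem mk_dot (a0 u0 : F) (a a' x y : Fin (m + 1) → F) :
    mk a0 a a' ⬝ᵥ mk u0 x y = a0 * u0 + (a ⬝ᵥ x + a' ⬝ᵥ y) := by
  unfold mk dotProduct
  rw [Fintype.sum_sum_type, Fintype.sum_sum_type]
  simp only [Sum.elim_inl, Sum.elim_inr, Finset.univ_unique, Finset.sum_singleton]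

/-- the action of `ubarMat (std i b)` on vectors -/
theorem ubarMat_std_mulVec (i : Fin m) (b u0 : F) (x y : Fin (m + 1) → F) :
    ubarMat (std i b) *ᵥ mk u0 x y =
      mk u0 (fun k => x k + if k = i.succ then b * x 0 else 0)
        (fun k => y k - (if k = i.succ then x 0 else 0) +
          if k = 0 then x i.succ - b * y i.succ + b * x 0 else 0) := by
  rw [ubarMat_mulVec_aux, e0_dot, hatJ_std, hat_std, Qp_std, mk_dot, single_dotProduct,
    single_dotProduct, f0_eq]
  funext k
  rcases k with u | k | k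
  · simp only [Pi.add_apply, Pi.sub_apply, Pi.smul_apply, smul_eq_mul, mk_inl, mk_inrl]
    ring
  · simp only [Pi.add_apply, Pi.sub_apply, Pi.smul_apply, smul_eq_mul, mk_inrl, Pi.single_apply,
      Pi.zero_apply]
    split_ifs <;> ring
  · simp only [Pi.add_apply, Pi.sub_apply, Pi.smul_apply, smul_eq_mul, mk_inrl, mk_inrr,
      Pi.single_apply]
    split_ifs <;> ring

/-- leaf CD -/
theorem ubarMat_std (i : Fin m) (b : Fˣ) :
    ubarMat (std i (b : F)) =
      radMatO (Matrix.single i.succ 0 (1 : F)) *
          leviMatO ((SpecialLinearGroup.transvection (zero_ne_succ i) ((b⁻¹ : Fˣ) : F) :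
            SpecialLinearGroup (Fin (m + 1)) F) : Matrix (Fin (m + 1)) (Fin (m + 1)) F) *
        wMatO 0 i.succ *
        (leviMatO ((dg2 i b : SpecialLinearGroup (Fin (m + 1)) F) :
            Matrix (Fin (m + 1)) (Fin (m + 1)) F) *
          (radMatO (Matrix.single i.succ 0 (1 : F)) *
            leviMatO ((SpecialLinearGroup.transvection (zero_ne_succ i) ((b⁻¹ : Fˣ) : F) :
              SpecialLinearGroup (Fin (m + 1)) F) : Matrix (Fin (m + 1)) (Fin (m + 1)) F))) := by
  have hb : (b : F) * ((b⁻¹ : Fˣ) : F) = 1 := by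
    rw [← Units.val_mul, mul_inv_cancel, Units.val_one]
  have hb' : ((b⁻¹ : Fˣ) : F) * (b : F) = 1 := by rw [mul_comm]; exact hb
  have h0j : (0 : Fin (m + 1)) ≠ i.succ := zero_ne_succ i
  have hj0 : i.succ ≠ (0 : Fin (m + 1)) := Fin.succ_ne_zero i
  rw [ext_iff_mulVec]
  intro u
  obtain ⟨u0, x, y, rfl⟩ : ∃ (u0 : F) (x y : Fin (m + 1) → F), u = mk u0 x y :=
    ⟨c0 u, cx u, cy u, (mk_eta u).symm⟩
  have hdg : ((dg2 i b : SpecialLinearGroup (Fin (m + 1)) F) :
      Matrix (Fin (m + 1)) (Fin (m + 1)) F) =
      diagonal (Fin.cons (b : F) (fun k => if k = i then ((b⁻¹ : Fˣ) : F) else 1)) := rfl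
  have hdd : ∀ k : Fin (m + 1),
      (Fin.cons (b : F) (fun k => if k = i then ((b⁻¹ : Fˣ) : F) else 1) : Fin (m + 1) → F) k *
      (Fin.cons ((b⁻¹ : Fˣ) : F) (fun k => if k = i then (b : F) else 1) : Fin (m + 1) → F) k =
        1 := by
    intro k
    refine Fin.cases ?_ (fun k' => ?_) k
    · rw [Fin.cons_zero, Fin.cons_zero, hb]
    · rw [Fin.cons_succ, Fin.cons_succ]
      split_ifs
      · exact hb'
      · exact one_mul 1
  rw [ubarMat_std_mulVec, ← mulVec_mulVec, ← mulVec_mulVec, ← mulVec_mulVec, ← mulVec_mulVec,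
    ← mulVec_mulVec, levi_transvection_mulVec, rad_single_mulVec, hdg,
    levi_diagonal_mulVec _ _ hdd, wMatO_mulVec 0 i.succ h0j, levi_transvection_mulVec,
    rad_single_mulVec]
  have hc0 : ∀ (a a' : F) (f : Fin m → F), (Fin.cons a f : Fin (m + 1) → F) 0 = a :=
    fun a a' f => rfl
  have hcj : (Fin.cons (b : F) (fun k => if k = i then ((b⁻¹ : Fˣ) : F) else 1) :
      Fin (m + 1) → F) i.succ = ((b⁻¹ : Fˣ) : F) := by
    rw [Fin.cons_succ, if_pos rfl]
  have hcj' : (Fin.cons ((b⁻¹ : Fˣ) : F) (fun k => if k = i then (b : F) else 1) :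
      Fin (m + 1) → F) i.succ = (b : F) := by
    rw [Fin.cons_succ, if_pos rfl]
  congr 1
  · funext k
    by_cases hk0 : k = 0
    · subst hk0
      simp only [h0j, hj0, eq_self_iff_true, true_or, or_true, or_false, false_or, or_self,
        if_true, if_false, Fin.cons_zero, hcj, hcj', sub_zero, add_zero]
      linear_combination (-(x 0 + ((b⁻¹ : Fˣ) : F) * x i.succ)) * hb
    · by_cases hkj : k = i.succ
      · subst hkj
        simp only [h0j, hj0, eq_self_iff_true, true_or, or_true, or_false, false_or, or_self,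
          if_true, if_false, Fin.cons_zero, hcj, hcj', sub_zero, add_zero]
        linear_combination (-(x i.succ)) * hb
      · obtain ⟨k', rfl⟩ := Fin.exists_succ_eq.mpr hk0
        have hk'i : k' ≠ i := fun h => hkj (by rw [h])
        simp only [hk0, hkj, hk'i, eq_self_iff_true, true_or, or_true, or_false, false_or,
          or_self, if_true, if_false, Fin.cons_succ, sub_zero, add_zero]
        exact (one_mul _).symm
  · funext k
    by_cases hk0 : k = 0
    · subst hk0
      simp only [h0j, hj0, eq_self_iff_true, true_or, or_true, or_false, false_or, or_self,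
        if_true, if_false, Fin.cons_zero, hcj, hcj', sub_zero, add_zero]
      linear_combination (-(x i.succ + y 0)) * hb
    · by_cases hkj : k = i.succ
      · subst hkj
        simp only [h0j, hj0, eq_self_iff_true, true_or, or_true, or_false, false_or, or_self,
          if_true, if_false, Fin.cons_zero, hcj, hcj', sub_zero, add_zero]
        linear_combination (x 0 - y i.succ + ((b⁻¹ : Fˣ) : F) * x i.succ + ((b⁻¹ : Fˣ) : F) * y 0) * hb
      · obtain ⟨k', rfl⟩ := Fin.exists_succ_eq.mpr hk0
        have hk'i : k' ≠ i := fun h => hkj (by rw [h])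
        simp only [hk0, hkj, hk'i, eq_self_iff_true, true_or, or_true, or_false, false_or,
          or_self, if_true, if_false, Fin.cons_succ, sub_zero, add_zero]
        exact (one_mul _).symm

end Cfsg.Agent.Lib.Helper6.OOEndCD
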