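/-
helper6: the defect lower bound of Fong's theorem without invariance.  If `T` is the stabiliser of
the block `b` of the normal subgroup `N`, a block of maximal defect among those covering `b` has
defect at least `d(b) + ν_p |T : N|`.  When `G / N` is a `p`-group this applies to the unique block
covering `b`.
-/
import Mathlib
import Cfsg.Agent.Lib.Helper6.Fong
import Cfsg.Agent.Lib.Helper6.CoverDefect
import Cfsg.Agent.Lib.Helper6.FongReynolds
import Cfsg.Agent.Lib.Helper23.Covering2

set_option autoImplicit false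
set_option linter.unusedSectionVars false

namespace Cfsg.Agent.Lib.Helper6.FongGen

open Cfsg Cfsg.Agent.CharLib Cfsg.Agent.Lib.Helper24 Cfsg.Agent.Lib.Helper23
  Cfsg.Agent.Lib.Helper6 Cfsg.Agent.Lib.Helper6.Fong Cfsg.Agent.Lib.Helper6.CoverDefect
  Cfsg.Agent.Lib.Helper6.FongReynolds
open scoped ComplexConjugate

universe u

section count

variable {G : Type u} [Group G] [Fintype G] (N : Subgroup G) [hN : N.Normal] [Fintype N]
  {M : Ideal AlgInt} {p : ℕ} [hpp : Fact p.Prime]

/-- Conjugation by `g` as a permutation of the irreducible characters of `N`. -/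
noncomputable def conjIrrEquiv (g : G) : IrrCharacter N ≃ IrrCharacter N where
  toFun := conjIrr g
  invFun := conjIrr g⁻¹
  left_inv θ := Subtype.ext (conjFun_inv_conjFun N g _)
  right_inv θ := Subtype.ext (conjFun_conjFun_inv N g _)

open Classical in
/-- Orbit counting: the sum of an invariant function over the union of the conjugates of `b` is
`|G : T|` times its sum over `b`, where `T` is the stabiliser of `b`. -/
theorem card_mul_sum_conjUnion [Fintype (IrrCharacter N)] {b : Set (IrrCharacter N)}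
    (T : Subgroup G) (hstab : ∀ t ∈ T, ∀ θ ∈ b, conjIrr t θ ∈ b)
    (hTb : ∀ g : G, ∀ θ ∈ b, conjIrr g θ ∈ b → g ∈ T)
    (f : IrrCharacter N → ℕ) (hf : ∀ (g : G) (θ : IrrCharacter N), f (conjIrr g θ) = f θ) :
    Nat.card T * ∑ θ : IrrCharacter N, (if θ ∈ conjUnion N b then f θ else 0) =
      Nat.card G * ∑ θ : IrrCharacter N, (if θ ∈ b then f θ else 0) := by
  have hcount : ∀ ψ : IrrCharacter N,
      (∑ g : G, if conjIrr g ψ ∈ b then 1 else 0) =
        if ψ ∈ conjUnion N b then Nat.card T else 0 := by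
    intro ψ
    by_cases hψ : ψ ∈ conjUnion N b
    · rw [if_pos hψ]
      obtain ⟨g₀, θ₀, hθ₀, hg₀⟩ := hψ
      have hψeq : ψ = conjIrr g₀ θ₀ := Subtype.ext hg₀
      have hiff : ∀ g : G, conjIrr g ψ ∈ b ↔ g₀ * g ∈ T := by
        intro g
        have e : conjIrr g ψ = conjIrr (g₀ * g) θ₀ := by
          apply Subtype.ext
          rw [hψeq]
          exact (conjFun_mul N g₀ g _).symm
        rw [e]
        exact ⟨hTb _ θ₀ hθ₀, fun h => hstab _ h θ₀ hθ₀⟩
      rw [Finset.sum_boole, Nat.cast_id]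
      have e1 : (Finset.univ.filter (fun g : G => conjIrr g ψ ∈ b)).card =
          Nat.card {g : G // g₀ * g ∈ T} := by
        rw [Nat.card_eq_fintype_card, Fintype.card_subtype]
        congr 1
        ext g
        simp only [Finset.mem_filter, Finset.mem_univ, true_and]
        exact hiff g
      rw [e1]
      apply Nat.card_congr
      exact
        { toFun := fun g => ⟨g₀ * g.1, g.2⟩
          invFun := fun t => ⟨g₀⁻¹ * t.1, by
            change g₀ * (g₀⁻¹ * (t : G)) ∈ T
            rw [mul_inv_cancel_left]; exact t.2⟩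
          left_inv := fun g => by
            apply Subtype.ext
            change g₀⁻¹ * (g₀ * (g : G)) = g
            rw [inv_mul_cancel_left]
          right_inv := fun t => by
            apply Subtype.ext
            change g₀ * (g₀⁻¹ * (t : G)) = t
            rw [mul_inv_cancel_left] }
    · rw [if_neg hψ]
      apply Finset.sum_eq_zero
      intro g _
      rw [if_neg]
      intro h
      apply hψ
      refine ⟨g⁻¹, conjIrr g ψ, h, ?_⟩
      exact (conjFun_inv_conjFun N g _).symm
  have h1 : Nat.card T * ∑ θ : IrrCharacter N, (if θ ∈ conjUnion N b then f θ else 0) =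
      ∑ ψ : IrrCharacter N, ∑ g : G, (if conjIrr g ψ ∈ b then f ψ else 0) := by
    rw [Finset.mul_sum]
    apply Finset.sum_congr rfl
    intro ψ _
    have h2 : ∑ g : G, (if conjIrr g ψ ∈ b then f ψ else 0) =
        (∑ g : G, if conjIrr g ψ ∈ b then 1 else 0) * f ψ := by
      rw [Finset.sum_mul]
      apply Finset.sum_congr rfl
      intro g _
      split_ifs <;> simp
    rw [h2, hcount ψ]
    split_ifs <;> simp
  rw [h1, Finset.sum_comm]
  have h3 : ∀ g : G, ∑ ψ : IrrCharacter N, (if conjIrr g ψ ∈ b then f ψ else 0) =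
      ∑ θ : IrrCharacter N, (if θ ∈ b then f θ else 0) := by
    intro g
    apply Fintype.sum_equiv (conjIrrEquiv N g)
    intro ψ
    change _ = if conjIrr g ψ ∈ b then f (conjIrr g ψ) else 0
    rw [hf]
  rw [Finset.sum_congr rfl (fun g _ => h3 g), Finset.sum_const, Finset.card_univ,
    Nat.card_eq_fintype_card, smul_eq_mul]

omit hpp in
open Classical in
/-- Dimension identity: `|N| ∑_{χ over b} χ(1)² = |G| ∑_{θ ∈ b^G} θ(1)²`. -/
theorem card_mul_sum_coverSet_gen [Fintype (IrrCharacter G)] [Fintype (IrrCharacter N)]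
    (hM : IsPModular p M) {b : Set (IrrCharacter N)} (hb : IsPBlock M b) :
    Nat.card N * ∑ χ : IrrCharacter G,
        (if χ ∈ coverSet N b then charDegree (χ : G → ℂ) ^ 2 else 0) =
      Nat.card G * ∑ θ : IrrCharacter N,
        (if θ ∈ conjUnion N b then charDegree (θ : N → ℂ) ^ 2 else 0) := by
  have h1 := congrFun (extN_blockCoeff_conjUnion_eq N hM hb) 1
  have h2 : extN N (blockCoeff (conjUnion N b)) (1 : G) = blockCoeff (conjUnion N b) 1 :=
    extN_apply_mem N (blockCoeff (conjUnion N b)) 1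
  rw [h2, blockCoeff_eq_sum, blockCoeff_eq_sum] at h1
  have hG0 : (Nat.card G : ℂ) ≠ 0 := Nat.cast_ne_zero.mpr Nat.card_pos.ne'
  have hN0 : (Nat.card N : ℂ) ≠ 0 := Nat.cast_ne_zero.mpr Nat.card_pos.ne'
  have e1 : ∑ θ : IrrCharacter N,
      (if θ ∈ conjUnion N b then (θ : N → ℂ) 1 * conj ((θ : N → ℂ) 1) else 0) =
      ((∑ θ : IrrCharacter N,
        (if θ ∈ conjUnion N b then charDegree (θ : N → ℂ) ^ 2 else 0) : ℕ) : ℂ) := by
    push_cast
    apply Finset.sum_congr rfl
    intro θ _
    split_ifs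
    · rw [irr_apply_one, Complex.conj_natCast]; ring
    · rfl
  have e2 : ∑ χ : IrrCharacter G,
      (if χ ∈ coverSet N b then (χ : G → ℂ) 1 * conj ((χ : G → ℂ) 1) else 0) =
      ((∑ χ : IrrCharacter G,
        (if χ ∈ coverSet N b then charDegree (χ : G → ℂ) ^ 2 else 0) : ℕ) : ℂ) := by
    push_cast
    apply Finset.sum_congr rfl
    intro χ _
    split_ifs
    · rw [irr_apply_one, Complex.conj_natCast]; ring
    · rfl
  rw [e1, e2] at h1
  have h3 : ((Nat.card N * ∑ χ : IrrCharacter G,
        (if χ ∈ coverSet N b then charDegree (χ : G → ℂ) ^ 2 else 0) : ℕ) : ℂ) =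
      ((Nat.card G * ∑ θ : IrrCharacter N,
        (if θ ∈ conjUnion N b then charDegree (θ : N → ℂ) ^ 2 else 0) : ℕ) : ℂ) := by
    rw [Nat.cast_mul, Nat.cast_mul]
    field_simp at h1
    linear_combination -h1
  exact_mod_cast h3

open Classical in
/-- If every block meeting the cover set has least degree valuation at least `k`, then
`p ^ (a_G + k)` divides the dimension of the cover set. -/
theorem pow_dvd_sum_coverSet_gen [Fintype (IrrCharacter G)] (hM : IsPModular p M)
    {b : Set (IrrCharacter N)} (hb : IsPBlock M b) (k : ℕ)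
    (hk : ∀ χ' ∈ coverSet N b, k ≤ minVal p (blockOf M (χ' : G → ℂ))) :
    p ^ ((Nat.card G).factorization p + k) ∣ ∑ χ : IrrCharacter G,
      (if χ ∈ coverSet N b then charDegree (χ : G → ℂ) ^ 2 else 0) := by
  have hprime : M.IsPrime := isPrime_of_isPModular hM
  set T : Finset (IrrCharacter G) := Finset.univ.filter (fun χ => χ ∈ coverSet N b) with hT
  set blk : IrrCharacter G → Set (IrrCharacter G) := fun β => blockOf M (β : G → ℂ) with hblk
  have h1 : ∑ χ : IrrCharacter G,
      (if χ ∈ coverSet N b then charDegree (χ : G → ℂ) ^ 2 else 0) =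
      ∑ β ∈ T, charDegree (β : G → ℂ) ^ 2 := by
    rw [hT, Finset.sum_filter]
  have h2 : ∑ β ∈ T, charDegree (β : G → ℂ) ^ 2 =
      ∑ c ∈ T.image blk, ∑ β ∈ T with blk β = c, charDegree (β : G → ℂ) ^ 2 :=
    (Finset.sum_fiberwise_of_maps_to (fun β hβ => Finset.mem_image_of_mem blk hβ) _).symm
  rw [h1, h2]
  apply Finset.dvd_sum
  intro c hc
  obtain ⟨β₀, hβ₀T, rfl⟩ := Finset.mem_image.mp hc
  have hβ₀S : β₀ ∈ coverSet N b := (Finset.mem_filter.mp hβ₀T).2
  have h3 : ∑ β ∈ T with blk β = blk β₀, charDegree (β : G → ℂ) ^ 2 =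
      ∑ β : IrrCharacter G,
        (if β ∈ blockOf M (β₀ : G → ℂ) then charDegree (β : G → ℂ) ^ 2 else 0) := by
    rw [Finset.sum_filter, hT, Finset.sum_filter]
    apply Finset.sum_congr rfl
    intro β _
    by_cases hβ : β ∈ blockOf M (β₀ : G → ℂ)
    · have hβS : β ∈ coverSet N b := coverSet_closed' N hM hb hβ₀S hβ
      have hbb : blk β = blk β₀ := blockOf_eq_of_mem ⟨β₀, rfl⟩ hβ
      rw [if_pos hβS, if_pos hbb, if_pos hβ]
    · by_cases hβS : β ∈ coverSet N b
      · rw [if_pos hβS, if_neg hβ, if_neg]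
        intro hbb
        apply hβ
        have : β ∈ blk β := mem_blockOf_self β
        rw [hbb] at this
        exact this
      · rw [if_neg hβS, if_neg hβ]
  rw [h3]
  have h4 := factorization_sum_degree_sq (p := p) hM (B := blockOf M (β₀ : G → ℂ)) ⟨β₀, rfl⟩
  have h5 : p ^ ((Nat.card G).factorization p + minVal p (blockOf M (β₀ : G → ℂ))) ∣
      ∑ β : IrrCharacter G,
        (if β ∈ blockOf M (β₀ : G → ℂ) then charDegree (β : G → ℂ) ^ 2 else 0) := by
    rw [← h4]
    exact Nat.ordProj_dvd _ p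
  exact dvd_trans (pow_dvd_pow p (Nat.add_le_add_left (hk β₀ hβ₀S) _)) h5

/-- **Lower bound, general form**: a block of maximal defect covering the block `b` with
stabiliser `T` has defect at least `d(b) + ν_p |T| - ν_p |N|`. -/
theorem defect_lower_bound_gen (hM : IsPModular p M) {b : Set (IrrCharacter N)}
    (hb : IsPBlock M b) (T : Subgroup G) (hstab : ∀ t ∈ T, ∀ θ ∈ b, conjIrr t θ ∈ b)
    (hTb : ∀ g : G, ∀ θ ∈ b, conjIrr g θ ∈ b → g ∈ T)
    (B : Set (IrrCharacter G)) (hB : IsPBlock M B)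
    (hmax : ∀ χ' ∈ coverSet N b, blockDefect p (blockOf M (χ' : G → ℂ)) ≤ blockDefect p B) :
    blockDefect p b + (Nat.card T).factorization p ≤
      blockDefect p B + (Nat.card N).factorization p := by
  classical
  let _ := fintypeIrr G
  let _ := fintypeIrr N
  have hprime : M.IsPrime := isPrime_of_isPModular hM
  have hp : p.Prime := hpp.out
  set aG := (Nat.card G).factorization p with haG
  set aN := (Nat.card N).factorization p with haN
  set aT := (Nat.card T).factorization p with haT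
  have hbne : b.Nonempty := by
    obtain ⟨θ₀, rfl⟩ := hb
    exact ⟨θ₀, mem_blockOf_self θ₀⟩
  have hBne : B.Nonempty := by
    obtain ⟨χ₀, rfl⟩ := hB
    exact ⟨χ₀, mem_blockOf_self χ₀⟩
  have hmb : minVal p b ≤ aN := minVal_le_factorization_card hbne
  have hmB : minVal p B ≤ aG := minVal_le_factorization_card hBne
  have hdB : blockDefect p B = aG - minVal p B := rfl
  have hdb : blockDefect p b = aN - minVal p b := rfl
  set k := minVal p B with hk
  have hkS : ∀ χ' ∈ coverSet N b, k ≤ minVal p (blockOf M (χ' : G → ℂ)) := by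
    intro χ' hχ'
    have h1 := hmax χ' hχ'
    have h2 : blockDefect p (blockOf M (χ' : G → ℂ)) =
        aG - minVal p (blockOf M (χ' : G → ℂ)) := rfl
    have h3 : minVal p (blockOf M (χ' : G → ℂ)) ≤ aG :=
      minVal_le_factorization_card ⟨χ', mem_blockOf_self χ'⟩
    omega
  have hdvd := pow_dvd_sum_coverSet_gen N hM hb k hkS
  have hdim := card_mul_sum_coverSet_gen N hM hb
  have horb := card_mul_sum_conjUnion N T hstab hTb
    (fun θ : IrrCharacter N => charDegree (θ : N → ℂ) ^ 2) (fun g θ => by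
      change charDegree (conjFun N g (θ : N → ℂ)) ^ 2 = _
      rw [charDegree_conjFun])
  have hfb := factorization_sum_degree_sq (p := p) hM hb
  set Sb := ∑ θ : IrrCharacter N, (if θ ∈ b then charDegree (θ : N → ℂ) ^ 2 else 0) with hSb
  set SU := ∑ θ : IrrCharacter N,
    (if θ ∈ conjUnion N b then charDegree (θ : N → ℂ) ^ 2 else 0) with hSU
  set SC := ∑ χ : IrrCharacter G,
    (if χ ∈ coverSet N b then charDegree (χ : G → ℂ) ^ 2 else 0) with hSC
  have hSb0 : Sb ≠ 0 := by
    obtain ⟨θ₀, hθ₀⟩ := hbne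
    have h1 : (if θ₀ ∈ b then charDegree (θ₀ : N → ℂ) ^ 2 else 0) ≤ Sb :=
      Finset.single_le_sum (f := fun θ : IrrCharacter N =>
        (if θ ∈ b then charDegree (θ : N → ℂ) ^ 2 else 0)) (fun _ _ => Nat.zero_le _)
        (Finset.mem_univ θ₀)
    rw [if_pos hθ₀] at h1
    have h2 : 0 < charDegree (θ₀ : N → ℂ) ^ 2 := pow_pos (irr_charDegree_pos θ₀) 2
    omega
  have hall : Nat.card N * (Nat.card T * SC) = Nat.card G * (Nat.card G * Sb) := by
    calc Nat.card N * (Nat.card T * SC) = Nat.card T * (Nat.card N * SC) := by ring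
      _ = Nat.card T * (Nat.card G * SU) := by rw [hdim]
      _ = Nat.card G * (Nat.card T * SU) := by ring
      _ = Nat.card G * (Nat.card G * Sb) := by rw [horb]
  have h4 : p ^ (aN + (aT + (aG + k))) ∣ Nat.card G * (Nat.card G * Sb) := by
    rw [← hall, pow_add, pow_add]
    exact Nat.mul_dvd_mul (Nat.ordProj_dvd _ p) (Nat.mul_dvd_mul (Nat.ordProj_dvd _ p) hdvd)
  have hne : Nat.card G * (Nat.card G * Sb) ≠ 0 :=
    Nat.mul_ne_zero Nat.card_pos.ne' (Nat.mul_ne_zero Nat.card_pos.ne' hSb0)
  have h5 := (hp.pow_dvd_iff_le_factorization hne).mp h4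
  rw [Nat.factorization_mul Nat.card_pos.ne' (Nat.mul_ne_zero Nat.card_pos.ne' hSb0),
    Nat.factorization_mul Nat.card_pos.ne' hSb0] at h5
  simp only [Finsupp.coe_add, Pi.add_apply] at h5
  rw [hfb] at h5
  omega

/-- **Lower bound for `p`-power index**: if `G / N` is a `p`-group, the block covering the block
`b` with stabiliser `T` has defect at least `d(b) + ν_p |T| - ν_p |N|`. -/
theorem defect_lower_bound_pgroup (hM : IsPModular p M) (hidx : ∃ k : ℕ, N.index = p ^ k)
    {b : Set (IrrCharacter N)} (hb : IsPBlock M b) (T : Subgroup G)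
    (hstab : ∀ t ∈ T, ∀ θ ∈ b, conjIrr t θ ∈ b)
    (hTb : ∀ g : G, ∀ θ ∈ b, conjIrr g θ ∈ b → g ∈ T)
    (B : Set (IrrCharacter G)) (hB : IsPBlock M B)
    (hcov : ∃ χ ∈ B, ∃ θ ∈ b, classInner (fun n : N => (χ : G → ℂ) n) (θ : N → ℂ) ≠ 0) :
    blockDefect p b + (Nat.card T).factorization p ≤
      blockDefect p B + (Nat.card N).factorization p := by
  have hprime : M.IsPrime := isPrime_of_isPModular hM
  apply defect_lower_bound_gen N hM hb T hstab hTb B hB
  intro χ' hχ'
  obtain ⟨θ, hθ, hχθ⟩ := hχ'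
  have huniq := (existsUnique_covering_block N p hM hidx b hb).unique
    ⟨⟨χ', rfl⟩, χ', mem_blockOf_self χ', θ, hθ, hχθ⟩ ⟨hB, hcov⟩
  rw [huniq]

end count

end Cfsg.Agent.Lib.Helper6.FongGen
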