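import Mathlib
import Cfsg.Agent.Lib.Helper20.UTNDefs
import Cfsg.Agent.Lib.Helper20.UTS
import Cfsg.Agent.Lib.Helper5.SUMax

set_option autoImplicit false
set_option linter.unusedSectionVars false
set_option linter.unusedVariables false

namespace Cfsg.Agent.Lib.Helper6.UTNLeaf
open Matrix
open Cfsg.Agent.Lib.Helper25.Tens Cfsg.Agent.Lib.Helper25.TensLeaf Cfsg.Agent.Lib.Helper25.TensLeaves
open Cfsg.Agent.Lib.Helper20.UT Cfsg.Agent.Lib.Helper20.UTLeaf Cfsg.Agent.Lib.Helper20.UTN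
open scoped Kronecker

variable {F : Type*} [Field F] [Fintype F] {a b q : ℕ} {M : Subgroup (GL (Idx a b) F)}

/-! ### small tools -/

lemma q_ne_zero (hF : Fintype.card F = q ^ 2) : q ≠ 0 := by
  rintro rfl
  have : 2 ≤ Fintype.card F := Fintype.one_lt_card
  rw [hF] at this; omega

lemma hv_single_right (hF : Fintype.card F = q ^ 2) {n : ℕ} (p : Fin n → F) (i : Fin n) :
    hv q p (Pi.single i 1) = p i := by
  unfold hv
  rw [Finset.sum_eq_single i]
  · rw [Pi.single_eq_same, one_pow, mul_one]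
  · intro j _ hji
    rw [Pi.single_eq_of_ne hji, zero_pow (q_ne_zero hF), mul_zero]
  · intro hi'; exact absurd (Finset.mem_univ i) hi'

lemma eq_of_hv_right (hF : Fintype.card F = q ^ 2) {n : ℕ} {p p' : Fin n → F}
    (h : ∀ x, hv q p x = hv q p' x) : p = p' := by
  funext i
  have := h (Pi.single i 1)
  rwa [hv_single_right hF, hv_single_right hF] at this

/-- an isometry fixing `A ⊗ y` pointwise preserves the contraction `c_y` -/
lemma ct_y_of_fix (hF : Fintype.card F = q ^ 2) {y : Fin b → F} {u : GL (Idx a b) F}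
    (hu : u ∈ GUI a b q F) (hfix : ∀ x : Fin a → F, mv u (pt x y) = pt x y) (v : Idx a b → F) :
    ct (cj q y) (mv u v) = ct (cj q y) v := by
  apply eq_of_hv_right hF
  intro x
  rw [← hv_pt_right, ← hv_pt_right]
  conv_lhs => rw [← hfix x]
  exact mem_GUI.mp hu v (pt x y)

lemma inv_fix {y : Fin b → F} {u : GL (Idx a b) F}
    (hfix : ∀ x : Fin a → F, mv u (pt x y) = pt x y) (x : Fin a → F) :
    mv u⁻¹ (pt x y) = pt x y := by
  conv_lhs => rw [← hfix x]
  rw [mv_inv_mv]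

lemma adjM_adjM (hF : Fintype.card F = q ^ 2) (X : Matrix (Fin a) (Fin a) F) :
    adjM q (adjM q X) = X := by
  ext i j
  rw [adjM_apply, adjM_apply, pow_q_pow_q' hF]

/-- the block of `u⁻¹` is the adjoint of the block of `u` -/
lemma ct_inv_eq_adj (hF : Fintype.card F = q ^ 2) {z z' : Fin b → F} {u : GL (Idx a b) F}
    (hu : u ∈ GUI a b q F) (x : Fin a → F) :
    ct (cj q z) (mv u⁻¹ (pt x z')) = adjM q (blkM q u z z') *ᵥ x := by
  apply eq_of_hv_right hF
  intro x₁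
  rw [hv_adjM hF, adjM_adjM hF, blkM_mulVec, ← hv_pt_right]
  have e1 : hv q x (ct (cj q z') (mv u (pt x₁ z))) = (hv q (mv u (pt x₁ z)) (pt x z')) ^ q := by
    rw [hv_pt_right, hv_conj hF]
  have e2 : hv q (mv u⁻¹ (pt x z')) (pt x₁ z) = (hv q (pt x₁ z) (mv u⁻¹ (pt x z'))) ^ q :=
    (hv_conj hF _ _).symm
  have e3 := mem_GUI.mp hu (pt x₁ z) (mv u⁻¹ (pt x z'))
  rw [mv_mv_inv] at e3
  rw [e1, e2, e3]

lemma pt_sub_left6 (x x' : Fin a → F) (y : Fin b → F) : pt (x - x') y = pt x y - pt x' y := by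
  rw [sub_eq_add_neg, pt_add_left, ← neg_one_smul F x', pt_smul_left, neg_one_smul, ← sub_eq_add_neg]

/-- N3a THE COMMUTATOR LEMMA. -/
theorem IsZ_comm (hF : Fintype.card F = q ^ 2) {y z z' : Fin b → F} (hy : hv q y y = 0)
    (hz : hv q z z = 0) (hz' : hv q z' z' = 0) (hzy : hv q z y = 0) (hz'y : hv q z' y = 0)
    {u : GL (Idx a b) F} (hu : u ∈ GUI a b q F) (hfix : ∀ x : Fin a → F, mv u (pt x y) = pt x y)
    (c c' : F) :
    IsZ q y
      ((u * sB q y z c hy hz (iso_add hF hy hz hzy) * u⁻¹) *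
        sB q y z' c' hy hz' (iso_add hF hy hz' hz'y) *
        (u * sB q y z c hy hz (iso_add hF hy hz hzy) * u⁻¹)⁻¹ *
        (sB q y z' c' hy hz' (iso_add hF hy hz' hz'y))⁻¹)
      ((c * c') • (adjM q (blkM q u z z') - blkM q u z z')) := by
  have hyz : hv q y z = 0 := hv_symm_zero hF hzy
  have hyz' : hv q y z' = 0 := hv_symm_zero hF hz'y
  have hui : u⁻¹ ∈ GUI a b q F := inv_mem hu
  have hfixi := inv_fix hfix
  obtain ⟨g, hg⟩ : ∃ g, g = u * sB q y z c hy hz (iso_add hF hy hz hzy) * u⁻¹ := ⟨_, rfl⟩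
  obtain ⟨s, hs⟩ : ∃ s, s = sB q y z' c' hy hz' (iso_add hF hy hz' hz'y) := ⟨_, rfl⟩
  rw [← hg, ← hs]
  -- the two maps
  have hS : ∀ v, mv s v = v + c' • (pt (ct (cj q y) v) z' + pt (ct (cj q z') v) y) := by
    intro v; rw [hs, mv_sB hF y z' c' hy hz' hz'y]
  have hG : ∀ v, mv g v =
      v + c • (mv u (pt (ct (cj q y) v) z) + pt (ct (cj q z) (mv u⁻¹ v)) y) := by
    intro v
    rw [hg, mv_mul, mv_mul, mv_sB hF y z c hy hz hzy, mv_add, mv_smul, mv_add, mv_mv_inv, hfix,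
      ct_y_of_fix hF hui hfixi]
  -- contractions with `y`
  have hyS : ∀ v, ct (cj q y) (mv s v) = ct (cj q y) v := by
    intro v
    rw [hS, ct_add, ct_smul, ct_add, ct_cj_pt, ct_cj_pt, hz'y, hy, zero_smul, zero_smul, add_zero,
      smul_zero, add_zero]
  have hyG : ∀ v, ct (cj q y) (mv g v) = ct (cj q y) v := by
    intro v
    rw [hG, ct_add, ct_smul, ct_add, ct_y_of_fix hF hu hfix, ct_cj_pt, ct_cj_pt, hzy, hy,
      zero_smul, zero_smul, add_zero, smul_zero, add_zero]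
  intro v
  obtain ⟨w, rfl⟩ : ∃ w, v = mv (s * g) w :=
    ⟨mv (s * g)⁻¹ v, by rw [mv_mv_inv]⟩
  have hgrp : g * s * g⁻¹ * s⁻¹ * (s * g) = g * s := by group
  rw [← mv_mul, hgrp, mv_mul, mv_mul, hyS, hyG]
  obtain ⟨x, hx⟩ : ∃ x, x = ct (cj q y) w := ⟨_, rfl⟩
  rw [← hx]
  -- `g (s w)`
  have h1 : mv g (mv s w) = mv s w + c • (mv u (pt x z) +
      pt (ct (cj q z) (mv u⁻¹ w) + c' • (adjM q (blkM q u z z') *ᵥ x)) y) := by
    rw [hG (mv s w), hyS, ← hx]
    congr 4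
    rw [hS w, mv_add, mv_smul, mv_add, hfixi, ct_add, ct_smul, ct_add, ← hx,
      ct_inv_eq_adj hF hu, ct_cj_pt, hyz, zero_smul, add_zero]
  -- `s (g w)`
  have h2 : mv s (mv g w) = mv g w + c' • (pt x z' +
      pt (ct (cj q z') w + c • (blkM q u z z' *ᵥ x)) y) := by
    rw [hS (mv g w), hyG, ← hx]
    congr 4
    rw [hG w, ct_add, ct_smul, ct_add, ← hx, ← blkM_mulVec, ct_cj_pt, hyz', zero_smul, add_zero]
  rw [h1, h2, hS w, hG w, ← hx, Matrix.smul_mulVec, Matrix.sub_mulVec]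
  simp only [pt_add_left, pt_smul_left, pt_sub_left6, smul_add, smul_smul]
  module

end Cfsg.Agent.Lib.Helper6.UTNLeaf
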