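import Mathlib
import Cfsg.Agent.Lib.Helper20.UTNDefs
import Cfsg.Agent.Lib.Helper20.UTS
import Cfsg.Agent.Lib.Helper5.SUMax

set_option autoImplicit false
set_option linter.unusedSectionVars false
set_option linter.unusedVariables false

namespace Cfsg.Agent.Lib.Helper6.UTNLeaf
open Matrix
open Cfsg.Agent.Lib.Helper25.Tens Cfsg.Agent.Lib.Helper25.TensLeaf Cfsg.Agent.Lib.Helper25.TensLeaves
open Cfsg.Agent.Lib.Helper20.UT Cfsg.Agent.Lib.Helper20.UTLeaf Cfsg.Agent.Lib.Helper20.UTN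
open scoped Kronecker

variable {F : Type*} [Field F] [Fintype F] {a b q : ℕ} {M : Subgroup (GL (Idx a b) F)}

lemma exists_moved_q (hF : Fintype.card F = q ^ 2) : ∃ ε : F, ε ^ q ≠ ε := by
  have hf := hv_unitary (n := 1) hF
  obtain ⟨θ, hθ⟩ := Cfsg.Agent.Lib.Helper5.UForm.exists_moved
    (σ := Cfsg.Agent.Lib.Helper5.HermBridge.frobQ hF) hf.ne_refl
  exact ⟨θ, hθ⟩

/-- N3b the twist trick (pure algebra): take `μ = 1` and `μ = ε` with `ε^q ≠ ε`. -/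
theorem scalar_of_twist_sub (hF : Fintype.card F = q ^ 2) (X : Matrix (Fin a) (Fin a) F)
    (h : ∀ μ : F, IsScalarMat (μ ^ q • adjM q X - μ • X)) : IsScalarMat X := by
  obtain ⟨ε, hε⟩ := exists_moved_q hF
  obtain ⟨s₁, hs₁⟩ := h 1
  obtain ⟨s₂, hs₂⟩ := h ε
  rw [one_pow, one_smul, one_smul] at hs₁
  have hne : ε ^ q - ε ≠ 0 := sub_ne_zero.mpr hε
  refine ⟨(s₂ - ε ^ q * s₁) / (ε ^ q - ε), ?_⟩
  have hadj : adjM q X = X + s₁ • (1 : Matrix (Fin a) (Fin a) F) := by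
    rw [← hs₁]; abel
  rw [hadj] at hs₂
  have h3 : (ε ^ q - ε) • X = (s₂ - ε ^ q * s₁) • (1 : Matrix (Fin a) (Fin a) F) := by
    rw [sub_smul, sub_smul, mul_smul, ← hs₂, smul_add]
    abel
  have h4 : X = (ε ^ q - ε)⁻¹ • ((ε ^ q - ε) • X) := by
    rw [smul_smul, inv_mul_cancel₀ hne, one_smul]
  rw [h4, h3, smul_smul]
  congr 1
  field_simp

theorem scalar_of_twist_add (hF : Fintype.card F = q ^ 2) (X : Matrix (Fin a) (Fin a) F)
    (h : ∀ μ : F, IsScalarMat (μ • X + μ ^ q • adjM q X)) : IsScalarMat X := by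
  obtain ⟨ε, hε⟩ := exists_moved_q hF
  obtain ⟨s₁, hs₁⟩ := h 1
  obtain ⟨s₂, hs₂⟩ := h ε
  rw [one_pow, one_smul, one_smul] at hs₁
  have hne : ε - ε ^ q ≠ 0 := sub_ne_zero.mpr (Ne.symm hε)
  refine ⟨(s₂ - ε ^ q * s₁) / (ε - ε ^ q), ?_⟩
  have hadj : adjM q X = s₁ • (1 : Matrix (Fin a) (Fin a) F) - X := by
    rw [← hs₁]; abel
  rw [hadj] at hs₂
  have h3 : (ε - ε ^ q) • X = (s₂ - ε ^ q * s₁) • (1 : Matrix (Fin a) (Fin a) F) := by
    rw [sub_smul, sub_smul, mul_smul, ← hs₂, smul_sub]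
    abel
  have h4 : X = (ε - ε ^ q)⁻¹ • ((ε - ε ^ q) • X) := by
    rw [smul_smul, inv_mul_cancel₀ hne, one_smul]
  rw [h4, h3, smul_smul]
  congr 1
  field_simp

end Cfsg.Agent.Lib.Helper6.UTNLeaf
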