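import Mathlib
import Cfsg.Agent.Lib.Helper20.UTNDefs
import Cfsg.Agent.Lib.Helper20.UTS
import Cfsg.Agent.Lib.Helper5.SUMax
import Cfsg.Agent.Lib.Helper6.UTNN3a

set_option autoImplicit false
set_option linter.unusedSectionVars false
set_option linter.unusedVariables false

namespace Cfsg.Agent.Lib.Helper6.UTNLeaf
open Matrix
open Cfsg.Agent.Lib.Helper25.Tens Cfsg.Agent.Lib.Helper25.TensLeaf Cfsg.Agent.Lib.Helper25.TensLeaves
open Cfsg.Agent.Lib.Helper20.UT Cfsg.Agent.Lib.Helper20.UTLeaf Cfsg.Agent.Lib.Helper20.UTN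
open scoped Kronecker

variable {F : Type*} [Field F] [Fintype F] {a b q : ℕ} {M : Subgroup (GL (Idx a b) F)}

/-- N3d THE `Z`-PART. -/
theorem IsZ_zpart (hF : Fintype.card F = q ^ 2) {y z z'' : Fin b → F} (hy : hv q y y = 0)
    (hz : hv q z z = 0) (hz'' : hv q z'' z'' = 0) (hzy : hv q z y = 0) (hz''y : hv q z'' y = 0)
    {u : GL (Idx a b) F} (hu : u ∈ GUI a b q F) (hfix : ∀ x : Fin a → F, mv u (pt x y) = pt x y)
    (Φ : Matrix (Fin a) (Fin a) F)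
    (hΦ : ∀ x : Fin a → F, mv u (pt x z) = pt x z'' + pt (Φ *ᵥ x) y) (c : F) :
    IsZ q y
      (u * sB q y z c hy hz (iso_add hF hy hz hzy) * u⁻¹ *
        (sB q y z'' c hy hz'' (iso_add hF hy hz'' hz''y))⁻¹)
      (c • (Φ + adjM q Φ)) := by
  have hui : u⁻¹ ∈ GUI a b q F := inv_mem hu
  have hfixi := inv_fix hfix
  obtain ⟨s, hs⟩ : ∃ s, s = sB q y z'' c hy hz'' (iso_add hF hy hz'' hz''y) := ⟨_, rfl⟩
  rw [← hs]
  have hS : ∀ v, mv s v = v + c • (pt (ct (cj q y) v) z'' + pt (ct (cj q z'') v) y) := by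
    intro v; rw [hs, mv_sB hF y z'' c hy hz'' hz''y]
  have hyS : ∀ v, ct (cj q y) (mv s v) = ct (cj q y) v := by
    intro v
    rw [hS, ct_add, ct_smul, ct_add, ct_cj_pt, ct_cj_pt, hz''y, hy, zero_smul, zero_smul, add_zero,
      smul_zero, add_zero]
  -- the contraction `c_z ∘ u⁻¹`
  have hcz : ∀ v, ct (cj q z) (mv u⁻¹ v) =
      ct (cj q z'') v + adjM q Φ *ᵥ ct (cj q y) v := by
    intro v
    apply eq_of_hv_right hF
    intro x₁
    rw [hv_add_left, hv_adjM hF, adjM_adjM hF, ← hv_pt_right, ← hv_pt_right, ← hv_pt_right,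
      ← hv_add_right hF, ← hΦ x₁]
    have := mem_GUI.mp hu (mv u⁻¹ v) (pt x₁ z)
    rw [mv_mv_inv] at this
    exact this.symm
  intro v
  obtain ⟨w, rfl⟩ : ∃ w, v = mv s w := ⟨mv s⁻¹ v, by rw [mv_mv_inv]⟩
  rw [mv_mul, mv_inv_mv, hyS, mv_mul, mv_mul, mv_sB hF y z c hy hz hzy, mv_add, mv_smul, mv_add,
    mv_mv_inv, hfix, ct_y_of_fix hF hui hfixi, hΦ, hcz, hS w, Matrix.smul_mulVec, Matrix.add_mulVec]
  simp only [pt_add_left, pt_smul_left, smul_add]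
  module

end Cfsg.Agent.Lib.Helper6.UTNLeaf
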