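/-
helper6: leaf BRC-SUMSQ of helper24's Brauer-Reynolds core (`notes/S0999_leaves.lean`): `sum_aP_sq`,
`∑_χ ⟨χ|_P, 1_P⟩² = ⟨1_P^G, 1_P^G⟩ = f (n + 1)`.
-/
import Mathlib
import Cfsg.Prelude.Def_BlockRank
import Cfsg.Prelude.Def_Perm
import Cfsg.Agent.Lib.Helper24.BRCDefs
import Cfsg.Agent.Lib.Helper6.BRCTools
import Cfsg.Agent.Lib.Helper6.IndFun
import Cfsg.Agent.Lib.Helper23.BRHDEGP
import Cfsg.Agent.Lib.Helper10.TIInd

set_option autoImplicit false
set_option linter.unusedSectionVars false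

namespace Cfsg.Agent.Lib.Helper6.BRCSUMSQ

open Cfsg Cfsg.Agent.Lib.Helper8.DOM Cfsg.Agent.Lib.Helper27.DO Cfsg.Agent.CharLib
open Cfsg.Agent.Lib.Helper6.BRH Cfsg.Agent.Lib.Helper24.BRC
open Cfsg.Agent.Lib.Helper6.BRCTools
open scoped ComplexConjugate

universe u

variable {G : Type u} [Group G] [Finite G] {p : ℕ} [Fact p.Prime]

/-- the permutation character of `G` on the cosets of `P` at a non-identity element of `P` -/
theorem indFun_one_apply [Fintype G] (P : Subgroup G) (hP : Nat.card P = p) (hC : Cz P = P)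
    (x : G) (hx : x ∈ P) (hx1 : x ≠ 1) :
    indFun P (fun _ => (1 : ℂ)) x = (fI P : ℂ) := by
  classical
  have hpp : p.Prime := Fact.out
  rw [Cfsg.Agent.Lib.Helper6.indFun_apply]
  simp only [Cfsg.Agent.Lib.Helper6.extendByZero_one]
  rw [Finset.sum_boole]
  have h1 : (Finset.univ.filter (fun t : G => t⁻¹ * x * t ∈ P)) =
      Finset.univ.filter (fun t : G => t ∈ Nz P) := by
    ext t
    simp only [Finset.mem_filter, Finset.mem_univ, true_and]
    constructor
    · intro h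
      have h2 : t⁻¹ ∈ Nz P :=
        Cfsg.Agent.Lib.Helper29.DOTI.mem_Nz_of_conj_mem_P P hP hx hx1 (t := t⁻¹) (by
          rw [inv_inv]
          exact h)
      simpa using (Nz P).inv_mem h2
    · intro h
      have h2 : t⁻¹ ∈ Nz P := (Nz P).inv_mem h
      have h3 := (Subgroup.mem_normalizer_iff.mp h2 x).mp hx
      rwa [inv_inv] at h3
  rw [h1]
  have h2 : (Finset.univ.filter (fun t : G => t ∈ Nz P)).card = Nat.card (Nz P) := by
    rw [← Fintype.card_subtype, Nat.card_eq_fintype_card]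
  rw [h2, card_Nz P hP hC, hP]
  push_cast
  have hp0 : (p : ℂ) ≠ 0 := Nat.cast_ne_zero.mpr hpp.ne_zero
  field_simp

variable {P : Subgroup G} {n w : ℕ} {X Y : Set (IrrCharacter G)} {v : IrrCharacter G → ℤ} {ε : ℤ}

/-- **BRC-SUMSQ**. -/
theorem sum_aP_sq (hS : Special p P n w X Y v ε) :
    ∑ᶠ χ : IrrCharacter G, (aP P χ) ^ 2 = fI P * (n + 1) := by
  classical
  let _ : Fintype G := Fintype.ofFinite G
  let _ : Fintype (IrrCharacter G) := Fintype.ofFinite _
  let _ : Fintype P := Fintype.ofFinite _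
  have hpp : p.Prime := Fact.out
  set f := fI P with hfdef
  set Θ : G → ℂ := indFun P (fun _ => (1 : ℂ)) with hΘ
  have hΘcf : IsClassFunction G Θ := indFun_isClassFunction P _
  -- `⟨Θ, χ⟩ = aP χ`
  have hinner : ∀ χ : IrrCharacter G, classInner Θ (χ : G → ℂ) = (aP P χ : ℂ) := by
    intro χ
    obtain ⟨k, hk⟩ := Cfsg.Agent.Lib.Helper23.BRHDEGP.exists_finsum_subgroup_eq (χ : G → ℂ)
      (IsIrrCharacter.isCharacter χ.2) P
    rw [aP_eq_of P χ k hk, hΘ, frobenius_reciprocity P _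
      (IsCharacter.isClassFunction (IsIrrCharacter.isCharacter χ.2))]
    unfold classInner
    have h1 : ∑ g : P, (fun _ => (1 : ℂ)) g * conj ((fun h : P => (χ : G → ℂ) h) g) =
        conj (∑ᶠ x ∈ (P : Set G), (χ : G → ℂ) x) := by
      rw [← finsum_set_coe_eq_finsum_mem (P : Set G), finsum_eq_sum_of_fintype, map_sum]
      apply Finset.sum_congr rfl
      intro g _
      rw [one_mul]
    rw [h1, hk, map_mul, Complex.conj_natCast, Complex.conj_natCast, ← mul_assoc,
      inv_mul_cancel₀ (Nat.cast_ne_zero.mpr Nat.card_pos.ne'), one_mul]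
  -- Parseval
  have hpars : classInner Θ Θ = ∑ χ : IrrCharacter G, ((aP P χ : ℂ)) ^ 2 := by
    rw [← Cfsg.Agent.Lib.Helper10.DOGRAMCore.sum_irr_classInner hΘcf Θ]
    apply Finset.sum_congr rfl
    intro χ _
    rw [hinner χ, Complex.conj_natCast]
    ring
  -- Frobenius
  have hG : Nat.card G = (1 + n * p) * (f * p) := by
    rw [← card_Nz P hS.hP hS.hC, ← hS.hidx, mul_comm]
    exact (Subgroup.card_mul_index (Nz P)).symm
  have hΘ1 : Θ 1 = (f : ℂ) * (1 + (n : ℂ) * (p : ℂ)) := by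
    rw [hΘ, Cfsg.Agent.Lib.Helper10.indFun_apply_one, hS.hP, hG]
    push_cast
    have hp0 : (p : ℂ) ≠ 0 := Nat.cast_ne_zero.mpr hpp.ne_zero
    field_simp
  have hfrob : classInner Θ Θ = (f : ℂ) * ((n : ℂ) + 1) := by
    have h0 := frobenius_reciprocity P (fun _ => (1 : ℂ)) hΘcf
    rw [← hΘ] at h0
    rw [h0]
    unfold classInner
    have h1 : ∑ g : P, (fun _ => (1 : ℂ)) g * conj ((fun h : P => Θ h) g) =
        conj (∑ᶠ x ∈ (P : Set G), Θ x) := by
      rw [← finsum_set_coe_eq_finsum_mem (P : Set G), finsum_eq_sum_of_fintype, map_sum]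
      apply Finset.sum_congr rfl
      intro g _
      rw [one_mul]
    have h2 : ∑ᶠ x ∈ {x : G | x ∈ P ∧ x ≠ 1}, Θ x =
        ∑ᶠ _x ∈ {x : G | x ∈ P ∧ x ≠ 1}, (f : ℂ) := by
      apply finsum_mem_congr rfl
      rintro x ⟨hx, hx1⟩
      exact indFun_one_apply P hS.hP hS.hC x hx hx1
    have h3 : ∑ᶠ _x ∈ {x : G | x ∈ P ∧ x ≠ 1}, (f : ℂ) = ((p : ℂ) - 1) * (f : ℂ) := by
      rw [finsum_mem_eq_finite_toFinset_sum _ (Set.toFinite _), Finset.sum_const, nsmul_eq_mul]
      have h4 : (Set.toFinite {x : G | x ∈ P ∧ x ≠ 1}).toFinset.card = p - 1 := by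
        have h5 : (Set.toFinite {x : G | x ∈ P ∧ x ≠ 1}).toFinset =
            (Set.toFinite (P : Set G)).toFinset.erase 1 := by
          ext x
          simp only [Set.Finite.mem_toFinset, Set.mem_ofPred_eq, Finset.mem_erase, SetLike.mem_coe]
          tauto
        rw [h5, Finset.card_erase_of_mem (by simp [P.one_mem]),
          ← Set.ncard_eq_toFinset_card _ _, ← Nat.card_coe_set_eq]
        show Nat.card P - 1 = p - 1
        rw [hS.hP]
      rw [h4, Nat.cast_sub hpp.one_le, Nat.cast_one]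
    rw [h1, finsum_P_split, hΘ1, h2, h3, hS.hP]
    simp only [map_add, map_mul, map_sub, map_one, Complex.conj_natCast]
    have hp0 : (p : ℂ) ≠ 0 := Nat.cast_ne_zero.mpr hpp.ne_zero
    field_simp
    ring
  rw [hpars] at hfrob
  rw [finsum_eq_sum_of_fintype]
  have h5 : ((∑ χ : IrrCharacter G, (aP P χ) ^ 2 : ℕ) : ℂ) = ((f * (n + 1) : ℕ) : ℂ) := by
    push_cast
    exact hfrob
  exact_mod_cast h5

end Cfsg.Agent.Lib.Helper6.BRCSUMSQ
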