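import Cfsg.Agent.Lib.Helper17.OC2Defs
import Cfsg.Agent.Lib.Helper17.OC2Tool
import Cfsg.Agent.Lib.Helper25.SpinForms
import Cfsg.Agent.Lib.Helper14.OrthOdd

/-!
# S5677 leaf C5 (helper17 market): a block swap inside `M`
-/

set_option autoImplicit false
set_option linter.unusedSectionVars false
set_option linter.unusedVariables false

namespace Cfsg.Agent.Lib.Helper6.OC2Leaf

open Module QuadraticMap Matrix Cfsg.Agent.Lib.Helper25.CD Cfsg.Agent.Lib.Helper25.Spin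
  Cfsg.Agent.Lib.Helper15 Cfsg.Agent.Lib.Helper5.NSMax Cfsg.Agent.Lib.Helper5.PairMax
  Cfsg.Agent.Lib.Helper17.OC2 Cfsg.Agent.Lib.Helper17.OC2Leaf

variable {ι : Type} [Fintype ι] [DecidableEq ι] {F : Type*} [Field F] [Fintype F]
  {Q : QuadraticForm F (ι → F)} {t : ℕ} {D : Fin t → Submodule F (ι → F)} {k : ℕ}
  {M : Subgroup ↥(Cfsg.isometryGroup F ⇑Q)}

/-- the map exchanging the blocks `l` and `j` through `e` and fixing the other blocks -/
noncomputable def swapMap (hG : Geo Q D k) (l j : Fin t) (e : D l ≃ₗ[F] D j) :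
    (ι → F) →ₗ[F] (ι → F) :=
  LinearMap.id - pr hG l - pr hG j
    + (D j).subtype ∘ₗ (e : D l →ₗ[F] D j) ∘ₗ (pr hG l).codRestrict (D l) (pr_mem hG l)
    + (D l).subtype ∘ₗ (e.symm : D j →ₗ[F] D l) ∘ₗ (pr hG j).codRestrict (D j) (pr_mem hG j)

theorem swapMap_apply (hG : Geo Q D k) (l j : Fin t) (e : D l ≃ₗ[F] D j) (x : ι → F) :
    swapMap hG l j e x = x - pr hG l x - pr hG j x
      + ((e ⟨pr hG l x, pr_mem hG l x⟩ : D j) : ι → F)
      + ((e.symm ⟨pr hG j x, pr_mem hG j x⟩ : D l) : ι → F) := rfl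

theorem pr_pr_same (hG : Geo Q D k) (m : Fin t) (x : ι → F) : pr hG m (pr hG m x) = pr hG m x :=
  pr_same hG (pr_mem hG m x)

theorem pr_pr_ne (hG : Geo Q D k) {m m' : Fin t} (h : m' ≠ m) (x : ι → F) :
    pr hG m (pr hG m' x) = 0 :=
  pr_ne hG h (pr_mem hG m' x)

theorem pr_swapMap_left (hG : Geo Q D k) {l j : Fin t} (hlj : l ≠ j) (e : D l ≃ₗ[F] D j)
    (x : ι → F) :
    pr hG l (swapMap hG l j e x) = ((e.symm ⟨pr hG j x, pr_mem hG j x⟩ : D l) : ι → F) := by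
  rw [swapMap_apply, map_add, map_add, map_sub, map_sub, pr_pr_same, pr_pr_ne hG (Ne.symm hlj),
    pr_ne hG (Ne.symm hlj) (e _).2, pr_same hG (e.symm _).2]
  simp

theorem pr_swapMap_right (hG : Geo Q D k) {l j : Fin t} (hlj : l ≠ j) (e : D l ≃ₗ[F] D j)
    (x : ι → F) :
    pr hG j (swapMap hG l j e x) = ((e ⟨pr hG l x, pr_mem hG l x⟩ : D j) : ι → F) := by
  rw [swapMap_apply, map_add, map_add, map_sub, map_sub, pr_pr_same, pr_pr_ne hG hlj,
    pr_ne hG hlj (e.symm _).2, pr_same hG (e _).2]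
  simp

theorem pr_swapMap_other (hG : Geo Q D k) {l j m : Fin t} (hml : m ≠ l) (hmj : m ≠ j)
    (e : D l ≃ₗ[F] D j) (x : ι → F) :
    pr hG m (swapMap hG l j e x) = pr hG m x := by
  rw [swapMap_apply, map_add, map_add, map_sub, map_sub, pr_pr_ne hG (Ne.symm hml),
    pr_pr_ne hG (Ne.symm hmj), pr_ne hG (Ne.symm hmj) (e _).2, pr_ne hG (Ne.symm hml) (e.symm _).2]
  simp

theorem swapMap_involutive (hG : Geo Q D k) {l j : Fin t} (hlj : l ≠ j) (e : D l ≃ₗ[F] D j) :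
    Function.Involutive (swapMap hG l j e) := by
  intro x
  have h1 : (⟨pr hG l (swapMap hG l j e x), pr_mem hG l _⟩ : D l)
      = e.symm ⟨pr hG j x, pr_mem hG j x⟩ := Subtype.ext (pr_swapMap_left hG hlj e x)
  have h2 : (⟨pr hG j (swapMap hG l j e x), pr_mem hG j _⟩ : D j)
      = e ⟨pr hG l x, pr_mem hG l x⟩ := Subtype.ext (pr_swapMap_right hG hlj e x)
  rw [swapMap_apply hG l j e (swapMap hG l j e x), h1, h2, LinearEquiv.apply_symm_apply,
    LinearEquiv.symm_apply_apply, pr_swapMap_left hG hlj, pr_swapMap_right hG hlj, swapMap_apply]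
  simp only
  abel

theorem swapMap_Q (hG : Geo Q D k) {l j : Fin t} (hlj : l ≠ j) (e : D l ≃ₗ[F] D j)
    (he : ∀ w : D l, Q ((e w : D j) : ι → F) = Q (w : ι → F)) (x : ι → F) :
    Q (swapMap hG l j e x) = Q x := by
  rw [Q_eq_sum hG (swapMap hG l j e x), Q_eq_sum hG x]
  have hterm : ∀ m, Q (pr hG m (swapMap hG l j e x)) = Q (pr hG (Equiv.swap l j m) x) := by
    intro m
    by_cases hml : m = l
    · subst hml
      rw [Equiv.swap_apply_left, pr_swapMap_left hG hlj]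
      have := he (e.symm ⟨pr hG j x, pr_mem hG j x⟩)
      rw [LinearEquiv.apply_symm_apply] at this
      exact this.symm
    · by_cases hmj : m = j
      · subst hmj
        rw [Equiv.swap_apply_right, pr_swapMap_right hG hlj]
        exact he _
      · rw [Equiv.swap_apply_of_ne_of_ne hml hmj, pr_swapMap_other hG hml hmj]
  rw [Finset.sum_congr rfl (fun m _ => hterm m)]
  exact Equiv.sum_comp (Equiv.swap l j) (fun m => Q (pr hG m x))

theorem swapMap_of_mem_left (hG : Geo Q D k) {l j : Fin t} (hlj : l ≠ j) (e : D l ≃ₗ[F] D j)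
    {x : ι → F} (hx : x ∈ D l) : swapMap hG l j e x = ((e ⟨x, hx⟩ : D j) : ι → F) := by
  rw [swapMap_apply]
  have h1 : (⟨pr hG l x, pr_mem hG l x⟩ : D l) = ⟨x, hx⟩ := Subtype.ext (pr_same hG hx)
  have h2 : (⟨pr hG j x, pr_mem hG j x⟩ : D j) = 0 := Subtype.ext (pr_ne hG hlj hx)
  rw [h1, h2, map_zero, pr_same hG hx, pr_ne hG hlj hx]
  simp

theorem swapMap_of_mem_right (hG : Geo Q D k) {l j : Fin t} (hlj : l ≠ j) (e : D l ≃ₗ[F] D j)
    {x : ι → F} (hx : x ∈ D j) : swapMap hG l j e x = ((e.symm ⟨x, hx⟩ : D l) : ι → F) := by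
  rw [swapMap_apply]
  have h1 : (⟨pr hG j x, pr_mem hG j x⟩ : D j) = ⟨x, hx⟩ := Subtype.ext (pr_same hG hx)
  have h2 : (⟨pr hG l x, pr_mem hG l x⟩ : D l) = 0 := Subtype.ext (pr_ne hG (Ne.symm hlj) hx)
  rw [h1, h2, map_zero, pr_same hG hx, pr_ne hG (Ne.symm hlj) hx]
  simp

theorem swapMap_of_mem_other (hG : Geo Q D k) {l j m : Fin t} (hml : m ≠ l) (hmj : m ≠ j)
    (e : D l ≃ₗ[F] D j) {x : ι → F} (hx : x ∈ D m) : swapMap hG l j e x = x := by
  rw [swapMap_apply]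
  have h1 : (⟨pr hG j x, pr_mem hG j x⟩ : D j) = 0 := Subtype.ext (pr_ne hG hmj hx)
  have h2 : (⟨pr hG l x, pr_mem hG l x⟩ : D l) = 0 := Subtype.ext (pr_ne hG hml hx)
  rw [h1, h2, map_zero, map_zero, pr_ne hG hmj hx, pr_ne hG hml hx]
  simp

/-- C5 -/
theorem exists_swap (hS : MS Q M D k) {i l j : Fin t} (hli : l ≠ i) (hji : j ≠ i) (hlj : l ≠ j) :
    ∃ s ∈ M, (∀ x ∈ D i, toOG Q s x = x) ∧ ∀ w ∈ D j, ∃ x ∈ D l, toOG Q s x = w := by
  have hG := hS.toGeo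
  obtain ⟨e, he⟩ := hG.iso l j
  obtain ⟨ρ, hρ⟩ : ∃ ρ : (ι → F) ≃ₗ[F] (ι → F), ρ = LinearEquiv.ofInvolutive (swapMap hG l j e)
      (swapMap_involutive hG hlj e) := ⟨_, rfl⟩
  have hρx : ∀ x, ρ x = swapMap hG l j e x := by
    intro x; rw [hρ]; rfl
  have hρOG : ρ ∈ OG Q := mem_OG.2 (fun x => by rw [hρx, swapMap_Q hG hlj e he])
  obtain ⟨s₀, hs₀⟩ : ∃ s₀, s₀ = ofOG Q ρ hρOG := ⟨_, rfl⟩
  have hs₀x : ∀ x, toOG Q s₀ x = swapMap hG l j e x := by
    intro x; rw [hs₀, toOG_ofOG, hρx]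
  have hfrj : 2 ≤ finrank F (D j) := by rw [hG.fr j]; have := hG.k3; omega
  obtain ⟨h', hh', hΩ⟩ := exists_adjust_in hG (ndOn hG j) hfrj s₀
  have hfix : Fixes Q D h' := rgen_fixes hG le_rfl hh'
  have hfixinv : Fixes Q D h'⁻¹ := Fixes.inv' hG hfix
  have hsx : ∀ x, toOG Q (h' * s₀) x = toOG Q h' (swapMap hG l j e x) := by
    intro x; rw [map_mul, LinearEquiv.mul_apply, hs₀x]
  refine ⟨h' * s₀, ?_, ?_, ?_⟩
  · apply hS.stab _ hΩ
    refine ⟨Equiv.swap l j, fun m x hx => ?_⟩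
    rw [hsx]
    by_cases hml : m = l
    · subst hml
      rw [Equiv.swap_apply_left, swapMap_of_mem_left hG hlj e hx]
      exact hfix j _ (e _).2
    · by_cases hmj : m = j
      · subst hmj
        rw [Equiv.swap_apply_right, swapMap_of_mem_right hG hlj e hx]
        exact hfix l _ (e.symm _).2
      · rw [Equiv.swap_apply_of_ne_of_ne hml hmj, swapMap_of_mem_other hG hml hmj e hx]
        exact hfix m _ hx
  · intro x hx
    rw [hsx, swapMap_of_mem_other hG (Ne.symm hli) (Ne.symm hji) e hx]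
    exact rgen_fix hh' (fun u hu => hG.orth j i hji u hu x hx)
  · intro w hw
    have hw' : toOG Q h'⁻¹ w ∈ D j := hfixinv j w hw
    refine ⟨((e.symm ⟨toOG Q h'⁻¹ w, hw'⟩ : D l) : ι → F), (e.symm _).2, ?_⟩
    rw [hsx, swapMap_of_mem_left hG hlj e (e.symm _).2]
    have : (⟨((e.symm ⟨toOG Q h'⁻¹ w, hw'⟩ : D l) : ι → F), (e.symm _).2⟩ : D l)
        = e.symm ⟨toOG Q h'⁻¹ w, hw'⟩ := Subtype.ext rfl
    rw [this, LinearEquiv.apply_symm_apply]
    simp only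
    rw [← LinearEquiv.mul_apply, ← map_mul, mul_inv_cancel, map_one]
    rfl

end Cfsg.Agent.Lib.Helper6.OC2Leaf
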