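import Cfsg.Agent.Lib.Helper17.OC2Defs
import Cfsg.Agent.Lib.Helper17.OC2Tool
import Cfsg.Agent.Lib.Helper25.SpinForms
import Cfsg.Agent.Lib.Helper14.OrthOdd

/-!
# S5677 leaf E1 (helper17 market): an element of `Ω` that does not permute the blocks
-/

set_option autoImplicit false
set_option linter.unusedSectionVars false
set_option linter.unusedVariables false

namespace Cfsg.Agent.Lib.Helper6.OC2Leaf

open Module QuadraticMap Matrix Cfsg.Agent.Lib.Helper25.CD Cfsg.Agent.Lib.Helper25.Spin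
  Cfsg.Agent.Lib.Helper15 Cfsg.Agent.Lib.Helper5.NSMax Cfsg.Agent.Lib.Helper5.PairMax
  Cfsg.Agent.Lib.Helper17.OC2

variable {ι : Type} [Fintype ι] [DecidableEq ι] {F : Type*} [Field F] [Fintype F]
  {Q : QuadraticForm F (ι → F)} {t : ℕ} {D : Fin t → Submodule F (ι → F)} {k : ℕ}
  {M : Subgroup ↥(Cfsg.isometryGroup F ⇑Q)}

/-- E1 -/
theorem exists_not_perm (hG : Geo Q D k) : ∃ g ∈ Cfsg.Omega F ⇑Q, ¬ IsPerm Q D g := by
  have ht := hG.t3
  obtain ⟨i₀, hi₀⟩ : ∃ i₀ : Fin t, i₀ = ⟨0, by omega⟩ := ⟨_, rfl⟩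
  obtain ⟨i₁, hi₁⟩ : ∃ i₁ : Fin t, i₁ = ⟨1, by omega⟩ := ⟨_, rfl⟩
  have h01 : i₀ ≠ i₁ := by
    rw [hi₀, hi₁]
    intro h
    have := congrArg Fin.val h
    simp at this
  have hfr0 : 3 ≤ finrank F (D i₀) := by rw [hG.fr i₀]; exact hG.k3
  have hfr1 : 3 ≤ finrank F (D i₁) := by rw [hG.fr i₁]; exact hG.k3
  obtain ⟨z, hz, hz0, hQz⟩ := exists_singular_in Q (D i₀) hfr0
  obtain ⟨z', hz', hQz', hzz'⟩ := exists_hyp_partner Q (D i₀) (ndOn hG i₀) hz hz0 hQz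
  obtain ⟨y, hy, hy0, -⟩ := exists_singular_in Q (D i₁) hfr1
  have hzy : polar Q z y = 0 := hG.orth i₀ i₁ h01 z hz y hy
  have hyz' : polar Q y z' = 0 := hG.orth i₁ i₀ (Ne.symm h01) y hy z' hz'
  obtain ⟨g, hgΩ, hg⟩ := exists_egen Q hG.nd hG.card hz0 hQz hzy
  refine ⟨g, hgΩ, ?_⟩
  rintro ⟨σ, hσ⟩
  have hw := hσ i₀ z' hz'
  rw [hg] at hw
  have hwe : egen Q z y z' = z' + y - Q y • z := by
    unfold egen
    rw [hzz', hyz']
    simp
  rw [hwe] at hw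
  have hp1 : pr hG i₁ (z' + y - Q y • z) = y := by
    rw [map_sub, map_add, map_smul, pr_ne hG h01 hz', pr_ne hG h01 hz, pr_same hG hy]
    simp
  have hp0 : pr hG i₀ (z' + y - Q y • z) = z' - Q y • z := by
    rw [map_sub, map_add, map_smul, pr_ne hG (Ne.symm h01) hy, pr_same hG hz', pr_same hG hz]
    simp
  by_cases hj : σ i₀ = i₁
  · rw [hj] at hw
    have h0 := pr_ne hG (Ne.symm h01) hw
    rw [hp0] at h0
    have hz'e : z' = Q y • z := sub_eq_zero.1 h0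
    rw [hz'e, polar_smul_right, polar_self_of_singular Q hQz, smul_zero] at hzz'
    exact zero_ne_one hzz'
  · have h0 := pr_ne hG hj hw
    rw [hp1] at h0
    exact hy0 h0

end Cfsg.Agent.Lib.Helper6.OC2Leaf
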