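/-
helper6: S2318 leaf C0 `chev_hHcomm`: `H = B ⊓ N` of a finite Chevalley group is commutative.
-/
import Mathlib
import Cfsg.Agent.Lib.Helper27.GGDefs
import Cfsg.Agent.Lib.Helper6.BNRedB
import Cfsg.Agent.Lib.Helper6.ChevStX1
import Cfsg.Agent.Lib.Helper7.ChevBorel

set_option autoImplicit false

namespace Cfsg.Agent.Lib.Helper6.GG

open Cfsg Cfsg.Agent.Lib.Helper3.BN Cfsg.Agent.Lib.Helper3.WordLen Cfsg.Agent.Lib.Helper6.BNSt
open Cfsg.Agent.Lib.Helper6.CoxRed Cfsg.Agent.Lib.Helper27.GG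
open Cfsg.Lie Cfsg.Agent.Lib.Helper7 Cfsg.Agent.Lib.Helper6.ChevSt Cfsg.Agent.Lib.Helper6.ChevStX1

variable (D : ChevalleyDatum) (hD : D ∈ [chevG2, chevB2, chevD4, chevF4, chevE6, chevE7, chevE8])
variable (F : Type*) [Field F]
variable [Fintype F]
include hD

/-- **C0** -/
theorem chev_hHcomm : ∀ h ∈ (chevBNPair D hD F).B ⊓ (chevBNPair D hD F).N,
    ∀ h' ∈ (chevBNPair D hD F).B ⊓ (chevBNPair D hD F).N, h * h' = h' * h := by
  intro h hh h' hh'
  rw [B_inf_N D hD F, Subgroup.mem_subgroupOf] at hh hh'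
  apply Subtype.ext
  exact diagonalSubgroup_comm D hD F _ _ hh hh'

end Cfsg.Agent.Lib.Helper6.GG
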