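/-
helper6: S2318 leaf C3 `chev_hcardX`: a fundamental root subgroup of a finite Chevalley group has `|F|` elements.
-/
import Mathlib
import Cfsg.Agent.Lib.Helper27.GGDefs
import Cfsg.Agent.Lib.Helper6.BNRedB
import Cfsg.Agent.Lib.Helper6.ChevStX1
import Cfsg.Agent.Lib.Helper7.ChevCell

set_option autoImplicit false

namespace Cfsg.Agent.Lib.Helper6.GG

open Cfsg Cfsg.Agent.Lib.Helper3.BN Cfsg.Agent.Lib.Helper3.WordLen Cfsg.Agent.Lib.Helper6.BNSt
open Cfsg.Agent.Lib.Helper6.CoxRed Cfsg.Agent.Lib.Helper27.GG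
open Cfsg.Lie Cfsg.Agent.Lib.Helper7 Cfsg.Agent.Lib.Helper6.ChevSt Cfsg.Agent.Lib.Helper6.ChevStX1

variable (D : ChevalleyDatum) (hD : D ∈ [chevG2, chevB2, chevD4, chevF4, chevE6, chevE7, chevE8])
variable (F : Type*) [Field F]

include hD

/-- `t ↦ x_r(t)` is injective for a root `r` -/
theorem xGL_injective (r : ℕ) (hr : r < D.nroots) : Function.Injective (xGL D hD F r) := by
  intro t t' h
  have hN := negOK_of_mem D hD r hr
  have h1 : xGL D hD F r (t - t') = 1 := by
    rw [sub_eq_add_neg, ← xGL_mul, ← xGL_inv, h, mul_inv_cancel]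
  have h2 : D.x F r (t - t') = 1 := by
    rw [← coe_xGL D hD F, h1]; rfl
  have := eq_zero_of_x_eq_one D F r hr hN.1 hN.2 _ h2
  exact sub_eq_zero.mp this

variable [Fintype F]

/-- **C3** -/
theorem chev_hcardX (i : Fin D.rank) : Nat.card (((D.rootSubgroup F (D.simple i)).subgroupOf (D.group F))) = Fintype.card F := by
  have hF := fundFacts_of_mem D hD i i.2
  rw [← Nat.card_eq_fintype_card]
  symm
  apply Nat.card_congr
  have hmem : ∀ t : F, xGL D hD F (D.simple i) t ∈ D.group F := fun t => xGL_mem_group D hD F _ t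
  have hmemX : ∀ t : F, (⟨xGL D hD F (D.simple i) t, hmem t⟩ : ↥(D.group F)) ∈ ((D.rootSubgroup F (D.simple i)).subgroupOf (D.group F)) := by
    intro t
    rw [Subgroup.mem_subgroupOf]
    exact (mem_rootSubgroup_iff D hD F _ _).mpr ⟨t, rfl⟩
  refine Equiv.ofBijective (fun t => (⟨⟨xGL D hD F (D.simple i) t, hmem t⟩, hmemX t⟩ : ((D.rootSubgroup F (D.simple i)).subgroupOf (D.group F))))
    ⟨?_, ?_⟩
  · intro t t' h
    have h1 : xGL D hD F (D.simple i) t = xGL D hD F (D.simple i) t' :=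
      congrArg (fun z : ((D.rootSubgroup F (D.simple i)).subgroupOf (D.group F)) => ((z : ↥(D.group F)) : GL D.Idx F)) h
    exact xGL_injective D hD F _ hF.hp h1
  · rintro ⟨⟨g, hg⟩, hx⟩
    rw [Subgroup.mem_subgroupOf] at hx
    obtain ⟨t, ht⟩ := (mem_rootSubgroup_iff D hD F _ _).mp hx
    refine ⟨t, ?_⟩
    apply Subtype.ext
    apply Subtype.ext
    exact ht.symm

end Cfsg.Agent.Lib.Helper6.GG
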