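/-
helper6: S2318 leaf C9 `chev_hcardU`: `|U| = q ^ ℓ(w₀)` for a finite Chevalley group.
`|B n B| = |B| · |B : B ∩ n B n⁻¹|` (general (B,N)-pair), `B ∩ n₀ B n₀⁻¹ = H` (`BStab_w0`),
`|B| = |U| |H|` and `|B w₀ B| = q ^ ℓ(w₀) |B|` (`card_C`, `card_C_fund`).
-/
import Mathlib
import Cfsg.Agent.Lib.Helper27.GGDefs
import Cfsg.Agent.Lib.Helper6.BNRedB
import Cfsg.Agent.Lib.Helper6.ChevStX1
import Cfsg.Agent.Lib.Helper6.ChevStB
import Cfsg.Agent.Lib.Helper7.BNCount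
import Cfsg.Agent.Lib.Helper7.ChevCell
import Cfsg.Agent.Lib.Helper27.StCountA

set_option autoImplicit false

namespace Cfsg.Agent.Lib.Helper6.GG

open Cfsg Cfsg.Agent.Lib.Helper3.BN Cfsg.Agent.Lib.Helper3.WordLen Cfsg.Agent.Lib.Helper6.BNSt
open Cfsg.Agent.Lib.Helper6.CoxRed Cfsg.Agent.Lib.Helper27.GG

section general
variable {G : Type*} [Group G] (P : Cfsg.BNPair G)

/-- `|B n B| = |B : B ∩ n B n⁻¹| · |B|` -/
theorem card_dc_eq [Finite G] (n : G) :
    Nat.card (dc P n) = (BStab P n).index * Nat.card P.B := by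
  rw [Subgroup.index, ← Nat.card_prod]
  symm
  apply Nat.card_congr
  -- representatives of the cosets of `BStab n` in `B`
  let rep : (P.B ⧸ BStab P n) → P.B := fun q => Quotient.out q
  have hrep : ∀ q : P.B ⧸ BStab P n, (QuotientGroup.mk (rep q) : P.B ⧸ BStab P n) = q := fun q =>
    Quotient.out_eq' q
  have hmem : ∀ z : (P.B ⧸ BStab P n) × P.B, ((rep z.1 : P.B) : G) * n * (z.2 : G) ∈ dc P n := by
    intro z
    rw [mem_dc]
    exact ⟨_, (rep z.1).2, _, z.2.2, rfl⟩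
  refine Equiv.ofBijective (fun z => (⟨_, hmem z⟩ : dc P n)) ⟨?_, ?_⟩
  · rintro ⟨q1, b1⟩ ⟨q2, b2⟩ he
    have he' : ((rep q1 : P.B) : G) * n * (b1 : G) = ((rep q2 : P.B) : G) * n * (b2 : G) :=
      congrArg Subtype.val he
    have h1 : n⁻¹ * (((rep q2)⁻¹ * rep q1 : P.B) : G) * n = (b2 : G) * (b1 : G)⁻¹ := by
      have e1 : n⁻¹ * (((rep q2)⁻¹ * rep q1 : P.B) : G) * n
          = n⁻¹ * ((rep q2 : P.B) : G)⁻¹ * (((rep q1 : P.B) : G) * n * (b1 : G)) * (b1 : G)⁻¹ := by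
        rw [Subgroup.coe_mul, Subgroup.coe_inv]; group
      rw [e1, he']; group
    have h2 : (rep q2)⁻¹ * rep q1 ∈ BStab P n := by
      rw [mem_BStab, h1]
      exact P.B.mul_mem b2.2 (P.B.inv_mem b1.2)
    have h3 : q2 = q1 := by
      rw [← hrep q2, ← hrep q1]
      exact QuotientGroup.eq.mpr h2
    subst h3
    have h4 : (b1 : G) = (b2 : G) := by
      have := mul_left_cancel he'
      exact this
    exact Prod.ext rfl (Subtype.ext h4)
  · rintro ⟨g, hg⟩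
    rw [mem_dc] at hg
    obtain ⟨b, hb, b', hb', rfl⟩ := hg
    set q : P.B ⧸ BStab P n := QuotientGroup.mk (⟨b, hb⟩ : P.B) with hq
    have h1 : (rep q)⁻¹ * (⟨b, hb⟩ : P.B) ∈ BStab P n := by
      apply QuotientGroup.eq.mp
      rw [hrep q]
    rw [mem_BStab] at h1
    refine ⟨(q, ⟨n⁻¹ * (((rep q)⁻¹ * (⟨b, hb⟩ : P.B) : P.B) : G) * n * b', P.B.mul_mem h1 hb'⟩), ?_⟩
    apply Subtype.ext
    show ((rep q : P.B) : G) * n * (n⁻¹ * (((rep q)⁻¹ * (⟨b, hb⟩ : P.B) : P.B) : G) * n * b')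
      = b * n * b'
    rw [Subgroup.coe_mul, Subgroup.coe_inv]
    group

end general

section chev
open Cfsg.Lie Cfsg.Agent.Lib.Helper7 Cfsg.Agent.Lib.Helper6.ChevSt Cfsg.Agent.Lib.Helper6.ChevStX1
open Cfsg.Agent.Lib.Helper27.StCount

variable (D : ChevalleyDatum) (hD : D ∈ [chevG2, chevB2, chevD4, chevF4, chevE6, chevE7, chevE8])
variable (F : Type*) [Field F]
variable [Fintype F]
include hD

/-- **C9** -/
theorem chev_hcardU : Nat.card (Uc D F) =
    Fintype.card F ^ len (Sbar (chevBNPair D hD F))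
      (@w0 _ _ (chevBNPair D hD F) (finite_group D F)) := by
  have hfin := finite_group D F
  set P := chevBNPair D hD F with hP
  set n₀ := repW P (w0 P) with hn₀
  -- the big cell
  have h1 : Nat.card (C P (w0 P)) = Fintype.card F ^ len (Sbar P) (w0 P) * Nat.card P.B :=
    card_C P (Fintype.card F) (fun s hs => card_C_fund D hD F s hs) _ (w0 P) rfl
  have h2 : C P (w0 P) = dc P n₀ := by
    rw [← C_mk P (repW_mem P (w0 P)), mkW_repW]
  rw [h2, card_dc_eq P n₀] at h1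
  have hBpos : 0 < Nat.card P.B := Nat.card_pos
  have h3 : (BStab P n₀).index = Fintype.card F ^ len (Sbar P) (w0 P) :=
    Nat.eq_of_mul_eq_mul_right hBpos h1
  rw [← h3]
  -- the index of `H` in `B`
  have h4 := Subgroup.card_mul_index (BStab P n₀)
  have h5 : Nat.card (BStab P n₀) = Nat.card (P.B ⊓ P.N : Subgroup ↥(D.group F)) := by
    rw [hn₀, hP, BStab_w0 D hD F, ← B_inf_N D hD F]
    exact Nat.card_congr (Subgroup.subgroupOfEquivOfLe inf_le_left).toEquiv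
  have h6 : Nat.card P.B = Nat.card (Uc D F) * Nat.card (P.B ⊓ P.N : Subgroup ↥(D.group F)) :=
    card_B_eq P (Uc D F) (hUB D hD F) (hBUH D hD F) (hUH D hD F)
  rw [h5, h6] at h4
  have hHpos : 0 < Nat.card (P.B ⊓ P.N : Subgroup ↥(D.group F)) := Nat.card_pos
  have h7 : Nat.card (P.B ⊓ P.N : Subgroup ↥(D.group F)) * (BStab P n₀).index
      = Nat.card (P.B ⊓ P.N : Subgroup ↥(D.group F)) * Nat.card (Uc D F) := by
    rw [h4]; ring
  exact (Nat.eq_of_mul_eq_mul_left hHpos h7).symm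

end chev

end Cfsg.Agent.Lib.Helper6.GG
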