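import Mathlib
import Cfsg.Agent.Lib.Helper18.GlaubDefs

set_option autoImplicit false

/-!
Helper6: GLAUB market (S4359), leaf L3p (`lam_le_or`, the centre condition `l ≤ n ∨ 2 l ≤ t + n`).
-/

namespace Cfsg.Agent.Lib.Helper6.GLAUBL3P

open Cfsg Cfsg.Agent.Lib.Helper18.Sims3 Cfsg.Agent.Lib.Helper18.Glaub

variable {G : Type*} [Group G]

/-- the generators of a `PData` are nontrivial. -/
theorem x_ne_one {p : ℕ} (hp : p.Prime) {g : G} {x : ℕ → G} {t : ℕ}
    (h : PData p g x t) (h1 : 1 ≤ t) (i : ℕ) : x i ≠ 1 := by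
  intro hx
  have hc := h.card i i le_rfl (by omega)
  have : Hx x i i = ⊥ := by
    unfold Hx
    rw [Set.Icc_self, Set.image_singleton, hx, Subgroup.closure_singleton_one]
  rw [this, Subgroup.card_bot] at hc
  have := hp.two_le
  simp at hc
  omega

/-- LEAF L3p (the centre condition: `l ≤ n` or `2 l ≤ t + n`). -/
theorem lam_le_or [Finite G] {p : ℕ} (hp : p.Prime) {g : G} {x : ℕ → G} {t : ℕ}
    (h : PData p g x t) (h1 : 1 ≤ t) (n : ℕ)
    (hZ : ∀ z ∈ Hx x 0 (t - 1), (∀ j, j ≤ t + n - 1 → Commute z (x j)) → z = 1)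
    (l : ℕ) (hl1 : 1 ≤ l) (hlt : l ≤ t + n - 1) (hl : CommLt x l) :
    l ≤ n ∨ 2 * l ≤ t + n := by
  by_contra hcon
  rw [not_or, not_le, not_le] at hcon
  obtain ⟨hc1, hc2⟩ := hcon
  -- general commutation: |i - j| < l
  have hcomm : ∀ i j, i < j + l → j < i + l → Commute (x i) (x j) := by
    intro i j h1 h2
    rcases le_total i j with hij | hij
    · have := hl i (j - i) (by omega)
      rwa [show i + (j - i) = j by omega] at this
    · have := hl j (i - j) (by omega)
      rw [show j + (i - j) = i by omega] at this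
      exact this.symm
  have hz : x (t + n - l) ∈ Hx x 0 (t - 1) :=
    Subgroup.subset_closure ⟨t + n - l, ⟨Nat.zero_le _, by omega⟩, rfl⟩
  have := hZ _ hz (fun j hj => hcomm _ _ (by omega) (by omega))
  exact x_ne_one hp h h1 _ this

end Cfsg.Agent.Lib.Helper6.GLAUBL3P
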