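import Mathlib
import Cfsg.Agent.Lib.Helper18.GlaubDefs
import Cfsg.Agent.Lib.Helper5.SIMSL5

set_option autoImplicit false

/-!
Helper6: GLAUB market (S4359), leaf L5p (`le_sub_nu_p`, inequality `t + nu ≤ 2 l`), the prime-`p`
version of Helper5's `SIMSL5.le_sub_nu`.
-/

namespace Cfsg.Agent.Lib.Helper6.GLAUBL5P

open Cfsg Cfsg.Agent.Lib.Helper18.Sims3 Cfsg.Agent.Lib.Helper18.Glaub
open Cfsg.Agent.Lib.Helper5.SIMSL5 (commute_of_mem_Hx conj_cm_eq)

variable {G : Type*} [Group G]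

/-- iterated shift: `g^s x_i g^-s = x_(i+s)`. -/
theorem shift_pow_p {p : ℕ} {g : G} {x : ℕ → G} {t : ℕ} (h : PData p g x t) (s i : ℕ) :
    g ^ s * x i * (g ^ s)⁻¹ = x (i + s) := by
  induction s generalizing i with
  | zero => simp
  | succ s ih =>
    have e : g ^ (s + 1) * x i * (g ^ (s + 1))⁻¹ = g * (g ^ s * x i * (g ^ s)⁻¹) * g⁻¹ := by
      rw [pow_succ']; group
    rw [e, ih, h.shift]
    rfl

/-- conjugation by `g^s` shifts interval subgroups (one inclusion, elementwise). -/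
theorem conj_mem_Hx_p {p : ℕ} {g : G} {x : ℕ → G} {t : ℕ} (h : PData p g x t) (s a b : ℕ) {w : G}
    (hw : w ∈ Hx x a b) : g ^ s * w * (g ^ s)⁻¹ ∈ Hx x (a + s) (b + s) := by
  have key : Hx x a b ≤ (Hx x (a + s) (b + s)).comap (MulAut.conj (g ^ s)).toMonoidHom := by
    unfold Hx
    rw [Subgroup.closure_le]
    rintro _ ⟨j, hj, rfl⟩
    show (MulAut.conj (g ^ s)) (x j) ∈ Subgroup.closure (x '' Set.Icc (a + s) (b + s))
    rw [MulAut.conj_apply, shift_pow_p h]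
    exact Subgroup.subset_closure
      ⟨j + s, ⟨by have := hj.1; omega, by have := hj.2; omega⟩, rfl⟩
  exact key hw

/-- `H[a,b+1] = H[a,b] ⟨x_(b+1)⟩` when `x_(b+1)` centralizes `H[a,b]`. -/
theorem mem_Hx_succ_z {x : ℕ → G} {a b : ℕ}
    (hcomm : ∀ j, a ≤ j → j ≤ b → Commute (x j) (x (b + 1))) {w : G}
    (hw : w ∈ Hx x a (b + 1)) : ∃ r ∈ Hx x a b, ∃ k : ℤ, w = r * x (b + 1) ^ k := by
  have hC : ∀ r ∈ Hx x a b, ∀ k : ℤ, Commute r (x (b + 1) ^ k) :=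
    fun r hr k => (commute_of_mem_Hx hcomm hr).zpow_right k
  unfold Hx at hw
  induction hw using Subgroup.closure_induction with
  | mem y hy =>
    obtain ⟨j, hj, rfl⟩ := hy
    by_cases hjb : j ≤ b
    · exact ⟨x j, Subgroup.subset_closure ⟨j, ⟨hj.1, hjb⟩, rfl⟩, 0, by simp⟩
    · have : j = b + 1 := by have := hj.2; omega
      subst this
      exact ⟨1, one_mem _, 1, by simp⟩
  | one => exact ⟨1, one_mem _, 0, by simp⟩
  | mul y y' _ _ hy hy' =>
    obtain ⟨r1, h1, k1, rfl⟩ := hy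
    obtain ⟨r2, h2, k2, rfl⟩ := hy'
    refine ⟨r1 * r2, mul_mem h1 h2, k1 + k2, ?_⟩
    have c2 : x (b + 1) ^ k1 * r2 = r2 * x (b + 1) ^ k1 := (hC r2 h2 k1).eq.symm
    calc r1 * x (b + 1) ^ k1 * (r2 * x (b + 1) ^ k2)
        = r1 * (x (b + 1) ^ k1 * r2) * x (b + 1) ^ k2 := by group
      _ = r1 * (r2 * x (b + 1) ^ k1) * x (b + 1) ^ k2 := by rw [c2]
      _ = r1 * r2 * (x (b + 1) ^ k1 * x (b + 1) ^ k2) := by group
      _ = r1 * r2 * x (b + 1) ^ (k1 + k2) := by rw [zpow_add]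
  | inv y _ hy =>
    obtain ⟨r, h1, k, rfl⟩ := hy
    refine ⟨r⁻¹, inv_mem h1, -k, ?_⟩
    have c1 : x (b + 1) ^ (-k) * r⁻¹ = r⁻¹ * x (b + 1) ^ (-k) :=
      (hC r⁻¹ (inv_mem h1) (-k)).eq.symm
    rw [mul_inv_rev, ← zpow_neg, c1]

/-- an element of prime order is a power of each of its nontrivial powers. -/
theorem commute_of_commute_zpow {p : ℕ} (hp : p.Prime) {y z : G} (hz : z ^ p = 1) {b : ℤ}
    (hb : z ^ b ≠ 1) (hc : Commute y (z ^ b)) : Commute y z := by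
  have hnd : ¬ (p : ℤ) ∣ b := by
    rintro ⟨k, rfl⟩
    apply hb
    rw [zpow_mul, zpow_natCast, hz, one_zpow]
  have hcop : Int.gcd b p = 1 := by
    rw [Int.gcd_comm]
    have : ¬ p ∣ b.natAbs := fun hh => hnd (Int.natCast_dvd.mpr hh)
    have h2 := (Nat.Prime.coprime_iff_not_dvd hp).2 this
    simpa [Int.gcd] using h2
  have hbez := Int.gcd_eq_gcd_ab b p
  rw [hcop] at hbez
  have hz1 : z = (z ^ b) ^ (Int.gcdA b p) := by
    have e : z ^ (1 : ℤ) = z ^ (b * Int.gcdA b p + (p : ℤ) * Int.gcdB b p) := by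
      rw [← hbez]; simp
    rw [zpow_one, zpow_add, zpow_mul, zpow_mul, zpow_natCast, hz, one_zpow, mul_one] at e
    exact e
  rw [hz1]
  exact hc.zpow_right _

/-- LEAF L5p (inequality B': `t + nu ≤ 2 l`). -/
theorem le_sub_nu_p [Finite G] {p : ℕ} (hp : p.Prime) {g : G} {x : ℕ → G} {t : ℕ}
    (h : PData p g x t)
    (hpow : ∀ i, x i ^ p = 1)
    (hcm : ∀ i j, i < j → j < i + t → ∀ a b : ℤ, cm (x i ^ a) (x j ^ b) ∈ Hx x (i + 1) (j - 1))
    (l : ℕ) (hl2 : 2 ≤ l) (hlt : l + 1 ≤ t) (hl : CommLt x l) (hnc : ¬ Commute (x 0) (x l))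
    (nu : ℕ) (hnu1 : 1 ≤ nu) (hnu : nu + 1 ≤ l)
    (hc : cm (x 0) (x l) ∈ Hx x 1 nu) (hc' : cm (x 0) (x l) ∉ Hx x 1 (nu - 1)) :
    t + nu ≤ 2 * l := by
  by_contra hcon
  rw [not_le] at hcon
  obtain ⟨s, hs⟩ : ∃ s, s + nu = l := ⟨l - nu, by omega⟩
  have hs1 : 1 ≤ s := by omega
  have hsn : l + s < t := by omega
  -- general commutation: |i - j| < l
  have hcomm : ∀ i j, i < j + l → j < i + l → Commute (x i) (x j) := by
    intro i j h1 h2
    rcases le_total i j with hij | hij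
    · have := hl i (j - i) (by omega)
      rwa [show i + (j - i) = j by omega] at this
    · have := hl j (i - j) (by omega)
      rw [show j + (i - j) = i by omega] at this
      exact this.symm
  -- decomposition of c = r' x_nu^b
  have hc2 : cm (x 0) (x l) ∈ Hx x 1 (nu - 1 + 1) := by
    rwa [show nu - 1 + 1 = nu by omega]
  obtain ⟨r', hr', b, hcr⟩ := mem_Hx_succ_z
    (fun j hj1 hj2 => hcomm j (nu - 1 + 1) (by omega) (by omega)) hc2
  rw [show nu - 1 + 1 = nu by omega] at hcr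
  have hb1 : x nu ^ b ≠ 1 := by
    intro hb
    rw [hb, mul_one] at hcr
    exact hc' (hcr ▸ hr')
  -- the shifted commutator
  have e0 := shift_pow_p h s 0
  have e1 := shift_pow_p h s l
  have e2 := shift_pow_p h s nu
  rw [zero_add] at e0
  rw [show nu + s = l by omega] at e2
  have hcs : g ^ s * cm (x 0) (x l) * (g ^ s)⁻¹ = cm (x s) (x (l + s)) := by
    rw [← e0, ← e1]
    unfold cm
    group
  have hcsmem : cm (x s) (x (l + s)) ∈ Hx x (1 + s) (nu + s) := by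
    rw [← hcs]
    exact conj_mem_Hx_p h s 1 nu hc
  have hr'' : g ^ s * r' * (g ^ s)⁻¹ ∈ Hx x (1 + s) (nu - 1 + s) :=
    conj_mem_Hx_p h s 1 (nu - 1) hr'
  have e2b : g ^ s * x nu ^ b * (g ^ s)⁻¹ = x l ^ b := by
    rw [← e2]
    have := (MulAut.conj (g ^ s)).toMonoidHom.map_zpow (x nu) b
    simpa [MulAut.conj_apply] using this
  have hb2 : x l ^ b ≠ 1 := by
    intro hb
    rw [hb] at e2b
    apply hb1
    have : x nu ^ b = (g ^ s)⁻¹ * (g ^ s * x nu ^ b * (g ^ s)⁻¹) * g ^ s := by group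
    rw [this, e2b]; group
  have hcs2 : cm (x s) (x (l + s)) = g ^ s * r' * (g ^ s)⁻¹ * x l ^ b := by
    rw [← hcs, hcr, ← e2b]
    group
  -- d = [x_0, x_(l+s)]
  have hd : cm (x 0) (x (l + s)) ∈ Hx x (0 + 1) (l + s - 1) := by
    have := hcm 0 (l + s) (by omega) (by omega) 1 1
    simpa using this
  have hd_xs : Commute (cm (x 0) (x (l + s))) (x s) :=
    commute_of_mem_Hx (fun j hj1 hj2 => hcomm j s (by omega) (by omega)) hd
  have hd_cs : Commute (cm (x 0) (x (l + s))) (cm (x s) (x (l + s))) := by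
    refine (commute_of_mem_Hx (fun k hk1 hk2 => ?_) hcsmem).symm
    exact (commute_of_mem_Hx (fun j hj1 hj2 => hcomm j k (by omega) (by omega)) hd).symm
  have h0s : Commute (x 0) (x s) := hcomm 0 s (by omega) (by omega)
  have hconj : x 0 * x (l + s) * (x 0)⁻¹ = cm (x 0) (x (l + s)) * x (l + s) := by
    unfold cm; group
  have hx0cs := conj_cm_eq h0s hconj hd_xs hd_cs
  -- x_0 centralizes r''
  have h0r : Commute (x 0) (g ^ s * r' * (g ^ s)⁻¹) := by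
    refine (commute_of_mem_Hx (fun j hj1 hj2 => ?_) hr'').symm
    exact hcomm j 0 (by omega) (by omega)
  have hfin : x 0 * x l ^ b * (x 0)⁻¹ = x l ^ b := by
    have e : x 0 * (g ^ s * r' * (g ^ s)⁻¹ * x l ^ b) * (x 0)⁻¹
        = g ^ s * r' * (g ^ s)⁻¹ * (x 0 * x l ^ b * (x 0)⁻¹) := by
      have hh : x 0 * (g ^ s * r' * (g ^ s)⁻¹) = g ^ s * r' * (g ^ s)⁻¹ * x 0 := h0r.eq
      calc x 0 * (g ^ s * r' * (g ^ s)⁻¹ * x l ^ b) * (x 0)⁻¹
          = (x 0 * (g ^ s * r' * (g ^ s)⁻¹)) * x l ^ b * (x 0)⁻¹ := by group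
        _ = (g ^ s * r' * (g ^ s)⁻¹ * x 0) * x l ^ b * (x 0)⁻¹ := by rw [hh]
        _ = g ^ s * r' * (g ^ s)⁻¹ * (x 0 * x l ^ b * (x 0)⁻¹) := by group
    rw [hcs2, e] at hx0cs
    exact mul_left_cancel hx0cs
  have hcb : Commute (x 0) (x l ^ b) := mul_inv_eq_iff_eq_mul.mp hfin
  exact hnc (commute_of_commute_zpow hp (hpow l) hb2 hcb)

end Cfsg.Agent.Lib.Helper6.GLAUBL5P
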