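import Mathlib
import Cfsg.Agent.Lib.Helper5.TWS.Defs
import Cfsg.Agent.Lib.Helper8.TW.Defs
import Cfsg.Agent.Lib.Helper22.TWExtBasic
import Cfsg.Agent.Lib.Helper22.TWExtMore
import Cfsg.Agent.Lib.Helper26.TWFibA
import Cfsg.Agent.Lib.Helper12.TWIIBZ
import Cfsg.Agent.Lib.Helper17.TWUIIR1a
import Cfsg.Agent.Lib.Helper14.TWIIDefs
import Cfsg.Agent.Lib.Helper14.TWSIIDefs
import Cfsg.Agent.Lib.Helper18.TWSIIU567

/-!
S5668 (C7 symplectic; owner helper5) Stage II-B (the descent; sub-planner helper14), leaf R1 `R1S_pure` (helper6):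
the PURE commutator `[slot i τ, u]`, `τ = 1 + v v†`, `v ⊥ y`, `u ∈ U^W`.  Exact signature of `notes/S5668_II_leaves.lean`.
By-products (form-free): `InUS_mul6`, `InUS_inv6`, `InUS_conj_of_stab6`, `Wf_le_Cf6`, the transvection calculus `tv_*6`.
-/

set_option autoImplicit false
set_option linter.unusedSectionVars false
set_option linter.unusedVariables false

namespace Cfsg.Agent.Lib.Helper6.TWSIILeaf
open Matrix Cfsg.Geo Cfsg.Agent.Lib.Helper18.AschA89 Cfsg.Agent.Lib.Helper8.TW Cfsg.Agent.Lib.Helper5.TWS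
  Cfsg.Agent.Lib.Helper14.TWII Cfsg.Agent.Lib.Helper14.TWSII
open Cfsg.Agent.Lib.Helper25.SpT (sf Jm sfv)
open Cfsg.Agent.Lib.Helper22.TWLeaf
open Cfsg.Agent.Lib.Helper12.TWIIBLeaf (mv_mul' mv_sub mv_one mv_inv_mv mv_mv_inv)
open Cfsg.Agent.Lib.Helper17.TWUIILeaf (tens_add_right17 tens_sub_right17 tens_smul_right17 tens_smul_left17
  tens_zero_right17)

variable {F : Type*} [Field F] [Fintype F] {t k : ℕ}

/-! ### generic `mv` linearity -/

lemma mv_add6 {ι : Type} [Fintype ι] [DecidableEq ι] (g : GL ι F) (v w : ι → F) : mv g (v + w) = mv g v + mv g w := by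
  unfold mv
  rw [Matrix.mulVec_add]

lemma mv_smul6 {ι : Type} [Fintype ι] [DecidableEq ι] (g : GL ι F) (c : F) (v : ι → F) : mv g (c • v) = c • mv g v := by
  unfold mv
  rw [Matrix.mulVec_smul]

lemma mv_neg6 {ι : Type} [Fintype ι] [DecidableEq ι] (g : GL ι F) (v : ι → F) : mv g (-v) = - mv g v := by
  unfold mv
  rw [Matrix.mulVec_neg]

lemma mv_inv_eq6 {ι : Type} [Fintype ι] [DecidableEq ι] (g : GL ι F) (v w : ι → F) (h : mv g w = v) : mv g⁻¹ v = w := by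
  rw [← h, mv_inv_mv]

/-! ### `W ≤ C`, the group `U^W` (form-free) -/

lemma Wf_le_Cf6 (i : Fin t) (y : Fin k → F) : Wf i y ≤ Cf i (sfv y) := by
  unfold Wf Cf
  apply Cfsg.Agent.Lib.Helper26.TWLeaf.fib_mono
  intro a ha
  obtain ⟨c, rfl⟩ := Submodule.mem_span_singleton.1 ha
  rw [mem_kerF, dotProduct_smul, Cfsg.Agent.Lib.Helper25.SpT.sfv_dot, Cfsg.Agent.Lib.Helper25.SpT.sf_self, smul_zero]

theorem InUS_mul6 (i : Fin t) (y : Fin k → F) (u u' : GL (Idx t k) F) (hu : InUS i y u) (hu' : InUS i y u') :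
    InUS i y (u * u') := by
  obtain ⟨h1, h2, h3⟩ := hu
  obtain ⟨h1', h2', h3'⟩ := hu'
  refine ⟨?_, ?_, ?_⟩
  · intro x hx
    rw [mv_mul', h1' x hx, h1 x hx]
  · intro x hx
    have e : mv (u * u') x - x = (mv u (mv u' x) - mv u' x) + (mv u' x - x) := by
      rw [mv_mul']; abel
    rw [e]
    have hC : mv u' x ∈ Cf i (sfv y) := by
      have : mv u' x = x + (mv u' x - x) := by abel
      rw [this]
      exact Submodule.add_mem _ hx (Wf_le_Cf6 i y (h2' x hx))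
    exact Submodule.add_mem _ (h2 _ hC) (h2' x hx)
  · intro x
    have e : mv (u * u') x - x = (mv u (mv u' x) - mv u' x) + (mv u' x - x) := by
      rw [mv_mul']; abel
    rw [e]
    exact Submodule.add_mem _ (h3 _) (h3' x)

theorem InUS_inv6 (i : Fin t) (y : Fin k → F) (u : GL (Idx t k) F) (hu : InUS i y u) : InUS i y u⁻¹ := by
  obtain ⟨h1, h2, h3⟩ := hu
  have hW : ∀ x ∈ Wf i y, mv u⁻¹ x = x := fun x hx => mv_inv_eq6 u x x (h1 x hx)
  refine ⟨hW, ?_, ?_⟩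
  · intro x hx
    have hd := h2 x hx
    have e : mv u⁻¹ x - x = -(mv u x - x) := by
      have : mv u⁻¹ x = x - (mv u x - x) := by
        apply mv_inv_eq6
        rw [mv_sub, h1 _ hd]; abel
      rw [this]; abel
    rw [e]
    exact Submodule.neg_mem _ hd
  · intro x
    have hd := h3 x
    have hd' := h2 _ hd
    have e : mv u⁻¹ x - x = -((mv u x - x) - (mv u (mv u x - x) - (mv u x - x))) := by
      have : mv u⁻¹ x = x - ((mv u x - x) - (mv u (mv u x - x) - (mv u x - x))) := by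
        apply mv_inv_eq6
        rw [mv_sub, mv_sub, h1 _ hd']; abel
      rw [this]; abel
    rw [e]
    exact Submodule.neg_mem _ (Submodule.sub_mem _ hd (Wf_le_Cf6 i y hd'))

/-- conjugation by an element which (with its inverse) maps `W` to `W` and `C` to `C` -/
theorem InUS_conj_of_stab6 (i : Fin t) (y : Fin k → F) (a u : GL (Idx t k) F) (hu : InUS i y u)
    (haW : ∀ x ∈ Wf i y, mv a x ∈ Wf i y) (haW' : ∀ x ∈ Wf i y, mv a⁻¹ x ∈ Wf i y)
    (haC : ∀ x ∈ Cf i (sfv y), mv a x ∈ Cf i (sfv y)) (haC' : ∀ x ∈ Cf i (sfv y), mv a⁻¹ x ∈ Cf i (sfv y)) :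
    InUS i y (a * u * a⁻¹) := by
  obtain ⟨h1, h2, h3⟩ := hu
  have key : ∀ x, mv (a * u * a⁻¹) x - x = mv a (mv u (mv a⁻¹ x) - mv a⁻¹ x) := by
    intro x
    rw [mv_mul', mv_mul', mv_sub, mv_mv_inv]
  refine ⟨?_, ?_, ?_⟩
  · intro x hx
    rw [mv_mul', mv_mul', h1 _ (haW' x hx), mv_mv_inv]
  · intro x hx
    rw [key]
    exact haW _ (h2 _ (haC' x hx))
  · intro x
    rw [key]
    exact haC _ (h3 _)

/-! ### the transvection `τ = 1 + v v†` -/

lemma vmv_mulVec6 (s w a : Fin k → F) : Matrix.vecMulVec s (sfv w) *ᵥ a = sf a w • s := by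
  rw [Matrix.vecMulVec_mulVec, Cfsg.Agent.Lib.Helper25.SpT.sfv_dot, op_smul_eq_smul]

lemma vecMul_vmv6 (z s w : Fin k → F) : sfv z ᵥ* Matrix.vecMulVec s (sfv w) = sf s z • sfv w := by
  rw [Matrix.vecMul_vecMulVec, Cfsg.Agent.Lib.Helper25.SpT.sfv_dot]

lemma tv_mulVec6 (v : Fin k → F) (τ : GL (Fin k) F)
    (hτ : (τ : Matrix (Fin k) (Fin k) F) = 1 + Matrix.vecMulVec v (sfv v)) (w : Fin k → F) :
    (τ : Matrix (Fin k) (Fin k) F) *ᵥ w = w + sf w v • v := by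
  rw [hτ, Matrix.add_mulVec, Matrix.one_mulVec, vmv_mulVec6]

lemma tv_inv_mulVec6 (v : Fin k → F) (τ : GL (Fin k) F)
    (hτ : (τ : Matrix (Fin k) (Fin k) F) = 1 + Matrix.vecMulVec v (sfv v)) (w : Fin k → F) :
    ((τ⁻¹ : GL (Fin k) F) : Matrix (Fin k) (Fin k) F) *ᵥ w = w - sf w v • v := by
  have h : (τ : Matrix (Fin k) (Fin k) F) *ᵥ (w - sf w v • v) = w := by
    rw [tv_mulVec6 v τ hτ, Cfsg.Agent.Lib.Helper25.SpT.sf_sub_left, Cfsg.Agent.Lib.Helper25.SpT.sf_smul_left,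
      Cfsg.Agent.Lib.Helper25.SpT.sf_self, mul_zero, sub_zero]
    abel
  have h2 : ((τ⁻¹ : GL (Fin k) F) : Matrix (Fin k) (Fin k) F) *ᵥ ((τ : Matrix (Fin k) (Fin k) F) *ᵥ (w - sf w v • v)) =
      w - sf w v • v := by
    rw [Matrix.mulVec_mulVec, ← Units.val_mul, inv_mul_cancel, Units.val_one, Matrix.one_mulVec]
  rw [h] at h2
  exact h2

lemma vecMul_tv6 (y v : Fin k → F) (hvy : sf v y = 0) (τ : GL (Fin k) F)
    (hτ : (τ : Matrix (Fin k) (Fin k) F) = 1 + Matrix.vecMulVec v (sfv v)) :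
    sfv y ᵥ* (τ : Matrix (Fin k) (Fin k) F) = sfv y := by
  rw [hτ, Matrix.vecMul_add, Matrix.vecMul_one, vecMul_vmv6, hvy, zero_smul, add_zero]

lemma vecMul_tv_inv6 (y v : Fin k → F) (hvy : sf v y = 0) (τ : GL (Fin k) F)
    (hτ : (τ : Matrix (Fin k) (Fin k) F) = 1 + Matrix.vecMulVec v (sfv v)) :
    sfv y ᵥ* ((τ⁻¹ : GL (Fin k) F) : Matrix (Fin k) (Fin k) F) = sfv y := by
  have h := vecMul_tv6 y v hvy τ hτ
  have h2 : (sfv y ᵥ* (τ : Matrix (Fin k) (Fin k) F)) ᵥ* ((τ⁻¹ : GL (Fin k) F) : Matrix (Fin k) (Fin k) F) = sfv y := by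
    rw [Matrix.vecMul_vecMul, ← Units.val_mul, mul_inv_cancel, Units.val_one, Matrix.vecMul_one]
  rw [h] at h2
  exact h2

lemma mv_slotGL_tens6 (i : Fin (t + 1)) (α : GL (Fin k) F) (b : Idx t k → F) (a : Fin k → F) :
    mv (slotGL i α) (tens i b a) = tens i b ((α : Matrix (Fin k) (Fin k) F) *ᵥ a) := by
  unfold mv
  rw [slotGL_val, slot_mulVec_tens]

lemma mv_slotGL_inv_tens6 (i : Fin (t + 1)) (α : GL (Fin k) F) (b : Idx t k → F) (a : Fin k → F) :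
    mv (slotGL i α)⁻¹ (tens i b a) = tens i b (((α⁻¹ : GL (Fin k) F) : Matrix (Fin k) (Fin k) F) *ᵥ a) := by
  rw [← slotGL_inv, mv_slotGL_tens6]

/-- a slot element `slot i α` with `α y = y` fixes `W(i,y)` pointwise -/
lemma slotGL_fix_Wf6 (i : Fin (t + 1)) (y : Fin k → F) (hy0 : y ≠ 0) (α : GL (Fin k) F)
    (hα : (α : Matrix (Fin k) (Fin k) F) *ᵥ y = y) : ∀ x ∈ Wf i y, mv (slotGL i α) x = x := by
  intro x hx
  obtain ⟨b, rfl⟩ := (mem_Wf_iff_tens i y hy0 x).1 hx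
  rw [mv_slotGL_tens6, hα]

/-- a slot element `slot i α` with `y† α = y†` maps `C(i,y†)` into itself -/
lemma slotGL_stab_Cf6 (i : Fin (t + 1)) (y : Fin k → F) (α : GL (Fin k) F)
    (hα : sfv y ᵥ* (α : Matrix (Fin k) (Fin k) F) = sfv y) : ∀ x ∈ Cf i (sfv y), mv (slotGL i α) x ∈ Cf i (sfv y) := by
  intro x hx
  rw [mem_Cf_iff_ctr] at hx ⊢
  unfold mv
  rw [slotGL_val, ctr_slot_mulVec, hα, hx]

/-- R1 (M) the PURE commutator -/
theorem R1S_pure (i : Fin (t + 1)) (y v : Fin k → F) (hy0 : y ≠ 0) (hvy : sf v y = 0) (u : GL (Idx (t + 1) k) F) (hu : InUS i y u)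
    (τ : GL (Fin k) F) (hτ : (τ : Matrix (Fin k) (Fin k) F) = 1 + Matrix.vecMulVec v (sfv v))
    (ρ : Matrix (Idx t k) (Idx t k) F) (hρ : ∀ b : Idx t k → F, mv u (tens i b v) = tens i b v + tens i (ρ *ᵥ b) y) :
    InUS i y (slotGL i τ * u * (slotGL i τ)⁻¹ * u⁻¹) ∧
      ∀ w : Fin k → F, sf w y = 0 → ∀ b : Idx t k → F,
        mv (slotGL i τ * u * (slotGL i τ)⁻¹ * u⁻¹) (tens i b w) = tens i b w + sf w v • tens i ((-ρ) *ᵥ b) y := by
  have hyv : sf y v = 0 := by rw [Cfsg.Agent.Lib.Helper25.SpT.sf_skew, hvy, neg_zero]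
  have hτy : (τ : Matrix (Fin k) (Fin k) F) *ᵥ y = y := by
    rw [tv_mulVec6 v τ hτ, hyv, zero_smul, add_zero]
  have hτy' : ((τ⁻¹ : GL (Fin k) F) : Matrix (Fin k) (Fin k) F) *ᵥ y = y := by
    rw [tv_inv_mulVec6 v τ hτ, hyv, zero_smul, sub_zero]
  have hτv : (τ : Matrix (Fin k) (Fin k) F) *ᵥ v = v := by
    rw [tv_mulVec6 v τ hτ, Cfsg.Agent.Lib.Helper25.SpT.sf_self, zero_smul, add_zero]
  have haW := slotGL_fix_Wf6 i y hy0 τ hτy
  have haW' : ∀ x ∈ Wf i y, mv (slotGL i τ)⁻¹ x = x := by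
    intro x hx
    rw [← slotGL_inv]
    exact slotGL_fix_Wf6 i y hy0 τ⁻¹ hτy' x hx
  have haC := slotGL_stab_Cf6 i y τ (vecMul_tv6 y v hvy τ hτ)
  have haC' : ∀ x ∈ Cf i (sfv y), mv (slotGL i τ)⁻¹ x ∈ Cf i (sfv y) := by
    intro x hx
    rw [← slotGL_inv]
    exact slotGL_stab_Cf6 i y τ⁻¹ (vecMul_tv_inv6 y v hvy τ hτ) x hx
  refine ⟨?_, ?_⟩
  · apply InUS_mul6 i y _ _ _ (InUS_inv6 i y u hu)
    apply InUS_conj_of_stab6 i y _ u hu
    · intro x hx; rw [haW x hx]; exact hx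
    · intro x hx; rw [haW' x hx]; exact hx
    · exact haC
    · exact haC'
  · intro w hw b
    obtain ⟨ρw, hρw⟩ := Cfsg.Agent.Lib.Helper18.TWSIILeaf.InUS_R i y hy0 u hu w hw
    obtain ⟨h1, h2, h3⟩ := hu
    have hfixy : ∀ b' : Idx t k → F, mv u (tens i b' y) = tens i b' y := by
      intro b'
      apply h1
      exact (mem_Wf_iff_tens i y hy0 _).2 ⟨b', rfl⟩
    -- step 1
    have s1 : mv u⁻¹ (tens i b w) = tens i b w - tens i (ρw *ᵥ b) y := by
      apply mv_inv_eq6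
      rw [mv_sub, hρw, hfixy]; abel
    -- step 2
    have s2 : mv (slotGL i τ)⁻¹ (tens i b w - tens i (ρw *ᵥ b) y) =
        tens i b w - sf w v • tens i b v - tens i (ρw *ᵥ b) y := by
      rw [mv_sub, mv_slotGL_inv_tens6, mv_slotGL_inv_tens6, hτy', tv_inv_mulVec6 v τ hτ, tens_sub_right17,
        tens_smul_right17]
    -- step 3
    have s3 : mv u (tens i b w - sf w v • tens i b v - tens i (ρw *ᵥ b) y) =
        tens i b w - sf w v • tens i b v - sf w v • tens i (ρ *ᵥ b) y := by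
      rw [mv_sub, mv_sub, mv_smul6, hρw, hρ, hfixy, smul_add]; abel
    -- step 4
    have s4 : mv (slotGL i τ) (tens i b w - sf w v • tens i b v - sf w v • tens i (ρ *ᵥ b) y) =
        tens i b w - sf w v • tens i (ρ *ᵥ b) y := by
      rw [mv_sub, mv_sub, mv_smul6, mv_smul6, mv_slotGL_tens6, mv_slotGL_tens6, mv_slotGL_tens6, hτy, hτv,
        tv_mulVec6 v τ hτ, tens_add_right17, tens_smul_right17]
      abel
    rw [mv_mul', mv_mul', mv_mul', s1, s2, s3, s4, Matrix.neg_mulVec]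
    have : tens i (-(ρ *ᵥ b)) y = - tens i (ρ *ᵥ b) y := by
      have := tens_smul_left17 i (-1 : F) (ρ *ᵥ b) y
      rw [neg_one_smul, neg_one_smul] at this
      exact this
    rw [this, smul_neg]; abel

end Cfsg.Agent.Lib.Helper6.TWSIILeaf
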