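/-
helper6: leaf BRC-APX of helper24's Brauer-Reynolds core (`notes/S0999_leaves.lean`): `aP_triv`, `aP_A`, `aP_B`, `aP_Y`.
-/
import Mathlib
import Cfsg.Prelude.Def_BlockRank
import Cfsg.Prelude.Def_Perm
import Cfsg.Agent.Lib.Helper24.BRCDefs
import Cfsg.Agent.Lib.Helper6.BRCTools
import Cfsg.Agent.Lib.Helper23.BRHDEGM

set_option autoImplicit false
set_option linter.unusedSectionVars false

namespace Cfsg.Agent.Lib.Helper6.BRCAPX

open Cfsg Cfsg.Agent.Lib.Helper8.DOM Cfsg.Agent.Lib.Helper27.DO Cfsg.Agent.CharLib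
open Cfsg.Agent.Lib.Helper6.BRH Cfsg.Agent.Lib.Helper24.BRC
open Cfsg.Agent.Lib.Helper6.BRCTools
open scoped ComplexConjugate

universe u

variable {G : Type u} [Group G] [Finite G] {p : ℕ} [Fact p.Prime]

variable {P : Subgroup G} {n w : ℕ} {X Y : Set (IrrCharacter G)} {v : IrrCharacter G → ℤ} {ε : ℤ}

/-- **BRC-APX** (a). -/
theorem aP_triv (hS : Special p P n w X Y v ε) : aP P (trivIrr G) = 1 := by
  have hpp : p.Prime := Fact.out
  apply aP_eq_of
  rw [Cfsg.Agent.Lib.Helper23.BRHDEGM.finsum_subgroup_eq P hS.hP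
    ((trivIrr G : IrrCharacter G) : G → ℂ) 1 (fun g _ => rfl), hS.hP]
  have h2 : ((trivIrr G : IrrCharacter G) : G → ℂ) 1 = 1 := rfl
  rw [h2]
  push_cast
  ring

/-- **BRC-APX** (b). -/
theorem aP_A (hS : Special p P n w X Y v ε) : ∀ η ∈ typeA X v, aP P η = n + 1 := by
  rintro η ⟨hηX, hη1, hv⟩
  have d := hS.bx.b0
  apply aP_eq_of
  have hdeg : charDegree (η : G → ℂ) = 1 + n * p := by
    rcases hS.typ η hηX hη1 with ⟨-, h⟩ | ⟨h, -⟩
    · exact h
    · rw [hv] at h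
      omega
  rw [Cfsg.Agent.Lib.Helper23.BRHDEGM.finsum_subgroup_eq P hS.hP _ 1 (fun g hg => by
    rw [d.valX η hηX g hg, hv]
    norm_num), hS.hP, apply_one_eq, hdeg]
  push_cast
  ring

/-- **BRC-APX** (c). -/
theorem aP_B (hS : Special p P n w X Y v ε) : ∀ η ∈ typeB X v, aP P η = 0 := by
  rintro η ⟨hηX, hv⟩
  have hpp : p.Prime := Fact.out
  have d := hS.bx.b0
  apply aP_eq_of
  have hη1 : η ≠ trivIrr G := by
    rintro rfl
    rw [v_triv P hS.hP d] at hv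
    omega
  have hdeg : charDegree (η : G → ℂ) = p - 1 := by
    rcases hS.typ η hηX hη1 with ⟨h, -⟩ | ⟨-, h⟩
    · rw [hv] at h
      omega
    · exact h
  rw [Cfsg.Agent.Lib.Helper23.BRHDEGM.finsum_subgroup_eq P hS.hP _ (-1) (fun g hg => by
    rw [d.valX η hηX g hg, hv]
    norm_num), hS.hP, apply_one_eq, hdeg, Nat.cast_sub hpp.one_le]
  push_cast
  ring

/-- **BRC-APX** (d). -/
theorem aP_Y (hS : Special p P n w X Y v ε) : ∀ ψ ∈ Y, aP P ψ = w := by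
  intro ψ hψ
  have d := hS.bx.b0
  apply aP_eq_of
  rw [finsum_P_split, d.psumY ψ hψ, apply_one_eq, hS.hP]
  have h1 : ((charDegree (ψ : G → ℂ) : ℤ) : ℂ) =
      (((w : ℤ) * p + ε * ((Cz P).relIndex (Nz P) : ℤ) : ℤ) : ℂ) := by
    rw [hS.hw ψ hψ]
  push_cast at h1
  rw [h1]
  ring

end Cfsg.Agent.Lib.Helper6.BRCAPX
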