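import Mathlib
import Cfsg.Agent.Lib.Helper5.TWU.Defs
import Cfsg.Agent.Lib.Helper19.TWU3Defs
import Cfsg.Agent.Lib.Helper5.HermBridge
import Cfsg.Agent.Lib.Helper5.UForm
import Cfsg.Agent.Lib.Helper12.C3uF
import Cfsg.Agent.Lib.Helper23.TWUT

/-!
# S5672 (C7 unitary) — STAGE III (sub-planner helper19), leaves **U1** `exists_resolution`, **U2** `one_eq_sum`,
**T12** `exists_iso_ne_zero` (helper6), exact signatures of `notes/S5672_III_leaves.lean`.
-/

set_option autoImplicit false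
set_option linter.unusedSectionVars false
set_option linter.unusedVariables false

namespace Cfsg.Agent.Lib.Helper6.TWU3Leaf
open Matrix Cfsg.Geo Cfsg.Agent.Lib.Helper18.AschA89 Cfsg.Agent.Lib.Helper8.TW
open Cfsg.Agent.Lib.Helper5.TWU Cfsg.Agent.Lib.Helper19.TWU3
open Cfsg.Agent.Lib.Helper20.UT (hv)
open Cfsg.Agent.Lib.Helper5.HermBridge (frobQ frobQ_apply pow_q_pow_q)

variable {F : Type*} [Field F] [Fintype F] {t k q : ℕ}

theorem u12_frobQ_ne (hF : Fintype.card F = q ^ 2) : frobQ hF ≠ RingEquiv.refl F := by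
  obtain ⟨c, hc⟩ := Cfsg.Agent.Lib.Helper12.C3uLeaf.exists_pow_ne hF
  intro h
  apply hc
  have := congrArg (fun f : F ≃+* F => f c) h
  simpa [frobQ_apply] using this

theorem u12_frobQ_inv (hF : Fintype.card F = q ^ 2) (a : F) : frobQ hF (frobQ hF a) = a := by
  rw [frobQ_apply, frobQ_apply]
  exact pow_q_pow_q hF a

/-- an element of norm `-1` -/
theorem u12_exists_norm_neg_one (hF : Fintype.card F = q ^ 2) : ∃ ω₀ : F, ω₀ ^ (q + 1) = -1 := by
  have h1 : frobQ hF (-1 : F) = -1 := by rw [map_neg, map_one]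
  obtain ⟨z, hz⟩ := Cfsg.Agent.Lib.Helper5.UForm.norm_surj (u12_frobQ_inv hF) (u12_frobQ_ne hF)
    (-1 : F) (neg_ne_zero.mpr one_ne_zero) h1
  refine ⟨z, ?_⟩
  rw [pow_succ, mul_comm, ← frobQ_apply hF]
  exact hz

/-- U1 (M) -/
theorem exists_resolution (hF : Fintype.card F = q ^ 2) :
    ∃ (n : ℕ) (σ ω : Fin n → F), (∀ a, σ a ^ q = σ a) ∧ (∀ a, ω a ^ (q + 1) = -1) ∧ ∑ a, σ a = 1 ∧
      ∑ a, σ a * ω a = 0 := by
  by_cases h2 : (2 : F) = 0
  · -- characteristic two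
    have h11 : (-1 : F) = 1 := by linear_combination (-1 : F) * h2
    obtain ⟨θ, hθ⟩ := Cfsg.Agent.Lib.Helper12.C3uLeaf.exists_pow_ne hF
    have hθ0 : θ ≠ 0 := by
      rintro rfl
      apply hθ
      rw [← frobQ_apply hF, map_zero]
    obtain ⟨ω₀, hω₀def⟩ : ∃ ω₀ : F, ω₀ = θ ^ q / θ := ⟨_, rfl⟩
    have hω₀q : ω₀ ^ q = θ / θ ^ q := by
      rw [hω₀def, div_pow, pow_q_pow_q hF]
    have hθq0 : θ ^ q ≠ 0 := pow_ne_zero _ hθ0
    have hN : ω₀ * ω₀ ^ q = 1 := by
      rw [hω₀q, hω₀def]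
      field_simp
    have hω₀1 : ω₀ ≠ 1 := by
      rw [hω₀def]
      intro h
      apply hθ
      field_simp at h
      exact h
    obtain ⟨τ, hτdef⟩ : ∃ τ : F, τ = ω₀ + ω₀ ^ q := ⟨_, rfl⟩
    have hτq : τ ^ q = τ := by
      rw [hτdef, ← frobQ_apply hF, map_add, frobQ_apply, frobQ_apply, pow_q_pow_q hF, add_comm]
    have hτ0 : τ ≠ 0 := by
      intro h0
      rw [hτdef] at h0
      -- `ω₀^q = ω₀` in characteristic two, so `ω₀² = 1`
      have e1 : ω₀ ^ q = ω₀ := by linear_combination h0 - ω₀ * h2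
      have e2 : (ω₀ - 1) * (ω₀ - 1) = 0 := by
        rw [e1] at hN
        linear_combination hN + (1 - ω₀) * h2
      rcases mul_self_eq_zero.mp e2 with e3
      exact hω₀1 (sub_eq_zero.mp e3)
    have hNq1 : ω₀ ^ (q + 1) = 1 := by rw [pow_succ, mul_comm]; exact hN
    refine ⟨3, ![τ⁻¹, 1, τ⁻¹], ![1, ω₀, ω₀ ^ 2], ?_, ?_, ?_, ?_⟩
    · intro a
      fin_cases a
      · show (τ⁻¹) ^ q = τ⁻¹
        rw [inv_pow, hτq]
      · show (1 : F) ^ q = 1
        exact one_pow q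
      · show (τ⁻¹) ^ q = τ⁻¹
        rw [inv_pow, hτq]
    · intro a
      rw [h11]
      fin_cases a
      · show (1 : F) ^ (q + 1) = 1
        exact one_pow _
      · exact hNq1
      · show (ω₀ ^ 2) ^ (q + 1) = 1
        rw [← pow_mul, mul_comm, pow_mul, hNq1, one_pow]
    · rw [Fin.sum_univ_three]
      show τ⁻¹ + 1 + τ⁻¹ = 1
      linear_combination τ⁻¹ * h2
    · rw [Fin.sum_univ_three]
      show τ⁻¹ * 1 + 1 * ω₀ + τ⁻¹ * ω₀ ^ 2 = 0
      have e1 : τ * ω₀ = ω₀ ^ 2 + 1 := by rw [hτdef]; linear_combination hN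
      field_simp
      linear_combination e1 + (1 + ω₀ ^ 2) * h2
  · -- odd characteristic
    obtain ⟨ω₀, hω₀⟩ := u12_exists_norm_neg_one hF
    have h2q : (2 : F) ^ q = 2 := by rw [← frobQ_apply hF, map_ofNat]
    have hneg : (-ω₀) ^ (q + 1) = -1 := by
      rw [pow_succ, ← frobQ_apply hF, map_neg, frobQ_apply, neg_mul_neg, ← pow_succ]
      exact hω₀
    refine ⟨2, ![2⁻¹, 2⁻¹], ![ω₀, -ω₀], ?_, ?_, ?_, ?_⟩
    · intro a
      fin_cases a
      · show ((2 : F)⁻¹) ^ q = 2⁻¹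
        rw [inv_pow, h2q]
      · show ((2 : F)⁻¹) ^ q = 2⁻¹
        rw [inv_pow, h2q]
    · intro a
      fin_cases a
      · exact hω₀
      · exact hneg
    · rw [Fin.sum_univ_two]
      show (2 : F)⁻¹ + 2⁻¹ = 1
      field_simp
      norm_num
    · rw [Fin.sum_univ_two]
      show (2 : F)⁻¹ * ω₀ + 2⁻¹ * (-ω₀) = 0
      ring

theorem u12_q_ne_zero (hF : Fintype.card F = q ^ 2) : q ≠ 0 := by
  rintro rfl
  have h1 : 1 < Fintype.card F := Fintype.one_lt_card
  rw [hF] at h1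
  simp at h1

/-- `vv` of two linear combinations -/
theorem u12_vv_sum_sum {κ : Type} (hF : Fintype.card F = q ^ 2) {ι₁ ι₂ : Type} [Fintype ι₁]
    [Fintype ι₂] (c : ι₁ → F) (x : ι₁ → κ → F) (d : ι₂ → F) (w : ι₂ → κ → F) :
    vv q (∑ a, c a • x a) (∑ b, d b • w b) = ∑ a, ∑ b, (c a * d b ^ q) • vv q (x a) (w b) := by
  ext l r
  rw [vv_apply, Matrix.sum_apply]
  simp only [Matrix.sum_apply, Matrix.smul_apply, vv_apply, Finset.sum_apply, Pi.smul_apply,
    smul_eq_mul]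
  rw [← frobQ_apply hF, map_sum, Finset.sum_mul_sum]
  refine Finset.sum_congr rfl fun a _ => Finset.sum_congr rfl fun b _ => ?_
  rw [map_mul, frobQ_apply, frobQ_apply]
  ring

/-- U2 (M) RESOLUTION OF THE IDENTITY by isotropic rank-one operators -/
theorem one_eq_sum (hF : Fintype.card F = q ^ 2) (hk : 3 ≤ k) :
    ∃ (ι : Type) (_ : Fintype ι) (s : ι → F) (y y' : ι → Fin k → F), (∀ m, s m ^ q = s m) ∧
      (∀ m, y m ≠ 0 ∧ hv q (y m) (y m) = 0 ∧ y' m ≠ 0 ∧ hv q (y' m) (y' m) = 0 ∧ hv q (y' m) (y m) = 1) ∧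
      ∑ m, s m • vv q (y m) (y' m) = 1 ∧ ∑ m, s m • vv q (y' m) (y m) = 1 := by
  classical
  have hq0 : q ≠ 0 := u12_q_ne_zero hF
  obtain ⟨n, σ, ω, hσ, hω, hs1, hs0⟩ := exists_resolution hF
  have hpp : ∀ i : Fin k, ∃ p p' : Fin k, p ≠ i ∧ p' ≠ i ∧ p ≠ p' := by
    intro i
    have hcard : 1 < (Finset.univ.erase i : Finset (Fin k)).card := by
      rw [Finset.card_erase_of_mem (Finset.mem_univ i), Finset.card_univ, Fintype.card_fin]; omega
    rw [Finset.one_lt_card] at hcard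
    obtain ⟨a, ha, b, hb, hab⟩ := hcard
    exact ⟨a, b, (Finset.mem_erase.1 ha).1, (Finset.mem_erase.1 hb).1, hab⟩
  choose p p' hp hp' hpp' using hpp
  -- the vectors
  obtain ⟨Y, hY⟩ : ∃ Y : Fin k → Fin n → Fin k → F,
      ∀ i a, Y i a = Pi.single i 1 + ω a • Pi.single (p i) 1 := ⟨_, fun _ _ => rfl⟩
  obtain ⟨Y', hY'⟩ : ∃ Y' : Fin k → Fin n → Fin k → F,
      ∀ i b, Y' i b = Pi.single i 1 + ω b • Pi.single (p' i) 1 := ⟨_, fun _ _ => rfl⟩
  have hωq : ∀ a, ω a ^ q * ω a = -1 := by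
    intro a
    rw [← pow_succ]; exact hω a
  -- values of the form
  have hform : ∀ (x : Fin k → F) (i j : Fin k) (c : F),
      hv q x (Pi.single i 1 + c • Pi.single j 1) = x i + c ^ q * x j := by
    intro x i j c
    rw [Cfsg.Agent.Lib.Helper20.UT.hv_add_right hF, Cfsg.Agent.Lib.Helper20.UT.hv_smul_right,
      Cfsg.Agent.Lib.Helper23.TWUT.hv_single_right hq0, Cfsg.Agent.Lib.Helper23.TWUT.hv_single_right hq0]
  have hYi : ∀ i a, Y i a i = 1 := by
    intro i a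
    rw [hY, Pi.add_apply, Pi.smul_apply, Pi.single_eq_same, Pi.single_eq_of_ne (hp i).symm,
      smul_zero, add_zero]
  have hYp : ∀ i a, Y i a (p i) = ω a := by
    intro i a
    rw [hY, Pi.add_apply, Pi.smul_apply, Pi.single_eq_same, Pi.single_eq_of_ne (hp i),
      smul_eq_mul, mul_one, zero_add]
  have hYp' : ∀ i a, Y i a (p' i) = 0 := by
    intro i a
    rw [hY, Pi.add_apply, Pi.smul_apply, Pi.single_eq_of_ne (hp' i),
      Pi.single_eq_of_ne (hpp' i).symm, smul_zero, add_zero]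
  have hY'i : ∀ i b, Y' i b i = 1 := by
    intro i b
    rw [hY', Pi.add_apply, Pi.smul_apply, Pi.single_eq_same, Pi.single_eq_of_ne (hp' i).symm,
      smul_zero, add_zero]
  have hY'p' : ∀ i b, Y' i b (p' i) = ω b := by
    intro i b
    rw [hY', Pi.add_apply, Pi.smul_apply, Pi.single_eq_same, Pi.single_eq_of_ne (hp' i),
      smul_eq_mul, mul_one, zero_add]
  have hY'p : ∀ i b, Y' i b (p i) = 0 := by
    intro i b
    rw [hY', Pi.add_apply, Pi.smul_apply, Pi.single_eq_of_ne (hp i),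
      Pi.single_eq_of_ne (hpp' i), smul_zero, add_zero]
  -- the linear combinations
  have hsumY : ∀ i, ∑ a, σ a • Y i a = Pi.single i 1 := by
    intro i
    simp only [hY, smul_add, smul_smul]
    rw [Finset.sum_add_distrib, ← Finset.sum_smul, ← Finset.sum_smul, hs1, hs0, one_smul, zero_smul,
      add_zero]
  have hsumY' : ∀ i, ∑ b, σ b • Y' i b = Pi.single i 1 := by
    intro i
    simp only [hY', smul_add, smul_smul]
    rw [Finset.sum_add_distrib, ← Finset.sum_smul, ← Finset.sum_smul, hs1, hs0, one_smul, zero_smul,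
      add_zero]
  have hone : ∑ i : Fin k, vv q (Pi.single i (1 : F)) (Pi.single i (1 : F)) = 1 := by
    ext l r
    rw [Matrix.sum_apply]
    simp only [vv_apply]
    rw [Finset.sum_eq_single l]
    · rw [Pi.single_eq_same, one_mul, Matrix.one_apply]
      by_cases hlr : l = r
      · rw [if_pos hlr, hlr, Pi.single_eq_same, one_pow]
      · rw [if_neg hlr, Pi.single_eq_of_ne (Ne.symm hlr), zero_pow hq0]
    · intro i _ hil
      rw [Pi.single_eq_of_ne (Ne.symm hil), zero_mul]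
    · intro h; exact absurd (Finset.mem_univ l) h
  refine ⟨Fin k × Fin n × Fin n, inferInstance, fun m => σ m.2.1 * σ m.2.2,
    fun m => Y m.1 m.2.1, fun m => Y' m.1 m.2.2, ?_, ?_, ?_, ?_⟩
  · intro m
    show (σ m.2.1 * σ m.2.2) ^ q = σ m.2.1 * σ m.2.2
    rw [mul_pow, hσ, hσ]
  · intro m
    obtain ⟨i, a, b⟩ := m
    show Y i a ≠ 0 ∧ hv q (Y i a) (Y i a) = 0 ∧ Y' i b ≠ 0 ∧ hv q (Y' i b) (Y' i b) = 0 ∧
      hv q (Y' i b) (Y i a) = 1
    refine ⟨?_, ?_, ?_, ?_, ?_⟩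
    · intro h0
      have := hYi i a
      rw [h0] at this
      exact zero_ne_one this
    · rw [hY i a, hform, ← hY i a, hYi, hYp, hωq]; ring
    · intro h0
      have := hY'i i b
      rw [h0] at this
      exact zero_ne_one this
    · rw [hY' i b, hform, ← hY' i b, hY'i, hY'p', hωq]; ring
    · rw [hY i a, hform, hY'i, hY'p]; ring
  · show ∑ m : Fin k × Fin n × Fin n, (σ m.2.1 * σ m.2.2) • vv q (Y m.1 m.2.1) (Y' m.1 m.2.2) = 1
    rw [Fintype.sum_prod_type]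
    have : ∀ i : Fin k, ∑ m : Fin n × Fin n, (σ m.1 * σ m.2) • vv q (Y i m.1) (Y' i m.2) =
        vv q (Pi.single i (1 : F)) (Pi.single i (1 : F)) := by
      intro i
      have e : vv q (Pi.single i (1 : F)) (Pi.single i (1 : F)) =
          vv q (∑ a, σ a • Y i a) (∑ b, σ b • Y' i b) := by rw [hsumY, hsumY']
      rw [Fintype.sum_prod_type, e, u12_vv_sum_sum hF]
      refine Finset.sum_congr rfl fun a _ => Finset.sum_congr rfl fun b _ => ?_
      rw [hσ b]
    simp only [this]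
    exact hone
  · show ∑ m : Fin k × Fin n × Fin n, (σ m.2.1 * σ m.2.2) • vv q (Y' m.1 m.2.2) (Y m.1 m.2.1) = 1
    rw [Fintype.sum_prod_type]
    have : ∀ i : Fin k, ∑ m : Fin n × Fin n, (σ m.1 * σ m.2) • vv q (Y' i m.2) (Y i m.1) =
        vv q (Pi.single i (1 : F)) (Pi.single i (1 : F)) := by
      intro i
      have e : vv q (Pi.single i (1 : F)) (Pi.single i (1 : F)) =
          vv q (∑ b, σ b • Y' i b) (∑ a, σ a • Y i a) := by rw [hsumY, hsumY']
      rw [Fintype.sum_prod_type, Finset.sum_comm, e, u12_vv_sum_sum hF]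
      refine Finset.sum_congr rfl fun b _ => Finset.sum_congr rfl fun a _ => ?_
      rw [hσ a, mul_comm]
    simp only [this]
    exact hone

/-- T12 (S) -/
theorem exists_iso_ne_zero (hF : Fintype.card F = q ^ 2) (hk : 2 ≤ k) :
    ∃ x : Fin k → F, x ≠ 0 ∧ hv q x x = 0 := by
  classical
  have hq0 : q ≠ 0 := u12_q_ne_zero hF
  obtain ⟨ω₀, hω₀⟩ := u12_exists_norm_neg_one hF
  have h01 : (⟨0, by omega⟩ : Fin k) ≠ ⟨1, by omega⟩ := by
    intro h
    have := congrArg Fin.val h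
    simp at this
  refine ⟨Pi.single ⟨0, by omega⟩ 1 + ω₀ • Pi.single ⟨1, by omega⟩ 1, ?_, ?_⟩
  · intro h0
    have := congrFun h0 ⟨0, by omega⟩
    rw [Pi.add_apply, Pi.smul_apply, Pi.single_eq_same, Pi.single_eq_of_ne h01, smul_zero,
      add_zero, Pi.zero_apply] at this
    exact one_ne_zero this
  · rw [Cfsg.Agent.Lib.Helper20.UT.hv_add_right hF, Cfsg.Agent.Lib.Helper20.UT.hv_smul_right,
      Cfsg.Agent.Lib.Helper23.TWUT.hv_single_right hq0, Cfsg.Agent.Lib.Helper23.TWUT.hv_single_right hq0]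
    rw [Pi.add_apply, Pi.smul_apply, Pi.single_eq_same, Pi.single_eq_of_ne h01, smul_zero,
      add_zero, Pi.add_apply, Pi.smul_apply, Pi.single_eq_same, Pi.single_eq_of_ne h01.symm,
      smul_eq_mul, mul_one, zero_add, ← pow_succ, hω₀]
    ring

end Cfsg.Agent.Lib.Helper6.TWU3Leaf
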