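import Cfsg.Agent.Lib.Helper2.EQDefs
import Cfsg.Agent.Lib.Helper8.EQM8

/-!
# EQ leaves (R0): the averaging operator `eX` over a root group (planner: helper2, for S2344).
-/

set_option autoImplicit false
set_option linter.unusedSectionVars false

namespace Cfsg.Agent.Lib.Helper6.EQ

open Matrix Module Cfsg.Agent.Lib.Helper16.SLMin Cfsg.Agent.Lib.Helper16.SLMinSpine
  Cfsg.Agent.Lib.Helper2.EQ

section grp

variable {F : Type*} [Field F] {m : ℕ}

theorem X_of_eq {a b : Fin m} (h : a = b) (t : F) : X a b t = 1 := by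
  have h1 : ¬ a ≠ b := fun h' => h' h
  exact dif_neg h1

/-- additivity of the root elements (own copy of M1, used only in this folder) -/
theorem X_add_aux (a b : Fin m) (s t : F) : X a b (s + t) = X a b s * X a b t := by
  by_cases h : a = b
  · rw [X_of_eq h, X_of_eq h, X_of_eq h, one_mul]
  · apply Cfsg.Agent.Lib.Helper8.EQ.sl_ext_mulVec
    intro v
    rw [Cfsg.Agent.Lib.Helper8.EQ.mul_mulVec', Cfsg.Agent.Lib.Helper8.EQ.X_mulVec a b h,
      Cfsg.Agent.Lib.Helper8.EQ.X_mulVec a b h, Cfsg.Agent.Lib.Helper8.EQ.X_mulVec a b h]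
    funext i
    by_cases hi : i = a
    · subst hi
      simp [Function.update_apply, Ne.symm h]
      ring
    · simp [Function.update_apply, hi]

theorem X_zero_aux (a b : Fin m) : X a b (0 : F) = 1 := by
  by_cases h : a = b
  · rw [X_of_eq h]
  · apply Cfsg.Agent.Lib.Helper8.EQ.sl_ext_mulVec
    intro v
    rw [Cfsg.Agent.Lib.Helper8.EQ.X_mulVec a b h]
    simp

theorem X_neg_aux (a b : Fin m) (t : F) : X a b (-t) = (X a b t)⁻¹ := by
  rw [eq_inv_iff_mul_eq_one, ← X_add_aux, neg_add_cancel, X_zero_aux]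

end grp

section R

variable {F : Type*} [Field F] [Fintype F] [DecidableEq F] {M : Type*} [AddCommGroup M]
  [Module ℂ M] [FiniteDimensional ℂ M]

theorem card_ne_zero_aux : (Fintype.card F : ℂ) ≠ 0 := by
  exact_mod_cast Fintype.card_ne_zero

theorem eX_apply {m : ℕ} (ρ : Representation ℂ (SpecialLinearGroup (Fin m) F) M) (a b : Fin m)
    (x : M) : eX ρ a b x = ((Fintype.card F : ℂ)⁻¹) • ∑ t : F, ρ (X a b t) x := by
  unfold eX
  rw [LinearMap.smul_apply, LinearMap.sum_apply]

/-- R0a: `eX` lands in the fixed space of `X a b` -/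
theorem X_eX {m : ℕ} (ρ : Representation ℂ (SpecialLinearGroup (Fin m) F) M) (a b : Fin m)
    (t : F) (x : M) : ρ (X a b t) (eX ρ a b x) = eX ρ a b x := by
  rw [eX_apply, map_smul, map_sum]
  congr 1
  have h : ∀ s : F, ρ (X a b t) (ρ (X a b s) x) = ρ (X a b (t + s)) x := by
    intro s
    rw [X_add_aux, map_mul]
    rfl
  simp only [h]
  exact Fintype.sum_equiv (Equiv.addLeft t) _ _ (fun s => rfl)

/-- R0b: `eX` fixes the fixed vectors of `X a b` -/
theorem eX_of_fixed {m : ℕ} (ρ : Representation ℂ (SpecialLinearGroup (Fin m) F) M) (a b : Fin m)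
    (x : M) (hx : ∀ t : F, ρ (X a b t) x = x) : eX ρ a b x = x := by
  rw [eX_apply]
  simp only [hx]
  rw [Finset.sum_const, Finset.card_univ, ← Nat.cast_smul_eq_nsmul ℂ, smul_smul,
    inv_mul_cancel₀ card_ne_zero_aux, one_smul]

/-- R0c: an operator which normalises the root group `X a b` (acting by `t ↦ c t`, `c ≠ 0`)
commutes with `eX` -/
theorem eX_comm {m : ℕ} (ρ : Representation ℂ (SpecialLinearGroup (Fin m) F) M) (a b : Fin m)
    (D : M →ₗ[ℂ] M) (c : F) (hc : c ≠ 0) (hD : ∀ (t : F) (x : M), D (ρ (X a b t) x) = ρ (X a b (c * t)) (D x))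
    (x : M) : D (eX ρ a b x) = eX ρ a b (D x) := by
  rw [eX_apply, eX_apply, map_smul, map_sum]
  congr 1
  simp only [hD]
  exact Fintype.sum_equiv (Equiv.mulLeft₀ c hc) _ _ (fun s => rfl)

end R

end Cfsg.Agent.Lib.Helper6.EQ
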