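import Cfsg.Agent.Lib.Helper2.EQDefs
import Cfsg.Agent.Lib.Helper20.EQM1
import Cfsg.Agent.Lib.Helper20.EQM5
import Cfsg.Agent.Lib.Helper6.EQR0

/-!
# EQ leaves (STAB): stability of the fixed spaces `Cfix`, `Efix` (planner: helper2, for S2344).
-/

set_option autoImplicit false
set_option linter.unusedSectionVars false

namespace Cfsg.Agent.Lib.Helper6.EQ

open Matrix Module Cfsg.Agent.Lib.Helper16.SLMin Cfsg.Agent.Lib.Helper16.SLMinSpine
  Cfsg.Agent.Lib.Helper2.EQ

section R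

variable {F : Type*} [Field F] [Fintype F] [DecidableEq F] {M : Type*} [AddCommGroup M]
  [Module ℂ M] [FiniteDimensional ℂ M]

/-- the torus preserves every common fixed space of root groups -/
theorem dg_mem_Fx {m : ℕ} (ρ : Representation ℂ (SpecialLinearGroup (Fin m) F) M)
    (P : Fin m → Fin m → Prop) (t : Tor m F) {x : M} (hx : x ∈ Fx ρ P) : ρ (dg t) x ∈ Fx ρ P := by
  intro a b hab s
  -- `X a b s * dg t = dg t * X a b s'`
  have h := Cfsg.Agent.Lib.Helper20.EQ.dg_conj_X (t⁻¹) a b s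
  rw [map_inv, inv_inv] at h
  -- h : (dg t)⁻¹ * X a b s * dg t = X a b s'
  have h2 : X a b s * dg t = dg t * ((dg t)⁻¹ * X a b s * dg t) := by group
  have h3 : ρ (X a b s) (ρ (dg t) x) = ρ (X a b s * dg t) x := by
    rw [map_mul]; rfl
  rw [h3, h2, h, map_mul]
  show ρ (dg t) (ρ (X a b _) x) = _
  rw [hx a b hab]

variable {N : ℕ}

/-- STAB1 -/
theorem dg_mem_Cfix (ρ : Representation ℂ (SpecialLinearGroup (Fin (N + 1)) F) M)
    (t : Tor (N + 1) F) {x : M} (hx : x ∈ Cfix ρ) : ρ (dg t) x ∈ Cfix ρ :=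
  dg_mem_Fx ρ _ t hx

/-- STAB2 -/
theorem dg_mem_Efix (ρ : Representation ℂ (SpecialLinearGroup (Fin (N + 1)) F) M) (i : Fin N)
    (t : Tor (N + 1) F) {x : M} (hx : x ∈ Efix ρ i) : ρ (dg t) x ∈ Efix ρ i :=
  dg_mem_Fx ρ _ t hx

theorem rho_mul_apply {m : ℕ} (ρ : Representation ℂ (SpecialLinearGroup (Fin m) F) M)
    (g h : SpecialLinearGroup (Fin m) F) (x : M) : ρ (g * h) x = ρ g (ρ h x) := by
  rw [map_mul]; rfl

/-- if `X a b` and `X c d` commute and `x` is fixed by `X a b`, so is `ρ (X c d t) x` -/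
theorem fixed_of_comm {m : ℕ} (ρ : Representation ℂ (SpecialLinearGroup (Fin m) F) M)
    (a b c d : Fin m) (hbc : b ≠ c) (had : a ≠ d) (s t : F) {x : M}
    (hx : ρ (X a b s) x = x) : ρ (X a b s) (ρ (X c d t) x) = ρ (X c d t) x := by
  rw [← rho_mul_apply, Cfsg.Agent.Lib.Helper20.EQ.X_comm a b c d hbc had s t, rho_mul_apply, hx]

/-- STAB3 -/
theorem X_mem_Efix (ρ : Representation ℂ (SpecialLinearGroup (Fin (N + 1)) F) M) (i : Fin N)
    (t : F) {x : M} (hx : x ∈ Efix ρ i) : ρ (X i.castSucc i.succ t) x ∈ Efix ρ i := by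
  intro a b hab s
  obtain ⟨hlt, hne⟩ := hab
  have hi : i.castSucc < i.succ := Fin.castSucc_lt_succ
  by_cases hb : b = i.castSucc
  · -- `a < b = i`
    subst hb
    have hai : a ≠ i.castSucc := ne_of_lt hlt
    have hai1 : a ≠ i.succ := ne_of_lt (lt_trans hlt hi)
    have hrel := Cfsg.Agent.Lib.Helper20.EQ.X_comm_rel a i.castSucc i.succ hai (ne_of_lt hi) hai1 s t
    rw [← rho_mul_apply, hrel, rho_mul_apply, rho_mul_apply, hx a i.castSucc ⟨hlt, fun h => hai h.1⟩ s]
    -- `X a (i+1)` commutes with `X i (i+1)` and fixes `x`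
    refine fixed_of_comm ρ a i.succ i.castSucc i.succ (ne_of_gt hi) hai1 (s * t) t ?_
    exact hx a i.succ ⟨lt_trans hlt hi, fun h => hai h.1⟩ (s * t)
  · by_cases ha : a = i.succ
    · -- `i + 1 = a < b`
      subst ha
      have hbi : i.castSucc ≠ b := ne_of_lt (lt_trans hi hlt)
      have hbi1 : i.succ ≠ b := ne_of_lt hlt
      have hrel := Cfsg.Agent.Lib.Helper20.EQ.X_comm_rel i.castSucc i.succ b (ne_of_lt hi) hbi1 hbi t s
      -- X i (i+1) t * X (i+1) b s = X i b (t s) * X (i+1) b s * X i (i+1) t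
      have hrel2 : X i.succ b s * X i.castSucc i.succ t =
          X i.castSucc b (-(t * s)) * X i.castSucc i.succ t * X i.succ b s := by
        rw [X_neg_aux, mul_assoc, hrel]
        group
      rw [← rho_mul_apply, hrel2, rho_mul_apply, rho_mul_apply,
        hx i.succ b ⟨hlt, fun h => (ne_of_lt hi) h.1.symm⟩ s]
      refine fixed_of_comm ρ i.castSucc b i.castSucc i.succ (Ne.symm hbi) (ne_of_lt hi) _ t ?_
      exact hx i.castSucc b ⟨lt_trans hi hlt, fun h => hbi1 h.2.symm⟩ _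
    · -- the root groups commute
      exact fixed_of_comm ρ a b i.castSucc i.succ hb ha s t (hx a b ⟨hlt, hne⟩ s)

/-- STAB4 -/
theorem Xlow_mem_Efix (ρ : Representation ℂ (SpecialLinearGroup (Fin (N + 1)) F) M) (i : Fin N)
    (t : F) {x : M} (hx : x ∈ Efix ρ i) : ρ (X i.succ i.castSucc t) x ∈ Efix ρ i := by
  intro a b hab s
  obtain ⟨hlt, hne⟩ := hab
  have hi : i.castSucc < i.succ := Fin.castSucc_lt_succ
  have hle : ∀ c : Fin (N + 1), c < i.succ → c ≤ i.castSucc := by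
    intro c hc
    rw [Fin.lt_def] at hc
    rw [Fin.le_def]
    simp only [Fin.val_succ, Fin.val_castSucc] at hc ⊢
    omega
  have hge : ∀ c : Fin (N + 1), i.castSucc < c → i.succ ≤ c := by
    intro c hc
    rw [Fin.lt_def] at hc
    rw [Fin.le_def]
    simp only [Fin.val_succ, Fin.val_castSucc] at hc ⊢
    omega
  by_cases hb : b = i.succ
  · -- `a < b = i + 1`, `a ≠ i`, hence `a < i`
    subst hb
    have hai : a ≠ i.castSucc := fun h => hne ⟨h, rfl⟩
    have hai' : a < i.castSucc := lt_of_le_of_ne (hle a hlt) hai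
    have hai1 : a ≠ i.succ := ne_of_lt hlt
    have hrel := Cfsg.Agent.Lib.Helper20.EQ.X_comm_rel a i.succ i.castSucc hai1 (ne_of_gt hi) hai s t
    rw [← rho_mul_apply, hrel, rho_mul_apply, rho_mul_apply, hx a i.succ ⟨hlt, hne⟩ s]
    refine fixed_of_comm ρ a i.castSucc i.succ i.castSucc (ne_of_lt hi) hai (s * t) t ?_
    exact hx a i.castSucc ⟨hai', fun h => hai h.1⟩ (s * t)
  · by_cases ha : a = i.castSucc
    · -- `i = a < b`, `b ≠ i + 1`, hence `i + 1 < b`
      subst ha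
      have hb' : i.succ < b := lt_of_le_of_ne (hge b hlt) (Ne.symm hb)
      have hbi : i.castSucc ≠ b := ne_of_lt hlt
      have hrel := Cfsg.Agent.Lib.Helper20.EQ.X_comm_rel i.succ i.castSucc b (ne_of_gt hi) hbi
        (ne_of_lt hb') t s
      -- X (i+1) i t * X i b s = X (i+1) b (t s) * X i b s * X (i+1) i t
      have hrel2 : X i.castSucc b s * X i.succ i.castSucc t =
          X i.succ b (-(t * s)) * X i.succ i.castSucc t * X i.castSucc b s := by
        rw [X_neg_aux, mul_assoc, hrel]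
        group
      rw [← rho_mul_apply, hrel2, rho_mul_apply, rho_mul_apply, hx i.castSucc b ⟨hlt, hne⟩ s]
      refine fixed_of_comm ρ i.succ b i.succ i.castSucc (Ne.symm (ne_of_lt hb')) (ne_of_gt hi) _ t ?_
      exact hx i.succ b ⟨hb', fun h => (ne_of_gt hi) h.1⟩ _
    · exact fixed_of_comm ρ a b i.succ i.castSucc hb ha s t (hx a b ⟨hlt, hne⟩ s)

/-- STAB5 -/
theorem sd_mem_Efix (ρ : Representation ℂ (SpecialLinearGroup (Fin (N + 1)) F) M) (i : Fin N)
    {x : M} (hx : x ∈ Efix ρ i) : ρ (sd i.castSucc i.succ) x ∈ Efix ρ i := by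
  unfold sd
  rw [rho_mul_apply, rho_mul_apply]
  exact X_mem_Efix ρ i 1 (Xlow_mem_Efix ρ i (-1) (X_mem_Efix ρ i 1 hx))

/-- STAB6 -/
theorem Cfix_eq (ρ : Representation ℂ (SpecialLinearGroup (Fin (N + 1)) F) M) (i : Fin N) :
    Cfix ρ = Efix ρ i ⊓ Fx ρ (fun a b => a = i.castSucc ∧ b = i.succ) := by
  ext x
  constructor
  · intro hx
    refine ⟨fun a b hab s => hx a b hab.1 s, fun a b hab s => ?_⟩
    obtain ⟨rfl, rfl⟩ := hab
    exact hx _ _ Fin.castSucc_lt_succ s
  · rintro ⟨h1, h2⟩ a b hab s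
    by_cases h : a = i.castSucc ∧ b = i.succ
    · exact h2 a b h s
    · exact h1 a b ⟨hab, h⟩ s

end R

end Cfsg.Agent.Lib.Helper6.EQ
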