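import Cfsg.Agent.Lib.Helper2.EQDefs
import Cfsg.Agent.Lib.Helper20.EQM1
import Cfsg.Agent.Lib.Helper20.EQM5
import Cfsg.Agent.Lib.Helper6.EQR0
import Cfsg.Agent.Lib.Helper6.EQStab

/-!
# EQ leaves (R1), (R2): the Hecke operator `Ti` on `Cfix` and on torus weight spaces
(planner: helper2, for S2344).
-/

set_option autoImplicit false
set_option linter.unusedSectionVars false

namespace Cfsg.Agent.Lib.Helper6.EQ

open Matrix Module Cfsg.Agent.Lib.Helper16.SLMin Cfsg.Agent.Lib.Helper16.SLMinSpine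
  Cfsg.Agent.Lib.Helper2.EQ

section R

variable {F : Type*} [Field F] [Fintype F] [DecidableEq F] {M : Type*} [AddCommGroup M]
  [Module ℂ M] [FiniteDimensional ℂ M] {N : ℕ}

theorem Ti_apply (ρ : Representation ℂ (SpecialLinearGroup (Fin (N + 1)) F) M) (i : Fin N)
    (x : M) : Ti ρ i x = eX ρ i.castSucc i.succ (ρ (sd i.castSucc i.succ) x) := rfl

/-- `eX` at the simple root `i` preserves `Efix ρ i` -/
theorem eX_mem_Efix (ρ : Representation ℂ (SpecialLinearGroup (Fin (N + 1)) F) M) (i : Fin N)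
    {x : M} (hx : x ∈ Efix ρ i) : eX ρ i.castSucc i.succ x ∈ Efix ρ i := by
  rw [eX_apply]
  refine Submodule.smul_mem _ _ (Submodule.sum_mem _ (fun t _ => ?_))
  exact X_mem_Efix ρ i t hx

/-- R1: the Hecke operator preserves `C_M(U)` -/
theorem Ti_mem_Cfix (ρ : Representation ℂ (SpecialLinearGroup (Fin (N + 1)) F) M) (i : Fin N)
    {x : M} (hx : x ∈ Cfix ρ) : Ti ρ i x ∈ Cfix ρ := by
  have hxE : x ∈ Efix ρ i := by
    rw [Cfix_eq ρ i] at hx
    exact hx.1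
  rw [Cfix_eq ρ i, Ti_apply]
  refine ⟨eX_mem_Efix ρ i (sd_mem_Efix ρ i hxE), fun a b hab s => ?_⟩
  obtain ⟨rfl, rfl⟩ := hab
  exact X_eX ρ _ _ s _

/-- R2: the Hecke operator moves the torus weight `θ` to `s_i θ` -/
theorem Ti_mem_wtT (ρ : Representation ℂ (SpecialLinearGroup (Fin (N + 1)) F) M) (i : Fin N)
    (θ : Tor (N + 1) F →* ℂˣ) {x : M} (hx : x ∈ wtT ρ θ) :
    Ti ρ i x ∈ wtT ρ (θ.comp (permTor (Equiv.swap i.castSucc i.succ)).toMonoidHom) := by
  intro t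
  have hi : i.castSucc ≠ i.succ := ne_of_lt Fin.castSucc_lt_succ
  rw [Ti_apply]
  -- commute `ρ (dg t)` past `eX`
  have hc0 : ((((t : Fin (N + 1) → Fˣ) i.castSucc : Fˣ) : F) *
      ((((t : Fin (N + 1) → Fˣ) i.succ)⁻¹ : Fˣ) : F)) ≠ 0 :=
    mul_ne_zero (Units.ne_zero _) (Units.ne_zero _)
  have hD : ∀ (s : F) (y : M), ρ (dg t) (ρ (X i.castSucc i.succ s) y) =
      ρ (X i.castSucc i.succ (((((t : Fin (N + 1) → Fˣ) i.castSucc : Fˣ) : F) *
        ((((t : Fin (N + 1) → Fˣ) i.succ)⁻¹ : Fˣ) : F)) * s)) (ρ (dg t) y) := by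
    intro s y
    have h := Cfsg.Agent.Lib.Helper20.EQ.dg_conj_X t i.castSucc i.succ s
    have h2 : dg t * X i.castSucc i.succ s =
        (dg t * X i.castSucc i.succ s * (dg t)⁻¹) * dg t := by group
    rw [← rho_mul_apply, h2, h, rho_mul_apply]
  rw [eX_comm ρ i.castSucc i.succ (ρ (dg t)) _ hc0 hD]
  -- move `dg t` past the Weyl element
  have h3 : dg t * sd i.castSucc i.succ =
      sd i.castSucc i.succ * ((sd i.castSucc i.succ)⁻¹ * dg t * sd i.castSucc i.succ) := by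
    group
  rw [← rho_mul_apply, h3, Cfsg.Agent.Lib.Helper20.EQ.sd_conj_dg i.castSucc i.succ hi t,
    rho_mul_apply, hx (permTor (Equiv.swap i.castSucc i.succ) t), map_smul, map_smul]
  rfl

end R

end Cfsg.Agent.Lib.Helper6.EQ
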