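/-
helper6: S4642 leaf (PPOW).  `K ≤ L`, `L / K` a `p`-group, `K` a `p'`-group normalized by `L`,
`θ ∈ Irr(K)` invariant in `L`: the characters of `L` over `θ` form a block of `L` of full defect.
-/
import Mathlib
import Cfsg.Prelude.Def_BrauerPairs
import Cfsg.Agent.Lib.Helper2.FongPTDefs
import Cfsg.Agent.Lib.Helper6.KnoerrGen
import Cfsg.Agent.Lib.Helper6.Fong
import Cfsg.Agent.Lib.Helper6.FongGen
import Cfsg.Agent.Lib.Helper6.MinMax
import Cfsg.Agent.Lib.Helper17.BlkDefZero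
import Cfsg.Agent.Lib.Helper23.PairIndA
import Cfsg.Agent.Lib.Helper23.PairIndB
import Cfsg.Agent.Lib.Helper24.MaxPair

set_option autoImplicit false
set_option linter.style.haveILetI false

namespace Cfsg.Agent.Lib.Helper6.FPTPPOW

open Cfsg Cfsg.Agent.CharLib Cfsg.Agent.Lib.Helper24 Cfsg.Agent.Lib.Helper23
  Cfsg.Agent.Lib.Helper6 Cfsg.Agent.Lib.Helper2.FongPT
open scoped ComplexConjugate

universe u

variable {G : Type u} [Group G] [Fintype G] {p : ℕ} [hpp : Fact p.Prime] {M : Ideal AlgInt}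

/-- Transport of `classInner` along an isomorphism. -/
theorem classInner_comp_mulEquiv {A B : Type u} [Group A] [Group B] [Fintype A] [Fintype B]
    (e : A ≃* B) (f g : B → ℂ) :
    classInner (fun a : A => f (e a)) (fun a : A => g (e a)) = classInner f g := by
  unfold classInner
  rw [Nat.card_congr e.toEquiv]
  congr 1
  exact Fintype.sum_equiv e.toEquiv _ _ (fun a => rfl)

theorem ppow_block (hM : IsPModular p M) (K L : Subgroup G) (hKL : K ≤ L) [Fintype K]
    (hKn : ∀ l ∈ L, ∀ k ∈ K, l * k * l⁻¹ ∈ K)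
    (hKp : ¬ p ∣ Nat.card K) (hLK : ∃ a : ℕ, K.relIndex L = p ^ a) (θ : IrrCharacter K)
    (hθ : ∀ g ∈ L, IsConjCharOf K g (θ : K → ℂ) (θ : K → ℂ)) :
    IsPBlock M (irrOverIn K L hKL (θ : K → ℂ)) ∧
      blockDefect p (irrOverIn K L hKL (θ : K → ℂ)) = (Nat.card L).factorization p := by
  classical
  have hprime : M.IsPrime := isPrime_of_isPModular hM
  letI : Fintype L := Fintype.ofFinite L
  -- the normal subgroup of `L`
  set N : Subgroup L := K.subgroupOf L with hNdef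
  haveI hNn : N.Normal := by
    refine ⟨fun n hn g => ?_⟩
    rw [hNdef, Subgroup.mem_subgroupOf] at hn ⊢
    exact hKn g g.2 n hn
  letI : Fintype N := Fintype.ofFinite N
  have hidx : ∃ k : ℕ, N.index = p ^ k := hLK
  let κ : N ≃* K := Subgroup.subgroupOfEquivOfLe hKL
  have hκ : ∀ n : N, ((κ n : K) : G) = ((n : L) : G) := fun n => rfl
  set θ' : IrrCharacter N := irrCompIso κ θ with hθ'
  have hθ'app : ∀ n : N, (θ' : N → ℂ) n = (θ : K → ℂ) (κ n) := fun n => rfl
  -- `θ'` has defect zero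
  have hcardN : Nat.card N = Nat.card K := Nat.card_congr κ.toEquiv
  have hdz : Cfsg.Agent.Lib.Helper17.BlkDefZero.IsDefZero p θ' := by
    unfold Cfsg.Agent.Lib.Helper17.BlkDefZero.IsDefZero
    rw [hcardN, Nat.factorization_eq_zero_of_not_dvd hKp]
    exact Nat.zero_le _
  have hbeq : blockOf M (θ' : N → ℂ) = {θ'} :=
    Cfsg.Agent.Lib.Helper17.BlkDefZero.blockOf_eq_singleton_of_isDefZero p M hM θ' hdz
  set b : Set (IrrCharacter N) := {θ'} with hbdef
  have hb : IsPBlock M b := ⟨θ', hbeq.symm⟩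
  -- invariance of `θ'`
  have hconj : ∀ g : L, conjFun N g (θ' : N → ℂ) = (θ' : N → ℂ) := by
    intro g
    funext n
    rw [conjFun_apply, hθ'app, hθ'app]
    have h1 := hθ (g : G) g.2 (κ n) (κ ⟨g * n * g⁻¹, hNn.conj_mem n n.2 g⟩) (by
      rw [hκ, hκ]
      rfl)
    exact h1
  have hcu : conjUnion N b = b := by
    apply Fong.conjUnion_eq_of_inv
    intro g ψ hψ ψ' h
    rw [hbdef, Set.mem_singleton_iff] at hψ ⊢
    apply Subtype.ext
    funext n
    rw [h n, hψ]
    have := congrFun (hconj g) n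
    rw [conjFun_apply] at this
    exact this
  -- membership in `irrOverIn` in terms of `N`
  have hmem : ∀ ψ : IrrCharacter L, ψ ∈ irrOverIn K L hKL (θ : K → ℂ) ↔
      ψ ∈ Fong.coverSet N b := by
    intro ψ
    have key : classInner (fun n : N => (ψ : L → ℂ) n) (θ' : N → ℂ) =
        classInner (fun k : K => (ψ : L → ℂ) ⟨(k : G), hKL k.2⟩) (θ : K → ℂ) := by
      have h1 := classInner_comp_mulEquiv κ (fun k : K => (ψ : L → ℂ) ⟨(k : G), hKL k.2⟩)
        (θ : K → ℂ)
      rw [← h1]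
      rfl
    constructor
    · intro h
      refine ⟨θ', rfl, ?_⟩
      rw [key]
      exact h
    · rintro ⟨θ'', hθ'', h⟩
      rw [hbdef, Set.mem_singleton_iff] at hθ''
      rw [hθ'', key] at h
      exact h
  -- the unique covering block
  obtain ⟨B₀, ⟨hB₀, χ₀, hχ₀, θ₀, hθ₀, hcov₀⟩, huniq⟩ := existsUnique_covering_block N p hM hidx b hb
  have hSB : irrOverIn K L hKL (θ : K → ℂ) = B₀ := by
    ext ψ
    rw [hmem]
    constructor
    · rintro ⟨θ'', hθ'', h⟩
      have h1 : blockOf M (ψ : L → ℂ) = B₀ :=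
        huniq _ ⟨⟨ψ, rfl⟩, ψ, mem_blockOf_self ψ, θ'', hθ'', h⟩
      rw [← h1]
      exact mem_blockOf_self ψ
    · intro hψ
      have hχ₀c : χ₀ ∈ Fong.coverSet N b := ⟨θ₀, hθ₀, hcov₀⟩
      obtain ⟨χ₁, hχ₁⟩ := hB₀
      have hs : SameBlock M (χ₀ : L → ℂ) (ψ : L → ℂ) := by
        rw [hχ₁] at hχ₀ hψ
        exact sameBlock_trans (sameBlock_symm hχ₀) hψ
      exact Fong.coverSet_closed N hM hb hcu hχ₀c hs
  refine ⟨hSB ▸ hB₀, ?_⟩
  -- the defect
  rw [hSB]
  have hlow := FongGen.defect_lower_bound_pgroup N hM hidx hb (⊤ : Subgroup L)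
    (fun t _ ψ hψ => by
      rw [hbdef, Set.mem_singleton_iff] at hψ ⊢
      apply Subtype.ext
      rw [hψ]
      exact hconj t)
    (fun g _ _ _ => Subgroup.mem_top g) B₀ hB₀ ⟨χ₀, hχ₀, θ₀, hθ₀, hcov₀⟩
  have hcardTop : Nat.card (⊤ : Subgroup L) = Nat.card L := Subgroup.card_top
  rw [hcardTop, hcardN, Nat.factorization_eq_zero_of_not_dvd hKp, add_zero] at hlow
  have hup : blockDefect p B₀ ≤ (Nat.card L).factorization p := by
    unfold blockDefect
    exact Nat.sub_le _ _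
  omega

end Cfsg.Agent.Lib.Helper6.FPTPPOW
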