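/-
helper6: groups with an involution whose centralizer is GL(2,3) (Brauer), part A:
abstract hypotheses and the semidihedral subgroup `N = ⟨x, s⟩`.
-/
import Mathlib

set_option autoImplicit false

namespace Cfsg.Agent.Lib.Helper6.GL23

universe u

/-- The abstract data extracted from `C_G(t) ≅ GL(2,3)`. -/
structure Hyp (G : Type u) [Group G] where
  t : G
  x : G
  s : G
  ht : orderOf t = 2
  hx4 : x ^ 4 = t
  hs2 : s * s = 1
  hsx : s * x * s⁻¹ = x ^ 3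
  cent_x2 : ∀ g : G, g * x ^ 2 = x ^ 2 * g → g ∈ Subgroup.zpowers x
  no5 : ∀ g : G, g * x * g⁻¹ ≠ x ^ 5
  no7 : ∀ g : G, g * x * g⁻¹ ≠ x ^ 7
  ord4 : ∀ g : G, g * g = t → IsConj (x ^ 2) g
  cardH : Nat.card (Subgroup.centralizer ({t} : Set G)) = 48
  lam3 : Subgroup.centralizer ({t} : Set G) →* ℤˣ
  lam3_x : ∀ h : x ∈ Subgroup.centralizer ({t} : Set G), lam3 ⟨x, h⟩ = -1
  lam3_s : ∀ h : s ∈ Subgroup.centralizer ({t} : Set G), lam3 ⟨s, h⟩ = -1

namespace Hyp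

variable {G : Type u} [Group G] (C : Hyp G)

theorem t_ne_one : C.t ≠ 1 := by
  intro h
  have := C.ht
  rw [h, orderOf_one] at this
  omega

theorem t_sq : C.t * C.t = 1 := by
  have := pow_orderOf_eq_one C.t
  rw [C.ht, pow_two] at this
  exact this

theorem x_pow_eight : C.x ^ 8 = 1 := by
  have : C.x ^ 8 = (C.x ^ 4) ^ 2 := by rw [← pow_mul]
  rw [this, C.hx4, pow_two, C.t_sq]

theorem orderOf_x : orderOf C.x = 8 := by
  have h1 : ¬ C.x ^ 2 ^ 2 = 1 := by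
    norm_num
    rw [C.hx4]
    exact C.t_ne_one
  have h2 : C.x ^ 2 ^ (2 + 1) = 1 := by
    norm_num
    exact C.x_pow_eight
  have := orderOf_eq_prime_pow h1 h2
  norm_num at this
  exact this

theorem pow_eq_pow_iff {m n : ℕ} : C.x ^ m = C.x ^ n ↔ m % 8 = n % 8 := by
  rw [pow_eq_pow_iff_modEq, C.orderOf_x]
  rfl

theorem pow_eq_one_iff {m : ℕ} : C.x ^ m = 1 ↔ m % 8 = 0 := by
  rw [← pow_zero C.x, C.pow_eq_pow_iff]

theorem s_inv : C.s⁻¹ = C.s := inv_eq_of_mul_eq_one_left C.hs2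

theorem s_conj_pow (k : ℕ) : C.s * C.x ^ k * C.s⁻¹ = C.x ^ (3 * k) := by
  rw [← conj_pow, C.hsx, ← pow_mul]

theorem s_mul_pow (k : ℕ) : C.s * C.x ^ k = C.x ^ (3 * k) * C.s := by
  have := C.s_conj_pow k
  rw [← this]
  group

theorem s_ne_one : C.s ≠ 1 := by
  intro h
  have h1 := C.hsx
  rw [h] at h1
  simp at h1
  have h2 : C.x ^ 1 = C.x ^ 3 := by rw [pow_one]; exact h1
  rw [C.pow_eq_pow_iff] at h2
  omega

/-- elements of `⟨x⟩` as natural powers -/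
theorem mem_zpowers_iff {g : G} : g ∈ Subgroup.zpowers C.x ↔ ∃ k : ℕ, k < 8 ∧ g = C.x ^ k := by
  constructor
  · intro h
    obtain ⟨k, rfl⟩ := Subgroup.mem_zpowers_iff.1 h
    refine ⟨(k % 8).toNat, ?_, ?_⟩
    · omega
    · have h1 : C.x ^ k = C.x ^ (k % (orderOf C.x : ℤ)) := (zpow_mod_orderOf C.x k).symm
      rw [h1, C.orderOf_x]
      have h2 : ((k % (8 : ℕ) : ℤ)) = (((k % 8).toNat : ℕ) : ℤ) := by
        have : 0 ≤ k % 8 := Int.emod_nonneg k (by norm_num)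
        rw [Int.toNat_of_nonneg this]
        rfl
      rw [h2, zpow_natCast]
  · rintro ⟨k, _, rfl⟩
    exact Subgroup.pow_mem _ (Subgroup.mem_zpowers C.x) k

theorem s_not_mem : C.s ∉ Subgroup.zpowers C.x := by
  intro h
  obtain ⟨k, _, hk⟩ := C.mem_zpowers_iff.1 h
  have h1 := C.hsx
  rw [hk] at h1
  have h2 : C.x ^ k * C.x * (C.x ^ k)⁻¹ = C.x := by group
  rw [h2] at h1
  have h3 : C.x ^ 1 = C.x ^ 3 := by rw [pow_one]; exact h1
  rw [C.pow_eq_pow_iff] at h3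
  omega

/-- Elements commuting with `x` are powers of `x`. -/
theorem mem_of_comm {g : G} (h : g * C.x = C.x * g) : g ∈ Subgroup.zpowers C.x := by
  apply C.cent_x2
  rw [pow_two, ← mul_assoc, h, mul_assoc, h, mul_assoc]

/-- The central involution is a power of every nontrivial power of `x`. -/
theorem t_mem_of_ne_one {k : ℕ} (hk : k < 8) (h : C.x ^ k ≠ 1) : ∃ j : ℕ, (C.x ^ k) ^ j = C.t := by
  have hk0 : k ≠ 0 := by
    intro h0
    apply h
    rw [h0, pow_zero]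
  have key : ∀ j m : ℕ, (k * j) % 8 = 4 → (C.x ^ k) ^ j = C.t := by
    intro j m hj
    rw [← pow_mul, ← C.hx4, C.pow_eq_pow_iff]
    omega
  interval_cases k
  · exact absurd rfl hk0
  · exact ⟨4, key 4 0 (by norm_num)⟩
  · exact ⟨2, key 2 0 (by norm_num)⟩
  · exact ⟨4, key 4 0 (by norm_num)⟩
  · exact ⟨1, key 1 0 (by norm_num)⟩
  · exact ⟨4, key 4 0 (by norm_num)⟩
  · exact ⟨2, key 2 0 (by norm_num)⟩
  · exact ⟨4, key 4 0 (by norm_num)⟩

end Hyp

end Cfsg.Agent.Lib.Helper6.GL23
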