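/-
helper6: Brauer GL(2,3), part B: the semidihedral subgroup `N`.
-/
import Mathlib
import Cfsg.Agent.Lib.Helper6.GL23A

set_option autoImplicit false

namespace Cfsg.Agent.Lib.Helper6.GL23

universe u

namespace Hyp

variable {G : Type u} [Group G] (C : Hyp G)

theorem x_pow_nine : C.x ^ 9 = C.x := by
  have : C.x ^ 9 = C.x ^ 1 := by rw [C.pow_eq_pow_iff]
  rw [this, pow_one]

/-- The semidihedral subgroup: elements conjugating `x` to `x` or `x ^ 3`. -/
def N : Subgroup G where
  carrier := {g | g * C.x * g⁻¹ = C.x ∨ g * C.x * g⁻¹ = C.x ^ 3}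
  one_mem' := Or.inl (by group)
  mul_mem' := by
    intro a b ha hb
    have h1 : a * b * C.x * (a * b)⁻¹ = a * (b * C.x * b⁻¹) * a⁻¹ := by group
    rcases hb with hb | hb
    · rcases ha with ha | ha
      · left
        rw [h1, hb, ha]
      · right
        rw [h1, hb, ha]
    · rcases ha with ha | ha
      · right
        rw [h1, hb, ← conj_pow, ha]
      · left
        rw [h1, hb, ← conj_pow, ha, ← pow_mul]
        exact C.x_pow_nine
  inv_mem' := by
    intro a ha
    rcases ha with ha | ha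
    · left
      have hc : a * C.x = C.x * a := mul_inv_eq_iff_eq_mul.1 ha
      change a⁻¹ * C.x * a⁻¹⁻¹ = C.x
      rw [inv_inv, mul_assoc, ← hc, ← mul_assoc, inv_mul_cancel, one_mul]
    · right
      -- y = a⁻¹ x a satisfies y ^ 3 = x
      set y := a⁻¹ * C.x * a⁻¹⁻¹ with hy
      have hy3 : y ^ 3 = C.x := by
        rw [hy, conj_pow, ← ha]
        group
      have hy8 : y ^ 8 = 1 := by
        rw [hy, conj_pow, C.x_pow_eight]
        group
      calc y = y ^ 9 := by rw [pow_succ, hy8, one_mul]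
        _ = (y ^ 3) ^ 3 := by rw [← pow_mul]
        _ = C.x ^ 3 := by rw [hy3]

theorem mem_N {g : G} : g ∈ C.N ↔ g * C.x * g⁻¹ = C.x ∨ g * C.x * g⁻¹ = C.x ^ 3 := Iff.rfl

theorem mem_N_iff {g : G} : g ∈ C.N ↔ g ∈ Subgroup.zpowers C.x ∨ C.s * g ∈ Subgroup.zpowers C.x := by
  constructor
  · intro h
    rcases h with h | h
    · left
      apply C.mem_of_comm
      calc g * C.x = g * C.x * g⁻¹ * g := by group
        _ = C.x * g := by rw [h]
    · right
      apply C.mem_of_comm
      have : C.s * g * C.x * (C.s * g)⁻¹ = C.s * (g * C.x * g⁻¹) * C.s⁻¹ := by group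
      have h2 : C.s * g * C.x * (C.s * g)⁻¹ = C.x := by
        rw [this, h, C.s_conj_pow]
        exact C.x_pow_nine
      calc C.s * g * C.x = C.s * g * C.x * (C.s * g)⁻¹ * (C.s * g) := by group
        _ = C.x * (C.s * g) := by rw [h2]
  · intro h
    rcases h with h | h
    · left
      obtain ⟨k, _, rfl⟩ := C.mem_zpowers_iff.1 h
      group
    · right
      obtain ⟨k, _, hk⟩ := C.mem_zpowers_iff.1 h
      have hg : g = C.s * C.x ^ k := by
        rw [← hk, ← mul_assoc, C.hs2, one_mul]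
      rw [hg]
      have : C.s * C.x ^ k * C.x * (C.s * C.x ^ k)⁻¹ = C.s * C.x * C.s⁻¹ := by group
      rw [this, C.hsx]

theorem pow_mem_N (k : ℕ) : C.x ^ k ∈ C.N :=
  C.mem_N_iff.2 (Or.inl (Subgroup.pow_mem _ (Subgroup.mem_zpowers C.x) k))

theorem s_pow_mem_N (k : ℕ) : C.s * C.x ^ k ∈ C.N := by
  apply C.mem_N_iff.2
  right
  rw [← mul_assoc, C.hs2, one_mul]
  exact Subgroup.pow_mem _ (Subgroup.mem_zpowers C.x) k

theorem zpowers_le_N : Subgroup.zpowers C.x ≤ C.N := fun _ h => C.mem_N_iff.2 (Or.inl h)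

/-- The parametrization of `N`. -/
def elt : Fin 8 ⊕ Fin 8 → C.N
  | Sum.inl k => ⟨C.x ^ (k : ℕ), C.pow_mem_N k⟩
  | Sum.inr k => ⟨C.s * C.x ^ (k : ℕ), C.s_pow_mem_N k⟩

theorem elt_bijective : Function.Bijective C.elt := by
  constructor
  · intro a b h
    have h' : ((C.elt a : C.N) : G) = ((C.elt b : C.N) : G) := congrArg Subtype.val h
    rcases a with a | a <;> rcases b with b | b
    · simp only [elt] at h'
      rw [C.pow_eq_pow_iff] at h'
      congr 1
      apply Fin.ext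
      omega
    · exfalso
      simp only [elt] at h'
      apply C.s_not_mem
      have : C.s = C.x ^ (a : ℕ) * (C.x ^ (b : ℕ))⁻¹ := by rw [h']; group
      rw [this]
      exact Subgroup.mul_mem _ (Subgroup.pow_mem _ (Subgroup.mem_zpowers C.x) _)
        (Subgroup.inv_mem _ (Subgroup.pow_mem _ (Subgroup.mem_zpowers C.x) _))
    · exfalso
      simp only [elt] at h'
      apply C.s_not_mem
      have : C.s = C.x ^ (b : ℕ) * (C.x ^ (a : ℕ))⁻¹ := by rw [← h']; group
      rw [this]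
      exact Subgroup.mul_mem _ (Subgroup.pow_mem _ (Subgroup.mem_zpowers C.x) _)
        (Subgroup.inv_mem _ (Subgroup.pow_mem _ (Subgroup.mem_zpowers C.x) _))
    · simp only [elt] at h'
      have h2 := mul_left_cancel h'
      rw [C.pow_eq_pow_iff] at h2
      congr 1
      apply Fin.ext
      omega
  · intro g
    rcases C.mem_N_iff.1 g.2 with h | h
    · obtain ⟨k, hk, hg⟩ := C.mem_zpowers_iff.1 h
      exact ⟨Sum.inl ⟨k, hk⟩, Subtype.ext hg.symm⟩
    · obtain ⟨k, hk, hg⟩ := C.mem_zpowers_iff.1 h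
      refine ⟨Sum.inr ⟨k, hk⟩, Subtype.ext ?_⟩
      change C.s * C.x ^ k = (g : G)
      rw [← hg, ← mul_assoc, C.hs2, one_mul]

/-- `N ≃ Fin 8 ⊕ Fin 8` -/
noncomputable def eltEquiv : Fin 8 ⊕ Fin 8 ≃ C.N := Equiv.ofBijective C.elt C.elt_bijective

theorem card_N : Nat.card C.N = 16 := by
  rw [← Nat.card_congr C.eltEquiv]
  simp

theorem sum_N [Fintype C.N] {M : Type*} [AddCommMonoid M] (F : G → M) :
    ∑ g : C.N, F (g : G) = ∑ k : Fin 8, F (C.x ^ (k : ℕ)) + ∑ k : Fin 8, F (C.s * C.x ^ (k : ℕ)) := by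
  rw [← Fintype.sum_equiv C.eltEquiv (fun a => F ((C.elt a : C.N) : G)) (fun g => F (g : G))
    (fun a => rfl), Fintype.sum_sum_type]
  rfl

end Hyp

end Cfsg.Agent.Lib.Helper6.GL23
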