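/-
helper6: Brauer GL(2,3), part C: Sylow 2-subgroups, conjugacy of involutions.
-/
import Mathlib
import Cfsg.Agent.Lib.Helper6.GL23B
import Cfsg.Agent.Lib.Helper6.D8A3

set_option autoImplicit false

namespace Cfsg.Agent.Lib.Helper6.GL23

open Cfsg.Agent.Lib.Helper6.D8Cent

universe u

namespace Hyp

variable {G : Type u} [Group G] (C : Hyp G)

theorem x_pow_twelve : C.x ^ 12 = C.x ^ 4 := by rw [C.pow_eq_pow_iff]

theorem mem_cent {g : G} : g ∈ Subgroup.centralizer ({C.t} : Set G) ↔ g * C.t = C.t * g :=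
  Subgroup.mem_centralizer_singleton_iff

theorem N_le_cent : C.N ≤ Subgroup.centralizer ({C.t} : Set G) := by
  intro g hg
  rw [C.mem_cent]
  have h1 : g * C.t * g⁻¹ = C.t := by
    rw [← C.hx4, ← conj_pow]
    rcases hg with h | h
    · rw [h]
    · rw [h, ← pow_mul]
      exact C.x_pow_twelve
  calc g * C.t = g * C.t * g⁻¹ * g := by group
    _ = C.t * g := by rw [h1]

theorem x_mem_cent : C.x ∈ Subgroup.centralizer ({C.t} : Set G) :=
  C.N_le_cent (by simpa using C.pow_mem_N 1)

theorem s_mem_cent : C.s ∈ Subgroup.centralizer ({C.t} : Set G) :=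
  C.N_le_cent (by simpa using C.s_pow_mem_N 0)

theorem card_zpowers : Nat.card (Subgroup.zpowers C.x) = 8 := by
  rw [Nat.card_zpowers, C.orderOf_x]

/-- An involution in `⟨x⟩` is `t`. -/
theorem eq_t_of_mem_zpowers {g : G} (hg : g ∈ Subgroup.zpowers C.x) (h2 : g * g = 1) (h1 : g ≠ 1) :
    g = C.t := by
  obtain ⟨k, hk, rfl⟩ := C.mem_zpowers_iff.1 hg
  rw [← pow_add, C.pow_eq_one_iff] at h2
  have hk0 : k % 8 ≠ 0 := by
    intro h
    apply h1
    rw [C.pow_eq_one_iff]
    exact h
  have : k = 4 := by omega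
  rw [this, C.hx4]

section finite
variable [Finite G]

include C in
theorem card_cent_dvd : 48 ∣ Nat.card G := by
  rw [← C.cardH]
  exact Subgroup.card_subgroup_dvd_card _

/-- A Sylow 2-subgroup containing `x` lies in `C(t)` and has order 16. -/
theorem exists_sylow : ∃ P : Sylow 2 G, Subgroup.zpowers C.x ≤ (P : Subgroup G) ∧
    (P : Subgroup G) ≤ Subgroup.centralizer ({C.t} : Set G) ∧ Nat.card (P : Subgroup G) = 16 := by
  have hK : IsPGroup 2 (Subgroup.zpowers C.x) := IsPGroup.of_card (n := 3) (by rw [C.card_zpowers]; norm_num)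
  obtain ⟨P, hP⟩ := hK.exists_le_sylow
  have hxP : C.x ∈ (P : Subgroup G) := hP (Subgroup.mem_zpowers C.x)
  have htP : C.t ∈ (P : Subgroup G) := by
    rw [← C.hx4]
    exact Subgroup.pow_mem _ hxP 4
  have : Nontrivial (P : Subgroup G) := ⟨⟨⟨C.t, htP⟩, 1, fun h => C.t_ne_one (congrArg Subtype.val h)⟩⟩
  have hc := (P.isPGroup').center_nontrivial
  obtain ⟨z, hz⟩ := exists_ne (1 : Subgroup.center (P : Subgroup G))
  have hz1 : ((z : (P : Subgroup G)) : G) ≠ 1 := by
    intro h
    apply hz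
    apply Subtype.ext
    apply Subtype.ext
    exact h
  have hzc : ∀ y : G, y ∈ (P : Subgroup G) → y * ((z : (P : Subgroup G)) : G) = ((z : (P : Subgroup G)) : G) * y := by
    intro y hy
    have := Subgroup.mem_center_iff.1 z.2 ⟨y, hy⟩
    exact congrArg Subtype.val this
  have hzx : ((z : (P : Subgroup G)) : G) ∈ Subgroup.zpowers C.x := C.mem_of_comm (hzc C.x hxP).symm
  obtain ⟨k, hk, hzk⟩ := C.mem_zpowers_iff.1 hzx
  obtain ⟨j, hj⟩ := C.t_mem_of_ne_one hk (by rw [← hzk]; exact hz1)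
  have hle : (P : Subgroup G) ≤ Subgroup.centralizer ({C.t} : Set G) := by
    intro y hy
    rw [C.mem_cent, ← hj, ← hzk]
    have h1 := hzc y hy
    exact (Commute.pow_right h1 j)
  refine ⟨P, hP, hle, ?_⟩
  -- the order
  have h16 : 2 ^ 4 ∣ Nat.card (P : Subgroup G) :=
    P.pow_dvd_card_of_pow_dvd_card (dvd_trans (by norm_num) C.card_cent_dvd)
  have h48 : Nat.card (P : Subgroup G) ∣ 48 := by
    rw [← C.cardH]
    exact Subgroup.card_dvd_of_le hle
  obtain ⟨n, hn⟩ := IsPGroup.iff_card.1 P.isPGroup'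
  rw [hn] at h16 h48 ⊢
  have hn4 : n ≤ 4 := by
    by_contra h
    push Not at h
    have : 2 ^ 5 ∣ 48 := dvd_trans (pow_dvd_pow 2 h) h48
    norm_num at this
  have hn4' : 4 ≤ n := by
    by_contra h
    push Not at h
    have h2 : 2 ^ n ≤ 2 ^ 3 := Nat.pow_le_pow_right (by norm_num) (by omega)
    have h3 := Nat.le_of_dvd (by positivity) h16
    omega
  have : n = 4 := le_antisymm hn4 hn4'
  rw [this]
  norm_num

include C in
theorem sixteen_dvd : 16 ∣ Nat.card G := dvd_trans (by norm_num) C.card_cent_dvd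

include C in
theorem three_dvd : 3 ∣ Nat.card G := dvd_trans (by norm_num) C.card_cent_dvd

include C in
theorem not_32_dvd : ¬ 32 ∣ Nat.card G := by
  intro h
  obtain ⟨P, _, _, hP⟩ := C.exists_sylow
  have h2 : 2 ^ 5 ∣ Nat.card (P : Subgroup G) := P.pow_dvd_card_of_pow_dvd_card (by norm_num; exact h)
  rw [hP] at h2
  norm_num at h2

/-- Every involution is conjugate to `t` (Thompson transfer). -/
theorem isConj_t_of_orderOf (hno2 : ∀ M : Subgroup G, M.Normal → M.index ≠ 2) {u : G}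
    (hu : orderOf u = 2) : IsConj C.t u := by
  obtain ⟨P, hxP, hPle, hPcard⟩ := C.exists_sylow
  -- move `u` into `P`
  have hz : IsPGroup 2 (Subgroup.zpowers u) := IsPGroup.of_card (n := 1) (by rw [Nat.card_zpowers, hu]; norm_num)
  obtain ⟨Q, hQ⟩ := hz.exists_le_sylow
  obtain ⟨g, hg⟩ := MulAction.exists_smul_eq G Q P
  have huQ : u ∈ (Q : Subgroup G) := hQ (Subgroup.mem_zpowers u)
  have h1 : g * u * g⁻¹ ∈ (P : Subgroup G) := by
    rw [← hg, Sylow.smul_def, Sylow.pointwise_smul_def]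
    have := Subgroup.smul_mem_pointwise_smul u (MulAut.conj g) (Q : Subgroup G) huQ
    rwa [MulAut.smul_def, MulAut.conj_apply] at this
  have h2 : orderOf (g * u * g⁻¹) = 2 := by
    rw [← hu]
    symm
    apply orderOf_of_isConj
    rw [isConj_iff]
    exact ⟨g, rfl⟩
  have hconj : IsConj u (g * u * g⁻¹) := by
    rw [isConj_iff]
    exact ⟨g, rfl⟩
  suffices h : IsConj C.t (g * u * g⁻¹) from h.trans hconj.symm
  set u' := g * u * g⁻¹ with hu'
  obtain ⟨hu2, hu1⟩ := orderOf_two_iff.1 h2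
  by_cases hmem : u' ∈ Subgroup.zpowers C.x
  · rw [C.eq_t_of_mem_zpowers hmem hu2 hu1]
  · have hrel : (Subgroup.zpowers C.x).relIndex (P : Subgroup G) = 2 := by
      have h := Subgroup.relIndex_mul_relIndex ⊥ (Subgroup.zpowers C.x) (P : Subgroup G) bot_le hxP
      rw [Subgroup.relIndex_bot_left, Subgroup.relIndex_bot_left, C.card_zpowers, hPcard] at h
      omega
    rcases Cfsg.Agent.S0111.result P (Subgroup.zpowers C.x) hxP hrel u' h2 h1 hmem with
      ⟨M, hMn, hMi, _⟩ | ⟨k, hk⟩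
    · exact (hno2 M hMn hMi).elim
    · have h6 : k * u' * k⁻¹ = C.t := by
        apply C.eq_t_of_mem_zpowers hk
        · have : k * u' * k⁻¹ * (k * u' * k⁻¹) = k * (u' * u') * k⁻¹ := by group
          rw [this, hu2]
          group
        · intro h
          apply hu1
          have : u' = k⁻¹ * (k * u' * k⁻¹) * k := by group
          rw [this, h]
          group
      rw [isConj_comm, isConj_iff]
      exact ⟨k, h6⟩

theorem isConj_t_iff (hno2 : ∀ M : Subgroup G, M.Normal → M.index ≠ 2) {u : G} :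
    IsConj C.t u ↔ orderOf u = 2 := by
  constructor
  · intro h
    rw [← orderOf_of_isConj h, C.ht]
  · exact C.isConj_t_of_orderOf hno2

end finite

end Hyp

end Cfsg.Agent.Lib.Helper6.GL23
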