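/-
helper6: Brauer GL(2,3), part D: conjugacy facts, centralizers of powers of `x`, pairs of involutions.
-/
import Mathlib
import Cfsg.Agent.Lib.Helper6.GL23C

set_option autoImplicit false

namespace Cfsg.Agent.Lib.Helper6.GL23

open Cfsg.Agent.Lib.Helper6.D8Cent

universe u

theorem not_isConj_of_orderOf_ne {G : Type u} [Group G] {a b : G} (h : orderOf a ≠ orderOf b) :
    ¬ IsConj a b := fun hc => h (orderOf_of_isConj hc)

/-- A product of two involutions is inverted by the first. -/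
theorem conj_of_pair {G : Type u} [Group G] {y z : G} (hy : y * y = 1) (hz : z * z = 1) :
    y * (y * z) * y⁻¹ = (y * z)⁻¹ := by
  have h1 : y⁻¹ = y := inv_eq_of_mul_eq_one_left hy
  have h2 : z⁻¹ = z := inv_eq_of_mul_eq_one_left hz
  rw [mul_inv_rev, h1, h2, ← mul_assoc, hy, one_mul]

namespace Hyp

variable {G : Type u} [Group G] (C : Hyp G)

theorem orderOf_x_pow (k : ℕ) : orderOf (C.x ^ k) = 8 / Nat.gcd 8 k := by
  have h : IsOfFinOrder C.x := by
    rw [← orderOf_pos_iff, C.orderOf_x]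
    norm_num
  rw [h.orderOf_pow, C.orderOf_x]

theorem orderOf_x2 : orderOf (C.x ^ 2) = 4 := by rw [C.orderOf_x_pow]; rfl

theorem orderOf_x5 : orderOf (C.x ^ 5) = 8 := by rw [C.orderOf_x_pow]; rfl

theorem not_isConj_x_x5 : ¬ IsConj C.x (C.x ^ 5) := by
  intro h
  rw [isConj_comm, isConj_iff] at h
  obtain ⟨g, hg⟩ := h
  -- g x^5 g⁻¹ = x, so g x g⁻¹ = g (x^5)^5 g⁻¹ = x^5
  apply C.no5 g
  have h1 : C.x = (C.x ^ 5) ^ 5 := by
    rw [← pow_mul]
    have : C.x ^ (5 * 5) = C.x ^ 1 := by rw [C.pow_eq_pow_iff]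
    rw [this, pow_one]
  calc g * C.x * g⁻¹ = g * (C.x ^ 5) ^ 5 * g⁻¹ := by rw [← h1]
    _ = (g * C.x ^ 5 * g⁻¹) ^ 5 := by rw [conj_pow]
    _ = C.x ^ 5 := by rw [hg]

theorem not_isConj_x5_x : ¬ IsConj (C.x ^ 5) C.x := fun h => C.not_isConj_x_x5 h.symm

theorem inv_x : C.x⁻¹ = C.x ^ 7 := by
  apply inv_eq_of_mul_eq_one_left
  rw [← pow_succ, C.x_pow_eight]

theorem inv_x_pow (k : ℕ) : (C.x ^ k)⁻¹ = C.x ^ (7 * k) := by
  rw [← inv_pow, C.inv_x, ← pow_mul]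

theorem centralizer_x : Subgroup.centralizer ({C.x} : Set G) = Subgroup.zpowers C.x := by
  ext g
  rw [Subgroup.mem_centralizer_singleton_iff]
  constructor
  · intro h
    exact C.mem_of_comm h
  · intro h
    obtain ⟨k, _, rfl⟩ := C.mem_zpowers_iff.1 h
    rw [← pow_succ, ← pow_succ']

theorem centralizer_x2 : Subgroup.centralizer ({C.x ^ 2} : Set G) = Subgroup.zpowers C.x := by
  ext g
  rw [Subgroup.mem_centralizer_singleton_iff]
  constructor
  · intro h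
    exact C.cent_x2 g h
  · intro h
    obtain ⟨k, _, rfl⟩ := C.mem_zpowers_iff.1 h
    rw [← pow_add, ← pow_add, add_comm]

theorem centralizer_x5 : Subgroup.centralizer ({C.x ^ 5} : Set G) = Subgroup.zpowers C.x := by
  ext g
  rw [Subgroup.mem_centralizer_singleton_iff]
  constructor
  · intro h
    apply C.mem_of_comm
    have h1 : C.x = (C.x ^ 5) ^ 5 := by
      rw [← pow_mul]
      have : C.x ^ (5 * 5) = C.x ^ 1 := by rw [C.pow_eq_pow_iff]
      rw [this, pow_one]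
    have h2 : Commute g (C.x ^ 5) := h
    have h3 : Commute g ((C.x ^ 5) ^ 5) := h2.pow_right 5
    rw [← h1] at h3
    exact h3
  · intro h
    obtain ⟨k, _, rfl⟩ := C.mem_zpowers_iff.1 h
    rw [← pow_add, ← pow_add, add_comm]

theorem card_centralizer_x : Nat.card (Subgroup.centralizer ({C.x} : Set G)) = 8 := by
  rw [C.centralizer_x, C.card_zpowers]

theorem card_centralizer_x2 : Nat.card (Subgroup.centralizer ({C.x ^ 2} : Set G)) = 8 := by
  rw [C.centralizer_x2, C.card_zpowers]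

theorem card_centralizer_x5 : Nat.card (Subgroup.centralizer ({C.x ^ 5} : Set G)) = 8 := by
  rw [C.centralizer_x5, C.card_zpowers]

/-- `(s x^j)^2 = x^(4j)` -/
theorem s_pow_sq (j : ℕ) : (C.s * C.x ^ j) * (C.s * C.x ^ j) = C.x ^ (4 * j) := by
  have h1 : C.s * C.x ^ j * (C.s * C.x ^ j) = (C.s * C.x ^ j) * C.s * C.x ^ j := by group
  rw [h1, C.s_mul_pow, mul_assoc (C.x ^ (3 * j)), C.hs2, mul_one, ← pow_add]
  congr 1
  ring

theorem s_pow_ne_one (j : ℕ) : C.s * C.x ^ j ≠ 1 := by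
  intro h
  apply C.s_not_mem
  have : C.s = (C.x ^ j)⁻¹ := eq_inv_of_mul_eq_one_left h
  rw [this]
  exact Subgroup.inv_mem _ (Subgroup.pow_mem _ (Subgroup.mem_zpowers C.x) j)

theorem s_pow_mul_s_pow (i j : ℕ) : (C.s * C.x ^ i) * (C.s * C.x ^ j) = C.x ^ (3 * i + j) := by
  have h1 : C.s * C.x ^ i * (C.s * C.x ^ j) = (C.s * C.x ^ i) * C.s * C.x ^ j := by group
  rw [h1, C.s_mul_pow, mul_assoc (C.x ^ (3 * i)), C.hs2, mul_one, ← pow_add]

/-- involutions `s x^(2k)` -/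
theorem orderOf_s_even (k : ℕ) : orderOf (C.s * C.x ^ (2 * k)) = 2 := by
  rw [orderOf_two_iff]
  refine ⟨?_, C.s_pow_ne_one _⟩
  rw [C.s_pow_sq, C.pow_eq_one_iff]
  omega

/-- `s x^(2k+1)` squares to `t` -/
theorem s_odd_sq (k : ℕ) : (C.s * C.x ^ (2 * k + 1)) * (C.s * C.x ^ (2 * k + 1)) = C.t := by
  rw [C.s_pow_sq, ← C.hx4, C.pow_eq_pow_iff]
  omega

/-- no pair of involutions has product `x` -/
theorem no_pair_x {y z : G} (hy : y * y = 1) (hz : z * z = 1) : y * z ≠ C.x := by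
  intro h
  have := conj_of_pair hy hz
  rw [h, C.inv_x] at this
  exact C.no7 y this

/-- no pair of involutions has product `x^5` -/
theorem no_pair_x5 {y z : G} (hy : y * y = 1) (hz : z * z = 1) : y * z ≠ C.x ^ 5 := by
  intro h
  have h0 := conj_of_pair hy hz
  rw [h] at h0
  apply C.no7 y
  have h1 : C.x = (C.x ^ 5) ^ 5 := by
    rw [← pow_mul]
    have : C.x ^ (5 * 5) = C.x ^ 1 := by rw [C.pow_eq_pow_iff]
    rw [this, pow_one]
  calc y * C.x * y⁻¹ = y * (C.x ^ 5) ^ 5 * y⁻¹ := by rw [← h1]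
    _ = (y * C.x ^ 5 * y⁻¹) ^ 5 := by rw [conj_pow]
    _ = ((C.x ^ 5)⁻¹) ^ 5 := by rw [h0]
    _ = C.x ^ 7 := by
      rw [C.inv_x_pow, ← pow_mul, C.pow_eq_pow_iff]

/-- An involution inverting `x^2` is of the form `s x^(2m)`. -/
theorem eq_of_inverts_x2 {y : G} (hy : y * y = 1) (hinv : y * C.x ^ 2 * y⁻¹ = (C.x ^ 2)⁻¹) :
    ∃ m : ℕ, m < 4 ∧ y = C.s * C.x ^ (2 * m) := by
  set w := y * C.x * y⁻¹ with hw
  have hw2 : w ^ 2 = C.x ^ 6 := by
    rw [hw, conj_pow, hinv, C.inv_x_pow, C.pow_eq_pow_iff]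
  have hcomm : w * C.x ^ 2 = C.x ^ 2 * w := by
    have h1 : C.x ^ 2 = (w ^ 2) ^ 3 := by
      rw [hw2, ← pow_mul, C.pow_eq_pow_iff]
    rw [h1, ← pow_mul, ← pow_succ, ← pow_succ']
  obtain ⟨k, hk, hwk⟩ := C.mem_zpowers_iff.1 (C.cent_x2 w hcomm)
  rw [hwk, ← pow_mul, C.pow_eq_pow_iff] at hw2
  have hk37 : k = 3 ∨ k = 7 := by omega
  have hk3 : k = 3 := by
    rcases hk37 with h | h
    · exact h
    · exfalso
      rw [h] at hwk
      exact C.no7 y hwk
  rw [hk3] at hwk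
  have hyN : y ∈ C.N := Or.inr hwk
  rcases C.mem_N_iff.1 hyN with h | h
  · exfalso
    obtain ⟨j, _, hj⟩ := C.mem_zpowers_iff.1 h
    have h1 : y * C.x * y⁻¹ = C.x := by rw [hj]; group
    rw [← hw, hwk] at h1
    have h2 : C.x ^ 3 = C.x ^ 1 := by rw [pow_one]; exact h1
    rw [C.pow_eq_pow_iff] at h2
    omega
  · obtain ⟨j, hj, hsy⟩ := C.mem_zpowers_iff.1 h
    have hyj : y = C.s * C.x ^ j := by
      rw [← hsy, ← mul_assoc, C.hs2, one_mul]
    have h1 := hy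
    rw [hyj, C.s_pow_sq, C.pow_eq_one_iff] at h1
    refine ⟨j / 2, by omega, ?_⟩
    rw [hyj]
    congr 2
    omega

end Hyp

end Cfsg.Agent.Lib.Helper6.GL23
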