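/-
helper6: Brauer GL(2,3), part D2: the numbers of pairs of involutions with given product.
-/
import Mathlib
import Cfsg.Agent.Lib.Helper6.GL23D

set_option autoImplicit false

namespace Cfsg.Agent.Lib.Helper6.GL23

open Cfsg.Agent.Lib.Helper6.D8Cent

universe u

namespace Hyp

variable {G : Type u} [Group G] (C : Hyp G)

theorem sq_of_isConj_t {y : G} (h : IsConj C.t y) : y * y = 1 := by
  have h1 : orderOf y = 2 := by rw [← orderOf_of_isConj h, C.ht]
  exact (orderOf_two_iff.1 h1).1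

theorem card_pairs_x :
    Nat.card {p : G × G // IsConj C.t p.1 ∧ IsConj C.t p.2 ∧ p.1 * p.2 = C.x} = 0 := by
  have : IsEmpty {p : G × G // IsConj C.t p.1 ∧ IsConj C.t p.2 ∧ p.1 * p.2 = C.x} := by
    constructor
    rintro ⟨p, h1, h2, h3⟩
    exact C.no_pair_x (C.sq_of_isConj_t h1) (C.sq_of_isConj_t h2) h3
  exact Nat.card_of_isEmpty

theorem card_pairs_x5 :
    Nat.card {p : G × G // IsConj C.t p.1 ∧ IsConj C.t p.2 ∧ p.1 * p.2 = C.x ^ 5} = 0 := by
  have : IsEmpty {p : G × G // IsConj C.t p.1 ∧ IsConj C.t p.2 ∧ p.1 * p.2 = C.x ^ 5} := by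
    constructor
    rintro ⟨p, h1, h2, h3⟩
    exact C.no_pair_x5 (C.sq_of_isConj_t h1) (C.sq_of_isConj_t h2) h3
  exact Nat.card_of_isEmpty

section finite
variable [Finite G]

/-- the four pairs with product `x^2` -/
noncomputable def pairElt (hno2 : ∀ M : Subgroup G, M.Normal → M.index ≠ 2) (k : Fin 4) :
    {p : G × G // IsConj C.t p.1 ∧ IsConj C.t p.2 ∧ p.1 * p.2 = C.x ^ 2} :=
  ⟨(C.s * C.x ^ (2 * (k : ℕ)), C.s * C.x ^ (2 * ((k : ℕ) + 1))),
    C.isConj_t_of_orderOf hno2 (C.orderOf_s_even _),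
    C.isConj_t_of_orderOf hno2 (C.orderOf_s_even _), by
      rw [C.s_pow_mul_s_pow, C.pow_eq_pow_iff]
      omega⟩

theorem pairElt_bijective (hno2 : ∀ M : Subgroup G, M.Normal → M.index ≠ 2) :
    Function.Bijective (C.pairElt hno2) := by
  constructor
  · intro a b h
    have h1 : C.s * C.x ^ (2 * (a : ℕ)) = C.s * C.x ^ (2 * (b : ℕ)) :=
      congrArg (fun p => p.1.1) h
    have h2 := mul_left_cancel h1
    rw [C.pow_eq_pow_iff] at h2
    apply Fin.ext
    omega
  · rintro ⟨⟨y, z⟩, h1, h2, h3⟩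
    have hy := C.sq_of_isConj_t h1
    have hz := C.sq_of_isConj_t h2
    simp only at h3 hy hz
    have hinv := conj_of_pair hy hz
    rw [h3] at hinv
    obtain ⟨m, hm, hym⟩ := C.eq_of_inverts_x2 hy hinv
    refine ⟨⟨m, hm⟩, ?_⟩
    apply Subtype.ext
    apply Prod.ext
    · exact hym.symm
    · change C.s * C.x ^ (2 * (m + 1)) = z
      have hz' : z = y⁻¹ * C.x ^ 2 := by rw [← h3]; group
      have hyinv : y⁻¹ = y := inv_eq_of_mul_eq_one_left hy
      rw [hz', hyinv, hym, mul_assoc, ← pow_add]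
      congr 2

theorem card_pairs_x2 (hno2 : ∀ M : Subgroup G, M.Normal → M.index ≠ 2) :
    Nat.card {p : G × G // IsConj C.t p.1 ∧ IsConj C.t p.2 ∧ p.1 * p.2 = C.x ^ 2} = 4 := by
  rw [← Nat.card_congr (Equiv.ofBijective _ (C.pairElt_bijective hno2))]
  simp

end finite

end Hyp

end Cfsg.Agent.Lib.Helper6.GL23
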