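/-
helper6: Brauer GL(2,3), part E: linear characters of the semidihedral group `N`.
-/
import Mathlib
import Cfsg.Agent.Lib.Helper6.GL23D2
import Cfsg.Agent.Lib.Helper6.D8B

set_option autoImplicit false

namespace Cfsg.Agent.Lib.Helper6.GL23

open Cfsg Cfsg.Agent.CharLib Cfsg.Agent.Lib.Helper6 Cfsg.Agent.Lib.Helper6.D8Cent
open scoped ComplexConjugate

universe u

namespace Hyp

variable {G : Type u} [Group G] (C : Hyp G)

/-- `x` as an element of `N` -/
def xN : C.N := ⟨C.x, by simpa using C.pow_mem_N 1⟩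

/-- `s` as an element of `N` -/
def sN : C.N := ⟨C.s, by simpa using C.s_pow_mem_N 0⟩

theorem coe_xN_pow (k : ℕ) : ((C.xN ^ k : C.N) : G) = C.x ^ k := rfl

theorem coe_sN_mul (k : ℕ) : ((C.sN * C.xN ^ k : C.N) : G) = C.s * C.x ^ k := rfl

theorem sum_N' [Fintype C.N] {M : Type*} [AddCommMonoid M] (F : C.N → M) :
    ∑ g : C.N, F g = ∑ k ∈ Finset.range 8, F (C.xN ^ k) + ∑ k ∈ Finset.range 8, F (C.sN * C.xN ^ k) := by
  rw [← Fintype.sum_equiv C.eltEquiv (fun a => F (C.elt a)) F (fun a => rfl), Fintype.sum_sum_type,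
    ← Fin.sum_univ_eq_sum_range (fun k => F (C.xN ^ k)), ← Fin.sum_univ_eq_sum_range (fun k => F (C.sN * C.xN ^ k))]
  rfl

/-- the function underlying `lamOne` -/
noncomputable def lamOneFun (g : C.N) : ℤˣ := by
  classical
  exact if (g : G) ∈ Subgroup.zpowers C.x then 1 else -1

theorem lamOneFun_of_mem {g : C.N} (h : (g : G) ∈ Subgroup.zpowers C.x) : C.lamOneFun g = 1 := by
  unfold lamOneFun
  rw [if_pos h]

theorem lamOneFun_of_not_mem {g : C.N} (h : (g : G) ∉ Subgroup.zpowers C.x) : C.lamOneFun g = -1 := by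
  unfold lamOneFun
  rw [if_neg h]

theorem mul_mem_of_not_mem {g h : G} (hgN : g ∈ C.N) (hhN : h ∈ C.N) (hg : g ∉ Subgroup.zpowers C.x)
    (hh : h ∉ Subgroup.zpowers C.x) : g * h ∈ Subgroup.zpowers C.x := by
  have h1 : C.s * g ∈ Subgroup.zpowers C.x := (C.mem_N_iff.1 hgN).resolve_left hg
  have h2 : C.s * h ∈ Subgroup.zpowers C.x := (C.mem_N_iff.1 hhN).resolve_left hh
  obtain ⟨i, _, hi⟩ := C.mem_zpowers_iff.1 h1
  obtain ⟨j, _, hj⟩ := C.mem_zpowers_iff.1 h2
  have hg' : g = C.s * C.x ^ i := by rw [← hi, ← mul_assoc, C.hs2, one_mul]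
  have hh' : h = C.s * C.x ^ j := by rw [← hj, ← mul_assoc, C.hs2, one_mul]
  rw [hg', hh', C.s_pow_mul_s_pow]
  exact Subgroup.pow_mem _ (Subgroup.mem_zpowers C.x) _

/-- the linear character of `N` with kernel `⟨x⟩` -/
noncomputable def lamOne : C.N →* ℤˣ :=
  MonoidHom.mk' C.lamOneFun (by
    intro a b
    by_cases ha : (a : G) ∈ Subgroup.zpowers C.x
    · by_cases hb : (b : G) ∈ Subgroup.zpowers C.x
      · rw [C.lamOneFun_of_mem ha, C.lamOneFun_of_mem hb, C.lamOneFun_of_mem (Subgroup.mul_mem _ ha hb)]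
        rfl
      · have hab : ((a * b : C.N) : G) ∉ Subgroup.zpowers C.x := by
          intro h
          apply hb
          have : (b : G) = (a : G)⁻¹ * ((a : G) * (b : G)) := by group
          rw [this]
          exact Subgroup.mul_mem _ (Subgroup.inv_mem _ ha) h
        rw [C.lamOneFun_of_mem ha, C.lamOneFun_of_not_mem hb, C.lamOneFun_of_not_mem hab]
        rfl
    · by_cases hb : (b : G) ∈ Subgroup.zpowers C.x
      · have hab : ((a * b : C.N) : G) ∉ Subgroup.zpowers C.x := by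
          intro h
          apply ha
          have : (a : G) = ((a : G) * (b : G)) * (b : G)⁻¹ := by group
          rw [this]
          exact Subgroup.mul_mem _ h (Subgroup.inv_mem _ hb)
        rw [C.lamOneFun_of_not_mem ha, C.lamOneFun_of_mem hb, C.lamOneFun_of_not_mem hab]
        rfl
      · rw [C.lamOneFun_of_not_mem ha, C.lamOneFun_of_not_mem hb,
          C.lamOneFun_of_mem (C.mul_mem_of_not_mem a.2 b.2 ha hb)]
        rfl)

theorem lamOne_xN : C.lamOne C.xN = 1 :=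
  C.lamOneFun_of_mem (Subgroup.mem_zpowers C.x)

theorem lamOne_sN : C.lamOne C.sN = -1 :=
  C.lamOneFun_of_not_mem C.s_not_mem

/-- the restriction of the determinant -/
noncomputable def lamThree : C.N →* ℤˣ := C.lam3.comp (Subgroup.inclusion C.N_le_cent)

theorem lamThree_xN : C.lamThree C.xN = -1 := C.lam3_x _

theorem lamThree_sN : C.lamThree C.sN = -1 := C.lam3_s _

/-- the product of `lamOne` and `lamThree` -/
noncomputable def lamTwo : C.N →* ℤˣ := C.lamOne * C.lamThree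

theorem lamTwo_xN : C.lamTwo C.xN = -1 := by
  change C.lamOne C.xN * C.lamThree C.xN = -1
  rw [C.lamOne_xN, C.lamThree_xN, one_mul]

theorem lamTwo_sN : C.lamTwo C.sN = 1 := by
  change C.lamOne C.sN * C.lamThree C.sN = 1
  rw [C.lamOne_sN, C.lamThree_sN]
  rfl

section fintype
variable [Fintype G]

/-- Inner products of a restricted character with linear characters of `N`. -/
theorem sum_lin {χ : G → ℂ} (hχ : IsCharacter G χ) (μ : C.N →* ℤˣ) :
    ∃ n : ℕ, ∑ k ∈ Finset.range 8, χ (C.x ^ k) * ((((μ C.xN) ^ k : ℤˣ) : ℤ) : ℂ) +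
      ∑ k ∈ Finset.range 8, χ (C.s * C.x ^ k) * (((μ C.sN * (μ C.xN) ^ k : ℤˣ) : ℤ) : ℂ) = 16 * (n : ℂ) := by
  classical
  let _ : Fintype C.N := Fintype.ofFinite _
  let φ : C.N →* ℂˣ := toC.comp μ
  obtain ⟨n, hn⟩ := IsCharacter.classInner_nat (isCharacter_resFun C.N hχ) (isCharacter_of_hom φ)
  refine ⟨n, ?_⟩
  unfold classInner at hn
  rw [C.card_N] at hn
  have h1 : ∑ g : C.N, resFun C.N χ g * conj (((φ g : ℂˣ) : ℂ)) =
      ∑ g : C.N, χ (g : G) * (((μ g : ℤˣ) : ℤ) : ℂ) := by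
    apply Finset.sum_congr rfl
    intro g _
    change χ (g : G) * conj (((μ g : ℤˣ) : ℤ) : ℂ) = _
    rw [map_intCast]
  rw [h1, C.sum_N'] at hn
  simp only [map_mul, map_pow, C.coe_xN_pow, C.coe_sN_mul] at hn
  have h16 : ((16 : ℕ) : ℂ) ≠ 0 := by norm_num
  field_simp at hn
  rw [hn]
  push_cast
  ring

end fintype

end Hyp

end Cfsg.Agent.Lib.Helper6.GL23
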