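/-
helper6: Brauer GL(2,3), part E2: values of characters of `G` on `1`, `t`, `x^2`, `x`, `x^5`.
-/
import Mathlib
import Cfsg.Agent.Lib.Helper6.GL23E

set_option autoImplicit false

namespace Cfsg.Agent.Lib.Helper6.GL23

open Cfsg Cfsg.Agent.CharLib Cfsg.Agent.Lib.Helper6 Cfsg.Agent.Lib.Helper6.D8Cent
open scoped ComplexConjugate

universe u

namespace Hyp

variable {G : Type u} [Group G] (C : Hyp G)

theorem isConj_x_x3 : IsConj C.x (C.x ^ 3) := by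
  rw [isConj_iff]
  exact ⟨C.s, C.hsx⟩

theorem isConj_x2_x6 : IsConj (C.x ^ 2) (C.x ^ 6) := by
  rw [isConj_iff]
  exact ⟨C.s, C.s_conj_pow 2⟩

theorem isConj_x5_x7 : IsConj (C.x ^ 5) (C.x ^ 7) := by
  rw [isConj_iff]
  refine ⟨C.s, ?_⟩
  rw [C.s_conj_pow, C.pow_eq_pow_iff]

theorem isConj_x2_s_odd (k : ℕ) : IsConj (C.x ^ 2) (C.s * C.x ^ (2 * k + 1)) :=
  C.ord4 _ (C.s_odd_sq k)

section fintype
variable [Fintype G]

set_option maxHeartbeats 800000 in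
/-- The values of a character at `1`, `t`, `x^2`, `x`, `x^5`. -/
theorem values (hno2 : ∀ M : Subgroup G, M.Normal → M.index ≠ 2) {χ : G → ℂ} (hχ : IsCharacter G χ) :
    ∃ m0 m1 m2 m3 : ℕ, χ 1 = (m0 : ℂ) + 7 * m1 + 5 * m2 + 3 * m3 ∧
      χ C.t = (m0 : ℂ) - m1 + m2 - m3 ∧ χ (C.x ^ 2) = (m0 : ℂ) - m1 - m2 + m3 ∧
      χ C.x + χ (C.x ^ 5) = 2 * ((m0 : ℂ) + m1 - m2 - m3) := by
  have hcf : IsClassFunction G χ := IsCharacter.isClassFunction hχ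
  obtain ⟨m0, h0⟩ := C.sum_lin hχ 1
  obtain ⟨m1, h1⟩ := C.sum_lin hχ C.lamOne
  obtain ⟨m2, h2⟩ := C.sum_lin hχ C.lamTwo
  obtain ⟨m3, h3⟩ := C.sum_lin hχ C.lamThree
  rw [C.lamOne_xN, C.lamOne_sN] at h1
  rw [C.lamTwo_xN, C.lamTwo_sN] at h2
  rw [C.lamThree_xN, C.lamThree_sN] at h3
  have e3 : χ (C.x ^ 3) = χ C.x := (IsClassFunction.of_isConj hcf C.isConj_x_x3).symm
  have e6 : χ (C.x ^ 6) = χ (C.x ^ 2) := (IsClassFunction.of_isConj hcf C.isConj_x2_x6).symm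
  have e7 : χ (C.x ^ 7) = χ (C.x ^ 5) := (IsClassFunction.of_isConj hcf C.isConj_x5_x7).symm
  have es0 : χ (C.s * C.x ^ 0) = χ C.t :=
    (IsClassFunction.of_isConj hcf (C.isConj_t_of_orderOf hno2 (C.orderOf_s_even 0))).symm
  have es2 : χ (C.s * C.x ^ 2) = χ C.t :=
    (IsClassFunction.of_isConj hcf (C.isConj_t_of_orderOf hno2 (C.orderOf_s_even 1))).symm
  have es4 : χ (C.s * C.x ^ 4) = χ C.t :=
    (IsClassFunction.of_isConj hcf (C.isConj_t_of_orderOf hno2 (C.orderOf_s_even 2))).symm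
  have es6 : χ (C.s * C.x ^ 6) = χ C.t :=
    (IsClassFunction.of_isConj hcf (C.isConj_t_of_orderOf hno2 (C.orderOf_s_even 3))).symm
  have es1 : χ (C.s * C.x ^ 1) = χ (C.x ^ 2) :=
    (IsClassFunction.of_isConj hcf (C.isConj_x2_s_odd 0)).symm
  have es3 : χ (C.s * C.x ^ 3) = χ (C.x ^ 2) :=
    (IsClassFunction.of_isConj hcf (C.isConj_x2_s_odd 1)).symm
  have es5 : χ (C.s * C.x ^ 5) = χ (C.x ^ 2) :=
    (IsClassFunction.of_isConj hcf (C.isConj_x2_s_odd 2)).symm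
  have es7 : χ (C.s * C.x ^ 7) = χ (C.x ^ 2) :=
    (IsClassFunction.of_isConj hcf (C.isConj_x2_s_odd 3)).symm
  have e0 : χ (C.x ^ 0) = χ 1 := by rw [pow_zero]
  have e1 : χ (C.x ^ 1) = χ C.x := by rw [pow_one]
  have e4 : χ (C.x ^ 4) = χ C.t := by rw [C.hx4]
  simp only [Finset.sum_range_succ, Finset.sum_range_zero, zero_add, e0, e1, e3, e4, e6, e7,
    es0, es1, es2, es3, es4, es5, es6, es7] at h0 h1 h2 h3
  norm_num at h0 h1 h2 h3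
  refine ⟨m0, m1, m2, m3, ?_, ?_, ?_, ?_⟩
  · linear_combination (1 / 16 : ℂ) * h0 + (7 / 16 : ℂ) * h1 + (5 / 16 : ℂ) * h2 + (3 / 16 : ℂ) * h3
  · linear_combination (1 / 16 : ℂ) * h0 - (1 / 16 : ℂ) * h1 + (1 / 16 : ℂ) * h2 - (1 / 16 : ℂ) * h3
  · linear_combination (1 / 16 : ℂ) * h0 - (1 / 16 : ℂ) * h1 - (1 / 16 : ℂ) * h2 + (1 / 16 : ℂ) * h3
  · linear_combination (1 / 8 : ℂ) * h0 + (1 / 8 : ℂ) * h1 - (1 / 8 : ℂ) * h2 - (1 / 8 : ℂ) * h3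

end fintype

end Hyp

end Cfsg.Agent.Lib.Helper6.GL23
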