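/-
helper6: Brauer GL(2,3), part F: combinatorial lemmas on integer vectors of small norm.
-/
import Mathlib
import Cfsg.Agent.Lib.Helper6.D8C

set_option autoImplicit false

namespace Cfsg.Agent.Lib.Helper6.GL23

open Cfsg.Agent.Lib.Helper6.D8Cent

theorem sum_three {ι : Type*} [Fintype ι] {M : Type*} [AddCommMonoid M] (x0 x1 x2 : ι)
    (h01 : x0 ≠ x1) (h02 : x0 ≠ x2) (h12 : x1 ≠ x2)
    (f : ι → M) (h0 : ∀ x, x ≠ x0 → x ≠ x1 → x ≠ x2 → f x = 0) :
    ∑ x, f x = f x0 + f x1 + f x2 := by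
  classical
  rw [← Finset.sum_subset (Finset.subset_univ {x0, x1, x2}) (fun x _ hx => by
    apply h0 x
    all_goals
      intro h
      apply hx
      simp [h])]
  rw [Finset.sum_insert (by simp [h01, h02]), Finset.sum_insert (by simp [h12]),
    Finset.sum_singleton]
  abel

theorem three_le_sum {ι : Type*} [Fintype ι] (x0 x1 x2 : ι)
    (h01 : x0 ≠ x1) (h02 : x0 ≠ x2) (h12 : x1 ≠ x2)
    (f : ι → ℤ) (h0 : ∀ x, 0 ≤ f x) :
    f x0 + f x1 + f x2 ≤ ∑ x, f x := by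
  classical
  have h := Finset.sum_le_sum_of_subset_of_nonneg (Finset.subset_univ {x0, x1, x2})
    (fun x _ _ => h0 x)
  rw [Finset.sum_insert (by simp [h01, h02]), Finset.sum_insert (by simp [h12]),
    Finset.sum_singleton] at h
  linarith

theorem five_le_sum {ι : Type*} [Fintype ι] (x0 x1 x2 x3 x4 : ι)
    (h01 : x0 ≠ x1) (h02 : x0 ≠ x2) (h03 : x0 ≠ x3) (h04 : x0 ≠ x4) (h12 : x1 ≠ x2) (h13 : x1 ≠ x3)
    (h14 : x1 ≠ x4) (h23 : x2 ≠ x3) (h24 : x2 ≠ x4) (h34 : x3 ≠ x4)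
    (f : ι → ℤ) (h0 : ∀ x, 0 ≤ f x) :
    f x0 + f x1 + f x2 + f x3 + f x4 ≤ ∑ x, f x := by
  classical
  have h := Finset.sum_le_sum_of_subset_of_nonneg (Finset.subset_univ {x0, x1, x2, x3, x4})
    (fun x _ _ => h0 x)
  rw [Finset.sum_insert (by simp [h01, h02, h03, h04]), Finset.sum_insert (by simp [h12, h13, h14]),
    Finset.sum_insert (by simp [h23, h24]), Finset.sum_insert (by simp [h34]),
    Finset.sum_singleton] at h
  linarith

/-- If integers `c x` have squares summing to `3` and `c x0 = 1`, then exactly two other values are `±1`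
and the rest vanish. -/
theorem exists_two {ι : Type*} [Fintype ι] (c : ι → ℤ) (x0 : ι) (h0 : c x0 = 1)
    (hsum : ∑ x, c x ^ 2 = 3) :
    ∃ x1 x2 : ι, x0 ≠ x1 ∧ x0 ≠ x2 ∧ x1 ≠ x2 ∧
      (c x1 = 1 ∨ c x1 = -1) ∧ (c x2 = 1 ∨ c x2 = -1) ∧
      ∀ x, x ≠ x0 → x ≠ x1 → x ≠ x2 → c x = 0 := by
  classical
  set S : Finset ι := (Finset.univ.erase x0).filter (fun x => c x ≠ 0) with hS
  have hsumS : ∑ x ∈ S, c x ^ 2 = 2 := by
    have h1 : ∑ x ∈ S, c x ^ 2 = ∑ x ∈ Finset.univ.erase x0, c x ^ 2 := by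
      rw [hS, Finset.sum_filter]
      apply Finset.sum_congr rfl
      intro x _
      by_cases hx : c x = 0
      · simp [hx]
      · simp [hx]
    have h2 := Finset.add_sum_erase Finset.univ (fun x => c x ^ 2) (Finset.mem_univ x0)
    simp only [h0] at h2
    rw [h1]
    linarith
  have hone : ∀ x ∈ S, c x = 1 ∨ c x = -1 := by
    intro x hx
    have hle : c x ^ 2 ≤ 2 := by
      rw [← hsumS]
      exact Finset.single_le_sum (f := fun x => c x ^ 2) (fun y _ => sq_nonneg _) hx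
    have hne : c x ≠ 0 := by
      rw [hS, Finset.mem_filter] at hx
      exact hx.2
    have h1 : c x ≤ 1 := by nlinarith
    have h2 : -1 ≤ c x := by nlinarith
    omega
  have hcard : S.card = 2 := by
    have h1 : ∑ x ∈ S, c x ^ 2 = ∑ x ∈ S, (1 : ℤ) := by
      apply Finset.sum_congr rfl
      intro x hx
      rcases hone x hx with h | h <;> rw [h] <;> norm_num
    rw [hsumS, Finset.sum_const, nsmul_eq_mul, mul_one] at h1
    exact_mod_cast h1.symm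
  obtain ⟨x1, x2, h12, hS2⟩ := Finset.card_eq_two.1 hcard
  have hm1 : x1 ∈ S := by rw [hS2]; simp
  have hm2 : x2 ∈ S := by rw [hS2]; simp
  have hne : ∀ x ∈ S, x0 ≠ x := by
    intro x hx h
    rw [hS, Finset.mem_filter, Finset.mem_erase] at hx
    exact hx.1.1 h.symm
  refine ⟨x1, x2, hne x1 hm1, hne x2 hm2, h12, hone x1 hm1, hone x2 hm2, ?_⟩
  intro x hx0 hx1 hx2
  by_contra hcx
  have hxS : x ∈ S := by
    rw [hS, Finset.mem_filter, Finset.mem_erase]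
    exact ⟨⟨hx0, Finset.mem_univ _⟩, hcx⟩
  rw [hS2] at hxS
  simp at hxS
  rcases hxS with h | h
  · exact hx1 h
  · exact hx2 h

/-- reordering three elements so that a given one comes first -/
theorem reorder_three {ι : Type*} {x1 x2 x3 A : ι} (h12 : x1 ≠ x2) (h13 : x1 ≠ x3) (h23 : x2 ≠ x3)
    (hA : A = x1 ∨ A = x2 ∨ A = x3) (Q : ι → Prop) (h1 : Q x1) (h2 : Q x2) (h3 : Q x3) :
    ∃ Y2 Y3 : ι, A ≠ Y2 ∧ A ≠ Y3 ∧ Y2 ≠ Y3 ∧ Q Y2 ∧ Q Y3 ∧
      ∀ x, x ≠ A → x ≠ Y2 → x ≠ Y3 → (x ≠ x1 ∧ x ≠ x2 ∧ x ≠ x3) := by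
  rcases hA with rfl | rfl | rfl
  · exact ⟨x2, x3, h12, h13, h23, h2, h3, fun x a b c => ⟨a, b, c⟩⟩
  · exact ⟨x1, x3, h12.symm, h23, h13, h1, h3, fun x a b c => ⟨b, a, c⟩⟩
  · exact ⟨x1, x2, h13.symm, h23.symm, h12, h1, h2, fun x a b c => ⟨b, c, a⟩⟩

end Cfsg.Agent.Lib.Helper6.GL23
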