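/-
helper6: Brauer GL(2,3), part G: the integer data attached to the irreducible characters and the
orthogonality relations between the columns `1`, `t`, `x^2`, `x + x^5`.
-/
import Mathlib
import Cfsg.Agent.Lib.Helper6.GL23E2
import Cfsg.Agent.Lib.Helper6.GL23F
import Cfsg.Agent.Lib.Helper6.D8C2

set_option autoImplicit false

namespace Cfsg.Agent.Lib.Helper6.GL23

open Cfsg Cfsg.Agent.CharLib Cfsg.Agent.Lib.Helper6 Cfsg.Agent.Lib.Helper6.D8Cent
open scoped ComplexConjugate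

universe u

/-- local structure of a character restricted to `N` -/
def MS (d : ℕ) (τ u P : ℤ) : Prop :=
  ∃ m0 m1 m2 m3 : ℕ, (d : ℤ) = m0 + 7 * m1 + 5 * m2 + 3 * m3 ∧ τ = m0 - m1 + m2 - m3 ∧
    u = m0 - m1 - m2 + m3 ∧ P = m0 + m1 - m2 - m3

/-- the integer data attached to the irreducible characters -/
structure Data {G : Type u} [Group G] (C : Hyp G) where
  d : IrrCharacter G → ℕ
  τ : IrrCharacter G → ℤ
  u : IrrCharacter G → ℤ
  P : IrrCharacter G → ℤ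
  a : IrrCharacter G → ℤ
  hd : ∀ χ : IrrCharacter G, (χ : G → ℂ) 1 = d χ
  hτ : ∀ χ : IrrCharacter G, (χ : G → ℂ) C.t = τ χ
  hu : ∀ χ : IrrCharacter G, (χ : G → ℂ) (C.x ^ 2) = u χ
  hP : ∀ χ : IrrCharacter G, (χ : G → ℂ) C.x + (χ : G → ℂ) (C.x ^ 5) = 2 * P χ
  hMS : ∀ χ : IrrCharacter G, MS (d χ) (τ χ) (u χ) (P χ)
  ha : ∀ χ : IrrCharacter G, 2 * a χ = P χ + u χ
  hdpos : ∀ χ : IrrCharacter G, 0 < d χ

namespace Hyp

variable {G : Type u} [Group G] [Fintype G] (C : Hyp G)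

theorem exists_data (hno2 : ∀ M : Subgroup G, M.Normal → M.index ≠ 2) : Nonempty (Data C) := by
  choose m0 m1 m2 m3 h using fun χ : IrrCharacter G => C.values hno2 (IsIrrCharacter.isCharacter χ.2)
  have hd : ∀ χ : IrrCharacter G, (χ : G → ℂ) 1 = ((m0 χ + 7 * m1 χ + 5 * m2 χ + 3 * m3 χ : ℕ) : ℂ) := by
    intro χ
    rw [(h χ).1]
    push_cast
    ring
  refine ⟨⟨fun χ => m0 χ + 7 * m1 χ + 5 * m2 χ + 3 * m3 χ, fun χ => m0 χ - m1 χ + m2 χ - m3 χ,
    fun χ => m0 χ - m1 χ - m2 χ + m3 χ, fun χ => m0 χ + m1 χ - m2 χ - m3 χ, fun χ => m0 χ - m2 χ,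
    hd, ?_, ?_, ?_, ?_, ?_, ?_⟩⟩
  · intro χ
    rw [(h χ).2.1]
    push_cast
    ring
  · intro χ
    rw [(h χ).2.2.1]
    push_cast
    ring
  · intro χ
    rw [(h χ).2.2.2]
    push_cast
    ring
  · intro χ
    exact ⟨m0 χ, m1 χ, m2 χ, m3 χ, by push_cast; ring, rfl, rfl, rfl⟩
  · intro χ
    ring
  · intro χ
    obtain ⟨n, hn, h1⟩ := IsIrrCharacter.apply_one_pos χ.2
    have h2 := hd χ
    rw [h1] at h2
    have h3 : n = m0 χ + 7 * m1 χ + 5 * m2 χ + 3 * m3 χ := by exact_mod_cast h2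
    show 0 < m0 χ + 7 * m1 χ + 5 * m2 χ + 3 * m3 χ
    omega

end Hyp

section cols

variable {G : Type u} [Group G] [Fintype G] [Fintype (IrrCharacter G)]

theorem col_orth {g h : G} (hgh : ¬ IsConj g h) :
    ∑ χ : IrrCharacter G, (χ : G → ℂ) g * conj ((χ : G → ℂ) h) = 0 := by
  rw [sum_irr_mul_conj, classIndicator_of_not hgh, zero_mul]

theorem col_self (g : G) :
    ∑ χ : IrrCharacter G, (χ : G → ℂ) g * conj ((χ : G → ℂ) g) =
      (Nat.card (Subgroup.centralizer ({g} : Set G)) : ℂ) := by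
  rw [sum_irr_mul_conj, classIndicator_self, one_mul]

theorem sum_int_of_orth (f1 f2 : IrrCharacter G → ℤ) (F1 F2 : IrrCharacter G → ℂ)
    (h1 : ∀ χ, F1 χ = f1 χ) (h2 : ∀ χ, F2 χ = f2 χ) (c : ℤ)
    (h : ∑ χ : IrrCharacter G, F1 χ * conj (F2 χ) = c) : ∑ χ : IrrCharacter G, f1 χ * f2 χ = c := by
  have h3 : ∀ χ : IrrCharacter G, F1 χ * conj (F2 χ) = ((f1 χ * f2 χ : ℤ) : ℂ) := by
    intro χ
    rw [h1, h2, map_intCast]
    push_cast
    ring
  simp only [h3] at h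
  exact_mod_cast h

end cols

namespace Data

variable {G : Type u} [Group G] [Fintype G] [Fintype (IrrCharacter G)] {C : Hyp G} (D : Data C)

theorem hd' (χ : IrrCharacter G) : (χ : G → ℂ) 1 = ((D.d χ : ℤ) : ℂ) := by
  rw [D.hd χ]
  norm_cast

theorem hP' (χ : IrrCharacter G) :
    (χ : G → ℂ) C.x + (χ : G → ℂ) (C.x ^ 5) = ((2 * D.P χ : ℤ) : ℂ) := by
  rw [D.hP χ]
  push_cast
  ring

theorem sum_uu : ∑ χ : IrrCharacter G, D.u χ * D.u χ = 8 := by
  apply sum_int_of_orth _ _ _ _ D.hu D.hu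
  rw [col_self, C.card_centralizer_x2]
  norm_num

theorem sum_ττ : ∑ χ : IrrCharacter G, D.τ χ * D.τ χ = 48 := by
  apply sum_int_of_orth _ _ _ _ D.hτ D.hτ
  rw [col_self, C.cardH]
  norm_num

theorem sum_dd : ∑ χ : IrrCharacter G, (D.d χ : ℤ) * (D.d χ : ℤ) = (Nat.card G : ℤ) := by
  apply sum_int_of_orth _ _ _ _ D.hd' D.hd'
  rw [col_self]
  have : Subgroup.centralizer ({1} : Set G) = ⊤ := by
    ext g
    rw [Subgroup.mem_centralizer_singleton_iff]
    simp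
  rw [this, Nat.card_congr Subgroup.topEquiv.toEquiv]
  norm_cast

theorem sum_ud : ∑ χ : IrrCharacter G, D.u χ * (D.d χ : ℤ) = 0 := by
  apply sum_int_of_orth _ _ _ _ D.hu D.hd'
  rw [col_orth]
  · norm_num
  · apply not_isConj_of_orderOf_ne
    rw [C.orderOf_x2, orderOf_one]
    norm_num

theorem sum_uτ : ∑ χ : IrrCharacter G, D.u χ * D.τ χ = 0 := by
  apply sum_int_of_orth _ _ _ _ D.hu D.hτ
  rw [col_orth]
  · norm_num
  · apply not_isConj_of_orderOf_ne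
    rw [C.orderOf_x2, C.ht]
    norm_num

theorem sum_2P_col {h : G} (h1 : ¬ IsConj C.x h) (h5 : ¬ IsConj (C.x ^ 5) h) :
    ∑ χ : IrrCharacter G, ((χ : G → ℂ) C.x + (χ : G → ℂ) (C.x ^ 5)) * conj ((χ : G → ℂ) h) = 0 := by
  simp only [add_mul, Finset.sum_add_distrib]
  rw [col_orth h1, col_orth h5, add_zero]

theorem sum_2Pd : ∑ χ : IrrCharacter G, (2 * D.P χ) * (D.d χ : ℤ) = 0 := by
  apply sum_int_of_orth _ _ _ _ D.hP' D.hd'
  rw [sum_2P_col]
  · norm_num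
  · apply not_isConj_of_orderOf_ne
    rw [C.orderOf_x, orderOf_one]
    norm_num
  · apply not_isConj_of_orderOf_ne
    rw [C.orderOf_x5, orderOf_one]
    norm_num

theorem sum_2Pτ : ∑ χ : IrrCharacter G, (2 * D.P χ) * D.τ χ = 0 := by
  apply sum_int_of_orth _ _ _ _ D.hP' D.hτ
  rw [sum_2P_col]
  · norm_num
  · apply not_isConj_of_orderOf_ne
    rw [C.orderOf_x, C.ht]
    norm_num
  · apply not_isConj_of_orderOf_ne
    rw [C.orderOf_x5, C.ht]
    norm_num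

theorem sum_2Pu : ∑ χ : IrrCharacter G, (2 * D.P χ) * D.u χ = 0 := by
  apply sum_int_of_orth _ _ _ _ D.hP' D.hu
  rw [sum_2P_col]
  · norm_num
  · apply not_isConj_of_orderOf_ne
    rw [C.orderOf_x, C.orderOf_x2]
    norm_num
  · apply not_isConj_of_orderOf_ne
    rw [C.orderOf_x5, C.orderOf_x2]
    norm_num

theorem sum_2P2P : ∑ χ : IrrCharacter G, (2 * D.P χ) * (2 * D.P χ) = 16 := by
  apply sum_int_of_orth _ _ _ _ D.hP' D.hP'
  simp only [map_add, mul_add, add_mul, Finset.sum_add_distrib]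
  rw [col_self, col_self, col_orth C.not_isConj_x_x5, col_orth C.not_isConj_x5_x,
    C.card_centralizer_x, C.card_centralizer_x5]
  norm_num

theorem sum_PP : ∑ χ : IrrCharacter G, D.P χ * D.P χ = 4 := by
  have h := D.sum_2P2P
  have h2 : ∑ χ : IrrCharacter G, (2 * D.P χ) * (2 * D.P χ) = 4 * ∑ χ : IrrCharacter G, D.P χ * D.P χ := by
    rw [Finset.mul_sum]
    apply Finset.sum_congr rfl
    intro χ _
    ring
  rw [h2] at h
  omega

theorem sum_Pu : ∑ χ : IrrCharacter G, D.P χ * D.u χ = 0 := by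
  have h := D.sum_2Pu
  have h2 : ∑ χ : IrrCharacter G, (2 * D.P χ) * D.u χ = 2 * ∑ χ : IrrCharacter G, D.P χ * D.u χ := by
    rw [Finset.mul_sum]
    apply Finset.sum_congr rfl
    intro χ _
    ring
  rw [h2] at h
  omega

theorem sum_Pd : ∑ χ : IrrCharacter G, D.P χ * (D.d χ : ℤ) = 0 := by
  have h := D.sum_2Pd
  have h2 : ∑ χ : IrrCharacter G, (2 * D.P χ) * (D.d χ : ℤ) =
      2 * ∑ χ : IrrCharacter G, D.P χ * (D.d χ : ℤ) := by
    rw [Finset.mul_sum]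
    apply Finset.sum_congr rfl
    intro χ _
    ring
  rw [h2] at h
  omega

theorem sum_Pτ : ∑ χ : IrrCharacter G, D.P χ * D.τ χ = 0 := by
  have h := D.sum_2Pτ
  have h2 : ∑ χ : IrrCharacter G, (2 * D.P χ) * D.τ χ = 2 * ∑ χ : IrrCharacter G, D.P χ * D.τ χ := by
    rw [Finset.mul_sum]
    apply Finset.sum_congr rfl
    intro χ _
    ring
  rw [h2] at h
  omega

/-- sums against `a` from sums against `P` and `u` -/
theorem sum_a_mul (f : IrrCharacter G → ℤ) :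
    2 * ∑ χ : IrrCharacter G, D.a χ * f χ =
      ∑ χ : IrrCharacter G, D.P χ * f χ + ∑ χ : IrrCharacter G, D.u χ * f χ := by
  rw [Finset.mul_sum, ← Finset.sum_add_distrib]
  apply Finset.sum_congr rfl
  intro χ _
  rw [← mul_assoc, D.ha χ]
  ring

theorem sum_ad : ∑ χ : IrrCharacter G, D.a χ * (D.d χ : ℤ) = 0 := by
  have h := D.sum_a_mul (fun χ => (D.d χ : ℤ))
  rw [D.sum_Pd, D.sum_ud] at h
  omega

theorem sum_aτ : ∑ χ : IrrCharacter G, D.a χ * D.τ χ = 0 := by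
  have h := D.sum_a_mul D.τ
  rw [D.sum_Pτ, D.sum_uτ] at h
  omega

theorem sum_aP : ∑ χ : IrrCharacter G, D.a χ * D.P χ = 2 := by
  have h := D.sum_a_mul D.P
  have h2 : ∑ χ : IrrCharacter G, D.u χ * D.P χ = ∑ χ : IrrCharacter G, D.P χ * D.u χ := by
    apply Finset.sum_congr rfl
    intro χ _
    ring
  rw [D.sum_PP, h2, D.sum_Pu] at h
  omega

theorem sum_au : ∑ χ : IrrCharacter G, D.a χ * D.u χ = 4 := by
  have h := D.sum_a_mul D.u
  rw [D.sum_Pu, D.sum_uu] at h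
  omega

theorem sum_aa : ∑ χ : IrrCharacter G, D.a χ * D.a χ = 3 := by
  have h := D.sum_a_mul D.a
  have h2 : ∑ χ : IrrCharacter G, D.P χ * D.a χ = ∑ χ : IrrCharacter G, D.a χ * D.P χ := by
    apply Finset.sum_congr rfl
    intro χ _
    ring
  have h3 : ∑ χ : IrrCharacter G, D.u χ * D.a χ = ∑ χ : IrrCharacter G, D.a χ * D.u χ := by
    apply Finset.sum_congr rfl
    intro χ _
    ring
  rw [h2, h3, D.sum_aP, D.sum_au] at h
  omega

end Data

end Cfsg.Agent.Lib.Helper6.GL23
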