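/-
helper6: Brauer GL(2,3), part G2: the class-multiplication relations.
-/
import Mathlib
import Cfsg.Agent.Lib.Helper6.GL23G
import Cfsg.Agent.S0840

set_option autoImplicit false

namespace Cfsg.Agent.Lib.Helper6.GL23

open Cfsg Cfsg.Agent.CharLib Cfsg.Agent.Lib.Helper6 Cfsg.Agent.Lib.Helper6.D8Cent
open scoped ComplexConjugate

universe u

namespace Data

variable {G : Type u} [Group G] [Fintype G] [Fintype (IrrCharacter G)] {C : Hyp G} (D : Data C)

/-- the weight `τ^2 / d` -/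
noncomputable def T (χ : IrrCharacter G) : ℂ := ((D.τ χ : ℤ) : ℂ) ^ 2 / ((D.d χ : ℕ) : ℂ)

include D in
theorem card_class_t : (Nat.card {x : G // IsConj C.t x} : ℂ) * 48 = (Nat.card G : ℂ) := by
  have h := card_conj_mul_card_centralizer C.t
  have h2 : Nat.card {x : G // IsConj C.t x} = Nat.card {x : G // IsConj x C.t} :=
    Nat.card_congr (Equiv.subtypeEquivRight (fun x => isConj_comm))
  rw [← h2, C.cardH] at h
  exact_mod_cast h

theorem count_eq (c : G) :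
    (Nat.card {p : G × G // IsConj C.t p.1 ∧ IsConj C.t p.2 ∧ p.1 * p.2 = c} : ℂ) =
      (Nat.card G : ℂ) / 2304 * ∑ χ : IrrCharacter G, D.T χ * conj ((χ : G → ℂ) c) := by
  have h := Cfsg.Agent.S0840.result C.t C.t c
  rw [finsum_eq_sum_of_fintype] at h
  have h2 : ∀ χ : IrrCharacter G, (χ : G → ℂ) C.t * (χ : G → ℂ) C.t * conj ((χ : G → ℂ) c) /
      (χ : G → ℂ) 1 = D.T χ * conj ((χ : G → ℂ) c) := by
    intro χ
    rw [D.hτ χ, D.hd χ]
    unfold T
    ring
  simp only [h2] at h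
  rw [h]
  have hK := D.card_class_t
  have hN : (Nat.card G : ℂ) ≠ 0 := card_ne_zero_complex
  set K : ℂ := (Nat.card {x : G // IsConj C.t x} : ℂ) with hKdef
  have hK' : K = (Nat.card G : ℂ) / 48 := by
    rw [← hK]
    ring
  rw [hK']
  field_simp
  ring

theorem sum_T_x : ∑ χ : IrrCharacter G, D.T χ * conj ((χ : G → ℂ) C.x) = 0 := by
  have h := D.count_eq C.x
  rw [C.card_pairs_x, Nat.cast_zero] at h
  have hN : (Nat.card G : ℂ) ≠ 0 := card_ne_zero_complex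
  have h2 : (Nat.card G : ℂ) / 2304 ≠ 0 := by
    apply div_ne_zero hN
    norm_num
  rcases mul_eq_zero.1 h.symm with h3 | h3
  · exact absurd (by exact_mod_cast h3) h2
  · exact h3

theorem sum_T_x5 : ∑ χ : IrrCharacter G, D.T χ * conj ((χ : G → ℂ) (C.x ^ 5)) = 0 := by
  have h := D.count_eq (C.x ^ 5)
  rw [C.card_pairs_x5, Nat.cast_zero] at h
  have hN : (Nat.card G : ℂ) ≠ 0 := card_ne_zero_complex
  have h2 : (Nat.card G : ℂ) / 2304 ≠ 0 := by
    apply div_ne_zero hN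
    norm_num
  rcases mul_eq_zero.1 h.symm with h3 | h3
  · exact absurd (by exact_mod_cast h3) h2
  · exact h3

theorem sum_PT : ∑ χ : IrrCharacter G, ((D.P χ : ℤ) : ℂ) * D.T χ = 0 := by
  have h1 := D.sum_T_x
  have h5 := D.sum_T_x5
  have h : ∑ χ : IrrCharacter G, D.T χ * conj ((χ : G → ℂ) C.x + (χ : G → ℂ) (C.x ^ 5)) = 0 := by
    simp only [map_add, mul_add, Finset.sum_add_distrib]
    rw [h1, h5, add_zero]
  have h2 : ∀ χ : IrrCharacter G, D.T χ * conj ((χ : G → ℂ) C.x + (χ : G → ℂ) (C.x ^ 5)) =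
      2 * (((D.P χ : ℤ) : ℂ) * D.T χ) := by
    intro χ
    rw [D.hP' χ, map_intCast]
    push_cast
    ring
  simp only [h2] at h
  rw [← Finset.mul_sum] at h
  rcases mul_eq_zero.1 h with h3 | h3
  · norm_num at h3
  · exact h3

theorem sum_uT (hno2 : ∀ M : Subgroup G, M.Normal → M.index ≠ 2) :
    ∑ χ : IrrCharacter G, ((D.u χ : ℤ) : ℂ) * D.T χ = 9216 / (Nat.card G : ℂ) := by
  have h := D.count_eq (C.x ^ 2)
  rw [C.card_pairs_x2 hno2] at h
  have hN : (Nat.card G : ℂ) ≠ 0 := card_ne_zero_complex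
  have h2 : ∀ χ : IrrCharacter G, D.T χ * conj ((χ : G → ℂ) (C.x ^ 2)) = ((D.u χ : ℤ) : ℂ) * D.T χ := by
    intro χ
    rw [D.hu χ, map_intCast]
    ring
  simp only [h2] at h
  field_simp
  push_cast at h
  field_simp at h
  linear_combination (-1 : ℂ) * h

theorem sum_aT (hno2 : ∀ M : Subgroup G, M.Normal → M.index ≠ 2) :
    ∑ χ : IrrCharacter G, ((D.a χ : ℤ) : ℂ) * D.T χ = 4608 / (Nat.card G : ℂ) := by
  have h1 := D.sum_PT
  have h2 := D.sum_uT hno2
  have h3 : 2 * ∑ χ : IrrCharacter G, ((D.a χ : ℤ) : ℂ) * D.T χ =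
      ∑ χ : IrrCharacter G, ((D.P χ : ℤ) : ℂ) * D.T χ + ∑ χ : IrrCharacter G, ((D.u χ : ℤ) : ℂ) * D.T χ := by
    rw [Finset.mul_sum, ← Finset.sum_add_distrib]
    apply Finset.sum_congr rfl
    intro χ _
    have := D.ha χ
    have h4 : (2 : ℂ) * ((D.a χ : ℤ) : ℂ) = ((D.P χ : ℤ) : ℂ) + ((D.u χ : ℤ) : ℂ) := by
      exact_mod_cast this
    linear_combination D.T χ * h4
  rw [h1, h2, zero_add] at h3
  linear_combination (1 / 2 : ℂ) * h3

end Data

end Cfsg.Agent.Lib.Helper6.GL23
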