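/-
helper6: Brauer GL(2,3), part H: extraction of the exceptional characters and the key relations.
-/
import Mathlib
import Cfsg.Agent.Lib.Helper6.GL23G2

set_option autoImplicit false

namespace Cfsg.Agent.Lib.Helper6.GL23

open Cfsg Cfsg.Agent.CharLib Cfsg.Agent.Lib.Helper6 Cfsg.Agent.Lib.Helper6.D8Cent
open scoped ComplexConjugate

universe u

namespace Data

variable {G : Type u} [Group G] [Fintype G] [Fintype (IrrCharacter G)] {C : Hyp G} (D : Data C)

theorem d_triv : D.d (triv G) = 1 := by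
  have := D.hd (triv G)
  rw [triv_apply] at this
  exact_mod_cast this.symm

theorem τ_triv : D.τ (triv G) = 1 := by
  have := D.hτ (triv G)
  rw [triv_apply] at this
  exact_mod_cast this.symm

theorem u_triv : D.u (triv G) = 1 := by
  have := D.hu (triv G)
  rw [triv_apply] at this
  exact_mod_cast this.symm

theorem P_triv : D.P (triv G) = 1 := by
  have := D.hP (triv G)
  rw [triv_apply, triv_apply] at this
  have h2 : ((2 : ℤ) : ℂ) = ((2 * D.P (triv G) : ℤ) : ℂ) := by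
    push_cast
    rw [← this]
    norm_num
  have h3 : (2 : ℤ) = 2 * D.P (triv G) := by exact_mod_cast h2
  omega

theorem a_triv : D.a (triv G) = 1 := by
  have := D.ha (triv G)
  rw [D.P_triv, D.u_triv] at this
  omega

theorem T_triv : D.T (triv G) = 1 := by
  unfold T
  rw [D.τ_triv, D.d_triv]
  norm_num

/-- the two exceptional characters for the column `a = (P + u) / 2` -/
theorem exists_AB : ∃ A B : IrrCharacter G, triv G ≠ A ∧ triv G ≠ B ∧ A ≠ B ∧
    (D.a A = 1 ∨ D.a A = -1) ∧ (D.a B = 1 ∨ D.a B = -1) ∧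
    (∀ χ, χ ≠ triv G → χ ≠ A → χ ≠ B → D.a χ = 0) ∧ D.P A = D.a A ∧ D.P B = 0 := by
  have hsa : ∑ χ : IrrCharacter G, D.a χ ^ 2 = 3 := by
    rw [← D.sum_aa]
    apply Finset.sum_congr rfl
    intro χ _
    ring
  obtain ⟨A, B, h0A, h0B, hAB, haA, haB, harest⟩ := exists_two D.a (triv G) D.a_triv hsa
  have h1 := D.sum_aP
  rw [sum_three (triv G) A B h0A h0B hAB (fun χ => D.a χ * D.P χ)
    (fun χ a0 a1 a2 => by rw [harest χ a0 a1 a2, zero_mul]), D.a_triv, D.P_triv] at h1
  have h2 := three_le_sum (triv G) A B h0A h0B hAB (fun χ => D.P χ * D.P χ)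
    (fun χ => mul_self_nonneg _)
  rw [D.sum_PP, D.P_triv] at h2
  have hA1 : D.P A ≤ 1 := by nlinarith [mul_self_nonneg (D.P B)]
  have hA2 : -1 ≤ D.P A := by nlinarith [mul_self_nonneg (D.P B)]
  have hB1 : D.P B ≤ 1 := by nlinarith [mul_self_nonneg (D.P A)]
  have hB2 : -1 ≤ D.P B := by nlinarith [mul_self_nonneg (D.P A)]
  have hcases : (D.P A = D.a A ∧ D.P B = 0) ∨ (D.P A = 0 ∧ D.P B = D.a B) := by
    rcases haA with h | h <;> rcases haB with h' | h' <;> rw [h, h'] at h1 ⊢ <;> omega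
  rcases hcases with ⟨hPA, hPB⟩ | ⟨hPA, hPB⟩
  · exact ⟨A, B, h0A, h0B, hAB, haA, haB, harest, hPA, hPB⟩
  · exact ⟨B, A, h0B, h0A, hAB.symm, haB, haA, fun χ a0 a1 a2 => harest χ a0 a2 a1, hPB, hPA⟩

end Data

end Cfsg.Agent.Lib.Helper6.GL23
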