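/-
helper6: Brauer GL(2,3), part H2: the key arithmetic relations.
-/
import Mathlib
import Cfsg.Agent.Lib.Helper6.GL23H

set_option autoImplicit false

namespace Cfsg.Agent.Lib.Helper6.GL23

open Cfsg Cfsg.Agent.CharLib Cfsg.Agent.Lib.Helper6 Cfsg.Agent.Lib.Helper6.D8Cent
open scoped ComplexConjugate

universe u

namespace Hyp

variable {G : Type u} [Group G] [Fintype G] (C : Hyp G)

include C in
set_option maxHeartbeats 1600000 in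
theorem key (hno2 : ∀ M : Subgroup G, M.Normal → M.index ≠ 2) :
    ∃ (ε εB η2 η3 : ℤ) (dA dB d2 d3 : ℕ) (τA τB τ2 τ3 : ℤ),
      (ε = 1 ∨ ε = -1) ∧ (εB = 1 ∨ εB = -1) ∧ (η2 = 1 ∨ η2 = -1) ∧ (η3 = 1 ∨ η3 = -1) ∧
      MS dA τA ε ε ∧ MS dB τB (2 * εB) 0 ∧ MS d2 τ2 (-η2) η2 ∧ MS d3 τ3 (-η3) η3 ∧
      0 < dA ∧ 0 < dB ∧ 0 < d2 ∧ 0 < d3 ∧
      1 + ε * dA + εB * dB = 0 ∧
      1 + ε * τA + εB * τB = 0 ∧
      (Nat.card G : ℤ) * (dA * dB + ε * τA ^ 2 * dB + εB * τB ^ 2 * dA) = 4608 * (dA * dB) ∧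
      1 + ε * dA + η2 * d2 + η3 * d3 = 0 ∧
      1 + ε * τA + η2 * τ2 + η3 * τ3 = 0 ∧
      (dA * d2 * d3 + ε * τA ^ 2 * d2 * d3 + η2 * τ2 ^ 2 * dA * d3 + η3 * τ3 ^ 2 * dA * d2 : ℤ) = 0 ∧
      1 + τA ^ 2 + τB ^ 2 + τ2 ^ 2 + τ3 ^ 2 ≤ 48 ∧
      (1 + dA ^ 2 + dB ^ 2 + d2 ^ 2 + d3 ^ 2 : ℤ) ≤ Nat.card G := by
  classical
  let _ := fintypeIrr G
  obtain ⟨D⟩ := C.exists_data hno2
  obtain ⟨A, B, h0A, h0B, hAB, haA, haB, harest, hPA, hPB⟩ := D.exists_AB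
  -- the P-vector
  have hsP : ∑ χ : IrrCharacter G, D.P χ ^ 2 = 4 := by
    rw [← D.sum_PP]
    apply Finset.sum_congr rfl
    intro χ _
    ring
  obtain ⟨x1, x2, x3, h01, h02, h03, h12, h13, h23, hP1, hP2, hP3, hPrest⟩ :=
    exists_three D.P (triv G) D.P_triv hsP
  have hPA0 : D.P A ≠ 0 := by
    rw [hPA]
    rcases haA with h | h <;> rw [h] <;> norm_num
  have hAmem : A = x1 ∨ A = x2 ∨ A = x3 := by
    by_contra hcon
    push Not at hcon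
    exact hPA0 (hPrest A h0A.symm hcon.1 hcon.2.1 hcon.2.2)
  obtain ⟨Y2, Y3, hAY2, hAY3, hY23, ⟨h0Y2, hPY2⟩, ⟨h0Y3, hPY3⟩, hYrest⟩ :=
    reorder_three h12 h13 h23 hAmem (fun χ => triv G ≠ χ ∧ (D.P χ = 1 ∨ D.P χ = -1))
      ⟨h01, hP1⟩ ⟨h02, hP2⟩ ⟨h03, hP3⟩
  have hPrest' : ∀ χ, χ ≠ triv G → χ ≠ A → χ ≠ Y2 → χ ≠ Y3 → D.P χ = 0 := by
    intro χ a0 a1 a2 a3
    obtain ⟨b1, b2, b3⟩ := hYrest χ a1 a2 a3
    exact hPrest χ a0 b1 b2 b3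
  have hBY2 : B ≠ Y2 := by
    intro h
    rw [← h, hPB] at hPY2
    omega
  have hBY3 : B ≠ Y3 := by
    intro h
    rw [← h, hPB] at hPY3
    omega
  have haY2 : D.a Y2 = 0 := harest Y2 h0Y2.symm hAY2.symm hBY2.symm
  have haY3 : D.a Y3 = 0 := harest Y3 h0Y3.symm hAY3.symm hBY3.symm
  have huA : D.u A = D.a A := by
    have := D.ha A
    rw [hPA] at this
    omega
  have huB : D.u B = 2 * D.a B := by
    have := D.ha B
    rw [hPB] at this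
    omega
  have huY2 : D.u Y2 = -D.P Y2 := by
    have := D.ha Y2
    rw [haY2] at this
    omega
  have huY3 : D.u Y3 = -D.P Y3 := by
    have := D.ha Y3
    rw [haY3] at this
    omega
  -- sums weighted by `a`
  have hsumA : ∀ F : IrrCharacter G → ℤ, ∑ χ : IrrCharacter G, D.a χ * F χ =
      F (triv G) + D.a A * F A + D.a B * F B := by
    intro F
    rw [sum_three (triv G) A B h0A h0B hAB (fun χ => D.a χ * F χ)
      (fun χ a0 a1 a2 => by rw [harest χ a0 a1 a2, zero_mul]), D.a_triv, one_mul]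
  have hsumP : ∀ F : IrrCharacter G → ℤ, ∑ χ : IrrCharacter G, D.P χ * F χ =
      F (triv G) + D.a A * F A + D.P Y2 * F Y2 + D.P Y3 * F Y3 := by
    intro F
    rw [sum_four (triv G) A Y2 Y3 h0A h0Y2 h0Y3 hAY2 hAY3 hY23 (fun χ => D.P χ * F χ)
      (fun χ a0 a1 a2 a3 => by rw [hPrest' χ a0 a1 a2 a3, zero_mul]), D.P_triv, one_mul, hPA]
  have hsumAC : ∀ F : IrrCharacter G → ℂ, ∑ χ : IrrCharacter G, ((D.a χ : ℤ) : ℂ) * F χ =
      F (triv G) + ((D.a A : ℤ) : ℂ) * F A + ((D.a B : ℤ) : ℂ) * F B := by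
    intro F
    rw [sum_three (triv G) A B h0A h0B hAB (fun χ => ((D.a χ : ℤ) : ℂ) * F χ)
      (fun χ a0 a1 a2 => by rw [harest χ a0 a1 a2]; simp), D.a_triv]
    simp
  have hsumPC : ∀ F : IrrCharacter G → ℂ, ∑ χ : IrrCharacter G, ((D.P χ : ℤ) : ℂ) * F χ =
      F (triv G) + ((D.a A : ℤ) : ℂ) * F A + ((D.P Y2 : ℤ) : ℂ) * F Y2 + ((D.P Y3 : ℤ) : ℂ) * F Y3 := by
    intro F
    rw [sum_four (triv G) A Y2 Y3 h0A h0Y2 h0Y3 hAY2 hAY3 hY23 (fun χ => ((D.P χ : ℤ) : ℂ) * F χ)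
      (fun χ a0 a1 a2 a3 => by rw [hPrest' χ a0 a1 a2 a3]; simp), D.P_triv, hPA]
    simp
  -- the relations
  have e1 := D.sum_ad
  rw [hsumA (fun χ => (D.d χ : ℤ)), D.d_triv] at e1
  push_cast at e1
  have e2 := D.sum_aτ
  rw [hsumA D.τ, D.τ_triv] at e2
  have e4 := D.sum_Pd
  rw [hsumP (fun χ => (D.d χ : ℤ)), D.d_triv] at e4
  push_cast at e4
  have e5 := D.sum_Pτ
  rw [hsumP D.τ, D.τ_triv] at e5
  have hdA : ((D.d A : ℕ) : ℂ) ≠ 0 := by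
    have := D.hdpos A
    exact_mod_cast this.ne'
  have hdB : ((D.d B : ℕ) : ℂ) ≠ 0 := by
    have := D.hdpos B
    exact_mod_cast this.ne'
  have hd2 : ((D.d Y2 : ℕ) : ℂ) ≠ 0 := by
    have := D.hdpos Y2
    exact_mod_cast this.ne'
  have hd3 : ((D.d Y3 : ℕ) : ℂ) ≠ 0 := by
    have := D.hdpos Y3
    exact_mod_cast this.ne'
  have hN : (Nat.card G : ℂ) ≠ 0 := card_ne_zero_complex
  have e3 : (Nat.card G : ℤ) * (D.d A * D.d B + D.a A * D.τ A ^ 2 * D.d B + D.a B * D.τ B ^ 2 * D.d A) =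
      4608 * (D.d A * D.d B) := by
    have h := D.sum_aT hno2
    rw [hsumAC D.T, D.T_triv] at h
    unfold Data.T at h
    have h3 : (((Nat.card G : ℤ) * (D.d A * D.d B + D.a A * D.τ A ^ 2 * D.d B +
        D.a B * D.τ B ^ 2 * D.d A) : ℤ) : ℂ) = ((4608 * (D.d A * D.d B) : ℤ) : ℂ) := by
      push_cast
      field_simp at h
      linear_combination h
    exact_mod_cast h3
  have e6 : (D.d A * D.d Y2 * D.d Y3 + D.a A * D.τ A ^ 2 * D.d Y2 * D.d Y3 +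
      D.P Y2 * D.τ Y2 ^ 2 * D.d A * D.d Y3 + D.P Y3 * D.τ Y3 ^ 2 * D.d A * D.d Y2 : ℤ) = 0 := by
    have h := D.sum_PT
    rw [hsumPC D.T, D.T_triv] at h
    unfold Data.T at h
    have h3 : ((D.d A * D.d Y2 * D.d Y3 + D.a A * D.τ A ^ 2 * D.d Y2 * D.d Y3 +
      D.P Y2 * D.τ Y2 ^ 2 * D.d A * D.d Y3 + D.P Y3 * D.τ Y3 ^ 2 * D.d A * D.d Y2 : ℤ) : ℂ) = ((0 : ℤ) : ℂ) := by
      push_cast
      field_simp at h
      linear_combination h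
    exact_mod_cast h3
  -- inequalities
  have i1 := five_le_sum (triv G) A B Y2 Y3 h0A h0B h0Y2 h0Y3 hAB hAY2 hAY3 hBY2 hBY3 hY23
    (fun χ => D.τ χ * D.τ χ) (fun χ => mul_self_nonneg _)
  rw [D.sum_ττ, D.τ_triv] at i1
  have i2 := five_le_sum (triv G) A B Y2 Y3 h0A h0B h0Y2 h0Y3 hAB hAY2 hAY3 hBY2 hBY3 hY23
    (fun χ => (D.d χ : ℤ) * (D.d χ : ℤ)) (fun χ => mul_self_nonneg _)
  rw [D.sum_dd, D.d_triv] at i2
  -- local structures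
  have mA := D.hMS A
  rw [huA, hPA] at mA
  have mB := D.hMS B
  rw [huB, hPB] at mB
  have m2 := D.hMS Y2
  rw [huY2] at m2
  have m3 := D.hMS Y3
  rw [huY3] at m3
  refine ⟨D.a A, D.a B, D.P Y2, D.P Y3, D.d A, D.d B, D.d Y2, D.d Y3, D.τ A, D.τ B, D.τ Y2, D.τ Y3,
    haA, haB, hPY2, hPY3, mA, mB, m2, m3, D.hdpos A, D.hdpos B, D.hdpos Y2, D.hdpos Y3, ?_, ?_, e3,
    ?_, ?_, e6, ?_, ?_⟩
  · linarith
  · linarith
  · linarith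
  · linarith
  · nlinarith
  · push_cast at i2
    nlinarith

end Hyp

end Cfsg.Agent.Lib.Helper6.GL23
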