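/-
helper6: Brauer GL(2,3), part I: the arithmetic, step 1.
-/
import Mathlib
import Cfsg.Agent.Lib.Helper6.GL23G

set_option autoImplicit false

namespace Cfsg.Agent.Lib.Helper6.GL23

theorem core_bound (n d τ : ℤ) (hd : 0 < d) (e : n * ((d - τ) * (d - τ)) = 4608 * (d * (d + 1)))
    (hn : 1 + d * d + (d + 1) * (d + 1) ≤ n) (hτ : τ * τ + (τ + 1) * (τ + 1) ≤ 47) :
    -5 ≤ τ ∧ τ ≤ 4 ∧ d ≤ 51 := by
  have t1 : -5 ≤ τ := by nlinarith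
  have t2 : τ ≤ 4 := by nlinarith
  have hsq : (d - τ) * (d - τ) < 2304 := by
    by_contra hcon
    push Not at hcon
    have hn' : (2 * (d * d) + 2 * d + 2) ≤ n := by nlinarith
    have hn0 : 0 ≤ n := by nlinarith
    have := mul_le_mul hn' hcon (by norm_num) hn0
    nlinarith
  refine ⟨t1, t2, ?_⟩
  nlinarith

set_option maxHeartbeats 4000000 in
set_option maxRecDepth 100000 in
theorem step1_plus (n dA dB : ℕ) (τA τB : ℤ) (mA : MS dA τA 1 1) (mB : MS dB τB (-2) 0)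
    (hdA : 0 < dA) (e1 : (1 : ℤ) + dA - dB = 0) (e2 : 1 + τA - τB = 0)
    (e3 : (n : ℤ) * (dA * dB + τA ^ 2 * dB - τB ^ 2 * dA) = 4608 * (dA * dB))
    (hτ : τA ^ 2 + τB ^ 2 ≤ 47) (hd : (1 + dA ^ 2 + dB ^ 2 : ℤ) ≤ n) (h16 : 16 ∣ n) (h32 : ¬ 32 ∣ n) :
    dA = 21 ∧ τA = -3 ∧ dB = 22 ∧ τB = -2 ∧ n = 3696 := by
  have hB : (dB : ℤ) = dA + 1 := by linarith
  have hτB : τB = τA + 1 := by linarith
  rw [hB, hτB] at e3
  rw [hB] at hd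
  rw [hτB] at hτ
  have e3' : (n : ℤ) * (((dA : ℤ) - τA) * ((dA : ℤ) - τA)) = 4608 * ((dA : ℤ) * (dA + 1)) := by
    linear_combination e3
  have hd' : (1 : ℤ) + (dA : ℤ) * dA + ((dA : ℤ) + 1) * (dA + 1) ≤ n := by
    linarith
  have hτ' : τA * τA + (τA + 1) * (τA + 1) ≤ 47 := by linarith
  have hpos : (0 : ℤ) < dA := by exact_mod_cast hdA
  obtain ⟨t1, t2, hdA'⟩ := core_bound n dA τA hpos e3' hd' hτ'
  have hdA'' : dA ≤ 51 := by exact_mod_cast hdA'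
  clear e3 hd hτ hdA' hτ'
  obtain ⟨a0, a1, a2, a3, ha1, ha2, ha3, ha4⟩ := mA
  obtain ⟨b0, b1, b2, b3, hb1, hb2, hb3, hb4⟩ := mB
  interval_cases τA <;> interval_cases dA <;> omega

set_option maxHeartbeats 4000000 in
set_option maxRecDepth 100000 in
theorem step1_minus (n dA dB : ℕ) (τA τB : ℤ) (mA : MS dA τA (-1) (-1)) (mB : MS dB τB 2 0)
    (hdB : 0 < dB) (e1 : (1 : ℤ) - dA + dB = 0) (e2 : 1 - τA + τB = 0)
    (e3 : (n : ℤ) * (dA * dB - τA ^ 2 * dB + τB ^ 2 * dA) = 4608 * (dA * dB))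
    (hτ : τA ^ 2 + τB ^ 2 ≤ 47) (hd : (1 + dA ^ 2 + dB ^ 2 : ℤ) ≤ n) (h16 : 16 ∣ n) (h32 : ¬ 32 ∣ n) :
    n = 5616 ∨ n = 7920 := by
  have hA : (dA : ℤ) = dB + 1 := by linarith
  have hτA : τA = τB + 1 := by linarith
  rw [hA, hτA] at e3
  rw [hA] at hd
  rw [hτA] at hτ
  have e3' : (n : ℤ) * (((dB : ℤ) - τB) * ((dB : ℤ) - τB)) = 4608 * ((dB : ℤ) * (dB + 1)) := by
    linear_combination e3
  have hd' : (1 : ℤ) + (dB : ℤ) * dB + ((dB : ℤ) + 1) * (dB + 1) ≤ n := by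
    linarith
  have hτ' : τB * τB + (τB + 1) * (τB + 1) ≤ 47 := by linarith
  have hpos : (0 : ℤ) < dB := by exact_mod_cast hdB
  obtain ⟨t1, t2, hdB'⟩ := core_bound n dB τB hpos e3' hd' hτ'
  have hdB'' : dB ≤ 51 := by exact_mod_cast hdB'
  clear e3 hd hτ hdB' hτ'
  obtain ⟨a0, a1, a2, a3, ha1, ha2, ha3, ha4⟩ := mA
  obtain ⟨b0, b1, b2, b3, hb1, hb2, hb3, hb4⟩ := mB
  interval_cases τB <;> interval_cases dB <;> omega

end Cfsg.Agent.Lib.Helper6.GL23
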