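/-
helper6: Brauer GL(2,3), part I2: the arithmetic, step 2 (the order 3696 is impossible).
-/
import Mathlib
import Cfsg.Agent.Lib.Helper6.GL23G

set_option autoImplicit false

namespace Cfsg.Agent.Lib.Helper6.GL23

set_option maxHeartbeats 4000000 in
set_option maxRecDepth 100000 in
theorem step2_pm (d2 d3 : ℕ) (τ2 τ3 : ℤ) (m2 : MS d2 τ2 (-1) 1) (m3 : MS d3 τ3 1 (-1))
    (h2 : 0 < d2) (e4 : (22 : ℤ) + d2 - d3 = 0) (e5 : (-2 : ℤ) + τ2 - τ3 = 0)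
    (e6 : (30 * d2 * d3 + 21 * τ2 ^ 2 * d3 - 21 * τ3 ^ 2 * d2 : ℤ) = 0)
    (hτ : τ2 ^ 2 + τ3 ^ 2 ≤ 34) (hd : (d2 ^ 2 + d3 ^ 2 : ℤ) ≤ 2770) : False := by
  have hd3 : d3 = d2 + 22 := by omega
  have hτ3 : τ3 = τ2 - 2 := by linarith
  subst hd3
  subst hτ3
  have t1 : -3 ≤ τ2 := by nlinarith
  have t2 : τ2 ≤ 5 := by nlinarith
  have hb : d2 ≤ 30 := by
    have : (d2 : ℤ) ≤ 30 := by
      push_cast at hd
      nlinarith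
    exact_mod_cast this
  have e6' : (30 * (d2 : ℤ) * ((d2 : ℤ) + 22) + 21 * (τ2 * τ2) * ((d2 : ℤ) + 22) -
      21 * ((τ2 - 2) * (τ2 - 2)) * d2 : ℤ) = 0 := by
    push_cast at e6
    linear_combination e6
  clear e6 hτ hd e4 e5
  obtain ⟨a0, a1, a2, a3, ha1, ha2, ha3, ha4⟩ := m2
  obtain ⟨b0, b1, b2, b3, hb1, hb2, hb3, hb4⟩ := m3
  interval_cases τ2 <;> interval_cases d2 <;> omega

set_option maxHeartbeats 4000000 in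
set_option maxRecDepth 100000 in
theorem step2_mm (d2 d3 : ℕ) (τ2 τ3 : ℤ) (m2 : MS d2 τ2 1 (-1)) (m3 : MS d3 τ3 1 (-1))
    (h2 : 0 < d2) (h3 : 0 < d3) (e4 : (22 : ℤ) - d2 - d3 = 0) (e5 : (-2 : ℤ) - τ2 - τ3 = 0)
    (e6 : (30 * d2 * d3 - 21 * τ2 ^ 2 * d3 - 21 * τ3 ^ 2 * d2 : ℤ) = 0)
    (hτ : τ2 ^ 2 + τ3 ^ 2 ≤ 34) : False := by
  have hd2 : d2 ≤ 21 := by omega
  have hτ3 : τ3 = -2 - τ2 := by linarith
  subst hτ3
  have t1 : -5 ≤ τ2 := by nlinarith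
  have t2 : τ2 ≤ 3 := by nlinarith
  have e6' : (30 * (d2 : ℤ) * (d3 : ℤ) - 21 * (τ2 * τ2) * (d3 : ℤ) -
      21 * ((-2 - τ2) * (-2 - τ2)) * d2 : ℤ) = 0 := by
    linear_combination e6
  clear e6 hτ e5
  obtain ⟨a0, a1, a2, a3, ha1, ha2, ha3, ha4⟩ := m2
  obtain ⟨b0, b1, b2, b3, hb1, hb2, hb3, hb4⟩ := m3
  interval_cases τ2 <;> interval_cases d2 <;> omega

theorem step2 (η2 η3 : ℤ) (d2 d3 : ℕ) (τ2 τ3 : ℤ) (hη2 : η2 = 1 ∨ η2 = -1) (hη3 : η3 = 1 ∨ η3 = -1)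
    (m2 : MS d2 τ2 (-η2) η2) (m3 : MS d3 τ3 (-η3) η3) (h2 : 0 < d2) (h3 : 0 < d3)
    (e4 : (22 : ℤ) + η2 * d2 + η3 * d3 = 0) (e5 : (-2 : ℤ) + η2 * τ2 + η3 * τ3 = 0)
    (e6 : (30 * d2 * d3 + 21 * η2 * τ2 ^ 2 * d3 + 21 * η3 * τ3 ^ 2 * d2 : ℤ) = 0)
    (hτ : τ2 ^ 2 + τ3 ^ 2 ≤ 34) (hd : (d2 ^ 2 + d3 ^ 2 : ℤ) ≤ 2770) : False := by
  rcases hη2 with rfl | rfl <;> rcases hη3 with rfl | rfl
  · have : (0 : ℤ) < d2 := by exact_mod_cast h2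
    have : (0 : ℤ) < d3 := by exact_mod_cast h3
    linarith
  · exact step2_pm d2 d3 τ2 τ3 (by simpa using m2) (by simpa using m3) h2 (by linarith) (by linarith)
      (by linear_combination e6) hτ hd
  · exact step2_pm d3 d2 τ3 τ2 (by simpa using m3) (by simpa using m2) h3 (by linarith) (by linarith)
      (by linear_combination e6) (by linarith) (by linarith)
  · exact step2_mm d2 d3 τ2 τ3 (by simpa using m2) (by simpa using m3) h2 h3 (by linarith) (by linarith)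
      (by linear_combination e6) hτ

end Cfsg.Agent.Lib.Helper6.GL23
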