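/-
helper6: Brauer GL(2,3), part J: the abstract theorem.
-/
import Mathlib
import Cfsg.Agent.Lib.Helper6.GL23H2
import Cfsg.Agent.Lib.Helper6.GL23I
import Cfsg.Agent.Lib.Helper6.GL23I2

set_option autoImplicit false

namespace Cfsg.Agent.Lib.Helper6.GL23

universe u

namespace Hyp

variable {G : Type u} [Group G] [Finite G] (C : Hyp G)

include C in
set_option maxHeartbeats 1600000 in
theorem card_eq (hno2 : ∀ M : Subgroup G, M.Normal → M.index ≠ 2) :
    Nat.card G = 5616 ∨ Nat.card G = 7920 := by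
  classical
  let _ : Fintype G := Fintype.ofFinite G
  obtain ⟨ε, εB, η2, η3, dA, dB, d2, d3, τA, τB, τ2, τ3, hε, hεB, hη2, hη3, mA, mB, m2, m3, pA, pB, p2, p3,
    e1, e2, e3, e4, e5, e6, i1, i2⟩ := C.key hno2
  have h16 := C.sixteen_dvd
  have h32 := C.not_32_dvd
  have qA : (0 : ℤ) < dA := by exact_mod_cast pA
  have qB : (0 : ℤ) < dB := by exact_mod_cast pB
  rcases hε with rfl | rfl <;> rcases hεB with rfl | rfl
  · exfalso
    linarith
  · -- ε = 1, εB = -1
    exfalso
    obtain ⟨hdA, hτA, hdB, hτB, hn⟩ := step1_plus (Nat.card G) dA dB τA τB mA (by simpa using mB) pA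
      (by linarith) (by linarith) (by linear_combination e3)
      (by nlinarith [sq_nonneg τ2, sq_nonneg τ3])
      (by nlinarith [sq_nonneg (d2 : ℤ), sq_nonneg (d3 : ℤ)]) h16 h32
    subst hdA hτA hdB hτB
    rw [hn] at i2
    refine step2 η2 η3 d2 d3 τ2 τ3 hη2 hη3 m2 m3 p2 p3 ?_ ?_ ?_ ?_ ?_
    · push_cast at e4
      linarith
    · linarith
    · push_cast at e6
      linear_combination e6
    · linarith
    · push_cast at i2
      linarith
  · -- ε = -1, εB = 1
    exact step1_minus (Nat.card G) dA dB τA τB mA (by simpa using mB) pB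
      (by linarith) (by linarith) (by linear_combination e3)
      (by nlinarith [sq_nonneg τ2, sq_nonneg τ3])
      (by nlinarith [sq_nonneg (d2 : ℤ), sq_nonneg (d3 : ℤ)]) h16 h32
  · exfalso
    have : (1 : ℤ) ≤ dA := qA
    have : (1 : ℤ) ≤ dB := qB
    linarith

end Hyp

end Cfsg.Agent.Lib.Helper6.GL23
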