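/-
helper6: Brauer GL(2,3), part K: computations in `GL(2,3)`.
-/
import Mathlib

set_option autoImplicit false

namespace Cfsg.Agent.Lib.Helper6.GL23

open Matrix

/-- an element of order `8` -/
abbrev Xm : Matrix (Fin 2) (Fin 2) (ZMod 3) := !![0,1;1,1]
/-- its inverse -/
abbrev Xi : Matrix (Fin 2) (Fin 2) (ZMod 3) := !![2,1;1,0]
/-- a non-central involution -/
abbrev Sm : Matrix (Fin 2) (Fin 2) (ZMod 3) := !![1,0;1,2]

set_option maxRecDepth 100000 in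
theorem Xm_mul_Xi : Xm * Xi = 1 := by decide

set_option maxRecDepth 100000 in
theorem Xi_mul_Xm : Xi * Xm = 1 := by decide

set_option maxRecDepth 100000 in
theorem Sm_mul_Sm : Sm * Sm = 1 := by decide

set_option maxRecDepth 100000 in
theorem Sm_conj : Sm * Xm * Sm = Xm ^ 3 := by decide

set_option maxRecDepth 100000 in
theorem mat_cent : ∀ a b c d : ZMod 3, !![a,b;c,d] * Xm ^ 2 = Xm ^ 2 * !![a,b;c,d] → a * d - b * c ≠ 0 →
    ∃ k : Fin 8, !![a,b;c,d] = Xm ^ (k : ℕ) := by decide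

set_option maxRecDepth 100000 in
theorem mat_no5 : ∀ a b c d : ZMod 3, !![a,b;c,d] * Xm = Xm ^ 5 * !![a,b;c,d] → a * d - b * c = 0 := by
  decide

set_option maxRecDepth 100000 in
theorem mat_no7 : ∀ a b c d : ZMod 3, !![a,b;c,d] * Xm = Xm ^ 7 * !![a,b;c,d] → a * d - b * c = 0 := by
  decide

set_option maxRecDepth 100000 in
theorem mat_ord4 : ∀ a b c d : ZMod 3, !![a,b;c,d] * !![a,b;c,d] = Xm ^ 4 →
    !![1, 2 + a; 0, c] * Xm ^ 2 = !![a,b;c,d] * !![1, 2 + a; 0, c] ∧ 1 * c - (2 + a) * 0 ≠ 0 := by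
  decide

set_option maxRecDepth 100000 in
theorem mat_invol : ∀ a b c d : ZMod 3, !![a,b;c,d] * !![a,b;c,d] = 1 → !![a,b;c,d] ≠ 1 →
    !![a,b;c,d] * Xm = Xm * !![a,b;c,d] → !![a,b;c,d] = Xm ^ 4 := by
  decide

/-- the element of order `8` in `GL(2,3)` -/
def X : GL (Fin 2) (ZMod 3) := ⟨Xm, Xi, Xm_mul_Xi, Xi_mul_Xm⟩

/-- the involution in `GL(2,3)` -/
def S : GL (Fin 2) (ZMod 3) := ⟨Sm, Sm, Sm_mul_Sm, Sm_mul_Sm⟩

theorem coe_X : (X : Matrix (Fin 2) (Fin 2) (ZMod 3)) = Xm := rfl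

theorem coe_S : (S : Matrix (Fin 2) (Fin 2) (ZMod 3)) = Sm := rfl

theorem coe_X_pow (k : ℕ) : ((X ^ k : GL (Fin 2) (ZMod 3)) : Matrix (Fin 2) (Fin 2) (ZMod 3)) = Xm ^ k := by
  rw [Units.val_pow_eq_pow_val, coe_X]

theorem S_mul_S : S * S = 1 := Units.ext Sm_mul_Sm

theorem S_inv : S⁻¹ = S := inv_eq_of_mul_eq_one_left S_mul_S

theorem S_conj : S * X * S⁻¹ = X ^ 3 := by
  rw [S_inv]
  apply Units.ext
  rw [coe_X_pow]
  exact Sm_conj

theorem eta (z : GL (Fin 2) (ZMod 3)) :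
    (z : Matrix (Fin 2) (Fin 2) (ZMod 3)) = !![(z : Matrix (Fin 2) (Fin 2) (ZMod 3)) 0 0,
      (z : Matrix (Fin 2) (Fin 2) (ZMod 3)) 0 1; (z : Matrix (Fin 2) (Fin 2) (ZMod 3)) 1 0,
      (z : Matrix (Fin 2) (Fin 2) (ZMod 3)) 1 1] :=
  Matrix.eta_fin_two _

theorem det_ne (z : GL (Fin 2) (ZMod 3)) :
    (z : Matrix (Fin 2) (Fin 2) (ZMod 3)) 0 0 * (z : Matrix (Fin 2) (Fin 2) (ZMod 3)) 1 1 -
      (z : Matrix (Fin 2) (Fin 2) (ZMod 3)) 0 1 * (z : Matrix (Fin 2) (Fin 2) (ZMod 3)) 1 0 ≠ 0 := by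
  have h1 : (Matrix.GeneralLinearGroup.det z : ZMod 3) ≠ 0 := by
    intro h
    have h2 := (Matrix.GeneralLinearGroup.det z).isUnit
    rw [h] at h2
    exact not_isUnit_zero h2
  rw [Matrix.GeneralLinearGroup.val_det_apply, Matrix.det_fin_two] at h1
  exact h1

theorem gl_cent (z : GL (Fin 2) (ZMod 3)) (h : z * X ^ 2 = X ^ 2 * z) : ∃ k : Fin 8, z = X ^ (k : ℕ) := by
  have h1 := congrArg (fun w : GL (Fin 2) (ZMod 3) => (w : Matrix (Fin 2) (Fin 2) (ZMod 3))) h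
  simp only [Units.val_mul, coe_X_pow] at h1
  rw [eta z] at h1
  obtain ⟨k, hk⟩ := mat_cent _ _ _ _ h1 (det_ne z)
  refine ⟨k, Units.ext ?_⟩
  rw [coe_X_pow, eta z]
  exact hk

theorem gl_no5 (z : GL (Fin 2) (ZMod 3)) : z * X ≠ X ^ 5 * z := by
  intro h
  have h1 := congrArg (fun w : GL (Fin 2) (ZMod 3) => (w : Matrix (Fin 2) (Fin 2) (ZMod 3))) h
  simp only [Units.val_mul, coe_X_pow, coe_X] at h1
  rw [eta z] at h1
  exact det_ne z (mat_no5 _ _ _ _ h1)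

theorem gl_no7 (z : GL (Fin 2) (ZMod 3)) : z * X ≠ X ^ 7 * z := by
  intro h
  have h1 := congrArg (fun w : GL (Fin 2) (ZMod 3) => (w : Matrix (Fin 2) (Fin 2) (ZMod 3))) h
  simp only [Units.val_mul, coe_X_pow, coe_X] at h1
  rw [eta z] at h1
  exact det_ne z (mat_no7 _ _ _ _ h1)

theorem gl_invol (z : GL (Fin 2) (ZMod 3)) (h2 : z * z = 1) (h1 : z ≠ 1) (hc : z * X = X * z) :
    z = X ^ 4 := by
  have e2 := congrArg (fun w : GL (Fin 2) (ZMod 3) => (w : Matrix (Fin 2) (Fin 2) (ZMod 3))) h2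
  have ec := congrArg (fun w : GL (Fin 2) (ZMod 3) => (w : Matrix (Fin 2) (Fin 2) (ZMod 3))) hc
  simp only [Units.val_mul, coe_X, Units.val_one] at e2 ec
  have e1 : (z : Matrix (Fin 2) (Fin 2) (ZMod 3)) ≠ 1 := by
    intro h
    apply h1
    exact Units.ext h
  rw [eta z] at e2 ec e1
  apply Units.ext
  rw [coe_X_pow, eta z]
  exact mat_invol _ _ _ _ e2 e1 ec

theorem gl_ord4 (z : GL (Fin 2) (ZMod 3)) (h : z * z = X ^ 4) :
    ∃ c : GL (Fin 2) (ZMod 3), c * X ^ 2 * c⁻¹ = z := by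
  have e2 := congrArg (fun w : GL (Fin 2) (ZMod 3) => (w : Matrix (Fin 2) (Fin 2) (ZMod 3))) h
  simp only [Units.val_mul, coe_X_pow] at e2
  rw [eta z] at e2
  obtain ⟨h1, h2⟩ := mat_ord4 _ _ _ _ e2
  set Q : Matrix (Fin 2) (Fin 2) (ZMod 3) := !![1, 2 + (z : Matrix (Fin 2) (Fin 2) (ZMod 3)) 0 0; 0,
    (z : Matrix (Fin 2) (Fin 2) (ZMod 3)) 1 0] with hQ
  have hdet : Q.det ≠ 0 := by
    rw [hQ, Matrix.det_fin_two_of]
    exact h2
  refine ⟨Matrix.GeneralLinearGroup.mkOfDetNeZero Q hdet, ?_⟩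
  rw [mul_inv_eq_iff_eq_mul]
  apply Units.ext
  simp only [Units.val_mul, coe_X_pow]
  rw [eta z]
  exact h1

theorem card_gl : Nat.card (GL (Fin 2) (ZMod 3)) = 48 := by
  rw [Matrix.card_GL_field]
  simp [Fin.prod_univ_two]

/-- the isomorphism `(ZMod 3)ˣ → ℤˣ` -/
def signHom : (ZMod 3)ˣ →* ℤˣ :=
  MonoidHom.mk' (fun u => if (u : ZMod 3) = 1 then 1 else -1) (by decide)

/-- the determinant as a sign -/
def detSign : GL (Fin 2) (ZMod 3) →* ℤˣ := signHom.comp Matrix.GeneralLinearGroup.det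

theorem detSign_X : detSign X = -1 := by
  have h : (Matrix.GeneralLinearGroup.det X : ZMod 3) = 2 := by
    rw [Matrix.GeneralLinearGroup.val_det_apply, coe_X]
    decide
  change (if (Matrix.GeneralLinearGroup.det X : ZMod 3) = 1 then (1 : ℤˣ) else -1) = -1
  rw [h]
  decide

theorem detSign_S : detSign S = -1 := by
  have h : (Matrix.GeneralLinearGroup.det S : ZMod 3) = 2 := by
    rw [Matrix.GeneralLinearGroup.val_det_apply, coe_S]
    decide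
  change (if (Matrix.GeneralLinearGroup.det S : ZMod 3) = 1 then (1 : ℤˣ) else -1) = -1
  rw [h]
  decide

end Cfsg.Agent.Lib.Helper6.GL23
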