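/-
helper6: Brauer GL(2,3), part L: from `C_G(t) ≅ GL(2,3)` to the abstract hypotheses.
-/
import Mathlib
import Cfsg.Agent.Lib.Helper6.GL23K
import Cfsg.Agent.Lib.Helper6.GL23A

set_option autoImplicit false

namespace Cfsg.Agent.Lib.Helper6.GL23

open Matrix

universe u

section bridge

variable {G : Type u} [Group G] (t : G)
  (e : Subgroup.centralizer ({t} : Set G) ≃* GL (Fin 2) (ZMod 3))

/-- the embedding `GL(2,3) → G` -/
noncomputable def phi : GL (Fin 2) (ZMod 3) →* G :=
  (Subgroup.centralizer ({t} : Set G)).subtype.comp e.symm.toMonoidHom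

theorem phi_apply (z : GL (Fin 2) (ZMod 3)) : phi t e z = ((e.symm z : Subgroup.centralizer ({t} : Set G)) : G) :=
  rfl

theorem phi_injective : Function.Injective (phi t e) := by
  intro a b h
  exact e.symm.injective (Subtype.ext h)

theorem phi_mem (z : GL (Fin 2) (ZMod 3)) : phi t e z ∈ Subgroup.centralizer ({t} : Set G) :=
  (e.symm z).2

theorem exists_phi {g : G} (hg : g ∈ Subgroup.centralizer ({t} : Set G)) : ∃ z, phi t e z = g := by
  refine ⟨e ⟨g, hg⟩, ?_⟩
  rw [phi_apply, MulEquiv.symm_apply_apply]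

theorem exists_phi_of_comm {g : G} (hg : g * t = t * g) : ∃ z, phi t e z = g :=
  exists_phi t e (Subgroup.mem_centralizer_singleton_iff.2 hg)

theorem phi_comm_t (z : GL (Fin 2) (ZMod 3)) : phi t e z * t = t * phi t e z :=
  Subgroup.mem_centralizer_singleton_iff.1 (phi_mem t e z)

variable (ht : orderOf t = 2)

include ht in
theorem t_mul_t : t * t = 1 := by
  have := pow_orderOf_eq_one t
  rwa [ht, pow_two] at this

include ht in
theorem t_ne : t ≠ 1 := by
  intro h
  rw [h, orderOf_one] at ht
  omega

include ht in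
theorem phi_X4 : phi t e (X ^ 4) = t := by
  obtain ⟨z, hz⟩ := exists_phi_of_comm t e (rfl : t * t = t * t)
  have h2 : z * z = 1 := by
    apply phi_injective t e
    rw [map_mul, hz, map_one, t_mul_t t ht]
  have h1 : z ≠ 1 := by
    intro h
    rw [h, map_one] at hz
    exact t_ne t ht hz.symm
  have hc : z * X = X * z := by
    apply phi_injective t e
    rw [map_mul, map_mul, hz]
    exact (phi_comm_t t e X).symm
  rw [← gl_invol z h2 h1 hc, hz]

/-- the abstract hypotheses -/
noncomputable def mkHyp : Hyp G where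
  t := t
  x := phi t e X
  s := phi t e S
  ht := ht
  hx4 := by rw [← map_pow, phi_X4 t e ht]
  hs2 := by rw [← map_mul, S_mul_S, map_one]
  hsx := by rw [← map_inv, ← map_mul, ← map_mul, S_conj, map_pow]
  cent_x2 := by
    intro g hg
    have hx4 : phi t e X ^ 4 = t := by rw [← map_pow, phi_X4 t e ht]
    have hgt : g * t = t * g := by
      rw [← hx4]
      have h1 : Commute g (phi t e X ^ 2) := hg
      have h2 : Commute g ((phi t e X ^ 2) ^ 2) := h1.pow_right 2
      rw [← pow_mul] at h2
      exact h2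
    obtain ⟨z, rfl⟩ := exists_phi_of_comm t e hgt
    have h3 : z * X ^ 2 = X ^ 2 * z := by
      apply phi_injective t e
      rw [map_mul, map_mul, map_pow]
      exact hg
    obtain ⟨k, hk⟩ := gl_cent z h3
    rw [hk, map_pow]
    exact Subgroup.pow_mem _ (Subgroup.mem_zpowers _) _
  no5 := by
    intro g hg
    have hx4 : phi t e X ^ 4 = t := by rw [← map_pow, phi_X4 t e ht]
    have hx8 : phi t e X ^ 8 = 1 := by
      have : phi t e X ^ 8 = (phi t e X ^ 4) ^ 2 := by rw [← pow_mul]
      rw [this, hx4, pow_two, t_mul_t t ht]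
    have hgt : g * t * g⁻¹ = t := by
      rw [← hx4, ← conj_pow, hg, ← pow_mul]
      have : phi t e X ^ (5 * 4) = (phi t e X ^ 8) ^ 2 * phi t e X ^ 4 := by
        rw [← pow_mul, ← pow_add]
      rw [this, hx8, one_pow, one_mul]
    have hgt' : g * t = t * g := by
      calc g * t = g * t * g⁻¹ * g := by group
        _ = t * g := by rw [hgt]
    obtain ⟨z, rfl⟩ := exists_phi_of_comm t e hgt'
    apply gl_no5 z
    apply phi_injective t e
    rw [map_mul, map_mul, map_pow, ← hg]
    group
  no7 := by
    intro g hg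
    have hx4 : phi t e X ^ 4 = t := by rw [← map_pow, phi_X4 t e ht]
    have hx8 : phi t e X ^ 8 = 1 := by
      have : phi t e X ^ 8 = (phi t e X ^ 4) ^ 2 := by rw [← pow_mul]
      rw [this, hx4, pow_two, t_mul_t t ht]
    have hgt : g * t * g⁻¹ = t := by
      rw [← hx4, ← conj_pow, hg, ← pow_mul]
      have : phi t e X ^ (7 * 4) = (phi t e X ^ 8) ^ 3 * phi t e X ^ 4 := by
        rw [← pow_mul, ← pow_add]
      rw [this, hx8, one_pow, one_mul]
    have hgt' : g * t = t * g := by
      calc g * t = g * t * g⁻¹ * g := by group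
        _ = t * g := by rw [hgt]
    obtain ⟨z, rfl⟩ := exists_phi_of_comm t e hgt'
    apply gl_no7 z
    apply phi_injective t e
    rw [map_mul, map_mul, map_pow, ← hg]
    group
  ord4 := by
    intro g hg
    have hgt : g * t = t * g := by
      rw [← hg, mul_assoc]
    obtain ⟨z, rfl⟩ := exists_phi_of_comm t e hgt
    have h3 : z * z = X ^ 4 := by
      apply phi_injective t e
      rw [map_mul, hg, phi_X4 t e ht]
    obtain ⟨c, hc⟩ := gl_ord4 z h3
    rw [isConj_iff]
    refine ⟨phi t e c, ?_⟩
    rw [← hc, map_mul, map_mul, map_pow, map_inv]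
  cardH := by
    rw [Nat.card_congr e.toEquiv, card_gl]
  lam3 := detSign.comp e.toMonoidHom
  lam3_x := by
    intro h
    have : (⟨phi t e X, h⟩ : Subgroup.centralizer ({t} : Set G)) = e.symm X := Subtype.ext rfl
    change detSign (e ⟨phi t e X, h⟩) = -1
    rw [this, MulEquiv.apply_symm_apply, detSign_X]
  lam3_s := by
    intro h
    have : (⟨phi t e S, h⟩ : Subgroup.centralizer ({t} : Set G)) = e.symm S := Subtype.ext rfl
    change detSign (e ⟨phi t e S, h⟩) = -1
    rw [this, MulEquiv.apply_symm_apply, detSign_S]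

end bridge

end Cfsg.Agent.Lib.Helper6.GL23
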