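import Cfsg.Agent.Lib.Helper27.MajSubDefs
import Cfsg.Agent.Lib.Helper6.DefectOrder
import Cfsg.Agent.Lib.Helper6.Osima

/-!
helper6: S4539 (planner helper27), leaf ALG2c `card_le_of_exceptional`: the exceptional case
`C = diag(p^r, p^d)`, `r < d`, by the Galois AM-GM argument.
-/

set_option autoImplicit false

namespace Cfsg.Agent.Lib.Helper6.MajSubALG2c

open Cfsg Cfsg.Agent.CharLib Cfsg.Agent.Lib.Helper24 Cfsg.Agent.Lib.Helper23
open Cfsg.Agent.Lib.Helper23.Subsec Cfsg.Agent.Lib.Helper27.MajSub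
open scoped ComplexConjugate

universe u w

variable {M : Ideal AlgInt} {p : ℕ} [hpp : Fact p.Prime]

/-- Galois AM-GM with a power of `p` taken out. -/
theorem gal_sum_ge (hM : IsPModular p M) (K : Type w) [Field K] [Algebra ℚ K]
    [FiniteDimensional ℚ K] [IsGalois ℚ K] (φ : K →+* ℂ) (y : K) (hy : IsIntegral ℤ y)
    (hy0 : y ≠ 0) (j : ℕ)
    (hloc : ∀ σ : K ≃ₐ[ℚ] K, MemLocalRing M (φ (σ y) / (p : ℂ) ^ j)) :
    (Fintype.card (K ≃ₐ[ℚ] K) : ℝ) * ((p : ℝ) ^ j) ^ 2 ≤ ∑ σ : K ≃ₐ[ℚ] K, ‖φ (σ y)‖ ^ 2 := by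
  have hp : p.Prime := hpp.out
  have h := card_gal_le_sum_norm_sq_local hM K φ y hy hy0 j hloc
  have hpos : (0 : ℝ) < ((p : ℝ) ^ j) ^ 2 := by
    have : (0 : ℝ) < (p : ℝ) := by exact_mod_cast hp.pos
    positivity
  have h1 : ∀ σ : K ≃ₐ[ℚ] K, ‖φ (σ y) / (p : ℂ) ^ j‖ ^ 2 = ‖φ (σ y)‖ ^ 2 / ((p : ℝ) ^ j) ^ 2 := by
    intro σ
    rw [norm_div, div_pow, norm_pow, Complex.norm_natCast]
  rw [Finset.sum_congr rfl (fun σ _ => h1 σ), ← Finset.sum_div, le_div_iff₀ hpos] at h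
  exact h

theorem memLocalRing_algInt_emb [hprime : M.IsPrime] (K : Type w) [Field K] [Algebra ℚ K]
    (φ : K →+* ℂ) (u : K) (hu : IsIntegral ℤ u) (σ : K ≃ₐ[ℚ] K) :
    MemLocalRing M (φ (σ u)) := by
  have h1 : IsIntegral ℤ (σ u) := hu.map σ
  have h2 : IsIntegral ℤ (φ (σ u)) := map_isIntegral_int φ h1
  exact memLocalRing_of_algInt (M := M) ⟨φ (σ u), h2⟩ hprime.one_notMem

theorem memLocalRing_conj_algInt_emb [hprime : M.IsPrime] (K : Type w) [Field K] [Algebra ℚ K]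
    (φ : K →+* ℂ) (u : K) (hu : IsIntegral ℤ u) (σ : K ≃ₐ[ℚ] K) :
    MemLocalRing M (conj (φ (σ u))) := by
  have h1 : IsIntegral ℤ (σ u) := hu.map σ
  have h2 : IsIntegral ℤ (φ (σ u)) := map_isIntegral_int φ h1
  have h3 : IsIntegral ℤ (conj (φ (σ u))) := map_isIntegral_int (starRingEnd ℂ) h2
  exact memLocalRing_of_algInt (M := M) ⟨conj (φ (σ u)), h3⟩ hprime.one_notMem

theorem card_le_of_exceptional (hM : IsPModular p M) (K : Type w) [Field K] [Algebra ℚ K]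
    [FiniteDimensional ℚ K] [IsGalois ℚ K] (φ : K →+* ℂ) {ι : Type*} [Fintype ι]
    (h : ι → ℕ) (i₀ : ι) (hi₀ : h i₀ = 0)
    (x y : ι → K) (hx : ∀ i, IsIntegral ℤ (x i)) (hy : ∀ i, IsIntegral ℤ (y i)) (d r : ℕ)
    (hrd : r < d)
    (hgx : ∀ σ : K ≃ₐ[ℚ] K, ∑ i, conj (φ (σ (x i))) * φ (σ (x i)) = ((p : ℂ) ^ r))
    (hgy : ∀ σ : K ≃ₐ[ℚ] K, ∑ i, conj (φ (σ (y i))) * φ (σ (y i)) = ((p : ℂ) ^ d))
    (h5H : ∀ σ : K ≃ₐ[ℚ] K, ∀ i, h i = 0 → ∀ j,
      LocUnit M (((p : ℂ) ^ (d - r) * (φ (σ (x i)) * conj (φ (σ (x j)))) +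
          φ (σ (y i)) * conj (φ (σ (y j)))) / (p : ℂ) ^ h j) ∧
        LocUnit M (((p : ℂ) ^ (d - r) * (φ (σ (x j)) * conj (φ (σ (x i)))) +
          φ (σ (y j)) * conj (φ (σ (y i)))) / (p : ℂ) ^ h j)) :
    Fintype.card ι ≤ p ^ d := by
  classical
  have hprime : M.IsPrime := isPrime_of_isPModular hM
  have hp : p.Prime := hpp.out
  have hpR : (0 : ℝ) < (p : ℝ) := by exact_mod_cast hp.pos
  have hp2R : (2 : ℝ) ≤ (p : ℝ) := by exact_mod_cast hp.two_le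
  set g : ℝ := (Fintype.card (K ≃ₐ[ℚ] K) : ℝ) with hg
  have hgpos : 0 < g := by
    rw [hg]
    exact_mod_cast Fintype.card_pos_iff.mpr ⟨AlgEquiv.refl⟩
  have hzeroI : MemLocalIdeal M 0 := memLocalIdeal_zero hprime.one_notMem
  have hpI : MemLocalIdeal M ((p : ℂ)) := Cfsg.Agent.Lib.Helper6.memLocalIdeal_natCast_prime hM
  have hpowR : ∀ n : ℕ, MemLocalRing M ((p : ℂ) ^ n) := by
    intro n
    have : ((p : ℂ) ^ n) = ((p ^ n : ℕ) : ℂ) := by push_cast; rfl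
    rw [this]
    exact Cfsg.Agent.Lib.Helper6.memLocalRing_natCast _
  have hpowI : MemLocalIdeal M ((p : ℂ) ^ (d - r)) := by
    have h1 : d - r = (d - r - 1) + 1 := by omega
    rw [h1, pow_succ]
    exact memLocalIdeal_mul_left (hpowR _) hpI
  -- the sums of the squares of the norms
  have hsx : ∀ σ : K ≃ₐ[ℚ] K, ∑ i, ‖φ (σ (x i))‖ ^ 2 = (p : ℝ) ^ r := by
    intro σ
    have h1 := hgx σ
    simp_rw [Complex.conj_mul'] at h1
    exact_mod_cast h1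
  have hsy : ∀ σ : K ≃ₐ[ℚ] K, ∑ i, ‖φ (σ (y i))‖ ^ 2 = (p : ℝ) ^ d := by
    intro σ
    have h1 := hgy σ
    simp_rw [Complex.conj_mul'] at h1
    exact_mod_cast h1
  have htotx : ∑ i, ∑ σ : K ≃ₐ[ℚ] K, ‖φ (σ (x i))‖ ^ 2 = g * (p : ℝ) ^ r := by
    rw [Finset.sum_comm, Finset.sum_congr rfl (fun σ _ => hsx σ), Finset.sum_const,
      Finset.card_univ, nsmul_eq_mul]
  have htoty : ∑ i, ∑ σ : K ≃ₐ[ℚ] K, ‖φ (σ (y i))‖ ^ 2 = g * (p : ℝ) ^ d := by
    rw [Finset.sum_comm, Finset.sum_congr rfl (fun σ _ => hsy σ), Finset.sum_const,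
      Finset.card_univ, nsmul_eq_mul]
  have hnn : ∀ u : K, 0 ≤ ∑ σ : K ≃ₐ[ℚ] K, ‖φ (σ u)‖ ^ 2 :=
    fun u => Finset.sum_nonneg (fun σ _ => sq_nonneg _)
  have hge : ∀ u : K, IsIntegral ℤ u → u ≠ 0 → g ≤ ∑ σ : K ≃ₐ[ℚ] K, ‖φ (σ u)‖ ^ 2 := by
    intro u hu hu0
    have h1 := gal_sum_ge hM K φ u hu hu0 0 (fun σ => by
      rw [pow_zero, div_one]
      exact memLocalRing_algInt_emb K φ u hu σ)
    simpa using h1
  -- (A) for a character of height zero `y` is a local unit, with its conjugate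
  have hA : ∀ σ : K ≃ₐ[ℚ] K, ∀ i, h i = 0 →
      ¬ MemLocalIdeal M (φ (σ (y i))) ∧ ¬ MemLocalIdeal M (conj (φ (σ (y i)))) := by
    intro σ i hi
    have h1 := (h5H σ i hi i).1
    rw [hi, pow_zero, div_one] at h1
    have h2 : MemLocalIdeal M ((p : ℂ) ^ (d - r) * (φ (σ (x i)) * conj (φ (σ (x i))))) :=
      memLocalIdeal_mul_right hpowI (memLocalRing_mul (memLocalRing_algInt_emb K φ _ (hx i) σ)
        (memLocalRing_conj_algInt_emb K φ _ (hx i) σ))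
    have h3 : ¬ MemLocalIdeal M (φ (σ (y i)) * conj (φ (σ (y i)))) := by
      intro h4
      exact h1.2 (memLocalIdeal_add h2 h4)
    constructor
    · intro h4
      exact h3 (memLocalIdeal_mul_right h4 (memLocalRing_conj_algInt_emb K φ _ (hy i) σ))
    · intro h4
      exact h3 (memLocalIdeal_mul_left (memLocalRing_algInt_emb K φ _ (hy i) σ) h4)
  -- (C) the rows are nonzero
  have hC : ∀ j, x j ≠ 0 ∨ y j ≠ 0 := by
    intro j
    by_contra hcon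
    push Not at hcon
    have h1 := (h5H AlgEquiv.refl i₀ hi₀ j).1
    apply h1.2
    rw [hcon.1, hcon.2]
    simp only [map_zero, mul_zero, add_zero, zero_div]
    exact hzeroI
  by_cases hX : ∀ j, y j ≠ 0
  · -- all `y j` are nonzero
    have h1 : (Fintype.card ι : ℝ) * g ≤ ∑ i, ∑ σ : K ≃ₐ[ℚ] K, ‖φ (σ (y i))‖ ^ 2 := by
      calc (Fintype.card ι : ℝ) * g = ∑ _i : ι, g := by
            rw [Finset.sum_const, Finset.card_univ, nsmul_eq_mul]
        _ ≤ ∑ i, ∑ σ : K ≃ₐ[ℚ] K, ‖φ (σ (y i))‖ ^ 2 :=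
            Finset.sum_le_sum (fun i _ => hge _ (hy i) (hX i))
    rw [htoty] at h1
    have h2 : (Fintype.card ι : ℝ) ≤ (p : ℝ) ^ d := by
      have : (Fintype.card ι : ℝ) * g ≤ (p : ℝ) ^ d * g := by linarith
      exact le_of_mul_le_mul_right this hgpos
    exact_mod_cast h2
  · push Not at hX
    obtain ⟨j₁, hj₁⟩ := hX
    -- (D) the characters of height zero have `x ≠ 0`
    have hD : ∀ i, h i = 0 → x i ≠ 0 := by
      intro i hi hxi
      have h1 := (h5H AlgEquiv.refl i hi j₁).1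
      apply h1.2
      rw [hxi, hj₁]
      simp only [map_zero, mul_zero, zero_mul, add_zero, zero_div]
      exact hzeroI
    -- (E) if `x j = 0` then `p` divides `y j` locally, for all the conjugates
    have hE : ∀ j, x j = 0 → ∀ σ : K ≃ₐ[ℚ] K, MemLocalRing M (φ (σ (y j)) / (p : ℂ) ^ 1) := by
      intro j hxj σ
      have hhj : 1 ≤ h j := by
        by_contra hcon
        exact hD j (by omega) hxj
      have h1 := (h5H σ i₀ hi₀ j).2
      rw [hxj] at h1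
      simp only [map_zero, zero_mul, mul_zero, zero_add] at h1
      have h2 := hA σ i₀ hi₀
      have h3 : MemLocalRing M (conj (φ (σ (y i₀))))⁻¹ :=
        Cfsg.Agent.Lib.Helper6.memLocalRing_inv (memLocalRing_conj_algInt_emb K φ _ (hy i₀) σ) h2.2
      have h4 : conj (φ (σ (y i₀))) ≠ 0 := by
        intro h0
        apply h2.2
        rw [h0]
        exact hzeroI
      have hp0 : (p : ℂ) ≠ 0 := Nat.cast_ne_zero.mpr hp.ne_zero
      have h5 : φ (σ (y j)) / (p : ℂ) ^ 1 =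
          (φ (σ (y j)) * conj (φ (σ (y i₀))) / (p : ℂ) ^ h j) * (conj (φ (σ (y i₀))))⁻¹ *
            (p : ℂ) ^ (h j - 1) := by
        have h6 : (p : ℂ) ^ h j = (p : ℂ) ^ (h j - 1) * (p : ℂ) ^ 1 := by
          rw [← pow_add, Nat.sub_add_cancel hhj]
        rw [h6]
        have h7 : (p : ℂ) ^ (h j - 1) ≠ 0 := pow_ne_zero _ hp0
        field_simp
      rw [h5]
      exact memLocalRing_mul (memLocalRing_mul h1.1 h3) (hpowR _)
    -- the counts
    set Y : Finset ι := Finset.univ.filter (fun j => x j = 0) with hY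
    set Yc : Finset ι := Finset.univ.filter (fun j => ¬ x j = 0) with hYc
    have hcard : Y.card + Yc.card = Fintype.card ι := by
      rw [hY, hYc, Finset.card_filter_add_card_filter_not, Finset.card_univ]
    have hb : (Yc.card : ℝ) * g ≤ g * (p : ℝ) ^ r := by
      rw [← htotx]
      calc (Yc.card : ℝ) * g = ∑ i ∈ Yc, g := by
            rw [Finset.sum_const, nsmul_eq_mul]
        _ ≤ ∑ i ∈ Yc, ∑ σ : K ≃ₐ[ℚ] K, ‖φ (σ (x i))‖ ^ 2 :=
            Finset.sum_le_sum (fun i hi => hge _ (hx i) (Finset.mem_filter.mp hi).2)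
        _ ≤ ∑ i, ∑ σ : K ≃ₐ[ℚ] K, ‖φ (σ (x i))‖ ^ 2 :=
            Finset.sum_le_sum_of_subset_of_nonneg (Finset.subset_univ _)
              (fun i _ _ => hnn (x i))
    have ha : (Y.card : ℝ) * (g * (p : ℝ) ^ 2) ≤ g * (p : ℝ) ^ d := by
      rw [← htoty]
      calc (Y.card : ℝ) * (g * (p : ℝ) ^ 2) = ∑ i ∈ Y, g * (p : ℝ) ^ 2 := by
            rw [Finset.sum_const, nsmul_eq_mul]
        _ ≤ ∑ i ∈ Y, ∑ σ : K ≃ₐ[ℚ] K, ‖φ (σ (y i))‖ ^ 2 := by
            apply Finset.sum_le_sum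
            intro i hi
            have hxi : x i = 0 := (Finset.mem_filter.mp hi).2
            have hyi : y i ≠ 0 := by
              rcases hC i with h1 | h1
              · exact absurd hxi h1
              · exact h1
            have h1 := gal_sum_ge hM K φ (y i) (hy i) hyi 1 (hE i hxi)
            simpa using h1
        _ ≤ ∑ i, ∑ σ : K ≃ₐ[ℚ] K, ‖φ (σ (y i))‖ ^ 2 :=
            Finset.sum_le_sum_of_subset_of_nonneg (Finset.subset_univ _)
              (fun i _ _ => hnn (y i))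
    have hb' : (Yc.card : ℝ) ≤ (p : ℝ) ^ r := by
      have : (Yc.card : ℝ) * g ≤ (p : ℝ) ^ r * g := by linarith
      exact le_of_mul_le_mul_right this hgpos
    have ha' : (Y.card : ℝ) * (p : ℝ) ^ 2 ≤ (p : ℝ) ^ d := by
      have : (Y.card : ℝ) * (p : ℝ) ^ 2 * g ≤ (p : ℝ) ^ d * g := by linarith
      exact le_of_mul_le_mul_right this hgpos
    have hrd' : (p : ℝ) ^ (r + 1) ≤ (p : ℝ) ^ d :=
      pow_le_pow_right₀ (by linarith) (by omega)
    have hk : (Fintype.card ι : ℝ) = (Y.card : ℝ) + (Yc.card : ℝ) := by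
      rw [← hcard]; push_cast; rfl
    have hfin : (Fintype.card ι : ℝ) * (p : ℝ) ^ 2 ≤ (p : ℝ) ^ d * (p : ℝ) ^ 2 := by
      have h1 : (Yc.card : ℝ) * (p : ℝ) ^ 2 ≤ (p : ℝ) ^ r * (p : ℝ) ^ 2 :=
        mul_le_mul_of_nonneg_right hb' (by positivity)
      have h2 : (p : ℝ) ^ r * (p : ℝ) ^ 2 = (p : ℝ) ^ (r + 1) * (p : ℝ) := by ring
      have h3 : (p : ℝ) ^ (r + 1) * (p : ℝ) ≤ (p : ℝ) ^ d * (p : ℝ) :=
        mul_le_mul_of_nonneg_right hrd' hpR.le
      have h4 : (0 : ℝ) < (p : ℝ) ^ d := by positivity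
      have h5 : (p : ℝ) ^ d * (p : ℝ) ^ 2 = (p : ℝ) ^ d * (p : ℝ) * (p : ℝ) := by ring
      have h6 : (p : ℝ) ^ d + (p : ℝ) ^ d * (p : ℝ) ≤ (p : ℝ) ^ d * (p : ℝ) * (p : ℝ) := by
        nlinarith [mul_pos h4 hpR]
      rw [hk, add_mul]
      linarith
    have h2 : (Fintype.card ι : ℝ) ≤ (p : ℝ) ^ d :=
      le_of_mul_le_mul_right hfin (by positivity)
    exact_mod_cast h2

end Cfsg.Agent.Lib.Helper6.MajSubALG2c
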