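/-
helper6: S3222, part F: an automorphism of `A₆` fixing an element of order 3 is induced by `S₆`.
-/
import Mathlib
import Cfsg.Agent.Lib.Helper9.AltAut

set_option autoImplicit false

namespace Cfsg.Agent.Lib.Helper6.S6Rec

open Equiv Equiv.Perm

/-- a fixed element of cycle type `(3,3)` -/
def d0 : Perm (Fin 6) := (swap 0 1 * swap 1 2) * (swap 3 4 * swap 4 5)

/-- an odd permutation commuting with `d0` -/
def tau0 : Perm (Fin 6) := swap 0 3 * swap 1 4 * swap 2 5

theorem tau0_facts : tau0 * d0 * tau0⁻¹ = d0 ∧ Perm.sign tau0 = -1 := by decide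

theorem d0_cycleType : d0.cycleType = {3, 3} := by
  have h1 : (swap (0 : Fin 6) 1 * swap 1 2).IsThreeCycle :=
    Cfsg.Agent.Lib.Helper9.AltAut.isThreeCycle_c3 (by decide) (by decide) (by decide)
  have h2 : (swap (3 : Fin 6) 4 * swap 4 5).IsThreeCycle :=
    Cfsg.Agent.Lib.Helper9.AltAut.isThreeCycle_c3 (by decide) (by decide) (by decide)
  have hd : Perm.Disjoint (swap (0 : Fin 6) 1 * swap 1 2) (swap (3 : Fin 6) 4 * swap 4 5) := by
    intro x
    revert x
    decide
  unfold d0
  rw [hd.cycleType_mul, h1.cycleType, h2.cycleType]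
  rfl

theorem exists_even_conj {x y : Perm (Fin 6)} (hx : x.cycleType = {3, 3})
    (hy : y.cycleType = {3, 3}) : ∃ h : Perm (Fin 6), Perm.sign h = 1 ∧ h * x * h⁻¹ = y := by
  obtain ⟨s₁, h₁⟩ := isConj_iff.mp (isConj_iff_cycleType_eq.mpr (hx.trans d0_cycleType.symm))
  obtain ⟨s₂, h₂⟩ := isConj_iff.mp (isConj_iff_cycleType_eq.mpr (d0_cycleType.trans hy.symm))
  rcases Int.units_eq_one_or (Perm.sign (s₂ * s₁)) with h | h
  · refine ⟨s₂ * s₁, h, ?_⟩
    calc s₂ * s₁ * x * (s₂ * s₁)⁻¹ = s₂ * (s₁ * x * s₁⁻¹) * s₂⁻¹ := by group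
      _ = y := by rw [h₁, h₂]
  · refine ⟨s₂ * tau0 * s₁, ?_, ?_⟩
    · rw [map_mul, map_mul, tau0_facts.2]
      rw [map_mul] at h
      have : Perm.sign s₂ * -1 * Perm.sign s₁ = -(Perm.sign s₂ * Perm.sign s₁) := by
        rw [mul_neg, mul_one, neg_mul]
      rw [this, h, neg_neg]
    · calc s₂ * tau0 * s₁ * x * (s₂ * tau0 * s₁)⁻¹
          = s₂ * (tau0 * (s₁ * x * s₁⁻¹) * tau0⁻¹) * s₂⁻¹ := by group
        _ = y := by rw [h₁, tau0_facts.1, h₂]

theorem cycleType_of_order_three {x : Perm (Fin 6)} (h : orderOf x = 3) :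
    x.IsThreeCycle ∨ x.cycleType = {3, 3} := by
  have hp : (orderOf x).Prime := by rw [h]; exact Nat.prime_three
  obtain ⟨n, hn⟩ := cycleType_prime_order hp
  rw [h] at hn
  have hs := Perm.sum_cycleType_le x
  rw [hn, Multiset.sum_replicate, smul_eq_mul, Fintype.card_fin] at hs
  have hn1 : n = 0 ∨ n = 1 := by omega
  rcases hn1 with rfl | rfl
  · left; exact hn
  · right; rw [hn]; rfl

/-- an automorphism of `A₆` fixing some element of order 3 preserves 3-cycles -/
theorem preserves_threeCycle (φ : MulAut (alternatingGroup (Fin 6)))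
    (c₀ : alternatingGroup (Fin 6)) (h3 : orderOf c₀ = 3) (hφ : φ c₀ = c₀)
    (c : alternatingGroup (Fin 6)) (hc : (c : Perm (Fin 6)).IsThreeCycle) :
    ((φ c : alternatingGroup (Fin 6)) : Perm (Fin 6)).IsThreeCycle := by
  have h3' : orderOf (c₀ : Perm (Fin 6)) = 3 := by rw [Subgroup.orderOf_coe, h3]
  rcases cycleType_of_order_three h3' with h | h
  · have hconj := alternatingGroup.isThreeCycle_isConj (by simp) h hc
    obtain ⟨k, hk⟩ := isConj_iff.mp hconj
    have : φ c = φ k * c₀ * (φ k)⁻¹ := by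
      rw [← hk, map_mul, map_mul, map_inv, hφ]
    rw [this, Subgroup.coe_mul, Subgroup.coe_mul, Subgroup.coe_inv]
    unfold IsThreeCycle
    rw [cycleType_conj]
    exact h
  · have ho : orderOf ((φ c : alternatingGroup (Fin 6)) : Perm (Fin 6)) = 3 := by
      rw [Subgroup.orderOf_coe, MulEquiv.orderOf_eq, ← Subgroup.orderOf_coe, hc.orderOf]
    rcases cycleType_of_order_three ho with h' | h'
    · exact h'
    · exfalso
      obtain ⟨k, hk1, hk2⟩ := exists_even_conj h h'
      let k' : alternatingGroup (Fin 6) := ⟨k, Perm.mem_alternatingGroup.mpr hk1⟩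
      have e1 : k' * c₀ * k'⁻¹ = φ c := Subtype.ext hk2
      have e2 : c = φ.symm k' * c₀ * (φ.symm k')⁻¹ := by
        apply φ.injective
        rw [map_mul, map_mul, map_inv, MulEquiv.apply_symm_apply, hφ, e1]
      have e3 : (c : Perm (Fin 6)).cycleType = {3, 3} := by
        rw [e2, Subgroup.coe_mul, Subgroup.coe_mul, Subgroup.coe_inv, cycleType_conj]
        exact h
      rw [hc.cycleType] at e3
      revert e3
      decide

/-- an automorphism of `A₆` fixing some element of order 3 is conjugation by a permutation -/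
theorem exists_perm_of_fixed (φ : MulAut (alternatingGroup (Fin 6)))
    (c₀ : alternatingGroup (Fin 6)) (h3 : orderOf c₀ = 3) (hφ : φ c₀ = c₀) :
    ∃ g : Perm (Fin 6), MulAut.conjNormal g = φ :=
  Cfsg.Agent.Lib.Helper9.AltAut.exists_conj_of_preserves (by simp) φ
    (fun c hc => preserves_threeCycle φ c₀ h3 hφ c hc)

end Cfsg.Agent.Lib.Helper6.S6Rec
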