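/-
helper6: Fong's theorem, part C: for an invariant irreducible character `θ` of a normal subgroup
`N` there is a finite central extension `E` of `G` (by a cyclic group whose order divides
`θ(1) |N|`) in which `N` lifts to a normal subgroup and `θ` extends to an irreducible character.
-/
import Mathlib
import Cfsg.Agent.Lib.Helper6.ProjExt
import Cfsg.Agent.Lib.Lead.BlockBasic
import Cfsg.Agent.Lib.Helper24.IrrFacts

set_option autoImplicit false

namespace Cfsg.Agent.Lib.Helper6.FongBlock

open Cfsg Cfsg.Agent.CharLib Cfsg.Agent.Lib.Helper24 Cfsg.Agent.Lib.Helper6 Matrix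
open scoped ComplexConjugate

universe u

variable {G : Type u} [Group G]

section ext

variable (N : Subgroup G) [hN : N.Normal] {d : ℕ} (R : N →* Matrix (Fin d) (Fin d) ℂ)

/-- The determinant on the intertwiner group, raised to the power `m`. -/
noncomputable def detPow (m : ℕ) : intertwinerGroup N R →* ℂˣ :=
  (powMonoidHom m).comp ((Units.map (Matrix.detMonoidHom (n := Fin d) (R := ℂ))).comp
    ((MonoidHom.snd G _).comp (intertwinerGroup N R).subtype))

theorem detPow_apply (m : ℕ) (x : intertwinerGroup N R) :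
    ((detPow N R m x : ℂˣ) : ℂ) =
      (((x : G × (Matrix (Fin d) (Fin d) ℂ)ˣ).2 : Matrix (Fin d) (Fin d) ℂ)).det ^ m := by
  unfold detPow
  simp

theorem detPow_scalar (m : ℕ) (c : ℂˣ) :
    detPow N R m (intertwinerScalar N R c) = c ^ (d * m) := by
  apply Units.ext
  rw [detPow_apply, intertwinerScalar_snd, Algebra.algebraMap_eq_smul_one, Matrix.det_smul,
    Matrix.det_one, mul_one, Fintype.card_fin, ← pow_mul]
  push_cast
  rfl

theorem detPow_normal (m : ℕ) (hm : ∀ n : N, n ^ m = 1) (n : N) :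
    detPow N R m (intertwinerNormal N R n) = 1 := by
  apply Units.ext
  rw [detPow_apply, intertwinerNormal_snd, ← Matrix.det_pow, ← map_pow, hm, map_one, Matrix.det_one]
  rfl

/-- The finite central extension: intertwiners whose determinant has order dividing `m`. -/
noncomputable def finExt (m : ℕ) : Subgroup (intertwinerGroup N R) := (detPow N R m).ker

/-- The projection of the finite extension onto `G`. -/
noncomputable def finExtFst (m : ℕ) : finExt N R m →* G :=
  (intertwinerFst N R).comp (finExt N R m).subtype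

theorem finExtFst_surjective (hd : 0 < d) (m : ℕ) (hm : 0 < m)
    (hP : ∀ g : G, ∃ P₀ : Matrix (Fin d) (Fin d) ℂ, P₀.det ≠ 0 ∧
      ∀ n : N, P₀ * R n = R ⟨g * n * g⁻¹, hN.conj_mem n n.2 g⟩ * P₀) :
    Function.Surjective (finExtFst N R m) := by
  intro g
  obtain ⟨e₀, he₀⟩ := intertwinerFst_surjective N R hP g
  set δ : ℂˣ := detPow N R m e₀ with hδ
  obtain ⟨c, hc⟩ := IsAlgClosed.exists_pow_nat_eq ((δ⁻¹ : ℂˣ) : ℂ) (Nat.mul_pos hd hm)
  have hc0 : c ≠ 0 := by
    intro h
    rw [h, zero_pow (Nat.mul_pos hd hm).ne'] at hc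
    exact (Units.ne_zero _) hc.symm
  set cu : ℂˣ := Units.mk0 c hc0 with hcu
  have hcu' : cu ^ (d * m) = δ⁻¹ := by
    apply Units.ext
    rw [Units.val_pow_eq_pow_val, hcu, Units.val_mk0, hc]
  refine ⟨⟨intertwinerScalar N R cu * e₀, ?_⟩, ?_⟩
  · change intertwinerScalar N R cu * e₀ ∈ (detPow N R m).ker
    rw [MonoidHom.mem_ker, map_mul, detPow_scalar, hcu', ← hδ, inv_mul_cancel]
  · change intertwinerFst N R (intertwinerScalar N R cu * e₀) = g
    rw [map_mul, intertwinerFst_scalar, one_mul, he₀]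

theorem finExt_ker_eq_scalar (hd : 0 < d) (m : ℕ)
    (hschur : ∀ B : Matrix (Fin d) (Fin d) ℂ, (∀ n, B * R n = R n * B) → ∃ c : ℂ, B = c • 1)
    (z : finExt N R m) (hz : finExtFst N R m z = 1) :
    ∃ c : ℂˣ, c ^ (d * m) = 1 ∧ (z : intertwinerGroup N R) = intertwinerScalar N R c := by
  obtain ⟨c, hc⟩ := exists_scalar_of_fst_eq_one N R hd hschur (z : intertwinerGroup N R) hz
  refine ⟨c, ?_, hc⟩
  have h1 : detPow N R m (z : intertwinerGroup N R) = 1 := z.2
  rw [hc, detPow_scalar] at h1
  exact h1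

theorem finExt_ker_central (hd : 0 < d) (m : ℕ)
    (hschur : ∀ B : Matrix (Fin d) (Fin d) ℂ, (∀ n, B * R n = R n * B) → ∃ c : ℂ, B = c • 1) :
    (finExtFst N R m).ker ≤ Subgroup.center (finExt N R m) := by
  intro z hz
  obtain ⟨c, -, hc⟩ := finExt_ker_eq_scalar N R hd m hschur z hz
  rw [Subgroup.mem_center_iff]
  intro e
  apply Subtype.ext
  change (e : intertwinerGroup N R) * (z : intertwinerGroup N R) =
    (z : intertwinerGroup N R) * (e : intertwinerGroup N R)
  rw [hc]
  exact (intertwinerScalar_central N R c _).symm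

theorem finExt_ker_pow (hd : 0 < d) (m : ℕ)
    (hschur : ∀ B : Matrix (Fin d) (Fin d) ℂ, (∀ n, B * R n = R n * B) → ∃ c : ℂ, B = c • 1)
    (z : (finExtFst N R m).ker) : z ^ (d * m) = 1 := by
  obtain ⟨c, hc1, hc⟩ := finExt_ker_eq_scalar N R hd m hschur z.1 z.2
  apply Subtype.ext
  apply Subtype.ext
  change ((z : finExt N R m) : intertwinerGroup N R) ^ (d * m) = 1
  rw [hc, ← map_pow, hc1, map_one]

theorem finExt_ker_finite (hd : 0 < d) (m : ℕ) (hm : 0 < m)
    (hschur : ∀ B : Matrix (Fin d) (Fin d) ℂ, (∀ n, B * R n = R n * B) → ∃ c : ℂ, B = c • 1) :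
    Finite (finExtFst N R m).ker := by
  have hne : NeZero (d * m) := ⟨(Nat.mul_pos hd hm).ne'⟩
  have hfin : Finite (rootsOfUnity (d * m) ℂ) := inferInstance
  let f : rootsOfUnity (d * m) ℂ → (finExtFst N R m).ker := fun c =>
    ⟨⟨intertwinerScalar N R (c : ℂˣ), by
      change intertwinerScalar N R (c : ℂˣ) ∈ (detPow N R m).ker
      rw [MonoidHom.mem_ker, detPow_scalar]
      exact (mem_rootsOfUnity _ _).mp c.2⟩, by
      rw [MonoidHom.mem_ker]
      rfl⟩
  apply Finite.of_surjective f
  intro z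
  obtain ⟨c, hc1, hc⟩ := finExt_ker_eq_scalar N R hd m hschur z.1 z.2
  refine ⟨⟨c, (mem_rootsOfUnity _ _).mpr hc1⟩, ?_⟩
  apply Subtype.ext
  apply Subtype.ext
  exact hc.symm

/-- The lift of `N` into the finite extension. -/
noncomputable def finExtNormal (m : ℕ) (hm : ∀ n : N, n ^ m = 1) : N →* finExt N R m :=
  (intertwinerNormal N R).codRestrict (finExt N R m) (fun n => by
    change intertwinerNormal N R n ∈ (detPow N R m).ker
    rw [MonoidHom.mem_ker]
    exact detPow_normal N R m hm n)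

theorem finExtFst_normal (m : ℕ) (hm : ∀ n : N, n ^ m = 1) (n : N) :
    finExtFst N R m (finExtNormal N R m hm n) = n := rfl

theorem finExtNormal_range_normal (m : ℕ) (hm : ∀ n : N, n ^ m = 1) :
    (finExtNormal N R m hm).range.Normal := by
  constructor
  rintro x ⟨n, rfl⟩ e
  obtain ⟨k, hk⟩ := intertwinerNormal_conj N R ((e : intertwinerGroup N R)⁻¹) n
  rw [inv_inv] at hk
  refine ⟨k, ?_⟩
  apply Subtype.ext
  change intertwinerNormal N R k =
    (e : intertwinerGroup N R) * intertwinerNormal N R n * (e : intertwinerGroup N R)⁻¹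
  exact hk.symm

/-- The tautological representation of the finite extension. -/
noncomputable def finExtRep (m : ℕ) : Representation ℂ (finExt N R m) (Fin d → ℂ) where
  toFun e := Matrix.toLin'
    (((e : intertwinerGroup N R) : G × (Matrix (Fin d) (Fin d) ℂ)ˣ).2 : Matrix (Fin d) (Fin d) ℂ)
  map_one' := by
    change Matrix.toLin' ((1 : (Matrix (Fin d) (Fin d) ℂ)ˣ) : Matrix (Fin d) (Fin d) ℂ) = 1
    rw [Units.val_one, Matrix.toLin'_one]
    rfl
  map_mul' a b := by
    change Matrix.toLin' (((((a : intertwinerGroup N R) : G × (Matrix (Fin d) (Fin d) ℂ)ˣ).2 *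
      ((b : intertwinerGroup N R) : G × (Matrix (Fin d) (Fin d) ℂ)ˣ).2 :
        (Matrix (Fin d) (Fin d) ℂ)ˣ)) : Matrix (Fin d) (Fin d) ℂ) = _
    rw [Units.val_mul, Matrix.toLin'_mul]
    rfl

theorem finExtRep_normal (m : ℕ) (hm : ∀ n : N, n ^ m = 1) (n : N) :
    finExtRep N R m (finExtNormal N R m hm n) = Matrix.toLin' (R n) := rfl

end ext

section main

variable [Finite G] {p : ℕ} [hpp : Fact p.Prime]

/-- **The finite central extension**. -/
theorem exists_central_extension (N : Subgroup G) [hN : N.Normal] (θ : IrrCharacter N)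
    (hinv : ∀ (g : G) (n : N), (θ : N → ℂ) ⟨g * n * g⁻¹, hN.conj_mem n n.2 g⟩ = (θ : N → ℂ) n)
    (hNp : ¬ p ∣ Nat.card N) :
    ∃ (E : Type u) (_ : Group E) (_ : Finite E) (π : E →* G) (ι : N →* E) (τ : IrrCharacter E),
      Function.Surjective π ∧ π.ker ≤ Subgroup.center E ∧ ¬ p ∣ Nat.card π.ker ∧
      (∀ n : N, π (ι n) = (n : G)) ∧ ι.range.Normal ∧
      (∀ n : N, (τ : E → ℂ) (ι n) = (θ : N → ℂ) n) ∧ ¬ p ∣ charDegree (τ : E → ℂ) := by
  classical
  have hθdvd : charDegree (θ : N → ℂ) ∣ Nat.card N := irr_charDegree_dvd_card θ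
  have hθ1 := irr_apply_one θ
  obtain ⟨θf, d, ρ, hρ, rfl⟩ := θ
  change ρ.character 1 = _ at hθ1
  have hd : 0 < d := by
    have := finrank_pos_of_isIrreducible ρ
    rwa [Module.finrank_fin_fun] at this
  have hdeg : charDegree ρ.character = d := by
    apply charDegree_eq_of_apply_one
    rw [Representation.char_one, Module.finrank_fin_fun]
  change charDegree ρ.character ∣ Nat.card N at hθdvd
  rw [hdeg] at hθdvd
  have hinv' : ∀ (g : G) (n : N), ρ.character ⟨g * n * g⁻¹, hN.conj_mem n n.2 g⟩ =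
      ρ.character n := hinv
  have hpd : ¬ p ∣ d := fun h => hNp (dvd_trans h hθdvd)
  let R : N →* Matrix (Fin d) (Fin d) ℂ :=
    { toFun := fun n => LinearMap.toMatrix' (ρ n)
      map_one' := by rw [map_one]; exact LinearMap.toMatrix'_one
      map_mul' := by intro a b; rw [map_mul]; exact LinearMap.toMatrix'_mul _ _ }
  have hR : ∀ n : N, R n = LinearMap.toMatrix' (ρ n) := fun n => rfl
  have hschur : ∀ B : Matrix (Fin d) (Fin d) ℂ, (∀ n, B * R n = R n * B) → ∃ c : ℂ, B = c • 1 := by
    intro B hB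
    obtain ⟨cc, hcc⟩ := exists_eq_smul_one_of_comm ρ (Matrix.toLin' B) (by
      intro n
      have h1 := hB n
      rw [hR] at h1
      have h2 := congrArg Matrix.toLin' h1
      rw [Matrix.toLin'_mul, Matrix.toLin'_mul, Matrix.toLin'_toMatrix'] at h2
      exact h2)
    refine ⟨cc, ?_⟩
    have h3 := congrArg LinearMap.toMatrix' hcc
    rw [LinearMap.toMatrix'_toLin', map_smul] at h3
    rw [h3]
    congr 1
    exact LinearMap.toMatrix'_one
  have hP : ∀ g : G, ∃ P₀ : Matrix (Fin d) (Fin d) ℂ, P₀.det ≠ 0 ∧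
      ∀ n : N, P₀ * R n = R ⟨g * n * g⁻¹, hN.conj_mem n n.2 g⟩ * P₀ := by
    intro g
    let cg : N ≃* N := MulAut.conjNormal g
    let ρ' : Representation ℂ N (Fin d → ℂ) := ρ.comp cg.toMonoidHom
    have hchar : ρ.character = ρ'.character := by
      funext n
      change _ = ρ.character (cg n)
      rw [← hinv' g n]
      rfl
    obtain ⟨φ⟩ := nonempty_equiv_of_character_eq ρ ρ' hchar
    refine ⟨LinearMap.toMatrix' φ.toLinearEquiv.toLinearMap, ?_, ?_⟩
    · apply det_ne_zero_of_mul_eq_one (B := LinearMap.toMatrix' φ.toLinearEquiv.symm.toLinearMap)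
      rw [← LinearMap.toMatrix'_comp, LinearEquiv.comp_symm]
      exact LinearMap.toMatrix'_id
    · intro n
      rw [hR, hR, ← LinearMap.toMatrix'_comp, ← LinearMap.toMatrix'_comp]
      congr 1
      exact φ.toIntertwiningMap.isIntertwining' n
  set m := Nat.card N with hm
  have hm0 : 0 < m := Nat.card_pos
  have hmN : ∀ n : N, n ^ m = 1 := fun n => pow_card_eq_one'
  let _ := Fintype.ofFinite G
  have hkerfin : Finite (finExtFst N R m).ker := finExt_ker_finite N R hd m hm0 hschur
  let _ : Fintype (finExtFst N R m).ker := Fintype.ofFinite _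
  let hEfin : Fintype (finExt N R m) := Group.fintypeOfKerOfCodom (finExtFst N R m)
  have hirr : (finExtRep N R m).IsIrreducible := by
    apply isIrreducible_of_comp (finExtNormal N R m hmN) (finExtRep N R m)
    have h1 : (MonoidHom.comp (finExtRep N R m) (finExtNormal N R m hmN) :
        Representation ℂ N (Fin d → ℂ)) = ρ := by
      apply MonoidHom.ext
      intro n
      change finExtRep N R m (finExtNormal N R m hmN n) = ρ n
      rw [finExtRep_normal, hR, Matrix.toLin'_toMatrix']
    rw [h1]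
    exact hρ
  refine ⟨finExt N R m, inferInstance, Finite.of_fintype _, finExtFst N R m, finExtNormal N R m hmN,
    ⟨(finExtRep N R m).character, ⟨d, finExtRep N R m, hirr, rfl⟩⟩,
    finExtFst_surjective N R hd m hm0 hP, finExt_ker_central N R hd m hschur, ?_,
    finExtFst_normal N R m hmN, finExtNormal_range_normal N R m hmN, ?_, ?_⟩
  · intro hdvd
    obtain ⟨z, hz⟩ := exists_prime_orderOf_dvd_card' p hdvd
    have h1 := finExt_ker_pow N R hd m hschur z
    have h2 : p ∣ d * m := by
      rw [← hz]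
      exact orderOf_dvd_of_pow_eq_one h1
    rcases (Nat.Prime.dvd_mul hpp.out).mp h2 with h3 | h3
    · exact hpd h3
    · exact hNp h3
  · intro n
    change LinearMap.trace ℂ _ (finExtRep N R m (finExtNormal N R m hmN n)) =
      LinearMap.trace ℂ _ (ρ n)
    rw [finExtRep_normal, hR, Matrix.toLin'_toMatrix']
  · have h1 : charDegree (finExtRep N R m).character = d := by
      apply charDegree_eq_of_apply_one
      rw [Representation.char_one, Module.finrank_fin_fun]
    change ¬ p ∣ charDegree (finExtRep N R m).character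
    rw [h1]
    exact hpd

end main

end Cfsg.Agent.Lib.Helper6.FongBlock
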