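/-
helper6: character triple reduction, part A: the finite central extension in which an invariant
irreducible character of a normal subgroup extends (no prime involved), the central character of
an irreducible character as a homomorphism, deflation of irreducible characters along a surjective
homomorphism, and transfer of solvability between quotients with the same kernel.
-/
import Mathlib
import Cfsg.Agent.Lib.Helper6.FongC
import Cfsg.Agent.Lib.Helper6.QuotBlock
import Cfsg.Agent.Lib.Helper24.CentralElt
import Cfsg.Agent.Lib.Lead.CharEquiv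

set_option autoImplicit false

namespace Cfsg.Agent.Lib.Helper6.CTriple

open Cfsg Cfsg.Agent.CharLib Cfsg.Agent.Lib.Helper24 Cfsg.Agent.Lib.Helper6
  Cfsg.Agent.Lib.Helper6.FongBlock Matrix
open scoped ComplexConjugate

universe u

section ext

variable {G : Type u} [Group G] [Finite G]

/-- **The finite central extension**, with no prime involved. -/
theorem exists_central_extension' (N : Subgroup G) [hN : N.Normal] (θ : IrrCharacter N)
    (hinv : ∀ (g : G) (n : N), (θ : N → ℂ) ⟨g * n * g⁻¹, hN.conj_mem n n.2 g⟩ = (θ : N → ℂ) n) :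
    ∃ (E : Type u) (_ : Group E) (_ : Finite E) (π : E →* G) (ι : N →* E) (τ : IrrCharacter E),
      Function.Surjective π ∧ π.ker ≤ Subgroup.center E ∧
      (∀ n : N, π (ι n) = (n : G)) ∧ ι.range.Normal ∧
      (∀ n : N, (τ : E → ℂ) (ι n) = (θ : N → ℂ) n) := by
  classical
  obtain ⟨θf, d, ρ, hρ, rfl⟩ := θ
  have hd : 0 < d := by
    have := finrank_pos_of_isIrreducible ρ
    rwa [Module.finrank_fin_fun] at this
  have hinv' : ∀ (g : G) (n : N), ρ.character ⟨g * n * g⁻¹, hN.conj_mem n n.2 g⟩ =
      ρ.character n := hinv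
  let R : N →* Matrix (Fin d) (Fin d) ℂ :=
    { toFun := fun n => LinearMap.toMatrix' (ρ n)
      map_one' := by rw [map_one]; exact LinearMap.toMatrix'_one
      map_mul' := by intro a b; rw [map_mul]; exact LinearMap.toMatrix'_mul _ _ }
  have hR : ∀ n : N, R n = LinearMap.toMatrix' (ρ n) := fun n => rfl
  have hschur : ∀ B : Matrix (Fin d) (Fin d) ℂ, (∀ n, B * R n = R n * B) → ∃ c : ℂ, B = c • 1 := by
    intro B hB
    obtain ⟨cc, hcc⟩ := exists_eq_smul_one_of_comm ρ (Matrix.toLin' B) (by
      intro n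
      have h1 := hB n
      rw [hR] at h1
      have h2 := congrArg Matrix.toLin' h1
      rw [Matrix.toLin'_mul, Matrix.toLin'_mul, Matrix.toLin'_toMatrix'] at h2
      exact h2)
    refine ⟨cc, ?_⟩
    have h3 := congrArg LinearMap.toMatrix' hcc
    rw [LinearMap.toMatrix'_toLin', map_smul] at h3
    rw [h3]
    congr 1
    exact LinearMap.toMatrix'_one
  have hP : ∀ g : G, ∃ P₀ : Matrix (Fin d) (Fin d) ℂ, P₀.det ≠ 0 ∧
      ∀ n : N, P₀ * R n = R ⟨g * n * g⁻¹, hN.conj_mem n n.2 g⟩ * P₀ := by
    intro g
    let cg : N ≃* N := MulAut.conjNormal g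
    let ρ' : Representation ℂ N (Fin d → ℂ) := ρ.comp cg.toMonoidHom
    have hchar : ρ.character = ρ'.character := by
      funext n
      change _ = ρ.character (cg n)
      rw [← hinv' g n]
      rfl
    obtain ⟨φ⟩ := nonempty_equiv_of_character_eq ρ ρ' hchar
    refine ⟨LinearMap.toMatrix' φ.toLinearEquiv.toLinearMap, ?_, ?_⟩
    · apply det_ne_zero_of_mul_eq_one (B := LinearMap.toMatrix' φ.toLinearEquiv.symm.toLinearMap)
      rw [← LinearMap.toMatrix'_comp, LinearEquiv.comp_symm]
      exact LinearMap.toMatrix'_id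
    · intro n
      rw [hR, hR, ← LinearMap.toMatrix'_comp, ← LinearMap.toMatrix'_comp]
      congr 1
      exact φ.toIntertwiningMap.isIntertwining' n
  set m := Nat.card N with hm
  have hm0 : 0 < m := Nat.card_pos
  have hmN : ∀ n : N, n ^ m = 1 := fun n => pow_card_eq_one'
  let _ := Fintype.ofFinite G
  have hkerfin : Finite (finExtFst N R m).ker := finExt_ker_finite N R hd m hm0 hschur
  let _ : Fintype (finExtFst N R m).ker := Fintype.ofFinite _
  let hEfin : Fintype (finExt N R m) := Group.fintypeOfKerOfCodom (finExtFst N R m)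
  have hirr : (finExtRep N R m).IsIrreducible := by
    apply isIrreducible_of_comp (finExtNormal N R m hmN) (finExtRep N R m)
    have h1 : (MonoidHom.comp (finExtRep N R m) (finExtNormal N R m hmN) :
        Representation ℂ N (Fin d → ℂ)) = ρ := by
      apply MonoidHom.ext
      intro n
      change finExtRep N R m (finExtNormal N R m hmN n) = ρ n
      rw [finExtRep_normal, hR, Matrix.toLin'_toMatrix']
    rw [h1]
    exact hρ
  refine ⟨finExt N R m, inferInstance, Finite.of_fintype _, finExtFst N R m, finExtNormal N R m hmN,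
    ⟨(finExtRep N R m).character, ⟨d, finExtRep N R m, hirr, rfl⟩⟩,
    finExtFst_surjective N R hd m hm0 hP, finExt_ker_central N R hd m hschur,
    finExtFst_normal N R m hmN, finExtNormal_range_normal N R m hmN, ?_⟩
  intro n
  change LinearMap.trace ℂ _ (finExtRep N R m (finExtNormal N R m hmN n)) =
    LinearMap.trace ℂ _ (ρ n)
  rw [finExtRep_normal, hR, Matrix.toLin'_toMatrix']

end ext

section central

variable {E : Type u} [Group E]

/-- The central character of an irreducible character, as a homomorphism on a central subgroup. -/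
theorem exists_centralHom (τ : IrrCharacter E) (Z : Subgroup E) (hZ : Z ≤ Subgroup.center E) :
    ∃ lam : Z →* ℂˣ, ∀ (z : Z) (e : E),
      (τ : E → ℂ) ((z : E) * e) = ((lam z : ℂˣ) : ℂ) * (τ : E → ℂ) e := by
  classical
  have hτ1 : (τ : E → ℂ) 1 ≠ 0 := irr_apply_one_ne_zero τ
  have key : ∀ z : Z, ∀ e : E, (τ : E → ℂ) ((z : E) * e) =
      ((τ : E → ℂ) z / (τ : E → ℂ) 1) * (τ : E → ℂ) e := by
    intro z e
    obtain ⟨n, ρ, hirr, hρ⟩ := τ.2
    haveI := hirr
    obtain ⟨c, hc⟩ := exists_central_scalar ρ (z : E) (hZ z.2)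
    have h1 : ∀ x : E, (τ : E → ℂ) ((z : E) * x) = c * (τ : E → ℂ) x := by
      intro x
      rw [← hρ]
      exact char_scalar_mul ρ (z : E) c hc x
    have h2 := h1 1
    rw [mul_one] at h2
    rw [h1 e, h2]
    field_simp
  let f : Z →* ℂ :=
    { toFun := fun z => (τ : E → ℂ) z / (τ : E → ℂ) 1
      map_one' := by
        change (τ : E → ℂ) ((1 : Z) : E) / _ = 1
        rw [Subgroup.coe_one, div_self hτ1]
      map_mul' := by
        intro a b
        change (τ : E → ℂ) ((a * b : Z) : E) / _ = _
        rw [Subgroup.coe_mul, key a (b : E)]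
        field_simp }
  refine ⟨f.toHomUnits, ?_⟩
  intro z e
  rw [MonoidHom.coe_toHomUnits]
  exact key z e

end central

section deflate

/-- Deflation of an irreducible character along a surjective homomorphism. -/
theorem exists_deflation_hom {X Y : Type u} [Group X] [Finite X] [Group Y] (f : X →* Y)
    (hf : Function.Surjective f) (ψ : IrrCharacter X)
    (h : ∀ k ∈ f.ker, (ψ : X → ℂ) k = (ψ : X → ℂ) 1) :
    ∃ χ : IrrCharacter Y, ∀ x, (χ : Y → ℂ) (f x) = (ψ : X → ℂ) x := by
  obtain ⟨β, hβ⟩ := exists_deflation f.ker ψ h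
  let e : X ⧸ f.ker ≃* Y := QuotientGroup.quotientKerEquivOfSurjective f hf
  refine ⟨⟨(β : X ⧸ f.ker → ℂ) ∘ e.symm, isIrrCharacter_comp_mulEquiv' e.symm β.2⟩, ?_⟩
  intro x
  change (β : X ⧸ f.ker → ℂ) (e.symm (f x)) = _
  have h1 : e.symm (f x) = (x : X ⧸ f.ker) := by
    rw [MulEquiv.symm_apply_eq]
    rfl
  rw [h1, hβ]

/-- Two quotients of a group by the same kernel are solvable together. -/
theorem isSolvable_of_surjective_of_ker_le {X Y Y' : Type*} [Group X] [Group Y] [Group Y']
    (f : X →* Y) (hf : Function.Surjective f) (g : X →* Y') (hg : Function.Surjective g)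
    (h : f.ker ≤ g.ker) [Group.IsSolvable Y] : Group.IsSolvable Y' := by
  let φ : Y →* Y' := f.liftOfSurjective hf ⟨g, h⟩
  apply Group.isSolvable_of_surjective (f := φ)
  intro y'
  obtain ⟨x, rfl⟩ := hg y'
  exact ⟨f x, MonoidHom.liftOfRightInverse_comp_apply _ _ _ _ x⟩

end deflate

end Cfsg.Agent.Lib.Helper6.CTriple
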