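import Mathlib
import Cfsg.Agent.Lib.Lead.CNExc6
import Cfsg.Agent.Lib.Lead.Taketa
import Cfsg.Agent.Lib.Helper6.CentralHom
import Cfsg.Agent.Lib.Helper10.GenOrtho

/-!
Leaf for S4064 (helper23): the characters not trivial on the kernel `K` of a Frobenius-type group
`L = K ⋊ D` with `|K| = q³`, `|D| = q - 1`, `E₀ = Z(K) = K'` of order `q` (Suzuki 2-group type):
`q + 1` of degree `q - 1` trivial on `E₀` and one of degree `q (q - 1)`.
-/

set_option autoImplicit false

namespace Cfsg.Agent.Lib.Helper6.CTIExc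

open Cfsg Cfsg.Agent.CharLib Cfsg.Agent.Lib.Lead.CNExc Cfsg.Agent.Lib.Helper6
open scoped ComplexConjugate commutatorElement

universe u

section kernel

variable {L : Type u} [Group L] [Fintype L] (K E₀ : Subgroup L)

/-- the dichotomy for an irreducible character of the kernel -/
theorem irr_kernel_cases (q : ℕ) (hq : 2 ≤ q) (hE₀K : E₀ ≤ K)
    (hcardK : Nat.card K = q ^ 3) (hcardE : Nat.card E₀ = q)
    (hcentral : ∀ z ∈ E₀, ∀ x ∈ K, z * x = x * z)
    (hcomm : ∀ x ∈ K, ∀ y ∈ K, x * y * x⁻¹ * y⁻¹ ∈ E₀)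
    (hconj : ∀ x ∈ K, x ∉ E₀ → ∀ z ∈ E₀, ∃ g ∈ K, g * x * g⁻¹ = x * z)
    (φ : K → ℂ) (hφ : IsIrrCharacter K φ) :
    (φ 1 = 1 ∧ ∀ z : K, (z : L) ∈ E₀ → φ z = 1) ∨ φ 1 = (q : ℂ) := by
  classical
  -- an element of `K` outside `E₀`
  have hexx : ∃ x : K, (x : L) ∉ E₀ := by
    by_contra hcon
    push Not at hcon
    have hle : K ≤ E₀ := fun x hx => hcon ⟨x, hx⟩
    have := Subgroup.card_le_of_le hle
    rw [hcardK, hcardE] at this
    have h2 : q ^ 3 = q * (q * q) := by ring
    nlinarith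
  by_cases h1 : φ 1 = 1
  · left
    refine ⟨h1, fun z hz => ?_⟩
    apply apply_eq_one_of_mem_commutator (IsIrrCharacter.isCharacter hφ) h1
    obtain ⟨x, hx⟩ := hexx
    obtain ⟨g, hgK, hg⟩ := hconj x x.2 hx z hz
    have hz' : z = ⁅x⁻¹, (⟨g, hgK⟩ : K)⁆ := by
      apply Subtype.ext
      rw [commutatorElement_def]
      simp only [Subgroup.coe_mul, Subgroup.coe_inv, inv_inv]
      have : (z : L) = (x : L)⁻¹ * (g * x * g⁻¹) := by rw [hg]; group
      rw [this]; group
    rw [hz', commutator_def]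
    exact Subgroup.commutator_mem_commutator (Subgroup.mem_top _) (Subgroup.mem_top _)
  · right
    obtain ⟨n, hn, hn1⟩ := IsIrrCharacter.apply_one_pos hφ
    have hex : ∃ g k : K, φ ⁅g, k⁆ ≠ φ 1 := by
      by_contra hcon
      push Not at hcon
      exact h1 (IsIrrCharacter.apply_one_eq_one_of_commutator hφ hcon)
    obtain ⟨g, k, hgk⟩ := hex
    set z₀ : K := ⁅g, k⁆ with hz₀
    have hz₀E : (z₀ : L) ∈ E₀ := by
      have := hcomm g g.2 k k.2
      rw [hz₀, commutatorElement_def]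
      simpa using this
    have hcen : ∀ z : K, (z : L) ∈ E₀ → z ∈ Subgroup.center K := by
      intro z hz
      rw [Subgroup.mem_center_iff]
      intro y
      apply Subtype.ext
      simp only [Subgroup.coe_mul]
      exact (hcentral z hz y y.2).symm
    obtain ⟨c, hc, hcn⟩ := IsIrrCharacter.exists_central_hom hφ
    have hc0 : c ⟨z₀, hcen z₀ hz₀E⟩ ≠ 1 := by
      intro h
      have := hc ⟨z₀, hcen z₀ hz₀E⟩ 1
      rw [h, one_mul, mul_one] at this
      exact hgk this
    -- vanishing outside `E₀`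
    have hvan : ∀ x : K, (x : L) ∉ E₀ → φ x = 0 := by
      intro x hx
      obtain ⟨g', hg'K, hg'⟩ := hconj x x.2 hx z₀ hz₀E
      have hcl := IsCharacter.isClassFunction (IsIrrCharacter.isCharacter hφ) x ⟨g', hg'K⟩
      have e1 : (⟨g', hg'K⟩ : K) * x * (⟨g', hg'K⟩ : K)⁻¹ = z₀ * x := by
        apply Subtype.ext
        simp only [Subgroup.coe_mul, Subgroup.coe_inv]
        rw [hg']
        exact (hcentral z₀ hz₀E x x.2).symm
      rw [e1] at hcl
      have e2 := hc ⟨z₀, hcen z₀ hz₀E⟩ x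
      simp only at e2
      rw [e2] at hcl
      have : (c ⟨z₀, hcen z₀ hz₀E⟩ - 1) * φ x = 0 := by rw [sub_mul, hcl, one_mul, sub_self]
      rcases mul_eq_zero.mp this with h | h
      · exact absurd (sub_eq_zero.mp h) hc0
      · exact h
    -- values on `E₀`
    have hval : ∀ z : K, (z : L) ∈ E₀ → φ z * conj (φ z) = (n : ℂ) * n := by
      intro z hz
      have e := hc ⟨z, hcen z hz⟩ 1
      simp only [mul_one] at e
      rw [e, hn1, map_mul, Complex.conj_natCast]
      have h2 : c ⟨z, hcen z hz⟩ * conj (c ⟨z, hcen z hz⟩) = 1 := by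
        rw [Complex.mul_conj, Complex.normSq_eq_norm_sq, hcn]
        norm_num
      calc c ⟨z, hcen z hz⟩ * (n : ℂ) * (conj (c ⟨z, hcen z hz⟩) * (n : ℂ))
          = (c ⟨z, hcen z hz⟩ * conj (c ⟨z, hcen z hz⟩)) * ((n : ℂ) * n) := by ring
        _ = (n : ℂ) * n := by rw [h2, one_mul]
    -- the norm
    have hinner := classInner_irr hφ hφ
    rw [if_pos rfl, classInner] at hinner
    have hsum : ∑ x : K, φ x * conj (φ x) = (q : ℂ) * ((n : ℂ) * n) := by
      have h1 : ∑ x : K, φ x * conj (φ x) =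
          ∑ x ∈ Finset.univ.filter (fun x : K => (x : L) ∈ E₀), φ x * conj (φ x) := by
        symm
        apply Finset.sum_subset (Finset.subset_univ _)
        intro x _ hx
        rw [Finset.mem_filter, not_and] at hx
        rw [hvan x (hx (Finset.mem_univ _)), zero_mul]
      rw [h1, Finset.sum_congr rfl (fun x hx => hval x (Finset.mem_filter.mp hx).2),
        Finset.sum_const, nsmul_eq_mul]
      congr 1
      have h2 : (Finset.univ.filter (fun x : K => (x : L) ∈ E₀)).card =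
          Nat.card (E₀.subgroupOf K) := by
        rw [Nat.card_eq_fintype_card, Fintype.card_subtype]
        congr 1
      rw [h2, Nat.card_congr (Subgroup.subgroupOfEquivOfLe hE₀K).toEquiv, hcardE]
    rw [hsum, hcardK] at hinner
    have hq0 : (q : ℂ) ≠ 0 := by
      have : q ≠ 0 := by omega
      exact_mod_cast this
    have h3 : ((n * n : ℕ) : ℂ) = ((q * q : ℕ) : ℂ) := by
      push_cast
      have h4 : ((q : ℂ) ^ 3)⁻¹ * ((q : ℂ) * ((n : ℂ) * n)) = 1 := by
        have := hinner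
        push_cast at this
        exact this
      field_simp at h4
      linear_combination h4
    have h5 : n * n = q * q := Nat.cast_injective h3
    have h6 : n = q := by nlinarith [Nat.mul_self_inj.mp h5]
    rw [hn1, h6]

end kernel

section main

variable {L : Type u} [Group L] [Fintype L] (K E₀ : Subgroup L) [hKn : K.Normal]
  [hEn : E₀.Normal] [Fintype (IrrCharacter L)]

include hKn hEn in
theorem exc_structure
    (hC : ∀ k ∈ K, k ≠ 1 → Subgroup.centralizer ({k} : Set L) ≤ K)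
    (q : ℕ) (hq : 2 ≤ q) (hE₀K : E₀ ≤ K)
    (hcardK : Nat.card K = q ^ 3) (hcardE : Nat.card E₀ = q) (hidx : K.index = q - 1)
    (hcentral : ∀ z ∈ E₀, ∀ x ∈ K, z * x = x * z)
    (hcomm : ∀ x ∈ K, ∀ y ∈ K, x * y * x⁻¹ * y⁻¹ ∈ E₀)
    (hconj : ∀ x ∈ K, x ∉ E₀ → ∀ z ∈ E₀, ∃ g ∈ K, g * x * g⁻¹ = x * z) :
    ∃ ν ∈ exc K, (ν : L → ℂ) 1 = ((q * (q - 1) : ℕ) : ℂ) ∧
      (∀ ψ ∈ exc K, ψ ≠ ν → (ψ : L → ℂ) 1 = ((q - 1 : ℕ) : ℂ) ∧
        ∀ z ∈ E₀, (ψ : L → ℂ) z = (ψ : L → ℂ) 1) ∧
      (exc K).card = q + 2 := by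
  classical
  -- degrees as natural numbers
  have hdeg : ∀ ψ : IrrCharacter L, ∃ n : ℕ, 0 < n ∧ (ψ : L → ℂ) 1 = n :=
    fun ψ => IsIrrCharacter.apply_one_pos ψ.2
  choose dg hdgpos hdg using hdeg
  have hsq : ∀ ψ : IrrCharacter L,
      (ψ : L → ℂ) 1 * conj ((ψ : L → ℂ) 1) = ((dg ψ ^ 2 : ℕ) : ℂ) := by
    intro ψ
    rw [hdg ψ, Complex.conj_natCast]
    push_cast
    ring
  -- the three sums
  have hsumK : ∑ ψ ∈ inKer K, dg ψ ^ 2 = K.index := by
    have h := sum_inKer_deg_sq K
    rw [Finset.sum_congr rfl (fun ψ _ => hsq ψ), ← Nat.cast_sum] at h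
    exact Nat.cast_injective h
  have hsumE : ∑ ψ ∈ inKer E₀, dg ψ ^ 2 = E₀.index := by
    have h := sum_inKer_deg_sq E₀
    rw [Finset.sum_congr rfl (fun ψ _ => hsq ψ), ← Nat.cast_sum] at h
    exact Nat.cast_injective h
  have hsumX : ∑ ψ ∈ exc K, dg ψ ^ 2 + K.index = Nat.card L := by
    have h := sum_exc_deg_sq K
    rw [Finset.sum_congr rfl (fun ψ _ => hsq ψ), ← Nat.cast_sum] at h
    have h2 : ((∑ ψ ∈ exc K, dg ψ ^ 2 + K.index : ℕ) : ℂ) = (Nat.card L : ℂ) := by
      rw [Nat.cast_add, h]; ring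
    exact Nat.cast_injective h2
  -- the dichotomy for the exceptional characters
  have hdich : ∀ ψ ∈ exc K, (dg ψ = q - 1 ∧ ψ ∈ inKer E₀) ∨ dg ψ = (q - 1) * q := by
    intro ψ hψ
    obtain ⟨φ, hφ, -, heq⟩ := exc_induced K hC hψ
    have h1 : (ψ : L → ℂ) 1 = (K.index : ℂ) * φ 1 := by
      rw [heq, Cfsg.Agent.Lib.Helper10.indFun_apply_one_index]
    rcases irr_kernel_cases K E₀ q hq hE₀K hcardK hcardE hcentral hcomm hconj φ hφ with
      ⟨h2, h3⟩ | h2
    · left
      rw [h2, mul_one, hdg ψ, hidx] at h1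
      refine ⟨Nat.cast_injective h1, ?_⟩
      rw [mem_inKer]
      intro z hz
      rw [heq]
      unfold indFun
      congr 1
      apply Finset.sum_congr rfl
      intro y _
      have hm : y⁻¹ * z * y ∈ E₀ := by
        have := hEn.conj_mem z hz y⁻¹
        simpa using this
      have hm1 : y⁻¹ * 1 * y ∈ K := by simp
      rw [show y⁻¹ * z * y = ((⟨y⁻¹ * z * y, hE₀K hm⟩ : K) : L) from rfl,
        extendByZero_apply_coe, h3 _ hm,
        show y⁻¹ * 1 * y = ((⟨y⁻¹ * 1 * y, hm1⟩ : K) : L) from rfl, extendByZero_apply_coe]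
      have : (⟨y⁻¹ * 1 * y, hm1⟩ : K) = 1 := by
        apply Subtype.ext
        simp
      rw [this, h2]
    · right
      rw [h2, hdg ψ, hidx] at h1
      have : ((dg ψ : ℕ) : ℂ) = (((q - 1) * q : ℕ) : ℂ) := by
        rw [h1]; push_cast; ring
      exact Nat.cast_injective this
  -- the numerology
  obtain ⟨m, rfl⟩ : ∃ m, q = m + 1 := ⟨q - 1, by omega⟩
  have hm1 : 1 ≤ m := by omega
  have hidx' : K.index = m := by rw [hidx]; omega
  have hcardL : Nat.card L = m * (m + 1) ^ 3 := by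
    rw [← Subgroup.index_mul_card K, hidx', hcardK]
  have hidxE : E₀.index = m * (m + 1) ^ 2 := by
    have h := Subgroup.index_mul_card E₀
    rw [hcardE, hcardL] at h
    have h2 : m * (m + 1) ^ 3 = m * (m + 1) ^ 2 * (m + 1) := by ring
    rw [h2] at h
    exact Nat.eq_of_mul_eq_mul_right (by omega) h
  have hsub1 : ∀ ψ ∈ exc K, dg ψ = m ∨ dg ψ = m * (m + 1) := by
    intro ψ hψ
    rcases hdich ψ hψ with h | h
    · left; have := h.1; omega
    · right; rw [h]; congr 1
  set A := (exc K).filter (fun ψ => dg ψ = m) with hA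
  set B := (exc K).filter (fun ψ => dg ψ ≠ m) with hB
  have hAB : A.card + B.card = (exc K).card := by
    rw [hA, hB]
    exact Finset.card_filter_add_card_filter_not (s := exc K) (fun ψ => dg ψ = m)
  have hsumAB : ∑ ψ ∈ exc K, dg ψ ^ 2 = A.card * m ^ 2 + B.card * (m * (m + 1)) ^ 2 := by
    rw [← Finset.sum_filter_add_sum_filter_not (exc K) (fun ψ => dg ψ = m)]
    congr 1
    · rw [Finset.sum_congr rfl (fun ψ hψ => by rw [(Finset.mem_filter.mp hψ).2]),
        Finset.sum_const, smul_eq_mul]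
    · rw [Finset.sum_congr rfl (fun ψ hψ => by
        have h1 := Finset.mem_filter.mp hψ
        rcases hsub1 ψ h1.1 with h | h
        · exact absurd h h1.2
        · rw [h]), Finset.sum_const, smul_eq_mul]
  -- `inKer K ∪ A ⊆ inKer E₀`
  have hdisj : Disjoint (inKer K) A := by
    rw [Finset.disjoint_left]
    intro ψ h1 h2
    have h3 := (Finset.mem_filter.mp h2).1
    rw [mem_exc] at h3
    exact h3 ((mem_inKer K).mp h1)
  have hsubE : inKer K ∪ A ⊆ inKer E₀ := by
    intro ψ hψ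
    rcases Finset.mem_union.mp hψ with h | h
    · rw [mem_inKer] at h ⊢
      intro z hz
      exact h z (hE₀K hz)
    · have h1 := Finset.mem_filter.mp h
      rcases hdich ψ h1.1 with h2 | h2
      · exact h2.2
      · exfalso
        have := h1.2
        rw [h2] at this
        have h3 : (m + 1 - 1) * (m + 1) = m * (m + 1) := by congr 1
        rw [h3] at this
        nlinarith
  have hineq : m + A.card * m ^ 2 ≤ m * (m + 1) ^ 2 := by
    have h := Finset.sum_le_sum_of_subset (f := fun ψ => dg ψ ^ 2) hsubE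
    rw [Finset.sum_union hdisj, hsumK, hsumE, hidx', hidxE] at h
    have h2 : ∑ ψ ∈ A, dg ψ ^ 2 = A.card * m ^ 2 := by
      rw [Finset.sum_congr rfl (fun ψ hψ => by rw [(Finset.mem_filter.mp hψ).2]),
        Finset.sum_const, smul_eq_mul]
    rw [h2] at h
    exact h
  have heq : A.card * m ^ 2 + B.card * (m * (m + 1)) ^ 2 + m = m * (m + 1) ^ 3 := by
    rw [← hsumAB, ← hcardL, ← hsumX, hidx']
  -- solve
  have ha : A.card ≤ m + 2 := by
    by_contra hcon
    have h1 : m + 3 ≤ A.card := by omega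
    have h2 : (m + 3) * m ^ 2 ≤ A.card * m ^ 2 := Nat.mul_le_mul_right _ h1
    nlinarith
  have hmpos : 0 < m := by omega
  have heq2 : A.card + B.card * (m + 1) ^ 2 = m ^ 2 + 3 * m + 3 := by
    have h1 : m * (A.card * m + B.card * (m * (m + 1) ^ 2) + 1) =
        m * ((m + 1) ^ 3) := by
      rw [← heq]; ring
    have h2 := Nat.eq_of_mul_eq_mul_left hmpos h1
    have h3 : m * (A.card + B.card * (m + 1) ^ 2) = m * (m ^ 2 + 3 * m + 3) := by
      have : (m + 1) ^ 3 = m * (m ^ 2 + 3 * m + 3) + 1 := by ring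
      rw [this] at h2
      have h4 : A.card * m + B.card * (m * (m + 1) ^ 2) = m * (A.card + B.card * (m + 1) ^ 2) := by
        ring
      omega
    exact Nat.eq_of_mul_eq_mul_left hmpos h3
  have hb1 : B.card = 1 := by
    have hb_pos : 1 ≤ B.card := by
      by_contra hcon
      have : B.card = 0 := by omega
      rw [this] at heq2
      nlinarith
    have hb_lt : B.card < 2 := by
      by_contra hcon
      have h1 : 2 ≤ B.card := by omega
      have h2 : 2 * (m + 1) ^ 2 ≤ B.card * (m + 1) ^ 2 := Nat.mul_le_mul_right _ h1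
      nlinarith
    omega
  have ha2 : A.card = m + 2 := by
    rw [hb1] at heq2
    nlinarith
  obtain ⟨ν, hν⟩ := Finset.card_eq_one.mp hb1
  have hνB : ν ∈ B := by rw [hν]; exact Finset.mem_singleton_self ν
  have hνexc : ν ∈ exc K := (Finset.mem_filter.mp hνB).1
  have hνdg : dg ν = m * (m + 1) := by
    rcases hsub1 ν hνexc with h | h
    · exact absurd h (Finset.mem_filter.mp hνB).2
    · exact h
  refine ⟨ν, hνexc, ?_, ?_, ?_⟩
  · rw [hdg ν, hνdg]
    congr 1
    have : m + 1 - 1 = m := by omega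
    rw [this]; ring
  · intro ψ hψ hne
    have hψA : dg ψ = m := by
      by_contra hcon
      have : ψ ∈ B := Finset.mem_filter.mpr ⟨hψ, hcon⟩
      rw [hν, Finset.mem_singleton] at this
      exact hne this
    refine ⟨?_, ?_⟩
    · rw [hdg ψ, hψA]
      congr 1
    · rcases hdich ψ hψ with h | h
      · exact (mem_inKer E₀).mp h.2
      · exfalso
        rw [hψA] at h
        have h3 : (m + 1 - 1) * (m + 1) = m * (m + 1) := by congr 1
        rw [h3] at h
        nlinarith
  · rw [← hAB, ha2, hb1]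

end main

end Cfsg.Agent.Lib.Helper6.CTIExc
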