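/-
helper6: S4892 leaf (E1) for helper23's plan: extension of an invariant irreducible character of
`p'`-degree and `p'`-determinantal order over a section of `p`-power index, in ambient form
(S0865 for `det θ`, then `exists_extension_of_det_extends` = Isaacs 6.25).
-/
import Mathlib
import Cfsg.Prelude.Def_Blocks
import Cfsg.Prelude.Def_CharExt
import Cfsg.Agent.Lib.Helper6.Clifford
import Cfsg.Agent.Lib.Helper6.CliffordCorr
import Cfsg.Agent.Lib.Helper6.DetExtSolv
import Cfsg.Agent.Lib.Helper6.LinChar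
import Cfsg.Agent.S0865

set_option autoImplicit false

namespace Cfsg.Agent.Lib.Helper6.PRat

open Cfsg Cfsg.Agent.CharLib Cfsg.Agent.Lib.Helper6

universe u

/-- `orderOf` is transported along a multiplicative equivalence by precomposition. -/
theorem orderOf_comp_mulEquiv {A B : Type*} [Group A] [Group B] (e : A ≃* B) (f : B → ℂ) :
    orderOf (f ∘ e) = orderOf f := by
  let F : (B → ℂ) →* (A → ℂ) :=
    { toFun := fun f => f ∘ e
      map_one' := rfl
      map_mul' := fun _ _ => rfl }
  have hF : Function.Injective F := by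
    intro f g hfg
    funext b
    have := congrFun hfg (e.symm b)
    simpa [F] using this
  exact orderOf_injective F hF f

/-- (E1) extension over a `p`-group section, ambient form. -/
theorem exists_extension_of_pgroup_section {X : Type u} [Group X] [Finite X] (p : ℕ)
    [Fact p.Prime] (N : Subgroup X) [N.Normal] (θ : IrrCharacter N)
    (hinv : ∀ x : X, conjFun N x (θ : N → ℂ) = (θ : N → ℂ))
    (hdeg : ¬ p ∣ charDegree (θ : N → ℂ)) (hdet : ¬ p ∣ orderOf (detChar (θ : N → ℂ)))
    (R : Subgroup X) (hNR : N ≤ R) {a : ℕ} (hidx : N.relIndex R = p ^ a) :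
    ∃ η : R → ℂ, IsIrrCharacter R η ∧ ∀ x : N, η ⟨x, hNR x.2⟩ = (θ : N → ℂ) x := by
  classical
  have hp : p.Prime := Fact.out
  have hθ : IsIrrCharacter N (θ : N → ℂ) := θ.2
  have hθc : IsCharacter N (θ : N → ℂ) := IsIrrCharacter.isCharacter hθ
  let e : N.subgroupOf R ≃* N := Subgroup.subgroupOfEquivOfLe hNR
  set ϑ : N.subgroupOf R → ℂ := (θ : N → ℂ) ∘ e with hϑdef
  have hϑ : IsIrrCharacter (N.subgroupOf R) ϑ := isIrrCharacter_comp_mulEquiv' e hθ
  have hϑc : IsCharacter (N.subgroupOf R) ϑ := IsIrrCharacter.isCharacter hϑ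
  have hinvR : ∀ m : R, conjFun (N.subgroupOf R) m ϑ = ϑ := by
    intro m
    rw [hϑdef, conjFun_subgroupOf, hinv]
  -- the degree
  obtain ⟨d, hdpos, hd⟩ := IsIrrCharacter.apply_one_pos hθ
  have hdeg' : ¬ p ∣ d := by
    intro h
    apply hdeg
    have : charDegree (θ : N → ℂ) = d := by
      unfold charDegree
      rw [hd]
      simp
    rw [this]
    exact h
  have hd' : ϑ 1 = d := by
    rw [hϑdef, Function.comp_apply, map_one, hd]
  have hidx' : (N.subgroupOf R).index = p ^ a := hidx
  have hcopd : Nat.Coprime (N.subgroupOf R).index d := by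
    rw [hidx']
    exact Nat.Coprime.pow_left a ((Nat.Prime.coprime_iff_not_dvd hp).2 hdeg')
  -- the determinant
  have hdetϑ : detChar ϑ = detChar (θ : N → ℂ) ∘ e := detChar_comp_hom e.toMonoidHom hθc
  have hlam := detChar_isCharacter hϑc
  have hinvlam : ∀ (g : R) (n : N.subgroupOf R),
      detChar ϑ ⟨g * n * g⁻¹, (inferInstance : (N.subgroupOf R).Normal).conj_mem (n : R) n.2 g⟩ =
        detChar ϑ n := by
    intro g n
    have h1 := detChar_conjFun (N.subgroupOf R) g hϑc
    rw [hinvR g] at h1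
    exact (congrFun h1 n).symm
  have hord : orderOf (detChar ϑ) = orderOf (detChar (θ : N → ℂ)) := by
    rw [hdetϑ]
    exact orderOf_comp_mulEquiv e _
  have hcop : Nat.Coprime (N.subgroupOf R).index (orderOf (detChar ϑ)) := by
    rw [hidx', hord]
    exact Nat.Coprime.pow_left a ((Nat.Prime.coprime_iff_not_dvd hp).2 hdet)
  obtain ⟨μ, ⟨hμ, hμ1, hμM, _⟩, _⟩ :=
    Cfsg.Agent.S0865.result (N.subgroupOf R) (detChar ϑ) hlam hinvlam hcop
  have hPG : IsPGroup p (R ⧸ N.subgroupOf R) := by
    apply IsPGroup.of_card (n := a)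
    rw [← Subgroup.index_eq_card, hidx']
  haveI : Group.IsNilpotent (R ⧸ N.subgroupOf R) := hPG.isNilpotent
  have hsolv : Group.IsSolvable (R ⧸ N.subgroupOf R) := inferInstance
  obtain ⟨η, hη, hηN⟩ := exists_extension_of_det_extends (N.subgroupOf R) hsolv hϑ hinvR hd' hcopd
    hμ hμ1 (by
      funext n
      rw [resFun_apply]
      exact hμM n)
  refine ⟨η, hη, ?_⟩
  intro x
  have := congrFun hηN ⟨⟨x, hNR x.2⟩, x.2⟩
  exact this

end Cfsg.Agent.Lib.Helper6.PRat
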