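/-
helper6: S4892 leaf (E3) for helper23's plan: `θ` extends to `X` (Sylow by Sylow: E1 over the
`p`-part, E2 (helper4) over the `r`-parts, `r ≠ p`; then Isaacs 11.31 = `ProjExt`).
-/
import Mathlib
import Cfsg.Prelude.Def_Blocks
import Cfsg.Prelude.Def_CharExt
import Cfsg.Agent.Lib.Helper6.Clifford
import Cfsg.Agent.Lib.Helper6.ProjExt
import Cfsg.Agent.Lib.Helper6.PRatE1
import Cfsg.Agent.Lib.Helper4.PRatE2

set_option autoImplicit false

namespace Cfsg.Agent.Lib.Helper6.PRat

open Cfsg Cfsg.Agent.CharLib Cfsg.Agent.Lib.Helper6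

universe u

/-- (E3) `θ` extends to `X`. -/
theorem exists_extension {X : Type u} [Group X] [Finite X] (p : ℕ) [Fact p.Prime]
    (M : Ideal AlgInt) (hM : IsPModular p M) (N : Subgroup X) [hN : N.Normal] (Q : Sylow p N)
    (hcov : N ⊔ Subgroup.centralizer (((Q : Subgroup N).map N.subtype : Subgroup X) : Set X) = ⊤)
    (θ : IrrCharacter N) (hθ : θ ∈ principalBlock M N)
    (hinv : ∀ x : X, conjFun N x (θ : N → ℂ) = (θ : N → ℂ))
    (hdeg : ¬ p ∣ charDegree (θ : N → ℂ)) (hdet : ¬ p ∣ orderOf (detChar (θ : N → ℂ))) :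
    ∃ ψ : IrrCharacter X, ∀ x : N, (ψ : X → ℂ) x = (θ : N → ℂ) x := by
  classical
  have hp : p.Prime := Fact.out
  have hinv' : ∀ (g : X) (n : N),
      (θ : N → ℂ) ⟨g * n * g⁻¹, hN.conj_mem n n.2 g⟩ = (θ : N → ℂ) n := by
    intro g n
    have := congrFun (hinv g) n
    rw [conjFun_apply] at this
    exact this
  obtain ⟨χ, hχ, hχN⟩ := exists_irr_extension_of_coprime N θ.2 hinv' (by
    intro r hr
    haveI : Fact r.Prime := ⟨hr⟩
    let S : Sylow r (X ⧸ N) := default
    let P : Subgroup X := (S : Subgroup (X ⧸ N)).comap (QuotientGroup.mk' N)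
    have hNP : N ≤ P := by
      intro n hn
      change ((n : X) : X ⧸ N) ∈ (S : Subgroup (X ⧸ N))
      rw [(QuotientGroup.eq_one_iff n).mpr hn]
      exact one_mem _
    have hPidx : P.index = (S : Subgroup (X ⧸ N)).index :=
      Subgroup.index_comap_of_surjective _ (QuotientGroup.mk'_surjective N)
    have hcopP : Nat.Coprime P.index r := by
      rw [hPidx]
      exact ((Nat.Prime.coprime_iff_not_dvd hr).mpr S.not_dvd_index).symm
    have hPidx0 : P.index ≠ 0 := Subgroup.index_ne_zero_of_finite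
    obtain ⟨k, hk⟩ := IsPGroup.iff_card.mp S.isPGroup'
    have hrel : N.relIndex P = r ^ k := by
      have h1 : N.relIndex P * P.index = N.index := Subgroup.relIndex_mul_index hNP
      have h2 : Nat.card S * (S : Subgroup (X ⧸ N)).index = Nat.card (X ⧸ N) :=
        Subgroup.card_mul_index _
      rw [← hPidx, hk, ← Subgroup.index_eq_card N, ← h1] at h2
      exact (Nat.eq_of_mul_eq_mul_right (Nat.pos_of_ne_zero hPidx0) h2).symm
    by_cases hrp : r = p
    · subst hrp
      obtain ⟨η, hη, hηN⟩ :=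
        exists_extension_of_pgroup_section r N θ hinv hdeg hdet P hNP hrel
      exact ⟨P, hNP, η, hcopP, hη, hηN⟩
    · have hnd : ¬ p ∣ N.relIndex P := by
        rw [hrel]
        intro h
        have := (Nat.prime_dvd_prime_iff_eq hp hr).mp (hp.dvd_of_dvd_pow h)
        exact hrp this.symm
      obtain ⟨η, hη, hηN⟩ :=
        Cfsg.Agent.Lib.Helper4.PRat.exists_extension_of_pprime_section p M hM N Q hcov θ hθ P hNP
          hnd
      exact ⟨P, hNP, η, hcopP, hη, hηN⟩)
  exact ⟨⟨χ, hχ⟩, hχN⟩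

end Cfsg.Agent.Lib.Helper6.PRat
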