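import Mathlib
import Cfsg.Agent.Lib.Helper24.SL6SDefs

/-!
# S5798 (sl6_geometric_types_maximal), block (S) (helper24): leaf S2 `stab_lineGroup` (helper6)
-/

set_option autoImplicit false
set_option linter.unusedSectionVars false
set_option linter.unusedVariables false

namespace Cfsg.Agent.Lib.Helper6.SL6SLeaf
open Cfsg Matrix Cfsg.Agent.Lib.Helper5.SpMax Cfsg.Agent.Lib.Helper5.TMCalc
  Cfsg.Agent.Lib.Helper5.USub Cfsg.Agent.Lib.Helper5.LSub Cfsg.Agent.Lib.Helper24.SL6S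

variable {F : Type*} [Field F] [Fintype F] {n : ℕ} {F₀ : Subfield F} {P : GL (Fin n) F}
  {M : Subgroup (GL (Fin n) F)}

/-- a non-zero rational functional killing three given rational vectors (`n ≥ 4`) -/
theorem exists_ratF_kill3 (hn : 4 ≤ n) {w : Fin 3 → (Fin n → F)} (hw : ∀ k, IsRat F₀ P (w k)) :
    ∃ s₁ : (Fin n → F) →ₗ[F] F, IsRatF F₀ P s₁ ∧ s₁ ≠ 0 ∧ ∀ k, s₁ (w k) = 0 := by
  classical
  obtain ⟨U, hU⟩ : ∃ U : Matrix (Fin 3) (Fin n) F₀,
      ∀ k l, ((U k l : F₀) : F) = cf P l (w k) :=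
    ⟨Matrix.of fun k l => ⟨cf P l (w k), isRat_cf (hw k) l⟩, fun k l => rfl⟩
  have hker : LinearMap.ker (Matrix.mulVecLin U) ≠ ⊥ :=
    LinearMap.ker_ne_bot_of_finrank_lt (by
      rw [Module.finrank_fin_fun, Module.finrank_fin_fun]; omega)
  obtain ⟨c, hcL, hc0⟩ := Submodule.exists_mem_ne_zero_of_ne_bot hker
  rw [LinearMap.mem_ker, Matrix.mulVecLin_apply] at hcL
  have hcL' : ∀ k, ∑ l, (c l : F) * cf P l (w k) = 0 := by
    intro k
    have h1 : F₀.subtype ((U *ᵥ c) k) = 0 := by rw [hcL]; rfl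
    rw [Matrix.mulVec, dotProduct, map_sum] at h1
    rw [← h1]
    apply Finset.sum_congr rfl
    intro l _
    rw [map_mul, mul_comm]
    change cf P l (w k) * (c l : F) = ((U k l : F₀) : F) * (c l : F)
    rw [hU]
  obtain ⟨s₁, hs₁⟩ : ∃ s₁ : (Fin n → F) →ₗ[F] F, s₁ = ∑ l, (c l : F) • cf P l := ⟨_, rfl⟩
  have hs₁v : ∀ v, s₁ v = ∑ l, (c l : F) * cf P l v := by
    intro v
    rw [hs₁, LinearMap.sum_apply]
    apply Finset.sum_congr rfl
    intro l _
    rw [LinearMap.smul_apply, smul_eq_mul]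
  have hs₁e : ∀ j, s₁ (ev P j) = (c j : F) := by
    intro j
    rw [hs₁v, Finset.sum_eq_single j]
    · rw [cf_ev_same, mul_one]
    · intro l _ hl
      rw [cf_ev_ne P hl, mul_zero]
    · intro hni
      exact absurd (Finset.mem_univ _) hni
  refine ⟨s₁, isRatF_of_basis (fun j => by rw [hs₁e]; exact (c j).2), ?_, fun k => ?_⟩
  · intro h0
    apply hc0
    funext j
    have := hs₁e j
    rw [h0, LinearMap.zero_apply] at this
    exact Subtype.ext this.symm
  · rw [hs₁v]; exact hcL' k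

/-- the determinant of `v ↦ v + s v • e` is `1 + s e` -/
theorem det_of_rank_one {x : GL (Fin n) F} {s : (Fin n → F) →ₗ[F] F} {e : Fin n → F}
    (hx : ∀ v, (x : Matrix (Fin n) (Fin n) F) *ᵥ v = v + s v • e) :
    (x : Matrix (Fin n) (Fin n) F).det = 1 + s e := by
  set r : Fin n → F := fun j => s (Pi.single j 1) with hr
  have hdot : ∀ y : Fin n → F, r ⬝ᵥ y = s y := by
    intro y
    rw [lin_apply s y, dotProduct]
    apply Finset.sum_congr rfl
    intro i _
    rw [hr, mul_comm]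
  have hM : (x : Matrix (Fin n) (Fin n) F) = 1 + Matrix.vecMulVec e r := by
    apply mat_eq_of_mulVec
    intro v
    rw [hx, Matrix.add_mulVec, Matrix.one_mulVec, Matrix.vecMulVec_mulVec, hdot]
    congr 1
    ext i
    simp [mul_comm]
  have h1 : (1 + Matrix.vecMulVec e r : Matrix (Fin n) (Fin n) F) =
      1 + Matrix.replicateCol Unit e * Matrix.replicateRow Unit r := by
    congr 1
    ext i j; simp [Matrix.vecMulVec_apply, Matrix.mul_apply]
  rw [hM, h1, Matrix.det_one_add_replicateCol_mul_replicateRow, hdot]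

/-- **S2 stab_lineGroup** -/
theorem stab_lineGroup (hn : 4 ≤ n) (h : Ctx F₀ P M)
    (hMS : M ≤ Cfsg.Geo.specialLinear (Fin n) F)
    {g : GL (Fin n) F} (hg : g ∈ M) (hgS : g ∉ Cfsg.Geo.subfieldSubgroup F₀ P)
    {e : Fin n → F} (he : IsRat F₀ P e) (he0 : e ≠ 0) {x : GL (Fin n) F}
    (hx : x ∈ lineGroup M e ((g : Matrix (Fin n) (Fin n) F) *ᵥ e)) {c : F}
    (hxe : (x : Matrix (Fin n) (Fin n) F) *ᵥ e = c • e) :
    ∃ s : (Fin n → F) →ₗ[F] F, s e = 0 ∧
      ∀ v, (x : Matrix (Fin n) (Fin n) F) *ᵥ v = v + s v • e := by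
  classical
  have hn3 : 3 ≤ n := by omega
  obtain ⟨hxM, hxL⟩ := mem_lineGroup.mp hx
  -- `c ≠ 0`
  have hc0 : c ≠ 0 := by
    rintro rfl
    rw [zero_smul] at hxe
    apply he0
    apply mulVec_inj x
    rw [hxe, Matrix.mulVec_zero]
  -- `x ∈ S`
  have hxS : x ∈ Cfsg.Geo.subfieldSubgroup F₀ P := by
    apply L5_gen hn3 h hxM he he0 (inv_ne_zero hc0)
    rw [hxe, smul_smul, inv_mul_cancel₀ hc0, one_smul]
    exact he
  obtain ⟨μ, hμ, hrat⟩ := rat_of_mem_subfield x hxS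
  -- the transvection of `M` with centre `g e`
  obtain ⟨s₀, hs₀R, hs₀0, hs₀e⟩ := exists_ratF_kill (F₀ := F₀) (P := P) (by omega) he
  have hT1 := TM_conj hg (h.rat (by omega) hs₀R he hs₀e)
  -- key claim: `x a - a ∈ F e` for rational `a`
  have hkey : ∀ a, IsRat F₀ P a → ∃ α : F, (x : Matrix (Fin n) (Fin n) F) *ᵥ a - a = α • e := by
    intro a ha
    obtain ⟨α, β, hαβ⟩ := Submodule.mem_span_pair.mp (hxL a)
    by_cases hβ : β = 0
    · refine ⟨α, ?_⟩
      rw [← hαβ, hβ, zero_smul, add_zero]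
    exfalso
    obtain ⟨r, hr, hxa⟩ := hrat a ha
    -- a rational functional killing `r, a, e`
    obtain ⟨s₁, hs₁R, hs₁0, hs₁k⟩ := exists_ratF_kill3 (F₀ := F₀) (P := P) hn
      (w := ![r, a, e]) (fun k => by
        fin_cases k
        · exact hr
        · exact ha
        · exact he)
    have h0 : s₁ r = 0 := hs₁k 0
    have h1 : s₁ a = 0 := hs₁k 1
    have h2 : s₁ e = 0 := hs₁k 2
    have hge : s₁ ((g : Matrix (Fin n) (Fin n) F) *ᵥ e) = 0 := by
      have h3 : β • ((g : Matrix (Fin n) (Fin n) F) *ᵥ e) = μ • r - a - α • e := by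
        rw [← hxa, ← hαβ]; abel
      have h4 := congrArg s₁ h3
      rw [map_smul, map_sub, map_sub, map_smul, map_smul, h0, h1, h2, smul_zero, smul_zero,
        sub_zero, sub_zero, smul_eq_mul] at h4
      rcases mul_eq_zero.mp h4 with h5 | h5
      · exact absurd h5 hβ
      · exact h5
    obtain ⟨c', hc', hrr⟩ := C_gen hn3 h hT1 (comp_inv_ne_zero g hs₀0) hs₁R hs₁0 hge
    exact hgS (L5_gen hn3 h hg he he0 hc' hrr)
  -- a functional with `ℓ e = 1`
  obtain ⟨i, hi⟩ : ∃ i, e i ≠ 0 := by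
    by_contra hcon
    push Not at hcon
    exact he0 (funext hcon)
  obtain ⟨ℓ, hℓ⟩ : ∃ ℓ : (Fin n → F) →ₗ[F] F, ℓ e = 1 :=
    ⟨(e i)⁻¹ • LinearMap.proj i, by
      rw [LinearMap.smul_apply, LinearMap.proj_apply, smul_eq_mul, inv_mul_cancel₀ hi]⟩
  obtain ⟨s, hs⟩ : ∃ s : (Fin n → F) →ₗ[F] F,
      s = ℓ ∘ₗ (Matrix.toLin' (x : Matrix (Fin n) (Fin n) F) - LinearMap.id) := ⟨_, rfl⟩
  have hsv : ∀ v, s v = ℓ ((x : Matrix (Fin n) (Fin n) F) *ᵥ v - v) := by
    intro v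
    rw [hs, LinearMap.comp_apply, LinearMap.sub_apply, Matrix.toLin'_apply, LinearMap.id_apply]
  -- `x v - v ∈ F e` for all `v`
  have hall : ∀ v, ∃ α : F, (x : Matrix (Fin n) (Fin n) F) *ᵥ v - v = α • e := by
    intro v
    choose α hα using fun j => hkey (ev P j) (isRat_ev P j)
    refine ⟨∑ j, cf P j v * α j, ?_⟩
    have h1 : (x : Matrix (Fin n) (Fin n) F) *ᵥ v - v =
        ∑ j, cf P j v • ((x : Matrix (Fin n) (Fin n) F) *ᵥ ev P j - ev P j) := by
      have h2 := lin_decomp P (Matrix.toLin' (x : Matrix (Fin n) (Fin n) F) - LinearMap.id) v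
      simp only [LinearMap.sub_apply, Matrix.toLin'_apply, LinearMap.id_apply] at h2
      exact h2
    rw [h1, Finset.sum_smul]
    apply Finset.sum_congr rfl
    intro j _
    rw [hα j, smul_smul]
  have hxv : ∀ v, (x : Matrix (Fin n) (Fin n) F) *ᵥ v = v + s v • e := by
    intro v
    obtain ⟨α, hα⟩ := hall v
    rw [hsv, hα, map_smul, hℓ, smul_eq_mul, mul_one, ← hα]
    abel
  refine ⟨s, ?_, hxv⟩
  have hdet : (x : Matrix (Fin n) (Fin n) F).det = 1 := by
    have h1 := congrArg Units.val (MonoidHom.mem_ker.mp (hMS hxM))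
    simpa using h1
  rw [det_of_rank_one hxv] at hdet
  linear_combination hdet

end Cfsg.Agent.Lib.Helper6.SL6SLeaf
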