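/-
helper6: two-generation of Sp_2m(q), part C.
The case `q ≥ 3`: generators `a = cox`, `b = T_{e_0}(1) * g`, with
`g = y h y⁻¹`, `h` a torus element on the plane 1, `y = T_{e_0 + e_1}(1)`.
-/
import Mathlib
import Cfsg.Agent.Lib.Helper6.SpGenB
import Cfsg.Agent.Lib.Helper15.FieldExt

set_option autoImplicit false

namespace Cfsg.Agent.Lib.Helper6.SpGen

open Matrix Cfsg.Agent.Lib.Helper5 Cfsg.Agent.Lib.Helper14.SpPerfect
open Cfsg.Agent.Lib.Helper14

variable {F : Type*} [Field F] {m : ℕ}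

/-! ### a field lemma -/

theorem addSubgroup_eq_top_of_sq [Finite F] (S : AddSubgroup F) (h : ∀ μ : F, μ ^ 2 ∈ S) :
    S = ⊤ := by
  rw [eq_top_iff]
  intro s _
  by_cases h2 : (2 : F) = 0
  · have hc : ringChar F = 2 := by
      have hdvd : ringChar F ∣ 2 := by
        rw [← ringChar.spec]
        exact_mod_cast h2
      have hp : (ringChar F).Prime := CharP.char_is_prime F (ringChar F)
      exact (Nat.prime_dvd_prime_iff_eq hp Nat.prime_two).mp hdvd
    obtain ⟨r, hr⟩ := FiniteField.isSquare_of_char_two hc s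
    rw [hr, ← pow_two]
    exact h r
  · have : s = ((s + 1) / 2) ^ 2 - ((s - 1) / 2) ^ 2 := by
      field_simp
      ring
    rw [this]
    exact S.sub_mem (h _) (h _)

/-! ### torus elements -/

/-- diagonal entries of the torus element scaling `e_i` by `μ` and `f_i` by `μ⁻¹` -/
def torD (i : Fin m) (μ : Fˣ) : Fin m ⊕ Fin m → F
  | Sum.inl k => if k = i then (μ : F) else 1
  | Sum.inr k => if k = i then ((μ⁻¹ : Fˣ) : F) else 1

theorem torD_inl (i k : Fin m) (μ : Fˣ) :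
    torD i μ (Sum.inl k) = if k = i then (μ : F) else 1 := rfl

theorem torD_inr (i k : Fin m) (μ : Fˣ) :
    torD i μ (Sum.inr k) = if k = i then ((μ⁻¹ : Fˣ) : F) else 1 := rfl

theorem torD_mul_inv (i k : Fin m) (μ : Fˣ) :
    torD i μ (Sum.inl k) * torD i μ (Sum.inr k) = 1 := by
  unfold torD
  by_cases h : k = i
  · simp [h]
  · simp [h]

theorem torD_mul (i : Fin m) (μ ν : Fˣ) (a : Fin m ⊕ Fin m) :
    torD i μ a * torD i ν a = torD i (μ * ν) a := by
  rcases a with k | k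
  · unfold torD
    by_cases h : k = i
    · simp [h]
    · simp [h]
  · unfold torD
    by_cases h : k = i
    · simp [h, mul_comm]
    · simp [h]

theorem torD_one (i : Fin m) (a : Fin m ⊕ Fin m) : torD i (1 : Fˣ) a = 1 := by
  rcases a with k | k
  · unfold torD; simp
  · unfold torD; simp

/-- the torus element -/
def tor (i : Fin m) (μ : Fˣ) : Matrix.symplecticGroup (Fin m) F :=
  ⟨Matrix.diagonal (torD i μ), Cfsg.Agent.Lib.Helper15.mem_symplectic_of_preserves _ (by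
    intro u v
    rw [sympForm_eq_sum, sympForm_eq_sum]
    apply Finset.sum_congr rfl
    intro k _
    simp only [Matrix.mulVec_diagonal]
    have := torD_mul_inv i k μ
    linear_combination (u (Sum.inr k) * v (Sum.inl k) - u (Sum.inl k) * v (Sum.inr k)) * this)⟩

theorem ap_tor (i : Fin m) (μ : Fˣ) (x : Fin m ⊕ Fin m → F) (a : Fin m ⊕ Fin m) :
    ap (tor i μ) x a = torD i μ a * x a := by
  unfold ap tor
  simp only [Matrix.mulVec_diagonal]

theorem tor_mul (i : Fin m) (μ ν : Fˣ) : tor i μ * tor i ν = (tor i (μ * ν) : Matrix.symplecticGroup (Fin m) F) := by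
  apply ap_ext
  intro x
  funext a
  rw [ap_mul, ap_tor, ap_tor, ap_tor, ← mul_assoc, torD_mul]

theorem tor_one (i : Fin m) : (tor i (1 : Fˣ) : Matrix.symplecticGroup (Fin m) F) = 1 := by
  apply ap_ext
  intro x
  funext a
  rw [ap_tor, torD_one, one_mul, ap_one]

theorem tor_pow (i : Fin m) (μ : Fˣ) (n : ℕ) :
    (tor i μ : Matrix.symplecticGroup (Fin m) F) ^ n = tor i (μ ^ n) := by
  induction n with
  | zero => rw [pow_zero, pow_zero, tor_one]
  | succ n ih => rw [pow_succ, ih, tor_mul, pow_succ]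

theorem ap_tor_eV (i k : Fin m) (μ : Fˣ) :
    ap (tor i μ) (eV k) = (torD i μ (Sum.inl k)) • (eV k : Fin m ⊕ Fin m → F) := by
  funext a
  rw [ap_tor, Pi.smul_apply, smul_eq_mul]
  rcases a with l | l
  · by_cases h : l = k
    · rw [h]
    · simp [h]
  · simp

theorem ap_tor_fV (i k : Fin m) (μ : Fˣ) :
    ap (tor i μ) (fV k) = (torD i μ (Sum.inr k)) • (fV k : Fin m ⊕ Fin m → F) := by
  funext a
  rw [ap_tor, Pi.smul_apply, smul_eq_mul]
  rcases a with l | l
  · simp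
  · by_cases h : l = k
    · rw [h]
    · simp [h]

/-! ### the generators for `q ≥ 3` -/

section gens

variable (hm : 2 ≤ m) (lam : Fˣ)

/-- the element `g = y h y⁻¹` -/
def gEl : Matrix.symplecticGroup (Fin m) F :=
  Tr (eV ⟨0, by omega⟩ + eV ⟨1, by omega⟩) 1 * tor ⟨1, by omega⟩ lam *
    (Tr (eV ⟨0, by omega⟩ + eV ⟨1, by omega⟩) 1)⁻¹

/-- the second generator -/
def bEl : Matrix.symplecticGroup (Fin m) F :=
  Tr (eV ⟨0, by omega⟩) 1 * gEl hm lam

theorem ap_y_eV (k : Fin m) (s : F) :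
    ap (Tr (eV ⟨0, by omega⟩ + eV ⟨1, by omega⟩ : Fin m ⊕ Fin m → F) s) (eV k) = eV k := by
  rw [ap_Tr, sympForm_add_right, form_eV_eV, form_eV_eV, add_zero, mul_zero, zero_smul, add_zero]

theorem gEl_eV0 : ap (gEl hm lam) (eV ⟨0, by omega⟩) = (eV ⟨0, by omega⟩ : Fin m ⊕ Fin m → F) := by
  unfold gEl
  rw [ap_mul, ap_mul, ap_inv_eq (ap_y_eV hm _ 1), ap_tor_eV]
  have : torD (⟨1, by omega⟩ : Fin m) lam (Sum.inl ⟨0, by omega⟩) = 1 := by
    rw [torD_inl, if_neg]
    intro h; have := congrArg Fin.val h; simp at this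
  rw [this, one_smul, ap_y_eV hm]

theorem gEl_eV1 : ap (gEl hm lam) (eV ⟨1, by omega⟩) =
    (lam : F) • (eV ⟨1, by omega⟩ : Fin m ⊕ Fin m → F) := by
  unfold gEl
  rw [ap_mul, ap_mul, ap_inv_eq (ap_y_eV hm _ 1), ap_tor_eV]
  have : torD (⟨1, by omega⟩ : Fin m) lam (Sum.inl ⟨1, by omega⟩) = lam := by
    rw [torD_inl, if_pos rfl]
  rw [this, ap_smul, ap_y_eV hm]

theorem gEl_fV1 : ap (gEl hm lam) (fV ⟨1, by omega⟩) =
    ((lam⁻¹ : Fˣ) : F) • (fV ⟨1, by omega⟩ : Fin m ⊕ Fin m → F) - eV ⟨0, by omega⟩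
      - (lam : F) • eV ⟨1, by omega⟩
      + ((lam⁻¹ : Fˣ) : F) • (eV ⟨0, by omega⟩ + eV ⟨1, by omega⟩) := by
  have h01 : (⟨0, by omega⟩ : Fin m) ≠ ⟨1, by omega⟩ := by
    intro h; have := congrArg Fin.val h; simp at this
  unfold gEl
  rw [ap_mul, ap_mul, ← Tr_neg]
  have e1 : ap (Tr (eV ⟨0, by omega⟩ + eV ⟨1, by omega⟩ : Fin m ⊕ Fin m → F) (-1))
      (fV ⟨1, by omega⟩) = fV ⟨1, by omega⟩ - eV ⟨0, by omega⟩ - eV ⟨1, by omega⟩ := by
    rw [ap_Tr, sympForm_add_right, form_fV_eV, form_fV_eV, if_neg h01, if_pos rfl]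
    module
  have t1 : torD (⟨1, by omega⟩ : Fin m) lam (Sum.inr ⟨1, by omega⟩) = ((lam⁻¹ : Fˣ) : F) := by
    rw [torD_inr, if_pos rfl]
  have t2 : torD (⟨1, by omega⟩ : Fin m) lam (Sum.inl ⟨0, by omega⟩) = 1 := by
    rw [torD_inl, if_neg h01]
  have t3 : torD (⟨1, by omega⟩ : Fin m) lam (Sum.inl ⟨1, by omega⟩) = lam := by
    rw [torD_inl, if_pos rfl]
  have e2 : ap (tor ⟨1, by omega⟩ lam)
      (fV ⟨1, by omega⟩ - eV ⟨0, by omega⟩ - eV ⟨1, by omega⟩ : Fin m ⊕ Fin m → F) =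
      ((lam⁻¹ : Fˣ) : F) • (fV ⟨1, by omega⟩ : Fin m ⊕ Fin m → F) - eV ⟨0, by omega⟩
      - (lam : F) • eV ⟨1, by omega⟩ := by
    rw [ap_sub, ap_sub, ap_tor_fV, ap_tor_eV, ap_tor_eV, t1, t2, t3, one_smul]
  rw [e1, e2, ap_Tr]
  congr 1
  rw [sympForm_sub_left, sympForm_sub_left, sympForm_smul_left, sympForm_smul_left,
    sympForm_add_right, sympForm_add_right, sympForm_add_right, form_fV_eV, form_fV_eV,
    form_eV_eV, form_eV_eV, form_eV_eV, form_eV_eV, if_neg h01, if_pos rfl]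
  congr 1
  ring

theorem gEl_pow [Fintype F] [DecidableEq F] :
    (gEl hm lam) ^ (Fintype.card Fˣ) = (1 : Matrix.symplecticGroup (Fin m) F) := by
  unfold gEl
  rw [conj_pow, tor_pow, pow_card_eq_one, tor_one, mul_one, mul_inv_cancel]

theorem gEl_commute :
    Commute (Tr (eV ⟨0, by omega⟩ : Fin m ⊕ Fin m → F) 1) (gEl hm lam) := by
  have h := conj_Tr' (gEl hm lam) (eV ⟨0, by omega⟩ : Fin m ⊕ Fin m → F) 1
  rw [gEl_eV0] at h
  have : gEl hm lam * Tr (eV ⟨0, by omega⟩ : Fin m ⊕ Fin m → F) 1 =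
      Tr (eV ⟨0, by omega⟩ : Fin m ⊕ Fin m → F) 1 * gEl hm lam := by
    calc gEl hm lam * Tr (eV ⟨0, by omega⟩ : Fin m ⊕ Fin m → F) 1
        = gEl hm lam * Tr (eV ⟨0, by omega⟩ : Fin m ⊕ Fin m → F) 1 * (gEl hm lam)⁻¹ * gEl hm lam := by
          group
      _ = Tr (eV ⟨0, by omega⟩ : Fin m ⊕ Fin m → F) 1 * gEl hm lam := by rw [h]
  exact this.symm

theorem card_units_cast [Fintype F] [DecidableEq F] : ((Fintype.card Fˣ : ℕ) : F) = -1 := by
  have h1 : Fintype.card Fˣ + 1 = Fintype.card F := by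
    rw [Fintype.card_units]
    have : 0 < Fintype.card F := Fintype.card_pos
    omega
  have h2 : ((Fintype.card F : ℕ) : F) = 0 := FiniteField.cast_card_eq_zero F
  rw [← h1, Nat.cast_add, Nat.cast_one] at h2
  linear_combination h2

theorem bEl_pow [Fintype F] [DecidableEq F] :
    (bEl hm lam) ^ (Fintype.card Fˣ) = (Tr (eV ⟨0, by omega⟩ : Fin m ⊕ Fin m → F) 1)⁻¹ := by
  unfold bEl
  rw [(gEl_commute hm lam).mul_pow, gEl_pow, mul_one, Tr_one_pow, card_units_cast, Tr_neg]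

/-- the closure of `{cox, bEl}` is everything when `lam ≠ 1` generates `Fˣ` -/
theorem closure_eq_top_of_three_le [Fintype F] [DecidableEq F]
    (hgen : ∀ μ : Fˣ, μ ∈ Submonoid.powers lam) (hlam : lam ≠ 1) :
    Subgroup.closure ({cox F (by omega : 0 < m), bEl hm lam} :
      Set (Matrix.symplecticGroup (Fin m) F)) = ⊤ := by
  set M := Subgroup.closure ({cox F (by omega : 0 < m), bEl hm lam} :
      Set (Matrix.symplecticGroup (Fin m) F)) with hM
  have hc : cox F (by omega : 0 < m) ∈ M := Subgroup.subset_closure (by simp)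
  have hb : bEl hm lam ∈ M := Subgroup.subset_closure (by simp)
  have ht : Tr (eV ⟨0, by omega⟩ : Fin m ⊕ Fin m → F) 1 ∈ M := by
    have := M.pow_mem hb (Fintype.card Fˣ)
    rw [bEl_pow] at this
    have h2 := M.inv_mem this
    rwa [inv_inv] at h2
  have hg : gEl hm lam ∈ M := by
    have : gEl hm lam = (Tr (eV ⟨0, by omega⟩ : Fin m ⊕ Fin m → F) 1)⁻¹ * bEl hm lam := by
      unfold bEl; group
    rw [this]
    exact M.mul_mem (M.inv_mem ht) hb
  -- an element of `M` scaling `e_0`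
  set g' := (cox F (by omega : 0 < m))⁻¹ * gEl hm lam * cox F (by omega : 0 < m) with hg'
  have hg'M : g' ∈ M := M.mul_mem (M.mul_mem (M.inv_mem hc) hg) hc
  have hce : ap (cox F (by omega : 0 < m)) (eV ⟨0, by omega⟩) =
      (eV ⟨1, by omega⟩ : Fin m ⊕ Fin m → F) := cox_eV _ _ _ rfl
  have hg'e : ap g' (eV ⟨0, by omega⟩) = (lam : F) • (eV ⟨0, by omega⟩ : Fin m ⊕ Fin m → F) := by
    rw [hg', ap_mul, ap_mul, hce, gEl_eV1, ap_smul, ap_inv_eq hce]
  -- the additive group of parameters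
  let S : AddSubgroup F :=
    { carrier := {s | Tr (eV ⟨0, by omega⟩ : Fin m ⊕ Fin m → F) s ∈ M}
      zero_mem' := by
        change Tr _ 0 ∈ M
        rw [Tr_zero]; exact M.one_mem
      add_mem' := by
        intro a b ha hb
        change Tr _ (a + b) ∈ M
        rw [← Tr_mul]
        exact M.mul_mem ha hb
      neg_mem' := by
        intro a ha
        change Tr _ (-a) ∈ M
        rw [Tr_neg]
        exact M.inv_mem ha }
  have hS : S = ⊤ := by
    apply addSubgroup_eq_top_of_sq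
    intro μ
    by_cases hμ : μ = 0
    · rw [hμ]
      simp only [ne_eq, OfNat.ofNat_ne_zero, not_false_eq_true, zero_pow]
      exact S.zero_mem
    · obtain ⟨k, hk⟩ := hgen (Units.mk0 μ hμ)
      have hk' : (lam : F) ^ k = μ := by
        have := congrArg (fun u : Fˣ => (u : F)) hk
        simpa using this
      change Tr _ (μ ^ 2) ∈ M
      have h1 := conj_Tr' (g' ^ k) (eV ⟨0, by omega⟩ : Fin m ⊕ Fin m → F) 1
      rw [ap_pow_of_smul g' _ _ hg'e k, Tr_smul, hk', mul_one] at h1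
      rw [← h1]
      exact M.mul_mem (M.mul_mem (M.pow_mem hg'M k) ht) (M.inv_mem (M.pow_mem hg'M k))
  have hi0 : (eV ⟨0, by omega⟩ : Fin m ⊕ Fin m → F) ∈ Rt M := by
    intro s
    have : s ∈ S := by rw [hS]; trivial
    exact this
  have hL : Long M := long_of_cox (by omega) hc ⟨0, by omega⟩ hi0
  have hw : ap (gEl hm lam) (fV ⟨1, by omega⟩) ∈ Rt M := Rt_ap hg (hL ⟨1, by omega⟩).2
  have h01 : (⟨0, by omega⟩ : Fin m) ≠ ⟨1, by omega⟩ := by
    intro h; have := congrArg Fin.val h; simp at this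
  have hlam' : ((lam⁻¹ : Fˣ) : F) ≠ 1 := by
    intro h
    apply hlam
    have : (lam⁻¹ : Fˣ) = 1 := Units.ext h
    exact inv_eq_one.mp this
  refine eq_top_of_cox (by omega) hc ⟨0, by omega⟩ hi0 ⟨0, by omega⟩ ⟨1, by omega⟩ rfl
    (ap (gEl hm lam) (fV ⟨1, by omega⟩)) hw ?_ ?_ ?_
  · left
    rw [gEl_fV1]
    simp [h01, h01.symm]
    intro h
    apply hlam'
    have : ((lam⁻¹ : Fˣ) : F) = (lam : F)⁻¹ := by simp
    rw [this]
    linear_combination h
  · right
    rw [gEl_fV1]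
    simp
  · intro l hl0 hl1
    rw [gEl_fV1]
    simp [hl0, hl1]

end gens

end Cfsg.Agent.Lib.Helper6.SpGen
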