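import Mathlib
import Cfsg.Agent.Lib.Helper26.HTDefs

/-!
# Market "HT" (S3371): the action of `G` on `V` through `ρ`, as a `DistribMulAction`
-/

set_option autoImplicit false
set_option linter.style.haveILetI false

namespace Cfsg.Agent.Lib.Helper6.HTBridge

open Subgroup Cfsg.Agent.Lib.Helper26.HT

variable {q : ℕ} [Fact q.Prime] {V : Type*} [AddCommGroup V] [Module (ZMod q) V]
  {G : Type*} [Group G]

/-- the action of `G` on `V` through `ρ` -/
@[reducible] def act (ρ : G →* (V ≃ₗ[ZMod q] V)) : DistribMulAction G V :=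
  DistribMulAction.compHom V ρ

theorem act_smul (ρ : G →* (V ≃ₗ[ZMod q] V)) (g : G) (v : V) :
    (letI := act ρ; g • v) = ρ g v := rfl

theorem stabilizer_eq (ρ : G →* (V ≃ₗ[ZMod q] V)) (v : V) :
    (letI := act ρ; MulAction.stabilizer G v) = stab ρ v := by
  let _ := act ρ
  ext g
  exact Iff.rfl

theorem faithful (ρ : G →* (V ≃ₗ[ZMod q] V)) (hρ : Function.Injective ρ) :
    (letI := act ρ; FaithfulSMul G V) := by
  letI := act ρ
  refine ⟨fun {g h} hgh => hρ ?_⟩
  ext v
  exact hgh v

theorem char_q (v : V) : q • v = 0 := by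
  have h : ((q : ZMod q)) • v = 0 := by rw [ZMod.natCast_self, zero_smul]
  rwa [Nat.cast_smul_eq_nsmul] at h

end Cfsg.Agent.Lib.Helper6.HTBridge
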