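import Mathlib
import Cfsg.Agent.Lib.Helper26.HTDefs
import Cfsg.Agent.Lib.Helper6.HTBridge
import Cfsg.Agent.Lib.Helper8.HalfTransitive

/-!
# Market "HT" (S3371), leaf HTFPF
-/

set_option autoImplicit false
set_option linter.style.haveILetI false

namespace Cfsg.Agent.Lib.Helper6.HTFPF

open Subgroup Cfsg.Agent.Lib.Helper26.HT Cfsg.Agent.Lib.Helper6.HTBridge

variable {q : ℕ} [Fact q.Prime] {V : Type*} [AddCommGroup V] [Module (ZMod q) V]
  {G : Type*} [Group G]

/-- **HT-FPF** -/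
theorem central_fpf [Finite G] (ρ : G →* (V ≃ₗ[ZMod q] V)) (hρ : Function.Injective ρ)
    (hT : HalfT ρ) (hq2 : q ≠ 2) (z : G) (hzc : z ∈ center G) (hz : orderOf z = 2)
    (v : V) (hv : ρ z v = v) : v = 0 := by
  letI := act ρ
  haveI := faithful ρ hρ
  have hq : q.Prime := Fact.out
  have hconst : ∀ a b : V, a ≠ 0 → b ≠ 0 →
      Nat.card (MulAction.stabilizer G a) = Nat.card (MulAction.stabilizer G b) := by
    intro a b ha hb
    rw [stabilizer_eq, stabilizer_eq]
    exact hT a b ha hb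
  have hz2 : z ^ 2 = 1 := by rw [← hz]; exact pow_orderOf_eq_one z
  have hz1 : z ≠ 1 := by
    intro h
    rw [h, orderOf_one] at hz
    exact absurd hz (by norm_num)
  exact Cfsg.Agent.Lib.Helper8.fpf_of_central Nat.prime_two hq (Ne.symm hq2)
    (fun e => char_q e) hconst hzc hz2 hz1 hv

end Cfsg.Agent.Lib.Helper6.HTFPF
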