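import Mathlib
import Cfsg.Agent.Lib.Helper26.HTDefs
import Cfsg.Agent.Lib.Helper6.HTBridge
import Cfsg.Agent.Lib.Helper8.HalfTransitive

/-!
# Market "HT" (S3371), leaf HTODD
-/

set_option autoImplicit false
set_option linter.style.haveILetI false

namespace Cfsg.Agent.Lib.Helper6.HTODD

open Subgroup Cfsg.Agent.Lib.Helper26.HT Cfsg.Agent.Lib.Helper6.HTBridge

variable {q : ℕ} [Fact q.Prime] {V : Type*} [AddCommGroup V] [Module (ZMod q) V]
  {G : Type*} [Group G]

/-- **HT-ODD** -/
theorem cyclic_semireg_of_odd_or_same [Finite V] [Finite G] (p : ℕ) [Fact p.Prime]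
    (hG : IsPGroup p G) (ρ : G →* (V ≃ₗ[ZMod q] V)) (hρ : Function.Injective ρ) (hT : HalfT ρ)
    (h : p ≠ 2 ∨ p = q) : IsCyclic G ∧ Semireg ρ := by
  letI := act ρ
  haveI := faithful ρ hρ
  have hp : p.Prime := Fact.out
  have hq : q.Prime := Fact.out
  have hconst : ∀ a b : V, a ≠ 0 → b ≠ 0 →
      Nat.card (MulAction.stabilizer G a) = Nat.card (MulAction.stabilizer G b) := by
    intro a b ha hb
    rw [stabilizer_eq, stabilizer_eq]
    exact hT a b ha hb
  by_cases hp2 : p = 2
  · have hpq : p = q := h.resolve_left (fun h' => h' hp2)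
    subst hpq
    haveI := Cfsg.Agent.Lib.Helper8.subsingleton_of_halfTransitive_same_prime hp hG
      (fun e => char_q e) hconst
    exact ⟨isCyclic_of_subsingleton, fun v _ g _ => Subsingleton.elim g 1⟩
  · obtain ⟨hc, hs⟩ := Cfsg.Agent.Lib.Helper8.halfTransitive_main hp hp2 hG hq
      (fun e => char_q e) hconst
    refine ⟨hc, fun v hv g hg => ?_⟩
    by_contra hg1
    exact hv (hs g hg1 v hg)

end Cfsg.Agent.Lib.Helper6.HTODD
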