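import Mathlib
import Cfsg.Agent.Lib.Helper26.HTDefs
import Cfsg.Agent.Lib.Helper6.HTBridge

/-!
# Market "HT" (S3371), leaf HTORB
-/

set_option autoImplicit false
set_option linter.style.haveILetI false

namespace Cfsg.Agent.Lib.Helper6.HTORB

open Subgroup Cfsg.Agent.Lib.Helper26.HT Cfsg.Agent.Lib.Helper6.HTBridge

variable {q : ℕ} [Fact q.Prime] {V : Type*} [AddCommGroup V] [Module (ZMod q) V]
  {G : Type*} [Group G]

/-- **HT-ORB** -/
theorem halfT_of_orbits [Finite V] [Finite G] (ρ : G →* (V ≃ₗ[ZMod q] V))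
    (hhalf : ∀ v w : V, v ≠ 0 → w ≠ 0 →
      Nat.card {u : V | ∃ g : G, ρ g v = u} = Nat.card {u : V | ∃ g : G, ρ g w = u}) :
    HalfT ρ := by
  letI := act ρ
  intro v w hv hw
  have key : ∀ x : V, Nat.card (stab ρ x) * Nat.card {u : V | ∃ g : G, ρ g x = u} = Nat.card G := by
    intro x
    have h1 := Subgroup.card_mul_index (MulAction.stabilizer G x)
    rw [MulAction.index_stabilizer, ← Nat.card_coe_set_eq, stabilizer_eq] at h1
    exact h1
  have h1 := key v
  have h2 := key w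
  rw [hhalf v w hv hw, ← h2] at h1
  have hpos : 0 < Nat.card {u : V | ∃ g : G, ρ g w = u} := by
    haveI : Nonempty {u : V | ∃ g : G, ρ g w = u} := ⟨⟨ρ 1 w, 1, rfl⟩⟩
    exact Nat.card_pos
  exact Nat.eq_of_mul_eq_mul_right hpos h1

end Cfsg.Agent.Lib.Helper6.HTORB
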