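import Mathlib
import Cfsg.Agent.Lib.Helper26.HTDefs
import Cfsg.Agent.Lib.Helper6.HTBridge
import Cfsg.Agent.Lib.Helper18.UniqueInvolution

/-!
# Market "HT" (S3371), leaf HTSEMI2
-/

set_option autoImplicit false
set_option linter.style.haveILetI false

namespace Cfsg.Agent.Lib.Helper6.HTSEMI2

open Subgroup Cfsg.Agent.Lib.Helper26.HT Cfsg.Agent.Lib.Helper6.HTBridge

variable {q : ℕ} [Fact q.Prime] {V : Type*} [AddCommGroup V] [Module (ZMod q) V]
  {G : Type*} [Group G]

/-- **HT-SEMI2** -/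
theorem cyclic_or_quaternion_of_semireg [Finite G] (hG : IsPGroup 2 G)
    (ρ : G →* (V ≃ₗ[ZMod q] V)) (hρ : Function.Injective ρ) (hs : Semireg ρ) :
    IsCyclic G ∨ ∃ n : ℕ, Nonempty (G ≃* QuaternionGroup n) := by
  have hneg : ∀ t : G, orderOf t = 2 → ∀ v : V, ρ t v = -v := by
    intro t ht v
    have ht2 : t * t = 1 := by rw [← pow_two, ← ht]; exact pow_orderOf_eq_one t
    have ht1 : t ≠ 1 := by
      intro h
      rw [h, orderOf_one] at ht
      exact absurd ht (by norm_num)
    have hfix : ρ t (v + ρ t v) = v + ρ t v := by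
      rw [map_add, ← mul_apply', ht2, one_apply', add_comm]
    by_contra hne
    have hv0 : v + ρ t v ≠ 0 := by
      intro h0
      exact hne (eq_neg_of_add_eq_zero_right h0)
    exact ht1 (hs _ hv0 t hfix)
  have huniq : ∀ s t : G, orderOf s = 2 → orderOf t = 2 → s = t := by
    intro s t hs2 ht2
    apply hρ
    ext v
    rw [hneg s hs2 v, hneg t ht2 v]
  rcases Cfsg.Agent.Lib.Helper18.isCyclic_or_quaternion_of_unique_involution hG huniq with
    h | ⟨n, _, hn⟩
  · exact Or.inl h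
  · exact Or.inr ⟨2 ^ n, hn⟩

end Cfsg.Agent.Lib.Helper6.HTSEMI2
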