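/-
helper6: the Steinberg function of `GL_n(F)`, `F` finite: it vanishes at the non-identity upper
unitriangular matrices and its degree is the order of the upper unitriangular group.
-/
import Mathlib
import Cfsg.Agent.Lib.Helper6.GLStA
import Cfsg.Agent.Lib.Helper18.PSLnUnitri

set_option autoImplicit false

namespace Cfsg.Agent.Lib.Helper6.GLSt

open Matrix Equiv Cfsg Cfsg.Agent.Lib.Helper3.BN Cfsg.Agent.Lib.Helper6.BNSt
  Cfsg.Agent.Lib.Helper6.GLBN Cfsg.Agent.Lib.Helper18.PSLnAut

variable {n : ℕ} {F : Type*} [Field F] [Finite F]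

/-- the simple reflections, as a finset -/
noncomputable def SfinGL (n : ℕ) (F : Type*) [Field F] [Finite F] : Finset (GL (Fin n) F) :=
  (Set.toFinite (simpleSet n F)).toFinset

theorem coe_SfinGL : ((SfinGL n F : Finset (GL (Fin n) F)) : Set (GL (Fin n) F)) = (glBN n F).S :=
  Set.Finite.coe_toFinset _

/-- the Steinberg function of `GL_n(F)` -/
noncomputable def stGL (n : ℕ) (F : Type*) [Field F] [Finite F] : GL (Fin n) F → ℂ :=
  stFun (glBN n F) (SfinGL n F)

theorem stGL_apply_B (b : (glBN n F).B) :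
    stGL n F (b : GL (Fin n) F) =
      (Nat.card (MulAction.fixedBy ((glBN n F).B ⧸ BStab (glBN n F) (n0 n F)) b) : ℂ) := by
  unfold stGL
  rw [stFun_apply_B (glBN n F) (SfinGL n F) coe_SfinGL b, BStab_w0_eq]

/-- vanishing at the non-identity unitriangular matrices -/
theorem stGL_unipotent {u : GL (Fin n) F} (hu : u ∈ Bup n F)
    (h1 : ∀ i, (u : Matrix (Fin n) (Fin n) F) i i = 1) (hne : u ≠ 1) : stGL n F u = 0 := by
  have h : stGL n F u = _ := stGL_apply_B (n := n) (F := F) ⟨u, hu⟩
  rw [h]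
  have hemp : IsEmpty (MulAction.fixedBy ((glBN n F).B ⧸ BStab (glBN n F) (n0 n F))
      (⟨u, hu⟩ : (glBN n F).B)) := by
    constructor
    rintro ⟨x, hx⟩
    obtain ⟨c, rfl⟩ := QuotientGroup.mk_surjective x
    rw [MulAction.mem_fixedBy] at hx
    have hx' : (((⟨u, hu⟩ : (glBN n F).B) * c : (glBN n F).B) :
        (glBN n F).B ⧸ BStab (glBN n F) (n0 n F)) = (c : (glBN n F).B ⧸ _) := hx
    rw [QuotientGroup.eq, mem_BStab_n0] at hx'
    have hc : (c : GL (Fin n) F) ∈ Bup n F := c.2
    have hcoe : (((⟨u, hu⟩ * c)⁻¹ * c : (glBN n F).B) : GL (Fin n) F) =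
        (c : GL (Fin n) F)⁻¹ * u⁻¹ * c := by
      push_cast
      group
    rw [hcoe] at hx'
    -- the diagonal of `c⁻¹ u⁻¹ c` is trivial
    have hdiag : ∀ i, (((c : GL (Fin n) F)⁻¹ * u⁻¹ * c : GL (Fin n) F) :
        Matrix (Fin n) (Fin n) F) i i = 1 := by
      intro i
      have huinv : ((u⁻¹ : GL (Fin n) F) : Matrix (Fin n) (Fin n) F) i i = 1 := by
        have := Bup_inv_diag hu i
        rwa [h1 i, mul_one] at this
      rw [Bup_mul_diag (Subgroup.mul_mem _ (Subgroup.inv_mem _ hc) (Subgroup.inv_mem _ hu)) hc,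
        Bup_mul_diag (Subgroup.inv_mem _ hc) (Subgroup.inv_mem _ hu), huinv, mul_one]
      exact Bup_inv_diag hc i
    have hone : (c : GL (Fin n) F)⁻¹ * u⁻¹ * c = 1 := by
      apply Units.ext
      ext i j
      rw [Units.val_one, Matrix.one_apply]
      by_cases hij : i = j
      · subst hij
        rw [if_pos rfl]
        exact hdiag i
      · rw [if_neg hij]
        exact hx' i j hij
    apply hne
    have : u⁻¹ = 1 := by
      have e : u⁻¹ = (c : GL (Fin n) F) * ((c : GL (Fin n) F)⁻¹ * u⁻¹ * c) * (c : GL (Fin n) F)⁻¹ := by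
        group
      rw [e, hone]; group
    exact inv_eq_one.mp this
  rw [Nat.card_of_isEmpty, Nat.cast_zero]

/-- unitriangular matrices are upper triangular -/
theorem toGL_mem_Bup {u : SpecialLinearGroup (Fin n) F} (hu : u ∈ unitri n F) :
    SpecialLinearGroup.toGL u ∈ Bup n F := by
  rw [mem_Bup]
  intro i j hji
  exact hu.1 i j hji

/-- the map `U → B/T` -/
noncomputable def uniToQuot (u : unitri n F) : (glBN n F).B ⧸ BStab (glBN n F) (n0 n F) :=
  QuotientGroup.mk (⟨SpecialLinearGroup.toGL u.1, toGL_mem_Bup u.2⟩ : (glBN n F).B)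

theorem uniToQuot_bijective : Function.Bijective (uniToQuot (n := n) (F := F)) := by
  constructor
  · intro u u' h
    unfold uniToQuot at h
    rw [QuotientGroup.eq, mem_BStab_n0] at h
    have hcoe : (((⟨SpecialLinearGroup.toGL u.1, toGL_mem_Bup u.2⟩ : (glBN n F).B)⁻¹ *
        (⟨SpecialLinearGroup.toGL u'.1, toGL_mem_Bup u'.2⟩ : (glBN n F).B) : (glBN n F).B) :
          GL (Fin n) F) = SpecialLinearGroup.toGL ((u⁻¹ * u' : unitri n F) : SpecialLinearGroup (Fin n) F) := by
      push_cast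
      rw [map_mul, map_inv]
    rw [hcoe] at h
    have hmem : IsUni (((u⁻¹ * u' : unitri n F) : SpecialLinearGroup (Fin n) F) :
        Matrix (Fin n) (Fin n) F) := (u⁻¹ * u').2
    have hone : ((u⁻¹ * u' : unitri n F) : SpecialLinearGroup (Fin n) F) = 1 := by
      apply Matrix.SpecialLinearGroup.ext
      intro i j
      show (((u⁻¹ * u' : unitri n F) : SpecialLinearGroup (Fin n) F) :
        Matrix (Fin n) (Fin n) F) i j = (1 : Matrix (Fin n) (Fin n) F) i j
      rw [Matrix.one_apply]
      by_cases hij : i = j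
      · subst hij
        rw [if_pos rfl]
        exact hmem.2 i
      · rw [if_neg hij]
        exact h i j hij
    have : u⁻¹ * u' = 1 := Subtype.ext hone
    exact (inv_mul_eq_one.mp this)
  · intro x
    obtain ⟨b, rfl⟩ := QuotientGroup.mk_surjective x
    have hb : (b : GL (Fin n) F) ∈ Bup n F := b.2
    set M : Matrix (Fin n) (Fin n) F := Matrix.of fun i j =>
      ((b : GL (Fin n) F) : Matrix (Fin n) (Fin n) F) i j *
        (((b : GL (Fin n) F) : Matrix (Fin n) (Fin n) F) j j)⁻¹ with hM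
    have hMuni : IsUni M := by
      constructor
      · intro i j hji
        rw [hM, Matrix.of_apply, (mem_Bup.mp hb) i j hji, zero_mul]
      · intro i
        rw [hM, Matrix.of_apply, mul_inv_cancel₀ (diag_ne_zero hb i)]
    let c : Fin n → Fˣ := fun j => Units.mk0 _ (diag_ne_zero hb j)
    have hfac : (b : GL (Fin n) F) =
        SpecialLinearGroup.toGL (⟨M, hMuni.det⟩ : SpecialLinearGroup (Fin n) F) * monoGL 1 c := by
      have hmat : ((b : GL (Fin n) F) : Matrix (Fin n) (Fin n) F) =
          M * mono 1 (fun j => ((c j : Fˣ) : F)) := by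
        ext i j
        rw [mul_mono_apply, Perm.one_apply, hM, Matrix.of_apply]
        show _ = _ * _ * ((b : GL (Fin n) F) : Matrix (Fin n) (Fin n) F) j j
        rw [mul_assoc, inv_mul_cancel₀ (diag_ne_zero hb j), mul_one]
      apply Units.ext
      rw [Units.val_mul, coe_monoGL, hmat]
      rfl
    refine ⟨⟨⟨M, hMuni.det⟩, hMuni⟩, ?_⟩
    unfold uniToQuot
    rw [QuotientGroup.eq, mem_BStab_n0]
    intro i j hij
    have hcoe : (((⟨SpecialLinearGroup.toGL (⟨M, hMuni.det⟩ : SpecialLinearGroup (Fin n) F),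
        toGL_mem_Bup (show (⟨M, hMuni.det⟩ : SpecialLinearGroup (Fin n) F) ∈ unitri n F from hMuni)⟩ :
          (glBN n F).B)⁻¹ * b : (glBN n F).B) : GL (Fin n) F) = monoGL 1 c := by
      push_cast
      rw [inv_mul_eq_iff_eq_mul]
      exact hfac
    rw [hcoe, coe_monoGL, mono_apply, if_neg]
    rw [Perm.one_apply]
    exact hij

/-- the degree -/
theorem stGL_one : stGL n F 1 = (Nat.card (unitri n F) : ℂ) := by
  unfold stGL
  rw [stFun_one (glBN n F) (SfinGL n F) coe_SfinGL, BStab_w0_eq,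
    Nat.card_congr (Equiv.ofBijective _ (uniToQuot_bijective (n := n) (F := F)))]

end Cfsg.Agent.Lib.Helper6.GLSt
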