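/-
helper6: S4581 leaf (OD) `exists_odd_over_invariant` (planner helper5, notes/S4581_leaves.lean):
an odd-degree irreducible character of `G` over a `P`-invariant irreducible character `θ` of an
odd-order normal subgroup `M` (`P ∈ Syl_2(G)`).  Route: `θ` extends to `MP` (helper23
`exists_extension_of_pgroup_quotient`), and an induced character of odd degree has an irreducible
constituent of odd degree.
-/
import Mathlib
import Cfsg.Prelude.Def_Blocks
import Cfsg.Agent.Lib.Helper6.Clifford
import Cfsg.Agent.Lib.Helper6.CliffordCorr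
import Cfsg.Agent.Lib.Helper6.CharExtra
import Cfsg.Agent.Lib.Helper6.Ramification2
import Cfsg.Agent.Lib.Helper5.RODefs
import Cfsg.Agent.Lib.Helper23.Thompson
import Cfsg.Agent.Lib.Helper24.IrrFacts
import Cfsg.Agent.Lib.Helper2.BLAux

set_option autoImplicit false

namespace Cfsg.Agent.Lib.Helper6.RO

open Cfsg Cfsg.Agent.Lib.Helper6 Cfsg.Agent.CharLib Cfsg.Agent.Lib.Helper5.RO
open scoped ComplexConjugate

universe u

/-- An irreducible character `η` of odd degree of a subgroup `R` of odd index lies under an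
irreducible character of `G` of odd degree. -/
theorem exists_odd_over_of_odd_index' {G : Type u} [Group G] [Fintype G] (R : Subgroup G)
    [Fintype R] (hR : Odd R.index) (η : R → ℂ) (hη : IsIrrCharacter R η) {d : ℕ} (hd : η 1 = d)
    (hdo : Odd d) :
    ∃ χ : IrrCharacter G, Odd (charDegree (χ : G → ℂ)) ∧
      classInner (resFun R (χ : G → ℂ)) η ≠ 0 := by
  classical
  let _ := fintypeIrr G
  have hηc : IsCharacter R η := IsIrrCharacter.isCharacter hη
  have hΦ : IsCharacter G (indFun R η) := IsCharacter.indFun R hηc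
  obtain ⟨m, hm, hcoef⟩ := IsCharacter.exists_decomp_sum hΦ
  have hfr : ∀ χ : IrrCharacter G, classInner (indFun R η) (χ : G → ℂ) =
      classInner (resFun R (χ : G → ℂ)) η := by
    intro χ
    rw [frobenius_reciprocity R η
      (IsCharacter.isClassFunction (IsIrrCharacter.isCharacter χ.2))]
    obtain ⟨k, hk⟩ := IsCharacter.classInner_nat
      (isCharacter_resFun R (IsIrrCharacter.isCharacter χ.2)) hηc
    rw [← classInner_conj_symm, ← resFun_eq, hk, Complex.conj_natCast]
  -- degrees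
  have h1 : indFun R η 1 = ((R.index * d : ℕ) : ℂ) := by
    rw [indFun_apply_one, hd]
    have hc : Nat.card R * R.index = Nat.card G := Subgroup.card_mul_index R
    have hR0 : (Nat.card R : ℂ) ≠ 0 := Nat.cast_ne_zero.mpr Nat.card_pos.ne'
    rw [← hc]
    push_cast
    field_simp
  have h2 : indFun R η 1 = ((∑ ψ : IrrCharacter G, m ψ * charDegree (ψ : G → ℂ) : ℕ) : ℂ) := by
    conv_lhs => rw [hm]
    rw [Finset.sum_apply]
    push_cast
    apply Finset.sum_congr rfl
    intro ψ _
    rw [Pi.smul_apply, nsmul_eq_mul, Cfsg.Agent.Lib.Helper24.irr_apply_one]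
  have h3 : ∑ ψ : IrrCharacter G, m ψ * charDegree (ψ : G → ℂ) = R.index * d := by
    have := h2.symm.trans h1
    exact_mod_cast this
  have hodd : Odd (∑ ψ : IrrCharacter G, m ψ * charDegree (ψ : G → ℂ)) := by
    rw [h3]; exact hR.mul hdo
  have hex : ∃ ψ : IrrCharacter G, Odd (m ψ * charDegree (ψ : G → ℂ)) := by
    by_contra hcon
    push Not at hcon
    have : Even (∑ ψ : IrrCharacter G, m ψ * charDegree (ψ : G → ℂ)) :=
      Finset.even_sum _ (fun ψ _ => Nat.not_odd_iff_even.mp (hcon ψ))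
    exact (Nat.not_even_iff_odd.mpr hodd) this
  obtain ⟨χ, hχ⟩ := hex
  rw [Nat.odd_mul] at hχ
  refine ⟨χ, hχ.2, ?_⟩
  rw [← hfr, hcoef]
  have : m χ ≠ 0 := by
    intro h0
    rw [h0] at hχ
    exact (by decide : ¬ Odd 0) hχ.1
  exact_mod_cast this

/-- (OD) of notes/S4581_leaves.lean. -/
theorem exists_odd_over_invariant {G : Type u} [Group G] [Finite G] (P : Sylow 2 G)
    (M : Subgroup G) [hM : M.Normal] (hMo : Odd (Nat.card M)) (θ : M → ℂ)
    (hθ : IsIrrCharacter M θ) (hinv : ∀ g ∈ (P : Subgroup G), conjFun M g θ = θ) :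
    ∃ χ : IrrCharacter G, Odd (charDegree (χ : G → ℂ)) ∧
      haveI := Fintype.ofFinite M
      classInner (resFun M (χ : G → ℂ)) θ ≠ 0 := by
  classical
  let _ : Fintype G := Fintype.ofFinite G
  let _ : Fintype M := Fintype.ofFinite M
  set R : Subgroup G := M ⊔ (P : Subgroup G) with hRdef
  let _ : Fintype R := Fintype.ofFinite R
  have hMR : M ≤ R := le_sup_left
  have hPR : (P : Subgroup G) ≤ R := le_sup_right
  let _ : Fintype (M.subgroupOf R) := Fintype.ofFinite _
  let e : ↥(M.subgroupOf R) ≃* ↥M := Subgroup.subgroupOfEquivOfLe hMR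
  have hθ' : IsIrrCharacter ↥(M.subgroupOf R) (θ ∘ e) := isIrrCharacter_comp_mulEquiv' e hθ
  have hθcf : IsClassFunction M θ := IsCharacter.isClassFunction (IsIrrCharacter.isCharacter hθ)
  -- `θ` is `R`-invariant
  have hRT : R ≤ inertiaSubgroup M θ := by
    rw [hRdef]
    apply sup_le
    · intro x hx
      exact (mem_inertiaSubgroup M θ x).mpr (conjFun_of_mem M hθcf hx)
    · intro x hx
      exact (mem_inertiaSubgroup M θ x).mpr (hinv x hx)
  have hinv' : ∀ r : ↥R, conjFun (M.subgroupOf R) r (θ ∘ e) = θ ∘ e := by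
    intro r
    rw [conjFun_subgroupOf hMR r θ, (mem_inertiaSubgroup M θ (r : G)).mp (hRT r.2)]
  -- the index of `M` in `R` is a power of `2`
  obtain ⟨k, hk⟩ : ∃ k : ℕ, (M.subgroupOf R).index = 2 ^ k := by
    have h1 : (M.subgroupOf R).index = M.relIndex (P : Subgroup G) := by
      show M.relIndex R = _
      rw [hRdef, Subgroup.relIndex_sup_left]
    have h2 : M.relIndex (P : Subgroup G) ∣ Nat.card (P : Subgroup G) := Subgroup.relIndex_dvd_card _ _
    obtain ⟨n, hn⟩ := (IsPGroup.iff_card).mp P.isPGroup'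
    rw [hn] at h2
    obtain ⟨j, _, hj⟩ := (Nat.dvd_prime_pow Nat.prime_two).mp h2
    exact ⟨j, by rw [h1, hj]⟩
  -- homs have odd order
  have hcardM' : Nat.card ↥(M.subgroupOf R) = Nat.card M := Nat.card_congr e.toEquiv
  have hhom : ∀ φ : ↥(M.subgroupOf R) →* ℂˣ, (orderOf φ).Coprime 2 := by
    intro φ
    have h1 : orderOf φ ∣ Nat.card ↥(M.subgroupOf R) := by
      apply orderOf_dvd_of_pow_eq_one
      ext x
      rw [MonoidHom.pow_apply, ← map_pow, pow_card_eq_one', map_one, MonoidHom.one_apply]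
    rw [hcardM'] at h1
    have h2 : Odd (orderOf φ) := Odd.of_dvd_nat hMo h1
    exact Nat.Coprime.symm (Nat.coprime_two_left.mpr h2)
  -- the degree of `θ`
  have hdeg : (θ ∘ e) 1 = (charDegree θ : ℂ) := by
    rw [Function.comp_apply, map_one]
    exact Cfsg.Agent.Lib.Helper24.irr_apply_one (⟨θ, hθ⟩ : IrrCharacter M)
  have hdvd : charDegree θ ∣ Nat.card M :=
    Cfsg.Agent.Lib.Helper24.irr_charDegree_dvd_card (⟨θ, hθ⟩ : IrrCharacter M)
  have hdo : Odd (charDegree θ) := Odd.of_dvd_nat hMo hdvd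
  have hpd : ¬ 2 ∣ charDegree θ := fun h => (Nat.not_even_iff_odd.mpr hdo) (even_iff_two_dvd.mpr h)
  obtain ⟨η, hη, hηres⟩ := Cfsg.Agent.Lib.Helper23.exists_extension_of_pgroup_quotient
    (p := 2) (M.subgroupOf R) hk hhom hθ' hinv' hdeg hpd
  -- degree of `η`
  have hη1 : η 1 = (charDegree θ : ℂ) := by
    have := congrFun hηres 1
    rw [resFun_apply] at this
    rw [← hdeg, ← this]
    rfl
  -- `R` has odd index
  have hRodd : Odd R.index := by
    have h1 : R.index ∣ (P : Subgroup G).index := Subgroup.index_dvd_of_le hPR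
    have h2 : ¬ 2 ∣ (P : Subgroup G).index := P.not_dvd_index
    have h3 : Odd (P : Subgroup G).index :=
      Nat.not_even_iff_odd.mp (fun h => h2 (even_iff_two_dvd.mp h))
    exact Odd.of_dvd_nat h3 h1
  obtain ⟨χ, hχo, hχη⟩ := exists_odd_over_of_odd_index' R hRodd η hη hη1 hdo
  refine ⟨χ, hχo, ?_⟩
  have hχR : IsCharacter ↥R (resFun R (χ : G → ℂ)) :=
    isCharacter_resFun R (IsIrrCharacter.isCharacter χ.2)
  have hμne : classInner (resFun (M.subgroupOf R) η) (θ ∘ e) ≠ 0 := by
    rw [hηres, classInner_irr hθ' hθ', if_pos rfl]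
    exact one_ne_zero
  have h4 := Cfsg.Agent.Lib.Helper2.BLAux.classInner_res_ne_zero_of_constituent hχR hη hχη
    (M.subgroupOf R) (IsIrrCharacter.isCharacter hθ') hμne
  have h5 : resFun (M.subgroupOf R) (resFun R (χ : G → ℂ)) = (resFun M (χ : G → ℂ)) ∘ e := by
    funext x
    rfl
  rw [h5, classInner_comp_mulEquiv] at h4
  exact h4

end Cfsg.Agent.Lib.Helper6.RO
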