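/-
helper6: primes `p`, `q` that are not adjacent in the prime graph (no commuting elements of orders
`p` and `q`): general form, passage to quotients, fixed points of coprime automorphisms of prime
order on invariant conjugacy classes, characters moved by such automorphisms.
-/
import Mathlib
import Cfsg.Agent.Lib.Helper24.NormalDegrees
import Cfsg.Agent.Lib.Lead.CharMore
import Cfsg.Agent.Lib.Lead.CharBurnside

set_option autoImplicit false

namespace Cfsg.Agent.Lib.Helper6.NonAdj

open Cfsg Cfsg.Agent.CharLib Cfsg.Agent.Lib.Helper6 Cfsg.Agent.Lib.Helper24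

universe u

/-- No element of order `p` commutes with an element of order `q`. -/
def NoPQ (p q : ℕ) (G : Type*) [Group G] : Prop :=
  ∀ x y : G, orderOf x = p → orderOf y = q → x * y ≠ y * x

variable {G : Type u} [Group G]

theorem NoPQ.symm {p q : ℕ} (h : NoPQ p q G) : NoPQ q p G :=
  fun x y hx hy hxy => h y x hy hx hxy.symm

/-- A suitable power of an element whose order is divisible by the prime `r` has order `r`. -/
theorem orderOf_pow_div_prime [Finite G] {r : ℕ} (x : G) (hdvd : r ∣ orderOf x) :
    orderOf (x ^ (orderOf x / r)) = r :=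
  orderOf_pow_orderOf_div (orderOf_pos x).ne' hdvd

/-- General form: no nonidentity `p`-element commutes with a nonidentity `q`-element. -/
theorem NoPQ.general [Finite G] {p q : ℕ} (hp : p.Prime) (hq : q.Prime) (h : NoPQ p q G)
    {x y : G} (hx1 : x ≠ 1) (hy1 : y ≠ 1) (hx : ∃ k : ℕ, orderOf x = p ^ k)
    (hy : ∃ k : ℕ, orderOf y = q ^ k) : x * y ≠ y * x := by
  intro hxy
  obtain ⟨k, hk⟩ := hx
  obtain ⟨l, hl⟩ := hy
  have hpx : p ∣ orderOf x := by
    rw [hk]
    apply dvd_pow_self
    intro h0
    rw [h0, pow_zero] at hk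
    exact hx1 (orderOf_eq_one_iff.mp hk)
  have hqy : q ∣ orderOf y := by
    rw [hl]
    apply dvd_pow_self
    intro h0
    rw [h0, pow_zero] at hl
    exact hy1 (orderOf_eq_one_iff.mp hl)
  have hc : Commute x y := hxy
  exact h _ _ (orderOf_pow_div_prime x hpx) (orderOf_pow_div_prime y hqy)
    (hc.pow_pow _ _).eq

/-- Non-adjacency passes to quotients. -/
theorem NoPQ.quotient [Finite G] {p q : ℕ} (hp : p.Prime) (hq : q.Prime) (hpq : p ≠ q)
    (h : NoPQ p q G) (N : Subgroup G) [N.Normal] : NoPQ p q (G ⧸ N) := by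
  intro x y hx hy hxy
  have hc : Commute x y := hxy
  have hcop : Nat.Coprime (orderOf x) (orderOf y) := by
    rw [hx, hy]
    exact (Nat.coprime_primes hp hq).mpr hpq
  have hord : orderOf (x * y) = p * q := by
    rw [hc.orderOf_mul_eq_mul_orderOf_of_coprime hcop, hx, hy]
  obtain ⟨g, hg⟩ := QuotientGroup.mk_surjective (x * y)
  have hdvd : p * q ∣ orderOf g := by
    rw [← hord]
    apply orderOf_dvd_of_pow_eq_one
    rw [← hg, ← QuotientGroup.mk_pow, pow_orderOf_eq_one]
    rfl
  have hpg : p ∣ orderOf g := (dvd_mul_right p q).trans hdvd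
  have hqg : q ∣ orderOf g := (dvd_mul_left q p).trans hdvd
  exact h _ _ (orderOf_pow_div_prime g hpg) (orderOf_pow_div_prime g hqg)
    ((Commute.refl g).pow_pow _ _).eq

/-- From the centralizer form of the hypothesis. -/
theorem noPQ_of_centralizer [Finite G] {p q : ℕ}
    (hC : ∀ g : G, g ≠ 1 → (∃ k : ℕ, orderOf g = p ^ k) →
      ¬ q ∣ Nat.card ↥(Subgroup.centralizer ({g} : Set G))) (hp : p.Prime) : NoPQ p q G := by
  intro x y hx hy hxy
  have hx1 : x ≠ 1 := by
    intro h1
    rw [h1, orderOf_one] at hx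
    exact hp.one_lt.ne hx
  apply hC x hx1 ⟨1, by rw [hx, pow_one]⟩
  have hmem : y ∈ Subgroup.centralizer ({x} : Set G) := by
    rw [Subgroup.mem_centralizer_singleton_iff]
    exact hxy.symm
  rw [← hy]
  exact Subgroup.orderOf_dvd_natCard _ hmem

end Cfsg.Agent.Lib.Helper6.NonAdj
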