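/-
helper6: fixed points of coprime automorphisms of prime order on invariant conjugacy classes of a
normal subgroup; characters fixed / moved by such automorphisms (via Brauer's permutation lemma);
defect-zero characters from characters of a normal subgroup with inertia group of order prime to `r`.
-/
import Mathlib
import Cfsg.Agent.Lib.Helper6.NonAdjA

set_option autoImplicit false

namespace Cfsg.Agent.Lib.Helper6.NonAdj

open Cfsg Cfsg.Agent.CharLib Cfsg.Agent.Lib.Helper6 Cfsg.Agent.Lib.Helper24

universe u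

variable {G : Type u} [Group G]

section fixedclass
variable (N : Subgroup G) [hN : N.Normal]

theorem conjNormal_pow_apply (y : G) (k : ℕ) (n : N) :
    (((MulAut.conjNormal y : MulAut N) ^ k) n : G) = y ^ k * (n : G) * (y ^ k)⁻¹ := by
  rw [← map_pow]
  rfl

/-- An automorphism of prime order `r` induced by `y`, on a normal subgroup of order prime to `r`,
has a fixed point on every invariant conjugacy class. -/
theorem exists_commute_in_fixed_class [Finite G] (r : ℕ) [hr : Fact r.Prime]
    (hrN : ¬ r ∣ Nat.card N) (y : G) (hy : y ^ r = 1) (n₀ : N)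
    (hfix : ConjClasses.map (MulAut.conjNormal y : MulAut N).toMonoidHom (ConjClasses.mk n₀) =
      ConjClasses.mk n₀) :
    ∃ n : N, IsConj n₀ n ∧ y * (n : G) = (n : G) * y := by
  classical
  set α : N ≃* N := (MulAut.conjNormal y : MulAut N) with hα
  have h0 : IsConj (α n₀) n₀ := by
    have h1 : ConjClasses.mk (α n₀) = ConjClasses.mk n₀ := hfix
    exact ConjClasses.mk_eq_mk_iff_isConj.mp h1
  have hiff : ∀ n : N, IsConj n₀ n ↔ IsConj n₀ (α n) := by
    intro n
    constructor
    · intro h
      exact h0.symm.trans (α.toMonoidHom.map_isConj h)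
    · intro h
      have h1 : IsConj (α n₀) (α n) := h0.trans h
      have h2 := α.symm.toMonoidHom.map_isConj h1
      simpa using h2
  let σ : Equiv.Perm {n : N // IsConj n₀ n} := Equiv.subtypeEquiv α.toEquiv hiff
  have hσk : ∀ (k : ℕ) (c : {n : N // IsConj n₀ n}), ((σ ^ k) c : N) = (α ^ k) c.1 := by
    intro k
    induction k with
    | zero => intro c; rfl
    | succ k ih =>
      intro c
      rw [pow_succ', pow_succ', Equiv.Perm.mul_apply, MulAut.mul_apply, ← ih c]
      rfl
  have hσr : σ ^ r ^ 1 = 1 := by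
    rw [pow_one]
    apply Equiv.ext
    intro c
    apply Subtype.ext
    rw [hσk r c]
    apply Subtype.ext
    rw [hα, conjNormal_pow_apply, hy]
    simp
  let _ : Fintype {n : N // IsConj n₀ n} := Fintype.ofFinite _
  have hcard : ¬ r ∣ Fintype.card {n : N // IsConj n₀ n} := by
    intro hd
    apply hrN
    have h1 := card_conj_mul_card_centralizer n₀
    have h2 : Nat.card {x : N // IsConj x n₀} = Nat.card {n : N // IsConj n₀ n} := by
      apply Nat.card_congr
      exact Equiv.subtypeEquivRight (fun x => ⟨fun h => h.symm, fun h => h.symm⟩)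
    rw [h2, Nat.card_eq_fintype_card] at h1
    rw [← h1]
    exact Dvd.dvd.mul_right hd _
  obtain ⟨c, hc⟩ := Equiv.Perm.exists_fixed_point_of_prime hcard hσr
  refine ⟨c.1, c.2, ?_⟩
  have h1 : (α c.1 : G) = (c.1 : G) := by
    have := congrArg (fun z : {n : N // IsConj n₀ n} => ((z : N) : G)) hc
    exact this
  have h2 : (α c.1 : G) = y * (c.1 : G) * y⁻¹ := rfl
  rw [h2] at h1
  calc y * (c.1 : G) = y * (c.1 : G) * y⁻¹ * y := by group
    _ = (c.1 : G) * y := by rw [h1]

/-- An element `y` of prime order `r` fixing a non-principal irreducible character of a normal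
subgroup of order prime to `r` centralizes a non-identity element of it. -/
theorem exists_commute_of_fixed_irr [Finite G] (r : ℕ) [hr : Fact r.Prime]
    (hrN : ¬ r ∣ Nat.card N) (y : G) (hy : y ^ r = 1) {θ : N → ℂ} (hθ : IsIrrCharacter N θ)
    (hθ1 : θ ≠ 1) (hfix : conjFun N y θ = θ) :
    ∃ n : N, n ≠ 1 ∧ y * (n : G) = (n : G) * y := by
  classical
  set α : N ≃* N := (MulAut.conjNormal y : MulAut N) with hα
  have hbrauer := card_fixed_classes_eq_card_fixed_irr α
  have hθfix : θ ∘ α = θ := hfix
  have h2 : 1 < Nat.card {χ : IrrCharacter N // (χ : N → ℂ) ∘ α = (χ : N → ℂ)} := by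
    apply Finite.one_lt_card_iff_nontrivial.mpr
    refine ⟨⟨⟨⟨θ, hθ⟩, hθfix⟩, ⟨⟨1, isIrrCharacter_one⟩, by funext n; rfl⟩, ?_⟩⟩
    intro h
    apply hθ1
    have := congrArg (fun z : {χ : IrrCharacter N // (χ : N → ℂ) ∘ α = (χ : N → ℂ)} =>
      ((z : IrrCharacter N) : N → ℂ)) h
    exact this
  rw [← hbrauer] at h2
  have hnt := Finite.one_lt_card_iff_nontrivial.mp h2
  obtain ⟨C, hC⟩ := exists_ne (⟨ConjClasses.mk 1, by
    show ConjClasses.mk (α 1) = ConjClasses.mk 1
    rw [map_one]⟩ : {C : ConjClasses N // ConjClasses.map α.toMonoidHom C = C})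
  obtain ⟨C, hCfix⟩ := C
  obtain ⟨n₀, rfl⟩ := ConjClasses.mk_surjective C
  obtain ⟨n, hn, hcomm⟩ := exists_commute_in_fixed_class N r hrN y hy n₀ hCfix
  refine ⟨n, ?_, hcomm⟩
  intro hn1
  apply hC
  apply Subtype.ext
  show ConjClasses.mk n₀ = ConjClasses.mk 1
  rw [ConjClasses.mk_eq_mk_iff_isConj]
  rw [hn1] at hn
  exact hn

/-- If some conjugacy class of the normal subgroup `N` (of order prime to `r`) contains no element
commuting with `y` (of order `r`), then some irreducible character of `N` is moved by `y`. -/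
theorem exists_irr_moved [Finite G] (r : ℕ) [hr : Fact r.Prime]
    (hrN : ¬ r ∣ Nat.card N) (y : G) (hy : y ^ r = 1) (z : N)
    (hz : ∀ n : N, IsConj z n → y * (n : G) ≠ (n : G) * y) :
    ∃ θ : IrrCharacter N, conjFun N y (θ : N → ℂ) ≠ (θ : N → ℂ) := by
  classical
  by_contra hcon
  push Not at hcon
  set α : N ≃* N := (MulAut.conjNormal y : MulAut N) with hα
  have hbrauer := card_fixed_classes_eq_card_fixed_irr α
  have h1 : Nat.card {χ : IrrCharacter N // (χ : N → ℂ) ∘ α = (χ : N → ℂ)} =
      Nat.card (IrrCharacter N) := by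
    apply Nat.card_congr
    exact Equiv.subtypeUnivEquiv (fun χ => hcon χ)
  rw [h1, card_irrCharacter] at hbrauer
  have hbij := Function.Injective.bijective_of_nat_card_le
    (f := fun C : {C : ConjClasses N // ConjClasses.map α.toMonoidHom C = C} => (C : ConjClasses N))
    Subtype.val_injective hbrauer.ge
  obtain ⟨⟨C, hC⟩, hCz⟩ := hbij.2 (ConjClasses.mk z)
  have hCz' : C = ConjClasses.mk z := hCz
  subst hCz'
  obtain ⟨n, hn, hcomm⟩ := exists_commute_in_fixed_class N r hrN y hy z hC
  exact hz n hn hcomm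

end fixedclass

end Cfsg.Agent.Lib.Helper6.NonAdj
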