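/-
helper6: characters of full `r`-part degree ("`r`-defect zero") from an irreducible character of a
normal subgroup that is fixed by no element of order `r`; application: a nontrivial normal
`p`-subgroup in a group without commuting elements of orders `p`, `q`.
-/
import Mathlib
import Cfsg.Agent.Lib.Helper6.NonAdjB

set_option autoImplicit false

namespace Cfsg.Agent.Lib.Helper6.NonAdj

open Cfsg Cfsg.Agent.CharLib Cfsg.Agent.Lib.Helper6 Cfsg.Agent.Lib.Helper24

universe u

variable {G : Type u} [Group G]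

/-- `G` has an irreducible character whose degree has the full `r`-part of the group order. -/
def HasDefectZero (r : ℕ) (G : Type u) [Group G] : Prop :=
  ∃ χ : IrrCharacter G, (charDegree (χ : G → ℂ)).factorization r = (Nat.card G).factorization r

/-- If no element of order `r` fixes the irreducible character `θ` of the normal subgroup `N`,
then every irreducible character over `θ` has full `r`-part. -/
theorem hasDefectZero_of_not_fixed [Finite G] (N : Subgroup G) [hN : N.Normal] (r : ℕ)
    [hr : Fact r.Prime] (θ : IrrCharacter N)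
    (hmoved : ∀ y : G, orderOf y = r → conjFun N y (θ : N → ℂ) ≠ (θ : N → ℂ)) :
    HasDefectZero r G := by
  classical
  let _ : Fintype G := Fintype.ofFinite G
  let _ : Fintype N := Fintype.ofFinite N
  have hθcls : IsClassFunction N (θ : N → ℂ) :=
    IsCharacter.isClassFunction (IsIrrCharacter.isCharacter θ.2)
  have hT : ¬ r ∣ Nat.card (inertia N hθcls) := by
    intro hd
    obtain ⟨y, hy⟩ := exists_prime_orderOf_dvd_card' r hd
    have hy' : orderOf (y : G) = r := by rw [Subgroup.orderOf_coe, hy]
    exact hmoved (y : G) hy' ((mem_inertia N hθcls (y : G)).mp y.2)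
  have horb := card_conjOrbit_mul N (θ : N → ℂ)
  have h2 : Nat.card {g : G // conjFun N g (θ : N → ℂ) = (θ : N → ℂ)} =
      Nat.card (inertia N hθcls) := rfl
  rw [h2] at horb
  obtain ⟨χ, hχ, c, hc0, hc⟩ := exists_irr_over N θ.2
  have h1 := irr_apply_one (⟨χ, hχ⟩ : IrrCharacter G)
  have h3 : (χ : G → ℂ) 1 = (charDegree χ : ℂ) := h1
  rw [h3, irr_apply_one θ] at hc
  have h4 : charDegree χ = c * (conjOrbit N (θ : N → ℂ)).card * charDegree (θ : N → ℂ) := by
    exact_mod_cast hc
  refine ⟨⟨χ, hχ⟩, ?_⟩
  show (charDegree χ).factorization r = (Nat.card G).factorization r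
  have hdvd : charDegree χ ∣ Nat.card G := irr_charDegree_dvd_card (⟨χ, hχ⟩ : IrrCharacter G)
  have hGpos : Nat.card G ≠ 0 := Nat.card_pos.ne'
  have hχpos : charDegree χ ≠ 0 := (irr_charDegree_pos (⟨χ, hχ⟩ : IrrCharacter G)).ne'
  have hle : (charDegree χ).factorization r ≤ (Nat.card G).factorization r :=
    (Nat.factorization_le_iff_dvd hχpos hGpos).mpr hdvd r
  have horbpos : (conjOrbit N (θ : N → ℂ)).card ≠ 0 := by
    intro h0
    rw [h0, zero_mul] at horb
    exact hGpos horb.symm
  have hTpos : Nat.card (inertia N hθcls) ≠ 0 := Nat.card_pos.ne'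
  have hfacT : (Nat.card (inertia N hθcls)).factorization r = 0 :=
    Nat.factorization_eq_zero_of_not_dvd hT
  have hfacG : (Nat.card G).factorization r = ((conjOrbit N (θ : N → ℂ)).card).factorization r := by
    rw [← horb, Nat.factorization_mul horbpos hTpos, Finsupp.add_apply, hfacT, add_zero]
  have hdvd2 : (conjOrbit N (θ : N → ℂ)).card ∣ charDegree χ := by
    rw [h4]
    exact Dvd.dvd.mul_right (Dvd.intro_left c rfl) _
  have hge : ((conjOrbit N (θ : N → ℂ)).card).factorization r ≤ (charDegree χ).factorization r :=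
    (Nat.factorization_le_iff_dvd horbpos hχpos).mpr hdvd2 r
  omega

/-- A nontrivial group has a non-principal irreducible character. -/
theorem exists_irr_ne_one [Finite G] [Nontrivial G] :
    ∃ θ : IrrCharacter G, (θ : G → ℂ) ≠ 1 := by
  classical
  have h1 : 1 < Nat.card (ConjClasses G) := by
    apply Finite.one_lt_card_iff_nontrivial.mpr
    obtain ⟨x, hx⟩ := exists_ne (1 : G)
    refine ⟨⟨ConjClasses.mk x, ConjClasses.mk 1, ?_⟩⟩
    intro h
    rw [ConjClasses.mk_eq_mk_iff_isConj] at h
    exact hx (isConj_one_left.mp h)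
  rw [← card_irrCharacter] at h1
  have hnt := Finite.one_lt_card_iff_nontrivial.mp h1
  obtain ⟨θ, hθ⟩ := exists_ne (⟨1, isIrrCharacter_one⟩ : IrrCharacter G)
  refine ⟨θ, ?_⟩
  intro h
  exact hθ (Subtype.ext h)

/-- **Lemma A.** If `G` has a nontrivial normal `p`-subgroup and no commuting elements of orders
`p` and `q`, then `G` has an irreducible character of `q`-defect zero. -/
theorem hasDefectZero_of_normal_pgroup [Finite G] (p q : ℕ) [hp : Fact p.Prime] [hq : Fact q.Prime]
    (hpq : p ≠ q) (hno : NoPQ p q G) (N : Subgroup G) [hN : N.Normal] (hNp : IsPGroup p N)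
    (hN1 : N ≠ ⊥) : HasDefectZero q G := by
  classical
  haveI : Nontrivial N := (Subgroup.nontrivial_iff_ne_bot N).mpr hN1
  obtain ⟨θ, hθ1⟩ := exists_irr_ne_one (G := N)
  apply hasDefectZero_of_not_fixed N q θ
  intro y hy hfix
  have hqN : ¬ q ∣ Nat.card N := by
    obtain ⟨k, hk⟩ := IsPGroup.iff_card.mp hNp
    rw [hk]
    intro hd
    have := (Nat.prime_dvd_prime_iff_eq hq.out hp.out).mp (hq.out.dvd_of_dvd_pow hd)
    exact hpq this.symm
  have hyq : y ^ q = 1 := by rw [← hy]; exact pow_orderOf_eq_one y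
  obtain ⟨n, hn1, hcomm⟩ := exists_commute_of_fixed_irr N q hqN y hyq θ.2 hθ1 hfix
  have hn1' : (n : G) ≠ 1 := fun h => hn1 (Subtype.ext h)
  have hy1 : y ≠ 1 := by
    intro h
    rw [h, orderOf_one] at hy
    exact hq.out.one_lt.ne hy
  have hnord : ∃ k : ℕ, orderOf (n : G) = p ^ k := by
    obtain ⟨k, hk⟩ := hNp n
    have h1 : (n : G) ^ p ^ k = 1 := by
      have := congrArg (fun z : N => (z : G)) hk
      simpa using this
    obtain ⟨j, _, hj⟩ := (Nat.dvd_prime_pow hp.out).mp (orderOf_dvd_of_pow_eq_one h1)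
    exact ⟨j, hj⟩
  exact hno.general hp.out hq.out hn1' hy1 hnord ⟨1, by rw [hy, pow_one]⟩ hcomm.symm

end Cfsg.Agent.Lib.Helper6.NonAdj
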