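/-
helper6: S4581 leaf (T3A) `normalizer_eq_of_odd_normal` (planner helper5,
notes/S4581_leaves.lean): all odd-degree characters real, `M ⊴ G` of odd order and
`SelfNorm (G ⧸ M)` imply `N_G(P) = P`.
-/
import Mathlib
import Cfsg.Prelude.Def_Blocks
import Cfsg.Agent.Lib.Helper6.Clifford
import Cfsg.Agent.Lib.Helper5.RODefs
import Cfsg.Agent.Lib.Helper6.ROOD
import Cfsg.Agent.Lib.Helper9.ROF7
import Cfsg.Agent.Lib.Helper11.RONQ
import Cfsg.Agent.Lib.Helper2.RealNN5
import Cfsg.Agent.Lib.Lead.FrobSchur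
import Cfsg.Agent.Lib.Lead.OddIndexReal
import Cfsg.Agent.Lib.Helper6.NonAdjC

set_option autoImplicit false

namespace Cfsg.Agent.Lib.Helper6.RO

open Cfsg Cfsg.Agent.Lib.Helper6 Cfsg.Agent.CharLib Cfsg.Agent.Lib.Helper5.RO
open Cfsg.Agent.Lib.Helper12.RealN Cfsg.Agent.Lib.Helper2.Glaub
open scoped ComplexConjugate

universe u

/-- (T3A) of notes/S4581_leaves.lean. -/
theorem normalizer_eq_of_odd_normal {G : Type u} [Group G] [Finite G] (P : Sylow 2 G)
    (M : Subgroup G) [M.Normal] (hM : Odd (Nat.card M)) (hall : AllOddReal G)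
    (ih : SelfNorm (G ⧸ M)) :
    Subgroup.normalizer ((P : Subgroup G) : Set G) = (P : Subgroup G) := by
  classical
  let _ : Fintype G := Fintype.ofFinite G
  let _ : Fintype M := Fintype.ofFinite M
  -- Step 1: every element of `N_G(P)` is `p * m` with `p ∈ P`, `m ∈ M`
  have hdecomp : ∀ n ∈ Subgroup.normalizer ((P : Subgroup G) : Set G),
      ∃ p ∈ (P : Subgroup G), ∃ m ∈ M, n = p * m := by
    intro n hn
    have h1 := Cfsg.Agent.Lib.Helper11.RO.normalizer_mapSurjective M P
    rw [ih (P.mapSurjective (QuotientGroup.mk'_surjective M)), Sylow.coe_mapSurjective] at h1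
    have h2 : QuotientGroup.mk' M n ∈
        (Subgroup.normalizer ((P : Subgroup G) : Set G)).map (QuotientGroup.mk' M) :=
      Subgroup.mem_map_of_mem _ hn
    rw [← h1] at h2
    obtain ⟨p, hp, hpn⟩ := Subgroup.mem_map.mp h2
    refine ⟨p, hp, p⁻¹ * n, ?_, by group⟩
    have h3 : (p : G ⧸ M) = (n : G ⧸ M) := hpn
    exact QuotientGroup.eq.mp h3
  -- `P ⊓ M = ⊥`
  have hPM : (P : Subgroup G) ⊓ M = ⊥ := by
    apply disjoint_iff.mp
    apply Subgroup.disjoint_of_coprime_natCard
    obtain ⟨k, hk⟩ := (IsPGroup.iff_card).mp P.isPGroup'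
    rw [hk]
    exact Nat.Coprime.pow_left k (Nat.coprime_two_left.mpr hM)
  -- Step 3: `C_M(P) = 1`
  have hC : CP M P = ⊥ := by
    by_contra hne
    have hnt : Nontrivial ↥(CP M P) := (Subgroup.nontrivial_iff_ne_bot _).mpr hne
    obtain ⟨β, hβ⟩ := Cfsg.Agent.Lib.Helper6.NonAdj.exists_irr_ne_one (G := ↥(CP M P))
    have hCodd : Odd (Nat.card ↥(CP M P)) :=
      Odd.of_dvd_nat hM (Subgroup.card_dvd_of_le (inf_le_left : CP M P ≤ M))
    have hβnr : ¬ ∀ c, ((β : ↥(CP M P) → ℂ) c).im = 0 := by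
      intro hre
      apply hβ
      have := eq_one_of_real_of_odd hCodd β hre
      rw [this]
      rfl
    have hpM : ¬ 2 ∣ Nat.card ↥M := fun h => (Nat.not_even_iff_odd.mpr hM) (even_iff_two_dvd.mpr h)
    obtain ⟨F, hFinv, _, hFreal, _⟩ := Cfsg.Agent.Lib.Helper2.RealN.exists_glauberman_map 2 M P hpM
    set θ : IrrCharacter ↥M := F β with hθdef
    have hθnr : ¬ ∀ k, ((θ : ↥M → ℂ) k).im = 0 := fun h => hβnr ((hFreal β).mpr h)
    have hθinv : ∀ g ∈ (P : Subgroup G), conjFun M g (θ : ↥M → ℂ) = (θ : ↥M → ℂ) := by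
      intro t ht
      funext h
      rw [conjFun_apply]
      exact hFinv β t ht h _ rfl
    obtain ⟨χ, hχo, hχθ⟩ := exists_odd_over_invariant P M hM (θ : ↥M → ℂ) θ.2 hθinv
    have hχre := hall χ hχo
    -- the conjugate character
    set θc : IrrCharacter ↥M := cjPerm ↥M θ with hθcdef
    have hθcinv : ∀ g ∈ (P : Subgroup G), conjFun M g (θc : ↥M → ℂ) = (θc : ↥M → ℂ) := by
      intro t ht
      funext h
      rw [conjFun_apply, cjPerm_apply, cjPerm_apply]
      congr 1
      have := congrFun (hθinv t ht) h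
      rw [conjFun_apply] at this
      exact this
    have hχθc : classInner (resFun M (χ : G → ℂ)) (θc : ↥M → ℂ) ≠ 0 := by
      obtain ⟨a, ha⟩ := IsCharacter.classInner_nat
        (isCharacter_resFun M (IsIrrCharacter.isCharacter χ.2)) (IsIrrCharacter.isCharacter θ.2)
      have h1 : classInner (resFun M (χ : G → ℂ)) (θc : ↥M → ℂ) =
          conj (classInner (resFun M (χ : G → ℂ)) (θ : ↥M → ℂ)) := by
        simp only [classInner, map_mul, map_sum, map_inv₀, Complex.conj_natCast,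
          Complex.conj_conj]
        congr 1
        apply Finset.sum_congr rfl
        intro m _
        rw [cjPerm_apply, resFun_apply, Complex.conj_eq_iff_im.mpr (hχre (m : G))]
        rw [Complex.conj_conj]
      rw [h1, ha, Complex.conj_natCast]
      rw [ha] at hχθ
      exact hχθ
    obtain ⟨g, hg⟩ := exists_conjFun_eq_of_constituent M χ.2 θ.2 θc.2 hχθ hχθc
    obtain ⟨n, hn, hnθ⟩ := Cfsg.Agent.Lib.Helper9.RO.exists_normalizer_conj P M
      (θ : ↥M → ℂ) (θc : ↥M → ℂ) hθinv hθcinv g hg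
    obtain ⟨p, hp, m, hm, rfl⟩ := hdecomp n hn
    have hθcf : IsClassFunction ↥M (θ : ↥M → ℂ) :=
      IsCharacter.isClassFunction (IsIrrCharacter.isCharacter θ.2)
    rw [conjFun_mul, hθinv p hp, conjFun_of_mem M hθcf hm] at hnθ
    apply hθnr
    intro k
    have := congrFun hnθ k
    rw [cjPerm_apply] at this
    exact Complex.conj_eq_iff_im.mp this.symm
  -- Step 4
  apply le_antisymm
  · intro n hn
    obtain ⟨p, hp, m, hm, rfl⟩ := hdecomp n hn
    have hmN : m ∈ Subgroup.normalizer ((P : Subgroup G) : Set G) := by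
      have h1 : p⁻¹ ∈ Subgroup.normalizer ((P : Subgroup G) : Set G) :=
        Subgroup.le_normalizer (Subgroup.inv_mem _ hp)
      have h2 := Subgroup.mul_mem _ h1 hn
      rwa [inv_mul_cancel_left] at h2
    have hmC : m ∈ CP M P := by
      refine Subgroup.mem_inf.mpr ⟨hm, ?_⟩
      rw [Subgroup.mem_centralizer_iff]
      intro x hx
      have hx' : x ∈ (P : Subgroup G) := hx
      have h1 : m * x * m⁻¹ ∈ (P : Subgroup G) :=
        ((Subgroup.mem_normalizer_iff).mp hmN x).mp hx'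
      have h2 : m * x * m⁻¹ * x⁻¹ ∈ (P : Subgroup G) ⊓ M := by
        refine Subgroup.mem_inf.mpr ⟨Subgroup.mul_mem _ h1 (Subgroup.inv_mem _ hx'), ?_⟩
        have h3 : x * m⁻¹ * x⁻¹ ∈ M :=
          Subgroup.Normal.conj_mem inferInstance _ (Subgroup.inv_mem _ hm) x
        have h4 := Subgroup.mul_mem _ hm h3
        have h5 : m * (x * m⁻¹ * x⁻¹) = m * x * m⁻¹ * x⁻¹ := by group
        rwa [h5] at h4
      rw [hPM, Subgroup.mem_bot] at h2
      have h6 : m * x = x * m := by
        have : m * x * m⁻¹ * x⁻¹ * (x * m) = 1 * (x * m) := by rw [h2]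
        rw [one_mul] at this
        rw [← this]
        group
      exact h6.symm
    rw [hC, Subgroup.mem_bot] at hmC
    rw [hmC, mul_one]
    exact hp
  · exact Subgroup.le_normalizer

end Cfsg.Agent.Lib.Helper6.RO
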