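import Mathlib
import Cfsg.Agent.Lib.Helper5.TWS.Defs
import Cfsg.Agent.Lib.Helper6.TWSTens
import Cfsg.Agent.Lib.Helper22.TWExtBasic
import Cfsg.Agent.Lib.Helper26.TWFibB
import Cfsg.Agent.Lib.Helper1.TWST2

/-!
S5668 (C7 symplectic; owner helper5), symplectic toolkit: ST5⁗ `perpT_fib` (perp of a fibre), exact signature of
notes/S5668_I_leaves.lean (helper6; port of `Helper23.TWULeaf.perpU_fib`).
-/

set_option autoImplicit false
set_option linter.unusedSectionVars false
set_option linter.unusedVariables false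

namespace Cfsg.Agent.Lib.Helper6.TWSLeaf
open Matrix Cfsg.Geo Cfsg.Agent.Lib.Helper18.AschA89 Cfsg.Agent.Lib.Helper8.TW Cfsg.Agent.Lib.Helper5.TWS
open Cfsg.Agent.Lib.Helper25.SpT (sf Jm sfv)

variable {F : Type*} [Field F] [Fintype F] {t k : ℕ}

/-- the form as a sum over the other positions of the slice forms -/
theorem sfT_eq_sum_slices (i : Fin (t + 1)) (v w : Idx (t + 1) k → F) :
    sfT v w = ∑ u : Idx t k, ∑ u' : Idx t k, JT t k F u u' *
      sf (fun a => v (ins i a u)) (fun a => w (ins i a u')) := by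
  rw [sfT_eq_sum, sum_ins i, Finset.sum_comm]
  apply Finset.sum_congr rfl
  intro u _
  have h1 : ∀ α : Fin k, ∑ z, v (ins i α u) * JT (t + 1) k F (ins i α u) z * w z =
      ∑ u' : Idx t k, ∑ β : Fin k, JT t k F u u' * (v (ins i α u) * (Jm k : Matrix (Fin k) (Fin k) F) α β * w (ins i β u')) := by
    intro α
    rw [sum_ins i, Finset.sum_comm]
    apply Finset.sum_congr rfl
    intro u' _
    apply Finset.sum_congr rfl
    intro β _
    rw [JT_ins]
    ring
  simp only [h1]
  rw [Finset.sum_comm]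
  apply Finset.sum_congr rfl
  intro u' _
  rw [Cfsg.Agent.Lib.Helper25.SpT.sf_eq_sum, Finset.mul_sum]
  apply Finset.sum_congr rfl
  intro α _
  rw [Finset.mul_sum]

/-- ST5⁗ (M) perp of a fibre: `(A_î ⊗ S)^⊥ = A_î ⊗ S^⊥` -/
theorem perpT_fib (hk : Even k) (i : Fin t) (S : Submodule F (Fin k → F)) : perpT (fib i S) = fib i (perpA S) := by
  classical
  obtain ⟨t', rfl⟩ : ∃ t', t = t' + 1 := ⟨t - 1, by have := Fin.pos i; omega⟩
  have hle : fib i (perpA S) ≤ perpT (fib i S) := by
    intro v hv' w hw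
    rw [sfT_eq_sum_slices i]
    apply Finset.sum_eq_zero
    intro u _
    apply Finset.sum_eq_zero
    intro u' _
    by_cases hk0 : Nonempty (Fin k)
    · obtain ⟨a₀⟩ := hk0
      have h1 := hv' (ins i a₀ u)
      have h2 := hw (ins i a₀ u')
      have e1 : slice i (ins i a₀ u) v = fun a => v (ins i a u) := by
        funext a
        simp only [slice, Cfsg.Agent.Lib.Helper22.TWLeaf.update_ins]
      have e2 : slice i (ins i a₀ u') w = fun a => w (ins i a u') := by
        funext a
        simp only [slice, Cfsg.Agent.Lib.Helper22.TWLeaf.update_ins]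
      rw [e1] at h1
      rw [e2] at h2
      rw [h1 _ h2, mul_zero]
    · rw [not_nonempty_iff] at hk0
      rw [Cfsg.Agent.Lib.Helper25.SpT.sf_eq_sum, Finset.sum_of_isEmpty, mul_zero]
  symm
  apply Submodule.eq_of_le_of_finrank_eq hle
  have h1 := Cfsg.Agent.Lib.Helper1.TWST2.finrank_perpT hk (fib i S)
  have h2 := Cfsg.Agent.Lib.Helper1.TWST2.finrank_perpA hk S
  rw [Cfsg.Agent.Lib.Helper26.TWLeaf.finrank_fib] at h1 ⊢
  rw [Nat.add_sub_cancel] at h1 ⊢
  have h3 : k ^ (t' + 1) = k ^ t' * Module.finrank F ↥(perpA S) + k ^ t' * Module.finrank F ↥S := by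
    rw [← mul_add, h2, pow_succ]
  omega

end Cfsg.Agent.Lib.Helper6.TWSLeaf
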