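import Mathlib
import Cfsg.Agent.Lib.Helper5.TWS.Defs
import Cfsg.Agent.Lib.Helper5.TWS.StageIDefs
import Cfsg.Agent.Lib.Helper16.TWImg
import Cfsg.Agent.Lib.Helper16.TWRootA
import Cfsg.Agent.Lib.Helper16.TWRootB
import Cfsg.Agent.Lib.Helper16.TWRootC
import Cfsg.Agent.Lib.Helper26.TWFibA
import Cfsg.Agent.Lib.Helper26.TWFibB
import Cfsg.Agent.Lib.Helper22.TWExtBasic
import Cfsg.Agent.Lib.Helper22.TWExtMore
import Cfsg.Agent.Lib.Helper22.TWQStab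
import Cfsg.Agent.Lib.Helper22.TWQPure
import Cfsg.Agent.Lib.Helper22.TWQK
import Cfsg.Agent.Lib.Helper23.TWUQMain
import Cfsg.Agent.Lib.Helper9.TWST
import Cfsg.Agent.Lib.Helper1.TWST2

/-!
S5668 (C7 symplectic; owner helper5) Stage I, leaf I6-st `step6` (helper6): the CORE `step6_core`, with the three not yet
landed ingredients (`twistS` at `K = ⊥`, `ν = -1`; `sfT_tens`; `perpT_fib`) as hypotheses.  Port of `Helper8.TWULeaf.step6`.
-/

set_option autoImplicit false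
set_option linter.unusedSectionVars false
set_option linter.unusedVariables false

namespace Cfsg.Agent.Lib.Helper6.TWSLeaf
open Matrix Cfsg.Geo Cfsg.Agent.Lib.Helper18.AschA89 Cfsg.Agent.Lib.Helper8.TW Cfsg.Agent.Lib.Helper5.TWS
open Cfsg.Agent.Lib.Helper25.SpT (sf Jm sfv)
open Cfsg.Agent.Lib.Helper23.TWUQ (NSp FCp)
open Cfsg.Agent.Lib.Helper22.TWLeaf

variable {F : Type*} [Field F] [Fintype F] {t k : ℕ}

lemma mv_one6 {ι : Type} [Fintype ι] [DecidableEq ι] (v : ι → F) : mv (1 : GL ι F) v = v := by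
  unfold mv
  rw [Units.val_one, Matrix.one_mulVec]

/-- `2 ≠ 0` in a finite field of odd order -/
lemma two_ne_zero_of_odd (hodd : Odd (Fintype.card F)) : (2 : F) ≠ 0 := by
  apply Ring.two_ne_zero
  intro h2
  have := FiniteField.even_card_of_char_two h2
  rcases hodd with ⟨m, hm⟩
  omega

/-- conjugating an isometry by a similitude gives an isometry -/
theorem conj_mem_GSV {g u : GL (Idx t k) F} (hg : g ∈ DSV t k F) (hu : u ∈ GSV t k F) :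
    g * u * g⁻¹ ∈ GSV t k F := by
  obtain ⟨c, hc⟩ := mem_DSV.1 hg
  rw [mem_GSV] at hu ⊢
  intro a b
  have hc0 : (c : F) ≠ 0 := c.ne_zero
  have h1 : ∀ a b : Idx t k → F, sfT (mv g⁻¹ a) (mv g⁻¹ b) = (c : F)⁻¹ * sfT a b := by
    intro a b
    have := hc (mv g⁻¹ a) (mv g⁻¹ b)
    rw [← Cfsg.Agent.Lib.Helper16.TWLeaf.mv_mul, ← Cfsg.Agent.Lib.Helper16.TWLeaf.mv_mul, mul_inv_cancel, mv_one6,
      mv_one6] at this
    rw [this, ← mul_assoc, inv_mul_cancel₀ hc0, one_mul]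
  rw [Cfsg.Agent.Lib.Helper16.TWLeaf.mv_mul, Cfsg.Agent.Lib.Helper16.TWLeaf.mv_mul,
    Cfsg.Agent.Lib.Helper16.TWLeaf.mv_mul (g * u), Cfsg.Agent.Lib.Helper16.TWLeaf.mv_mul g u, hc, hu, h1,
    ← mul_assoc, mul_inv_cancel₀ hc0, one_mul]

/-- the group generated by the root group of `r₁` and the `g`-conjugate of that of `r₂` consists of isometries -/
theorem ssup_le_GSV (hk : Even k) {g : GL (Idx t k) F} (hg : g ∈ DSV t k F) {r₁ r₂ : RD t k F}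
    (hr₁ : RS r₁) (hr₂ : RS r₂) : r₁.grp ⊔ conjG g r₂.grp ≤ GSV t k F := by
  apply sup_le
  · rintro a ⟨d, rfl⟩
    exact Cfsg.Agent.Lib.Helper9.TWST.elt_mem_GSV hk hr₁ d
  · intro a ha
    rw [mem_conjG] at ha
    obtain ⟨u, ⟨d, rfl⟩, rfl⟩ := ha
    exact conj_mem_GSV hg (Cfsg.Agent.Lib.Helper9.TWST.elt_mem_GSV hk hr₂ d)

/-- ... and lies in `X` as soon as `H ≤ X` and `g ∈ X` -/
theorem ssup_le_X (hk : Even k) {X : Subgroup (GL (Idx t k) F)} (hHX : HS t k F ≤ X)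
    {g : GL (Idx t k) F} (hg : g ∈ X) {r₁ r₂ : RD t k F}
    (hr₁ : RS r₁) (hr₂ : RS r₂) : r₁.grp ⊔ conjG g r₂.grp ≤ X := by
  apply sup_le
  · rintro a ⟨d, rfl⟩
    exact hHX (Cfsg.Agent.Lib.Helper9.TWST.elt_mem_HS hk hr₁ d)
  · intro a ha
    rw [mem_conjG] at ha
    obtain ⟨u, ⟨d, rfl⟩, rfl⟩ := ha
    exact X.mul_mem (X.mul_mem hg (hHX (Cfsg.Agent.Lib.Helper9.TWST.elt_mem_HS hk hr₂ d))) (X.inv_mem hg)

/-- for an admissible root datum the dual fibre is the perp of the fibre -/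
theorem C_eq_perpT6 (hk : Even k) (r : RD t k F) (hr : RS r) : r.C = perpT r.W := by
  have h1 : r.C = Cf r.i (sfv r.y) := by
    have : r.η = sfv r.y := hr
    rw [← this]; rfl
  have h2 : r.W = Wf r.i r.y := rfl
  rw [h1, h2, Cfsg.Agent.Lib.Helper9.TWST.perpT_Wf hk r.i r.y r.hy]

/-- the fixed space of `slot i A` is the fibre of the fixed space of `A` -/
theorem fix_slot6 (i : Fin t) (A : Matrix (Fin k) (Fin k) F) (v : Idx t k → F) :
    slot k t i A *ᵥ v = v ↔ v ∈ fib i (LinearMap.ker (Matrix.toLin' (A - 1))) := by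
  rw [mem_fib]
  constructor
  · intro h x
    rw [LinearMap.mem_ker, Matrix.toLin'_apply, Matrix.sub_mulVec, Matrix.one_mulVec,
      ← Cfsg.Agent.Lib.Helper26.TWLeaf.slot_mulVec_slice26, h, sub_self]
  · intro h
    apply Cfsg.Agent.Lib.Helper26.TWLeaf.ext_slice26 i
    intro x
    have := h x
    rw [LinearMap.mem_ker, Matrix.toLin'_apply, Matrix.sub_mulVec, Matrix.one_mulVec, sub_eq_zero] at this
    rw [Cfsg.Agent.Lib.Helper26.TWLeaf.slot_mulVec_slice26, this]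

/-- I6-st: STEP 6, structure (core; `t = t' + 1`) -/
theorem step6_core {t' : ℕ} {X : Subgroup (GL (Idx (t' + 1) k) F)} (c : CtxS X) (g : GL (Idx (t' + 1) k) F)
    (r₂ : RD (t' + 1) k F) (w : FRWS X g r₂) (r₁ : RD (t' + 1) k F) (hr₁ : RS r₁) (x : GL (Idx (t' + 1) k) F)
    (htw : ∃ b₀ ∈ r₁.grp ⊔ conjG g r₂.grp, (∀ v ∈ r₁.C ⊓ img g r₂.C, mv b₀ v = v) ∧
      (∀ v ∈ r₁.W, mv b₀ v - (-1 : F)⁻¹ • v ∈ (⊥ : Submodule F (Idx (t' + 1) k → F))))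
    (htens : ∀ (i : Fin (t' + 1)) (b b' : Idx t' k → F) (a a' : Fin k → F),
      sfT (tens i b a) (tens i b' a') = sfT b b' * sf a a')
    (hpfib : ∀ (i : Fin (t' + 1)) (S : Submodule F (Fin k → F)), perpT (fib i S) = fib i (perpA S)) :
    ∃ A₀ : Submodule F (Fin k → F), Module.finrank F A₀ = k - 2 ∧ (∀ a ∈ A₀, sf a r₁.y = 0) ∧ r₁.y ∉ A₀ ∧
      img g r₂.W ≤ fib r₁.i (perpA A₀) := by
  classical
  have hk := c.hk
  have hk2 : 2 ≤ k := c.hk2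
  have h2F : (2 : F) ≠ 0 := two_ne_zero_of_odd c.hodd
  have hgD : g ∈ DSV (t' + 1) k F := c.hXD w.hgX
  have hW₁ : r₁.W = Wf r₁.i r₁.y := rfl
  have hη₁ : r₁.η = sfv r₁.y := hr₁
  have hC₁ : r₁.C = Cf r₁.i (sfv r₁.y) := by rw [← hη₁]; rfl
  have hWC₁ : r₁.W ≤ r₁.C := Cfsg.Agent.Lib.Helper16.TWLeaf.RD_W_le_C r₁
  have hWC' : img g r₂.W ≤ img g r₂.C :=
    (Cfsg.Agent.Lib.Helper16.TWLeaf.img_le_img_iff g _ _).2 (Cfsg.Agent.Lib.Helper16.TWLeaf.RD_W_le_C r₂)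
  have hν0 : (-1 : F) ≠ 0 := neg_ne_zero.2 one_ne_zero
  have hν1 : (-1 : F) ≠ 1 := by
    intro h
    apply h2F
    have : (2 : F) = 1 - (-1) := by ring
    rw [this, h, sub_self]
  have hνi : (-1 : F)⁻¹ = -1 := by rw [inv_neg, inv_one]
  -- `b₀`
  obtain ⟨b₀, hb₀mem, hb₀fix, hb₀W⟩ := htw
  have hb₀W' : ∀ v ∈ r₁.W, mv b₀ v = (-1 : F) • v := by
    intro v hv
    have := hb₀W v hv
    rw [Submodule.mem_bot, hνi] at this
    exact sub_eq_zero.1 this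
  have hb₀X : b₀ ∈ X := ssup_le_X hk c.hHX w.hgX hr₁ w.hr₂ hb₀mem
  have hb₀U : b₀ ∈ GSV (t' + 1) k F := ssup_le_GSV hk hgD hr₁ w.hr₂ hb₀mem
  -- `b₀` stabilises `W₁`
  have himg : img b₀ r₁.W = r₁.W := by
    apply Submodule.eq_of_le_of_finrank_le
    · rintro v ⟨u, hu, rfl⟩
      rw [Matrix.toLin'_apply]
      have := hb₀W' u hu
      unfold mv at this
      rw [this]
      exact Submodule.smul_mem _ _ hu
    · rw [Cfsg.Agent.Lib.Helper16.TWLeaf.finrank_img]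
  rw [hW₁] at himg
  have hb₀G : b₀ ∈ Gstd (t' + 1) k F :=
    c.ns b₀ hb₀X ⟨r₁.i, r₁.i, r₁.y, r₁.y, r₁.hy, r₁.hy, trivial, trivial, himg⟩
  obtain ⟨γ, α, -, hval, cc, hcc⟩ :=
    Cfsg.Agent.Lib.Helper22.TWQLeaf.stab_form hk2 b₀ hb₀G r₁.i r₁.y r₁.y r₁.hy r₁.hy himg
  obtain ⟨ψ, hψ⟩ := Cfsg.Agent.Lib.Helper26.TWLeaf.exists_dot_one26 r₁.y r₁.hy
  rw [dotProduct_comm] at hψ
  -- `cc • γ b = -b`
  have hγ : ∀ b : Idx t' k → F, cc • ((γ : Matrix (Idx t' k) (Idx t' k) F) *ᵥ b) = (-1 : F) • b := by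
    intro b
    have hmem : tens r₁.i b r₁.y ∈ r₁.W := (mem_Wf_iff_tens r₁.i r₁.y r₁.hy _).mpr ⟨b, rfl⟩
    have e1 := hb₀W' _ hmem
    unfold mv at e1
    rw [hval, ← Matrix.mulVec_mulVec, slot_mulVec_tens, ext_mulVec_tens, hcc] at e1
    have e2 := congrArg (ctr r₁.i ψ) e1
    rw [ctr_tens, Cfsg.Agent.Lib.Helper22.TWLeaf.ctr_smul, ctr_tens, dotProduct_smul, hψ, smul_eq_mul, mul_one,
      one_smul] at e2
    exact e2
  have hu₀ : Nonempty (Idx t' k) := ⟨fun _ => ⟨0, by omega⟩⟩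
  obtain ⟨u₀⟩ := hu₀
  have hcc0 : cc ≠ 0 := by
    rintro rfl
    have := congrFun (hγ (fun _ => 1)) u₀
    simp at this
  have hγ' : (γ : Matrix (Idx t' k) (Idx t' k) F) = (cc⁻¹ * (-1)) • 1 := by
    apply Cfsg.Agent.Lib.Helper22.TWQLeaf.eq_smul_one_of_mulVec
    intro b
    rw [mul_smul, ← hγ b, smul_smul, inv_mul_cancel₀ hcc0, one_smul]
  -- `b₀ = slot i A`
  obtain ⟨A, hA⟩ : ∃ A : Matrix (Fin k) (Fin k) F, A = (cc⁻¹ * (-1)) • (α : Matrix (Fin k) (Fin k) F) := ⟨_, rfl⟩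
  have hval' : (b₀ : Matrix (Idx (t' + 1) k) (Idx (t' + 1) k) F) = slot k (t' + 1) r₁.i A := by
    rw [hval, hγ', Cfsg.Agent.Lib.Helper22.TWQLeaf.ext_smul_one, Matrix.smul_mul, Matrix.one_mul, hA, slot_smul]
  have hAy : A *ᵥ r₁.y = (-1 : F) • r₁.y := by
    rw [hA, Matrix.smul_mulVec, hcc, smul_smul, mul_comm cc⁻¹, mul_assoc, inv_mul_cancel₀ hcc0, mul_one]
  -- `A` is an isometry of `A`
  obtain ⟨b₁, b₂, hb12⟩ : ∃ b₁ b₂ : Idx t' k → F, sfT b₁ b₂ ≠ 0 := by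
    by_contra hcon
    push Not at hcon
    have h0 : (Pi.single u₀ (1 : F) : Idx t' k → F) = 0 :=
      Cfsg.Agent.Lib.Helper9.TWST.sfT_nondeg_left hk (hcon _)
    have := congrFun h0 u₀
    simp at this
  have hAiso : ∀ a a' : Fin k → F, sf (A *ᵥ a) (A *ᵥ a') = sf a a' := by
    intro a a'
    have h1 := (mem_GSV.1 hb₀U) (tens r₁.i b₁ a) (tens r₁.i b₂ a')
    unfold mv at h1
    rw [hval', slot_mulVec_tens, slot_mulVec_tens, htens, htens] at h1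
    exact mul_left_cancel₀ hb12 h1
  -- the fixed space `A₀`
  obtain ⟨A₀, hA₀⟩ : ∃ A₀ : Submodule F (Fin k → F), A₀ = LinearMap.ker (Matrix.toLin' (A - 1)) := ⟨_, rfl⟩
  have hmemA₀ : ∀ a : Fin k → F, a ∈ A₀ ↔ A *ᵥ a = a := by
    intro a
    rw [hA₀, LinearMap.mem_ker, Matrix.toLin'_apply, Matrix.sub_mulVec, Matrix.one_mulVec, sub_eq_zero]
  -- `A₀ ≤ y^⊥`
  have hperp : ∀ a ∈ A₀, sf a r₁.y = 0 := by
    intro a ha
    have h1 := hAiso a r₁.y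
    rw [(hmemA₀ a).1 ha, hAy, Cfsg.Agent.Lib.Helper25.SpT.sf_smul_right] at h1
    have h2 : (2 : F) * sf a r₁.y = 0 := by linear_combination -h1
    rcases mul_eq_zero.1 h2 with h | h
    · exact absurd h h2F
    · exact h
  -- `y ∉ A₀`
  have hynot : r₁.y ∉ A₀ := by
    intro h
    have h1 := (hmemA₀ _).1 h
    rw [hAy] at h1
    have h2 : (2 : F) • r₁.y = 0 := by
      rw [two_smul]
      nth_rewrite 1 [← h1]
      rw [neg_one_smul, neg_add_cancel]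
    rcases smul_eq_zero.1 h2 with h | h
    · exact h2F h
    · exact r₁.hy h
  -- `finrank A₀ ≤ k - 2`
  have hη : sfv r₁.y ≠ 0 := sfv_ne_zero hk r₁.hy
  have hle1 : A₀ ≤ kerF (sfv r₁.y) := by
    intro a ha
    change sfv r₁.y ⬝ᵥ a = 0
    rw [Cfsg.Agent.Lib.Helper25.SpT.sfv_dot]
    exact hperp a ha
  have hlt1 : A₀ < kerF (sfv r₁.y) := by
    refine lt_of_le_of_ne hle1 ?_
    intro h
    apply hynot
    rw [h]
    change sfv r₁.y ⬝ᵥ r₁.y = 0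
    rw [Cfsg.Agent.Lib.Helper25.SpT.sfv_dot]
    exact Cfsg.Agent.Lib.Helper25.SpT.sf_self r₁.y
  have hfr1 := Submodule.finrank_lt_finrank_of_lt hlt1
  rw [Cfsg.Agent.Lib.Helper26.TWLeaf.finrank_kerF _ hη] at hfr1
  -- `C₁ ⊓ C' ≤ fib i A₀`
  have hfixle : r₁.C ⊓ img g r₂.C ≤ fib r₁.i A₀ := by
    intro v hv
    have h1 := hb₀fix v hv
    unfold mv at h1
    rw [hval', fix_slot6] at h1
    rw [hA₀]
    exact h1
  -- the dimension count
  have hcard : Module.finrank F (Idx (t' + 1) k → F) = k ^ t' * k := by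
    rw [Module.finrank_fintype_fun_eq_card, Fintype.card_fun, Fintype.card_fin, Fintype.card_fin, pow_succ]
  have hd1 := Submodule.finrank_sup_add_finrank_inf_eq r₁.C (img g r₂.C)
  have hd2 : Module.finrank F (r₁.C ⊔ img g r₂.C : Submodule F (Idx (t' + 1) k → F)) ≤ k ^ t' * k := by
    rw [← hcard]
    exact Submodule.finrank_le _
  rw [Cfsg.Agent.Lib.Helper16.TWLeaf.finrank_img, Cfsg.Agent.Lib.Helper16.TWLeaf.RD_finrank_C,
    Cfsg.Agent.Lib.Helper16.TWLeaf.RD_finrank_C, Nat.add_sub_cancel] at hd1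
  have hd3 := Submodule.finrank_mono hfixle
  rw [Cfsg.Agent.Lib.Helper26.TWLeaf.finrank_fib, Nat.add_sub_cancel] at hd3
  have hκ : 0 < k ^ t' := Nat.pow_pos (by omega)
  obtain ⟨m, rfl⟩ : ∃ m, k = m + 2 := ⟨k - 2, by omega⟩
  have e1 : (m + 2) ^ t' * (m + 2 - 1) = (m + 2) ^ t' * m + (m + 2) ^ t' := by
    rw [show m + 2 - 1 = m + 1 by omega, Nat.mul_succ]
  have e2 : (m + 2) ^ t' * (m + 2) = (m + 2) ^ t' * m + (m + 2) ^ t' + (m + 2) ^ t' := by ring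
  have hfrA₀ : Module.finrank F A₀ = m := by
    have h5 : (m + 2) ^ t' * m ≤ (m + 2) ^ t' * Module.finrank F A₀ := by
      rw [e1] at hd1
      rw [e2] at hd2
      omega
    have h6 := Nat.le_of_mul_le_mul_left h5 hκ
    omega
  have hfixeq : r₁.C ⊓ img g r₂.C = fib r₁.i A₀ := by
    apply Submodule.eq_of_le_of_finrank_le hfixle
    rw [Cfsg.Agent.Lib.Helper26.TWLeaf.finrank_fib, Nat.add_sub_cancel, hfrA₀]
    rw [e1] at hd1
    rw [e2] at hd2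
    omega
  refine ⟨A₀, by rw [hfrA₀]; omega, hperp, hynot, ?_⟩
  -- `W' = perpT C' ≤ perpT (C₁ ⊓ C') = fib i (perpA A₀)`
  have hC' : img g r₂.C = perpT (img g r₂.W) := by
    rw [C_eq_perpT6 hk r₂ w.hr₂, Cfsg.Agent.Lib.Helper9.TWST.img_perpT hgD]
  have hW' : img g r₂.W = perpT (img g r₂.C) := by
    rw [hC', Cfsg.Agent.Lib.Helper1.TWST2.perpT_perpT hk]
  rw [← hpfib, ← hfixeq]
  conv_lhs => rw [hW']
  exact Cfsg.Agent.Lib.Helper9.TWST.perpT_anti inf_le_right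

end Cfsg.Agent.Lib.Helper6.TWSLeaf
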