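import Mathlib
import Cfsg.Agent.Lib.Helper5.TWS.Defs
import Cfsg.Agent.Lib.Helper5.TWS.StageIDefs
import Cfsg.Agent.Lib.Helper5.TWS.ITwist
import Cfsg.Agent.Lib.Helper6.TWSI6a
import Cfsg.Agent.Lib.Helper6.TWSTens
import Cfsg.Agent.Lib.Helper6.TWSFib

/-!
S5668 (C7 symplectic; owner helper5) Stage I, leaf I6-st `step6` (helper6), exact signature of notes/S5668_I_leaves.lean:
`step6_core` (TWSI6a) fed with helper5's `twistS` at `K = ⊥`, `ν = -1`, and with `sfT_tens`, `perpT_fib` (TWSTens, TWSFib).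
-/

set_option autoImplicit false
set_option linter.unusedSectionVars false
set_option linter.unusedVariables false

namespace Cfsg.Agent.Lib.Helper6.TWSLeaf
open Matrix Cfsg.Geo Cfsg.Agent.Lib.Helper18.AschA89 Cfsg.Agent.Lib.Helper8.TW Cfsg.Agent.Lib.Helper5.TWS
open Cfsg.Agent.Lib.Helper25.SpT (sf Jm sfv)
open Cfsg.Agent.Lib.Helper23.TWUQ (NSp FCp)

variable {F : Type*} [Field F] [Fintype F] {t k : ℕ}

/-- I6-st (L) STEP 6, structure, with `ν = -1` -/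
theorem step6 {X : Subgroup (GL (Idx t k) F)} (c : CtxS X) (g : GL (Idx t k) F) (r₂ : RD t k F)
    (w : FRWS X g r₂) (r₁ : RD t k F) (hr₁ : RS r₁) (x : GL (Idx t k) F) (K' : KeyS g r₁ r₂ x r₁) :
    ∃ A₀ : Submodule F (Fin k → F), Module.finrank F A₀ = k - 2 ∧ (∀ a ∈ A₀, sf a r₁.y = 0) ∧ r₁.y ∉ A₀ ∧
      img g r₂.W ≤ fib r₁.i (perpA A₀) := by
  obtain ⟨t', rfl⟩ : ∃ t', t = t' + 1 := ⟨t - 1, by have := c.ht; omega⟩
  have hWC' : img g r₂.W ≤ img g r₂.C :=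
    (Cfsg.Agent.Lib.Helper16.TWLeaf.img_le_img_iff g _ _).2 (Cfsg.Agent.Lib.Helper16.TWLeaf.RD_W_le_C r₂)
  have hfr2 : r₁.W ⊓ img g r₂.C = ⊥ := w.fr2 r₁.i r₁.y r₁.hy
  obtain ⟨b₀, hb₀mem, hb₀fix, hb₀W, -⟩ := Cfsg.Agent.Lib.Helper5.TWSLeaf.twistS c g r₁ r₂ hr₁ w.hr₂ x K' ⊥ bot_le
    (by
      rw [← hfr2]
      exact inf_le_inf le_rfl (sup_le hWC' inf_le_right))
    bot_le (-1 : F) (neg_ne_zero.2 one_ne_zero)
  exact step6_core c g r₂ w r₁ hr₁ x ⟨b₀, hb₀mem, hb₀fix, hb₀W⟩ (fun i b b' a a' => sfT_tens i b b' a a')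
    (fun i S => perpT_fib c.hk i S)

end Cfsg.Agent.Lib.Helper6.TWSLeaf
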