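/-
helper6: the centralizer of a double transposition in `A_6` is dihedral of order 8.
-/
import Mathlib
import Cfsg.Agent.Lib.Helper4.D8Rec

set_option autoImplicit false

namespace Cfsg.Agent.Lib.Helper6.A6Cent

open Equiv

/-- the standard double transposition -/
abbrev s0 : Perm (Fin 6) := swap 0 1 * swap 2 3
/-- an element of order four commuting with it -/
abbrev pa : Perm (Fin 6) := swap 0 2 * swap 2 1 * swap 1 3 * swap 4 5
/-- a non-central involution commuting with it -/
abbrev pb : Perm (Fin 6) := swap 0 1 * swap 4 5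

/-- the list of elements of the centralizer -/
def cl : List (Perm (Fin 6)) := [1, pa, pa * pa, pa * pa * pa, pb, pb * pa, pb * (pa * pa), pb * (pa * pa * pa)]

set_option maxRecDepth 1000000 in
set_option maxHeartbeats 4000000 in
theorem cent_list : ∀ σ : Perm (Fin 6), σ * s0 = s0 * σ → Perm.sign σ = 1 → σ ∈ cl := by
  decide

set_option maxRecDepth 1000000 in
theorem cl_nodup : cl.Nodup := by decide

set_option maxRecDepth 1000000 in
theorem cl_spec : ∀ σ ∈ cl, σ * s0 = s0 * σ ∧ Perm.sign σ = 1 := by decide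

set_option maxRecDepth 1000000 in
theorem s0_facts : s0 * s0 = 1 ∧ s0 ≠ 1 ∧ pb * pb = 1 ∧ pb ≠ 1 ∧ s0 ≠ pb ∧ pa * pb ≠ pb * pa ∧ s0 ∈ cl ∧ pb ∈ cl ∧
    pa ∈ cl := by decide

/-- the standard double transposition in `A_6` -/
def s0' : alternatingGroup (Fin 6) := ⟨s0, Perm.mem_alternatingGroup.2 (cl_spec s0 s0_facts.2.2.2.2.2.2.1).2⟩

theorem mem_cent_iff (x : alternatingGroup (Fin 6)) :
    x ∈ Subgroup.centralizer ({s0'} : Set (alternatingGroup (Fin 6))) ↔ (x : Perm (Fin 6)) ∈ cl := by
  rw [Subgroup.mem_centralizer_singleton_iff]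
  constructor
  · intro h
    have h1 : (x : Perm (Fin 6)) * s0 = s0 * (x : Perm (Fin 6)) := congrArg Subtype.val h
    exact cent_list _ h1 (Perm.mem_alternatingGroup.1 x.2)
  · intro h
    exact Subtype.ext (cl_spec _ h).1

/-- the centralizer as a finset of permutations -/
noncomputable def centEquiv :
    Subgroup.centralizer ({s0'} : Set (alternatingGroup (Fin 6))) ≃ {σ : Perm (Fin 6) // σ ∈ cl} where
  toFun x := ⟨(x : alternatingGroup (Fin 6)), (mem_cent_iff _).1 x.2⟩
  invFun σ := ⟨⟨σ.1, Perm.mem_alternatingGroup.2 (cl_spec σ.1 σ.2).2⟩, (mem_cent_iff _).2 σ.2⟩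
  left_inv x := by
    apply Subtype.ext
    apply Subtype.ext
    rfl
  right_inv σ := by
    apply Subtype.ext
    rfl

theorem card_cent : Nat.card (Subgroup.centralizer ({s0'} : Set (alternatingGroup (Fin 6)))) = 8 := by
  classical
  rw [Nat.card_congr centEquiv, Nat.card_eq_fintype_card, Fintype.card_of_subtype cl.toFinset]
  · rw [List.toFinset_card_of_nodup cl_nodup]
    rfl
  · intro σ
    exact List.mem_toFinset

/-- elements of the centralizer from elements of the list -/
def mk (σ : Perm (Fin 6)) (h : σ ∈ cl) : Subgroup.centralizer ({s0'} : Set (alternatingGroup (Fin 6))) :=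
  ⟨⟨σ, Perm.mem_alternatingGroup.2 (cl_spec σ h).2⟩, (mem_cent_iff _).2 h⟩

theorem orderOf_two_of {X : Type*} [Group X] {x : X} (h2 : x * x = 1) (h1 : x ≠ 1) : orderOf x = 2 := by
  have : Fact (Nat.Prime 2) := ⟨Nat.prime_two⟩
  exact orderOf_eq_prime (by rw [pow_two]; exact h2) h1

theorem cent_dihedral :
    Nonempty (Subgroup.centralizer ({s0'} : Set (alternatingGroup (Fin 6))) ≃* DihedralGroup 4) := by
  obtain ⟨h1, h2, h3, h4, h5, h6, m1, m2, m3⟩ := s0_facts
  have : Finite (Subgroup.centralizer ({s0'} : Set (alternatingGroup (Fin 6)))) := inferInstance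
  apply Cfsg.Agent.Lib.Helper4.nonempty_mulEquiv_dihedral_four card_cent _ (mk s0 m1) (mk pb m2)
  · apply orderOf_two_of
    · apply Subtype.ext
      apply Subtype.ext
      exact h1
    · intro h
      apply h2
      exact congrArg (fun x : Subgroup.centralizer ({s0'} : Set (alternatingGroup (Fin 6))) =>
        ((x : alternatingGroup (Fin 6)) : Perm (Fin 6))) h
  · apply orderOf_two_of
    · apply Subtype.ext
      apply Subtype.ext
      exact h3
    · intro h
      apply h4
      exact congrArg (fun x : Subgroup.centralizer ({s0'} : Set (alternatingGroup (Fin 6))) =>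
        ((x : alternatingGroup (Fin 6)) : Perm (Fin 6))) h
  · intro h
    apply h5
    exact congrArg (fun x : Subgroup.centralizer ({s0'} : Set (alternatingGroup (Fin 6))) =>
      ((x : alternatingGroup (Fin 6)) : Perm (Fin 6))) h
  · intro hcomm
    apply h6
    have := hcomm.is_comm.comm (mk pa m3) (mk pb m2)
    exact congrArg (fun x : Subgroup.centralizer ({s0'} : Set (alternatingGroup (Fin 6))) =>
      ((x : alternatingGroup (Fin 6)) : Perm (Fin 6))) this

/-- transport of centralizers along an isomorphism -/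
def centralizerCongr {H K : Type*} [Group H] [Group K] (φ : H ≃* K) (x : H) :
    Subgroup.centralizer ({x} : Set H) ≃* Subgroup.centralizer ({φ x} : Set K) where
  toFun y := ⟨φ y, by
    rw [Subgroup.mem_centralizer_singleton_iff, ← map_mul, ← map_mul,
      Subgroup.mem_centralizer_singleton_iff.1 y.2]⟩
  invFun z := ⟨φ.symm z, by
    rw [Subgroup.mem_centralizer_singleton_iff]
    apply φ.injective
    rw [map_mul, map_mul, MulEquiv.apply_symm_apply]
    exact Subgroup.mem_centralizer_singleton_iff.1 z.2⟩
  left_inv y := by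
    apply Subtype.ext
    simp
  right_inv z := by
    apply Subtype.ext
    simp
  map_mul' y z := by
    apply Subtype.ext
    simp

/-- The centralizer in `A_6` of any involution with support of size 4 is dihedral of order 8. -/
theorem cent_dihedral_of (αt : alternatingGroup (Fin 6)) (hαt : orderOf αt = 2)
    (hsupp : (αt : Perm (Fin 6)).support.card = 4) :
    Nonempty (Subgroup.centralizer ({αt} : Set (alternatingGroup (Fin 6))) ≃* DihedralGroup 4) := by
  have ho : orderOf (αt : Perm (Fin 6)) = 2 := by rw [Subgroup.orderOf_coe, hαt]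
  obtain ⟨n, hn⟩ := Perm.cycleType_prime_order (σ := (αt : Perm (Fin 6))) (by rw [ho]; exact Nat.prime_two)
  have hsum := Perm.sum_cycleType (αt : Perm (Fin 6))
  rw [hn, hsupp, ho, Multiset.sum_replicate, smul_eq_mul] at hsum
  have hn1 : n = 1 := by omega
  rw [hn1, ho] at hn
  have hs0 : s0.cycleType = {2, 2} := Perm.cycleType_swap_mul_swap_of_nodup (by decide)
  have hconj : IsConj s0 (αt : Perm (Fin 6)) := by
    rw [Perm.isConj_iff_cycleType_eq, hs0, hn]
    rfl
  obtain ⟨g, hg⟩ := isConj_iff.1 hconj
  have hφ : MulAut.conjNormal g s0' = αt := by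
    apply Subtype.ext
    rw [MulAut.conjNormal_apply]
    exact hg
  obtain ⟨e⟩ := cent_dihedral
  have e2 := centralizerCongr (MulAut.conjNormal g : alternatingGroup (Fin 6) ≃* alternatingGroup (Fin 6)) s0'
  rw [hφ] at e2
  exact ⟨e2.symm.trans e⟩

end Cfsg.Agent.Lib.Helper6.A6Cent
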