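import Mathlib
import Cfsg.Agent.Lib.Helper20.AschDefs
import Cfsg.Agent.Lib.Helper24.AschA7Defs

/-!
S5630 (Aschbacher, helper20), block (A7) (sub-planner helper24): the arithmetic leaves NT1 - NT5
(exact signatures of `notes/S5630_A7_leaves.lean`).
-/

set_option autoImplicit false
set_option linter.unusedSectionVars false
set_option linter.unusedVariables false

namespace Cfsg.Agent.Lib.Helper6.AschA7Leaf
open Matrix Cfsg.Geo Cfsg.Agent.Lib.Helper20.Asch Cfsg.Agent.Lib.Helper24.AschA7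
open scoped Kronecker commutatorElement

variable {F : Type*} [Field F] [Fintype F] {n : ℕ} {H N : Subgroup (GL (Fin n) F)}

/-- in a finite field with `p ^ e` elements not every element satisfies `x ^ (p ^ d) = x` when `0 < d < e` -/
lemma exists_pow_ne {p e d : ℕ} (hp : p.Prime) (hcard : Fintype.card F = p ^ e) (hd0 : 0 < d) (hde : d < e) :
    ∃ x : F, x ^ (p ^ d) ≠ x := by
  by_contra hall
  push Not at hall
  obtain ⟨g, hg⟩ := IsCyclic.exists_generator (α := Fˣ)
  have hord : orderOf g = p ^ e - 1 := by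
    rw [orderOf_eq_card_of_forall_mem_zpowers hg, Nat.card_units, Nat.card_eq_fintype_card, hcard]
  have h1 : p ^ d = (p ^ d - 1) + 1 := by
    have : 1 ≤ p ^ d := Nat.one_le_pow _ _ hp.pos
    omega
  have hg1 : g ^ (p ^ d - 1) = 1 := by
    have h2 := hall (g : F)
    rw [h1, pow_succ] at h2
    have h3 : ((g : F) ^ (p ^ d - 1)) = 1 := by
      have hgne : (g : F) ≠ 0 := g.ne_zero
      have : ((g : F) ^ (p ^ d - 1) - 1) * (g : F) = 0 := by linear_combination h2
      rcases mul_eq_zero.1 this with h | h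
      · exact sub_eq_zero.1 h
      · exact absurd h hgne
    apply Units.ext
    rw [Units.val_pow_eq_pow_val, h3, Units.val_one]
  have hdvd := orderOf_dvd_of_pow_eq_one hg1
  rw [hord] at hdvd
  have hlt : p ^ d < p ^ e := Nat.pow_lt_pow_right hp.one_lt hde
  have hpd : 2 ≤ p ^ d := by
    calc 2 ≤ p := hp.two_le
      _ = p ^ 1 := (pow_one p).symm
      _ ≤ p ^ d := Nat.pow_le_pow_right hp.pos hd0
  have hle := Nat.le_of_dvd (by omega) hdvd
  omega

/-- NT1. -/
theorem exists_proper_subfield {p e d z : ℕ} (hp : p.Prime) (hchar : CharP F p) (hcard : Fintype.card F = p ^ e)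
    (hd0 : 0 < d) (hde : d < e) (hz : z ∣ p ^ d - 1) :
    ∃ F₀ : Subfield F, F₀ ≠ ⊤ ∧ ∀ c : F, c ^ z = 1 → c ∈ F₀ := by
  have : Fact p.Prime := ⟨hp⟩
  have : ExpChar F p := ExpChar.prime hp
  refine ⟨RingHom.eqLocusField (iterateFrobenius F p d) (RingHom.id F), ?_, ?_⟩
  · intro htop
    obtain ⟨x, hx⟩ := exists_pow_ne (F := F) hp hcard hd0 hde
    have : x ∈ RingHom.eqLocusField (iterateFrobenius F p d) (RingHom.id F) := by
      rw [htop]; exact Subfield.mem_top x
    apply hx
    have h2 : iterateFrobenius F p d x = RingHom.id F x := this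
    rwa [iterateFrobenius_def, RingHom.id_apply] at h2
  · intro c hc
    show iterateFrobenius F p d c = RingHom.id F c
    rw [iterateFrobenius_def, RingHom.id_apply]
    obtain ⟨k, hk⟩ := hz
    have h1 : p ^ d = (p ^ d - 1) + 1 := by
      have : 1 ≤ p ^ d := Nat.one_le_pow _ _ hp.pos
      omega
    rw [h1, pow_succ, hk, pow_mul, hc, one_pow, one_mul]

/-- NT2. -/
theorem exists_half_frobenius {p k : ℕ} (hp : p.Prime) (hchar : CharP F p) (hk : 0 < k)
    (hcard : Fintype.card F = p ^ (2 * k)) :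
    ∃ σ : F ≃+* F, σ ≠ RingEquiv.refl F ∧ (∀ a : F, σ (σ a) = a) ∧ ∀ a : F, σ a = a ^ (p ^ k) := by
  have : Fact p.Prime := ⟨hp⟩
  have : ExpChar F p := ExpChar.prime hp
  have hinj : Function.Injective (iterateFrobenius F p k) := RingHom.injective _
  have hbij : Function.Bijective (iterateFrobenius F p k) :=
    ⟨hinj, Finite.surjective_of_injective hinj⟩
  refine ⟨RingEquiv.ofBijective (iterateFrobenius F p k) hbij, ?_, ?_, ?_⟩
  · intro hrefl
    obtain ⟨x, hx⟩ := exists_pow_ne (F := F) (d := k) hp hcard hk (by omega)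
    apply hx
    have := congrArg (fun σ : F ≃+* F => σ x) hrefl
    simp only [RingEquiv.ofBijective_apply, RingEquiv.refl_apply, iterateFrobenius_def] at this
    exact this
  · intro a
    simp only [RingEquiv.ofBijective_apply, iterateFrobenius_def]
    rw [← pow_mul, ← pow_add, ← two_mul, ← hcard, FiniteField.pow_card]
  · intro a
    simp only [RingEquiv.ofBijective_apply, iterateFrobenius_def]

/-- NT3. -/
theorem dvd_pow_add_one {p k z : ℕ} (hp : p.Prime) (hz : z.Prime ∨ z = 4) (h1 : z ∣ p ^ (2 * k) - 1)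
    (h2 : ¬ z ∣ p ^ k - 1) : z ∣ p ^ k + 1 := by
  have ha : 1 ≤ p ^ k := Nat.one_le_pow _ _ hp.pos
  have hfac : p ^ (2 * k) - 1 = (p ^ k - 1) * (p ^ k + 1) := by
    rw [mul_comm 2 k, pow_mul]
    generalize p ^ k = a at ha
    obtain ⟨b, rfl⟩ : ∃ b, a = b + 1 := ⟨a - 1, by omega⟩
    simp only [Nat.add_sub_cancel]
    have : (b + 1) ^ 2 = b * (b + 1 + 1) + 1 := by ring
    rw [this, Nat.add_sub_cancel]
  rw [hfac] at h1
  rcases hz with hz | hz
  · rcases (Nat.Prime.dvd_mul hz).1 h1 with h | h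
    · exact absurd h h2
    · exact h
  · subst hz
    generalize p ^ k = a at *
    have h4 : ((a - 1) * (a + 1)) % 4 = 0 := Nat.mod_eq_zero_of_dvd h1
    have h5 : ¬ (a - 1) % 4 = 0 := fun h => h2 (Nat.dvd_of_mod_eq_zero h)
    apply Nat.dvd_of_mod_eq_zero
    rw [Nat.mul_mod] at h4
    have hm : a % 4 < 4 := Nat.mod_lt _ (by norm_num)
    have e1 : (a - 1) % 4 = (a % 4 + 3) % 4 := by omega
    have e2 : (a + 1) % 4 = (a % 4 + 1) % 4 := by omega
    rw [e1, e2] at h4
    rw [e1] at h5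
    rw [e2]
    interval_cases (a % 4) <;> simp_all

/-- NT4. -/
theorem e_eq_one_of_four {p e : ℕ} (h : IsMinimalFieldFor 4 p e F) (hodd : Odd e) : e = 1 := by
  obtain ⟨hp, _, _, h4, hmin⟩ := h
  by_contra he
  obtain ⟨j, hj⟩ := hodd
  have h2e : 2 < e := by omega
  -- `p` is odd
  have hpodd : p % 2 = 1 := by
    rcases hp.eq_two_or_odd with h2 | h2
    · exfalso
      subst h2
      have h1 : (2 ^ e - 1) % 4 = 0 := Nat.mod_eq_zero_of_dvd h4
      have : 2 ^ e = 4 * 2 ^ (e - 2) := by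
        have : e = 2 + (e - 2) := by omega
        rw [this, pow_add]
        norm_num
      have hpos : 1 ≤ 2 ^ (e - 2) := Nat.one_le_pow _ _ (by norm_num)
      omega
    · exact h2
  apply hmin 2 (by norm_num) h2e
  have hp4 : p % 4 = 1 ∨ p % 4 = 3 := by omega
  apply Nat.dvd_of_mod_eq_zero
  have hsq : p ^ 2 % 4 = 1 := by
    rw [pow_two, Nat.mul_mod]
    rcases hp4 with h | h <;> rw [h]
  have : 1 ≤ p ^ 2 := Nat.one_le_pow _ _ hp.pos
  omega

/-- NT5. -/
theorem four_le_of_sq {n m : ℕ} (h : n * n = 2 ^ (2 * m)) (hn : 3 ≤ n) : 4 ≤ n := by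
  by_contra hlt
  have h3 : n = 3 := by omega
  subst h3
  rcases Nat.eq_zero_or_pos m with hm | hm
  · subst hm
    norm_num at h
  · have : 2 ^ (2 * m) = 2 * 2 ^ (2 * m - 1) := by
      have : 2 * m = 1 + (2 * m - 1) := by omega
      rw [this, pow_add]
      norm_num
    omega

end Cfsg.Agent.Lib.Helper6.AschA7Leaf
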