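/-
helper6: orbit counting in the Weyl group: for a group `H` identified with the Weyl group of a
(B,N)-pair, the number of orbits of `H` on `H/Y_J × H/Y_K` is the number of `(J,K)`-reduced elements.
-/
import Mathlib
import Cfsg.Agent.Lib.Helper6.BNRedB

set_option autoImplicit false

namespace Cfsg.Agent.Lib.Helper6.BNSt

open Cfsg Cfsg.Agent.Lib.Helper3.BN Cfsg.Agent.Lib.Helper3.WordLen Cfsg.Agent.Lib.Helper6.CoxRed

variable {G : Type*} [Group G] (P : Cfsg.BNPair G)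

section weyl

variable {H : Type*} [Group H] (ψ : H ≃* W P) (J K : Set G) (YJ YK : Subgroup H)

/-- the invariant of a pair of cosets of `H` -/
noncomputable def weylInv (z : (H ⧸ YJ) × (H ⧸ YK)) : Red P J K :=
  ⟨redOf P J K (ψ (z.1.out⁻¹ * z.2.out)), redOf_isRed P J K _⟩

variable (hJ : ∀ h, ψ h ∈ WJ P J ↔ h ∈ YJ) (hK : ∀ h, ψ h ∈ WJ P K ↔ h ∈ YK)
include hJ hK

theorem weylInv_mk (x y : H) :
    (weylInv P ψ J K YJ YK ((x : H ⧸ YJ), (y : H ⧸ YK)) : W P) = redOf P J K (ψ (x⁻¹ * y)) := by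
  unfold weylInv
  simp only
  apply redOf_eq_of_inDC
  have h1 : (x⁻¹ * (x : H ⧸ YJ).out) ∈ YJ := QuotientGroup.eq.mp (QuotientGroup.out_eq' _).symm
  have h2 : (y⁻¹ * (y : H ⧸ YK).out) ∈ YK := QuotientGroup.eq.mp (QuotientGroup.out_eq' _).symm
  refine ⟨ψ (x⁻¹ * (x : H ⧸ YJ).out), (hJ _).mpr h1,
    ψ (((y : H ⧸ YK).out)⁻¹ * y), (hK _).mpr ?_, ?_⟩
  · have := Subgroup.inv_mem _ h2
    rwa [mul_inv_rev, inv_inv] at this
  · rw [← map_mul, ← map_mul]
    congr 1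
    group

theorem sum_card_fixedBy_weyl [Fintype H] [Fintype (Red P J K)] :
    ∑ h : H, Nat.card (MulAction.fixedBy (H ⧸ YJ) h) * Nat.card (MulAction.fixedBy (H ⧸ YK) h) =
      Fintype.card (Red P J K) * Fintype.card H := by
  rw [← sum_card_fixedBy_eq_of_invariant (G := H) (X := (H ⧸ YJ) × (H ⧸ YK))
    (weylInv P ψ J K YJ YK)]
  · apply Finset.sum_congr rfl
    intro g _
    rw [card_fixedBy_prod]
  · -- invariance
    rintro g ⟨q₁, q₂⟩
    obtain ⟨x, rfl⟩ := QuotientGroup.mk_surjective q₁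
    obtain ⟨y, rfl⟩ := QuotientGroup.mk_surjective q₂
    apply Subtype.ext
    have : g • ((x : H ⧸ YJ), (y : H ⧸ YK)) = (((g * x : H) : H ⧸ YJ), ((g * y : H) : H ⧸ YK)) := rfl
    rw [this, weylInv_mk P ψ J K YJ YK hJ hK, weylInv_mk P ψ J K YJ YK hJ hK]
    congr 2
    group
  · -- separation
    rintro ⟨q₁, q₂⟩ ⟨q₁', q₂'⟩ h
    obtain ⟨x, rfl⟩ := QuotientGroup.mk_surjective q₁
    obtain ⟨y, rfl⟩ := QuotientGroup.mk_surjective q₂
    obtain ⟨x', rfl⟩ := QuotientGroup.mk_surjective q₁'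
    obtain ⟨y', rfl⟩ := QuotientGroup.mk_surjective q₂'
    have h' := congrArg Subtype.val h
    rw [weylInv_mk P ψ J K YJ YK hJ hK, weylInv_mk P ψ J K YJ YK hJ hK] at h'
    obtain ⟨a, ha, b, hb, he⟩ := inDC_of_redOf_eq P J K h'
    -- pull back to `H`
    have ha' : ψ.symm a ∈ YJ := by rw [← hJ, MulEquiv.apply_symm_apply]; exact ha
    have hb' : ψ.symm b ∈ YK := by rw [← hK, MulEquiv.apply_symm_apply]; exact hb
    have he' : x'⁻¹ * y' = ψ.symm a * (x⁻¹ * y) * ψ.symm b := by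
      apply ψ.injective
      rw [he, MulEquiv.map_mul ψ (ψ.symm a * (x⁻¹ * y)) (ψ.symm b),
        MulEquiv.map_mul ψ (ψ.symm a) (x⁻¹ * y), MulEquiv.apply_symm_apply,
        MulEquiv.apply_symm_apply]
    refine ⟨x' * ψ.symm a * x⁻¹, ?_⟩
    have : (x' * ψ.symm a * x⁻¹) • ((x : H ⧸ YJ), (y : H ⧸ YK)) =
        (((x' * ψ.symm a * x⁻¹ * x : H) : H ⧸ YJ), ((x' * ψ.symm a * x⁻¹ * y : H) : H ⧸ YK)) := rfl
    rw [this]
    apply Prod.ext
    · simp only
      rw [QuotientGroup.eq]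
      have : (x' * ψ.symm a * x⁻¹ * x)⁻¹ * x' = (ψ.symm a)⁻¹ := by group
      rw [this]
      exact Subgroup.inv_mem _ ha'
    · simp only
      rw [QuotientGroup.eq]
      have : (x' * ψ.symm a * x⁻¹ * y)⁻¹ * y' = ψ.symm b := by
        have : y' = x' * (ψ.symm a * (x⁻¹ * y) * ψ.symm b) := by rw [← he']; group
        rw [this]; group
      rw [this]
      exact hb'
  · -- surjectivity
    rintro ⟨d, hd⟩
    refine ⟨(((1 : H) : H ⧸ YJ), ((ψ.symm d : H) : H ⧸ YK)), ?_⟩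
    apply Subtype.ext
    rw [weylInv_mk P ψ J K YJ YK hJ hK]
    simp only [inv_one, one_mul, MulEquiv.apply_symm_apply]
    exact redOf_self P J K hd

end weyl

end Cfsg.Agent.Lib.Helper6.BNSt
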