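/-
helper6: S4503 PART H, leaf BRH-FROBA (`mult_ge`), twin: every `lam u`, `u ≠ 0`, occurs in `Λ|_C` at least `|S|` times.
-/
import Mathlib
import Cfsg.Agent.Lib.Helper6.BRHDefs
import Cfsg.Agent.Lib.Lead.CharDecomp
import Cfsg.Agent.Lib.Lead.CharEquiv

set_option autoImplicit false
set_option linter.unusedSectionVars false
set_option linter.unusedVariables false

namespace Cfsg.Agent.Lib.Helper6.BRHFROBA

open Cfsg Cfsg.Agent.Lib.Helper8.DOM Cfsg.Agent.Lib.Helper27.DO Cfsg.Agent.CharLib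
open Cfsg.Agent.Lib.Helper6.BRH
open scoped ComplexConjugate

universe u

variable {G : Type u} [Group G] [Finite G] {p : ℕ} [Fact p.Prime]

/-- FROBA : every `lam u`, `u ≠ 0`, occurs in `Λ|_C` at least `|S|` times. -/
theorem mult_ge (P : Subgroup G) (lam : ZMod p → IrrCharacter (Cz P))
    (ψ ψ' : IrrCharacter G) (mL : IrrCharacter G → ℕ)
    (hL : (fun g => (ψ : G → ℂ) g * conj ((ψ' : G → ℂ) g)) =
      ∑ᶠ η : IrrCharacter G, mL η • (η : G → ℂ))
    (S : Set (IrrCharacter G)) (hS : ∀ η ∈ S, mL η ≠ 0) (u : ZMod p)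
    (hrow : ∀ η ∈ S, ∃ m : ℕ, 1 ≤ m ∧ mult (Cz P) (η : G → ℂ) (lam u : Cz P → ℂ) = (m : ℂ)) :
    ∃ m : ℕ, Nat.card S ≤ m ∧
      mult (Cz P) (fun g => (ψ : G → ℂ) g * conj ((ψ' : G → ℂ) g)) (lam u : Cz P → ℂ) = (m : ℂ) := by
  classical
  let _ : Fintype G := Fintype.ofFinite G
  let _ : Fintype (IrrCharacter G) := Fintype.ofFinite _
  let _ : Fintype (Cz P) := Fintype.ofFinite _
  rw [finsum_eq_sum_of_fintype] at hL
  have hmult : ∀ f : G → ℂ, mult (Cz P) f (lam u : Cz P → ℂ) =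
      classInner (fun h : Cz P => f (h : G)) (lam u : Cz P → ℂ) := by
    intro f
    unfold mult classInner
    rw [finsum_eq_sum_of_fintype]
  -- every multiplicity is natural
  have key : ∀ ζ : IrrCharacter G, ∃ k : ℕ, mult (Cz P) (ζ : G → ℂ) (lam u : Cz P → ℂ) = (k : ℂ) := by
    intro ζ
    rw [hmult]
    exact IsCharacter.classInner_nat (IsCharacter.restrict (IsIrrCharacter.isCharacter ζ.2) (Cz P))
      (IsIrrCharacter.isCharacter (lam u).2)
  choose k hk using key
  refine ⟨∑ ζ : IrrCharacter G, mL ζ * k ζ, ?_, ?_⟩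
  · -- the count
    have hSfin : S.Finite := Set.toFinite S
    rw [Nat.card_coe_set_eq, Set.ncard_eq_toFinset_card S hSfin, Finset.card_eq_sum_ones]
    calc ∑ _ζ ∈ hSfin.toFinset, 1 ≤ ∑ ζ ∈ hSfin.toFinset, mL ζ * k ζ := by
          apply Finset.sum_le_sum
          intro ζ hζ
          rw [Set.Finite.mem_toFinset] at hζ
          obtain ⟨m, hm1, hm2⟩ := hrow ζ hζ
          have h1 : k ζ = m := by
            have : (k ζ : ℂ) = (m : ℂ) := by rw [← hk ζ, hm2]
            exact_mod_cast this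
          have h2 : 1 ≤ mL ζ := Nat.one_le_iff_ne_zero.mpr (hS ζ hζ)
          rw [h1]
          exact Nat.one_le_iff_ne_zero.mpr (Nat.mul_ne_zero (by omega) (by omega))
      _ ≤ ∑ ζ : IrrCharacter G, mL ζ * k ζ :=
          Finset.sum_le_sum_of_subset (Finset.subset_univ _)
  · -- additivity
    rw [hmult]
    have h1 : (fun h : Cz P => (fun g => (ψ : G → ℂ) g * conj ((ψ' : G → ℂ) g)) (h : G)) =
        ∑ ζ : IrrCharacter G, (mL ζ : ℂ) • (fun h : Cz P => (ζ : G → ℂ) (h : G)) := by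
      funext h
      have := congrFun hL (h : G)
      simp only [Finset.sum_apply, nsmul_eq_mul] at this
      show (ψ : G → ℂ) (h : G) * conj ((ψ' : G → ℂ) (h : G)) = _
      rw [this]
      simp only [Finset.sum_apply, Pi.smul_apply, smul_eq_mul]
      rfl
    rw [h1, classInner_sum_left]
    push_cast
    apply Finset.sum_congr rfl
    intro ζ _
    rw [classInner_smul_left, ← hmult, hk ζ]

end Cfsg.Agent.Lib.Helper6.BRHFROBA
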