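/-
helper6: S4705 (Brauer 1966: `|P| = p > 5` Sylow, not normal, ζ faithful irreducible of degree `p - 2`
⇒ `p = 2^a + 1`, `G ≅ SL(2, 2^a) × Z(G)`): the SPINE over the landed leaves of the market "BS"
(`notes/S4705_leaves.lean`; helpers 1, 2, 5, 7, 12, 14, 15, 17, 22, 23, 27) and helper17's segments `BSK5.k5`, `BSK6A.k6a`.
-/
import Mathlib
import Cfsg.Prelude.Def_BlockRank
import Cfsg.Agent.Lib.Helper6.BRHDefs
import Cfsg.Agent.Lib.Helper6.BSDefs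
import Cfsg.Agent.Lib.Helper23.BRVIDefs
import Cfsg.Agent.Lib.Helper23.BRVIZC
import Cfsg.Agent.Lib.Helper15.BRVIZREG
import Cfsg.Agent.Lib.Helper6.CharNorm
import Cfsg.Agent.Lib.Helper6.Knoerr
import Cfsg.Agent.Lib.Helper26.T2PMain
import Cfsg.Agent.S4701
import Cfsg.Agent.Lib.Helper17.BSK5
import Cfsg.Agent.Lib.Helper17.BSK6A
import Cfsg.Agent.Lib.Helper1.BSCSET
import Cfsg.Agent.Lib.Helper1.BSEVAL
import Cfsg.Agent.Lib.Helper1.BSPSUM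
import Cfsg.Agent.Lib.Helper12.BSINVVAL
import Cfsg.Agent.Lib.Helper14.BSB0V
import Cfsg.Agent.Lib.Helper14.BSR1
import Cfsg.Agent.Lib.Helper15.BSINVOL
import Cfsg.Agent.Lib.Helper17.BSCOUNT
import Cfsg.Agent.Lib.Helper2.BSQUOT
import Cfsg.Agent.Lib.Helper22.BSNO2
import Cfsg.Agent.Lib.Helper22.BSORDER
import Cfsg.Agent.Lib.Helper23.BSREST
import Cfsg.Agent.Lib.Helper23.BSTCEQ
import Cfsg.Agent.Lib.Helper27.BSSPLIT
import Cfsg.Agent.Lib.Helper5.BSTB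
import Cfsg.Agent.Lib.Helper7.BSINEQL
import Cfsg.Agent.Lib.Helper7.BSINEQR
import Cfsg.Agent.Lib.Helper7.BSPERF

set_option autoImplicit false

namespace Cfsg.Agent.Lib.Helper6.BSSpine

open Cfsg Cfsg.Agent.Lib.Helper8.DOM Cfsg.Agent.Lib.Helper27.DO Cfsg.Agent.CharLib
open Cfsg.Agent.Lib.Helper6.BRH Cfsg.Agent.Lib.Helper23.BRVI Cfsg.Agent.Lib.Helper6.BS
open scoped ComplexConjugate

universe u

variable {G : Type u} [Group G] [Finite G] {p : ℕ} [Fact p.Prime] {M : Ideal AlgInt}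

/-! ## the spine -/

open Cfsg.Agent.Lib.Helper23.BRVIZC

/-- two characters with the same central character -/
theorem bs_cset_eq_of_mem (ψ0 ψ1 : IrrCharacter G) (h : ψ1 ∈ cset ψ0) : cset ψ0 = cset ψ1 := by
  ext χ
  rw [mem_cset_iff, mem_cset_iff, (mem_cset_iff ψ0 ψ1).mp h]

omit [Finite G] in
/-- a non-identity element of `P` -/
theorem bs_exists_ne_one (P : Subgroup G) (hP : Nat.card P = p) : ∃ x ∈ P, x ≠ 1 := by
  have hpp : p.Prime := Fact.out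
  by_contra hcon
  push Not at hcon
  have : P = ⊥ := by
    rw [eq_bot_iff]
    intro x hx
    rw [Subgroup.mem_bot]
    exact hcon x hx
  rw [this] at hP
  simp at hP
  exact hpp.one_lt.ne hP

/-- (K5) : `χb` is linear. -/
theorem chib_linear (hM : IsPModular p M) (hp5 : 5 < p) (P : Subgroup G) (hP : Nat.card P = p)
    (hSyl : ¬ p ∣ P.index) (hnn : ¬ P.Normal) (ζ : IrrCharacter G)
    (hfaith : ∀ g : G, (ζ : G → ℂ) g = (ζ : G → ℂ) 1 → g = 1)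
    (hdeg : charDegree (ζ : G → ℂ) = p - 2) :
    (Cz P).relIndex (Nz P) = 2 ∧
    (∀ y ∈ Cz P, ¬ p ∣ orderOf y → y ∈ Subgroup.center G) ∧
    ∃ (χb χa χ₁ : IrrCharacter G) (Yθ : Set (IrrCharacter G)) (v : ℤ) (Y₀ : Set (IrrCharacter G))
      (ε₀ : ℤ),
      TwoBlock p P χb χa 1 (-1) Yθ (-1) ∧ ζ ∈ Yθ ∧
      (χb : G → ℂ) 1 = 1 ∧ χb ∈ cset ζ ∧ TwoBlock p P (trivIrr G) χ₁ 1 v Y₀ ε₀ ∧
      (∀ g : G, p ∣ orderOf g → (χ₁ : G → ℂ) g = (v : ℂ)) ∧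
      χ₁ ∈ cset (trivIrr G) ∧ Y₀ ⊆ cset (trivIrr G) ∧
      (∀ χ ∈ cset (trivIrr G), χ ≠ trivIrr G → χ ≠ χ₁ → χ ∉ Y₀ →
        ∀ x ∈ P, x ≠ 1 → (χ : G → ℂ) x = 0) := by
  classical
  have hpp : p.Prime := Fact.out
  have hp2 : p ≠ 2 := by omega
  have hp7 : 7 ≤ p := by
    by_contra h
    have h6 : p = 6 := by omega
    rw [h6] at hpp
    exact absurd hpp (by norm_num)
  have hp0 : (p : ℂ) ≠ 0 := Nat.cast_ne_zero.mpr hpp.ne_zero
  obtain ⟨hf, hV, x0, χb, χa, ψs, i, hi, dθ⟩ := Cfsg.Agent.Lib.Helper14.BSR1.partE_two hM hp5 P hP hSyl hnn ζ hfaith hdeg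
  obtain ⟨x0', χ₁, v, ψs₀, ε₀, d₀, hsing⟩ := Cfsg.Agent.Lib.Helper14.BSB0V.b0_vals hM hp5 P hP hSyl hf
  have tbθ := Cfsg.Agent.Lib.Helper5.BSTB.twoBlock_of_vals hp2 P hP x0 χb χa 1 (-1) ψs (-1) dθ
  have tb₀ := Cfsg.Agent.Lib.Helper5.BSTB.twoBlock_of_vals hp2 P hP x0' (trivIrr G) χ₁ 1 v ψs₀ ε₀ d₀
  have hZreg := Cfsg.Agent.Lib.Helper15.BRVIZREG.center_regular P hP hSyl hnn
  have hζY : ζ ∈ Set.range ψs := ⟨i, hi⟩
  obtain ⟨hbθ, haθ, hYθ⟩ := Cfsg.Agent.Lib.Helper1.BSCSET.cset_of_twoBlock hZreg P χb χa 1 (-1) _ (-1) tbθ ζ hζY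
  obtain ⟨ψ₀, hψ₀⟩ := tb₀.neY
  obtain ⟨h1₀, hχ₁₀, hY₀⟩ := Cfsg.Agent.Lib.Helper1.BSCSET.cset_of_twoBlock hZreg P (trivIrr G) χ₁ 1 v _ ε₀ tb₀ ψ₀ hψ₀
  have hcs : cset ψ₀ = cset (trivIrr G) := bs_cset_eq_of_mem ψ₀ (trivIrr G) h1₀
  rw [hcs] at h1₀ hχ₁₀ hY₀
  -- the element `w`
  obtain ⟨w, hwN, hwC, hwinv, hw2, hwreg, hNC⟩ := Cfsg.Agent.Lib.Helper15.BSINVOL.exists_invol hp2 P hP hSyl hnn hf hV
  have hk := fun χ : IrrCharacter G => Cfsg.Agent.Lib.Helper12.BSINVVAL.invol_val hp2 P hP w hwinv χ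
  obtain ⟨hpsb, hpsa, hpsYθ⟩ := Cfsg.Agent.Lib.Helper1.BSPSUM.psum_of_twoBlock P hP χb χa 1 (-1) _ (-1) tbθ
  obtain ⟨hps1, hpsχ₁, hpsY₀⟩ := Cfsg.Agent.Lib.Helper1.BSPSUM.psum_of_twoBlock P hP (trivIrr G) χ₁ 1 v _ ε₀ tb₀
  -- `ζ(w)` has norm one
  obtain ⟨kζ, hkζ, -, hkζ1⟩ := hk ζ
  have hkζeq : kζ = 1 := by
    have h1 := hpsYθ ζ hζY
    rw [hkζ, apply_one_eq, hdeg] at h1
    have h2 : (p : ℂ) * (kζ : ℂ) = (p : ℂ) * 1 := by
      rw [h1]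
      push_cast [Nat.cast_sub (by omega : 2 ≤ p)]
      ring
    have h3 : (kζ : ℂ) = 1 := mul_left_cancel₀ hp0 h2
    exact_mod_cast h3
  have hζw : ‖(ζ : G → ℂ) w‖ = 1 := hkζ1 hkζeq
  have hζw0 : (ζ : G → ℂ) w ≠ 0 := by
    intro h0
    rw [h0, norm_zero] at hζw
    exact zero_ne_one hζw
  -- the identity
  have hcount := Cfsg.Agent.Lib.Helper17.BSCOUNT.count_pairs hp2 P hP hSyl hnn hV w hwinv hw2 hNC ζ hfaith hζw0
  obtain ⟨x, hx, hx1⟩ := bs_exists_ne_one P hP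
  have htc := Cfsg.Agent.Lib.Helper23.BSTCEQ.tc_norm_eq w x (w * w) hw2 (fun a b z hz hab => hcount a b z hz x hx hx1 hab) ζ
  have hrestθ := Cfsg.Agent.Lib.Helper23.BSREST.rest_vanish P hP hSyl hnn hV χb χa 1 (-1) _ (-1) tbθ ζ hbθ haθ hYθ
  have hrest₀ := Cfsg.Agent.Lib.Helper23.BSREST.rest_vanish P hP hSyl hnn hV (trivIrr G) χ₁ 1 v _ ε₀ tb₀ (trivIrr G) h1₀ hχ₁₀ hY₀
  have hEθ := Cfsg.Agent.Lib.Helper1.BSEVAL.tc_eval P hP χb χa 1 (-1) _ (-1) tbθ ζ hbθ haθ hYθ x hx hx1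
    (fun χ hχ h1 h2 h3 => hrestθ χ hχ h1 h2 h3 x hx hx1) w hwreg ζ hζY
  have hE₀ := Cfsg.Agent.Lib.Helper1.BSEVAL.tc_eval P hP (trivIrr G) χ₁ 1 v _ ε₀ tb₀ (trivIrr G) h1₀ hχ₁₀ hY₀ x hx hx1
    (fun χ hχ h1 h2 h3 => hrest₀ χ hχ h1 h2 h3 x hx hx1) w hwreg ψ₀ hψ₀
  -- the degrees
  have h1reg : ¬ p ∣ orderOf (1 : G) := by
    rw [orderOf_one]
    exact fun h => hpp.one_lt.ne' (Nat.dvd_one.mp h)
  have htriv1 : ((trivIrr G : IrrCharacter G) : G → ℂ) 1 = 1 := rfl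
  have htrivw : ((trivIrr G : IrrCharacter G) : G → ℂ) w = 1 := rfl
  set b1 := charDegree (χb : G → ℂ) with hb1def
  set a1 := charDegree (χa : G → ℂ) with ha1def
  set h := charDegree (χ₁ : G → ℂ) with hhdef
  set d := charDegree (ψ₀ : G → ℂ) with hddef
  have hb1pos : 0 < b1 := charDegree_pos χb
  have ha1pos : 0 < a1 := charDegree_pos χa
  have hhpos : 0 < h := charDegree_pos χ₁
  have hdpos : 0 < d := charDegree_pos ψ₀
  have hrel1 := tbθ.relY ζ hζY 1 h1reg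
  rw [apply_one_eq ζ, apply_one_eq χb, apply_one_eq χa, hdeg] at hrel1
  have ha1eq : a1 = b1 + (p - 2) := by
    have h1 : (a1 : ℂ) = ((b1 + (p - 2) : ℕ) : ℂ) := by
      push_cast at hrel1 ⊢
      linear_combination hrel1
    exact_mod_cast h1
  obtain ⟨kb, hkb, hkbw, -⟩ := hk χb
  have hkb' : b1 + (p - 1) = p * kb := by
    have h1 : ((b1 + (p - 1) : ℕ) : ℂ) = ((p * kb : ℕ) : ℂ) := by
      rw [hpsb, apply_one_eq] at hkb
      push_cast [Nat.cast_sub hpp.one_le] at hkb ⊢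
      linear_combination hkb
    exact_mod_cast h1
  have hrelw := tbθ.relY ζ hζY w hwreg
  have hAB : ‖(χa : G → ℂ) w - (χb : G → ℂ) w‖ ≤ 1 := by
    have h1 : (χa : G → ℂ) w - (χb : G → ℂ) w = (ζ : G → ℂ) w := by
      push_cast at hrelw
      linear_combination hrelw
    rw [h1, hζw]
  -- the principal block
  have hrel1₀ := tb₀.relY ψ₀ hψ₀ 1 h1reg
  rw [apply_one_eq ψ₀, htriv1, apply_one_eq χ₁] at hrel1₀
  have hdegZ : ε₀ * (d : ℤ) = 1 + v * (h : ℤ) := by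
    have h1 : ((ε₀ * (d : ℤ) : ℤ) : ℂ) = ((1 + v * (h : ℤ) : ℤ) : ℂ) := by
      push_cast at hrel1₀ ⊢
      linear_combination hrel1₀
    exact_mod_cast h1
  obtain ⟨k₁, hk₁, hk₁w, -⟩ := hk χ₁
  have hhZ : (h : ℤ) + v * ((p : ℤ) - 1) = (p : ℤ) * (k₁ : ℤ) := by
    have h1 : (((h : ℤ) + v * ((p : ℤ) - 1) : ℤ) : ℂ) = (((p : ℤ) * (k₁ : ℤ) : ℤ) : ℂ) := by
      rw [hpsχ₁, apply_one_eq] at hk₁
      push_cast at hk₁ ⊢
      linear_combination hk₁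
    exact_mod_cast h1
  obtain ⟨kY, hkY, hkYw, -⟩ := hk ψ₀
  have hdZ : (d : ℤ) - 2 * ε₀ = (p : ℤ) * (kY : ℤ) := by
    have h1 : (((d : ℤ) - 2 * ε₀ : ℤ) : ℂ) = (((p : ℤ) * (kY : ℤ) : ℤ) : ℂ) := by
      rw [hpsY₀ ψ₀ hψ₀, apply_one_eq] at hkY
      push_cast at hkY ⊢
      linear_combination hkY
    exact_mod_cast h1
  have hrelw₀ := tb₀.relY ψ₀ hψ₀ w hwreg
  have hψw : ‖1 + (v : ℂ) * (χ₁ : G → ℂ) w‖ ≤ (kY : ℝ) := by
    have h1 : 1 + (v : ℂ) * (χ₁ : G → ℂ) w = (ε₀ : ℂ) * (ψ₀ : G → ℂ) w := by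
      rw [htrivw] at hrelw₀
      push_cast at hrelw₀
      linear_combination -hrelw₀
    have h2 : ‖(ε₀ : ℂ)‖ = 1 := by
      rcases tb₀.sgn with h | h <;> rw [h] <;> simp
    rw [h1, norm_mul, h2, one_mul]
    exact hkYw
  -- `χb` is linear
  have hb1 : b1 = 1 := by
    by_contra hne
    have hb2 : 2 ≤ b1 := by omega
    have hL := Cfsg.Agent.Lib.Helper7.BSINEQL.ineq_left p hp7 b1 a1 kb hb2 hkb' ha1eq ((χa : G → ℂ) w) ((χb : G → ℂ) w) hkbw hAB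
    have hR := Cfsg.Agent.Lib.Helper7.BSINEQR.ineq_right p hp7 h d k₁ kY v ε₀ tb₀.sgn2 tb₀.sgn hhpos hdpos hdegZ hhZ hdZ
      ((χ₁ : G → ℂ) w) hk₁w hψw
    have hp2R : ((p - 2 : ℕ) : ℝ) = (p : ℝ) - 2 := by
      push_cast [Nat.cast_sub (by omega : 2 ≤ p)]
      ring
    -- norms of the two evaluations
    have hnθ : ‖Tc (cset ζ) w w x‖ * ((a1 : ℝ) * (b1 : ℝ) * ((p : ℝ) - 2)) =
        ‖(χb : G → ℂ) w * (a1 : ℂ) - (χa : G → ℂ) w * (b1 : ℂ)‖ ^ 2 := by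
      have e1 : (((1 : ℤ) * -1 * -1 : ℤ) : ℂ) = 1 := by norm_num
      rw [apply_one_eq χb, apply_one_eq χa, apply_one_eq ζ, hdeg, e1, one_mul] at hEθ
      have h1 := congrArg (fun t : ℂ => ‖t‖) hEθ
      simp only [norm_mul, norm_pow, Complex.norm_natCast] at h1
      rw [← h1, hp2R]
      ring
    have hn₀ : ‖Tc (cset (trivIrr G)) w w x‖ * ((h : ℝ) * (d : ℝ)) =
        ‖(h : ℂ) - (χ₁ : G → ℂ) w‖ ^ 2 := by
      have hE₀' : Tc (cset (trivIrr G)) w w x * ((h : ℂ) * (d : ℂ)) =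
          ((v * ε₀ : ℤ) : ℂ) * ((h : ℂ) - (χ₁ : G → ℂ) w) ^ 2 := by
        rw [htriv1, htrivw, apply_one_eq χ₁, apply_one_eq ψ₀] at hE₀
        simpa only [one_mul, mul_one] using hE₀
      have e1 : ‖((v * ε₀ : ℤ) : ℂ)‖ = 1 := by
        rcases tb₀.sgn2 with h | h <;> rcases tb₀.sgn with h' | h' <;> rw [h, h'] <;> simp
      have h1 := congrArg (fun t : ℂ => ‖t‖) hE₀'
      simp only [norm_mul, norm_pow, Complex.norm_natCast, e1, one_mul] at h1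
      exact h1
    set t := ‖Tc (cset ζ) w w x‖ with ht
    rw [← htc] at hn₀
    have hαpos : (0 : ℝ) < (a1 : ℝ) * (b1 : ℝ) * ((p : ℝ) - 2) := by
      have h1 : (0 : ℝ) < (a1 : ℝ) := by exact_mod_cast ha1pos
      have h2 : (0 : ℝ) < (b1 : ℝ) := by exact_mod_cast hb1pos
      have h3 : (0 : ℝ) < (p : ℝ) - 2 := by
        have : (7 : ℝ) ≤ (p : ℝ) := by exact_mod_cast hp7
        linarith
      positivity
    have hβpos : (0 : ℝ) < (h : ℝ) * (d : ℝ) := by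
      have h1 : (0 : ℝ) < (h : ℝ) := by exact_mod_cast hhpos
      have h2 : (0 : ℝ) < (d : ℝ) := by exact_mod_cast hdpos
      positivity
    have h1 : t * (p : ℝ) ^ 2 ≤ ((p : ℝ) - 1) ^ 2 := by
      have h2 : (t * (p : ℝ) ^ 2) * ((a1 : ℝ) * (b1 : ℝ) * ((p : ℝ) - 2)) ≤
          ((p : ℝ) - 1) ^ 2 * ((a1 : ℝ) * (b1 : ℝ) * ((p : ℝ) - 2)) := by
        rw [← hnθ] at hL
        linarith
      exact le_of_mul_le_mul_right h2 hαpos
    have h2 : ((p : ℝ) - 1) ^ 2 < t * (p : ℝ) ^ 2 := by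
      have h3 : ((p : ℝ) - 1) ^ 2 * ((h : ℝ) * (d : ℝ)) < (t * (p : ℝ) ^ 2) * ((h : ℝ) * (d : ℝ)) := by
        rw [← hn₀] at hR
        linarith
      exact lt_of_mul_lt_mul_right h3 hβpos.le
    linarith
  refine ⟨hf, hV, χb, χa, χ₁, _, v, _, ε₀, tbθ, hζY, ?_, hbθ, tb₀, hsing, hχ₁₀, hY₀, hrest₀⟩
  rw [apply_one_eq, ← hb1def, hb1]
  simp

/-- S4705, for `ζ : IrrCharacter G`. -/
theorem s4705_of (hp5 : 5 < p) (P : Sylow p G) (hP : Nat.card (P : Subgroup G) = p)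
    (hnn : ¬ (P : Subgroup G).Normal) (ζ : IrrCharacter G)
    (hfaith : ∀ g : G, (ζ : G → ℂ) g = (ζ : G → ℂ) 1 → g = 1)
    (hdeg : charDegree (ζ : G → ℂ) = p - 2) :
    ∃ (a : ℕ) (F : Type) (_ : Field F) (_ : Fintype F), p = 2 ^ a + 1 ∧ Fintype.card F = 2 ^ a ∧
      Nonempty (G ≃* Matrix.SpecialLinearGroup (Fin 2) F × Subgroup.center G) := by
  classical
  have hpp : p.Prime := Fact.out
  have hp2 : p ≠ 2 := by omega
  have hp7 : 7 ≤ p := by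
    by_contra h
    have h6 : p = 6 := by omega
    rw [h6] at hpp
    exact absurd hpp (by norm_num)
  obtain ⟨M, hM⟩ := Cfsg.Agent.Lib.Helper6.exists_isPModular p
  have hSyl : ¬ p ∣ (P : Subgroup G).index := P.not_dvd_index
  obtain ⟨hf, hV, χb, χa, χ₁, Yθ, v, Y₀, ε₀, tbθ, hζY, hb1, hbc, tb₀, hsing, hχ₁₀, hY₀, hrest₀⟩ :=
    chib_linear hM hp5 (P : Subgroup G) hP hSyl hnn ζ hfaith hdeg
  obtain ⟨hv, hχ₁1, hker⟩ := Cfsg.Agent.Lib.Helper17.BSK5.k5 hp7 (P : Subgroup G) hP χb χa Yθ tbθ ζ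
    hζY hdeg hfaith hb1 hbc χ₁ v Y₀ ε₀ tb₀ hsing hrest₀
  obtain ⟨β, hβ1, hβs, hβf⟩ := Cfsg.Agent.Lib.Helper17.BSK6A.k6a χ₁ v hv hχ₁₀ hχ₁1 hsing hker
  obtain ⟨Q, hQ, hcent, hN, hQnn⟩ := Cfsg.Agent.Lib.Helper2.BSQUOT.quot_data hp2 P hP hnn hf hV
  have hcard := Cfsg.Agent.Lib.Helper26.T2PMain.card_eq (by omega : 5 ≤ p) Q hQ hcent hN β hβ1 hβs hβf
  -- `G / Z(G)` is perfect
  obtain ⟨x, hxP, hx1⟩ := bs_exists_ne_one (P : Subgroup G) hP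
  have h1reg : ¬ p ∣ orderOf (1 : G) := by
    rw [orderOf_one]
    exact fun h => hpp.one_lt.ne' (Nat.dvd_one.mp h)
  have hlin : ∀ lam : IrrCharacter G, (lam : G → ℂ) 1 = 1 → lam ∈ cset (trivIrr G) →
      lam = trivIrr G := by
    intro lam hlam1 hlamc
    by_contra hne
    have hlamx : (lam : G → ℂ) x ≠ 0 :=
      Cfsg.Agent.Lib.Helper6.IsCharacter.apply_ne_zero_of_apply_one
        (IsIrrCharacter.isCharacter lam.2) hlam1 x
    by_cases h1 : lam = χ₁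
    · rw [h1, hχ₁1] at hlam1
      have : (p : ℂ) = 2 := by linear_combination hlam1
      have : p = 2 := by exact_mod_cast this
      exact hp2 this
    · by_cases h2 : lam ∈ Y₀
      · have hrel := tb₀.relY lam h2 1 h1reg
        have e1 : ((trivIrr G : IrrCharacter G) : G → ℂ) 1 = 1 := rfl
        rw [hlam1, e1, hχ₁1, hv] at hrel
        have hε : (ε₀ : ℂ) = 2 - (p : ℂ) := by
          push_cast at hrel
          linear_combination hrel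
        rcases tb₀.sgn with h | h
        · rw [h] at hε
          have : (p : ℂ) = 1 := by push_cast at hε; linear_combination hε
          have : p = 1 := by exact_mod_cast this
          omega
        · rw [h] at hε
          have : (p : ℂ) = 3 := by push_cast at hε; linear_combination hε
          have : p = 3 := by exact_mod_cast this
          omega
      · exact hlamx (hrest₀ lam hlamc hne h1 h2 x hxP hx1)
  have hperf := Cfsg.Agent.Lib.Helper7.BSPERF.quot_perfect hlin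
  have h2 := Cfsg.Agent.Lib.Helper22.BSNO2.no_normal_two hp2 Q hQ hcent
  have hdvd : p ∣ Nat.card (G ⧸ Subgroup.center G) := by
    rw [hcard, mul_assoc]
    exact dvd_mul_right p _
  have hbig : Nat.card (G ⧸ Subgroup.center G) < p ^ 3 := by
    rw [hcard]
    have h1 : p - 1 < p := by omega
    have h2 : p - 2 < p := by omega
    have h3 : 0 < p - 2 := by omega
    calc p * (p - 1) * (p - 2) < p * p * (p - 2) := by
          apply Nat.mul_lt_mul_of_pos_right _ h3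
          exact Nat.mul_lt_mul_of_pos_left h1 (by omega)
      _ < p * p * p := Nat.mul_lt_mul_of_pos_left h2 (by positivity)
      _ = p ^ 3 := by ring
  -- `μ = χb` is faithful on the centre
  have hμZ : ∀ z ∈ Subgroup.center G, (χb : G → ℂ) z = 1 → z = 1 := by
    intro z hz hz1
    apply hfaith
    have h := hbc z hz
    rw [hz1, hb1, one_mul, mul_one] at h
    exact h.symm
  rcases Cfsg.Agent.S4701.result hperf p hdvd hbig Q hQnn h2 with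
    ⟨F, _, _, hF, -, ⟨e⟩⟩ | ⟨m, F, _, _, hF, hpm, -, ⟨e⟩⟩
  · exact (Cfsg.Agent.Lib.Helper22.BSORDER.not_psl hp5 F hF e hcard).elim
  · obtain ⟨e'⟩ := Cfsg.Agent.Lib.Helper27.BSSPLIT.split_center χb hb1 hμZ hperf
    exact ⟨m, F, _, _, hpm, hF, ⟨e'.trans (MulEquiv.prodCongr e (MulEquiv.refl _))⟩⟩

end Cfsg.Agent.Lib.Helper6.BSSpine
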