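/-
helper6: towards Berger's theorem (Isaacs 11.32/11.33), part A: the norm of the restriction of an
induced function to a normal supplement, and index bookkeeping.
-/
import Mathlib
import Cfsg.Agent.Lib.Lead.CharInd
import Cfsg.Agent.Lib.Lead.CharMain
import Cfsg.Agent.Lib.Helper6.IndFun
import Cfsg.Agent.Lib.Helper6.Clifford
import Cfsg.Agent.Lib.Helper6.CharExtra2

set_option autoImplicit false

namespace Cfsg.Agent.Lib.Helper6.Berger

open Cfsg Cfsg.Agent.CharLib Cfsg.Agent.Lib.Helper6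
open scoped ComplexConjugate

universe u

variable {G : Type u} [Group G]

/-- `|H ⊓ M| |G| = |M| |H|` when `G = HM` with `M` normal. -/
theorem card_inf_mul_card [Finite G] (H M : Subgroup G) [hM : M.Normal] (hHM : H ⊔ M = ⊤) :
    Nat.card (H ⊓ M : Subgroup G) * Nat.card G = Nat.card M * Nat.card H := by
  have h1 : M.relIndex (H ⊔ M) = M.relIndex H := Subgroup.relIndex_sup_right H M
  rw [hHM, Subgroup.relIndex_top_right] at h1
  have h2 : (H ⊓ M).relIndex H * H.index = (H ⊓ M).index :=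
    Subgroup.relIndex_mul_index inf_le_left
  rw [Subgroup.inf_relIndex_left, ← h1] at h2
  have h3 := Subgroup.card_mul_index (H ⊓ M)
  have h4 := Subgroup.card_mul_index M
  have h5 := Subgroup.card_mul_index H
  have hG : 0 < Nat.card G := Nat.card_pos
  -- |D| * (M.index * H.index) = |G|
  rw [← h2] at h3
  -- multiply
  have : Nat.card (H ⊓ M : Subgroup G) * Nat.card G * Nat.card G =
      Nat.card M * Nat.card H * Nat.card G := by
    calc Nat.card (H ⊓ M : Subgroup G) * Nat.card G * Nat.card G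
        = Nat.card (H ⊓ M : Subgroup G) * (Nat.card M * M.index) * (Nat.card H * H.index) := by
          rw [h4, h5]
      _ = Nat.card M * Nat.card H * (Nat.card (H ⊓ M : Subgroup G) * (M.index * H.index)) := by
          ring
      _ = Nat.card M * Nat.card H * Nat.card G := by rw [h3]
  exact Nat.eq_of_mul_eq_mul_right hG this

/-- Sum of a function cut off outside a subgroup. -/
theorem sum_ite_mem_subgroup [Fintype G] (S : Subgroup G) [Fintype S] [DecidablePred (· ∈ S)]
    (F : G → ℂ) : ∑ g : G, (if g ∈ S then F g else 0) = ∑ s : S, F s := by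
  rw [← Finset.sum_filter]
  exact Finset.sum_subtype (Finset.univ.filter (fun g : G => g ∈ S)) (by simp) F

/-- **Norm of the restriction of an induced function to a normal supplement**: if `G = HM` with
`M` normal then `[χ_M, χ_M] = [ϑ_D, χ_D]` for `χ = ϑ^G` and `D = H ∩ M`. -/
theorem classInner_res_indFun [Fintype G] (H M : Subgroup G) [hM : M.Normal] [Fintype H] [Fintype M]
    [Fintype (H ⊓ M : Subgroup G)] (hHM : H ⊔ M = ⊤) (ϑ : H → ℂ) :
    classInner (fun m : M => indFun H ϑ m) (fun m : M => indFun H ϑ m) =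
      classInner (fun d : (H ⊓ M : Subgroup G) => ϑ ⟨d, d.2.1⟩)
        (fun d : (H ⊓ M : Subgroup G) => indFun H ϑ d) := by
  classical
  have hχ : IsClassFunction G (indFun H ϑ) := indFun_isClassFunction H ϑ
  let Ξ : G → ℂ := fun g => if g ∈ M then indFun H ϑ g else 0
  have hΞ : IsClassFunction G Ξ := by
    intro g k
    have hiff : k * g * k⁻¹ ∈ M ↔ g ∈ M := by
      constructor
      · intro h
        have := hM.conj_mem _ h k⁻¹
        simpa [mul_assoc] using this
      · intro h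
        exact hM.conj_mem _ h k
    change (if k * g * k⁻¹ ∈ M then indFun H ϑ (k * g * k⁻¹) else 0) =
      if g ∈ M then indFun H ϑ g else 0
    rw [hχ g k]
    by_cases hg : g ∈ M
    · rw [if_pos hg, if_pos (hiff.mpr hg)]
    · rw [if_neg hg, if_neg (fun h => hg (hiff.mp h))]
  have hfrob := frobenius_reciprocity H ϑ hΞ
  -- the left side
  have hL : classInner (indFun H ϑ) Ξ = (Nat.card G : ℂ)⁻¹ * ((Nat.card M : ℂ) *
      classInner (fun m : M => indFun H ϑ m) (fun m : M => indFun H ϑ m)) := by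
    unfold classInner
    congr 1
    have h0 : (Nat.card M : ℂ) ≠ 0 := Nat.cast_ne_zero.mpr Nat.card_pos.ne'
    rw [← mul_assoc, mul_inv_cancel₀ h0, one_mul,
      ← sum_ite_mem_subgroup M (fun g => indFun H ϑ g * conj (indFun H ϑ g))]
    apply Finset.sum_congr rfl
    intro g _
    by_cases hg : g ∈ M
    · simp only [Ξ, if_pos hg]
    · simp only [Ξ, if_neg hg, map_zero, mul_zero]
  -- the right side
  have hR : classInner ϑ (fun h : H => Ξ h) = (Nat.card H : ℂ)⁻¹ *
      ((Nat.card (H ⊓ M : Subgroup G) : ℂ) *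
        classInner (fun d : (H ⊓ M : Subgroup G) => ϑ ⟨d, d.2.1⟩)
          (fun d : (H ⊓ M : Subgroup G) => indFun H ϑ d)) := by
    unfold classInner
    congr 1
    have h0 : (Nat.card (H ⊓ M : Subgroup G) : ℂ) ≠ 0 := Nat.cast_ne_zero.mpr Nat.card_pos.ne'
    rw [← mul_assoc, mul_inv_cancel₀ h0, one_mul,
      ← sum_extendByZero_mul H ϑ (fun g => conj (Ξ g)),
      ← sum_extendByZero_mul (H ⊓ M) (fun d : (H ⊓ M : Subgroup G) => ϑ ⟨d, d.2.1⟩)
        (fun g => conj (indFun H ϑ g))]
    apply Finset.sum_congr rfl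
    intro g _
    by_cases hgH : g ∈ H
    · by_cases hgM : g ∈ M
      · have hgD : g ∈ H ⊓ M := ⟨hgH, hgM⟩
        rw [extendByZero_mem H ϑ hgH, extendByZero_mem (H ⊓ M) _ hgD]
        simp only [Ξ, if_pos hgM]
      · have hgD : g ∉ H ⊓ M := fun h => hgM h.2
        rw [extendByZero_not_mem (H ⊓ M) _ hgD]
        simp only [Ξ, if_neg hgM, map_zero, mul_zero, zero_mul]
    · have hgD : g ∉ H ⊓ M := fun h => hgH h.1
      rw [extendByZero_not_mem (H ⊓ M) _ hgD, extendByZero_not_mem H ϑ hgH, zero_mul, zero_mul]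
  rw [hL, hR] at hfrob
  have hcard := card_inf_mul_card H M hHM
  have hcard' : (Nat.card (H ⊓ M : Subgroup G) : ℂ) * (Nat.card G : ℂ) =
      (Nat.card M : ℂ) * (Nat.card H : ℂ) := by exact_mod_cast hcard
  have hG0 : (Nat.card G : ℂ) ≠ 0 := Nat.cast_ne_zero.mpr Nat.card_pos.ne'
  have hH0 : (Nat.card H : ℂ) ≠ 0 := Nat.cast_ne_zero.mpr Nat.card_pos.ne'
  have hM0 : (Nat.card M : ℂ) ≠ 0 := Nat.cast_ne_zero.mpr Nat.card_pos.ne'
  have hD0 : (Nat.card (H ⊓ M : Subgroup G) : ℂ) ≠ 0 := Nat.cast_ne_zero.mpr Nat.card_pos.ne'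
  have hkey : (Nat.card M : ℂ) * (Nat.card H : ℂ) *
      classInner (fun m : M => indFun H ϑ m) (fun m : M => indFun H ϑ m) =
      (Nat.card M : ℂ) * (Nat.card H : ℂ) *
      classInner (fun d : (H ⊓ M : Subgroup G) => ϑ ⟨d, d.2.1⟩)
        (fun d : (H ⊓ M : Subgroup G) => indFun H ϑ d) := by
    have e1 : (Nat.card M : ℂ) * (Nat.card H : ℂ) *
        classInner (fun m : M => indFun H ϑ m) (fun m : M => indFun H ϑ m) =
        (Nat.card G : ℂ) * (Nat.card H : ℂ) * ((Nat.card G : ℂ)⁻¹ * ((Nat.card M : ℂ) *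
          classInner (fun m : M => indFun H ϑ m) (fun m : M => indFun H ϑ m))) := by
      field_simp
    have e2 : (Nat.card M : ℂ) * (Nat.card H : ℂ) *
        classInner (fun d : (H ⊓ M : Subgroup G) => ϑ ⟨d, d.2.1⟩)
          (fun d : (H ⊓ M : Subgroup G) => indFun H ϑ d) =
        (Nat.card G : ℂ) * (Nat.card H : ℂ) * ((Nat.card H : ℂ)⁻¹ *
          ((Nat.card (H ⊓ M : Subgroup G) : ℂ) *
            classInner (fun d : (H ⊓ M : Subgroup G) => ϑ ⟨d, d.2.1⟩)
              (fun d : (H ⊓ M : Subgroup G) => indFun H ϑ d))) := by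
      rw [← hcard']
      field_simp
    rw [e1, e2, hfrob]
  exact mul_left_cancel₀ (mul_ne_zero hM0 hH0) hkey

end Cfsg.Agent.Lib.Helper6.Berger
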