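/-
helper6: towards Berger's theorem (Isaacs 11.32/11.33), part B: an induced irreducible character
`χ = ϑ^G` (with `ϑ_L` irreducible, `L ⊴ G`) which is homogeneous on the normal subgroups above `L`:
the square of the multiplicity on a normal supplement `K` of `H` with `H ∩ K ⊴ G` is `|G : H|`.
-/
import Mathlib
import Cfsg.Agent.Lib.Helper6.BergerA
import Cfsg.Agent.Lib.Helper6.CharExtra
import Cfsg.Agent.Lib.Helper6.Ramification2
import Cfsg.Agent.Lib.Helper2.GlaubRel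

set_option autoImplicit false

namespace Cfsg.Agent.Lib.Helper6.Berger

open Cfsg Cfsg.Agent.CharLib Cfsg.Agent.Lib.Helper6
open scoped ComplexConjugate

universe u

/-- A character of `H'` whose pullback to `L'` is irreducible pulls back irreducibly to every group
through which `L'` factors. -/
theorem isIrrCharacter_comp_of_factor {H' L' A : Type u} [Group H'] [Group L'] [Group A] [Finite L']
    {ϑ : H' → ℂ} (hϑ : IsCharacter H' ϑ) (i : L' →* H') (hϑL : IsIrrCharacter L' (ϑ ∘ i))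
    (f : A →* H') (j : L' →* A) (hfj : ∀ x, f (j x) = i x) : IsIrrCharacter A (ϑ ∘ f) := by
  apply Cfsg.Agent.Lib.Helper2.Glaub.isIrrCharacter_of_comp_hom j (IsCharacter.comp_hom hϑ f)
  have : (ϑ ∘ f) ∘ j = ϑ ∘ i := by
    funext x
    simp [hfj]
  rw [this]
  exact hϑL

variable {G : Type u} [Group G]

/-- `|M : H ∩ M| = |G : H|` when `G = HM` with `M` normal. -/
theorem relIndex_eq_index_of_sup_eq_top [Finite G] (H M : Subgroup G) [hM : M.Normal]
    (hHM : H ⊔ M = ⊤) : H.relIndex M = H.index := by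
  have h1 : M.relIndex (H ⊔ M) = M.relIndex H := Subgroup.relIndex_sup_right H M
  rw [hHM, Subgroup.relIndex_top_right] at h1
  have h2 : (H ⊓ M).relIndex H * H.index = (H ⊓ M).index :=
    Subgroup.relIndex_mul_index inf_le_left
  rw [Subgroup.inf_relIndex_left, ← h1] at h2
  have h3 : (H ⊓ M).relIndex M * M.index = (H ⊓ M).index :=
    Subgroup.relIndex_mul_index inf_le_right
  rw [Subgroup.inf_relIndex_right, ← h2, mul_comm] at h3
  have hM0 : 0 < M.index := Nat.pos_of_ne_zero Subgroup.index_ne_zero_of_finite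
  exact Nat.eq_of_mul_eq_mul_left hM0 h3

/-- Restriction of `ϑ : H → ℂ` to a subgroup of `G` contained in `H`. -/
def resTo {H : Subgroup G} (D : Subgroup G) (hDH : D ≤ H) (ϑ : H → ℂ) : D → ℂ :=
  fun d => ϑ ⟨d, hDH d.2⟩

theorem resTo_apply {H : Subgroup G} (D : Subgroup G) (hDH : D ≤ H) (ϑ : H → ℂ) (d : D) :
    resTo D hDH ϑ d = ϑ ⟨d, hDH d.2⟩ := rfl

theorem resTo_eq_comp {H : Subgroup G} (D : Subgroup G) (hDH : D ≤ H) (ϑ : H → ℂ) :
    resTo D hDH ϑ = ϑ ∘ (Subgroup.inclusion hDH) := rfl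

/-- `ϑ_D` is irreducible for `L ≤ D ≤ H` when `ϑ_L` is. -/
theorem isIrrCharacter_resTo [Finite G] {L H : Subgroup G} (hLH : L ≤ H) {ϑ : H → ℂ}
    (hϑ : IsCharacter H ϑ) (hϑL : IsIrrCharacter L (fun x : L => ϑ ⟨x, hLH x.2⟩))
    (D : Subgroup G) (hLD : L ≤ D) (hDH : D ≤ H) : IsIrrCharacter D (resTo D hDH ϑ) := by
  rw [resTo_eq_comp]
  exact isIrrCharacter_comp_of_factor hϑ (Subgroup.inclusion hLH) hϑL (Subgroup.inclusion hDH)
    (Subgroup.inclusion hLD) (fun x => rfl)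

/-- Degree of an induced function, with the index. -/
theorem indFun_one_eq_index_mul [Fintype G] (H : Subgroup G) (ϑ : H → ℂ) :
    indFun H ϑ 1 = (H.index : ℂ) * ϑ 1 := by
  rw [indFun_apply_one]
  congr 1
  have h0 : (Nat.card H : ℂ) ≠ 0 := Nat.cast_ne_zero.mpr Nat.card_pos.ne'
  rw [← Subgroup.card_mul_index H, Nat.cast_mul, ← mul_assoc, inv_mul_cancel₀ h0, one_mul]

/-- The value at `1` of an irreducible character is a nonzero natural number. -/
theorem irr_apply_one_ne_zero {A : Type u} [Group A] {χ : A → ℂ} (hχ : IsIrrCharacter A χ) :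
    χ 1 ≠ 0 := by
  obtain ⟨d, hd, h⟩ := IsIrrCharacter.apply_one_pos hχ
  rw [h]
  exact Nat.cast_ne_zero.mpr hd.ne'

/-- **The multiplicity on a normal supplement**: `e² = |G : H|`. -/
theorem mul_self_eq_index [Fintype G] {L H K : Subgroup G} [hK : K.Normal] (hLH : L ≤ H)
    (hLK : L ≤ K) (hHK : H ⊔ K = ⊤) {ϑ : H → ℂ} (hϑ : IsIrrCharacter H ϑ)
    (hϑL : IsIrrCharacter L (fun x : L => ϑ ⟨x, hLH x.2⟩))
    {φ₀ : (H ⊓ K : Subgroup G) → ℂ} {e₀ : ℕ} (hφ₀ : IsIrrCharacter (H ⊓ K : Subgroup G) φ₀)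
    (h₀ : (fun d : (H ⊓ K : Subgroup G) => indFun H ϑ d) = (e₀ : ℂ) • φ₀)
    {φ : K → ℂ} {e : ℕ} (hφ : IsIrrCharacter K φ)
    (he : (fun k : K => indFun H ϑ k) = (e : ℂ) • φ) : e * e = H.index := by
  classical
  letI : Fintype H := Fintype.ofFinite H
  letI : Fintype K := Fintype.ofFinite K
  letI : Fintype (H ⊓ K : Subgroup G) := Fintype.ofFinite _
  have hA := classInner_res_indFun H K hHK ϑ
  have hϑD : IsIrrCharacter (H ⊓ K : Subgroup G) (resTo (H ⊓ K) inf_le_left ϑ) :=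
    isIrrCharacter_resTo hLH (IsIrrCharacter.isCharacter hϑ) hϑL (H ⊓ K) (le_inf hLH hLK)
      inf_le_left
  have hA' : classInner (fun k : K => indFun H ϑ k) (fun k : K => indFun H ϑ k) =
      classInner (resTo (H ⊓ K) inf_le_left ϑ) (fun d : (H ⊓ K : Subgroup G) => indFun H ϑ d) := hA
  rw [he, h₀, classInner_smul_left, classInner_smul_right, classInner_smul_right,
    classInner_irr hφ hφ, if_pos rfl, classInner_irr hϑD hφ₀, Complex.conj_natCast,
    Complex.conj_natCast, mul_one] at hA'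
  -- e ≠ 0
  have hχ1 : indFun H ϑ 1 ≠ 0 := by
    rw [indFun_one_eq_index_mul]
    apply mul_ne_zero
    · exact Nat.cast_ne_zero.mpr Subgroup.index_ne_zero_of_finite
    · exact irr_apply_one_ne_zero hϑ
  have he0 : (e : ℂ) ≠ 0 := by
    intro h0
    apply hχ1
    have := congrFun he 1
    rw [Pi.smul_apply, h0, zero_smul] at this
    exact this
  by_cases heq : resTo (H ⊓ K) inf_le_left ϑ = φ₀
  · rw [if_pos heq, mul_one] at hA'
    have h1 : e * e = e₀ := by exact_mod_cast hA'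
    rw [h1]
    -- degrees
    have h2 := congrFun h₀ 1
    rw [Pi.smul_apply, smul_eq_mul, ← heq, resTo_apply] at h2
    have h3 : indFun H ϑ ((1 : (H ⊓ K : Subgroup G)) : G) = indFun H ϑ 1 := rfl
    have h4 : ϑ ⟨((1 : (H ⊓ K : Subgroup G)) : G),
        (inf_le_left : H ⊓ K ≤ H) (1 : (H ⊓ K : Subgroup G)).2⟩ = ϑ 1 := rfl
    rw [h3, h4, indFun_one_eq_index_mul] at h2
    have h5 : (H.index : ℂ) = (e₀ : ℂ) := mul_right_cancel₀ (irr_apply_one_ne_zero hϑ) h2
    exact_mod_cast h5.symm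
  · rw [if_neg heq, mul_zero] at hA'
    exact absurd (mul_self_eq_zero.mp hA') he0

/-- **Equal multiplicities**: if `χ_K = eφ` and `χ_M = aη` with `K ≤ M` normal and `|M : K|` prime
to `e`, then `a = e` (Isaacs 11.29). -/
theorem mult_eq_of_coprime [Fintype G] {K M : Subgroup G} [hK : K.Normal] (hKM : K ≤ M)
    (χ : G → ℂ) (hχ1 : χ 1 ≠ 0) {φ : K → ℂ} {e : ℕ} (hφ : IsIrrCharacter K φ)
    (he : (fun k : K => χ k) = (e : ℂ) • φ) {η : M → ℂ} {a : ℕ} (hη : IsIrrCharacter M η)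
    (ha : (fun m : M => χ m) = (a : ℂ) • η) (hcop : (K.relIndex M).Coprime e) : a = e := by
  classical
  letI : Fintype M := Fintype.ofFinite M
  letI : Fintype (K.subgroupOf M) := Fintype.ofFinite _
  let eq := Subgroup.subgroupOfEquivOfLe hKM
  have hφ' : IsIrrCharacter (K.subgroupOf M) (φ ∘ eq) := isIrrCharacter_comp_mulEquiv' eq hφ
  have ha0 : (a : ℂ) ≠ 0 := by
    intro h0
    apply hχ1
    have := congrFun ha 1
    rw [Pi.smul_apply, h0, zero_smul] at this
    exact this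
  have he0 : (e : ℂ) ≠ 0 := by
    intro h0
    apply hχ1
    have := congrFun he 1
    rw [Pi.smul_apply, h0, zero_smul] at this
    exact this
  have hres : resFun (K.subgroupOf M) η = ((e : ℂ) / (a : ℂ)) • (φ ∘ eq) := by
    funext x
    rw [resFun_apply, Pi.smul_apply, smul_eq_mul, Function.comp_apply]
    have h1 := congrFun ha (x : M)
    have h2 := congrFun he (eq x)
    rw [Pi.smul_apply, smul_eq_mul] at h1 h2
    have h3 : ((eq x : K) : G) = ((x : M) : G) := rfl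
    rw [h3, h1] at h2
    field_simp
    rw [← h2]
    ring
  have hcon : classInner (resFun (K.subgroupOf M) η) (φ ∘ eq) ≠ 0 := by
    rw [hres, classInner_smul_left, classInner_irr hφ' hφ', if_pos rfl, mul_one]
    exact div_ne_zero he0 ha0
  obtain ⟨c, hcpos, hc⟩ := IsIrrCharacter.apply_one_pos hη
  obtain ⟨d, hdpos, hd⟩ := IsIrrCharacter.apply_one_pos hφ'
  have hdiv := degree_ratio_dvd_index (K.subgroupOf M) hη hφ' hcon hc hd
  have hd' : φ 1 = d := by
    have : (φ ∘ eq) 1 = φ 1 := by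
      rw [Function.comp_apply, map_one]
    rw [← this]
    exact hd
  have hac : a * c = e * d := by
    have h1 := congrFun ha 1
    have h2 := congrFun he 1
    rw [Pi.smul_apply, smul_eq_mul] at h1 h2
    have h3 : χ ((1 : M) : G) = χ 1 := rfl
    have h4 : χ ((1 : K) : G) = χ 1 := rfl
    rw [h3, hc] at h1
    rw [h4, hd'] at h2
    have : (a : ℂ) * c = e * d := by rw [← h1, ← h2]
    exact_mod_cast this
  obtain ⟨hdc, hb⟩ := hdiv
  obtain ⟨b, rfl⟩ := hdc
  rw [Nat.mul_div_cancel_left b hdpos] at hb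
  have hab : a * b = e := by
    have : a * b * d = e * d := by rw [← hac]; ring
    exact Nat.eq_of_mul_eq_mul_right hdpos this
  have hb1 : b = 1 := by
    have h1 : b ∣ e := ⟨a, by rw [← hab]; ring⟩
    have h2 : b ∣ K.relIndex M := hb
    exact Nat.Coprime.eq_one_of_dvd (Nat.Coprime.coprime_dvd_left h2 hcop) h1
  rw [hb1, mul_one] at hab
  exact hab

/-- **Extreme multiplicity**: if `χ_M = aη` with `a² = |G : H|` then `χ` vanishes on `M \ H` and
`χ_{H ∩ M} = |G : H| ϑ_{H ∩ M}`. -/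
theorem vanish_off_of_mult [Fintype G] {L H M : Subgroup G} [hM : M.Normal] (hLH : L ≤ H)
    (hLM : L ≤ M) (hHM : H ⊔ M = ⊤) {ϑ : H → ℂ} (hϑ : IsIrrCharacter H ϑ)
    (hϑL : IsIrrCharacter L (fun x : L => ϑ ⟨x, hLH x.2⟩))
    {η : M → ℂ} {a : ℕ} (hη : IsIrrCharacter M η)
    (ha : (fun m : M => indFun H ϑ m) = (a : ℂ) • η) (haa : a * a = H.index) :
    (∀ x ∈ M, x ∉ H → indFun H ϑ x = 0) ∧
      (∀ x (hx : x ∈ H ⊓ M), indFun H ϑ x = (H.index : ℂ) * ϑ ⟨x, hx.1⟩) := by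
  classical
  letI : Fintype H := Fintype.ofFinite H
  letI : Fintype M := Fintype.ofFinite M
  letI : Fintype (H ⊓ M : Subgroup G) := Fintype.ofFinite _
  letI : Fintype (H.subgroupOf M) := Fintype.ofFinite _
  have hϑc : IsCharacter H ϑ := IsIrrCharacter.isCharacter hϑ
  have hϑQ : IsIrrCharacter (H ⊓ M : Subgroup G) (resTo (H ⊓ M) inf_le_left ϑ) :=
    isIrrCharacter_resTo hLH hϑc hϑL (H ⊓ M) (le_inf hLH hLM) inf_le_left
  have hA : classInner (fun m : M => indFun H ϑ m) (fun m : M => indFun H ϑ m) =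
      classInner (resTo (H ⊓ M) inf_le_left ϑ) (fun d : (H ⊓ M : Subgroup G) => indFun H ϑ d) :=
    classInner_res_indFun H M hHM ϑ
  rw [ha, classInner_smul_left, classInner_smul_right, classInner_irr hη hη, if_pos rfl,
    Complex.conj_natCast, mul_one] at hA
  have hidx : ((a : ℂ) * (a : ℂ)) = (H.index : ℂ) := by exact_mod_cast haa
  rw [hidx] at hA
  have hχc : IsCharacter G (indFun H ϑ) := IsCharacter.indFun H hϑc
  have hχQ : IsCharacter (H ⊓ M : Subgroup G) (fun d : (H ⊓ M : Subgroup G) => indFun H ϑ d) :=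
    IsCharacter.restrict hχc (H ⊓ M)
  have hm : classInner (fun d : (H ⊓ M : Subgroup G) => indFun H ϑ d)
      (resTo (H ⊓ M) inf_le_left ϑ) = (H.index : ℕ) := by
    rw [← classInner_conj_symm, ← hA, Complex.conj_natCast]
  have hdeg : (fun d : (H ⊓ M : Subgroup G) => indFun H ϑ d) 1 =
      (H.index : ℕ) * (resTo (H ⊓ M) inf_le_left ϑ) 1 := by
    change indFun H ϑ 1 = (H.index : ℂ) * ϑ 1
    exact indFun_one_eq_index_mul H ϑ
  have hQeq := IsCharacter.eq_nsmul_of_degree hχQ hϑQ hm hdeg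
  have hsecond : ∀ x (hx : x ∈ H ⊓ M), indFun H ϑ x = (H.index : ℂ) * ϑ ⟨x, hx.1⟩ := by
    intro x hx
    have := congrFun hQeq ⟨x, hx⟩
    rw [Pi.smul_apply, nsmul_eq_mul, resTo_apply] at this
    exact this
  refine ⟨?_, hsecond⟩
  -- the vanishing
  have ha0 : (a : ℂ) ≠ 0 := by
    intro h0
    have : (H.index : ℂ) = 0 := by rw [← hidx, h0, mul_zero]
    exact (Nat.cast_ne_zero.mpr Subgroup.index_ne_zero_of_finite) this
  let f : H.subgroupOf M →* H :=
    (M.subtype.comp (H.subgroupOf M).subtype).codRestrict H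
      (fun x => Subgroup.mem_subgroupOf.mp x.2)
  let j : L →* H.subgroupOf M :=
    ((Subgroup.inclusion hLM).codRestrict (H.subgroupOf M)
      (fun x => Subgroup.mem_subgroupOf.mpr (hLH x.2)))
  have hϑf : IsIrrCharacter (H.subgroupOf M) (ϑ ∘ f) :=
    isIrrCharacter_comp_of_factor hϑc (Subgroup.inclusion hLH) hϑL f j (fun x => rfl)
  have hres : resFun (H.subgroupOf M) η = (a : ℂ) • (ϑ ∘ f) := by
    funext x
    rw [resFun_apply, Pi.smul_apply, smul_eq_mul, Function.comp_apply]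
    have h1 := congrFun ha (x : M)
    rw [Pi.smul_apply, smul_eq_mul] at h1
    have hxH : ((x : M) : G) ∈ H := Subgroup.mem_subgroupOf.mp x.2
    have h2 := hsecond ((x : M) : G) ⟨hxH, (x : M).2⟩
    rw [h2, ← hidx] at h1
    have h3 : f x = ⟨((x : M) : G), hxH⟩ := rfl
    rw [h3]
    have : (a : ℂ) * ((a : ℂ) * ϑ ⟨((x : M) : G), hxH⟩) = (a : ℂ) * η (x : M) := by
      rw [← h1]; ring
    exact (mul_left_cancel₀ ha0 this).symm
  have hnorm : classInner (resFun (H.subgroupOf M) η) (resFun (H.subgroupOf M) η) =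
      ((H.subgroupOf M).index : ℂ) := by
    rw [hres, classInner_smul_left, classInner_smul_right, classInner_irr hϑf hϑf, if_pos rfl,
      Complex.conj_natCast, mul_one, hidx]
    have : (H.subgroupOf M).index = H.index := relIndex_eq_index_of_sup_eq_top H M hHM
    rw [this]
  have hvan := (vanishes_off_iff (H.subgroupOf M) hη).mpr hnorm
  intro x hxM hxH
  have h1 := congrFun ha ⟨x, hxM⟩
  rw [Pi.smul_apply, smul_eq_mul] at h1
  have h2 : η ⟨x, hxM⟩ = 0 := hvan ⟨x, hxM⟩ (fun h => hxH (Subgroup.mem_subgroupOf.mp h))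
  rw [h2, mul_zero] at h1
  exact h1

/-- **Normality of `H ∩ M`** from the vanishing of `χ = ϑ^G` on `M \ H`. -/
theorem conj_mem_inf_of_vanish [Fintype G] {L H M : Subgroup G} [hL : L.Normal] [hM : M.Normal]
    (hLH : L ≤ H) (hLM : L ≤ M) {ϑ : H → ℂ} (hϑ : IsIrrCharacter H ϑ)
    (hϑL : IsIrrCharacter L (fun x : L => ϑ ⟨x, hLH x.2⟩))
    (h1 : ∀ x ∈ M, x ∉ H → indFun H ϑ x = 0)
    (h2 : ∀ x (hx : x ∈ H ⊓ M), indFun H ϑ x = (H.index : ℂ) * ϑ ⟨x, hx.1⟩) :
    ∀ g : G, ∀ x ∈ H ⊓ M, g * x * g⁻¹ ∈ H ⊓ M := by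
  classical
  letI : Fintype (H ⊓ M : Subgroup G) := Fintype.ofFinite _
  letI : Fintype ((H ⊓ M).normalCore.subgroupOf (H ⊓ M)) := Fintype.ofFinite _
  have hϑc : IsCharacter H ϑ := IsIrrCharacter.isCharacter hϑ
  have hLQ : L ≤ H ⊓ M := le_inf hLH hLM
  have hβ : IsIrrCharacter (H ⊓ M : Subgroup G) (resTo (H ⊓ M) inf_le_left ϑ) :=
    isIrrCharacter_resTo hLH hϑc hϑL (H ⊓ M) hLQ inf_le_left
  have hidx0 : (H.index : ℂ) ≠ 0 := Nat.cast_ne_zero.mpr Subgroup.index_ne_zero_of_finite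
  have hvan : ∀ x : (H ⊓ M : Subgroup G), x ∉ (H ⊓ M).normalCore.subgroupOf (H ⊓ M) →
      resTo (H ⊓ M) inf_le_left ϑ x = 0 := by
    intro x hx
    have hx' : ¬ ∀ b : G, b * (x : G) * b⁻¹ ∈ H ⊓ M := fun h => hx (Subgroup.mem_subgroupOf.mpr h)
    push Not at hx'
    obtain ⟨g, hg⟩ := hx'
    have hgM : g * (x : G) * g⁻¹ ∈ M := hM.conj_mem _ x.2.2 g
    have hgH : g * (x : G) * g⁻¹ ∉ H := fun h => hg ⟨h, hgM⟩
    have h3 := h1 _ hgM hgH
    rw [indFun_isClassFunction H ϑ (x : G) g, h2 (x : G) x.2] at h3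
    rcases mul_eq_zero.mp h3 with h | h
    · exact absurd h hidx0
    · exact h
  have hnorm := (vanishes_off_iff ((H ⊓ M).normalCore.subgroupOf (H ⊓ M)) hβ).mp hvan
  let f : (H ⊓ M).normalCore.subgroupOf (H ⊓ M) →* H :=
    (Subgroup.inclusion (inf_le_left : H ⊓ M ≤ H)).comp
      ((H ⊓ M).normalCore.subgroupOf (H ⊓ M)).subtype
  have hLcore : L ≤ (H ⊓ M).normalCore := Subgroup.normal_le_normalCore.mpr hLQ
  let j : L →* (H ⊓ M).normalCore.subgroupOf (H ⊓ M) :=
    ((Subgroup.inclusion hLQ).codRestrict ((H ⊓ M).normalCore.subgroupOf (H ⊓ M))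
      (fun x => Subgroup.mem_subgroupOf.mpr (hLcore x.2)))
  have hϑf : IsIrrCharacter ((H ⊓ M).normalCore.subgroupOf (H ⊓ M)) (ϑ ∘ f) :=
    isIrrCharacter_comp_of_factor hϑc (Subgroup.inclusion hLH) hϑL f j (fun x => rfl)
  have hres : resFun ((H ⊓ M).normalCore.subgroupOf (H ⊓ M)) (resTo (H ⊓ M) inf_le_left ϑ) =
      ϑ ∘ f := rfl
  rw [hres, classInner_irr hϑf hϑf, if_pos rfl] at hnorm
  have hone : ((H ⊓ M).normalCore.subgroupOf (H ⊓ M)).index = 1 := by exact_mod_cast hnorm.symm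
  have htop := Subgroup.index_eq_one.mp hone
  intro g x hx
  have : (⟨x, hx⟩ : (H ⊓ M : Subgroup G)) ∈ (H ⊓ M).normalCore.subgroupOf (H ⊓ M) := by
    rw [htop]; exact Subgroup.mem_top _
  exact (Subgroup.mem_subgroupOf.mp this) g

/-- On the whole group the multiplicity of a homogeneous irreducible character is `1`. -/
theorem mult_eq_one_of_top [Fintype G] {χ : G → ℂ} (hχ : IsIrrCharacter G χ) {K : Subgroup G}
    (hK : K = ⊤) {φ : K → ℂ} {e : ℕ} (hφ : IsIrrCharacter K φ)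
    (he : (fun k : K => χ k) = (e : ℂ) • φ) : e * e = 1 := by
  classical
  subst hK
  letI : Fintype (⊤ : Subgroup G) := Fintype.ofFinite _
  have h1 : classInner (fun k : (⊤ : Subgroup G) => χ k) (fun k : (⊤ : Subgroup G) => χ k) =
      classInner χ χ :=
    Cfsg.Agent.Lib.Helper2.Glaub.classInner_comp_equiv (Subgroup.topEquiv : (⊤ : Subgroup G) ≃* G) χ χ
  rw [he, classInner_smul_left, classInner_smul_right, classInner_irr hφ hφ, if_pos rfl,
    classInner_irr hχ hχ, if_pos rfl, Complex.conj_natCast, mul_one] at h1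
  exact_mod_cast h1

end Cfsg.Agent.Lib.Helper6.Berger
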