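/-
helper6: towards Berger's theorem (Isaacs 11.32/11.33), part C (pure group theory): a maximal
subgroup `H` with `G / core(H)` solvable, the chief factor `K / core(H)` supplementing `H`, and the
next chief factor `M / K`.
-/
import Mathlib
import Cfsg.Agent.Lib.Helper1.MinNormal
import Cfsg.Agent.Lib.Helper12.Basic
import Cfsg.Agent.Lib.Helper6.BergerB

set_option autoImplicit false

namespace Cfsg.Agent.Lib.Helper6.Berger

open Cfsg.Agent.Lib.Helper1
open scoped Pointwise

universe u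

variable {G : Type u} [Group G]

/-- Elements of a product `H ⊔ K` with `K` normal. -/
theorem exists_mul_of_sup_eq_top (H K : Subgroup G) [hK : K.Normal] (hHK : H ⊔ K = ⊤) (g : G) :
    ∃ h ∈ H, ∃ k ∈ K, g = h * k := by
  have h1 : (↑(H ⊔ K) : Set G) = (H : Set G) * (K : Set G) := Subgroup.mul_normal H K
  have h2 : g ∈ (↑(H ⊔ K) : Set G) := by rw [hHK]; exact Subgroup.mem_top g
  rw [h1] at h2
  obtain ⟨h, hh, k, hk, rfl⟩ := Set.mem_mul.mp h2
  exact ⟨h, hh, k, hk, rfl⟩

/-- The chief factor over the core of a maximal subgroup with solvable quotient. -/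
theorem exists_chief_supplement [Finite G] (H : Subgroup G) (hmax : IsCoatom H)
    (hsolv : Group.IsSolvable (G ⧸ H.normalCore)) :
    ∃ (V : Subgroup (G ⧸ H.normalCore)) (p n : ℕ), IsMinNormal V ∧ p.Prime ∧
      IsPGroup p V ∧ Nat.card V = p ^ n ∧
      H ⊔ V.comap (QuotientGroup.mk' H.normalCore) = ⊤ ∧
      H ⊓ V.comap (QuotientGroup.mk' H.normalCore) = H.normalCore ∧ H.index = p ^ n := by
  classical
  have hNH : H.normalCore ≤ H := Subgroup.normalCore_le H
  have hNtop : H.normalCore ≠ ⊤ := by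
    intro h
    apply hmax.1
    rw [eq_top_iff, ← h]
    exact hNH
  haveI : Nontrivial (G ⧸ H.normalCore) := by
    obtain ⟨g, hg⟩ : ∃ g : G, g ∉ H.normalCore := by
      by_contra hcon
      push Not at hcon
      exact hNtop (eq_top_iff.mpr (fun x _ => hcon x))
    refine ⟨⟨(g : G ⧸ H.normalCore), 1, fun h => hg ?_⟩⟩
    exact (QuotientGroup.eq_one_iff g).mp h
  haveI := hsolv
  obtain ⟨V, hV⟩ := exists_isMinNormal (G := G ⧸ H.normalCore)
  have hVab : IsMulCommutative V := hV.isMulCommutative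
  obtain ⟨p, hp, hVp⟩ := hV.exists_prime_isPGroup
  haveI : Fact p.Prime := ⟨hp⟩
  obtain ⟨n, hn⟩ := IsPGroup.iff_card.mp hVp
  haveI hVn : V.Normal := hV.1
  set K : Subgroup G := V.comap (QuotientGroup.mk' H.normalCore) with hKdef
  haveI hKn : K.Normal := hVn.comap _
  have hNK : H.normalCore ≤ K := by
    intro x hx
    rw [hKdef, Subgroup.mem_comap]
    have : (QuotientGroup.mk' H.normalCore) x = 1 := (QuotientGroup.eq_one_iff x).mpr hx
    rw [this]
    exact V.one_mem
  have hmap : K.map (QuotientGroup.mk' H.normalCore) = V :=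
    Subgroup.map_comap_eq_self_of_surjective (QuotientGroup.mk'_surjective _) V
  have hKH : ¬ K ≤ H := by
    intro hle
    have h1 : K ≤ H.normalCore := Subgroup.normal_le_normalCore.mpr hle
    apply hV.2.1
    rw [← hmap, eq_bot_iff]
    rintro _ ⟨x, hx, rfl⟩
    exact (QuotientGroup.eq_one_iff x).mpr (h1 hx)
  have hsup : H ⊔ K = ⊤ := by
    apply hmax.2
    apply lt_of_le_of_ne le_sup_left
    intro h
    apply hKH
    rw [h]
    exact le_sup_right
  have hcomm : ∀ k ∈ K, ∀ x ∈ K, k * x * k⁻¹ * x⁻¹ ∈ H.normalCore := by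
    intro k hk x hx
    have h1 := mul_comm' (⟨_, hk⟩ : V) ⟨_, hx⟩
    have h2 : (QuotientGroup.mk' H.normalCore) k * (QuotientGroup.mk' H.normalCore) x =
        (QuotientGroup.mk' H.normalCore) x * (QuotientGroup.mk' H.normalCore) k :=
      congrArg Subtype.val h1
    apply (QuotientGroup.eq_one_iff _).mp
    change (QuotientGroup.mk' H.normalCore) (k * x * k⁻¹ * x⁻¹) = 1
    rw [map_mul, map_mul, map_mul, map_inv, map_inv, h2]
    group
  have hinfn : (H ⊓ K).Normal := by
    constructor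
    intro x hx g
    obtain ⟨h, hh, k, hk, rfl⟩ := exists_mul_of_sup_eq_top H K hsup g
    refine ⟨?_, hKn.conj_mem x hx.2 _⟩
    have h1 : k * x * k⁻¹ ∈ H := by
      have h2 : k * x * k⁻¹ * x⁻¹ ∈ H := hNH (hcomm k hk x hx.2)
      have h3 := H.mul_mem h2 hx.1
      simpa using h3
    have h4 := H.mul_mem (H.mul_mem hh h1) (H.inv_mem hh)
    have h5 : h * k * x * (h * k)⁻¹ = h * (k * x * k⁻¹) * h⁻¹ := by group
    rw [h5]
    exact h4
  have hinf : H ⊓ K = H.normalCore :=
    le_antisymm (Subgroup.normal_le_normalCore.mpr inf_le_left) (le_inf hNH hNK)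
  refine ⟨V, p, n, hV, hp, hVp, hn, hsup, hinf, ?_⟩
  have h1 : H.relIndex K = H.index := relIndex_eq_index_of_sup_eq_top H K hsup
  rw [← h1, ← Subgroup.inf_relIndex_right, hinf]
  have h2 := Subgroup.relIndex_ker (K := K) (QuotientGroup.mk' H.normalCore)
  rw [QuotientGroup.ker_mk', hmap] at h2
  rw [h2, hn]

/-- The next chief factor `M / K` above `K = π⁻¹(V)`, with `V` minimal normal in `G / N`. If it is a
`p`-group for the prime `p` of `V`, then `M` centralizes `K / N`. -/
theorem exists_next_chief [Finite G] (N : Subgroup G) [hN : N.Normal]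
    (hsolv : Group.IsSolvable (G ⧸ N)) (V : Subgroup (G ⧸ N)) (hV : IsMinNormal V) (p n : ℕ)
    (hp : p.Prime) (hn : Nat.card V = p ^ n) (hKtop : V.comap (QuotientGroup.mk' N) ≠ ⊤) :
    ∃ (M : Subgroup G) (q j : ℕ), M.Normal ∧ V.comap (QuotientGroup.mk' N) ≤ M ∧
      V.comap (QuotientGroup.mk' N) ≠ M ∧ q.Prime ∧
      (V.comap (QuotientGroup.mk' N)).relIndex M = q ^ j ∧
      (q = p → ∀ m ∈ M, ∀ k ∈ V.comap (QuotientGroup.mk' N), m * k * m⁻¹ * k⁻¹ ∈ N) := by
  classical
  haveI := hsolv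
  haveI hVn : V.Normal := hV.1
  haveI : Fact p.Prime := ⟨hp⟩
  set K : Subgroup G := V.comap (QuotientGroup.mk' N) with hKdef
  have hmapK : K.map (QuotientGroup.mk' N) = V :=
    Subgroup.map_comap_eq_self_of_surjective (QuotientGroup.mk'_surjective _) V
  have hVtop : V ≠ ⊤ := by
    intro h
    apply hKtop
    rw [hKdef, h]
    exact Subgroup.comap_top _
  let f₂ : G →* (G ⧸ N) ⧸ V := (QuotientGroup.mk' V).comp (QuotientGroup.mk' N)
  have hf₂ : Function.Surjective f₂ :=
    (QuotientGroup.mk'_surjective V).comp (QuotientGroup.mk'_surjective N)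
  have hker : f₂.ker = K := by
    rw [← MonoidHom.comap_ker, QuotientGroup.ker_mk']
  haveI : Nontrivial ((G ⧸ N) ⧸ V) := by
    obtain ⟨g, hg⟩ : ∃ g : G ⧸ N, g ∉ V := by
      by_contra hcon
      push Not at hcon
      exact hVtop (eq_top_iff.mpr (fun x _ => hcon x))
    refine ⟨⟨(g : (G ⧸ N) ⧸ V), 1, fun h => hg ?_⟩⟩
    exact (QuotientGroup.eq_one_iff g).mp h
  obtain ⟨W, hW⟩ := exists_isMinNormal (G := (G ⧸ N) ⧸ V)
  obtain ⟨q, hq, hWq⟩ := hW.exists_prime_isPGroup
  haveI : Fact q.Prime := ⟨hq⟩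
  obtain ⟨j, hj⟩ := IsPGroup.iff_card.mp hWq
  haveI hWn : W.Normal := hW.1
  set M : Subgroup G := W.comap f₂ with hMdef
  haveI hMn : M.Normal := hWn.comap _
  have hmapM : M.map f₂ = W := Subgroup.map_comap_eq_self_of_surjective hf₂ W
  have hKM : K ≤ M := by
    intro x hx
    rw [← hker, MonoidHom.mem_ker] at hx
    rw [hMdef, Subgroup.mem_comap, hx]
    exact W.one_mem
  have hne : K ≠ M := by
    intro h
    apply hW.2.1
    rw [← hmapM, ← h, ← hker, eq_bot_iff]
    rintro _ ⟨x, hx, rfl⟩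
    exact MonoidHom.mem_ker.mp hx
  have hrel : K.relIndex M = q ^ j := by
    have h2 := Subgroup.relIndex_ker (K := M) f₂
    rw [hker, hmapM, hj] at h2
    exact h2
  refine ⟨M, q, j, hMn, hKM, hne, hq, hrel, ?_⟩
  intro hqp m hm k hk
  -- the image of M in G / N is a p-group
  set Mb : Subgroup (G ⧸ N) := M.map (QuotientGroup.mk' N) with hMbdef
  haveI hMbn : Mb.Normal := hMn.map _ (QuotientGroup.mk'_surjective N)
  have hVMb : V ≤ Mb := by
    rw [← hmapK]
    exact Subgroup.map_mono hKM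
  have hNK : N ≤ K := by
    intro x hx
    rw [hKdef, Subgroup.mem_comap]
    have : (QuotientGroup.mk' N) x = 1 := (QuotientGroup.eq_one_iff x).mpr hx
    rw [this]
    exact V.one_mem
  have hcardMb : Nat.card Mb = p ^ (n + j) := by
    have h2 := Subgroup.relIndex_ker (K := M) (QuotientGroup.mk' N)
    rw [QuotientGroup.ker_mk'] at h2
    rw [← h2, ← Subgroup.relIndex_mul_relIndex N K M hNK hKM, hrel, hqp]
    have h3 := Subgroup.relIndex_ker (K := K) (QuotientGroup.mk' N)
    rw [QuotientGroup.ker_mk', hmapK, hn] at h3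
    rw [h3, pow_add]
  have hMbp : IsPGroup p Mb := IsPGroup.of_card hcardMb
  haveI : (V.subgroupOf Mb).Normal := Subgroup.normal_subgroupOf
  have hVsub : V.subgroupOf Mb ≠ ⊥ := by
    intro h
    rw [Subgroup.subgroupOf_eq_bot] at h
    apply hV.2.1
    exact (disjoint_self.mp (h.mono_right hVMb))
  obtain ⟨x, hxV, hx1, hxc⟩ :=
    Cfsg.Agent.Lib.Helper12.exists_ne_one_mem_center_of_normal hMbp (V.subgroupOf Mb) hVsub
  -- the central part of V
  have hZn : (V ⊓ Subgroup.centralizer (Mb : Set (G ⧸ N))).Normal := inferInstance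
  have hZ1 : V ⊓ Subgroup.centralizer (Mb : Set (G ⧸ N)) ≠ ⊥ := by
    intro h
    apply hx1
    have hxmem : (x : G ⧸ N) ∈ V ⊓ Subgroup.centralizer (Mb : Set (G ⧸ N)) := by
      refine ⟨Subgroup.mem_subgroupOf.mp hxV, ?_⟩
      apply Subgroup.mem_centralizer_iff.mpr
      intro y hy
      have := Subgroup.mem_center_iff.mp hxc ⟨y, hy⟩
      exact congrArg Subtype.val this
    rw [h, Subgroup.mem_bot] at hxmem
    exact Subtype.ext hxmem
  have hZV : V ⊓ Subgroup.centralizer (Mb : Set (G ⧸ N)) = V := by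
    rcases hV.2.2 _ hZn inf_le_left with h | h
    · exact absurd h hZ1
    · exact h
  have hVcent : V ≤ Subgroup.centralizer (Mb : Set (G ⧸ N)) := by
    rw [← hZV]
    exact inf_le_right
  have hkV : (QuotientGroup.mk' N) k ∈ V := hk
  have hmMb : (QuotientGroup.mk' N) m ∈ Mb := Subgroup.mem_map_of_mem _ hm
  have hcomm := Subgroup.mem_centralizer_iff.mp (hVcent hkV) _ hmMb
  apply (QuotientGroup.eq_one_iff _).mp
  change (QuotientGroup.mk' N) (m * k * m⁻¹ * k⁻¹) = 1
  rw [map_mul, map_mul, map_mul, map_inv, map_inv, hcomm]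
  group

end Cfsg.Agent.Lib.Helper6.Berger
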