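/-
helper6: a coefficient form of Brauer's characterization of characters (built on helper2's Brauer
induction theorem): if the inner products of the restrictions of a class function `θ` to all
elementary subgroups with all characters lie in an additive subgroup `R` of `ℂ`, then so do the
inner products of `θ` with the characters of `G`.
-/
import Mathlib
import Cfsg.Agent.Lib.Helper2.BrauerInd
import Cfsg.Agent.Lib.Helper6.LinChar

set_option autoImplicit false

namespace Cfsg.Agent.Lib.Helper6

open Cfsg Cfsg.Agent.CharLib Cfsg.Agent.Lib.Helper2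
open scoped ComplexConjugate

universe u

section brauerLocal

variable {G : Type u} [Group G] [Fintype G]

theorem classInner_mem_of_elementary (R : AddSubgroup ℂ) {θ : G → ℂ} (hθ : IsClassFunction G θ)
    (hE : ∀ (E : Subgroup G) [Fintype E] (p : ℕ), p.Prime → IsElementary p E →
      ∀ ψ : E → ℂ, IsCharacter E ψ → classInner (fun e : E => θ e) ψ ∈ R)
    {χ : G → ℂ} (hχ : IsCharacter G χ) : classInner θ χ ∈ R := by
  classical
  have hχc : IsClassFunction G χ := IsCharacter.isClassFunction hχ
  have h1 : (1 : G → ℂ) ∈ brauerSpanAll G := char_mem_brauerSpanAll isCharacter_one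
  have key : ∀ f ∈ brauerSpanAll G, classInner (f * θ) χ ∈ R := by
    intro f hf
    induction hf using AddSubgroup.closure_induction with
    | mem x hx =>
      obtain ⟨E, lam, ⟨p, hp, hEl⟩, rfl⟩ := hx
      let _ : Fintype E := Fintype.ofFinite E
      rw [indFun_mul_classFunction E _ hθ, frobenius_reciprocity E _ hχc]
      have h2 : classInner ((fun e : E => ((lam e : ℂˣ) : ℂ)) * fun h : E => θ h)
          (fun h : E => χ h) =
          classInner (fun e : E => θ e) ((fun e : E => ((lam⁻¹ e : ℂˣ) : ℂ)) * fun h : E => χ h) := by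
        unfold classInner
        congr 1
        apply Finset.sum_congr rfl
        intro e _
        simp only [Pi.mul_apply, map_mul]
        have h3 : conj ((((lam⁻¹) e : ℂˣ) : ℂ)) = ((lam e : ℂˣ) : ℂ) := by
          have h4 : (lam e : ℂˣ) ^ Nat.card E = 1 := by
            rw [← map_pow, pow_card_eq_one', map_one]
          have h5 : ‖((lam e : ℂˣ) : ℂ)‖ = 1 := by
            have h6 : ((lam e : ℂˣ) : ℂ) ^ Nat.card E = 1 := by
              rw [← Units.val_pow_eq_pow_val, h4, Units.val_one]
            exact Complex.norm_eq_one_of_pow_eq_one h6 Nat.card_pos.ne'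
          rw [MonoidHom.inv_apply, Units.val_inv_eq_inv_val, map_inv₀]
          rw [← Complex.inv_eq_conj h5, inv_inv]
        rw [h3]
        ring
      rw [h2]
      apply hE E p hp hEl
      exact IsCharacter.mul (isCharacter_of_hom lam⁻¹) (IsCharacter.restrict hχ E)
    | zero =>
      rw [zero_mul]
      have : classInner (0 : G → ℂ) χ = 0 := by
        unfold classInner
        simp
      rw [this]
      exact R.zero_mem
    | add x y _ _ hx hy =>
      have : classInner ((x + y) * θ) χ = classInner (x * θ) χ + classInner (y * θ) χ := by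
        unfold classInner
        rw [← mul_add, ← Finset.sum_add_distrib]
        congr 1
        apply Finset.sum_congr rfl
        intro g _
        simp only [Pi.mul_apply, Pi.add_apply]
        ring
      rw [this]
      exact R.add_mem hx hy
    | neg x _ hx =>
      have : classInner ((-x) * θ) χ = - classInner (x * θ) χ := by
        unfold classInner
        rw [← mul_neg, ← Finset.sum_neg_distrib]
        congr 1
        apply Finset.sum_congr rfl
        intro g _
        simp only [Pi.mul_apply, Pi.neg_apply]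
        ring
      rw [this]
      exact R.neg_mem hx
  have := key 1 h1
  rwa [one_mul] at this

end brauerLocal

section compHom

variable {E : Type u} [Group E] [Fintype E] {B : Type u} [Group B] [Fintype B]

/-- If the coefficients of a class function `β` of `B` lie in an additive subgroup `R`, so do the
inner products of its pull-back along a homomorphism with all characters. -/
theorem classInner_comp_hom_mem (R : AddSubgroup ℂ) (f : E →* B) {β : B → ℂ}
    (hβ : IsClassFunction B β)
    (hR : ∀ μ : IrrCharacter B, classInner β (μ : B → ℂ) ∈ R) {ψ : E → ℂ} (hψ : IsCharacter E ψ) :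
    classInner (β ∘ f) ψ ∈ R := by
  classical
  let _ := fintypeIrr B
  have h1 := classFunction_eq_sum hβ
  have h2 : β ∘ f = ∑ μ : IrrCharacter B, classInner β (μ : B → ℂ) • ((μ : B → ℂ) ∘ f) := by
    funext e
    have h3 := congrFun h1 (f e)
    rw [Function.comp_apply, h3, Finset.sum_apply, Finset.sum_apply]
    rfl
  rw [h2, classInner_sum_left]
  apply AddSubgroup.sum_mem
  intro μ _
  rw [classInner_smul_left]
  obtain ⟨k, hk⟩ := IsCharacter.classInner_nat
    (IsCharacter.comp_hom (IsIrrCharacter.isCharacter μ.2) f) hψ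
  rw [hk, mul_comm, ← nsmul_eq_mul]
  exact R.nsmul_mem (hR μ) k

end compHom

section powHom

/-- On an elementary group whose order divides `m * n` (`m`, `n` coprime), raising to a power `c`
with `c ≡ 0 mod m` and `c ≡ 1 mod n` is multiplicative. -/
theorem elementary_pow_mul {q : ℕ} (hq : q.Prime) {E : Type u} [Group E] [Finite E]
    (hE : IsElementary q E) {m n c : ℕ} (hmn : Nat.Coprime m n) (hcard : Nat.card E ∣ m * n)
    (hcm : m ∣ c) (hcn : c ≡ 1 [MOD n]) (x y : E) : (x * y) ^ c = x ^ c * y ^ c := by
  have : Fact q.Prime := ⟨hq⟩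
  obtain ⟨z, hzc, hcop, k, hk⟩ := hE
  have hZc : Subgroup.zpowers z ≤ Subgroup.center E := by
    rw [Subgroup.zpowers_le]; exact hzc
  obtain ⟨P⟩ : Nonempty (Sylow q E) := inferInstance
  have hcardE : Nat.card E = Nat.card (Subgroup.zpowers z) * q ^ k := by
    rw [← hk, Subgroup.card_mul_index]
  have hnd : ¬ q ∣ Nat.card (Subgroup.zpowers z) := by
    rw [Nat.card_zpowers]
    exact (Nat.Prime.coprime_iff_not_dvd hq).mp hcop.symm
  have hfac : (Nat.card E).factorization q = k := by
    rw [hcardE, Nat.factorization_mul Nat.card_pos.ne' (pow_ne_zero _ hq.ne_zero),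
      Finsupp.add_apply, Nat.factorization_eq_zero_of_not_dvd hnd,
      Nat.Prime.factorization_pow hq]
    simp
  have hPcard : Nat.card (P : Subgroup E) = q ^ k := by
    rw [Sylow.card_eq_multiplicity, hfac]
  have hPZ : Subgroup.IsComplement' (P : Subgroup E) (Subgroup.zpowers z) := by
    apply Subgroup.isComplement'_of_coprime
    · rw [hPcard, hcardE, mul_comm]
    · rw [hPcard, Nat.card_zpowers]
      exact Nat.Coprime.pow_left k hcop.symm
  -- the power map on `P`
  have hqk : q ^ k ∣ m * n := Dvd.dvd.trans ⟨Nat.card (Subgroup.zpowers z), by rw [hcardE, mul_comm]⟩ hcard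
  have hPpow : ∀ u ∈ (P : Subgroup E), u ^ (q ^ k) = 1 := by
    intro u hu
    have h1 : (⟨u, hu⟩ : (P : Subgroup E)) ^ Nat.card (P : Subgroup E) = 1 := pow_card_eq_one'
    rw [hPcard] at h1
    exact congrArg Subtype.val h1
  have hP : (∀ u ∈ (P : Subgroup E), u ^ c = 1) ∨ (∀ u ∈ (P : Subgroup E), u ^ c = u) := by
    by_cases hqm : q ∣ m
    · left
      have hqn : Nat.Coprime (q ^ k) n := by
        apply Nat.Coprime.pow_left
        exact Nat.Coprime.coprime_dvd_left hqm hmn
      have h1 : q ^ k ∣ m := hqn.dvd_of_dvd_mul_right hqk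
      intro u hu
      obtain ⟨d, hd⟩ := h1.trans hcm
      rw [hd, pow_mul, hPpow u hu, one_pow]
    · right
      have hqm' : Nat.Coprime (q ^ k) m := by
        apply Nat.Coprime.pow_left
        exact (Nat.Prime.coprime_iff_not_dvd hq).mpr hqm
      have h1 : q ^ k ∣ n := hqm'.dvd_of_dvd_mul_left hqk
      intro u hu
      have h2 : orderOf u ∣ n := (orderOf_dvd_of_pow_eq_one (hPpow u hu)).trans h1
      have h3 : c ≡ 1 [MOD orderOf u] := Nat.ModEq.of_dvd h2 hcn
      have h4 := pow_eq_pow_iff_modEq.mpr h3
      rw [h4, pow_one]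
  have hPmul : ∀ u ∈ (P : Subgroup E), ∀ u' ∈ (P : Subgroup E), (u * u') ^ c = u ^ c * u' ^ c := by
    intro u hu u' hu'
    rcases hP with h | h
    · rw [h u hu, h u' hu', h (u * u') (mul_mem hu hu'), one_mul]
    · rw [h u hu, h u' hu', h (u * u') (mul_mem hu hu')]
  obtain ⟨⟨u, w⟩, huw⟩ := hPZ.2 x
  obtain ⟨⟨u', w'⟩, huw'⟩ := hPZ.2 y
  have hx : (u : E) * (w : E) = x := huw
  have hy : (u' : E) * (w' : E) = y := huw'
  have hwc : ∀ g : E, Commute g (w : E) := fun g =>
    (Subgroup.mem_center_iff.mp (hZc w.2) g)
  have hwc' : ∀ g : E, Commute g (w' : E) := fun g =>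
    (Subgroup.mem_center_iff.mp (hZc w'.2) g)
  have hxy : x * y = ((u : E) * (u' : E)) * ((w : E) * (w' : E)) := by
    rw [← hx, ← hy]
    calc (u : E) * w * (u' * w') = u * (w * u') * w' := by group
      _ = u * (u' * w) * w' := by rw [(hwc (u' : E)).eq]
      _ = _ := by group
  have hc1 : Commute ((u : E) * (u' : E)) ((w : E) * (w' : E)) :=
    (hwc _).mul_right (hwc' _)
  rw [hxy, hc1.mul_pow, hPmul u u.2 u' u'.2, (hwc' (w : E)).mul_pow, ← hx, ← hy,
    (hwc (u : E)).mul_pow, (hwc' (u' : E)).mul_pow]
  have hc2 : Commute ((u' : E) ^ c) ((w : E) ^ c) := ((hwc (u' : E)).pow_right c).pow_left c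
  calc (u : E) ^ c * (u' : E) ^ c * ((w : E) ^ c * (w' : E) ^ c)
      = (u : E) ^ c * ((u' : E) ^ c * (w : E) ^ c) * (w' : E) ^ c := by group
    _ = (u : E) ^ c * ((w : E) ^ c * (u' : E) ^ c) * (w' : E) ^ c := by rw [hc2.eq]
    _ = _ := by group


end powHom

end Cfsg.Agent.Lib.Helper6
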