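import Mathlib
import Cfsg.Prelude.Def_ClassicalGeometry
import Cfsg.Prelude.Def_GeometricClasses
import Cfsg.Agent.Lib.Helper5.NDMax
import Cfsg.Agent.Lib.Helper25.OmegaNonMax
import Cfsg.Agent.Lib.Helper1.C3ODefs
import Cfsg.Agent.Lib.Helper1.C3OCalc
import Cfsg.Agent.Lib.Helper6.C3OPcore
import Cfsg.Agent.Lib.Lead.C3OG123
import Cfsg.Agent.Lib.Helper20.C3OSC

/-!
S5700 leaf P (owner helper1; notes/S5700_leaves.lean), exact form: the core form of
`C3OPcore` fed with the landed leaves G1 (lead) and SC (helper20).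
-/

set_option autoImplicit false
set_option linter.unusedSectionVars false
set_option linter.unusedVariables false

namespace Cfsg.Agent.Lib.Helper6.C3OLeaf
open Module QuadraticMap Matrix Cfsg.Agent.Lib.Helper25.CD Cfsg.Agent.Lib.Helper25.Spin
  Cfsg.Agent.Lib.Helper25.Fam Cfsg.Agent.Lib.Helper25.Siegel
  Cfsg.Agent.Lib.Helper25.PS Cfsg.Agent.Lib.Helper25.OGeom Cfsg.Agent.Lib.Helper15
  Cfsg.Agent.Lib.Helper5.TSMax Cfsg.Agent.Lib.Helper5.NSMax Cfsg.Agent.Lib.Helper5.PairMax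
  Cfsg.Agent.Lib.Helper5.NDMax Cfsg.Agent.Lib.Helper1.C3O

variable {ι : Type} [Fintype ι] [DecidableEq ι] {F : Type*} [Field F] [Fintype F]
  {Q : QuadraticForm F (ι → F)}

/-- P : properness -/
theorem exists_omega_not_nrm (hQ : (polarBilin Q).Nondegenerate) (hn : 13 ≤ Fintype.card ι)
    {t ν : F} {J : Matrix ι ι F} (hJ : CS Q t ν J) :
    ∃ g : ↥(Cfsg.isometryGroup F ⇑Q), g ∈ Cfsg.Omega F ⇑Q ∧ ¬ Nrm J (g : GL ι F) :=
  exists_omega_not_nrm_of
    (fun l hl => Cfsg.Agent.Lib.Lead.C3OLeaf.exists_hyp_perp_list hQ l hl)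
    (fun hu hy hy0 hb h1 h2 h3 h4 m hm =>
      Cfsg.Agent.Lib.Helper20.C3OLeaf.spread_calc hJ hu hy hy0 hb h1 h2 h3 h4 m hm) hQ hn hJ

end Cfsg.Agent.Lib.Helper6.C3OLeaf
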