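/-
helper6: character triple reduction, part B (pure group theory): for a central subgroup `A` of `Δ`
inside a normal subgroup `D` with `|Δ : D|` prime to `|D : A|`, Schur–Zassenhaus (twice) gives
`D = P × H` with `P ≤ A`, `H ⊴ Δ` and a complement `S` of `H` in `Δ` with `(|H|, |S|) = 1` and
`S ∩ D ≤ A`.
-/
import Mathlib

set_option autoImplicit false

namespace Cfsg.Agent.Lib.Helper6.CTriple

universe u

theorem coprime_of_forall_prime_dvd {a b k : ℕ} (ha : ∀ q : ℕ, q.Prime → q ∣ a → q ∣ k)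
    (hb : b.Coprime k) : a.Coprime b := by
  by_contra h
  obtain ⟨q, hq, hqa, hqb⟩ := Nat.Prime.not_coprime_iff_dvd.mp h
  have h1 : q ∣ k := ha q hq hqa
  have := Nat.Coprime.eq_one_of_dvd (Nat.Coprime.coprime_dvd_left hqb hb) h1
  exact hq.one_lt.ne' this

theorem eq_one_of_pow_eq_one_of_coprime {X : Type*} [Group X] {x : X} {a b : ℕ}
    (hab : a.Coprime b) (ha : x ^ a = 1) (hb : x ^ b = 1) : x = 1 := by
  have h := pow_gcd_eq_one.mpr ⟨ha, hb⟩
  rw [Nat.Coprime.gcd_eq_one hab, pow_one] at h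
  exact h

variable {Δ : Type u} [Group Δ] [Finite Δ]

/-- The Hall part of a central subgroup for the primes dividing `k`. -/
theorem exists_hall_part (A : Subgroup Δ) (hAZ : A ≤ Subgroup.center Δ) (k : ℕ) :
    ∃ P : Subgroup Δ, P ≤ A ∧ (∀ x ∈ P, ∃ j : ℕ, x ^ (k ^ j) = 1) ∧
      (∀ q : ℕ, q.Prime → q ∣ Nat.card P → q ∣ k) ∧ (P.relIndex A).Coprime k := by
  classical
  let P : Subgroup Δ :=
    { carrier := {x | x ∈ A ∧ ∃ j : ℕ, x ^ (k ^ j) = 1}
      one_mem' := ⟨A.one_mem, 0, one_pow _⟩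
      mul_mem' := by
        rintro x y ⟨hx, i, hi⟩ ⟨hy, j, hj⟩
        refine ⟨A.mul_mem hx hy, i + j, ?_⟩
        have hc : Commute x y := (Subgroup.mem_center_iff.mp (hAZ hx) y).symm
        rw [hc.mul_pow, pow_add, pow_mul, hi, one_pow, mul_comm (k ^ i), pow_mul, hj, one_pow,
          one_mul]
      inv_mem' := by
        rintro x ⟨hx, i, hi⟩
        exact ⟨A.inv_mem hx, i, by rw [inv_pow, hi, inv_one]⟩ }
  have hPmem : ∀ x, x ∈ P ↔ x ∈ A ∧ ∃ j : ℕ, x ^ (k ^ j) = 1 := fun x => Iff.rfl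
  refine ⟨P, fun x hx => hx.1, fun x hx => hx.2, ?_, ?_⟩
  · intro q hq hqP
    haveI : Fact q.Prime := ⟨hq⟩
    obtain ⟨x, hx⟩ := exists_prime_orderOf_dvd_card' q hqP
    obtain ⟨j, hj⟩ := x.2.2
    have h1 : orderOf (x : Δ) ∣ k ^ j := orderOf_dvd_of_pow_eq_one hj
    rw [Subgroup.orderOf_coe, hx] at h1
    exact hq.dvd_of_dvd_pow h1
  · by_contra h
    obtain ⟨q, hq, hq1, hq2⟩ := Nat.Prime.not_coprime_iff_dvd.mp h
    haveI : Fact q.Prime := ⟨hq⟩
    haveI : (P.subgroupOf A).Normal := by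
      constructor
      intro n hn g
      rw [Subgroup.mem_subgroupOf] at hn ⊢
      have hc : (g : Δ) * (n : Δ) = (n : Δ) * (g : Δ) :=
        (Subgroup.mem_center_iff.mp (hAZ n.2) (g : Δ))
      have : ((g * n * g⁻¹ : A) : Δ) = (n : Δ) := by
        push_cast
        rw [hc, mul_inv_cancel_right]
      rw [this]
      exact hn
    have hq1' : q ∣ Nat.card (A ⧸ P.subgroupOf A) := hq1
    obtain ⟨y, hy⟩ := exists_prime_orderOf_dvd_card' q hq1'
    obtain ⟨a, rfl⟩ := QuotientGroup.mk_surjective y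
    have h1 : ((a ^ q : A) : A ⧸ P.subgroupOf A) = 1 := by
      rw [QuotientGroup.mk_pow, ← hy, pow_orderOf_eq_one]
    rw [QuotientGroup.eq_one_iff, Subgroup.mem_subgroupOf] at h1
    obtain ⟨j, hj⟩ := h1.2
    obtain ⟨c, hc⟩ := hq2
    have h2 : (a : Δ) ∈ P := by
      refine ⟨a.2, j + 1, ?_⟩
      have : k ^ (j + 1) = q * (k ^ j * c) := by rw [pow_succ, hc]; ring
      rw [this, pow_mul, pow_mul]
      push_cast at hj
      rw [hj, one_pow]
    have h3 : (a : A ⧸ P.subgroupOf A) = 1 := by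
      rw [QuotientGroup.eq_one_iff, Subgroup.mem_subgroupOf]
      exact h2
    rw [h3, orderOf_one] at hy
    exact hq.one_lt.ne' hy.symm

/-- **Schur–Zassenhaus structure** of a central extension with coprime indices. -/
theorem exists_hall_complements (D A : Subgroup Δ) [hD : D.Normal] (hAD : A ≤ D)
    (hAZ : A ≤ Subgroup.center Δ) (hcop : (D.index).Coprime (A.relIndex D)) :
    ∃ P H S : Subgroup Δ, P ≤ A ∧ H ≤ D ∧ H.Normal ∧
      (∀ d ∈ D, ∃ z ∈ P, ∃ h ∈ H, d = z * h) ∧ P ⊓ H = ⊥ ∧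
      (Nat.card H).Coprime (Nat.card S) ∧ (∀ x : Δ, ∃ h ∈ H, ∃ s ∈ S, x = h * s) ∧
      S ⊓ D ≤ A := by
  classical
  set k := D.index with hk
  obtain ⟨P, hPA, hPpow, hPprime, hPrel⟩ := exists_hall_part A hAZ k
  have hPD : P ≤ D := hPA.trans hAD
  have hPZ : P ≤ Subgroup.center Δ := hPA.trans hAZ
  -- index computations
  have hrel : P.relIndex D = P.relIndex A * A.relIndex D :=
    (Subgroup.relIndex_mul_relIndex P A D hPA hAD).symm
  have hrelcop : (P.relIndex D).Coprime k := by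
    rw [hrel]
    exact Nat.Coprime.mul_left hPrel hcop.symm
  have hPcop : (Nat.card P).Coprime (P.relIndex D) :=
    coprime_of_forall_prime_dvd hPprime hrelcop
  -- first complement
  haveI hP'n : (P.subgroupOf D).Normal := by
    constructor
    intro n hn g
    rw [Subgroup.mem_subgroupOf] at hn ⊢
    have hc : (g : Δ) * (n : Δ) = (n : Δ) * (g : Δ) :=
      (Subgroup.mem_center_iff.mp (hPZ hn) (g : Δ))
    have : ((g * n * g⁻¹ : D) : Δ) = (n : Δ) := by
      push_cast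
      rw [hc, mul_inv_cancel_right]
    rw [this]
    exact hn
  have hcardP' : Nat.card (P.subgroupOf D) = Nat.card P :=
    Nat.card_congr (Subgroup.subgroupOfEquivOfLe hPD).toEquiv
  obtain ⟨H', hc1⟩ := Subgroup.exists_right_complement'_of_coprime (N := P.subgroupOf D) (by
    rw [hcardP']
    exact hPcop)
  set H : Subgroup Δ := H'.map D.subtype with hH
  have hHD : H ≤ D := by
    rintro _ ⟨h, -, rfl⟩
    exact h.2
  have hcardH' : Nat.card H' = P.relIndex D := (hc1.symm.index_eq_card).symm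
  have hcardH : Nat.card H = P.relIndex D := by
    rw [← hcardH']
    exact (Nat.card_congr (H'.equivMapOfInjective D.subtype D.subtype_injective).toEquiv).symm
  have hHk : (Nat.card H).Coprime k := by rw [hcardH]; exact hrelcop
  have hPH : (Nat.card P).Coprime (Nat.card H) := by rw [hcardH]; exact hPcop
  have hdec : ∀ d ∈ D, ∃ z ∈ P, ∃ h ∈ H, d = z * h := by
    intro d hd
    obtain ⟨⟨z, h⟩, hzh⟩ := (Subgroup.isComplement'_def.mp hc1).2 ⟨d, hd⟩
    refine ⟨(z : D), z.2, (h : D), ⟨(h : D), h.2, rfl⟩, ?_⟩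
    have := congrArg (fun x : D => (x : Δ)) hzh
    exact this.symm
  have hdisj : P ⊓ H = ⊥ := by
    rw [eq_bot_iff]
    rintro x ⟨hxP, ⟨h, hhH, rfl⟩⟩
    have h1 : h ∈ P.subgroupOf D ⊓ H' := ⟨hxP, hhH⟩
    rw [hc1.disjoint.eq_bot, Subgroup.mem_bot] at h1
    rw [Subgroup.mem_bot, h1]
    rfl
  have hHpow : ∀ h ∈ H, h ^ Nat.card H = 1 := by
    intro h hh
    have := pow_card_eq_one' (G := H) (x := ⟨h, hh⟩)
    exact congrArg (fun x : H => (x : Δ)) this
  have hHn : H.Normal := by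
    constructor
    intro h hh x
    have hxD : x * h * x⁻¹ ∈ D := hD.conj_mem h (hHD hh) x
    obtain ⟨z, hz, h₁, hh₁, he⟩ := hdec _ hxD
    have hcz : Commute z h₁ := (Subgroup.mem_center_iff.mp (hPZ hz) h₁).symm
    have h1 : (x * h * x⁻¹) ^ Nat.card H = 1 := by
      rw [conj_pow, hHpow h hh, mul_one, mul_inv_cancel]
    rw [he, hcz.mul_pow, hHpow h₁ hh₁, mul_one] at h1
    obtain ⟨j, hj⟩ := hPpow z hz
    have hz1 : z = 1 := eq_one_of_pow_eq_one_of_coprime (Nat.Coprime.pow_right j hHk) h1 hj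
    rw [he, hz1, one_mul]
    exact hh₁
  -- second complement
  have hsubH : H.subgroupOf D = H' := by
    rw [hH]
    exact Subgroup.comap_map_eq_self_of_injective D.subtype_injective H'
  have hrelH : H.relIndex D = Nat.card P := by
    change (H.subgroupOf D).index = _
    rw [hsubH, hc1.index_eq_card, hcardP']
  have hindexH : H.index = Nat.card P * k := by
    rw [← Subgroup.relIndex_mul_index hHD, hrelH]
  have hHcop : (Nat.card H).Coprime H.index := by
    rw [hindexH]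
    exact Nat.Coprime.mul_right hPH.symm hHk
  obtain ⟨S, hc2⟩ := Subgroup.exists_right_complement'_of_coprime (N := H) hHcop
  have hcardS : Nat.card S = H.index := (hc2.symm.index_eq_card).symm
  have hHS : (Nat.card H).Coprime (Nat.card S) := by rw [hcardS]; exact hHcop
  have hdec2 : ∀ x : Δ, ∃ h ∈ H, ∃ s ∈ S, x = h * s := by
    intro x
    obtain ⟨⟨h, s⟩, hhs⟩ := (Subgroup.isComplement'_def.mp hc2).2 x
    exact ⟨h, h.2, s, s.2, hhs.symm⟩
  have hSpow : ∀ s ∈ S, s ^ Nat.card S = 1 := by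
    intro s hs
    have := pow_card_eq_one' (G := S) (x := ⟨s, hs⟩)
    exact congrArg (fun x : S => (x : Δ)) this
  refine ⟨P, H, S, hPA, hHD, hHn, hdec, hdisj, hHS, hdec2, ?_⟩
  rintro s ⟨hsS, hsD⟩
  obtain ⟨z, hz, h₁, hh₁, he⟩ := hdec s hsD
  have hcz : Commute z h₁ := (Subgroup.mem_center_iff.mp (hPZ hz) h₁).symm
  have h1 := hSpow s hsS
  rw [he, hcz.mul_pow] at h1
  have h2 : h₁ ^ Nat.card S ∈ P ⊓ H := by
    refine ⟨?_, H.pow_mem hh₁ _⟩
    have : h₁ ^ Nat.card S = (z ^ Nat.card S)⁻¹ := eq_inv_of_mul_eq_one_right h1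
    rw [this]
    exact P.inv_mem (P.pow_mem hz _)
  rw [hdisj, Subgroup.mem_bot] at h2
  have h3 : h₁ = 1 := eq_one_of_pow_eq_one_of_coprime hHS (hHpow h₁ hh₁) h2
  rw [he, h3, mul_one]
  exact hPA hz

end Cfsg.Agent.Lib.Helper6.CTriple
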