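/-
helper6: character triple reduction, part C: the central case. `A ≤ Z(Δ)`, `A ≤ D ⊴ Δ` with
`|Δ : D|` prime to `|D : A|` and `Δ/D` or `D/A` solvable; then every linear character `μ` of `A` lies
under a `Δ`-invariant irreducible character of `D`.
-/
import Mathlib
import Cfsg.Agent.Lib.Helper6.CTripleA
import Cfsg.Agent.Lib.Helper6.CTripleB
import Cfsg.Agent.Lib.Helper6.LinChar
import Cfsg.Agent.Lib.Lead.CharProd
import Cfsg.Agent.S4448
import Cfsg.Agent.S4449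

set_option autoImplicit false

namespace Cfsg.Agent.Lib.Helper6.CTriple

open Cfsg Cfsg.Agent.CharLib Cfsg.Agent.Lib.Helper24 Cfsg.Agent.Lib.Helper6
open scoped ComplexConjugate

universe u

variable {Δ : Type u} [Group Δ] [Finite Δ]

theorem normal_of_le_center {A : Subgroup Δ} (hAZ : A ≤ Subgroup.center Δ) : A.Normal := by
  constructor
  intro n hn g
  have hc : g * n = n * g := Subgroup.mem_center_iff.mp (hAZ hn) g
  rw [hc, mul_inv_cancel_right]
  exact hn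

/-- **The central case**. -/
theorem central_case (D A : Subgroup Δ) [hD : D.Normal] [hA : A.Normal] (hAD : A ≤ D)
    (hAZ : A ≤ Subgroup.center Δ) (hcop : (D.index).Coprime (A.relIndex D))
    (hsolv : Group.IsSolvable (Δ ⧸ D) ∨ Group.IsSolvable (D ⧸ A.subgroupOf D)) (μ : A →* ℂˣ) :
    ∃ β : IrrCharacter D,
      (∀ (a : A) (d : D), (β : D → ℂ) (⟨a, hAD a.2⟩ * d) = ((μ a : ℂˣ) : ℂ) * (β : D → ℂ) d) ∧
      ∀ (x : Δ) (d : D), (β : D → ℂ) ⟨x * d * x⁻¹, hD.conj_mem d d.2 x⟩ = (β : D → ℂ) d := by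
  classical
  obtain ⟨P, H, S, hPA, hHD, hHn, hdec, hdisj, hHS, hdec2, hSD⟩ :=
    exists_hall_complements D A hAD hAZ hcop
  haveI := hHn
  letI : Fintype Δ := Fintype.ofFinite Δ
  letI : Fintype H := Fintype.ofFinite H
  letI : Fintype (A ⊓ H : Subgroup Δ) := Fintype.ofFinite _
  have hcomm : ∀ a ∈ A, ∀ x : Δ, x * a = a * x := fun a ha x =>
    Subgroup.mem_center_iff.mp (hAZ ha) x
  haveI hAHn : (A ⊓ H).Normal := normal_of_le_center (inf_le_left.trans hAZ)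
  -- the linear character `μ` on elements
  let mu : ∀ x : Δ, x ∈ A → ℂ := fun x hx => ((μ ⟨x, hx⟩ : ℂˣ) : ℂ)
  have mu_mul : ∀ (x y : Δ) (hx : x ∈ A) (hy : y ∈ A),
      mu (x * y) (A.mul_mem hx hy) = mu x hx * mu y hy := by
    intro x y hx hy
    change ((μ ⟨x * y, _⟩ : ℂˣ) : ℂ) = ((μ ⟨x, hx⟩ : ℂˣ) : ℂ) * ((μ ⟨y, hy⟩ : ℂˣ) : ℂ)
    rw [← Units.val_mul, ← map_mul]
    rfl
  have mu_congr : ∀ (x y : Δ) (hx : x ∈ A) (hy : y ∈ A), x = y → mu x hx = mu y hy := by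
    intro x y hx hy h
    subst h
    rfl
  -- the character of `A ⊓ H`
  let μ₀ : (A ⊓ H : Subgroup Δ) →* ℂˣ := μ.comp (Subgroup.inclusion inf_le_left)
  let θ₀ : IrrCharacter (A ⊓ H : Subgroup Δ) :=
    ⟨fun n => ((μ₀ n : ℂˣ) : ℂ), isIrrCharacter_of_hom μ₀⟩
  have hθ₀ : ∀ n : (A ⊓ H : Subgroup Δ), (θ₀ : (A ⊓ H : Subgroup Δ) → ℂ) n = mu n n.2.1 :=
    fun n => rfl
  have hinv₀ : ∀ s ∈ S, ∀ g g' : (A ⊓ H : Subgroup Δ), (g' : Δ) = s * g * s⁻¹ →
      (θ₀ : (A ⊓ H : Subgroup Δ) → ℂ) g' = (θ₀ : (A ⊓ H : Subgroup Δ) → ℂ) g := by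
    intro s _ g g' hgg
    have : g' = g := by
      apply Subtype.ext
      rw [hgg, hcomm g g.2.1 s, mul_inv_cancel_right]
    rw [this]
  have hnorm : ∀ s ∈ S, ∀ g ∈ H, s * g * s⁻¹ ∈ H := fun s _ g hg => hHn.conj_mem g hg s
  have hNS : ∀ s ∈ S, ∀ n ∈ A ⊓ H, s * n * s⁻¹ ∈ A ⊓ H := fun s _ n hn => hAHn.conj_mem n hn s
  -- the invariant character of `H`
  obtain ⟨η, hηover, hηinv⟩ : ∃ η : IrrCharacter H,
      classInner (fun n : (A ⊓ H : Subgroup Δ) => (η : H → ℂ) ⟨n, n.2.2⟩)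
        (θ₀ : (A ⊓ H : Subgroup Δ) → ℂ) ≠ 0 ∧
      ∀ s ∈ S, ∀ g g' : H, (g' : Δ) = s * g * s⁻¹ → (η : H → ℂ) g' = (η : H → ℂ) g := by
    rcases hsolv with hsolv | hsolv
    · -- `S` is solvable
      have hSsolv : Group.IsSolvable S := by
        let g : S →* Δ ⧸ D := (QuotientGroup.mk' D).comp S.subtype
        haveI : Group.IsSolvable g.ker := by
          apply Group.isSolvable_of_comm
          intro a b
          have ha : ((a : S) : Δ) ∈ A := by
            apply hSD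
            refine ⟨(a : S).2, ?_⟩
            have := a.2
            rw [MonoidHom.mem_ker] at this
            change ((((a : S) : Δ)) : Δ ⧸ D) = 1 at this
            rwa [QuotientGroup.eq_one_iff] at this
          apply Subtype.ext
          apply Subtype.ext
          push_cast
          exact (hcomm _ ha _).symm
        exact Group.isSolvable_of_ker_le_range g.ker.subtype g (by rw [Subgroup.range_subtype])
      exact Cfsg.Agent.S4449.result H S (A ⊓ H) hnorm inf_le_right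
        (fun g _ n hn => hAHn.conj_mem n hn g) hNS hHS hSsolv θ₀ hinv₀
    · -- `H / (A ⊓ H)` is solvable
      have hHsolv : Group.IsSolvable (H ⧸ (A ⊓ H).subgroupOf H) := by
        let φ : H →* D ⧸ A.subgroupOf D := (QuotientGroup.mk' _).comp (Subgroup.inclusion hHD)
        have hle : (A ⊓ H).subgroupOf H ≤ φ.ker := by
          intro x hx
          rw [MonoidHom.mem_ker]
          change ((Subgroup.inclusion hHD x : D) : D ⧸ A.subgroupOf D) = 1
          rw [QuotientGroup.eq_one_iff, Subgroup.mem_subgroupOf]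
          exact hx.1
        let f : H ⧸ (A ⊓ H).subgroupOf H →* D ⧸ A.subgroupOf D :=
          QuotientGroup.lift _ φ hle
        apply Group.isSolvable_of_isSolvable_injective (f := f)
        rw [injective_iff_map_eq_one]
        intro y hy
        obtain ⟨x, rfl⟩ := QuotientGroup.mk_surjective y
        change ((Subgroup.inclusion hHD x : D) : D ⧸ A.subgroupOf D) = 1 at hy
        rw [QuotientGroup.eq_one_iff, Subgroup.mem_subgroupOf] at hy
        rw [QuotientGroup.eq_one_iff, Subgroup.mem_subgroupOf]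
        exact ⟨hy, x.2⟩
      have hcop' : ((A ⊓ H).relIndex H).Coprime (Nat.card S) := by
        apply Nat.Coprime.coprime_dvd_left _ hHS
        exact Subgroup.index_dvd_card _
      exact Cfsg.Agent.S4448.result H S (A ⊓ H) hnorm inf_le_right hNS hcop' hHsolv θ₀ hinv₀
  -- `η` on `A ⊓ H`
  have hη1 : ∀ (z : Δ) (hzA : z ∈ A) (hzH : z ∈ H) (h : H),
      (η : H → ℂ) (⟨z, hzH⟩ * h) = mu z hzA * (η : H → ℂ) h := by
    have hZc : (A ⊓ H).subgroupOf H ≤ Subgroup.center H := by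
      intro x hx
      rw [Subgroup.mem_center_iff]
      intro y
      apply Subtype.ext
      push_cast
      exact hcomm _ hx.1 _
    obtain ⟨lam, hlam⟩ := exists_centralHom η ((A ⊓ H).subgroupOf H) hZc
    let ε : (A ⊓ H : Subgroup Δ) ≃* (A ⊓ H).subgroupOf H :=
      (Subgroup.subgroupOfEquivOfLe inf_le_right).symm
    have hε : ∀ n : (A ⊓ H : Subgroup Δ), (((ε n : (A ⊓ H).subgroupOf H) : H) : Δ) = n := by
      intro n
      have : Subgroup.subgroupOfEquivOfLe inf_le_right (ε n) = n := MulEquiv.apply_symm_apply _ n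
      rw [← this]
      rfl
    let L : (A ⊓ H : Subgroup Δ) →* ℂˣ := lam.comp ε.toMonoidHom
    have hLirr : IsIrrCharacter (A ⊓ H : Subgroup Δ) (fun n => ((L n : ℂˣ) : ℂ)) :=
      isIrrCharacter_of_hom L
    have hres : (fun n : (A ⊓ H : Subgroup Δ) => (η : H → ℂ) ⟨n, n.2.2⟩) =
        ((η : H → ℂ) 1) • (fun n => ((L n : ℂˣ) : ℂ)) := by
      funext n
      have h1 := hlam (ε n) 1
      rw [mul_one] at h1
      have h2 : (⟨(n : Δ), n.2.2⟩ : H) = ((ε n : (A ⊓ H).subgroupOf H) : H) := by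
        apply Subtype.ext
        exact (hε n).symm
      rw [h2, h1, Pi.smul_apply, smul_eq_mul, mul_comm]
      rfl
    rw [hres, classInner_smul_left, classInner_irr hLirr θ₀.2] at hηover
    have hLθ : (fun n => ((L n : ℂˣ) : ℂ)) = (θ₀ : (A ⊓ H : Subgroup Δ) → ℂ) := by
      by_contra hne
      rw [if_neg hne, mul_zero] at hηover
      exact hηover rfl
    intro z hzA hzH h
    have h1 := hlam (ε ⟨z, ⟨hzA, hzH⟩⟩) h
    have h2 : ((ε ⟨z, ⟨hzA, hzH⟩⟩ : (A ⊓ H).subgroupOf H) : H) = ⟨z, hzH⟩ := by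
      apply Subtype.ext
      exact hε ⟨z, ⟨hzA, hzH⟩⟩
    rw [h2] at h1
    rw [h1]
    congr 1
    have h3 := congrFun hLθ ⟨z, ⟨hzA, hzH⟩⟩
    rw [hθ₀] at h3
    exact h3
  -- the product decomposition of `D`
  have hPD : P ≤ D := hPA.trans hAD
  let m₀ : P × H →* Δ := MonoidHom.noncommCoprod P.subtype H.subtype
    (fun z h => ((hcomm z (hPA z.2) h).symm : (z : Δ) * (h : Δ) = (h : Δ) * (z : Δ)))
  have hm₀ : ∀ x : P × H, m₀ x = (x.1 : Δ) * (x.2 : Δ) := fun x => rfl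
  let m : P × H →* D := m₀.codRestrict D (fun x => by
    rw [hm₀]
    exact D.mul_mem (hPD x.1.2) (hHD x.2.2))
  have hm : ∀ x : P × H, ((m x : D) : Δ) = (x.1 : Δ) * (x.2 : Δ) := fun x => rfl
  have hmbij : Function.Bijective m := by
    constructor
    · rw [injective_iff_map_eq_one]
      intro x hx
      have h1 : (x.1 : Δ) * (x.2 : Δ) = 1 := by
        rw [← hm, hx]
        rfl
      have h2 : (x.2 : Δ) ∈ P ⊓ H := by
        refine ⟨?_, x.2.2⟩
        have : (x.2 : Δ) = (x.1 : Δ)⁻¹ := eq_inv_of_mul_eq_one_right h1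
        rw [this]
        exact P.inv_mem x.1.2
      rw [hdisj, Subgroup.mem_bot] at h2
      rw [h2, mul_one] at h1
      apply Prod.ext
      · exact Subtype.ext h1
      · exact Subtype.ext h2
    · intro d
      obtain ⟨z, hz, h, hh, he⟩ := hdec d d.2
      refine ⟨(⟨z, hz⟩, ⟨h, hh⟩), ?_⟩
      apply Subtype.ext
      rw [hm]
      exact he.symm
  let e : P × H ≃* D := MulEquiv.ofBijective m hmbij
  let μP : P →* ℂˣ := μ.comp (Subgroup.inclusion hPA)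
  have hψ : IsIrrCharacter (P × H) (fun x => ((μP x.1 : ℂˣ) : ℂ) * (η : H → ℂ) x.2) :=
    IsIrrCharacter.prod (isIrrCharacter_of_hom μP) η.2
  let β : IrrCharacter D :=
    ⟨(fun x : P × H => ((μP x.1 : ℂˣ) : ℂ) * (η : H → ℂ) x.2) ∘ e.symm,
      isIrrCharacter_comp_mulEquiv' e.symm hψ⟩
  have hβ : ∀ (z h : Δ) (hz : z ∈ P) (hh : h ∈ H) (hd : z * h ∈ D),
      (β : D → ℂ) ⟨z * h, hd⟩ = mu z (hPA hz) * (η : H → ℂ) ⟨h, hh⟩ := by
    intro z h hz hh hd
    have h1 : e.symm ⟨z * h, hd⟩ = (⟨z, hz⟩, ⟨h, hh⟩) := by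
      rw [MulEquiv.symm_apply_eq]
      apply Subtype.ext
      rfl
    change (fun x : P × H => ((μP x.1 : ℂˣ) : ℂ) * (η : H → ℂ) x.2) (e.symm ⟨z * h, hd⟩) = _
    rw [h1]
    rfl
  have hβcf : IsClassFunction D (β : D → ℂ) :=
    IsCharacter.isClassFunction (IsIrrCharacter.isCharacter β.2)
  refine ⟨β, ?_, ?_⟩
  · intro a d
    obtain ⟨z, hz, h, hh, he⟩ := hdec d d.2
    obtain ⟨z₀, hz₀, h₀, hh₀, he₀⟩ := hdec a (hAD a.2)
    have hh₀A : h₀ ∈ A := by
      have : h₀ = z₀⁻¹ * a := by rw [he₀, inv_mul_cancel_left]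
      rw [this]
      exact A.mul_mem (A.inv_mem (hPA hz₀)) a.2
    have e1 : ((⟨a, hAD a.2⟩ * d : D) : Δ) = (z₀ * z) * (h₀ * h) := by
      push_cast
      rw [he, he₀]
      have := hcomm z (hPA hz) h₀
      calc z₀ * h₀ * (z * h) = z₀ * (h₀ * z) * h := by group
        _ = z₀ * (z * h₀) * h := by rw [this]
        _ = z₀ * z * (h₀ * h) := by group
    have e2 : (⟨a, hAD a.2⟩ * d : D) = ⟨(z₀ * z) * (h₀ * h), by rw [← e1]; exact (_ : D).2⟩ :=
      Subtype.ext e1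
    have e3 : d = ⟨z * h, by rw [← he]; exact d.2⟩ := Subtype.ext he
    rw [e2, hβ (z₀ * z) (h₀ * h) (P.mul_mem hz₀ hz) (H.mul_mem hh₀ hh)]
    conv_rhs => rw [e3, hβ z h hz hh]
    have e4 : (⟨h₀ * h, H.mul_mem hh₀ hh⟩ : H) = ⟨h₀, hh₀⟩ * ⟨h, hh⟩ := rfl
    rw [e4, hη1 h₀ hh₀A hh₀, mu_mul z₀ z (hPA hz₀) (hPA hz)]
    have e5 : ((μ a : ℂˣ) : ℂ) = mu z₀ (hPA hz₀) * mu h₀ hh₀A := by
      rw [← mu_mul]
      exact mu_congr _ _ a.2 _ he₀
    rw [e5]
    ring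
  · intro x d
    obtain ⟨h₁, hh₁, s, hs, hx⟩ := hdec2 x
    obtain ⟨z, hz, h, hh, he⟩ := hdec d d.2
    have hshs : s * h * s⁻¹ ∈ H := hHn.conj_mem h hh s
    have e1 : x * (d : Δ) * x⁻¹ = h₁ * (z * (s * h * s⁻¹)) * h₁⁻¹ := by
      rw [hx, he]
      have := hcomm z (hPA hz) s
      calc h₁ * s * (z * h) * (h₁ * s)⁻¹ = h₁ * ((s * z) * h * s⁻¹) * h₁⁻¹ := by group
        _ = h₁ * ((z * s) * h * s⁻¹) * h₁⁻¹ := by rw [this]
        _ = h₁ * (z * (s * h * s⁻¹)) * h₁⁻¹ := by group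
    have hd' : z * (s * h * s⁻¹) ∈ D := D.mul_mem (hPD hz) (hHD hshs)
    have e2 : (⟨x * (d : Δ) * x⁻¹, hD.conj_mem d d.2 x⟩ : D) =
        ⟨h₁, hHD hh₁⟩ * ⟨z * (s * h * s⁻¹), hd'⟩ * ⟨h₁, hHD hh₁⟩⁻¹ := by
      apply Subtype.ext
      push_cast
      exact e1
    have e3 : d = ⟨z * h, by rw [← he]; exact d.2⟩ := Subtype.ext he
    rw [e2, hβcf, hβ z (s * h * s⁻¹) hz hshs]
    conv_rhs => rw [e3, hβ z h hz hh]
    congr 1
    exact hηinv s hs ⟨h, hh⟩ ⟨s * h * s⁻¹, hshs⟩ rfl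

end Cfsg.Agent.Lib.Helper6.CTriple
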