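/-
helper6: character triple reduction, part D: `N ≤ G` normal in `Γ` with `|Γ : G|` prime to `|G : N|`
and `Γ/G` or `G/N` solvable; every `Γ`-invariant `θ ∈ Irr(N)` lies under a `Γ`-invariant
irreducible character of `G`. Reduction to the central case through the finite central extension.
-/
import Mathlib
import Cfsg.Agent.Lib.Helper6.CTripleC
import Cfsg.Agent.Lib.Helper6.Gallagher2
import Cfsg.Agent.Lib.Helper2.GlaubRel
import Cfsg.Agent.Lib.Helper23.CentralProdB

set_option autoImplicit false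

namespace Cfsg.Agent.Lib.Helper6.CTriple

open Cfsg Cfsg.Agent.CharLib Cfsg.Agent.Lib.Helper24 Cfsg.Agent.Lib.Helper6
  Cfsg.Agent.Lib.Helper2.Glaub Cfsg.Agent.Lib.Helper23
open scoped ComplexConjugate

universe u

variable {Γ : Type u} [Group Γ] [Finite Γ]

/-- **Invariant constituents over invariant characters** (Isaacs, Problem 13.10). -/
theorem exists_invariant_over (G N : Subgroup Γ) [hG : G.Normal] [hN : N.Normal] [Fintype N]
    (hNG : N ≤ G) (hcop : (G.index).Coprime (N.relIndex G))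
    (hsolv : Group.IsSolvable (Γ ⧸ G) ∨ Group.IsSolvable (G ⧸ N.subgroupOf G))
    (θ : IrrCharacter N)
    (hinv : ∀ (x : Γ) (n : N), (θ : N → ℂ) ⟨x * n * x⁻¹, hN.conj_mem n n.2 x⟩ = (θ : N → ℂ) n) :
    ∃ χ : IrrCharacter G, classInner (fun n : N => (χ : G → ℂ) ⟨n, hNG n.2⟩) (θ : N → ℂ) ≠ 0 ∧
      ∀ (x : Γ) (g : G), (χ : G → ℂ) ⟨x * g * x⁻¹, hG.conj_mem g g.2 x⟩ = (χ : G → ℂ) g := by
  classical
  obtain ⟨E, hEg, hEf, π, ι, τ, hπ, hZc, hπι, hιn, hτθ⟩ := exists_central_extension' N θ hinv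
  haveI := hιn
  letI : Fintype E := Fintype.ofFinite E
  -- the subgroups of `E`
  set N₁ : Subgroup E := ι.range with hN₁
  set Z : Subgroup E := π.ker with hZ
  set EG : Subgroup E := G.comap π with hEG
  haveI hEGn : EG.Normal := hG.comap π
  have hN₁EG : N₁ ≤ EG := by
    rintro _ ⟨n, rfl⟩
    change π (ι n) ∈ G
    rw [hπι]
    exact hNG n.2
  have hZEG : Z ≤ EG := by
    intro z hz
    change π z ∈ G
    rw [MonoidHom.mem_ker.mp hz]
    exact G.one_mem
  have hsup : Z ⊔ N₁ = N.comap π := by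
    apply le_antisymm
    · apply sup_le
      · intro z hz
        change π z ∈ N
        rw [MonoidHom.mem_ker.mp hz]
        exact N.one_mem
      · rintro _ ⟨n, rfl⟩
        change π (ι n) ∈ N
        rw [hπι]
        exact n.2
    · intro e he
      have he' : π e ∈ N := he
      have h1 : e * (ι ⟨π e, he'⟩)⁻¹ ∈ Z := by
        rw [hZ, MonoidHom.mem_ker, map_mul, map_inv, hπι, mul_inv_cancel]
      have h2 : e = (e * (ι ⟨π e, he'⟩)⁻¹) * ι ⟨π e, he'⟩ := by group
      rw [h2]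
      exact Subgroup.mul_mem_sup h1 ⟨_, rfl⟩
  have hdisjZ : ∀ z ∈ Z, z ∈ N₁ → z = 1 := by
    rintro _ hz ⟨n, rfl⟩
    have h1 : π (ι n) = 1 := MonoidHom.mem_ker.mp hz
    rw [hπι] at h1
    have : n = 1 := Subtype.ext h1
    rw [this, map_one]
  -- the quotient
  let mk : E →* E ⧸ N₁ := QuotientGroup.mk' N₁
  have hmk : Function.Surjective mk := QuotientGroup.mk'_surjective N₁
  have hmkker : mk.ker = N₁ := QuotientGroup.ker_mk' N₁
  set D : Subgroup (E ⧸ N₁) := EG.map mk with hD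
  set A : Subgroup (E ⧸ N₁) := Z.map mk with hA
  haveI hDn : D.Normal := hEGn.map mk hmk
  haveI hAn : A.Normal := (MonoidHom.normal_ker π).map mk hmk
  have hAD : A ≤ D := Subgroup.map_mono hZEG
  have hAZ : A ≤ Subgroup.center (E ⧸ N₁) := by
    rintro _ ⟨z, hz, rfl⟩
    rw [Subgroup.mem_center_iff]
    intro y
    obtain ⟨e, rfl⟩ := hmk y
    rw [← map_mul, ← map_mul, Subgroup.mem_center_iff.mp (hZc hz) e]
  have hcomapD : D.comap mk = EG := by
    rw [hD, Subgroup.comap_map_eq, hmkker]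
    exact sup_eq_left.mpr hN₁EG
  have hcomapA : A.comap mk = N.comap π := by
    rw [hA, Subgroup.comap_map_eq, hmkker]
    exact hsup
  have hindexD : D.index = G.index := by
    rw [← Subgroup.index_comap_of_surjective D hmk, hcomapD, hEG,
      Subgroup.index_comap_of_surjective G hπ]
  have hrelA : A.relIndex D = N.relIndex G := by
    have h1 : (A.comap mk).relIndex EG = A.relIndex D := Subgroup.relIndex_comap A mk EG
    have h2 : (N.comap π).relIndex EG = N.relIndex (EG.map π) := Subgroup.relIndex_comap N π EG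
    rw [← h1, hcomapA, h2, hEG, Subgroup.map_comap_eq_self_of_surjective hπ]
  have hcop' : (D.index).Coprime (A.relIndex D) := by
    rw [hindexD, hrelA]
    exact hcop
  -- the restrictions to `EG`
  let πG : EG →* G := π.subgroupComap G
  have hπG : Function.Surjective πG := π.subgroupComap_surjective_of_surjective G hπ
  have hπGcoe : ∀ x : EG, ((πG x : G) : Γ) = π (x : E) := fun x => rfl
  let mkG : EG →* D := mk.subgroupMap EG
  have hmkG : Function.Surjective mkG := mk.subgroupMap_surjective EG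
  have hmkGcoe : ∀ x : EG, ((mkG x : D) : E ⧸ N₁) = mk (x : E) := fun x => rfl
  have hsolv' : Group.IsSolvable ((E ⧸ N₁) ⧸ D) ∨ Group.IsSolvable (D ⧸ A.subgroupOf D) := by
    rcases hsolv with hs | hs
    · left
      apply isSolvable_of_surjective_of_ker_le ((QuotientGroup.mk' G).comp π)
        ((QuotientGroup.mk'_surjective G).comp hπ) ((QuotientGroup.mk' D).comp mk)
        ((QuotientGroup.mk'_surjective D).comp hmk)
      intro e he
      rw [MonoidHom.mem_ker] at he ⊢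
      change ((π e : Γ) : Γ ⧸ G) = 1 at he
      rw [QuotientGroup.eq_one_iff] at he
      change ((mk e : E ⧸ N₁) : (E ⧸ N₁) ⧸ D) = 1
      rw [QuotientGroup.eq_one_iff]
      exact ⟨e, he, rfl⟩
    · right
      apply isSolvable_of_surjective_of_ker_le ((QuotientGroup.mk' (N.subgroupOf G)).comp πG)
        ((QuotientGroup.mk'_surjective _).comp hπG)
        ((QuotientGroup.mk' (A.subgroupOf D)).comp mkG)
        ((QuotientGroup.mk'_surjective _).comp hmkG)
      intro x hx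
      rw [MonoidHom.mem_ker] at hx ⊢
      change ((πG x : G) : G ⧸ N.subgroupOf G) = 1 at hx
      rw [QuotientGroup.eq_one_iff, Subgroup.mem_subgroupOf, hπGcoe] at hx
      change ((mkG x : D) : D ⧸ A.subgroupOf D) = 1
      rw [QuotientGroup.eq_one_iff, Subgroup.mem_subgroupOf, hmkGcoe]
      have : (x : E) ∈ A.comap mk := by
        rw [hcomapA]
        exact hx
      exact this
  -- the central character and `μ`
  obtain ⟨lam, hlam⟩ := exists_centralHom τ Z hZc
  let mkZ : Z →* A := mk.subgroupMap Z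
  have hmkZbij : Function.Bijective mkZ := by
    refine ⟨?_, mk.subgroupMap_surjective Z⟩
    rw [injective_iff_map_eq_one]
    intro z hz
    have h1 : mk (z : E) = 1 := congrArg (fun a : A => (a : E ⧸ N₁)) hz
    have h2 : (z : E) ∈ N₁ := by
      rw [← hmkker, MonoidHom.mem_ker]
      exact h1
    exact Subtype.ext (hdisjZ z z.2 h2)
  let eZ : Z ≃* A := MulEquiv.ofBijective mkZ hmkZbij
  let μ : A →* ℂˣ := (lam⁻¹).comp eZ.symm.toMonoidHom
  have hμ : ∀ (z : Z) (hz : mk (z : E) ∈ A), μ ⟨mk (z : E), hz⟩ = (lam z)⁻¹ := by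
    intro z hz
    have h1 : eZ.symm ⟨mk (z : E), hz⟩ = z := by
      rw [MulEquiv.symm_apply_eq]
      rfl
    change (lam⁻¹) (eZ.symm ⟨mk (z : E), hz⟩) = _
    rw [h1]
    rfl
  obtain ⟨β, hβA, hβinv⟩ := central_case D A hAD hAZ hcop' hsolv' μ
  -- the characters of `EG`
  letI : Fintype EG := Fintype.ofFinite EG
  let ιG : N →* EG := ι.codRestrict EG (fun n => hN₁EG ⟨n, rfl⟩)
  have hιGcoe : ∀ n : N, ((ιG n : EG) : E) = ι n := fun n => rfl
  let τ' : EG → ℂ := (τ : E → ℂ) ∘ EG.subtype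
  have hτ'c : IsCharacter EG τ' := IsCharacter.comp_hom (IsIrrCharacter.isCharacter τ.2) EG.subtype
  have hτ'ι : τ' ∘ ιG = (θ : N → ℂ) := by
    funext n
    exact hτθ n
  have hτ'irr : IsIrrCharacter EG τ' := by
    apply isIrrCharacter_of_comp_hom ιG hτ'c
    rw [hτ'ι]
    exact θ.2
  let β' : EG → ℂ := (β : D → ℂ) ∘ mkG
  have hβ'irr : IsIrrCharacter EG β' := IsIrrCharacter.comp_surjective β.2 mkG hmkG
  -- Gallagher
  let N₁' : Subgroup EG := N₁.subgroupOf EG
  haveI : N₁'.Normal := Subgroup.normal_subgroupOf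
  letI : Fintype N₁' := Fintype.ofFinite _
  let ιN : N →* N₁' := ιG.codRestrict N₁' (fun n => by
    change ((ιG n : EG) : E) ∈ N₁
    exact ⟨n, rfl⟩)
  have hτ'N : IsIrrCharacter N₁' (resFun N₁' τ') := by
    have hc : IsCharacter N₁' (resFun N₁' τ') := IsCharacter.comp_hom hτ'c N₁'.subtype
    apply isIrrCharacter_of_comp_hom ιN hc
    have : resFun N₁' τ' ∘ ιN = (θ : N → ℂ) := by
      funext n
      exact hτθ n
    rw [this]
    exact θ.2
  have hβ'N : ∀ n : N₁', β' (n : EG) = β' 1 := by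
    intro n
    have h1 : mkG (n : EG) = 1 := by
      apply Subtype.ext
      rw [hmkGcoe]
      change mk ((n : EG) : E) = 1
      rw [← MonoidHom.mem_ker, hmkker]
      exact n.2
    change (β : D → ℂ) (mkG (n : EG)) = (β : D → ℂ) (mkG 1)
    rw [h1, map_one]
  have hβ'1 : β' 1 ≠ 0 := irr_apply_one_ne_zero ⟨β', hβ'irr⟩
  have hβ'over : classInner (indFun N₁' (1 : N₁' → ℂ)) β' ≠ 0 := by
    rw [classInner_indFun_one N₁' (IsCharacter.isClassFunction (IsIrrCharacter.isCharacter hβ'irr)),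
      Finset.sum_congr rfl (fun n _ => hβ'N n), Finset.sum_const, Finset.card_univ, nsmul_eq_mul,
      ← Nat.card_eq_fintype_card]
    have hN0 : (Nat.card N₁' : ℂ) ≠ 0 := by exact_mod_cast (Nat.card_pos (α := N₁')).ne'
    apply mul_ne_zero (inv_ne_zero hN0)
    rw [Ne, map_eq_zero]
    exact mul_ne_zero hN0 hβ'1
  have hprod : IsIrrCharacter EG (β' * τ') :=
    ((gallagher_bijOn N₁' hτ'irr hτ'N).mapsTo ⟨hβ'irr, hβ'over⟩).1
  let χ'' : IrrCharacter EG := ⟨β' * τ', hprod⟩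
  have hχ'' : ∀ x : EG, (χ'' : EG → ℂ) x = (β : D → ℂ) (mkG x) * (τ : E → ℂ) (x : E) :=
    fun x => rfl
  -- `χ''` is trivial on the kernel of `πG`
  have hker : ∀ k ∈ πG.ker, (χ'' : EG → ℂ) k = (χ'' : EG → ℂ) 1 := by
    intro k hk
    have hkZ : (k : E) ∈ Z := by
      rw [hZ, MonoidHom.mem_ker, ← hπGcoe, MonoidHom.mem_ker.mp hk]
      rfl
    have hkA : mk (k : E) ∈ A := ⟨(k : E), hkZ, rfl⟩
    have h1 := hβA ⟨mk (k : E), hkA⟩ 1
    have h2 := hlam ⟨(k : E), hkZ⟩ 1
    rw [mul_one] at h1 h2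
    rw [hχ'', hχ'']
    have h3 : mkG k = ⟨mk (k : E), hAD hkA⟩ := Subtype.ext (hmkGcoe k)
    rw [h3, h1]
    change _ * (τ : E → ℂ) (k : E) = _
    change (τ : E → ℂ) (k : E) = _ at h2
    rw [h2, hμ ⟨(k : E), hkZ⟩ hkA, map_one]
    have h4 : ((lam ⟨(k : E), hkZ⟩ : ℂˣ) : ℂ) ≠ 0 := Units.ne_zero _
    push_cast
    field_simp
  obtain ⟨χ, hχ⟩ := exists_deflation_hom πG hπG χ'' hker
  have hτcf : IsClassFunction E (τ : E → ℂ) :=
    IsCharacter.isClassFunction (IsIrrCharacter.isCharacter τ.2)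
  refine ⟨χ, ?_, ?_⟩
  · have hres : (fun n : N => (χ : G → ℂ) ⟨n, hNG n.2⟩) =
        ((β : D → ℂ) 1) • (θ : N → ℂ) := by
      funext n
      have h1 : (⟨(n : Γ), hNG n.2⟩ : G) = πG (ιG n) := by
        apply Subtype.ext
        rw [hπGcoe, hιGcoe, hπι]
      have h2 : mkG (ιG n) = 1 := by
        apply Subtype.ext
        rw [hmkGcoe, hιGcoe]
        change mk (ι n) = 1
        rw [← MonoidHom.mem_ker, hmkker]
        exact ⟨n, rfl⟩
      rw [h1, hχ, hχ'', hιGcoe, hτθ, Pi.smul_apply, smul_eq_mul, h2]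
    rw [hres, classInner_smul_left, classInner_irr θ.2 θ.2, if_pos rfl, mul_one]
    exact irr_apply_one_ne_zero β
  · intro x g
    obtain ⟨e, rfl⟩ := hπ x
    obtain ⟨f, rfl⟩ := hπG g
    have hconj : e * (f : E) * e⁻¹ ∈ EG := hEGn.conj_mem f f.2 e
    have h1 : (⟨π e * ((πG f : G) : Γ) * (π e)⁻¹, hG.conj_mem _ (πG f).2 (π e)⟩ : G) =
        πG ⟨e * (f : E) * e⁻¹, hconj⟩ := by
      apply Subtype.ext
      change π e * π (f : E) * (π e)⁻¹ = π (e * (f : E) * e⁻¹)
      rw [map_mul, map_mul, map_inv]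
    rw [h1, hχ, hχ, hχ'', hχ'']
    change _ * (τ : E → ℂ) (e * (f : E) * e⁻¹) = _
    rw [hτcf]
    congr 1
    have h2 : mkG ⟨e * (f : E) * e⁻¹, hconj⟩ =
        ⟨mk e * ((mkG f : D) : E ⧸ N₁) * (mk e)⁻¹, hDn.conj_mem _ (mkG f).2 (mk e)⟩ := by
      apply Subtype.ext
      change mk (e * (f : E) * e⁻¹) = mk e * mk (f : E) * (mk e)⁻¹
      rw [map_mul, map_mul, map_inv]
    rw [h2]
    exact hβinv (mk e) (mkG f)

end Cfsg.Agent.Lib.Helper6.CTriple
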