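/-
helper6: character triple reduction, part E: the Gallagher correspondent of a character over an
invariant character, living on a central extension of the quotient.
-/
import Mathlib
import Cfsg.Agent.Lib.Helper6.CTripleA
import Cfsg.Agent.Lib.Helper6.Gallagher2
import Cfsg.Agent.Lib.Helper23.CentralProdB
import Cfsg.Agent.Lib.Lead.CharMore

set_option autoImplicit false

namespace Cfsg.Agent.Lib.Helper6.CTriple

open Cfsg Cfsg.Agent.CharLib Cfsg.Agent.Lib.Helper24 Cfsg.Agent.Lib.Helper6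
  Cfsg.Agent.Lib.Helper23
open scoped ComplexConjugate

universe u

variable {G : Type u} [Group G] [Finite G]

/-- **Projective correspondent**: for `χ ∈ Irr(G | θ)` with `θ ∈ Irr(N)` invariant there are a finite
group `Ē` with a surjection onto `G / N` with central kernel and `β ∈ Irr(Ē)` with
`χ(1) = β(1) θ(1)`. -/
theorem exists_projective_correspondent (N : Subgroup G) [hN : N.Normal] [Fintype N]
    (θ : IrrCharacter N)
    (hinv : ∀ (g : G) (n : N), (θ : N → ℂ) ⟨g * n * g⁻¹, hN.conj_mem n n.2 g⟩ = (θ : N → ℂ) n)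
    (χ : IrrCharacter G) (hχ : classInner (fun n : N => (χ : G → ℂ) n) (θ : N → ℂ) ≠ 0) :
    ∃ (Eb : Type u) (_ : Group Eb) (_ : Finite Eb) (φ : Eb →* G ⧸ N) (β : IrrCharacter Eb),
      Function.Surjective φ ∧ φ.ker ≤ Subgroup.center Eb ∧
      charDegree (χ : G → ℂ) = charDegree (β : Eb → ℂ) * charDegree (θ : N → ℂ) := by
  classical
  obtain ⟨E, hEg, hEf, π, ι, τ, hπ, hZc, hι, hιn, hτθ⟩ := exists_central_extension' N θ hinv
  haveI := hιn
  let _ := Fintype.ofFinite G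
  let _ := Fintype.ofFinite E
  set N₁ : Subgroup E := ι.range with hN₁
  let _ : Fintype N₁ := Fintype.ofFinite _
  have hιinj : Function.Injective ι := by
    intro a b hab
    apply Subtype.ext
    rw [← hι a, ← hι b, hab]
  set ψ : IrrCharacter E := ⟨(χ : G → ℂ) ∘ π, IsIrrCharacter.comp_surjective χ.2 π hπ⟩ with hψdef
  have hψ : ∀ e : E, (ψ : E → ℂ) e = (χ : G → ℂ) (π e) := fun e => rfl
  let α : N ≃* N₁ := MonoidHom.ofInjective hιinj
  have hα : ∀ n : N, ((α n : N₁) : E) = ι n := fun n => rfl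
  have hτN : IsIrrCharacter N₁ (resFun N₁ (τ : E → ℂ)) := by
    have h1 : IsIrrCharacter N₁ ((θ : N → ℂ) ∘ α.symm) := IsIrrCharacter.comp_mulEquiv θ.2 α.symm
    have h2 : resFun N₁ (τ : E → ℂ) = (θ : N → ℂ) ∘ α.symm := by
      funext x
      obtain ⟨n, rfl⟩ := α.surjective x
      change (τ : E → ℂ) ((α n : N₁) : E) = (θ : N → ℂ) (α.symm (α n))
      rw [hα, hτθ, MulEquiv.symm_apply_apply]
    rw [h2]
    exact h1
  have hψτ : classInner (resFun N₁ (ψ : E → ℂ)) (resFun N₁ (τ : E → ℂ)) ≠ 0 := by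
    have h1 : classInner (resFun N₁ (ψ : E → ℂ)) (resFun N₁ (τ : E → ℂ)) =
        classInner (fun n : N => (χ : G → ℂ) n) (θ : N → ℂ) := by
      unfold classInner
      have hc : Nat.card N₁ = Nat.card N := (Nat.card_congr α.toEquiv).symm
      rw [hc]
      congr 1
      symm
      apply Fintype.sum_equiv α.toEquiv
      intro n
      change (χ : G → ℂ) n * conj ((θ : N → ℂ) n) =
        (ψ : E → ℂ) ((α n : N₁) : E) * conj ((τ : E → ℂ) ((α n : N₁) : E))
      rw [hα, hτθ, hψ, hι]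
    rw [h1]
    exact hχ
  obtain ⟨hγirr, hγmul, hγover⟩ := (gallagher_avg N₁ τ.2 hτN ψ.2).1 hψτ
  set γ : E → ℂ := avgMulConj N₁ (ψ : E → ℂ) (τ : E → ℂ) with hγ
  obtain ⟨-, hγinv⟩ := apply_mul_of_indFun_one_ne_zero N₁ hγirr hγover
  have hγker : ∀ n ∈ N₁, ((⟨γ, hγirr⟩ : IrrCharacter E) : E → ℂ) n =
      ((⟨γ, hγirr⟩ : IrrCharacter E) : E → ℂ) 1 := by
    intro n hn
    have := hγinv ⟨n, hn⟩ 1
    simpa using this
  obtain ⟨β, hβ⟩ := exists_deflation N₁ ⟨γ, hγirr⟩ hγker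
  have hτ1 : (τ : E → ℂ) 1 = (θ : N → ℂ) 1 := by
    have := hτθ 1
    rwa [map_one] at this
  have hdeg : charDegree (χ : G → ℂ) = charDegree (β : E ⧸ N₁ → ℂ) * charDegree (θ : N → ℂ) := by
    have h1 : (χ : G → ℂ) 1 = (β : E ⧸ N₁ → ℂ) 1 * (θ : N → ℂ) 1 := by
      have h2 := congrFun hγmul 1
      rw [Pi.mul_apply] at h2
      have h3 := hβ 1
      change (β : E ⧸ N₁ → ℂ) 1 = γ 1 at h3
      rw [h3, ← hτ1, h2, hψ, map_one]
    rw [irr_apply_one χ, irr_apply_one β, irr_apply_one θ] at h1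
    exact_mod_cast h1
  have hle : N₁ ≤ N.comap π := by
    rintro x ⟨n, rfl⟩
    rw [Subgroup.mem_comap, hι]
    exact n.2
  set πq : E ⧸ N₁ →* G ⧸ N := QuotientGroup.map N₁ N π hle with hπq
  have hπq_mk : ∀ x : E, πq (x : E ⧸ N₁) = ((π x : G) : G ⧸ N) := fun x => rfl
  have hπqs : Function.Surjective πq := by
    intro y
    obtain ⟨y', rfl⟩ := QuotientGroup.mk_surjective y
    obtain ⟨x, rfl⟩ := hπ y'
    exact ⟨(x : E ⧸ N₁), rfl⟩
  have hkerq : πq.ker ≤ (π.ker).map (QuotientGroup.mk' N₁) := by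
    intro y hy
    obtain ⟨x, rfl⟩ := QuotientGroup.mk_surjective y
    rw [MonoidHom.mem_ker, hπq_mk, QuotientGroup.eq_one_iff] at hy
    refine ⟨x * (ι ⟨π x, hy⟩)⁻¹, ?_, ?_⟩
    · rw [SetLike.mem_coe, MonoidHom.mem_ker, map_mul, map_inv, hι]
      simp
    · change ((x * (ι ⟨π x, hy⟩)⁻¹ : E) : E ⧸ N₁) = (x : E ⧸ N₁)
      rw [QuotientGroup.eq]
      have : (x * (ι ⟨π x, hy⟩)⁻¹)⁻¹ * x = ι ⟨π x, hy⟩ := by group
      rw [this]
      exact ⟨_, rfl⟩
  have hZcq : πq.ker ≤ Subgroup.center (E ⧸ N₁) := by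
    intro y hy
    obtain ⟨z, hz, rfl⟩ := hkerq hy
    rw [Subgroup.mem_center_iff]
    intro w
    obtain ⟨w', rfl⟩ := QuotientGroup.mk_surjective w
    have := (Subgroup.mem_center_iff.mp (hZc hz)) w'
    change ((w' * z : E) : E ⧸ N₁) = ((z * w' : E) : E ⧸ N₁)
    rw [this]
  exact ⟨E ⧸ N₁, inferInstance, inferInstance, πq, β, hπqs, hZcq, hdeg⟩

end Cfsg.Agent.Lib.Helper6.CTriple
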