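import Mathlib

/-!
Möbius inversion over the powerset lattice of a finite set (alternating sums), with values in `ℂ`.
Written for S2314 (helper27's Steinberg count of `p`-elements): from
`∑_{K ⊆ J} (-1)^|K| f K = g J` (all `J ⊆ S`) to `f J = ∑_{K ⊆ J} (-1)^|K| g K`.
-/

set_option autoImplicit false

namespace Cfsg.Agent.Lib.Helper6.PowMobius

open Finset

variable {ι : Type*} [DecidableEq ι]

/-- `∑_{L ⊆ K ⊆ J} (-1)^|K| = (-1)^|L| [L = J]` -/
theorem sum_between (J L : Finset ι) (hL : L ⊆ J) :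
    ∑ K ∈ J.powerset.filter (fun K => L ⊆ K), (-1 : ℂ) ^ K.card =
      if L = J then (-1 : ℂ) ^ L.card else 0 := by
  have himg : J.powerset.filter (fun K => L ⊆ K) = (J \ L).powerset.image (fun K' => K' ∪ L) := by
    ext K
    simp only [mem_filter, mem_powerset, mem_image]
    constructor
    · rintro ⟨hKJ, hLK⟩
      refine ⟨K \ L, sdiff_subset_sdiff hKJ (subset_refl L), ?_⟩
      exact sdiff_union_of_subset hLK
    · rintro ⟨K', hK', rfl⟩
      refine ⟨union_subset (hK'.trans sdiff_subset) hL, subset_union_right⟩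
  have hinj : Set.InjOn (fun K' => K' ∪ L) ((J \ L).powerset : Set (Finset ι)) := by
    intro A hA B hB hAB
    have hA' : Disjoint A L := by
      rw [mem_coe, mem_powerset] at hA
      exact disjoint_of_subset_left hA sdiff_disjoint
    have hB' : Disjoint B L := by
      rw [mem_coe, mem_powerset] at hB
      exact disjoint_of_subset_left hB sdiff_disjoint
    have h1 : (A ∪ L) \ L = (B ∪ L) \ L := by
      have : A ∪ L = B ∪ L := hAB
      rw [this]
    rwa [union_sdiff_cancel_right hA', union_sdiff_cancel_right hB'] at h1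
  rw [himg, sum_image hinj]
  have h1 : ∀ K' ∈ (J \ L).powerset, (-1 : ℂ) ^ (K' ∪ L).card = (-1 : ℂ) ^ L.card * (-1 : ℂ) ^ K'.card := by
    intro K' hK'
    have hd : Disjoint K' L := disjoint_of_subset_left (mem_powerset.1 hK') sdiff_disjoint
    rw [card_union_of_disjoint hd, pow_add, mul_comm]
  rw [sum_congr rfl h1, ← mul_sum]
  have h2 : ∑ K' ∈ (J \ L).powerset, (-1 : ℂ) ^ K'.card = if J \ L = ∅ then 1 else 0 := by
    have := sum_powerset_neg_one_pow_card (x := J \ L)
    have h3 : ((∑ m ∈ (J \ L).powerset, (-1 : ℤ) ^ m.card : ℤ) : ℂ) = ∑ K' ∈ (J \ L).powerset, (-1 : ℂ) ^ K'.card := by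
      push_cast
      rfl
    rw [← h3, this]
    split_ifs <;> simp
  rw [h2]
  by_cases hLJ : L = J
  · subst hLJ
    simp
  · have : J \ L ≠ ∅ := by
      intro h
      apply hLJ
      exact subset_antisymm hL (sdiff_eq_empty_iff_subset.1 h)
    rw [if_neg this, if_neg hLJ, mul_zero]

/-- Möbius inversion for alternating sums over the powerset -/
theorem mobius_inv (S : Finset ι) (f g : Finset ι → ℂ)
    (h : ∀ J ⊆ S, ∑ K ∈ J.powerset, (-1 : ℂ) ^ K.card * f K = g J) :
    ∀ J ⊆ S, f J = ∑ K ∈ J.powerset, (-1 : ℂ) ^ K.card * g K := by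
  intro J hJ
  have h1 : ∀ K ∈ J.powerset, (-1 : ℂ) ^ K.card * g K =
      ∑ L ∈ J.powerset, if L ⊆ K then (-1 : ℂ) ^ K.card * ((-1 : ℂ) ^ L.card * f L) else 0 := by
    intro K hK
    have hKJ : K ⊆ J := mem_powerset.1 hK
    rw [← h K (hKJ.trans hJ), mul_sum, ← sum_filter]
    apply sum_congr _ (fun _ _ => rfl)
    ext L
    simp only [mem_powerset, mem_filter]
    constructor
    · intro hLK
      exact ⟨hLK.trans hKJ, hLK⟩
    · exact fun h => h.2
  rw [sum_congr rfl h1, sum_comm]
  have h2 : ∀ L ∈ J.powerset,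
      (∑ K ∈ J.powerset, if L ⊆ K then (-1 : ℂ) ^ K.card * ((-1 : ℂ) ^ L.card * f L) else 0) =
        if L = J then f L else 0 := by
    intro L hL
    have hLJ : L ⊆ J := mem_powerset.1 hL
    rw [← sum_filter]
    have : ∀ K ∈ J.powerset.filter (fun K => L ⊆ K), (-1 : ℂ) ^ K.card * ((-1 : ℂ) ^ L.card * f L) =
        ((-1 : ℂ) ^ L.card * f L) * (-1 : ℂ) ^ K.card := fun K _ => mul_comm _ _
    rw [sum_congr rfl this, ← mul_sum, sum_between J L hLJ]
    split_ifs with hLJ'
    · rw [mul_comm, ← mul_assoc, ← pow_add, ← two_mul, pow_mul]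
      simp
    · rw [mul_zero]
  rw [sum_congr rfl h2, sum_ite_eq' J.powerset J (fun L => f L)]
  rw [if_pos (mem_powerset.2 (subset_refl J))]

end Cfsg.Agent.Lib.Helper6.PowMobius
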