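import Mathlib
import Cfsg.Agent.Lib.Helper27.StCountB
import Cfsg.Agent.Lib.Helper6.PowMobius
import Cfsg.Agent.Lib.Helper6.ChevStX1

/-!
helper6, for S2314 (helper27's Steinberg count of `p`-elements): the FINAL ARITHMETIC.
* `pCount_top_of_rel` (abstract): if the relative Steinberg sums `∑_{K ⊆ J} (-1)^|K| |P_J : P_K| u(P_K) = |U|` hold for all
  `J ⊆ S`, then `u(G) = |U| * St(1)` (Möbius inversion over the powerset).
* `card_pEl_of_crux` (Chevalley): with helper7's per-`J` crux as a hypothesis, the number of `p`-elements of a finite Chevalley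
  group of type G₂, B₂, D₄, F₄, E₆, E₇, E₈ is `q ^ (2 N)`.
-/

set_option autoImplicit false
set_option linter.unusedSectionVars false

namespace Cfsg.Agent.Lib.Helper6.ChevStFinal

open Cfsg Cfsg.Agent.Lib.Helper3.BN Cfsg.Agent.Lib.Helper6.BNSt Cfsg.Agent.Lib.Helper27.ParBN
  Cfsg.Agent.Lib.Helper27.StCount

universe u

section abstract

variable {G : Type u} [Group G] [Fintype G] (P : Cfsg.BNPair G) (p : ℕ) (U : Subgroup G)
  (Sfin : Finset G) (hSfin : (Sfin : Set G) = P.S)

theorem parabolic_mono {K J : Set G} (h : K ⊆ J) : P.parabolic K ≤ P.parabolic J :=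
  sup_le_sup_left (Subgroup.closure_mono h) _

/-- `|P_J : P_K| * |P_K| = |P_J|` -/
theorem index_mul_card {A B : Subgroup G} (h : A ≤ B) :
    (A.subgroupOf B).index * Nat.card A = Nat.card B := by
  have h1 := Subgroup.card_mul_index (A.subgroupOf B)
  rw [Nat.card_congr (Subgroup.subgroupOfEquivOfLe h).toEquiv] at h1
  rw [mul_comm]
  exact h1

theorem fixedPointCharacter_one (H : Subgroup G) :
    fixedPointCharacter H 1 = (Nat.card G : ℂ) / (Nat.card H : ℂ) := by
  have h1 : fixedPointCharacter H 1 = (H.index : ℂ) := by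
    unfold fixedPointCharacter
    congr 1
    unfold Subgroup.index
    apply Nat.card_congr
    exact
      { toFun := fun q => q.1
        invFun := fun q => ⟨q, by rw [MulAction.mem_fixedBy, one_smul]⟩
        left_inv := fun q => rfl
        right_inv := fun q => rfl }
  have h2 := Subgroup.card_mul_index H
  have hpos : (Nat.card H : ℂ) ≠ 0 := by
    have : 0 < Nat.card H := Nat.card_pos
    exact_mod_cast this.ne'
  rw [h1, eq_div_iff hpos, ← h2]
  push_cast
  ring

include hSfin in
/-- from the relative Steinberg sums to `u(G) = |U| * St(1)` -/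
theorem pCount_top_of_rel
    (hrel : ∀ J : Finset G, J ⊆ Sfin → ∑ K ∈ J.powerset, (-1 : ℂ) ^ K.card *
      ((((P.parabolic (K : Set G)).subgroupOf (P.parabolic (J : Set G))).index *
        pCount p (P.parabolic (K : Set G)) : ℕ) : ℂ) = (Nat.card U : ℂ)) :
    (pCount p (⊤ : Subgroup G) : ℂ) = (Nat.card U : ℂ) * stFun P Sfin 1 := by
  classical
  have hpos : ∀ H : Subgroup G, (Nat.card H : ℂ) ≠ 0 := by
    intro H
    have : 0 < Nat.card H := Nat.card_pos
    exact_mod_cast this.ne'
  have hinv := Cfsg.Agent.Lib.Helper6.PowMobius.mobius_inv Sfin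
    (fun K => (pCount p (P.parabolic (K : Set G)) : ℂ) / (Nat.card (P.parabolic (K : Set G)) : ℂ))
    (fun J => (Nat.card U : ℂ) / (Nat.card (P.parabolic (J : Set G)) : ℂ))
    (by
      intro J hJ
      rw [eq_div_iff (hpos _), ← hrel J hJ, Finset.sum_mul]
      apply Finset.sum_congr rfl
      intro K hK
      have hKJ : (K : Set G) ⊆ (J : Set G) := Finset.coe_subset.2 (Finset.mem_powerset.1 hK)
      have h1 := index_mul_card (parabolic_mono P hKJ)
      have h2 : (Nat.card (P.parabolic (J : Set G)) : ℂ) =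
          (((P.parabolic (K : Set G)).subgroupOf (P.parabolic (J : Set G))).index : ℂ) *
            (Nat.card (P.parabolic (K : Set G)) : ℂ) := by
        rw [← h1]; push_cast; rfl
      rw [h2]
      push_cast
      field_simp [hpos (P.parabolic (K : Set G))])
    Sfin (subset_refl _)
  have htop : P.parabolic ((Sfin : Finset G) : Set G) = ⊤ := by rw [hSfin, parabolic_S]
  rw [htop] at hinv
  have hG : (Nat.card (⊤ : Subgroup G) : ℂ) = (Nat.card G : ℂ) := by
    rw [Nat.card_congr (Subgroup.topEquiv (G := G)).toEquiv]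
  rw [hG] at hinv
  have hGpos : (Nat.card G : ℂ) ≠ 0 := by
    have : 0 < Nat.card G := Nat.card_pos
    exact_mod_cast this.ne'
  rw [div_eq_iff hGpos] at hinv
  rw [hinv]
  unfold stFun
  rw [Finset.sum_mul, Finset.mul_sum]
  apply Finset.sum_congr rfl
  intro K _
  rw [fixedPointCharacter_one]
  field_simp

end abstract

section chev

open Cfsg.Lie Cfsg.Agent.Lib.Helper7 Cfsg.Agent.Lib.Helper6.ChevStX1 Cfsg.Agent.Lib.Helper6.ChevSt

variable (D : ChevalleyDatum) (hD : D ∈ [chevG2, chevB2, chevD4, chevF4, chevE6, chevE7, chevE8])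
variable (F : Type*) [Field F] [Fintype F]
include hD

/-- the number of `p`-elements of a finite Chevalley group, from helper7's per-`J` crux -/
theorem card_pEl_of_crux (p : ℕ) [Fact p.Prime] [CharP F p]
    (hcrux : ∀ J : Finset ↥(D.group F), (J : Set ↥(D.group F)) ⊆ (chevBNPair D hD F).S →
      ∃ (O : Subgroup ↥(D.group F)) (n : ↥(D.group F)), O ≤ Uc D F ∧
        (∀ x ∈ (chevBNPair D hD F).parabolic (J : Set ↥(D.group F)), ∀ o ∈ O, x * o * x⁻¹ ∈ O) ∧
        n ∈ NJ (chevBNPair D hD F) (J : Set ↥(D.group F)) ∧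
        (∀ s ∈ J, ∃ g ∈ dc (chevBNPair D hD F) n, s * g ∈ dc (chevBNPair D hD F) n) ∧
        (∀ u ∈ Uc D F, n⁻¹ * u * n ∈ (chevBNPair D hD F).B → u ∈ O)) :
    Nat.card {g : ↥(D.group F) // ∃ k : ℕ, orderOf g = p ^ k} = Fintype.card F ^ (2 * (D.nroots / 2)) := by
  classical
  have hfin := finite_group D F
  letI : Fintype ↥(D.group F) := Fintype.ofFinite _
  have hrel : ∀ J : Finset ↥(D.group F), J ⊆ SfinChev D hD F → ∑ K ∈ J.powerset, (-1 : ℂ) ^ K.card *
      (((((chevBNPair D hD F).parabolic (K : Set ↥(D.group F))).subgroupOf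
          ((chevBNPair D hD F).parabolic (J : Set ↥(D.group F)))).index *
        pCount p ((chevBNPair D hD F).parabolic (K : Set ↥(D.group F))) : ℕ) : ℂ) = (Nat.card (Uc D F) : ℂ) := by
    intro J hJ
    have hJS : (J : Set ↥(D.group F)) ⊆ (chevBNPair D hD F).S := by
      rw [← coe_SfinChev D hD F]
      exact Finset.coe_subset.2 hJ
    obtain ⟨O, n, hOU, hOn, hn, hlong, hcr⟩ := hcrux J hJS
    exact rel_sum (chevBNPair D hD F) p (Uc D F) (hUB D hD F) (hUn D hD F) (hUp D hD F p) (hUidx D hD F p)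
      (hBUH D hD F) (hUH D hD F) J hJS O hOU hOn n hn hlong hcr
  have hmain := pCount_top_of_rel (chevBNPair D hD F) p (Uc D F) (SfinChev D hD F) (coe_SfinChev D hD F) hrel
  rw [← steinbergCharacter_eq_stFun D hD F, steinberg_one D hD F, card_Uc D hD F] at hmain
  have hnat : pCount p (⊤ : Subgroup ↥(D.group F)) = Fintype.card F ^ (2 * (D.nroots / 2)) := by
    have : ((pCount p (⊤ : Subgroup ↥(D.group F)) : ℕ) : ℂ) =
        ((Fintype.card F ^ (2 * (D.nroots / 2)) : ℕ) : ℂ) := by
      rw [hmain]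
      push_cast
      rw [two_mul, pow_add]
    exact_mod_cast this
  rw [← hnat]
  unfold pCount
  apply Nat.card_congr
  exact
    { toFun := fun g => ⟨g.1, Subgroup.mem_top _, g.2⟩
      invFun := fun g => ⟨g.1, g.2.2⟩
      left_inv := fun g => rfl
      right_inv := fun g => rfl }

end chev

end Cfsg.Agent.Lib.Helper6.ChevStFinal
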