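/-
helper6: if the block `B` of `G` covers the block `b` of the normal subgroup `N`, then every member
of `b` lies under some member of `B` (Navarro, Theorem 9.4).  Proof by the graded Rosenberg lemma
applied to the annihilator of the orbit idempotent of `θ`.
-/
import Mathlib
import Cfsg.Agent.Lib.Helper6.GradedNilC
import Cfsg.Agent.Lib.Helper6.CoverDefect

set_option autoImplicit false
set_option linter.unusedSectionVars false

namespace Cfsg.Agent.Lib.Helper6.CoverOver

open Cfsg Cfsg.Agent.CharLib Cfsg.Agent.Lib.Helper24 Cfsg.Agent.Lib.Helper23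
  Cfsg.Agent.Lib.Helper6 Cfsg.Agent.Lib.Helper6.GradedNil Cfsg.Agent.Lib.Helper6.Fong
  Cfsg.Agent.Lib.Helper6.CoverDefect

universe u

section main

variable {G : Type u} [Group G] [Fintype G] (N : Subgroup G) [hN : N.Normal] [Fintype N]
  {M : Ideal AlgInt} {p : ℕ}

/-- The family of `N`-invariant local-integer valued functions fixed by `ε` and annihilated by
`F`. -/
def Ann (M : Ideal AlgInt) (ε F : G → ℂ) (f : G → ℂ) : Prop :=
  (∀ x, MemLocalRing M (f x)) ∧ NInv N f ∧ conv f ε = f ∧ conv f F = 0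

theorem ann_conv [hprime : M.IsPrime] (ε F : G → ℂ) {f h : G → ℂ} (hf : Ann N M ε F f)
    (hh : Ann N M ε F h) : Ann N M ε F (conv f h) := by
  refine ⟨memLocalRing_conv hf.1 hh.1, NInv.conv N hf.2.1 hh.2.1, ?_, ?_⟩
  · rw [conv_assoc, hh.2.2.1]
  · rw [conv_assoc, hh.2.2.2, conv_zero_right]

theorem comp_zero (γ : G ⧸ N) : comp N γ (0 : G → ℂ) = 0 := by
  funext x
  by_cases h : (x : G ⧸ N) = γ
  · rw [comp_apply_of_eq N _ h]
  · rw [comp_apply_of_ne N _ h]
    rfl

theorem ann_comp [hprime : M.IsPrime] {ε F : G → ℂ} (hε : SuppCoset N 1 ε)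
    (hF : SuppCoset N 1 F) {f : G → ℂ} (hf : Ann N M ε F f) (γ : G ⧸ N) :
    Ann N M ε F (comp N γ f) := by
  refine ⟨comp_memLocalRing N γ hf.1, NInv.comp N hf.2.1 γ, ?_, ?_⟩
  · rw [conv_comp_of_suppCoset N γ f hε, hf.2.2.1]
  · rw [conv_comp_of_suppCoset N γ f hF, hf.2.2.2, comp_zero]

/-- **Every member of a covered block lies under the covering block.** -/
theorem exists_over (hM : IsPModular p M) {b : Set (IrrCharacter N)} (hb : IsPBlock M b)
    (B : Set (IrrCharacter G)) (hB : IsPBlock M B) (hBS : ∀ χ ∈ B, χ ∈ coverSet N b)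
    (θ : IrrCharacter N) (hθ : θ ∈ b) :
    ∃ χ ∈ B, classInner (fun n : N => (χ : G → ℂ) n) (θ : N → ℂ) ≠ 0 := by
  classical
  have hprime : M.IsPrime := isPrime_of_isPModular hM
  by_contra hcon
  push Not at hcon
  set ε : G → ℂ := extN N (blockCoeff (conjUnion N b)) with hε
  set φ : N → ℂ := blockCoeff (conjUnion N ({θ} : Set (IrrCharacter N))) with hφ
  set F : G → ℂ := extN N φ with hF
  have hεs : SuppCoset N 1 ε := suppCoset_extN N _
  have hFs : SuppCoset N 1 F := suppCoset_extN N _
  have hE : ε = blockCoeff (coverSet N b) := extN_blockCoeff_conjUnion_eq N hM hb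
  have hFcls : IsClassFunction G F := extN_conjUnion_isClassFunction N _
  have hφcls : IsClassFunction N φ := blockCoeff_isClassFunction _
  have hecls : IsClassFunction G (blockCoeff B) := blockCoeff_isClassFunction B
  have heR : ∀ g, MemLocalRing M (blockCoeff B g) := by
    obtain ⟨χ₀, rfl⟩ := hB
    exact memLocalRing_blockCoeff_blockOf χ₀
  -- the block idempotent is annihilated by `F`
  have hBF : conv (blockCoeff B) F = 0 := by
    have h0 : IsClassFunction G (0 : G → ℂ) := fun _ _ => rfl
    apply eq_of_omegaFun_eq (conv_isClassFunction hecls hFcls) h0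
    intro χ
    have hz : omegaFun (χ : G → ℂ) (0 : G → ℂ) = 0 := by
      unfold omegaFun
      simp
    rw [omegaFun_conv χ hecls hFcls, omegaFun_blockCoeff, hz]
    by_cases hχ : χ ∈ B
    · rw [if_pos hχ, one_mul]
      obtain ⟨ψ, hψ⟩ := exists_constituent_res N χ
      rw [hF, hφ, omegaFun_extN_conjUnion N _ χ ψ hψ, if_neg]
      rintro ⟨g, θ', hθ', hg⟩
      rw [Set.mem_singleton_iff.mp hθ'] at hg
      apply hψ
      have hcls : IsClassFunction G (χ : G → ℂ) :=
        IsCharacter.isClassFunction (IsIrrCharacter.isCharacter χ.2)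
      have h1 : classInner (resFun N (χ : G → ℂ)) (ψ : N → ℂ) =
          classInner (resFun N (χ : G → ℂ)) (θ : N → ℂ) := by
        rw [hg]
        exact classInner_resFun_conjFun N hcls g (θ : N → ℂ)
      exact h1.trans (hcon χ hχ)
    · rw [if_neg hχ, zero_mul]
  have hmem : Ann N M ε F (blockCoeff B) := by
    refine ⟨heR, NInv.of_isClassFunction N hecls, ?_, hBF⟩
    rw [hE]
    exact conv_blockCoeff_of_subset hBS
  -- nilpotency of the part supported on `N`
  have hω : ∀ z, Ann N M ε F z → SuppCoset N 1 z → IsClassFunction N (resFun N z) ∧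
      (∀ n, MemLocalRing M (resFun N z n)) ∧
      ∀ ξ : IrrCharacter N, MemLocalIdeal M (omegaFun (ξ : N → ℂ) (resFun N z)) := by
    intro z hz hsupp
    have hcls := isClassFunction_resFun_of_nInv N hz.2.1
    have hR : ∀ n, MemLocalRing M (resFun N z n) := fun n => hz.1 n
    refine ⟨hcls, hR, ?_⟩
    -- `ζ * φ = 0`
    have h1 : z = extN N (resFun N z) := eq_extN_resFun_of_suppCoset N hsupp
    have h2 : extN N (conv (resFun N z) φ) = 0 := by
      rw [extN_eq_extendByZero, ← conv_extendByZero, ← extN_eq_extendByZero,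
        ← extN_eq_extendByZero, ← h1]
      exact hz.2.2.2
    have h3 : conv (resFun N z) φ = 0 := by
      funext n
      have := congrFun h2 (n : G)
      rwa [extN_apply_mem] at this
    have hkey : ∀ η : IrrCharacter N, η ∈ conjUnion N ({θ} : Set (IrrCharacter N)) →
        omegaFun (η : N → ℂ) (resFun N z) = 0 := by
      intro η hη
      have h4 : omegaFun (η : N → ℂ) (conv (resFun N z) φ) = 0 := by
        rw [h3]
        unfold omegaFun
        simp
      rw [omegaFun_conv η hcls hφcls, hφ, omegaFun_blockCoeff, if_pos hη, mul_one] at h4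
      exact h4
    intro ξ
    by_cases hξ : ξ ∈ conjUnion N b
    · obtain ⟨g, θ', hθ', hg⟩ := hξ
      set η : IrrCharacter N := FongReynolds.conjIrr g θ with hη
      have hηU : η ∈ conjUnion N ({θ} : Set (IrrCharacter N)) := ⟨g, θ, rfl, rfl⟩
      have hsame : SameBlock M (ξ : N → ℂ) (η : N → ℂ) := by
        rw [hg]
        exact sameBlock_conjFun N (sameBlock_of_mem hM hb hθ' hθ) g
      have h5 := memLocalIdeal_omegaFun_sub ξ η hsame hcls hR
      rwa [hkey η hηU, sub_zero] at h5
    · rw [omegaFun_resFun_eq_zero_of_not_mem N (conjUnion N b) hz.2.1 hsupp hz.2.2.1 hξ]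
      exact memLocalIdeal_zero hprime.one_notMem
  have hnil := hnil_of_omega N (M := M) (Ann N M ε F) hω
  have hall := memLocalIdeal_of_idem N (Ann N M ε F) (fun f hf => hf.1)
    (fun f h hf hh => ann_conv N ε F hf hh)
    (fun f γ hf => ann_comp N hεs hFs hf γ) _ hnil hmem (conv_blockCoeff_self B)
  obtain ⟨χ₀, rfl⟩ := hB
  have h1 : MemLocalIdeal M (omegaFun (χ₀ : G → ℂ) (blockCoeff (blockOf M (χ₀ : G → ℂ)))) :=
    memLocalIdeal_omegaFun_of_forall χ₀ (blockCoeff_isClassFunction _)
      (memLocalRing_blockCoeff_blockOf χ₀) (fun x => Or.inl (hall x))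
  rw [omegaFun_blockCoeff, if_pos (mem_blockOf_self χ₀)] at h1
  exact not_memLocalIdeal_one h1

end main

end Cfsg.Agent.Lib.Helper6.CoverOver
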