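/-
helper6: a group with no subgroup of index 2 and an involution with centralizer `D_8` is simple.
-/
import Mathlib
import Cfsg.Agent.Lib.Helper6.D8B2

set_option autoImplicit false

namespace Cfsg.Agent.Lib.Helper6.D8Cent

open DihedralGroup

universe u

theorem d8_r_eq : ∀ i : ZMod 4, (r i : DihedralGroup 4) = sr 0 * sr i := by decide

theorem d8_cases (z : DihedralGroup 4) : (∃ i : ZMod 4, z = r i) ∨ ∃ i : ZMod 4, z = sr i := by
  cases z with
  | r i => exact Or.inl ⟨i, rfl⟩
  | sr i => exact Or.inr ⟨i, rfl⟩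

theorem d8_sr0_ne : (sr 0 : DihedralGroup 4) ≠ r 2 := by decide

namespace Ctx

variable {G : Type u} [Group G] (C : Ctx G)

section finite
variable [Finite G]

/-- Every involution of `D` is conjugate to `t` (no subgroup of index two). -/
theorem isConj_t_of_mem' (hno2 : ∀ M : Subgroup G, M.Normal → M.index ≠ 2) {u : G}
    (hu : orderOf u = 2) (huD : u ∈ C.D) : IsConj C.t u := by
  obtain ⟨hu2, hu1⟩ := orderOf_two_iff.1 hu
  have h3 : C.e ⟨u, huD⟩ * C.e ⟨u, huD⟩ = 1 := by
    rw [← map_mul]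
    have : (⟨u, huD⟩ : C.D) * ⟨u, huD⟩ = 1 := Subtype.ext hu2
    rw [this, map_one]
  have h4 : C.e ⟨u, huD⟩ ≠ 1 := by
    intro h
    have : (⟨u, huD⟩ : C.D) = 1 := by
      have := congrArg C.e.symm h
      rwa [MulEquiv.symm_apply_apply, map_one] at this
    exact hu1 (congrArg Subtype.val this)
  rcases d8_invol _ h3 h4 with h5 | ⟨i, hi⟩
  · rw [← C.e_t] at h5
    have := congrArg Subtype.val (C.e.injective h5)
    rw [show u = C.t from this]
  · have hnot : u ∉ Subgroup.zpowers C.a := by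
      intro hmem
      obtain ⟨k, hk⟩ := Subgroup.mem_zpowers_iff.1 hmem
      have hmemk : C.a ^ k ∈ C.D := Subgroup.zpow_mem _ C.a_mem k
      have he : C.e ⟨C.a ^ k, hmemk⟩ = r (k : ZMod 4) := by
        have : (⟨C.a ^ k, hmemk⟩ : C.D) = (⟨C.a, C.a_mem⟩ : C.D) ^ k := Subtype.ext (by simp)
        rw [this, map_zpow, C.e_a, r_one_zpow]
      have : (⟨C.a ^ k, hmemk⟩ : C.D) = ⟨u, huD⟩ := Subtype.ext hk
      rw [this, hi] at he
      exact d8_not_zpowers _ _ he
    obtain ⟨P, hP⟩ := C.exists_sylow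
    have hle : Subgroup.zpowers C.a ≤ (P : Subgroup G) := by rw [hP]; exact C.zpowers_le
    have hrel : (Subgroup.zpowers C.a).relIndex (P : Subgroup G) = 2 := by rw [hP]; exact C.relIndex_zpowers
    rcases Cfsg.Agent.S0111.result P (Subgroup.zpowers C.a) hle hrel u hu (by rw [hP]; exact huD) hnot with
      ⟨M, hMn, hMi, _⟩ | ⟨g, hg⟩
    · exact (hno2 M hMn hMi).elim
    · have h6 : g * u * g⁻¹ = C.t := by
        apply C.eq_t_of_mem_zpowers hg
        · have : g * u * g⁻¹ * (g * u * g⁻¹) = g * (u * u) * g⁻¹ := by group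
          rw [this, hu2]
          group
        · intro h
          apply hu1
          have : u = g⁻¹ * (g * u * g⁻¹) * g := by group
          rw [this, h]
          group
      rw [isConj_comm, isConj_iff]
      exact ⟨g, h6⟩

/-- Every involution of `G` is conjugate to `t` (no subgroup of index two). -/
theorem isConj_t_of_orderOf' (hno2 : ∀ M : Subgroup G, M.Normal → M.index ≠ 2) {u : G}
    (hu : orderOf u = 2) : IsConj C.t u := by
  obtain ⟨P, hP⟩ := C.exists_sylow
  have hz : IsPGroup 2 (Subgroup.zpowers u) := IsPGroup.of_card (n := 1) (by rw [Nat.card_zpowers, hu]; norm_num)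
  obtain ⟨Q, hQ⟩ := hz.exists_le_sylow
  obtain ⟨g, hg⟩ := MulAction.exists_smul_eq G Q P
  have huQ : u ∈ (Q : Subgroup G) := hQ (Subgroup.mem_zpowers u)
  have h1 : g * u * g⁻¹ ∈ (P : Subgroup G) := by
    rw [← hg, Sylow.smul_def, Sylow.pointwise_smul_def]
    have := Subgroup.smul_mem_pointwise_smul u (MulAut.conj g) (Q : Subgroup G) huQ
    rwa [MulAut.smul_def, MulAut.conj_apply] at this
  rw [hP] at h1
  have h2 : orderOf (g * u * g⁻¹) = 2 := by
    rw [← hu]
    symm
    apply orderOf_of_isConj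
    rw [isConj_iff]
    exact ⟨g, rfl⟩
  have h3 := C.isConj_t_of_mem' hno2 h2 h1
  refine h3.trans ?_
  rw [isConj_comm, isConj_iff]
  exact ⟨g, rfl⟩

theorem orderOf_gm_sr (i : ZMod 4) : orderOf (C.gm (sr i)) = 2 := by
  rw [orderOf_two_iff]
  refine ⟨?_, ?_⟩
  · rw [← C.gm_mul, d8_sr_sq, C.gm_one]
  · intro h
    rw [← C.gm_one] at h
    exact d8_sr_ne i (C.gm_injective h)

/-- `D` is generated by involutions. -/
theorem D_le_of_involutions {M : Subgroup G} (hM : ∀ u : G, orderOf u = 2 → u ∈ M) : C.D ≤ M := by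
  intro x hx
  have hx' : x = C.gm (C.e ⟨x, hx⟩) := (C.gm_e hx).symm
  rcases d8_cases (C.e ⟨x, hx⟩) with ⟨i, hi⟩ | ⟨i, hi⟩
  · rw [hx', hi, d8_r_eq, C.gm_mul]
    exact M.mul_mem (hM _ (C.orderOf_gm_sr 0)) (hM _ (C.orderOf_gm_sr i))
  · rw [hx', hi]
    exact hM _ (C.orderOf_gm_sr i)

/-- the normalizer of `D` is `D` -/
theorem normalizer_D_le : Subgroup.normalizer (C.D : Set G) ≤ C.D := by
  intro g hg
  have hg' := Subgroup.mem_set_normalizer_iff.1 hg
  have hginv : g⁻¹ ∈ Subgroup.normalizer (C.D : Set G) := Subgroup.inv_mem _ hg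
  have hginv' := Subgroup.mem_set_normalizer_iff.1 hginv
  have h1 : g * C.t * g⁻¹ ∈ C.D := (hg' C.t).1 C.t_mem
  -- `g t g⁻¹` is central in `D`
  have hcent : ∀ y : DihedralGroup 4, y * C.e ⟨g * C.t * g⁻¹, h1⟩ = C.e ⟨g * C.t * g⁻¹, h1⟩ * y := by
    intro y
    have hy : C.gm y ∈ C.D := C.gm_mem y
    have hy2 : g⁻¹ * C.gm y * g⁻¹⁻¹ ∈ C.D := (hginv' (C.gm y)).1 hy
    rw [inv_inv] at hy2
    have hy3 : g⁻¹ * C.gm y * g * C.t = C.t * (g⁻¹ * C.gm y * g) := C.mem_D.1 hy2
    have hy4 : C.gm y * (g * C.t * g⁻¹) = (g * C.t * g⁻¹) * C.gm y := by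
      calc C.gm y * (g * C.t * g⁻¹) = g * (g⁻¹ * C.gm y * g * C.t) * g⁻¹ := by group
        _ = g * (C.t * (g⁻¹ * C.gm y * g)) * g⁻¹ := by rw [hy3]
        _ = (g * C.t * g⁻¹) * C.gm y := by group
    have hy5 : (C.e.symm y : C.D) * ⟨g * C.t * g⁻¹, h1⟩ = ⟨g * C.t * g⁻¹, h1⟩ * (C.e.symm y : C.D) :=
      Subtype.ext hy4
    have hy6 := congrArg C.e hy5
    rw [map_mul, map_mul, MulEquiv.apply_symm_apply] at hy6
    exact hy6
  rcases d8_central _ hcent with h | h
  · exfalso
    have h2 : (⟨g * C.t * g⁻¹, h1⟩ : C.D) = 1 := by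
      have := congrArg C.e.symm h
      rwa [MulEquiv.symm_apply_apply, map_one] at this
    have h3 : g * C.t * g⁻¹ = 1 := congrArg Subtype.val h2
    apply C.t_ne_one
    have : C.t = g⁻¹ * (g * C.t * g⁻¹) * g := by group
    rw [this, h3]
    group
  · rw [← C.e_t] at h
    have h2 : g * C.t * g⁻¹ = C.t := congrArg Subtype.val (C.e.injective h)
    rw [C.mem_D]
    calc g * C.t = g * C.t * g⁻¹ * g := by group
      _ = C.t * g := by rw [h2]

/-- elements of `D` have order dividing 8 -/
theorem pow_eight_of_mem {x : G} (hx : x ∈ C.D) : x ^ 8 = 1 := by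
  have h : (⟨x, hx⟩ : C.D) ^ Nat.card C.D = 1 := pow_card_eq_one'
  rw [C.card_D] at h
  exact congrArg Subtype.val h

/-- a nontrivial element of 2-power order has an involution among its powers -/
theorem exists_pow_orderOf_two {x : G} (h8 : x ^ 8 = 1) (h1 : x ≠ 1) : ∃ k : ℕ, orderOf (x ^ k) = 2 := by
  have hdvd : orderOf x ∣ 8 := orderOf_dvd_of_pow_eq_one h8
  have hne : orderOf x ≠ 1 := by
    intro h
    exact h1 (orderOf_eq_one_iff.1 h)
  have hpos : orderOf x ≠ 0 := by
    intro h
    rw [h] at hdvd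
    norm_num at hdvd
  have h2 : 2 ∣ orderOf x := by
    have hle : orderOf x ≤ 8 := Nat.le_of_dvd (by norm_num) hdvd
    interval_cases (orderOf x) <;> omega
  exact ⟨orderOf x / 2, orderOf_pow_orderOf_div hpos h2⟩

include C in
theorem isSimpleGroup (hno2 : ∀ M : Subgroup G, M.Normal → M.index ≠ 2) : IsSimpleGroup G := by
  have : Nontrivial G := ⟨⟨C.t, 1, C.t_ne_one⟩⟩
  refine ⟨fun M hM => ?_⟩
  by_cases ht : C.t ∈ M
  · right
    have hinv : ∀ u : G, orderOf u = 2 → u ∈ M := by
      intro u hu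
      obtain ⟨g, hg⟩ := isConj_iff.1 (C.isConj_t_of_orderOf' hno2 hu)
      rw [← hg]
      exact hM.conj_mem _ ht g
    have hD : C.D ≤ M := C.D_le_of_involutions hinv
    obtain ⟨P, hP⟩ := C.exists_sylow
    have hPM : (P : Subgroup G) ≤ M := by rw [hP]; exact hD
    have : Fact (Nat.Prime 2) := ⟨Nat.prime_two⟩
    have h := Sylow.normalizer_sup_eq_top' P hPM
    apply top_le_iff.1
    rw [← h]
    apply sup_le _ le_rfl
    intro g hg
    apply hD
    apply C.normalizer_D_le
    rw [Subgroup.mem_set_normalizer_iff] at hg ⊢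
    intro x
    have hgx := hg x
    have e1 : ∀ y : G, y ∈ (P : Subgroup G) ↔ y ∈ C.D := fun y => by rw [hP]
    exact ⟨fun hx => (e1 _).1 (hgx.1 ((e1 _).2 hx)), fun hx => (e1 _).1 (hgx.2 ((e1 _).2 hx))⟩
  · left
    -- `M` has no involutions
    have hnoinv : ∀ u : G, u ∈ M → orderOf u ≠ 2 := by
      intro u hu h2
      obtain ⟨g, hg⟩ := isConj_iff.1 (C.isConj_t_of_orderOf' hno2 h2)
      apply ht
      have : C.t = g⁻¹ * u * g⁻¹⁻¹ := by rw [← hg]; group
      rw [this]
      exact hM.conj_mem _ hu g⁻¹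
    -- involutions act fixed-point-freely
    have hfpf : ∀ w : G, orderOf w = 2 → ∀ m : M, (MulAut.conjNormal w : MulAut M) m = m⁻¹ := by
      intro w hw
      obtain ⟨g, hg⟩ := isConj_iff.1 (C.isConj_t_of_orderOf' hno2 hw)
      obtain ⟨hw2, _⟩ := orderOf_two_iff.1 hw
      have hwinv : w⁻¹ = w := inv_eq_of_mul_eq_one_left hw2
      have h1 : MonoidHom.FixedPointFree (MulAut.conjNormal w : MulAut M) := by
        intro m hm
        have hm' : w * (m : G) * w⁻¹ = (m : G) := by
          rw [← MulAut.conjNormal_apply]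
          exact congrArg Subtype.val hm
        -- `g⁻¹ m g` commutes with `t`
        have hmem : g⁻¹ * (m : G) * g ∈ M := by
          have := hM.conj_mem _ m.2 g⁻¹
          rwa [inv_inv] at this
        have hcomm : g⁻¹ * (m : G) * g ∈ C.D := by
          rw [C.mem_D]
          have ht' : C.t = g⁻¹ * w * g := by rw [← hg]; group
          have hmw : (m : G) * w = w * (m : G) := by
            calc (m : G) * w = (w * (m : G) * w⁻¹) * w := by rw [hm']
              _ = w * (m : G) := by group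
          calc g⁻¹ * (m : G) * g * C.t = g⁻¹ * ((m : G) * w) * g := by rw [ht']; group
            _ = g⁻¹ * (w * (m : G)) * g := by rw [hmw]
            _ = C.t * (g⁻¹ * (m : G) * g) := by rw [ht']; group
        by_contra hne
        have hne' : g⁻¹ * (m : G) * g ≠ 1 := by
          intro h
          apply hne
          apply Subtype.ext
          show (m : G) = 1
          calc (m : G) = g * (g⁻¹ * (m : G) * g) * g⁻¹ := by group
            _ = 1 := by rw [h]; group
        obtain ⟨k, hk⟩ := exists_pow_orderOf_two (C.pow_eight_of_mem hcomm) hne'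
        exact hnoinv _ (M.pow_mem hmem k) hk
      have h2 : Function.Involutive (MulAut.conjNormal w : MulAut M) := by
        intro m
        apply Subtype.ext
        rw [MulAut.conjNormal_apply, MulAut.conjNormal_apply, hwinv]
        calc w * (w * (m : G) * w) * w = (w * w) * (m : G) * (w * w) := by group
          _ = (m : G) := by rw [hw2, one_mul, mul_one]
      intro m
      have := h1.coe_eq_inv_of_involutive h2
      exact congrFun this m
    -- the four-group
    set u := C.gm (sr 0) with hu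
    have hu2 : orderOf u = 2 := C.orderOf_gm_sr 0
    have hut : u * C.t = C.t * u := C.mem_D.1 (C.gm_mem _)
    have hune : u ≠ C.t := by
      intro h
      have hr2 : C.gm (r 2) = C.t := by rw [← C.e_t, C.gm_e]
      have h1 : C.gm (sr 0) = C.gm (r 2) := by rw [← hu, h, hr2]
      exact d8_sr0_ne (C.gm_injective h1)
    obtain ⟨huu, _⟩ := orderOf_two_iff.1 hu2
    have htu2 : orderOf (C.t * u) = 2 := by
      rw [orderOf_two_iff]
      refine ⟨?_, ?_⟩
      · calc C.t * u * (C.t * u) = C.t * (u * C.t) * u := by group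
          _ = C.t * (C.t * u) * u := by rw [hut]
          _ = (C.t * C.t) * (u * u) := by group
          _ = 1 := by rw [C.t_sq, huu, one_mul]
      · intro h
        apply hune
        have h1 : u = C.t⁻¹ := by
          have : u = C.t⁻¹ * (C.t * u) := by group
          rw [this, h, mul_one]
        rw [h1]
        exact inv_eq_of_mul_eq_one_left C.t_sq
    rw [Subgroup.eq_bot_iff_forall]
    intro m hm
    have e1 := hfpf C.t C.ht ⟨m, hm⟩
    have e2 := hfpf u hu2 ⟨m, hm⟩
    have e3 := hfpf (C.t * u) htu2 ⟨m, hm⟩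
    have f1 : C.t * m * C.t⁻¹ = m⁻¹ := by
      have := congrArg Subtype.val e1
      rwa [MulAut.conjNormal_apply] at this
    have f2 : u * m * u⁻¹ = m⁻¹ := by
      have := congrArg Subtype.val e2
      rwa [MulAut.conjNormal_apply] at this
    have f3 : (C.t * u) * m * (C.t * u)⁻¹ = m⁻¹ := by
      have := congrArg Subtype.val e3
      rwa [MulAut.conjNormal_apply] at this
    have f4 : (C.t * u) * m * (C.t * u)⁻¹ = m := by
      calc (C.t * u) * m * (C.t * u)⁻¹ = C.t * (u * m * u⁻¹) * C.t⁻¹ := by group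
        _ = C.t * m⁻¹ * C.t⁻¹ := by rw [f2]
        _ = (C.t * m * C.t⁻¹)⁻¹ := by group
        _ = m := by rw [f1, inv_inv]
    have f5 : m * m = 1 := by
      have : m = m⁻¹ := f4.symm.trans f3
      calc m * m = m * m⁻¹ := by rw [← this]
        _ = 1 := mul_inv_cancel m
    by_contra hne
    exact hnoinv m hm (orderOf_two_iff.2 ⟨f5, hne⟩)

include C in
theorem commutator_eq_top (hno2 : ∀ M : Subgroup G, M.Normal → M.index ≠ 2) : commutator G = ⊤ := by
  have hs := C.isSimpleGroup hno2
  have hn : (commutator G).Normal := inferInstance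
  rcases hn.eq_bot_or_eq_top with h | h
  · exfalso
    rw [commutator_def, Subgroup.commutator_eq_bot_iff_le_centralizer] at h
    -- `G` is abelian, but `D_8` is not
    have hcomm : ∀ x y : G, x * y = y * x := by
      intro x y
      have hx : x ∈ Subgroup.centralizer ((⊤ : Subgroup G) : Set G) := h (Subgroup.mem_top x)
      exact (Subgroup.mem_centralizer_iff.1 hx y (Subgroup.mem_top y)).symm
    have h1 := hcomm (C.gm (sr 0)) (C.gm (r 1))
    rw [← C.gm_mul, ← C.gm_mul] at h1
    have h2 := C.gm_injective h1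
    revert h2
    decide
  · exact h

end finite

end Ctx

end Cfsg.Agent.Lib.Helper6.D8Cent
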