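/-
helper6: involution with centralizer `D_8` (general case), part 1:
bridge to the dihedral-Sylow trichotomy (helper29's S3864).
-/
import Mathlib
import Cfsg.Agent.Lib.Helper6.D8Simple
import Cfsg.Agent.S3864

set_option autoImplicit false

namespace Cfsg.Agent.Lib.Helper6.D8Cent

open DihedralGroup Cfsg.Agent.Lib.Helper29

universe u

theorem dihZ_four : dihZ 4 = (r 2 : DihedralGroup 4) := by decide

namespace Ctx

variable {G : Type u} [Group G] (C : Ctx G)

theorem gm_r2' : C.gm (r 2) = C.t := by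
  rw [← C.e_t, C.gm_e]

variable [Finite G]

theorem exists_bridge : ∃ (P : Sylow 2 G) (eP : ↥(P : Subgroup G) ≃* DihedralGroup 4),
    (P : Subgroup G) = C.D ∧ ∀ d, Cfsg.Agent.S3864.emb eP d = C.gm d := by
  obtain ⟨P, hP⟩ := C.exists_sylow
  refine ⟨P, (MulEquiv.subgroupCongr hP).trans C.e, hP, ?_⟩
  intro d
  rfl

/-- Every involution is conjugate to `t`, `gm (sr 0)` or `gm (sr 1)`. -/
theorem invol_conj3 {u : G} (hu : orderOf u = 2) :
    IsConj u C.t ∨ IsConj u (C.gm (sr 0)) ∨ IsConj u (C.gm (sr 1)) := by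
  obtain ⟨P, eP, -, h⟩ := C.exists_bridge
  have := Cfsg.Agent.S3864.invol_conj (m := 4) (by norm_num) eP u hu
  rwa [h, h, h, dihZ_four, C.gm_r2'] at this

theorem no_index_two_of_conj (h0 : IsConj C.t (C.gm (sr 0))) (h1 : IsConj C.t (C.gm (sr 1))) :
    ∀ M : Subgroup G, M.Normal → M.index ≠ 2 := by
  obtain ⟨P, eP, -, h⟩ := C.exists_bridge
  intro M hM
  refine Cfsg.Agent.S3864.caseI (m := 4) (by norm_num) eP ?_ ?_ M hM
  · rwa [h, h, dihZ_four, C.gm_r2']
  · rwa [h, h, dihZ_four, C.gm_r2']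

theorem normal_complement_of_not_conj (h0 : ¬ IsConj C.t (C.gm (sr 0)))
    (h1 : ¬ IsConj C.t (C.gm (sr 1))) : Cfsg.HasNormalPComplement 2 G := by
  obtain ⟨P, eP, -, h⟩ := C.exists_bridge
  refine (Cfsg.Agent.S3864.caseIII (m := 4) (by norm_num) eP ?_ ?_).1
  · rwa [h, h, dihZ_four, C.gm_r2']
  · rwa [h, h, dihZ_four, C.gm_r2']

end Ctx

end Cfsg.Agent.Lib.Helper6.D8Cent
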