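/-
helper6: involution with centralizer `D_8` (general case), part 2:
the normal-complement case and the index-two subgroup in the mixed case.
-/
import Mathlib
import Cfsg.Agent.Lib.Helper6.D8Gen1

set_option autoImplicit false

namespace Cfsg.Agent.Lib.Helper6.D8Cent

open DihedralGroup

universe u

/-- the four-group `{1, r 2, sr 0, sr 2}` of `D_8` -/
def InV (d : DihedralGroup 4) : Prop := d = r 0 ∨ d = r 2 ∨ d = sr 0 ∨ d = sr 2

instance : DecidablePred InV := fun d => by unfold InV; infer_instance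

theorem d8_inV_comm : ∀ d d' : DihedralGroup 4, InV d → InV d' → d * d' = d' * d := by decide

theorem d8_inV_sq : ∀ d : DihedralGroup 4, InV d → d * d = 1 := by decide

theorem d8_not_inV : ∀ d : DihedralGroup 4, ¬ InV d →
    d = sr 1 ∨ d * r 2 = sr 1 ∨ sr 0 * d = sr 1 ∨ sr 0 * d * r 2 = sr 1 := by decide

theorem d8_sr0_sr1_ne : (sr 0 : DihedralGroup 4) * sr 1 ≠ sr 1 * sr 0 := by decide

theorem d8_sr2_sr1_ne : (sr 2 : DihedralGroup 4) * sr 1 ≠ sr 1 * sr 2 := by decide

theorem d8_sr0_mul_sr1 : (sr 0 : DihedralGroup 4) * sr 1 = r 1 := by decide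

namespace Ctx

variable {G : Type u} [Group G] (C : Ctx G)

section finite
variable [Finite G]

include C in
theorem card_eq_eight_mul : ∃ m : ℕ, Nat.card G = 8 * m ∧ ¬ 2 ∣ m := by
  obtain ⟨m, hm⟩ := C.eight_dvd_card
  refine ⟨m, hm, ?_⟩
  rintro ⟨k, rfl⟩
  apply C.not_sixteen_dvd_card
  rw [hm]
  exact ⟨k, by ring⟩

/-- The normal complement case. -/
theorem sup_oddCore_eq_top (h : Cfsg.HasNormalPComplement 2 G) :
    C.D ⊔ Cfsg.oddCore G = ⊤ := by
  haveI : Fact (Nat.Prime 2) := ⟨Nat.prime_two⟩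
  obtain ⟨P, N, hN, hc⟩ := h
  obtain ⟨m, hm, hodd⟩ := C.card_eq_eight_mul
  have h1 : Nat.card N * Nat.card (P : Subgroup G) = Nat.card G := hc.card_mul
  have hP8 : Nat.card (P : Subgroup G) = 8 := by
    obtain ⟨P', hP'⟩ := C.exists_sylow
    rw [P.card_eq_multiplicity, ← P'.card_eq_multiplicity, hP', C.card_D]
  have hNm : Nat.card N = m := by
    rw [hP8, hm] at h1
    omega
  have hcop : (Nat.card N).Coprime 2 := by
    rw [hNm]
    exact (Nat.Prime.coprime_iff_not_dvd Nat.prime_two).2 hodd |>.symm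
  have hle : N ≤ Cfsg.oddCore G := le_sSup ⟨hN, hcop⟩
  have hcomp : Subgroup.IsComplement' C.D N := by
    apply Subgroup.isComplement'_of_coprime
    · rw [C.card_D, hNm, hm]
    · rw [C.card_D, hNm]
      have : Nat.Coprime 2 m := (Nat.Prime.coprime_iff_not_dvd Nat.prime_two).2 hodd
      exact Nat.Coprime.pow_left 3 this
  have := hcomp.sup_eq_top
  rw [eq_top_iff, ← this]
  exact sup_le_sup_left hle _

/-- Thompson transfer: in the mixed case there is a normal subgroup of index two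
missing `gm (sr 1)`. -/
theorem exists_index_two (h1 : ¬ IsConj C.t (C.gm (sr 1))) :
    ∃ N : Subgroup G, N.Normal ∧ N.index = 2 ∧ C.gm (sr 1) ∉ N := by
  obtain ⟨P, hP⟩ := C.exists_sylow
  have hu : orderOf (C.gm (sr 1)) = 2 := C.orderOf_gm_sr 1
  have huQ : C.gm (sr 1) ∉ Subgroup.zpowers C.a := by
    intro hmem
    obtain ⟨h2, h1'⟩ := orderOf_two_iff.1 hu
    have := C.eq_t_of_mem_zpowers hmem h2 h1'
    rw [← C.gm_r2'] at this
    exact d8_not_zpowers 1 2 (C.gm_injective this)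
  rcases Cfsg.Agent.S0111.result P (Subgroup.zpowers C.a) (by rw [hP]; exact C.zpowers_le)
    (by rw [hP]; exact C.relIndex_zpowers) (C.gm (sr 1)) hu (by rw [hP]; exact C.gm_mem _) huQ
    with h | ⟨g, hg⟩
  · exact h
  · exfalso
    apply h1
    have ho : orderOf (g * C.gm (sr 1) * g⁻¹) = 2 := by
      rw [← orderOf_of_isConj (isConj_iff.2 ⟨g, rfl⟩)]; exact hu
    obtain ⟨h2, h1'⟩ := orderOf_two_iff.1 ho
    have := C.eq_t_of_mem_zpowers hg h2 h1'
    rw [← this]
    exact (isConj_iff.2 ⟨g, rfl⟩ : IsConj (C.gm (sr 1)) _).symm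

end finite

end Ctx

end Cfsg.Agent.Lib.Helper6.D8Cent
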