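/-
helper6: involution with centralizer `D_8` (general case), part 3:
the mixed case: structure of the normal subgroup of index two.
-/
import Mathlib
import Cfsg.Agent.Lib.Helper6.D8Gen2

set_option autoImplicit false

namespace Cfsg.Agent.Lib.Helper6.D8Cent

open DihedralGroup

universe u

/-- Data of the mixed case: `t ~ gm (sr 0)` and a normal subgroup of index two
missing `gm (sr 1)`. -/
structure Mix {G : Type u} [Group G] (C : Ctx G) where
  N : Subgroup G
  hN : N.Normal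
  hidx : N.index = 2
  h0 : IsConj C.t (C.gm (sr 0))
  h1 : C.gm (sr 1) ∉ N

namespace Mix

variable {G : Type u} [Group G] {C : Ctx G} (M : Mix C)

theorem t_mem : C.t ∈ M.N := by
  rw [← C.a_sq]
  exact Subgroup.mul_self_mem_of_index_two M.hidx _

theorem conj_mem {x : G} (hx : x ∈ M.N) (g : G) : g * x * g⁻¹ ∈ M.N := M.hN.conj_mem x hx g

theorem mem_of_isConj {x y : G} (h : IsConj x y) (hx : x ∈ M.N) : y ∈ M.N := by
  obtain ⟨c, rfl⟩ := isConj_iff.mp h
  exact M.conj_mem hx c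

theorem s0_mem : C.gm (sr 0) ∈ M.N := M.mem_of_isConj M.h0 M.t_mem

theorem r2_mem : C.gm (r 2) ∈ M.N := by rw [C.gm_r2']; exact M.t_mem

theorem inV_of_mem {d : DihedralGroup 4} (h : C.gm d ∈ M.N) : InV d := by
  by_contra hd
  apply M.h1
  rcases d8_not_inV d hd with h' | h' | h' | h'
  · rw [← h']; exact h
  · rw [← h', C.gm_mul]; exact M.N.mul_mem h M.r2_mem
  · rw [← h', C.gm_mul]; exact M.N.mul_mem M.s0_mem h
  · rw [← h', C.gm_mul, C.gm_mul]; exact M.N.mul_mem (M.N.mul_mem M.s0_mem h) M.r2_mem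

theorem exists_inV {x : G} (hxD : x ∈ C.D) (hxN : x ∈ M.N) : ∃ d, InV d ∧ x = C.gm d := by
  refine ⟨C.e ⟨x, hxD⟩, M.inV_of_mem ?_, (C.gm_e hxD).symm⟩
  rw [C.gm_e hxD]; exact hxN

theorem comm_of_mem {x y : G} (hxD : x ∈ C.D) (hxN : x ∈ M.N) (hyD : y ∈ C.D) (hyN : y ∈ M.N) :
    x * y = y * x := by
  obtain ⟨d, hd, rfl⟩ := M.exists_inV hxD hxN
  obtain ⟨d', hd', rfl⟩ := M.exists_inV hyD hyN
  rw [← C.gm_mul, ← C.gm_mul, d8_inV_comm d d' hd hd']

theorem sq_of_mem {x : G} (hxD : x ∈ C.D) (hxN : x ∈ M.N) : x * x = 1 := by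
  obtain ⟨d, hd, rfl⟩ := M.exists_inV hxD hxN
  rw [← C.gm_mul, d8_inV_sq d hd, C.gm_one]

theorem cases_of_mem {x : G} (hxD : x ∈ C.D) (hxN : x ∈ M.N) :
    x = 1 ∨ x = C.t ∨ x = C.gm (sr 0) ∨ x = C.gm (sr 2) := by
  obtain ⟨d, hd, rfl⟩ := M.exists_inV hxD hxN
  rcases hd with rfl | rfl | rfl | rfl
  · left; rw [r_zero, C.gm_one]
  · right; left; exact C.gm_r2'
  · right; right; left; rfl
  · right; right; right; rfl

section finite
variable [Finite G]

/-- every involution of `N` is conjugate to `t` -/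
theorem isConj_t {u : G} (hu : orderOf u = 2) (huN : u ∈ M.N) : IsConj C.t u := by
  rcases C.invol_conj3 hu with h | h | h
  · exact h.symm
  · exact M.h0.trans h.symm
  · exact absurd (M.mem_of_isConj h huN) M.h1

/-- conjugating the centralizer of an involution of `N` into `D ∩ N` -/
theorem exists_conj {u : G} (hu : orderOf u = 2) (huN : u ∈ M.N) :
    ∃ g : G, ∀ c : G, c ∈ M.N → c * u = u * c → g⁻¹ * c * g ∈ C.D ∧ g⁻¹ * c * g ∈ M.N := by
  obtain ⟨g, hg⟩ := isConj_iff.1 (M.isConj_t hu huN)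
  refine ⟨g, fun c hcN hcu => ⟨?_, ?_⟩⟩
  · rw [C.mem_D]
    subst hg
    have h1 : c * g * C.t = g * C.t * g⁻¹ * c * g := by
      have := congrArg (· * g) hcu
      simpa [mul_assoc] using this
    calc g⁻¹ * c * g * C.t = g⁻¹ * (c * g * C.t) := by group
      _ = g⁻¹ * (g * C.t * g⁻¹ * c * g) := by rw [h1]
      _ = C.t * (g⁻¹ * c * g) := by group
  · have := M.conj_mem hcN g⁻¹
    rwa [inv_inv] at this

theorem comm_of_comm {u c c' : G} (hu : orderOf u = 2) (huN : u ∈ M.N) (hc : c ∈ M.N)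
    (hcu : c * u = u * c) (hc' : c' ∈ M.N) (hcu' : c' * u = u * c') : c * c' = c' * c := by
  obtain ⟨g, hg⟩ := M.exists_conj hu huN
  obtain ⟨h1, h2⟩ := hg c hc hcu
  obtain ⟨h1', h2'⟩ := hg c' hc' hcu'
  have := M.comm_of_mem h1 h2 h1' h2'
  have h3 : g⁻¹ * (c * c') * g = g⁻¹ * (c' * c) * g := by
    calc g⁻¹ * (c * c') * g = (g⁻¹ * c * g) * (g⁻¹ * c' * g) := by group
      _ = (g⁻¹ * c' * g) * (g⁻¹ * c * g) := this
      _ = g⁻¹ * (c' * c) * g := by group
  exact mul_left_cancel (mul_right_cancel h3)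

theorem sq_of_comm {u c : G} (hu : orderOf u = 2) (huN : u ∈ M.N) (hc : c ∈ M.N)
    (hcu : c * u = u * c) : c * c = 1 := by
  obtain ⟨g, hg⟩ := M.exists_conj hu huN
  obtain ⟨h1, h2⟩ := hg c hc hcu
  have := M.sq_of_mem h1 h2
  have h3 : g⁻¹ * (c * c) * g = g⁻¹ * 1 * g := by
    calc g⁻¹ * (c * c) * g = (g⁻¹ * c * g) * (g⁻¹ * c * g) := by group
      _ = 1 := this
      _ = g⁻¹ * 1 * g := by group
  exact mul_left_cancel (mul_right_cancel h3)

theorem orderOf_ne_four {c : G} (hc : c ∈ M.N) : orderOf c ≠ 4 := by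
  intro h4
  have hu : orderOf (c * c) = 2 := by
    rw [orderOf_two_iff]
    refine ⟨?_, ?_⟩
    · have := pow_orderOf_eq_one c
      rw [h4] at this
      rw [← this, pow_succ, pow_succ, pow_succ, pow_one, mul_assoc, mul_assoc, mul_assoc]
    · intro h
      have : orderOf c ∣ 2 := orderOf_dvd_of_pow_eq_one (by rw [pow_two, h])
      rw [h4] at this
      norm_num at this
  have := M.sq_of_comm hu (M.N.mul_mem hc hc) hc (by group)
  have h2 : orderOf c ∣ 2 := orderOf_dvd_of_pow_eq_one (by rw [pow_two, this])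
  rw [h4] at h2
  norm_num at h2

theorem card_N : ∃ m : ℕ, Nat.card M.N = 4 * m ∧ ¬ 2 ∣ m ∧ Nat.card G = 8 * m := by
  obtain ⟨m, hm, hodd⟩ := C.card_eq_eight_mul
  refine ⟨m, ?_, hodd, hm⟩
  have := M.N.card_mul_index
  rw [M.hidx, hm] at this
  omega

end finite

end Mix

end Cfsg.Agent.Lib.Helper6.D8Cent
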