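/-
helper6: involution with centralizer `D_8` (general case), part 4:
the mixed case when all conjugates of `t` lie in `D`: `G ≅ S_4`.
-/
import Mathlib
import Cfsg.Agent.Lib.Helper6.D8Gen3
import Cfsg.Agent.S1012

set_option autoImplicit false

namespace Cfsg.Agent.Lib.Helper6.D8Cent

open DihedralGroup

universe u

namespace Mix

variable {G : Type u} [Group G] {C : Ctx G} (M : Mix C)

section finite
variable [Finite G]

include M in
theorem card_eq_24 (hA : ∀ g : G, g * C.t * g⁻¹ ∈ C.D) : Nat.card G = 24 := by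
  classical
  obtain ⟨m, hm, hodd⟩ := C.card_eq_eight_mul
  have hcl := Cfsg.Agent.CharLib.card_conj_mul_card_centralizer C.t
  have hD8 : Nat.card (Subgroup.centralizer ({C.t} : Set G)) = 8 := C.card_D
  rw [hD8, hm] at hcl
  have hclm : Nat.card {x : G // IsConj x C.t} = m := by omega
  have h3 : Nat.card {x : G // IsConj x C.t} ≤ 3 := by
    have hmem : ∀ x : {x : G // IsConj x C.t},
        x.1 ∈ ({C.t, C.gm (sr 0), C.gm (sr 2)} : Finset G) := by
      rintro ⟨x, hx⟩
      obtain ⟨g, rfl⟩ := isConj_iff.1 hx.symm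
      have h1 : g * C.t * g⁻¹ ≠ 1 := by
        intro h
        apply C.t_ne_one
        have : g * C.t * g⁻¹ = g * 1 * g⁻¹ := by rw [h]; group
        exact mul_left_cancel (mul_right_cancel this)
      rcases M.cases_of_mem (hA g) (M.conj_mem M.t_mem g) with h | h | h | h
      · exact absurd h h1
      · simp [h]
      · simp [h]
      · simp [h]
    have : Nat.card {x : G // IsConj x C.t} ≤
        Nat.card (({C.t, C.gm (sr 0), C.gm (sr 2)} : Finset G)) :=
      Nat.card_le_card_of_injective (fun x => ⟨x.1, hmem x⟩)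
        (fun x y h => Subtype.ext (by have := congrArg Subtype.val h; exact this))
    have hc : Nat.card (({C.t, C.gm (sr 0), C.gm (sr 2)} : Finset G)) =
        ({C.t, C.gm (sr 0), C.gm (sr 2)} : Finset G).card := by
      rw [Nat.card_eq_fintype_card, Fintype.card_coe]
    rw [hc] at this
    exact this.trans Finset.card_le_three
  have h1 : Nat.card {x : G // IsConj x C.t} ≠ 1 := by
    intro h
    rw [Nat.card_eq_one_iff_unique] at h
    obtain ⟨hs, -⟩ := h
    have : C.t = C.gm (sr 0) := congrArg Subtype.val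
      (hs.elim (⟨C.t, IsConj.refl _⟩ : {x : G // IsConj x C.t}) ⟨C.gm (sr 0), M.h0.symm⟩)
    have h2 : C.gm (r 2) = C.gm (sr 0) := by rw [C.gm_r2']; exact this
    exact d8_sr0_ne (C.gm_injective h2).symm
  rw [hclm] at h3 h1
  have : m = 3 := by
    interval_cases m
    · exact absurd (dvd_zero 2) hodd
    · exact absurd rfl h1
    · exact absurd (dvd_refl 2) hodd
    · rfl
  rw [hm, this]

theorem pow_eq_one_of_mem_D {y : G} (hyD : y ∈ C.D) (h3 : y ^ 3 = 1) : y = 1 := by
  have h8 := C.pow_eight_of_mem hyD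
  calc y = (y ^ 3) ^ 3 * (y ^ 8)⁻¹ := by group
    _ = 1 := by rw [h3, h8]; group

include M in
theorem orderOf_ne_six (hA : ∀ g : G, g * C.t * g⁻¹ ∈ C.D) (g : G) : orderOf g ≠ 6 := by
  intro h6
  have hg6 : g ^ 6 = 1 := by rw [← h6]; exact pow_orderOf_eq_one g
  have hu : orderOf (g ^ 3) = 2 := by
    rw [orderOf_two_iff]
    refine ⟨by rw [← pow_add]; exact hg6, ?_⟩
    intro h
    have := orderOf_dvd_of_pow_eq_one h
    rw [h6] at this
    norm_num at this
  have key : ¬ IsConj C.t (g ^ 3) := by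
    intro hc
    obtain ⟨k, hk⟩ := isConj_iff.1 hc
    have hmem : k⁻¹ * g * k ∈ C.D := by
      rw [C.mem_D]
      have h1 : g * (g ^ 3) = (g ^ 3) * g := by group
      rw [← hk] at h1
      calc k⁻¹ * g * k * C.t = k⁻¹ * (g * (k * C.t * k⁻¹)) * k := by group
        _ = k⁻¹ * (k * C.t * k⁻¹ * g) * k := by rw [h1]
        _ = C.t * (k⁻¹ * g * k) := by group
    have h8 := C.pow_eight_of_mem hmem
    have h8' : g ^ 8 = 1 := by
      have : (k⁻¹ * g * k) ^ 8 = k⁻¹ * g ^ 8 * k := by
        rw [show k⁻¹ * g * k = k⁻¹ * g * k⁻¹⁻¹ by group, conj_pow]; group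
      rw [this] at h8
      have h9 : k⁻¹ * g ^ 8 * k = k⁻¹ * 1 * k := by rw [h8]; group
      exact mul_left_cancel (mul_right_cancel h9)
    have h2 : g ^ 2 = 1 := by
      calc g ^ 2 = g ^ 8 * (g ^ 6)⁻¹ := by group
        _ = 1 := by rw [h8', hg6]; group
    have := orderOf_dvd_of_pow_eq_one h2
    rw [h6] at this
    norm_num at this
  rcases C.invol_conj3 hu with h | h | h
  · exact key h.symm
  · exact key (M.h0.trans h.symm)
  · obtain ⟨k, hk⟩ := isConj_iff.1 h
    -- `g' = k g k⁻¹` has cube `gm (sr 1)`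
    set g' := k * g * k⁻¹ with hg'
    have hg'3 : g' ^ 3 = C.gm (sr 1) := by
      rw [hg', conj_pow]; exact hk
    have hg'6 : g' ^ 6 = 1 := by
      rw [hg', conj_pow, hg6]; group
    set y := g' ^ 2 with hy
    have hy3 : y ^ 3 = 1 := by rw [hy, ← pow_mul]; exact hg'6
    have hycomm : y * C.gm (sr 1) = C.gm (sr 1) * y := by
      rw [← hg'3, hy, ← pow_add, ← pow_add]
    have hy1 : y ≠ 1 := by
      intro h1
      have h2 : g ^ 2 = 1 := by
        have : k * g ^ 2 * k⁻¹ = k * 1 * k⁻¹ := by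
          rw [← conj_pow, ← hg', ← hy, h1]; group
        exact mul_left_cancel (mul_right_cancel this)
      have := orderOf_dvd_of_pow_eq_one h2
      rw [h6] at this
      norm_num at this
    have hs1t : C.gm (sr 1) * C.t = C.t * C.gm (sr 1) := C.mem_D.1 (C.gm_mem _)
    have hw : C.gm (sr 1) * (y * C.t * y⁻¹) = (y * C.t * y⁻¹) * C.gm (sr 1) := by
      have hc : Commute y (C.gm (sr 1)) := hycomm
      calc C.gm (sr 1) * (y * C.t * y⁻¹) = (C.gm (sr 1) * y) * C.t * y⁻¹ := by group
        _ = (y * C.gm (sr 1)) * C.t * y⁻¹ := by rw [hycomm]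
        _ = y * (C.gm (sr 1) * C.t) * y⁻¹ := by group
        _ = y * (C.t * C.gm (sr 1)) * y⁻¹ := by rw [hs1t]
        _ = y * C.t * (C.gm (sr 1) * y⁻¹) := by group
        _ = y * C.t * (y⁻¹ * C.gm (sr 1)) := by rw [hc.inv_left.eq]
        _ = (y * C.t * y⁻¹) * C.gm (sr 1) := by group
    have h1 : y * C.t * y⁻¹ ≠ 1 := by
      intro h
      apply C.t_ne_one
      have : y * C.t * y⁻¹ = y * 1 * y⁻¹ := by rw [h]; group
      exact mul_left_cancel (mul_right_cancel this)
    rcases M.cases_of_mem (hA y) (M.conj_mem M.t_mem y) with h | h | h | h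
    · exact h1 h
    · apply hy1
      apply pow_eq_one_of_mem_D (C := C) _ hy3
      rw [C.mem_D]
      calc y * C.t = (y * C.t * y⁻¹) * y := by group
        _ = C.t * y := by rw [h]
    · rw [h, ← C.gm_mul, ← C.gm_mul] at hw
      exact d8_sr0_sr1_ne (C.gm_injective hw).symm
    · rw [h, ← C.gm_mul, ← C.gm_mul] at hw
      exact d8_sr2_sr1_ne (C.gm_injective hw).symm

include M in
theorem perm_four (hA : ∀ g : G, g * C.t * g⁻¹ ∈ C.D) : Nonempty (G ≃* Equiv.Perm (Fin 4)) :=
  Cfsg.Agent.S1012.result (M.card_eq_24 hA) (M.orderOf_ne_six hA)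

end finite

end Mix

end Cfsg.Agent.Lib.Helper6.D8Cent
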