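/-
helper6: recognition of `S_5`: a group of order 120 with a simple normal subgroup of order 60
and no central involution is isomorphic to `Perm (Fin 5)` (action on the six Sylow 5-subgroups
+ every subgroup of index 6 of `S_6` is `S_5`).
-/
import Mathlib
import Cfsg.Agent.S5945

set_option autoImplicit false

namespace Cfsg.Agent.Lib.Helper6.S5Recog

universe u

variable {G : Type u} [Group G] [Finite G]

theorem sylow5_index (h120 : Nat.card G = 120) (P : Sylow 5 G) :
    (P : Subgroup G).index = 24 ∧ Nat.card P = 5 := by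
  have : Fact (Nat.Prime 5) := ⟨by norm_num⟩
  obtain ⟨n, hn⟩ := IsPGroup.iff_card.mp P.isPGroup'
  have h1 := (P : Subgroup G).card_mul_index
  rw [h120] at h1
  have h2 := P.not_dvd_index
  rw [hn]
  rw [hn] at h1
  rcases n with _ | _ | n
  · exfalso
    simp only [pow_zero, one_mul] at h1
    rw [h1] at h2; norm_num at h2
  · constructor
    · omega
    · rfl
  · exfalso
    have : 25 ∣ 120 := by
      rw [← h1]
      apply Dvd.dvd.mul_right
      exact pow_dvd_pow 5 (by omega : 2 ≤ n + 1 + 1)
    norm_num at this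

/-- the conjugation action on Sylow 5-subgroups -/
noncomputable def sylHom (G : Type u) [Group G] : G →* Equiv.Perm (Sylow 5 G) :=
  MulAction.toPermHom _ _

theorem ker_le_normalizer (P : Sylow 5 G) :
    (sylHom G).ker ≤ Subgroup.normalizer (P : Set G) := by
  have : Fact (Nat.Prime 5) := ⟨by norm_num⟩
  intro g hg
  rw [← Sylow.stabilizer_eq_normalizer, MulAction.mem_stabilizer_iff]
  have := congrArg (fun f : Equiv.Perm _ => f P) (MonoidHom.mem_ker.mp hg)
  exact this

variable (N : Subgroup G) [hNn : N.Normal]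

include hNn in
theorem index_N (h120 : Nat.card G = 120) (hN60 : Nat.card N = 60) : N.index = 2 := by
  have := N.card_mul_index
  rw [h120, hN60] at this
  omega

include hNn in
theorem sylow_le (h120 : Nat.card G = 120) (hN60 : Nat.card N = 60) (P : Sylow 5 G) :
    (P : Subgroup G) ≤ N := by
  intro x hx
  have hidx := index_N N h120 hN60
  have h5 : x ^ 5 = 1 := by
    have := (sylow5_index h120 P).2
    have h := orderOf_dvd_natCard (⟨x, hx⟩ : (P : Subgroup G))
    rw [this] at h
    have h2 : (⟨x, hx⟩ : (P : Subgroup G)) ^ 5 = 1 := orderOf_dvd_iff_pow_eq_one.1 h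
    exact congrArg Subtype.val h2
  have h1 : x * x ∈ N := Subgroup.mul_self_mem_of_index_two hidx x
  have h2 : (x * x) ^ 3 ∈ N := N.pow_mem h1 3
  have h3 : (x * x) ^ 3 = x := by
    calc (x * x) ^ 3 = x ^ 6 := by rw [← pow_two, ← pow_mul]
      _ = x ^ 5 * x := pow_succ x 5
      _ = x := by rw [h5, one_mul]
  rwa [h3] at h2

include hNn in
theorem not_le_ker (h120 : Nat.card G = 120) (hNs : IsSimpleGroup N) (hN60 : Nat.card N = 60) :
    ¬ N ≤ (sylHom G).ker := by
  have : Fact (Nat.Prime 5) := ⟨by norm_num⟩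
  intro hle
  let P : Sylow 5 G := default
  have hPN := sylow_le N h120 hN60 P
  have hnorm : ((P : Subgroup G).subgroupOf N).Normal := by
    refine ⟨fun x hx n => ?_⟩
    rw [Subgroup.mem_subgroupOf] at hx ⊢
    have hn := ker_le_normalizer P (hle n.2)
    rw [Subgroup.mem_set_normalizer_iff] at hn
    have := (hn (x : G)).1 hx
    have h2 : ((n * x * n⁻¹ : ↥N) : G) = (n : G) * (x : G) * (n : G)⁻¹ := by simp
    rw [h2]
    exact this
  have hcard : Nat.card ((P : Subgroup G).subgroupOf N) = 5 := by
    rw [Nat.card_congr (Subgroup.subgroupOfEquivOfLe hPN).toEquiv]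
    exact (sylow5_index h120 P).2
  rcases hnorm.eq_bot_or_eq_top with h | h
  · rw [h, Subgroup.card_bot] at hcard
    norm_num at hcard
  · rw [h, Subgroup.card_top, hN60] at hcard
    norm_num at hcard

include hNn in
theorem ker_eq_bot (h120 : Nat.card G = 120) (hNs : IsSimpleGroup N) (hN60 : Nat.card N = 60)
    (hcen : ∀ k : G, orderOf k = 2 → ∃ g : G, g * k ≠ k * g) : (sylHom G).ker = ⊥ := by
  set K := (sylHom G).ker with hK
  have hKn : K.Normal := MonoidHom.normal_ker _
  have hnle := not_le_ker N h120 hNs hN60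
  have hnorm : (K.subgroupOf N).Normal := Subgroup.Normal.subgroupOf hKn N
  have hdis : Disjoint K N := by
    rcases hnorm.eq_bot_or_eq_top with h | h
    · exact Subgroup.subgroupOf_eq_bot.1 h
    · exact absurd (Subgroup.subgroupOf_eq_top.1 h) hnle
  have hdvd : Nat.card K ∣ 2 := by
    have h1 := Subgroup.relIndex_dvd_index_of_normal N K
    rw [index_N N h120 hN60] at h1
    have h2 : N.subgroupOf K = ⊥ := Subgroup.subgroupOf_eq_bot.2 hdis.symm
    rw [Subgroup.relIndex, h2, Subgroup.index_bot] at h1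
    exact h1
  by_contra hne
  have hK2 : Nat.card K = 2 := by
    have h1 : Nat.card K ≠ 1 := by
      intro h
      exact hne (Subgroup.card_eq_one.1 h)
    have h2 : Nat.card K ≤ 2 := Nat.le_of_dvd (by norm_num) hdvd
    have h3 : 0 < Nat.card K := Nat.card_pos
    omega
  obtain ⟨k, hk, huniq⟩ := (Nat.card_eq_two_iff' (1 : K)).1 hK2
  have hko : orderOf (k : G) = 2 := by
    rw [Subgroup.orderOf_coe]
    have h1 := orderOf_dvd_natCard k
    rw [hK2] at h1
    have h2 : orderOf k ≠ 1 := by
      intro h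
      exact hk (orderOf_eq_one_iff.1 h)
    have h3 : orderOf k ≤ 2 := Nat.le_of_dvd (by norm_num) h1
    have h4 : 0 < orderOf k := orderOf_pos k
    omega
  obtain ⟨g, hg⟩ := hcen (k : G) hko
  apply hg
  have hmem : g * (k : G) * g⁻¹ ∈ K := hKn.conj_mem _ k.2 g
  have hne1 : (⟨g * (k : G) * g⁻¹, hmem⟩ : K) ≠ 1 := by
    intro h
    have h1 : g * (k : G) * g⁻¹ = 1 := congrArg Subtype.val h
    apply hk
    apply Subtype.ext
    have : g * (k : G) * g⁻¹ = g * 1 * g⁻¹ := by rw [h1]; group
    exact mul_left_cancel (mul_right_cancel this)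
  have := huniq _ hne1
  have h2 : g * (k : G) * g⁻¹ = (k : G) := congrArg Subtype.val this
  calc g * (k : G) = (g * (k : G) * g⁻¹) * g := by group
    _ = (k : G) * g := by rw [h2]

include hNn in
theorem card_sylow5 (h120 : Nat.card G = 120) (hNs : IsSimpleGroup N) (hN60 : Nat.card N = 60) :
    Nat.card (Sylow 5 G) = 6 := by
  have : Fact (Nat.Prime 5) := ⟨by norm_num⟩
  let P : Sylow 5 G := default
  obtain ⟨hidx, hcard⟩ := sylow5_index h120 P
  have hdvd := P.card_dvd_index
  rw [hidx] at hdvd
  have hmod := card_sylow_modEq_one 5 G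
  have hne1 : Nat.card (Sylow 5 G) ≠ 1 := by
    intro h1
    have hss : Subsingleton (Sylow 5 G) := (Nat.card_eq_one_iff_unique.mp h1).1
    apply not_le_ker N h120 hNs hN60
    intro x _
    rw [MonoidHom.mem_ker]
    apply Equiv.ext
    intro Q
    exact Subsingleton.elim _ _
  have hle : Nat.card (Sylow 5 G) ≤ 24 := Nat.le_of_dvd (by norm_num) hdvd
  generalize Nat.card (Sylow 5 G) = c at *
  interval_cases c <;> first | rfl | (exfalso; revert hmod hdvd hne1; decide)

include hNn in
/-- Recognition of `S_5`. -/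
theorem perm_five (h120 : Nat.card G = 120) (hNs : IsSimpleGroup N) (hN60 : Nat.card N = 60)
    (hcen : ∀ k : G, orderOf k = 2 → ∃ g : G, g * k ≠ k * g) :
    Nonempty (G ≃* Equiv.Perm (Fin 5)) := by
  classical
  have : Fact (Nat.Prime 5) := ⟨by norm_num⟩
  have hinj : Function.Injective (sylHom G) := by
    rw [← MonoidHom.ker_eq_bot_iff]
    exact ker_eq_bot N h120 hNs hN60 hcen
  let e : Sylow 5 G ≃ Fin 6 := Finite.equivFinOfCardEq (card_sylow5 N h120 hNs hN60)
  let ψ : G →* Equiv.Perm (Fin 6) := e.permCongrHom.toMonoidHom.comp (sylHom G)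
  have hψ : Function.Injective ψ := by
    intro a b hab
    apply hinj
    exact e.permCongrHom.injective hab
  have hidx : ψ.range.index = 6 := by
    have h1 := ψ.range.card_mul_index
    have h2 : Nat.card ψ.range = 120 := by
      rw [← Nat.card_congr (MonoidHom.ofInjective hψ).toEquiv, h120]
    rw [h2, Nat.card_eq_fintype_card, Fintype.card_perm, Fintype.card_fin] at h1
    have : (6 : ℕ).factorial = 720 := rfl
    omega
  obtain ⟨iso⟩ := Cfsg.Agent.S5945.result.2.1 ψ.range hidx
  exact ⟨(MonoidHom.ofInjective hψ).trans iso⟩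

end Cfsg.Agent.Lib.Helper6.S5Recog
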