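/-
helper6: involution with centralizer `D_8` (general case), part 5:
the mixed case when some conjugate of `t` lies outside `D`: `G ≅ S_5`.
-/
import Mathlib
import Cfsg.Agent.Lib.Helper6.D8Gen3
import Cfsg.Agent.Lib.Helper6.S5Recog
import Cfsg.Agent.Lib.Helper2.GLCard
import Cfsg.Agent.S1230

set_option autoImplicit false

namespace Cfsg.Agent.Lib.Helper6.D8Cent

open DihedralGroup

universe u

namespace Ctx

variable {G : Type u} [Group G] (C : Ctx G)

/-- a nontrivial element centralizing `D` is `t` -/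
theorem eq_t_of_central {k : G} (hk1 : k ≠ 1) (hk : ∀ g : G, g ∈ C.D → g * k = k * g) :
    k = C.t := by
  have hkD : k ∈ C.D := by
    rw [C.mem_D]; exact (hk C.t C.t_mem).symm
  have h1 := d8_central (C.e ⟨k, hkD⟩) (by
    intro y
    have h2 := hk (C.gm y) (C.gm_mem y)
    rw [← C.gm_e hkD, ← C.gm_mul, ← C.gm_mul] at h2
    exact C.gm_injective h2)
  rcases h1 with h1 | h1
  · exfalso
    apply hk1
    rw [← C.gm_e hkD, h1, C.gm_one]
  · rw [← C.gm_e hkD, h1, C.gm_r2']

end Ctx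

namespace Mix

variable {G : Type u} [Group G] {C : Ctx G} (M : Mix C)

section finite
variable [Finite G]

theorem hC_N : ∀ t' : ↥M.N, orderOf t' = 2 →
    IsMulCommutative (Subgroup.centralizer ({t'} : Set ↥M.N)) ∧
      ∀ c ∈ Subgroup.centralizer ({t'} : Set ↥M.N), c ^ 2 = 1 := by
  intro t' ht'
  have hu : orderOf (t' : G) = 2 := by rw [Subgroup.orderOf_coe]; exact ht'
  refine ⟨⟨⟨fun a b => ?_⟩⟩, fun c hc => ?_⟩
  · apply Subtype.ext
    apply Subtype.ext
    have ha := Subgroup.mem_centralizer_singleton_iff.1 a.2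
    have hb := Subgroup.mem_centralizer_singleton_iff.1 b.2
    exact M.comm_of_comm hu t'.2 a.1.2 (congrArg Subtype.val ha) b.1.2 (congrArg Subtype.val hb)
  · apply Subtype.ext
    have hc' := Subgroup.mem_centralizer_singleton_iff.1 hc
    rw [pow_two]
    exact M.sq_of_comm hu t'.2 c.2 (congrArg Subtype.val hc')

theorem card_sylow_N (T : Sylow 2 ↥M.N) : Nat.card T = 4 := by
  have : Fact (Nat.Prime 2) := ⟨Nat.prime_two⟩
  obtain ⟨m, hNm, hodd, -⟩ := M.card_N
  obtain ⟨n, hn⟩ := IsPGroup.iff_card.mp T.isPGroup'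
  have h1 := (T : Subgroup ↥M.N).card_mul_index
  have h2 := T.not_dvd_index
  rw [hn, hNm] at h1
  rw [hn]
  rcases n with _ | _ | _ | n
  · exfalso
    apply h2
    rw [pow_zero, one_mul] at h1
    rw [h1]
    exact ⟨2 * m, by ring⟩
  · exfalso
    apply h2
    rw [zero_add, pow_one] at h1
    exact ⟨m, by omega⟩
  · rfl
  · exfalso
    apply hodd
    have h3 : 2 ^ (n + 1 + 1 + 1) * (T : Subgroup ↥M.N).index =
        8 * (2 ^ n * (T : Subgroup ↥M.N).index) := by ring
    rw [h3] at h1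
    exact ⟨2 ^ n * (T : Subgroup ↥M.N).index, by omega⟩

theorem not_isCyclic_sylow_N (T : Sylow 2 ↥M.N) : ¬ IsCyclic (T : Subgroup ↥M.N) := by
  intro hcyc
  obtain ⟨g, hg⟩ := IsCyclic.exists_ofOrder_eq_natCard (α := (T : Subgroup ↥M.N))
  rw [M.card_sylow_N T] at hg
  apply M.orderOf_ne_four (c := ((g : ↥M.N) : G)) (g : ↥M.N).2
  rw [Subgroup.orderOf_coe, Subgroup.orderOf_coe]
  exact hg

theorem not_normal_sylow_N (hB : ∃ g : G, g * C.t * g⁻¹ ∉ C.D) (T : Sylow 2 ↥M.N) :
    ¬ (T : Subgroup ↥M.N).Normal := by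
  have : Fact (Nat.Prime 2) := ⟨Nat.prime_two⟩
  intro hT
  obtain ⟨g, hg⟩ := hB
  have huniq := Sylow.unique_of_normal T hT
  have hmem : ∀ x : ↥M.N, orderOf x = 2 → x ∈ (T : Subgroup ↥M.N) := by
    intro x hx
    have hup : IsPGroup 2 (Subgroup.zpowers x) :=
      IsPGroup.of_card (n := 1) (by rw [Nat.card_zpowers, hx, pow_one])
    obtain ⟨Q, hQ⟩ := hup.exists_le_sylow
    have : Q = T := Subsingleton.elim _ _
    rw [← this]
    exact hQ (Subgroup.mem_zpowers x)
  have hcomm := IsPGroup.commutative_of_card_eq_prime_sq (p := 2)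
    (G := (T : Subgroup ↥M.N)) (by rw [M.card_sylow_N T]; norm_num)
  have ht2 : orderOf (⟨C.t, M.t_mem⟩ : ↥M.N) = 2 := by
    rw [← Subgroup.orderOf_coe]; exact C.ht
  have hw2 : orderOf (⟨g * C.t * g⁻¹, M.conj_mem M.t_mem g⟩ : ↥M.N) = 2 := by
    rw [← Subgroup.orderOf_coe]
    show orderOf (g * C.t * g⁻¹) = 2
    rw [← orderOf_of_isConj (isConj_iff.2 ⟨g, rfl⟩)]; exact C.ht
  have h := hcomm ⟨_, hmem _ hw2⟩ ⟨_, hmem _ ht2⟩
  apply hg
  rw [C.mem_D]
  exact congrArg (fun z : (T : Subgroup ↥M.N) => ((z : ↥M.N) : G)) h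

include M in
/-- The mixed case with a conjugate of `t` outside `D`: `G ≅ S_5`. -/
theorem perm_five (hB : ∃ g : G, g * C.t * g⁻¹ ∉ C.D) : Nonempty (G ≃* Equiv.Perm (Fin 5)) := by
  have : Fact (Nat.Prime 2) := ⟨Nat.prime_two⟩
  let T : Sylow 2 ↥M.N := default
  obtain ⟨F, hfield, hfin, hF, ⟨iso⟩⟩ := Cfsg.Agent.S1230.result T (M.not_isCyclic_sylow_N T)
    (M.not_normal_sylow_N hB T) M.hC_N
  rw [M.card_sylow_N T] at hF
  have hcard := Cfsg.Agent.Lib.Helper2.card_PSL_field (F := F) 2 (by norm_num)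
  rw [hF, Fin.prod_univ_two] at hcard
  norm_num at hcard
  have hsimple : IsSimpleGroup (Matrix.ProjectiveSpecialLinearGroup (Fin 2) F) :=
    Matrix.ProjectiveSpecialLinearGroup.rank_two_simple
      (by rw [Nat.card_eq_fintype_card, hF])
  have hNs : IsSimpleGroup ↥M.N := MulEquiv.isSimpleGroup iso
  have hN60 : Nat.card ↥M.N = 60 := by
    rw [Nat.card_congr iso.toEquiv]
    omega
  obtain ⟨m, hNm, hodd, hGm⟩ := M.card_N
  have h120 : Nat.card G = 120 := by omega
  haveI := M.hN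
  refine S5Recog.perm_five M.N h120 hNs hN60 ?_
  intro k hk
  by_contra hall
  push Not at hall
  have hk1 : k ≠ 1 := by
    intro h
    rw [h, orderOf_one] at hk
    norm_num at hk
  have hkt : k = C.t := C.eq_t_of_central hk1 (fun g _ => hall g)
  have htop : C.D = ⊤ := by
    rw [eq_top_iff]
    intro g _
    rw [C.mem_D, ← hkt]
    exact hall g
  have := C.card_D
  rw [htop, Subgroup.card_top, h120] at this
  norm_num at this

end finite

end Mix

end Cfsg.Agent.Lib.Helper6.D8Cent
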