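/-
helper6: involution with centralizer `D_8` (general case), part 6:
assembling the cases.
-/
import Mathlib
import Cfsg.Agent.Lib.Helper6.D8Gen4
import Cfsg.Agent.Lib.Helper6.D8Gen5
import Cfsg.Agent.Lib.Helper2.SLGen
import Cfsg.Agent.Lib.Helper4.U168c
import Cfsg.Agent.S0848
import Cfsg.Agent.S0497

set_option autoImplicit false

namespace Cfsg.Agent.Lib.Helper6.D8Cent

open DihedralGroup Cfsg.Agent.Lib.Helper29

universe u

theorem card_SL3_two {K : Type*} [Field K] [Fintype K] (hK : Fintype.card K = 2) :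
    Nat.card (Matrix.SpecialLinearGroup (Fin 3) K) = 168 := by
  have h := Cfsg.Agent.Lib.Helper2.card_SL_field (F := K) 3 (by norm_num)
  rw [hK, Fin.prod_univ_three] at h
  norm_num at h
  exact h

theorem center_SL3_two {K : Type*} [Field K] [Fintype K] (hK : Fintype.card K = 2) :
    Subgroup.center (Matrix.SpecialLinearGroup (Fin 3) K) = ⊥ := by
  have h := Cfsg.Agent.Lib.Helper2.card_center_SL_field (F := K) 3 (by norm_num)
  rw [hK] at h
  norm_num at h
  exact h

theorem isSimpleGroup_SL3_two {K : Type*} [Field K] [Fintype K] (hK : Fintype.card K = 2) :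
    IsSimpleGroup (Matrix.SpecialLinearGroup (Fin 3) K) := by
  have hs : IsSimpleGroup (Matrix.ProjectiveSpecialLinearGroup (Fin 3) K) :=
    Cfsg.Agent.Lib.Helper2.psl_isSimpleGroup (by simp)
  have e : Matrix.SpecialLinearGroup (Fin 3) K ≃*
      Matrix.ProjectiveSpecialLinearGroup (Fin 3) K :=
    (QuotientGroup.quotientBot (G := Matrix.SpecialLinearGroup (Fin 3) K)).symm.trans
      (QuotientGroup.quotientMulEquivOfEq (center_SL3_two hK).symm)
  exact MulEquiv.isSimpleGroup e

theorem card_SL32 : Nat.card (Matrix.SpecialLinearGroup (Fin 3) (ZMod 2)) = 168 :=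
  card_SL3_two (ZMod.card 2)

theorem isSimpleGroup_SL32 : IsSimpleGroup (Matrix.SpecialLinearGroup (Fin 3) (ZMod 2)) :=
  isSimpleGroup_SL3_two (ZMod.card 2)

namespace Ctx

variable {G : Type u} [Group G] (C : Ctx G)

/-- exchanging the two classes of noncentral involutions of `D` -/
noncomputable def swap : Ctx G := ⟨C.t, C.ht, C.e.trans (dihSwap 4)⟩

theorem swap_t : C.swap.t = C.t := rfl

theorem swap_gm (d : DihedralGroup 4) : C.swap.gm d = C.gm ((dihSwap 4).symm d) := rfl

theorem swap_gm_sr0 : C.swap.gm (sr 0) = C.gm (sr 1) := by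
  rw [swap_gm, dihSwap_symm_sr, sub_zero]

theorem swap_gm_sr1 : C.swap.gm (sr 1) = C.gm (sr 0) := by
  rw [swap_gm, dihSwap_symm_sr, sub_self]

section finite
variable [Finite G]

theorem mixed (h0 : IsConj C.t (C.gm (sr 0))) (h1 : ¬ IsConj C.t (C.gm (sr 1))) :
    Nonempty (G ≃* Equiv.Perm (Fin 4)) ∨ Nonempty (G ≃* Equiv.Perm (Fin 5)) := by
  obtain ⟨N, hN, hidx, hnot⟩ := C.exists_index_two h1
  let M : Mix C := ⟨N, hN, hidx, h0, hnot⟩
  by_cases hA : ∀ g : G, g * C.t * g⁻¹ ∈ C.D
  · exact Or.inl (M.perm_four hA)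
  · push Not at hA
    exact Or.inr (M.perm_five hA)

theorem simple_case (h0 : IsConj C.t (C.gm (sr 0))) (h1 : IsConj C.t (C.gm (sr 1))) :
    Nonempty (G ≃* Matrix.SpecialLinearGroup (Fin 3) (ZMod 2)) ∨
      Nonempty (G ≃* ↥(alternatingGroup (Fin 6))) := by
  have hno2 := C.no_index_two_of_conj h0 h1
  have hs : IsSimpleGroup G := C.isSimpleGroup hno2
  have hperf : commutator G = ⊤ := C.commutator_eq_top hno2
  rcases Cfsg.Agent.S0848.result hperf C.t C.ht C.e with h | h
  · left
    haveI := isSimpleGroup_SL32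
    exact Cfsg.Agent.Lib.Helper4.s168_mulEquiv h card_SL32
  · right
    exact Cfsg.Agent.S0497.result h

/-- The main theorem on involutions with centralizer `D_8`. -/
theorem main : C.D ⊔ Cfsg.oddCore G = ⊤ ∨ Nonempty (G ≃* Equiv.Perm (Fin 4)) ∨
    Nonempty (G ≃* Equiv.Perm (Fin 5)) ∨
    Nonempty (G ≃* Matrix.SpecialLinearGroup (Fin 3) (ZMod 2)) ∨
    Nonempty (G ≃* ↥(alternatingGroup (Fin 6))) := by
  by_cases h0 : IsConj C.t (C.gm (sr 0))
  · by_cases h1 : IsConj C.t (C.gm (sr 1))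
    · rcases C.simple_case h0 h1 with h | h
      · exact Or.inr (Or.inr (Or.inr (Or.inl h)))
      · exact Or.inr (Or.inr (Or.inr (Or.inr h)))
    · rcases C.mixed h0 h1 with h | h
      · exact Or.inr (Or.inl h)
      · exact Or.inr (Or.inr (Or.inl h))
  · by_cases h1 : IsConj C.t (C.gm (sr 1))
    · have h0' : IsConj C.swap.t (C.swap.gm (sr 0)) := by
        rw [swap_t, swap_gm_sr0]; exact h1
      have h1' : ¬ IsConj C.swap.t (C.swap.gm (sr 1)) := by
        rw [swap_t, swap_gm_sr1]; exact h0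
      rcases C.swap.mixed h0' h1' with h | h
      · exact Or.inr (Or.inl h)
      · exact Or.inr (Or.inr (Or.inl h))
    · exact Or.inl (C.sup_oddCore_eq_top (C.normal_complement_of_not_conj h0 h1))

end finite

end Ctx

end Cfsg.Agent.Lib.Helper6.D8Cent
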