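import Mathlib
import Cfsg.Agent.Lib.Helper7.DHBDefs

/-!
Helper6: DHB market (S3616 core, planner helper7), leaf CARD2 (`card_two`).
-/

set_option autoImplicit false

namespace Cfsg.Agent.Lib.Helper6.DHBCARD2

open Finset Cfsg.Agent.Lib.Helper7.DHB

variable {n : ℕ} [NeZero n] {X Y : Finset (ZMod n)} {k l m : ℕ}

omit [NeZero n] in
/-- in `ZMod n`, `n` odd, `i = -i` forces `i = 0`. -/
theorem eq_zero_of_eq_neg (hn : Odd n) {i : ZMod n} (h : i = -i) : i = 0 := by
  have h2 : (2 : ZMod n) * i = 0 := by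
    have : i + i = 0 := by
      nth_rewrite 2 [h]
      exact add_neg_cancel i
    rw [two_mul]; exact this
  obtain ⟨c, hc⟩ := hn
  have h3 : (((c + 1 : ℕ) : ZMod n)) * 2 = 1 := by
    have e : ((c + 1 : ℕ) : ZMod n) * 2 = ((n + 1 : ℕ) : ZMod n) := by
      have : (c + 1) * 2 = n + 1 := by omega
      rw [← this]; push_cast; ring
    rw [e]; push_cast; rw [ZMod.natCast_self, zero_add]
  calc i = (((c + 1 : ℕ) : ZMod n) * 2) * i := by rw [h3, one_mul]
    _ = ((c + 1 : ℕ) : ZMod n) * (2 * i) := by ring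
    _ = 0 := by rw [h2, mul_zero]

/-- **CARD2**: for odd `n` a non-empty symmetric `X ∌ 0` has at least two points. -/
theorem card_two (hn : Odd n) (h0 : (0 : ZMod n) ∉ X) (hneg : ∀ i ∈ X, -i ∈ X) (hX : X.Nonempty) :
    2 ≤ X.card := by
  obtain ⟨i, hi⟩ := hX
  have hne : i ≠ -i := by
    intro h
    have := eq_zero_of_eq_neg hn h
    exact h0 (this ▸ hi)
  have hsub : ({i, -i} : Finset (ZMod n)) ⊆ X := by
    intro j hj
    rw [Finset.mem_insert, Finset.mem_singleton] at hj
    rcases hj with rfl | rfl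
    · exact hi
    · exact hneg _ hi
  calc 2 = ({i, -i} : Finset (ZMod n)).card := (Finset.card_pair hne).symm
    _ ≤ X.card := Finset.card_le_card hsub

end Cfsg.Agent.Lib.Helper6.DHBCARD2
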