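import Mathlib
import Cfsg.Agent.Lib.Helper7.DHBDefs
import Cfsg.Agent.Lib.Helper20.DHBPAR

/-!
Helper6: DHB market (S3616 core, planner helper7), leaf NE (`ne_parts`): in the non-degenerate case
all four parts are non-empty.
-/

set_option autoImplicit false

namespace Cfsg.Agent.Lib.Helper6.DHBNE

open Finset Cfsg.Agent.Lib.Helper7.DHB

variable {n : ℕ} [NeZero n] {X Y : Finset (ZMod n)} {k l m : ℕ}

omit [NeZero n] in
/-- `rep S T i = #{b ∈ T | i - b ∈ S}`. -/
theorem rep_eq (S T : Finset (ZMod n)) (i : ZMod n) :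
    rep S T i = (T.filter (fun b => i - b ∈ S)).card := by
  classical
  unfold rep
  refine Finset.card_bij (fun q _ => q.2) ?_ ?_ ?_
  · intro q hq
    rw [Finset.mem_filter, Finset.mem_product] at hq
    rw [Finset.mem_filter]
    refine ⟨hq.1.2, ?_⟩
    have : i - q.2 = q.1 := by rw [← hq.2]; ring
    rw [this]; exact hq.1.1
  · intro q hq q' hq' h
    rw [Finset.mem_filter] at hq hq'
    have h1 : q.1 = i - q.2 := by rw [← hq.2]; ring
    have h2 : q'.1 = i - q'.2 := by rw [← hq'.2]; ring
    exact Prod.ext (by rw [h1, h2, h]) h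
  · intro b hb
    rw [Finset.mem_filter] at hb
    refine ⟨(i - b, b), ?_, rfl⟩
    rw [Finset.mem_filter, Finset.mem_product]
    exact ⟨⟨hb.2, hb.1⟩, by simp⟩

omit [NeZero n] in
/-- `dif S T i = #{a ∈ S | a + i ∈ T}`. -/
theorem dif_eq (S T : Finset (ZMod n)) (i : ZMod n) :
    dif S T i = (S.filter (fun a => a + i ∈ T)).card := by
  classical
  unfold dif
  refine Finset.card_bij (fun q _ => q.1) ?_ ?_ ?_
  · intro q hq
    rw [Finset.mem_filter, Finset.mem_product] at hq
    rw [Finset.mem_filter]
    refine ⟨hq.1.1, ?_⟩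
    have : q.1 + i = q.2 := by rw [← hq.2]; ring
    rw [this]; exact hq.1.2
  · intro q hq q' hq' h
    rw [Finset.mem_filter] at hq hq'
    have h1 : q.2 = q.1 + i := by rw [← hq.2]; ring
    have h2 : q'.2 = q'.1 + i := by rw [← hq'.2]; ring
    exact Prod.ext h (by rw [h1, h2, h])
  · intro a ha
    rw [Finset.mem_filter] at ha
    refine ⟨(a, a + i), ?_, rfl⟩
    rw [Finset.mem_filter, Finset.mem_product]
    exact ⟨⟨ha.1, ha.2⟩, by simp⟩

theorem mem_Xc {i : ZMod n} : i ∈ Xc X ↔ i ≠ 0 ∧ i ∉ X := by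
  unfold Xc
  rw [Finset.mem_erase, Finset.mem_compl]

theorem card_univ_zmod : (Finset.univ : Finset (ZMod n)).card = n := by
  rw [Finset.card_univ, ZMod.card]

/-- **NE**: in the non-degenerate case all four parts are non-empty. -/
theorem ne_parts (h : Hyp n X Y k l m)
    (hT' : (∃ i : ZMod n, i ≠ 0 ∧ i ∉ X) ∨ ∃ j : ZMod n, j ∉ Y) (hm0 : m ≠ 0) (hmk : m ≠ k) :
    X.Nonempty ∧ Y.Nonempty ∧ (Xc X).Nonempty ∧ (Yᶜ).Nonempty := by
  classical
  obtain ⟨hP1, hP2, hP3⟩ := Cfsg.Agent.Lib.Helper20.DHBPAR.par h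
  -- (a) `Y` is non-empty
  have hY : Y.Nonempty := by
    rw [Finset.nonempty_iff_ne_empty]
    rintro rfl
    have := h.E2 0
    rw [rep_eq] at this
    simp at this
    exact hm0 this.symm
  -- (b) `X` is non-empty
  have hX : X.Nonempty := by
    rw [Finset.nonempty_iff_ne_empty]
    rintro rfl
    have hE2 : ∀ j : ZMod n, j ∉ Y → m = 0 := by
      intro j hj
      have := h.E2 j
      rw [rep_eq, if_neg hj] at this
      simp at this
      exact this.symm
    have hYu : Y = univ := by
      rw [Finset.eq_univ_iff_forall]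
      intro j
      by_contra hj
      exact hm0 (hE2 j hj)
    rcases hT' with ⟨i, hi0, hiX⟩ | ⟨j, hj⟩
    · have h1 := h.E1 i
      rw [if_neg hi0, if_neg hiX, rep_eq, dif_eq, hYu] at h1
      simp at h1
      have h0 := h.E1 0
      rw [if_pos rfl, rep_eq, dif_eq, hYu] at h0
      simp at h0
      exact hmk (h1.symm.trans h0)
    · exact hm0 (hE2 j hj)
  -- (c) `Xc X` is non-empty
  have hXc : (Xc X).Nonempty := by
    rw [Finset.nonempty_iff_ne_empty]
    intro hempty
    have hall : ∀ i : ZMod n, i ≠ 0 → i ∈ X := by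
      intro i hi
      by_contra hiX
      have : i ∈ Xc X := mem_Xc.2 ⟨hi, hiX⟩
      rw [hempty] at this
      exact absurd this (Finset.notMem_empty i)
    have hXeq : X = univ.erase 0 := by
      ext i
      rw [Finset.mem_erase]
      constructor
      · intro hi
        exact ⟨fun e => h.zero_notMem (e ▸ hi), Finset.mem_univ _⟩
      · rintro ⟨hi, -⟩
        exact hall i hi
    have hXcard : X.card + 1 = n := by
      rw [hXeq, Finset.card_erase_of_mem (Finset.mem_univ _), card_univ_zmod]
      have := NeZero.pos n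
      omega
    obtain ⟨j, hj⟩ : ∃ j : ZMod n, j ∉ Y := by
      rcases hT' with ⟨i, hi0, hiX⟩ | hj
      · exact absurd (hall i hi0) hiX
      · exact hj
    -- m = 2 |Y|
    have hm : m = 2 * Y.card := by
      have := h.E2 j
      rw [if_neg hj, rep_eq] at this
      rw [← this]
      congr 1
      rw [Finset.filter_true_of_mem]
      intro b hb
      apply hall
      intro e
      have : j = b := sub_eq_zero.mp e
      exact hj (this ▸ hb)
    -- l = 2 (|Y| - 1)
    obtain ⟨j', hj'⟩ := hY
    have hl : l + 2 = 2 * Y.card := by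
      have := h.E2 j'
      rw [if_pos hj', rep_eq] at this
      have hfil : Y.filter (fun b => j' - b ∈ X) = Y.erase j' := by
        ext b
        rw [Finset.mem_filter, Finset.mem_erase]
        constructor
        · rintro ⟨hb, hbX⟩
          refine ⟨fun e => h.zero_notMem ?_, hb⟩
          rw [e, sub_self] at hbX
          exact hbX
        · rintro ⟨hb, hbY⟩
          refine ⟨hbY, hall _ ?_⟩
          intro e
          exact hb (sub_eq_zero.mp e).symm
      rw [hfil, Finset.card_erase_of_mem hj'] at this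
      have hpos : 0 < Y.card := Finset.card_pos.2 ⟨j', hj'⟩
      omega
    -- |Y| ≤ n - 1
    have hYle : Y.card + 1 ≤ n := by
      have hsub : Y ⊆ univ.erase j := by
        intro b hb
        rw [Finset.mem_erase]
        exact ⟨fun e => hj (e ▸ hb), Finset.mem_univ _⟩
      have := Finset.card_le_card hsub
      rw [Finset.card_erase_of_mem (Finset.mem_univ _), card_univ_zmod] at this
      have := NeZero.pos n
      omega
    -- arithmetic
    obtain ⟨d, hd⟩ := Nat.exists_eq_add_of_le hYle
    apply hmk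
    have hXc' : X.card = Y.card + d := by omega
    have hd0 : d = 0 := by
      have e3 : ((X.card : ℤ)) ^ 2 + (Y.card : ℤ) ^ 2 + m * ((X.card : ℤ) + 1)
          = k + l * (X.card : ℤ) + m * n := by exact_mod_cast hP3
      have ek : (k : ℤ) = X.card + Y.card := by exact_mod_cast hP1.symm
      have el : (l : ℤ) = 2 * Y.card - 2 := by
        have : (l : ℤ) + 2 = 2 * Y.card := by exact_mod_cast hl
        linarith
      have en : (n : ℤ) = X.card + 1 := by exact_mod_cast hXcard.symm
      have ex : (X.card : ℤ) = Y.card + d := by exact_mod_cast hXc'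
      rw [ek, el, en, ex] at e3
      have : (d : ℤ) ^ 2 + d = 0 := by nlinarith
      have hd' : (d : ℤ) = 0 := by nlinarith [sq_nonneg (d : ℤ), Int.natCast_nonneg d]
      exact_mod_cast hd'
    omega
  refine ⟨hX, hY, hXc, ?_⟩
  -- (d) `Yᶜ` is non-empty
  rw [Finset.nonempty_iff_ne_empty]
  intro hempty
  have hYu : Y = univ := by
    rw [← Finset.compl_eq_empty_iff]
    exact hempty
  have hYcard : Y.card = n := by rw [hYu, card_univ_zmod]
  have hl : l = 2 * X.card := by
    have := h.E2 0
    rw [hYu, if_pos (Finset.mem_univ _), rep_eq] at this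
    rw [← this]
    congr 1
    refine Finset.card_bij (fun b _ => 0 - b) ?_ ?_ ?_
    · intro b hb
      exact (Finset.mem_filter.mp hb).2
    · intro b _ b' _ e
      simpa using e
    · intro a ha
      exact ⟨0 - a, by simp [ha], by simp⟩
  obtain ⟨i, hi⟩ := hXc
  rw [mem_Xc] at hi
  have hXle : X.card + 2 ≤ n := by
    have hsub : X ⊆ (univ.erase 0).erase i := by
      intro b hb
      rw [Finset.mem_erase, Finset.mem_erase]
      exact ⟨fun e => hi.2 (e ▸ hb), fun e => h.zero_notMem (e ▸ hb), Finset.mem_univ _⟩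
    have := Finset.card_le_card hsub
    rw [Finset.card_erase_of_mem (by rw [Finset.mem_erase]; exact ⟨hi.1, Finset.mem_univ _⟩),
      Finset.card_erase_of_mem (Finset.mem_univ _), card_univ_zmod] at this
    have hpos : 0 < X.card := Finset.card_pos.2 hX
    omega
  obtain ⟨t, ht⟩ := Nat.exists_eq_add_of_le hXle
  apply hmk
  have e3 : ((X.card : ℤ)) ^ 2 + (Y.card : ℤ) ^ 2 + m * ((X.card : ℤ) + 1)
      = k + l * (X.card : ℤ) + m * n := by exact_mod_cast hP3
  have ek : (k : ℤ) = X.card + Y.card := by exact_mod_cast hP1.symm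
  have el : (l : ℤ) = 2 * X.card := by exact_mod_cast hl
  have ey : (Y.card : ℤ) = n := by exact_mod_cast hYcard
  have en : (n : ℤ) = X.card + 2 + t := by exact_mod_cast ht
  rw [ek, el, ey, en] at e3
  have key : ((t : ℤ) + 1) * ((m : ℤ) - (2 * X.card + 2 + t)) = 0 := by nlinarith
  have ht1 : ((t : ℤ) + 1) ≠ 0 := by positivity
  have hmz : (m : ℤ) = 2 * X.card + 2 + t := by
    have := (mul_eq_zero.mp key).resolve_left ht1
    linarith
  have : m = 2 * X.card + 2 + t := by exact_mod_cast hmz
  omega

end Cfsg.Agent.Lib.Helper6.DHBNE
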