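import Mathlib
import Cfsg.Agent.Lib.Helper6.DihBlkDefs

/-!
helper6: S4481 leaf INV: Fourier inversion on `ℤ/2h` for the multiplicities of `DihData`.
-/

set_option autoImplicit false

namespace Cfsg.Agent.Lib.Helper6.DIHINV

open Cfsg.Agent.Lib.Helper6.DihBlk
open scoped ComplexConjugate

/-- Orthogonality of the powers of a primitive root of unity. -/
theorem sum_pow_mul_conj {N : ℕ} (hN : 0 < N) {ζ : ℂ} (hζ : IsPrimitiveRoot ζ N) (i j : ℕ) (hi : i < N)
    (hj : j < N) :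
    ∑ k ∈ Finset.range N, ζ ^ (j * k) * conj (ζ ^ (i * k)) = if j = i then (N : ℂ) else 0 := by
  have hnorm : ‖ζ‖ = 1 := hζ.norm'_eq_one hN.ne'
  have hconj : ∀ m : ℕ, conj (ζ ^ m) = (ζ ^ m)⁻¹ := by
    intro m
    rw [← Complex.inv_eq_conj]
    rw [norm_pow, hnorm, one_pow]
  have hζ0 : ζ ≠ 0 := hζ.ne_zero hN.ne'
  split_ifs with h
  · subst h
    have : ∀ k ∈ Finset.range N, ζ ^ (j * k) * conj (ζ ^ (j * k)) = 1 := by
      intro k _
      rw [hconj, mul_inv_cancel₀ (pow_ne_zero _ hζ0)]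
    rw [Finset.sum_congr rfl this]
    simp
  · -- geometric sum with ratio ζ^j / ζ^i ≠ 1
    set w : ℂ := ζ ^ j * (ζ ^ i)⁻¹ with hw
    have e : ∀ k ∈ Finset.range N, ζ ^ (j * k) * conj (ζ ^ (i * k)) = w ^ k := by
      intro k _
      rw [hconj, hw, mul_pow, inv_pow, ← pow_mul, ← pow_mul]
    rw [Finset.sum_congr rfl e]
    have hwN : w ^ N = 1 := by
      rw [hw, mul_pow, inv_pow, ← pow_mul, ← pow_mul, mul_comm j N, mul_comm i N, pow_mul, pow_mul,
        hζ.pow_eq_one, one_pow, one_pow, inv_one, mul_one]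
    have hw1 : w ≠ 1 := by
      intro h1
      rw [hw] at h1
      have h2 : ζ ^ j = ζ ^ i := by
        have := congrArg (· * ζ ^ i) h1
        simp only [one_mul] at this
        rw [mul_assoc, inv_mul_cancel₀ (pow_ne_zero _ hζ0), mul_one] at this
        exact this
      exact h (hζ.pow_inj hj hi h2)
    have hgeom := geom_sum_eq hw1 N
    rw [hgeom, hwN, sub_self, zero_div]

variable {B : Type*} [Fintype B] [DecidableEq B] {h : ℕ} {ζ : ℂ}

/-- **INV** Fourier inversion on `ℤ/2h`. -/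
theorem mu_eq_sum (hh : 2 ≤ h) (hζ : IsPrimitiveRoot ζ (2 * h)) (D : DihData B h ζ) (χ : B) (i : ℕ)
    (hi : i < 2 * h) :
    (D.mu χ i : ℂ) = ((2 * h : ℕ) : ℂ)⁻¹ * ∑ k ∈ Finset.range (2 * h), D.X χ k * conj (ζ ^ (i * k)) := by
  have hN : 0 < 2 * h := by omega
  have hNne : ((2 * h : ℕ) : ℂ) ≠ 0 := by exact_mod_cast hN.ne'
  have e1 : ∑ k ∈ Finset.range (2 * h), D.X χ k * conj (ζ ^ (i * k)) =
      ∑ j ∈ Finset.range (2 * h), (D.mu χ j : ℂ) *
        ∑ k ∈ Finset.range (2 * h), ζ ^ (j * k) * conj (ζ ^ (i * k)) := by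
    have : ∀ k ∈ Finset.range (2 * h), D.X χ k * conj (ζ ^ (i * k)) =
        ∑ j ∈ Finset.range (2 * h), (D.mu χ j : ℂ) * (ζ ^ (j * k) * conj (ζ ^ (i * k))) := by
      intro k _
      rw [D.hexp χ k, Finset.sum_mul]
      apply Finset.sum_congr rfl
      intro j _
      ring
    rw [Finset.sum_congr rfl this, Finset.sum_comm]
    apply Finset.sum_congr rfl
    intro j _
    rw [Finset.mul_sum]
  rw [e1]
  have e2 : ∀ j ∈ Finset.range (2 * h), (D.mu χ j : ℂ) *
      ∑ k ∈ Finset.range (2 * h), ζ ^ (j * k) * conj (ζ ^ (i * k)) =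
      if j = i then (D.mu χ j : ℂ) * ((2 * h : ℕ) : ℂ) else 0 := by
    intro j hj
    rw [sum_pow_mul_conj hN hζ i j hi (Finset.mem_range.mp hj)]
    split_ifs <;> simp
  rw [Finset.sum_congr rfl e2, Finset.sum_ite_eq' (Finset.range (2 * h)) i, if_pos (Finset.mem_range.mpr hi)]
  field_simp

end Cfsg.Agent.Lib.Helper6.DIHINV
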