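import Mathlib
import Cfsg.Prelude.Def_BlockRank
import Cfsg.Agent.Lib.Helper27.DODefs
import Cfsg.Agent.Lib.Helper27.BlkAlgDefs2
import Cfsg.Agent.Lib.Helper6.DOGS
import Cfsg.Agent.Lib.Helper22.DOLOC2
import Cfsg.Agent.Lib.Helper29.DOMULT
import Cfsg.Agent.Lib.Helper2.DOOFFX

/-!
helper6: defect-one cluster, Part O leaves DO-GRAM (`gram_main`) and DO-ORTH (`orth_main`), exact forms:
`Helper6.DOGS.gram_core` / `orth_core` (ROUTE I: `Φ_i = Ind_C^G (φ_i - θ)`, Frobenius, TI) over the landed leaves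
LOC2 (helper22), MULT (helper29), OFF (helper2), CONJ (helper16), TI (helper29), INERT (helper16).
-/

set_option autoImplicit false

namespace Cfsg.Agent.Lib.Helper6.DOGRAM

open Cfsg Cfsg.Agent.Lib.Helper8.DOM Cfsg.Agent.Lib.Helper27.DO Cfsg.Agent.Lib.Helper27.BlkAlg
open scoped ComplexConjugate

universe u

section gs

variable {G : Type u} [Group G] [Finite G] {p : ℕ} [Fact p.Prime] {M : Ideal AlgInt}
  {P : Subgroup G} {B : Set (IrrCharacter G)} {θ : IrrCharacter (Cz P)} {T : Subgroup G} {x0 : G}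

/-- GRAM : the Gram matrix of the integer columns. -/
theorem gram_main (c : Ctx p M P B θ T x0) (E : Subgroup (ZMod p)ˣ)
    (hE : ∀ u : (ZMod p)ˣ, u ∈ E ↔ ∃ n ∈ T, n * x0 * n⁻¹ = x0 ^ (u : ZMod p).val)
    (hcard : Nat.card E = (Cz P).relIndex T) (i j : (ZMod p)ˣ) :
    (i * j⁻¹ ∈ E → ∑ᶠ χ ∈ B, (muZ p M P θ x0 χ i - muZ p M P θ x0 χ 0) *
      (muZ p M P θ x0 χ j - muZ p M P θ x0 χ 0) = (Nat.card E : ℤ) + 1) ∧
    (i * j⁻¹ ∉ E → ∑ᶠ χ ∈ B, (muZ p M P θ x0 χ i - muZ p M P θ x0 χ 0) *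
      (muZ p M P θ x0 χ j - muZ p M P θ x0 χ 0) = (Nat.card E : ℤ)) := by
  classical
  have h2 : Cfsg.Agent.Lib.Helper6.DOGS.Loc2 p M P x0 θ :=
    Cfsg.Agent.Lib.Helper22.DOLOC2.block_of_pTriv c.hM P c.hP c.hSyl x0 c.gen θ c.hθP
  have hMULT : ∀ (χ : IrrCharacter G) (i : ZMod p),
      ((muZ p M P θ x0 χ i : ℤ) : ℂ) = muC p M P θ x0 χ i := fun χ i =>
    Cfsg.Agent.Lib.Helper29.DOMULT.muZ_cast c.hM P c.hP c.hSyl x0 c.gen θ c.hθP χ i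
  have hOFF : ∀ χ : IrrCharacter G, χ ∉ B → ∀ i : ZMod p,
      muZ p M P θ x0 χ i = muZ p M P θ x0 χ 0 := fun χ hχ i =>
    Cfsg.Agent.Lib.Helper2.DOOFFX.muZ_off c χ hχ i
  have h := Cfsg.Agent.Lib.Helper6.DOGS.gram_core c h2 hMULT hOFF E hE hcard i j
  refine ⟨fun hmem => ?_, fun hmem => ?_⟩
  · rw [h, if_pos hmem]
  · rw [h, if_neg hmem, add_zero]

/-- ORTH : the integer columns are orthogonal to the `p`-regular columns. -/
theorem orth_main (c : Ctx p M P B θ T x0) (i : (ZMod p)ˣ) (g : G) (hg : ¬ p ∣ orderOf g) :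
    ∑ᶠ χ ∈ B, ((muZ p M P θ x0 χ i - muZ p M P θ x0 χ 0 : ℤ) : ℂ) * (χ : G → ℂ) g = 0 := by
  have h2 : Cfsg.Agent.Lib.Helper6.DOGS.Loc2 p M P x0 θ :=
    Cfsg.Agent.Lib.Helper22.DOLOC2.block_of_pTriv c.hM P c.hP c.hSyl x0 c.gen θ c.hθP
  have hMULT : ∀ (χ : IrrCharacter G) (i : ZMod p),
      ((muZ p M P θ x0 χ i : ℤ) : ℂ) = muC p M P θ x0 χ i := fun χ i =>
    Cfsg.Agent.Lib.Helper29.DOMULT.muZ_cast c.hM P c.hP c.hSyl x0 c.gen θ c.hθP χ i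
  have hOFF : ∀ χ : IrrCharacter G, χ ∉ B → ∀ i : ZMod p,
      muZ p M P θ x0 χ i = muZ p M P θ x0 χ 0 := fun χ hχ i =>
    Cfsg.Agent.Lib.Helper2.DOOFFX.muZ_off c χ hχ i
  exact Cfsg.Agent.Lib.Helper6.DOGS.orth_core h2 hMULT hOFF (i : ZMod p) g hg

end gs

end Cfsg.Agent.Lib.Helper6.DOGRAM
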