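import Mathlib
import Cfsg.Agent.Lib.Helper6.DWBOf
import Cfsg.Agent.Lib.Helper10.DWBNORM
import Cfsg.Agent.Lib.Helper27.DWBSOL

/-!
Helper6: DW market (S3616), spine DW-B, closed form: `DWBOf.DWB_of` fed with DW-BNORM (helper10) and
DW-BSOL (helper27).
-/

set_option autoImplicit false
set_option linter.unusedVariables false

namespace Cfsg.Agent.Lib.Helper6.DWB

open MulAction
open scoped Pointwise

/-- **DW-B** (spine of part B: from BFAITH, BSIGN, BNORM, BSOL). -/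
theorem DWB {X Ω : Type*} [Group X] [Finite X] [MulAction X Ω] [FaithfulSMul X Ω] [Fintype Ω]
    [DecidableEq Ω] (p : ℕ) (hp : p.Prime) (hp2 : p ≠ 2) (hΩ : Fintype.card Ω = p + 1)
    (heven : ∀ x : X, Equiv.Perm.sign (MulAction.toPerm x : Equiv.Perm Ω) = 1)
    (h2 : IsMultiplyPretransitive X Ω 2) (a : Ω) (M Q : Subgroup X)
    (hMa : M ≤ stabilizer X a) (hM : 2 * Nat.card M = p * (p - 1)) (hQM : Q ≤ M)
    (hQ : Nat.card Q = p) (hnorm : ∀ m ∈ M, ∀ q ∈ Q, m * q * m⁻¹ ∈ Q)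
    (hbig : p * (p - 1) < 2 * Nat.card ↥(stabilizer X a)) :
    ¬ Group.IsSolvable ↥(stabilizer X a) ∧
      ∀ P : Sylow p ↥(stabilizer X a),
        2 * Nat.card ↥(Subgroup.normalizer
          ((P : Subgroup ↥(stabilizer X a)) : Set ↥(stabilizer X a))) = p * (p - 1) :=
  Cfsg.Agent.Lib.Helper6.DWBOf.DWB_of p hp hp2 hΩ heven h2 a M Q hMa hM hQM hQ hnorm hbig
    (fun p hp hp2 hΩ htrans heven M Q hM hQ hQM P =>
      Cfsg.Agent.Lib.Helper10.DWBNORM.DWBNORM p hp hp2 hΩ htrans heven M Q hM hQ hQM P)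
    (fun p hp hΩ htrans hsol P => Cfsg.Agent.Lib.Helper27.DWBSOL.DWBSOL p hp hΩ htrans hsol P)

end Cfsg.Agent.Lib.Helper6.DWB
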