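import Mathlib
import Cfsg.Agent.Lib.Helper6.SubsectionCount

/-!
helper6: defect-one cluster, chunk R2: **Brauer's orthogonality on a section with the cross terms**.

For a `p`-element `x`, `C = C_G(x)`, a block `B` of `G` and `p`-regular `w y ∈ C`:
`∑_{χ ∈ B} χ(x w) conj χ(x y) = ∑_{ψ ∈ secChars M x B} ψ(w) conj ψ(y)`, where `secChars M x B` is the union of
all blocks of `C` inducing `B` (lead's `sum_block_section` is the part of one block of `C` on both sides).
-/

set_option autoImplicit false

namespace Cfsg.Agent.Lib.Helper6.Def1R2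

open Cfsg Cfsg.Agent.CharLib Cfsg.Agent.Lib.Helper6 Cfsg.Agent.Lib.Helper24
open scoped ComplexConjugate

universe u

section general

variable {H : Type u} [Group H] [Fintype H] {M : Ideal AlgInt}

/-- Inner product with a function supported on the `p`-regular elements. -/
theorem classInner_pRegularPart_right (p : ℕ) (g ψ : H → ℂ)
    (hg : ∀ y : H, ¬ IsPRegular p y → g y = 0) :
    classInner g (pRegularPart p ψ) = classInner g ψ := by
  unfold classInner
  congr 1
  apply Finset.sum_congr rfl
  intro y _
  by_cases hy : IsPRegular p y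
  · rw [pRegularPart_of_regular' p _ hy]
  · rw [hg y hy, zero_mul, zero_mul]

/-- (***) a member of the regular span of a union of blocks is the combination of the members of the union. -/
theorem apply_eq_sum_of_mem_regSpan {p : ℕ} [hpp : Fact p.Prime] (hM : IsPModular p M)
    [Fintype (IrrCharacter H)] (A : Set (IrrCharacter H)) [DecidablePred (· ∈ A)]
    (hA : ∀ ψ ∈ A, ∀ ψ' : IrrCharacter H, SameBlock M (ψ' : H → ℂ) (ψ : H → ℂ) → ψ' ∈ A)
    {g : H → ℂ} (hg : g ∈ regSpan p A) (w : H) :
    g w = ∑ ψ : IrrCharacter H, if ψ ∈ A then classInner g (ψ : H → ℂ) * (ψ : H → ℂ) w else 0 := by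
  have hcls := isClassFunction_of_mem_regSpan p hg
  have h1 := congrFun (classFunction_eq_sum hcls) w
  rw [Finset.sum_apply] at h1
  rw [h1]
  apply Finset.sum_congr rfl
  intro ψ _
  split_ifs with hψ
  · rfl
  · rw [Pi.smul_apply, smul_eq_mul]
    have h2 : classInner g (ψ : H → ℂ) = 0 := by
      rw [← classInner_pRegularPart_right p g _
        (fun y hy => apply_eq_zero_of_mem_regSpan p hg hy)]
      apply regSpan_orthogonal hM (A := A) (A' := {ψ}) _ g hg _
        (pRegularPart_mem_regSpan p (Set.mem_singleton ψ))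
      intro φ hφ ψ' hψ' hsame
      rw [Set.mem_singleton_iff] at hψ'
      subst hψ'
      exact hψ (hA φ hφ ψ' hsame)
    rw [h2, zero_mul]

end general

section sec

variable {G : Type u} [Group G] [Fintype G] {M : Ideal AlgInt}

/-- (*) a member of the regular span of `secChars M x B` is recovered from its inner products with the
restrictions of the members of `B` to the section. -/
theorem apply_eq_sum_block {p : ℕ} [hpp : Fact p.Prime] (hM : IsPModular p M) (x : G)
    (hx : ∃ k : ℕ, orderOf x = p ^ k) (B : Set (IrrCharacter G)) (hB : IsPBlock M B)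
    [Fintype (Subgroup.centralizer ({x} : Set G))] [Fintype (IrrCharacter G)] [DecidablePred (· ∈ B)]
    {f : Subgroup.centralizer ({x} : Set G) → ℂ} (hf : f ∈ regSpan p (secChars M x B))
    (w : Subgroup.centralizer ({x} : Set G)) (hw : IsPRegular p w) :
    f w = ∑ χ : IrrCharacter G,
      if χ ∈ B then classInner f (secRes p x (χ : G → ℂ)) * (χ : G → ℂ) (x * (w : G)) else 0 := by
  classical
  have hprime : M.IsPrime := isPrime_of_isPModular hM
  have hC0 : (Nat.card (Subgroup.centralizer ({x} : Set G)) : ℂ) ≠ 0 :=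
    Nat.cast_ne_zero.mpr Nat.card_pos.ne'
  have hcls := isClassFunction_of_mem_regSpan p hf
  have h1 := secInd_apply_section_self x hx f hcls w hw
  have h2 := congrFun (classFunction_eq_sum (secInd_isClassFunction p x f)) (x * (w : G))
  rw [Finset.sum_apply] at h2
  rw [h1] at h2
  apply mul_left_cancel₀ hC0
  rw [h2, Finset.mul_sum]
  apply Finset.sum_congr rfl
  intro χ _
  have hχcls : IsClassFunction G (χ : G → ℂ) :=
    IsCharacter.isClassFunction (IsIrrCharacter.isCharacter χ.2)
  rw [Pi.smul_apply, smul_eq_mul, classInner_secInd p x f hχcls]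
  split_ifs with hχ
  · ring
  · have h0 : classInner f (secRes p x (χ : G → ℂ)) = 0 := by
      apply regSpan_orthogonal hM _ _ hf _
        (secRes_mem_regSpan hM x hx (blockOf M (χ : G → ℂ)) ⟨χ, rfl⟩ χ (mem_blockOf_self χ))
      intro ψ hψ ψ' hψ' hsame
      apply hχ
      have heq : blockOf M (ψ : Subgroup.centralizer ({x} : Set G) → ℂ) =
          blockOf M (ψ' : Subgroup.centralizer ({x} : Set G) → ℂ) :=
        isPBlock_eq_of_mem ⟨ψ, rfl⟩ ⟨ψ', rfl⟩ (mem_blockOf_self ψ) hsame
      have h3 : IsInducedBlock M (Subgroup.centralizer ({x} : Set G))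
          (blockOf M (ψ : Subgroup.centralizer ({x} : Set G) → ℂ)) B := hψ
      have h4 : IsInducedBlock M (Subgroup.centralizer ({x} : Set G))
          (blockOf M (ψ' : Subgroup.centralizer ({x} : Set G) → ℂ))
          (blockOf M (χ : G → ℂ)) := hψ'
      rw [← heq] at h4
      have h5 := isInducedBlock_unique h3 h4
      rw [h5]
      exact mem_blockOf_self χ
    rw [h0]
    ring

/-- **R2, Fintype form.** -/
theorem sum_section_full_aux {p : ℕ} [hpp : Fact p.Prime] (hM : IsPModular p M) (x : G)
    (hx : ∃ k : ℕ, orderOf x = p ^ k) (B : Set (IrrCharacter G)) (hB : IsPBlock M B)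
    [Fintype (Subgroup.centralizer ({x} : Set G))] [Fintype (IrrCharacter G)]
    [Fintype (IrrCharacter (Subgroup.centralizer ({x} : Set G)))]
    [DecidablePred (· ∈ B)] [DecidablePred (· ∈ secChars M x B)]
    (w y : Subgroup.centralizer ({x} : Set G)) (hw : IsPRegular p w) (hy : IsPRegular p y) :
    ∑ χ : IrrCharacter G, (if χ ∈ B then (χ : G → ℂ) (x * (w : G)) * conj ((χ : G → ℂ) (x * (y : G))) else 0) =
      ∑ ψ : IrrCharacter (Subgroup.centralizer ({x} : Set G)),
        if ψ ∈ secChars M x B then (ψ : Subgroup.centralizer ({x} : Set G) → ℂ) w *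
          conj ((ψ : Subgroup.centralizer ({x} : Set G) → ℂ) y) else 0 := by
  classical
  have hprime : M.IsPrime := isPrime_of_isPModular hM
  have hA : ∀ ψ ∈ (secChars M x B), ∀ ψ' : IrrCharacter (Subgroup.centralizer ({x} : Set G)), SameBlock M (ψ' : Subgroup.centralizer ({x} : Set G) → ℂ) (ψ : Subgroup.centralizer ({x} : Set G) → ℂ) → ψ' ∈ (secChars M x B) := by
    intro ψ hψ ψ' hsame
    have heq : blockOf M (ψ : Subgroup.centralizer ({x} : Set G) → ℂ) = blockOf M (ψ' : Subgroup.centralizer ({x} : Set G) → ℂ) :=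
      isPBlock_eq_of_mem ⟨ψ, rfl⟩ ⟨ψ', rfl⟩ (mem_blockOf_self ψ) hsame
    change IsInducedBlock M (Subgroup.centralizer ({x} : Set G)) (blockOf M (ψ' : Subgroup.centralizer ({x} : Set G) → ℂ)) B
    rw [← heq]
    exact hψ
  -- the function `H_y`
  set Hy : Subgroup.centralizer ({x} : Set G) → ℂ := ∑ ψ : IrrCharacter (Subgroup.centralizer ({x} : Set G)),
    (if ψ ∈ (secChars M x B) then conj ((ψ : Subgroup.centralizer ({x} : Set G) → ℂ) y) else 0) • pRegularPart p (ψ : Subgroup.centralizer ({x} : Set G) → ℂ) with hHy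
  have hHmem : Hy ∈ regSpan p (secChars M x B) := by
    rw [hHy]
    apply Submodule.sum_mem
    intro ψ _
    split_ifs with hψ
    · exact Submodule.smul_mem _ _ (pRegularPart_mem_regSpan p hψ)
    · rw [zero_smul]
      exact Submodule.zero_mem _
  have hHw : Hy w = ∑ ψ : IrrCharacter (Subgroup.centralizer ({x} : Set G)),
      if ψ ∈ (secChars M x B) then (ψ : Subgroup.centralizer ({x} : Set G) → ℂ) w * conj ((ψ : Subgroup.centralizer ({x} : Set G) → ℂ) y) else 0 := by
    rw [hHy, Finset.sum_apply]
    apply Finset.sum_congr rfl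
    intro ψ _
    rw [Pi.smul_apply, smul_eq_mul, pRegularPart_of_regular' p _ hw]
    split_ifs
    · ring
    · rw [zero_mul]
  rw [← hHw, apply_eq_sum_block hM x hx B hB hHmem w hw]
  apply Finset.sum_congr rfl
  intro χ _
  split_ifs with hχ
  · rw [mul_comm]
    congr 1
    -- `⟨H_y, secRes χ⟩ = conj χ(x y)`
    set g := secRes p x (χ : G → ℂ) with hg
    have hgmem : g ∈ regSpan p (secChars M x B) := secRes_mem_regSpan hM x hx B hB χ hχ
    have hgy : g y = (χ : G → ℂ) (x * (y : G)) := by
      rw [hg, secRes_apply, pRegularPart_of_regular' p _ hy]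
    rw [← hgy, apply_eq_sum_of_mem_regSpan hM (secChars M x B) hA hgmem y, hHy, classInner_sum_left, map_sum]
    apply Finset.sum_congr rfl
    intro ψ _
    rw [classInner_smul_left]
    split_ifs with hψ
    · have h1 : classInner (pRegularPart p (ψ : Subgroup.centralizer ({x} : Set G) → ℂ)) g = conj (classInner g (ψ : Subgroup.centralizer ({x} : Set G) → ℂ)) := by
        rw [classInner_conj_symm, ← classInner_conj_symm g,
          classInner_pRegularPart_right p g _ (fun y hy => apply_eq_zero_of_mem_regSpan p hgmem hy),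
          classInner_conj_symm]
      rw [h1, map_mul]
      ring
    · rw [zero_mul, map_zero]
  · rfl

end sec

/-- **R2: Brauer's orthogonality on a section, with the cross terms.**  For a `p`-element `x`, a block `B` of `G`
and `p`-regular `w y ∈ C_G(x)`: the `B`-part of the column product at `x w`, `x y` equals the column product at
`w`, `y` over the union `secChars M x B` of all blocks of `C_G(x)` inducing `B`. -/
theorem sum_section_full {G : Type u} [Group G] [Finite G] {M : Ideal AlgInt} {p : ℕ} [hpp : Fact p.Prime]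
    (hM : IsPModular p M) (x : G) (hx : ∃ k : ℕ, orderOf x = p ^ k) (B : Set (IrrCharacter G))
    (hB : IsPBlock M B) (w y : Subgroup.centralizer ({x} : Set G)) (hw : ¬ p ∣ orderOf w)
    (hy : ¬ p ∣ orderOf y) :
    ∑ᶠ χ ∈ B, (χ : G → ℂ) (x * (w : G)) * conj ((χ : G → ℂ) (x * (y : G))) =
      ∑ᶠ ψ ∈ secChars M x B, (ψ : Subgroup.centralizer ({x} : Set G) → ℂ) w *
        conj ((ψ : Subgroup.centralizer ({x} : Set G) → ℂ) y) := by
  classical
  let _ : Fintype G := Fintype.ofFinite G
  let _ : Fintype (Subgroup.centralizer ({x} : Set G)) := Fintype.ofFinite _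
  let _ : Fintype (IrrCharacter G) := Fintype.ofFinite _
  let _ : Fintype (IrrCharacter (Subgroup.centralizer ({x} : Set G))) := Fintype.ofFinite _
  rw [finsum_mem_eq_sum_ite, finsum_mem_eq_sum_ite]
  exact sum_section_full_aux hM x hx B hB w y hw hy

end Cfsg.Agent.Lib.Helper6.Def1R2
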