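import Mathlib
import Cfsg.Agent.Lib.Helper6.Def1R2
import Cfsg.Agent.Lib.Lead.SecondMain9

/-!
helper6: defect-one cluster, chunk R2, blockPart form: the **cross terms** of Brauer's orthogonality on a section
vanish: for two different blocks `b₀ ≠ b₁` of `C_G(z)`, `b₀` inducing `B`,
`∑_{χ ∈ B} (b₀-part of χ(z ·))(w) * conj ((b₁-part of χ(z ·))(y)) = 0` (lead's `sum_block_section` is `b₀ = b₁`).
Also `sum_section_full'` = R2 for a subgroup `C` with `C = C_G(x)`.
-/

set_option autoImplicit false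

namespace Cfsg.Agent.Lib.Helper6.Def1R2

open Cfsg Cfsg.Agent.CharLib Cfsg.Agent.Lib.Helper6 Cfsg.Agent.Lib.Helper24
open scoped ComplexConjugate

universe u

/-- The block part of a non-member of the block vanishes. -/
theorem blockPart_of_not_mem {X : Type u} [Group X] [Fintype X] (b : Set (IrrCharacter X))
    (ψ : IrrCharacter X) (hψ : ψ ∉ b) (y : X) : blockPart b (ψ : X → ℂ) y = 0 := by
  classical
  let _ : Fintype (IrrCharacter X) := Fintype.ofFinite _
  rw [blockPart_apply, finsum_mem_eq_sum_ite]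
  apply Finset.sum_eq_zero
  intro φ _
  split_ifs with hφ
  · have hne : ψ ≠ φ := fun h => hψ (h ▸ hφ)
    rw [classInner_irr', if_neg hne, zero_mul]
  · rfl

variable {G : Type u} [Group G] [Finite G] {M : Ideal AlgInt}

/-- **Cross terms vanish.** -/
theorem sum_block_section_cross {p : ℕ} [hpp : Fact p.Prime] (hM : IsPModular p M)
    (z : G) (hz : ∃ k : ℕ, orderOf z = p ^ k) (C : Subgroup G)
    (hC : C = Subgroup.centralizer ({z} : Set G)) (B : Set (IrrCharacter G)) (hB : IsPBlock M B)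
    (ψ₀ ψ₁ : IrrCharacter C) (hind : IsInducedBlock M C (blockOf M (ψ₀ : C → ℂ)) B)
    (hne : blockOf M (ψ₀ : C → ℂ) ≠ blockOf M (ψ₁ : C → ℂ))
    (w : C) (hw : ¬ p ∣ orderOf w) (y : C) (hy : ¬ p ∣ orderOf y) :
    ∑ᶠ χ ∈ B, blockPart (blockOf M (ψ₀ : C → ℂ)) (fun c : C => (χ : G → ℂ) (z * (c : G))) w *
        conj (blockPart (blockOf M (ψ₁ : C → ℂ)) (fun c : C => (χ : G → ℂ) (z * (c : G))) y) = 0 := by
  classical
  have hprime : M.IsPrime := isPrime_of_isPModular hM
  let _ : Fintype G := Fintype.ofFinite G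
  let _ : Fintype C := Fintype.ofFinite C
  let _ : Fintype (IrrCharacter C) := Fintype.ofFinite _
  let _ : Fintype (IrrCharacter G) := Fintype.ofFinite _
  set e := blockOf M (ψ₀ : C → ℂ) with he
  set e₁ := blockOf M (ψ₁ : C → ℂ) with he₁
  set Bf := Finset.univ.filter (fun χ : IrrCharacter G => χ ∈ B) with hBf
  set ef := Finset.univ.filter (fun ψ : IrrCharacter C => ψ ∈ e) with hef
  set F₁ : C → ℂ := ∑ χ ∈ Bf,
    conj (blockPart e (fun c : C => (χ : G → ℂ) (z * (c : G))) w) •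
      (fun c : C => (χ : G → ℂ) (z * (c : G))) with hF₁
  set F₂ : C → ℂ := ∑ ψ ∈ ef, conj ((ψ : C → ℂ) w) • (ψ : C → ℂ) with hF₂
  have hagree : ∀ c : C, ¬ p ∣ orderOf c → F₁ c = F₂ c := by
    intro c hc
    have h1 := sum_block_section_aux hM z hz C hC B hB ψ₀ hind w hw c hc
    rw [finsum_mem_eq_sum_ite, ← Finset.sum_filter, finsum_mem_eq_sum_ite,
      ← Finset.sum_filter] at h1
    have h2 := congrArg conj h1
    rw [map_sum, map_sum] at h2
    rw [hF₁, hF₂, Finset.sum_apply, Finset.sum_apply]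
    convert h2 using 1
    · apply Finset.sum_congr rfl
      intro χ _
      rw [Pi.smul_apply, smul_eq_mul, map_mul, Complex.conj_conj]
    · apply Finset.sum_congr rfl
      intro ψ _
      rw [Pi.smul_apply, smul_eq_mul, map_mul, Complex.conj_conj]
  have h3 := blockPart_congr_regular hM ψ₁ hagree y hy
  rw [hF₁, hF₂, blockPart_sum_smul, blockPart_sum_smul] at h3
  have h4 := congrArg conj h3
  rw [map_sum, map_sum] at h4
  rw [finsum_mem_eq_sum_ite, ← Finset.sum_filter]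
  have h5 : ∑ ψ ∈ ef, conj (conj ((ψ : C → ℂ) w) * blockPart e₁ (ψ : C → ℂ) y) = 0 := by
    apply Finset.sum_eq_zero
    intro ψ hψ
    have hψe : ψ ∈ e := (Finset.mem_filter.mp hψ).2
    have hψe₁ : ψ ∉ e₁ := by
      intro h
      apply hne
      exact isPBlock_eq_of_mem ⟨ψ₀, rfl⟩ ⟨ψ₁, rfl⟩ hψe h
    rw [blockPart_of_not_mem e₁ ψ hψe₁, mul_zero, map_zero]
  rw [h5] at h4
  rw [← h4]
  apply Finset.sum_congr rfl
  intro χ _
  rw [map_mul, Complex.conj_conj]

/-- R2 for a subgroup `C = C_G(x)`. -/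
theorem sum_section_full' {p : ℕ} [hpp : Fact p.Prime] (hM : IsPModular p M) (x : G)
    (hx : ∃ k : ℕ, orderOf x = p ^ k) (C : Subgroup G)
    (hC : C = Subgroup.centralizer ({x} : Set G)) (B : Set (IrrCharacter G))
    (hB : IsPBlock M B) (w y : C) (hw : ¬ p ∣ orderOf w) (hy : ¬ p ∣ orderOf y) :
    ∑ᶠ χ ∈ B, (χ : G → ℂ) (x * (w : G)) * conj ((χ : G → ℂ) (x * (y : G))) =
      ∑ᶠ ψ ∈ {ψ : IrrCharacter C | IsInducedBlock M C (blockOf M (ψ : C → ℂ)) B},
        (ψ : C → ℂ) w * conj ((ψ : C → ℂ) y) := by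
  subst hC
  exact sum_section_full hM x hx B hB w y hw hy

end Cfsg.Agent.Lib.Helper6.Def1R2
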