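import Mathlib
import Cfsg.Prelude.Def_DegreeGraph
import Cfsg.Agent.Lib.Helper21.IsaacsPrimeA
import Cfsg.Agent.Lib.Helper21.IsaacsLemma123
import Cfsg.Agent.Lib.Helper21.IsaacsCharB
import Cfsg.Agent.Lib.Helper21.IsaacsCharD
import Cfsg.Agent.Lib.Helper6.Ramification2

/-!
# The character degree graph of a solvable group has at most two connected components (helper6)

Manz, Staszewski and Willems.  Take `K` normal in `G` maximal with `G/K` nonabelian.  By Isaacs' Lemma 12.3,
`G/K` is a `p`-group, or a Frobenius group whose kernel `(G/K)'` is an elementary abelian `p`-group.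
In the first case every vertex is `p` or a neighbour of `p` (Gallagher).  In the second case, with `L/K` the
Frobenius kernel and `f = |G : L|`, every vertex divides `f`, or is joined to the prime divisors of `f`, or is
`p` or a neighbour of `p` (Isaacs' Theorem 12.4 together with Corollary 11.29).
-/

set_option autoImplicit false

namespace Cfsg.Agent.Lib.Helper6.DegGraphSolv

open Cfsg Cfsg.Agent.CharLib Cfsg.Agent.Lib.Helper6 Cfsg.Agent.Lib.Helper24 Cfsg.Agent.Lib.Helper21.Isaacs

universe u

section Graph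

/-- if every vertex is reachable from one of two given vertices there are at most two components -/
theorem card_components_le_two {V : Type*} (Γ : SimpleGraph V) (v₀ v₁ : V)
    (h : ∀ v, Γ.Reachable v₀ v ∨ Γ.Reachable v₁ v) : Nat.card Γ.ConnectedComponent ≤ 2 := by
  let f : Bool → Γ.ConnectedComponent := fun b => if b then Γ.connectedComponentMk v₀
    else Γ.connectedComponentMk v₁
  have hf : Function.Surjective f := by
    intro c
    induction c using SimpleGraph.ConnectedComponent.ind with
    | h v =>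
      rcases h v with hv | hv
      · exact ⟨true, SimpleGraph.ConnectedComponent.eq.mpr hv⟩
      · exact ⟨false, SimpleGraph.ConnectedComponent.eq.mpr hv⟩
  have := Nat.card_le_card_of_surjective f hf
  simpa using this

end Graph

section Main

variable {G : Type u} [Group G] [Finite G]

theorem mem_degreePrimes_iff (r : ℕ) :
    r ∈ degreePrimes G ↔ r.Prime ∧ ∃ χ : IrrCharacter G, r ∣ charDegree (χ : G → ℂ) := by
  constructor
  · rintro ⟨hr, d, ⟨χ, rfl⟩, hd⟩
    exact ⟨hr, χ, hd⟩
  · rintro ⟨hr, χ, hd⟩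
    exact ⟨hr, _, ⟨χ, rfl⟩, hd⟩

theorem adj_of_dvd {r s : ℕ} (hr : r.Prime) (hs : s.Prime) (hne : r ≠ s) (χ : IrrCharacter G)
    (h : r * s ∣ charDegree (χ : G → ℂ)) : (degreeGraph G).Adj r s :=
  ⟨hne, hr, hs, _, ⟨χ, rfl⟩, h⟩

/-- the abstract shape of the argument: a "hub" prime `p` in the vertex set to which every other vertex is
joined -/
theorem le_two_of_hub (p : ℕ) (hp : p ∈ degreePrimes G)
    (h : ∀ r ∈ degreePrimes G, r = p ∨ (degreeGraph G).Adj p r) :
    Nat.card ((degreeGraph G).induce (degreePrimes G)).ConnectedComponent ≤ 2 := by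
  apply card_components_le_two _ ⟨p, hp⟩ ⟨p, hp⟩
  rintro ⟨r, hr⟩
  left
  rcases h r hr with rfl | hadj
  · exact SimpleGraph.Reachable.refl _
  · exact SimpleGraph.Adj.reachable (by exact hadj)

/-- two hubs -/
theorem le_two_of_two_hubs (s p : ℕ) (hs : s ∈ degreePrimes G)
    (h : ∀ r ∈ degreePrimes G, r = s ∨ (degreeGraph G).Adj s r ∨
      (p ∈ degreePrimes G ∧ (r = p ∨ (degreeGraph G).Adj p r))) :
    Nat.card ((degreeGraph G).induce (degreePrimes G)).ConnectedComponent ≤ 2 := by
  by_cases hp : p ∈ degreePrimes G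
  · apply card_components_le_two _ ⟨s, hs⟩ ⟨p, hp⟩
    rintro ⟨r, hr⟩
    rcases h r hr with rfl | hadj | ⟨-, rfl | hadj⟩
    · left; exact SimpleGraph.Reachable.refl _
    · left; exact SimpleGraph.Adj.reachable (by exact hadj)
    · right; exact SimpleGraph.Reachable.refl _
    · right; exact SimpleGraph.Adj.reachable (by exact hadj)
  · apply card_components_le_two _ ⟨s, hs⟩ ⟨s, hs⟩
    rintro ⟨r, hr⟩
    left
    rcases h r hr with rfl | hadj | ⟨hp', -⟩
    · exact SimpleGraph.Reachable.refl _
    · exact SimpleGraph.Adj.reachable (by exact hadj)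
    · exact absurd hp' hp

/-- Case I: `G/K` a nonabelian `p`-group -/
theorem caseP (K : Subgroup G) [hK : K.Normal] (p : ℕ) (hp : p.Prime) (hQ : IsPGroup p (G ⧸ K))
    (hna : ¬ ∀ a b : G ⧸ K, a * b = b * a) :
    Nat.card ((degreeGraph G).induce (degreePrimes G)).ConnectedComponent ≤ 2 := by
  obtain ⟨b, hb0, ⟨χ₀, hχ₀⟩, hmul⟩ := pgroup_quotient_mul K p hp hQ hna
  have hpV : p ∈ degreePrimes G :=
    (mem_degreePrimes_iff p).mpr ⟨hp, χ₀, by rw [hχ₀]; exact dvd_pow_self p hb0⟩
  apply le_two_of_hub p hpV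
  intro r hr
  obtain ⟨hrp, χ, hχ⟩ := (mem_degreePrimes_iff r).mp hr
  by_cases hrp' : r = p
  · left; exact hrp'
  · right
    have hcop : Nat.Coprime p r := (Nat.coprime_primes hp hrp).mpr (Ne.symm hrp')
    by_cases hpχ : p ∣ charDegree (χ : G → ℂ)
    · exact adj_of_dvd hp hrp (Ne.symm hrp') χ (Nat.Coprime.mul_dvd_of_dvd_of_dvd hcop hpχ hχ)
    · obtain ⟨ψ, hψ⟩ := hmul χ hpχ
      exact adj_of_dvd hp hrp (Ne.symm hrp') ψ
        (by rw [hψ]; exact mul_dvd_mul (dvd_pow_self p hb0) hχ)

/-- Case II: `G/K` a Frobenius group with kernel `(G/K)'` an abelian `p`-group -/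
theorem caseF (K : Subgroup G) [hK : K.Normal]
    (hne : commutator (G ⧸ K) ≠ ⊥)
    (hab : ∀ a ∈ commutator (G ⧸ K), ∀ b ∈ commutator (G ⧸ K), a * b = b * a)
    (p : ℕ) (hp : p.Prime) (hMp : IsPGroup p (commutator (G ⧸ K)))
    (hcop : ((commutator (G ⧸ K)).index).Coprime p)
    (hfpf : ∀ g, g ∉ commutator (G ⧸ K) → ∀ n ∈ commutator (G ⧸ K), g * n = n * g → n = 1) :
    Nat.card ((degreeGraph G).induce (degreePrimes G)).ConnectedComponent ≤ 2 := by
  classical
  haveI : Fact p.Prime := ⟨hp⟩
  letI : Fintype G := Fintype.ofFinite G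
  set M : Subgroup (G ⧸ K) := commutator (G ⧸ K) with hM
  set π : G →* G ⧸ K := QuotientGroup.mk' K with hπ
  have hπs : Function.Surjective π := QuotientGroup.mk'_surjective K
  set L : Subgroup G := M.comap π with hL
  haveI hLn : L.Normal := Subgroup.Normal.comap inferInstance π
  letI : Fintype L := Fintype.ofFinite L
  have hmemL : ∀ g : G, g ∈ L ↔ π g ∈ M := fun g => Iff.rfl
  have hmemK : ∀ g : G, g ∈ K ↔ π g = 1 := fun g => (QuotientGroup.eq_one_iff g).symm
  have hA : ∀ a ∈ L, ∀ b ∈ L, a * b * a⁻¹ * b⁻¹ ∈ K := by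
    intro a ha b hb
    rw [hmemK, map_mul, map_mul, map_mul, map_inv, map_inv, hab (π a) ha (π b) hb]
    group
  have hF : ∀ g, g ∉ L → ∀ n ∈ L, g * n * g⁻¹ * n⁻¹ ∈ K → n ∈ K := by
    intro g hg n hn h
    rw [hmemK, map_mul, map_mul, map_mul, map_inv, map_inv] at h
    rw [hmemK]
    apply hfpf (π g) hg (π n) hn
    calc π g * π n = (π g * π n * (π g)⁻¹ * (π n)⁻¹) * (π n * π g) := by group
      _ = π n * π g := by rw [h, one_mul]
  have hrel : K.relIndex L = Nat.card M := by
    have h1 : K = (⊥ : Subgroup (G ⧸ K)).comap π := by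
      rw [MonoidHom.comap_bot, hπ, QuotientGroup.ker_mk']
    conv_lhs => rw [h1]
    rw [Subgroup.relIndex_comap, hL, Subgroup.map_comap_eq_self_of_surjective hπs,
      Subgroup.relIndex_bot_left]
  obtain ⟨a, ha⟩ := hMp.exists_card_eq
  have hP : ∃ a, K.relIndex L = p ^ a := ⟨a, by rw [hrel, ha]⟩
  have hLidx : L.index = M.index := Subgroup.index_comap_of_surjective M hπs
  have hcopL : (L.index).Coprime p := by rw [hLidx]; exact hcop
  have ha0 : a ≠ 0 := by
    intro h0
    rw [h0, pow_zero] at ha
    exact hne (Subgroup.card_eq_one.mp ha)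
  obtain ⟨n₀, hn₀L, hn₀K⟩ : ∃ n₀ ∈ L, n₀ ∉ K := by
    by_contra hcon
    push Not at hcon
    have : K.relIndex L = 1 := Subgroup.relIndex_eq_one.mpr hcon
    rw [hrel, ha] at this
    have h2 : p ∣ p ^ a := dvd_pow_self p ha0
    rw [this] at h2
    exact hp.one_lt.ne' (Nat.dvd_one.mp h2)
  have hone : L.index ≠ 1 := by
    intro h1
    rw [hLidx] at h1
    have hMtop : M = ⊤ := Subgroup.index_eq_one.mp h1
    apply hne
    rw [eq_bot_iff]
    intro x hx
    rw [Subgroup.mem_bot]
    have hcommQ : ∀ u v : G ⧸ K, u * v = v * u := fun u v =>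
      hab u (hMtop ▸ Subgroup.mem_top u) v (hMtop ▸ Subgroup.mem_top v)
    have hle : commutator (G ⧸ K) ≤ ⊥ := by
      rw [commutator_def, Subgroup.commutator_le]
      intro u _ v _
      rw [Subgroup.mem_bot, commutatorElement_def, hcommQ u v]
      group
    exact (Subgroup.mem_bot.mp (hle hx))
  -- `f = |G : L|` is a character degree
  obtain ⟨χf, hχf⟩ : ∃ χ : IrrCharacter G, charDegree (χ : G → ℂ) = L.index := by
    rcases isaacs_12_4 K L p hA hF hP hcopL ⟨1, isIrrCharacter_one L⟩ with ⟨χ, hχ⟩ | ⟨hvan, -⟩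
    · refine ⟨χ, charDegree_of_apply_one χ _ ?_⟩
      rw [hχ]
      simp
    · have := hvan ⟨n₀, hn₀L⟩ hn₀K
      simp at this
  -- the first hub: a prime divisor of `f`
  set s := (L.index).minFac with hs
  have hsp : s.Prime := Nat.minFac_prime hone
  have hsf : s ∣ L.index := Nat.minFac_dvd _
  have hsV : s ∈ degreePrimes G := (mem_degreePrimes_iff s).mpr ⟨hsp, χf, by rw [hχf]; exact hsf⟩
  apply le_two_of_two_hubs s p hsV
  intro r hr
  obtain ⟨hrp, χ, hχ⟩ := (mem_degreePrimes_iff r).mp hr
  by_cases hrs : r = s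
  · left; exact hrs
  have hcop_sr : Nat.Coprime s r := (Nat.coprime_primes hsp hrp).mpr (Ne.symm hrs)
  -- a constituent of the restriction of `χ` to `L`
  have hχc : IsCharacter G χ.1 := IsIrrCharacter.isCharacter χ.2
  have hres : IsCharacter L (resFun L χ.1) := isCharacter_resFun L hχc
  have hresne : resFun L χ.1 ≠ 0 := by
    intro h
    have h1 := congrFun h 1
    rw [Pi.zero_apply] at h1
    have h2 : resFun L χ.1 1 = χ.1 1 := rfl
    rw [h2] at h1
    exact irr_apply_one_ne_zero χ h1
  obtain ⟨ϑ, hϑ, hcon⟩ := IsCharacter.exists_constituent hres hresne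
  obtain ⟨hdc, hcd⟩ := degree_ratio_dvd_index L χ.2 hϑ hcon (irr_apply_one χ)
    (irr_apply_one ⟨ϑ, hϑ⟩)
  set c := charDegree (χ : G → ℂ) with hc
  set d := charDegree ϑ with hd
  have hcdd : c = d * (c / d) := (Nat.mul_div_cancel' hdc).symm
  have hr_cases : r ∣ d ∨ r ∣ L.index := by
    rw [hcdd] at hχ
    rcases (Nat.Prime.dvd_mul hrp).mp hχ with h | h
    · left; exact h
    · right; exact h.trans hcd
  rcases hr_cases with hrd | hrf
  · -- `r` divides the degree of `ϑ`
    rcases isaacs_12_4 K L p hA hF hP hcopL ⟨ϑ, hϑ⟩ with ⟨χ', hχ'⟩ | ⟨-, e, t, d', het, hψd⟩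
    · right; left
      have hdeg : charDegree (χ' : G → ℂ) = L.index * d := by
        apply charDegree_of_apply_one
        rw [hχ', irr_apply_one ⟨ϑ, hϑ⟩]
        push_cast
        rfl
      exact adj_of_dvd hsp hrp (Ne.symm hrs) χ' (by rw [hdeg]; exact mul_dvd_mul hsf hrd)
    · right; right
      have h1 : d = e * t * d' := by
        have := irr_apply_one ⟨ϑ, hϑ⟩
        rw [hψd] at this
        exact_mod_cast this.symm
      have h2 : p ∣ e * e * t := by
        rw [het, hrel, ha]
        exact dvd_pow_self p ha0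
      have h3 : p ∣ e * t := by
        rcases (Nat.Prime.dvd_mul hp).mp h2 with h | h
        · rcases (Nat.Prime.dvd_mul hp).mp h with h' | h'
          · exact dvd_mul_of_dvd_left h' t
          · exact dvd_mul_of_dvd_left h' t
        · exact dvd_mul_of_dvd_right h e
      have h4 : p ∣ d := by
        rw [h1]
        exact dvd_mul_of_dvd_left h3 d'
      obtain ⟨χ'', hχ''⟩ := exists_irr_over L ⟨ϑ, hϑ⟩
      have hpV : p ∈ degreePrimes G := (mem_degreePrimes_iff p).mpr ⟨hp, χ'', h4.trans hχ''⟩
      refine ⟨hpV, ?_⟩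
      by_cases hrp' : r = p
      · left; exact hrp'
      · right
        have hcop_pr : Nat.Coprime p r := (Nat.coprime_primes hp hrp).mpr (Ne.symm hrp')
        exact adj_of_dvd hp hrp (Ne.symm hrp') χ''
          ((Nat.Coprime.mul_dvd_of_dvd_of_dvd hcop_pr h4 hrd).trans hχ'')
  · -- `r` divides `f`
    right; left
    exact adj_of_dvd hsp hrp (Ne.symm hrs) χf
      (by rw [hχf]; exact Nat.Coprime.mul_dvd_of_dvd_of_dvd hcop_sr hsf hrf)

end Main

section Solv

open scoped commutatorElement

variable {Q : Type u} [Group Q]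

/-- in a solvable group in which every nontrivial normal subgroup contains the derived subgroup, the derived
subgroup is abelian -/
theorem commutator_abelian_of_min [Group.IsSolvable Q]
    (hmin : ∀ L : Subgroup Q, L.Normal → L ≠ ⊥ → commutator Q ≤ L) :
    ∀ a ∈ commutator Q, ∀ b ∈ commutator Q, a * b = b * a := by
  set D : Subgroup Q := commutator Q with hD
  have hD1 : derivedSeries Q 1 = D := by
    rw [hD, commutator_def]
    rfl
  have hD2n : (⁅D, D⁆ : Subgroup Q).Normal := by
    have : ⁅D, D⁆ = derivedSeries Q 2 := by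
      show _ = ⁅derivedSeries Q 1, derivedSeries Q 1⁆
      rw [hD1]
    rw [this]
    infer_instance
  have hD2 : (⁅D, D⁆ : Subgroup Q) = ⊥ := by
    by_contra hne
    have hle : D ≤ ⁅D, D⁆ := hmin _ hD2n hne
    have heq : ⁅D, D⁆ = D := le_antisymm (Subgroup.commutator_le_left D D) hle
    have hall : ∀ n : ℕ, derivedSeries Q (n + 1) = D := by
      intro n
      induction n with
      | zero => exact hD1
      | succ k ih =>
        show ⁅derivedSeries Q (k + 1), derivedSeries Q (k + 1)⁆ = D
        rw [ih, heq]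
    obtain ⟨n, hn⟩ := (isSolvable_def Q).mp inferInstance
    have hDbot : D = ⊥ := by
      cases n with
      | zero =>
        rw [derivedSeries_zero] at hn
        rw [eq_bot_iff, ← hn]
        exact le_top
      | succ k => rw [← hall k, hn]
    apply hne
    rw [hDbot]
    exact eq_bot_iff.mpr (Subgroup.commutator_le_left ⊥ ⊥)
  intro a ha b hb
  have h1 : ⁅a, b⁆ ∈ (⁅D, D⁆ : Subgroup Q) := Subgroup.commutator_mem_commutator ha hb
  rw [hD2, Subgroup.mem_bot] at h1
  exact (commutatorElement_eq_one_iff_mul_comm.mp h1)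

end Solv

section Final

variable {G : Type u} [Group G] [Finite G]

/-- **Manz–Staszewski–Willems**: the character degree graph of a finite solvable group has at most two connected
components. -/
theorem degreeGraph_components_le_two [Group.IsSolvable G] :
    Nat.card ((degreeGraph G).induce (degreePrimes G)).ConnectedComponent ≤ 2 := by
  by_cases hna : ∀ a b : G, a * b = b * a
  · -- abelian: no vertices
    have hempty : IsEmpty (degreePrimes G) := by
      constructor
      rintro ⟨r, hr⟩
      obtain ⟨hrp, χ, hχ⟩ := (mem_degreePrimes_iff r).mp hr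
      have h1 := (comm_iff_forall_irr_apply_one (G := G)).mp hna χ
      have h2 := irr_apply_one χ
      rw [h1] at h2
      have h3 : charDegree (χ : G → ℂ) = 1 := by exact_mod_cast h2.symm
      rw [h3] at hχ
      exact hrp.one_lt.ne' (Nat.dvd_one.mp hχ)
    have hempty' : IsEmpty ((degreeGraph G).induce (degreePrimes G)).ConnectedComponent := by
      constructor
      intro c
      induction c using SimpleGraph.ConnectedComponent.ind with
      | h v => exact hempty.false v
    rw [Nat.card_of_isEmpty]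
    exact Nat.zero_le _
  · obtain ⟨K, hKn, hKne, hKmax⟩ := exists_max_nonabelian_quotient hna
    haveI := hKn
    obtain ⟨hmin, hQne⟩ := quotient_min K hKne hKmax
    have hab := commutator_abelian_of_min hmin
    have hQna : ¬ ∀ a b : G ⧸ K, a * b = b * a := by
      intro h
      apply hQne
      rw [eq_bot_iff, commutator_def, Subgroup.commutator_le]
      intro u _ v _
      rw [Subgroup.mem_bot, commutatorElement_def, h u v]
      group
    obtain ⟨p, hp, hQp | ⟨hMp, hcop, hfpf⟩⟩ := lemma_12_3 hmin hab hQne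
    · exact caseP K p hp hQp hQna
    · exact caseF K hQne hab p hp hMp hcop hfpf

end Final

end Cfsg.Agent.Lib.Helper6.DegGraphSolv
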