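/-
helper6: S4481 hub.  The 18 leaves of the S4481 market (notes/S4481_leaves.lean), each restated verbatim and closed by the
landed leaf module of its holder.  The spine (DihBlkMainA/B/C) imports only this file.
-/
import Mathlib
import Cfsg.Prelude.Def_Blocks
import Cfsg.Agent.Lib.Helper6.DihBlkDefs
import Cfsg.Agent.Lib.Lead.BrLeo12
import Cfsg.Agent.S0514
import Cfsg.Agent.Lib.Helper12.DIHCARD2
import Cfsg.Agent.Lib.Helper12.DIHFUS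
import Cfsg.Agent.Lib.Helper14.DIHNPCX
import Cfsg.Agent.Lib.Helper15.DIHDEG
import Cfsg.Agent.Lib.Helper15.DIHFORTH
import Cfsg.Agent.Lib.Helper15.DIHREG
import Cfsg.Agent.Lib.Helper15.DIHSYMX
import Cfsg.Agent.Lib.Helper17.DIHVAL
import Cfsg.Agent.Lib.Helper2.DIHLAT1
import Cfsg.Agent.Lib.Helper29.DIHDIH
import Cfsg.Agent.Lib.Helper29.DIHLAT2
import Cfsg.Agent.Lib.Helper5.DIHEIG
import Cfsg.Agent.Lib.Helper6.DIHINV
import Cfsg.Agent.Lib.Helper8.DIHNZ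
import Cfsg.Agent.Lib.Helper8.DIHORTH
import Cfsg.Agent.Lib.Helper8.DIHORTH0
import Cfsg.Agent.Lib.Helper8.DIHREGC
import Cfsg.Agent.Lib.Helper9.DIHGRAM

set_option autoImplicit false

namespace Cfsg.Agent.Lib.Helper6.DihBlkLeaves

open Cfsg Cfsg.Agent.CharLib
open Cfsg.Agent.Lib.Helper6.DihBlk
open scoped ComplexConjugate



section abstract_part

variable {B : Type*} [Fintype B] [DecidableEq B] {h : ℕ} {ζ : ℂ}

/-- **INV** Fourier inversion on `ℤ/2h`. -/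
theorem mu_eq_sum (hh : 2 ≤ h) (hζ : IsPrimitiveRoot ζ (2 * h)) (D : DihData B h ζ) (χ : B) (i : ℕ)
    (hi : i < 2 * h) :
    (D.mu χ i : ℂ) = ((2 * h : ℕ) : ℂ)⁻¹ * ∑ k ∈ Finset.range (2 * h), D.X χ k * conj (ζ ^ (i * k)) :=
  Cfsg.Agent.Lib.Helper6.DIHINV.mu_eq_sum hh hζ D χ i hi

/-- **GRAM** the Gram matrix of the multiplicity vectors. -/
theorem gram (hh : 2 ≤ h) (hζ : IsPrimitiveRoot ζ (2 * h)) (D : DihData B h ζ) :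
    ∃ t : ℤ, ∀ i j, i < 2 * h → j < 2 * h →
      ∑ χ, (D.mu χ i : ℤ) * (D.mu χ j : ℤ) =
        t + (if i = j then 1 else 0) + (if (i + j) % (2 * h) = 0 then 1 else 0) :=
  Cfsg.Agent.Lib.Helper9.DIHGRAM.gram hh hζ D

/-- **FORTH** differences of multiplicity vectors are orthogonal to the degrees. -/
theorem sum_sub_mul_deg (hh : 2 ≤ h) (hζ : IsPrimitiveRoot ζ (2 * h)) (D : DihData B h ζ) (i j : ℕ)
    (hi : i < 2 * h) (hj : j < 2 * h) :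
    ∑ χ, ((D.mu χ i : ℤ) - (D.mu χ j : ℤ)) * (D.deg χ : ℤ) = 0 :=
  Cfsg.Agent.Lib.Helper15.DIHFORTH.sum_sub_mul_deg hh hζ D i j hi hj

/-- **REG** differences of multiplicity vectors are orthogonal to every column orthogonal to the columns of
`σ^k`, `0 < k < 2h` (the 2-regular columns). -/
theorem sum_sub_mul_reg (hh : 2 ≤ h) (hζ : IsPrimitiveRoot ζ (2 * h)) (D : DihData B h ζ) (Y : B → ℂ)
    (hY : ∀ k, 0 < k → k < 2 * h → ∑ χ, D.X χ k * Y χ = 0) (i j : ℕ) (hi : i < 2 * h) (hj : j < 2 * h) :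
    ∑ χ, (((D.mu χ i : ℤ) - (D.mu χ j : ℤ) : ℤ) : ℂ) * Y χ = 0 :=
  Cfsg.Agent.Lib.Helper15.DIHREG.sum_sub_mul_reg hh hζ D Y hY i j hi hj

/-- **DEG** degrees are positive and `deg b₀ = 1`, `mu b₀ i = [i = 0]`. -/
theorem deg_facts (hh : 2 ≤ h) (hζ : IsPrimitiveRoot ζ (2 * h)) (D : DihData B h ζ) :
    (∀ χ, 0 < D.deg χ) ∧ D.deg D.b₀ = 1 ∧ D.mu D.b₀ 0 = 1 ∧ ∀ i, 0 < i → i < 2 * h → D.mu D.b₀ i = 0 :=
  Cfsg.Agent.Lib.Helper15.DIHDEG.deg_facts hh hζ D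

/-- **LAT1** the lattice lemma, first half: norm two vectors `g j = m0 - mj j - e_{b₀}` with pairwise inner
product one, all orthogonal (after adding `e_{b₀}`) to the positive vector `f` with `f b₀ = 1`, form a star
with common sign. -/
theorem lattice_star (q : ℕ) (hq : 1 ≤ q) (m0 : B → ℤ) (mj : Fin q → B → ℤ) (b₀ : B) (t : ℤ) (f : B → ℤ)
    (hf : ∀ χ, 0 < f χ) (hf0 : f b₀ = 1)
    (h00 : ∑ χ, m0 χ * m0 χ = t + 2)
    (h0j : ∀ j, ∑ χ, m0 χ * mj j χ = t)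
    (hjj : ∀ i j, ∑ χ, mj i χ * mj j χ = t + if i = j then 1 else 0)
    (hb0 : m0 b₀ = 1) (hbj : ∀ j, mj j b₀ = 0)
    (hfj : ∀ j, ∑ χ, (m0 χ - mj j χ) * f χ = 0) :
    ∃ (δ₁ : ℤ) (c : B) (a : Fin q → B), (δ₁ = 1 ∨ δ₁ = -1) ∧ Function.Injective a ∧ c ≠ b₀ ∧
      (∀ j, a j ≠ b₀ ∧ a j ≠ c) ∧
      (∀ j χ, mj j χ = m0 χ - (if χ = b₀ then 1 else 0) - (if χ = c then δ₁ else 0) +
        (if χ = a j then δ₁ else 0)) :=
  Cfsg.Agent.Lib.Helper2.DIHLAT1.lattice_star q hq m0 mj b₀ t f hf hf0 h00 h0j hjj hb0 hbj hfj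

/-- **LAT2** the lattice lemma, full form. -/
theorem lattice_core (q : ℕ) (hq : 1 ≤ q) (hq2 : q ≠ 2) (m0 me : B → ℤ) (mj : Fin q → B → ℤ) (b₀ : B) (t : ℤ) (f : B → ℤ)
    (hf : ∀ χ, 0 < f χ) (hf0 : f b₀ = 1)
    (h00 : ∑ χ, m0 χ * m0 χ = t + 2) (hee : ∑ χ, me χ * me χ = t + 2)
    (h0e : ∑ χ, m0 χ * me χ = t)
    (h0j : ∀ j, ∑ χ, m0 χ * mj j χ = t) (hej : ∀ j, ∑ χ, me χ * mj j χ = t)
    (hjj : ∀ i j, ∑ χ, mj i χ * mj j χ = t + if i = j then 1 else 0)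
    (hb0 : m0 b₀ = 1) (hbe : me b₀ = 0) (hbj : ∀ j, mj j b₀ = 0)
    (hfe : ∑ χ, (m0 χ - me χ) * f χ = 0) (hfj : ∀ j, ∑ χ, (m0 χ - mj j χ) * f χ = 0) :
    ∃ (δ₁ δ₂ δ₃ : ℤ) (c b b' : B) (a : Fin q → B),
      (δ₁ = 1 ∨ δ₁ = -1) ∧ (δ₂ = 1 ∨ δ₂ = -1) ∧ (δ₃ = 1 ∨ δ₃ = -1) ∧
      Function.Injective a ∧ c ≠ b₀ ∧ b ≠ b₀ ∧ b' ≠ b₀ ∧ c ≠ b ∧ c ≠ b' ∧ b ≠ b' ∧
      (∀ j, a j ≠ b₀ ∧ a j ≠ c ∧ a j ≠ b ∧ a j ≠ b') ∧
      (∀ χ, me χ = m0 χ - (if χ = b₀ then 1 else 0) - (if χ = c then δ₁ else 0) -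
        (if χ = b then δ₂ else 0) - (if χ = b' then δ₃ else 0)) ∧
      (∀ j χ, mj j χ = m0 χ - (if χ = b₀ then 1 else 0) - (if χ = c then δ₁ else 0) +
        (if χ = a j then δ₁ else 0)) :=
  Cfsg.Agent.Lib.Helper29.DIHLAT2.lattice_core q hq hq2 m0 me mj b₀ t f hf hf0 h00 hee h0e h0j hej hjj hb0 hbe hbj hfe hfj

/-- **SYM** `mu χ (2h - i) = mu χ i`. -/
theorem mu_symm (hh : 2 ≤ h) (hζ : IsPrimitiveRoot ζ (2 * h)) (D : DihData B h ζ) (χ : B) (i : ℕ)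
    (hi0 : 0 < i) (hi : i < 2 * h) : D.mu χ (2 * h - i) = D.mu χ i :=
  Cfsg.Agent.Lib.Helper15.DIHSYMX.mu_symm hh hζ D χ i hi0 hi

/-- **VAL** the values on `σ^l`, `0 < l < 2h`, from the shape of the multiplicity vectors. -/
theorem values_of_shape (hh : 2 ≤ h) (hζ : IsPrimitiveRoot ζ (2 * h)) (D : DihData B h ζ)
    (δ₁ δ₂ δ₃ : ℤ) (c b b' : B) (a : Fin (h - 1) → B)
    (ha : Function.Injective a) (hc0 : c ≠ D.b₀) (hb0 : b ≠ D.b₀) (hb0' : b' ≠ D.b₀) (hcb : c ≠ b)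
    (hcb' : c ≠ b') (hbb' : b ≠ b')
    (hane : ∀ j, a j ≠ D.b₀ ∧ a j ≠ c ∧ a j ≠ b ∧ a j ≠ b')
    (hme : ∀ χ, (D.mu χ h : ℤ) = (D.mu χ 0 : ℤ) - (if χ = D.b₀ then 1 else 0) - (if χ = c then δ₁ else 0) -
        (if χ = b then δ₂ else 0) - (if χ = b' then δ₃ else 0))
    (hmj : ∀ (j : Fin (h - 1)) χ, (D.mu χ ((j : ℕ) + 1) : ℤ) = (D.mu χ 0 : ℤ) - (if χ = D.b₀ then 1 else 0) -
        (if χ = c then δ₁ else 0) + (if χ = a j then δ₁ else 0))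
    (l : ℕ) (hl0 : 0 < l) (hl : l < 2 * h) :
    D.X c l = (δ₁ : ℂ) ∧ D.X b l = (δ₂ : ℂ) * (-1) ^ (l + 1) ∧ D.X b' l = (δ₃ : ℂ) * (-1) ^ (l + 1) ∧
      (∀ j : Fin (h - 1), D.X (a j) l = (δ₁ : ℂ) * (ζ ^ (((j : ℕ) + 1) * l) + (ζ ^ (((j : ℕ) + 1) * l))⁻¹)) ∧
      ∀ χ, χ ≠ D.b₀ → χ ≠ c → χ ≠ b → χ ≠ b' → (∀ j, χ ≠ a j) → D.X χ l = 0 :=
  Cfsg.Agent.Lib.Helper17.DIHVAL.values_of_shape hh hζ D δ₁ δ₂ δ₃ c b b' a ha hc0 hb0 hb0' hcb hcb' hbb' hane hme hmj l hl0 hl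

end abstract_part




section group_part

variable {G : Type*} [Group G] [Finite G]

/-- **DIH** the structure of a dihedral group of order `2^n ≥ 8` around an element of order `2^(n-1)`. -/
theorem dih_struct (n : ℕ) (hn : 3 ≤ n) (P : Subgroup G)
    (hP : Nonempty (↥P ≃* DihedralGroup (2 ^ (n - 1)))) (σ : G) (hσ : σ ∈ P)
    (hσo : orderOf σ = 2 ^ (n - 1)) :
    Nat.card P = 2 ^ n ∧ (∀ x ∈ P, x ∉ Subgroup.zpowers σ → x * σ * x⁻¹ = σ⁻¹) ∧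
      (∀ x ∈ P, x ∉ Subgroup.zpowers σ → x * x = 1) :=
  Cfsg.Agent.Lib.Helper29.DIHDIH.dih_struct n hn P hP σ hσ hσo

/-- **CARD2** the 2-part of the order of the centralizer of `σ^k`. -/
theorem factorization_centralizer_pow (n : ℕ) (hn : 3 ≤ n) (P : Sylow 2 G)
    (hP : Nonempty ((P : Subgroup G) ≃* DihedralGroup (2 ^ (n - 1)))) (σ : G) (hσ : σ ∈ (P : Subgroup G))
    (hσo : orderOf σ = 2 ^ (n - 1)) (k : ℕ) (hk0 : 0 < k) (hk : k < 2 ^ (n - 1)) :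
    (Nat.card (Subgroup.centralizer ({σ ^ k} : Set G))).factorization 2 =
      if k = 2 ^ (n - 2) then n else n - 1 :=
  Cfsg.Agent.Lib.Helper12.DIHCARD2.factorization_centralizer_pow n hn P hP σ hσ hσo k hk0 hk

/-- **NPC** the centralizers of the `σ^k` have normal 2-complements. -/
theorem index_pPrimeCore_centralizer_pow (n : ℕ) (hn : 3 ≤ n) (P : Sylow 2 G)
    (hP : Nonempty ((P : Subgroup G) ≃* DihedralGroup (2 ^ (n - 1)))) (σ : G) (hσ : σ ∈ (P : Subgroup G))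
    (hσo : orderOf σ = 2 ^ (n - 1)) (k : ℕ) (hk0 : 0 < k) (hk : k < 2 ^ (n - 1)) :
    ∃ e : ℕ, (pPrimeCore 2 (Subgroup.centralizer ({σ ^ k} : Set G))).index = 2 ^ e :=
  Cfsg.Agent.Lib.Helper14.DIHNPCX.index_pPrimeCore_centralizer_pow n hn P hP σ hσ hσo k hk0 hk

/-- **FUS** fusion of the powers of `σ`. -/
theorem fusion_pow (n : ℕ) (hn : 3 ≤ n) (P : Sylow 2 G)
    (hP : Nonempty ((P : Subgroup G) ≃* DihedralGroup (2 ^ (n - 1)))) (σ : G) (hσ : σ ∈ (P : Subgroup G))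
    (hσo : orderOf σ = 2 ^ (n - 1)) (k l : ℕ) (hk0 : 0 < k) (hk : k < 2 ^ (n - 1)) (hl0 : 0 < l)
    (hl : l < 2 ^ (n - 1)) (hc : IsConj (σ ^ k) (σ ^ l)) : l = k ∨ l + k = 2 ^ (n - 1) :=
  Cfsg.Agent.Lib.Helper12.DIHFUS.fusion_pow n hn P hP σ hσ hσo k l hk0 hk hl0 hl hc

/-- **ORTH** orthogonality of the columns `σ^k`, `σ^l` of the principal block. -/
theorem orth_cols (M : Ideal AlgInt) (hM : IsPModular 2 M) (n : ℕ) (hn : 3 ≤ n) (P : Sylow 2 G)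
    (hP : Nonempty ((P : Subgroup G) ≃* DihedralGroup (2 ^ (n - 1)))) (σ : G) (hσ : σ ∈ (P : Subgroup G))
    (hσo : orderOf σ = 2 ^ (n - 1)) (k l : ℕ) (hk0 : 0 < k) (hk : k < 2 ^ (n - 1)) (hl0 : 0 < l)
    (hl : l < 2 ^ (n - 1)) :
    ∑ᶠ χ ∈ principalBlock M G, (χ : G → ℂ) (σ ^ k) * conj ((χ : G → ℂ) (σ ^ l)) =
      if k = 2 ^ (n - 2) then (if l = 2 ^ (n - 2) then ((2 * (2 * 2 ^ (n - 2)) : ℕ) : ℂ) else 0)
      else (if l = k ∨ l + k = 2 * 2 ^ (n - 2) then ((2 * 2 ^ (n - 2) : ℕ) : ℂ) else 0) :=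
  Cfsg.Agent.Lib.Helper8.DIHORTH.orth_cols M hM n hn P hP σ hσ hσo k l hk0 hk hl0 hl

/-- **ORTH0** the degree column is orthogonal to the columns `σ^l`. -/
theorem orth_col_one (M : Ideal AlgInt) (hM : IsPModular 2 M) (n : ℕ) (σ : G)
    (hσo : orderOf σ = 2 ^ (n - 1)) (l : ℕ) (hl0 : 0 < l) (hl : l < 2 ^ (n - 1)) :
    ∑ᶠ χ ∈ principalBlock M G, (χ : G → ℂ) 1 * conj ((χ : G → ℂ) (σ ^ l)) = 0 :=
  Cfsg.Agent.Lib.Helper8.DIHORTH0.orth_col_one M hM n σ hσo l hl0 hl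

/-- **REGC** the columns of the elements of odd order are orthogonal (no conjugation) to the columns `σ^k`. -/
theorem reg_cols (M : Ideal AlgInt) (hM : IsPModular 2 M) (n : ℕ) (σ : G)
    (hσo : orderOf σ = 2 ^ (n - 1)) (k : ℕ) (hk0 : 0 < k) (hk : k < 2 ^ (n - 1)) (ρ : G)
    (hρ : Odd (orderOf ρ)) :
    ∑ᶠ χ ∈ principalBlock M G, (χ : G → ℂ) (σ ^ k) * (χ : G → ℂ) ρ = 0 :=
  Cfsg.Agent.Lib.Helper8.DIHREGC.reg_cols M hM n σ hσo k hk0 hk ρ hρ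

/-- **NZ** principal block characters do not vanish at the central involution of the Sylow subgroup. -/
theorem apply_central_involution_ne_zero (M : Ideal AlgInt) (hM : IsPModular 2 M) (n : ℕ) (hn : 3 ≤ n)
    (P : Sylow 2 G) (hP : Nonempty ((P : Subgroup G) ≃* DihedralGroup (2 ^ (n - 1)))) (σ : G)
    (hσ : σ ∈ (P : Subgroup G)) (hσo : orderOf σ = 2 ^ (n - 1)) (χ : IrrCharacter G)
    (hχ : χ ∈ principalBlock M G) : (χ : G → ℂ) (σ ^ (2 ^ (n - 2))) ≠ 0 :=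
  Cfsg.Agent.Lib.Helper8.DIHNZ.apply_central_involution_ne_zero M hM n hn P hP σ hσ hσo χ hχ

/-- **EIG** the restriction of a character to a cyclic subgroup: multiplicities of the linear characters. -/
theorem exists_mult_pow {χ : G → ℂ} (hχ : IsCharacter G χ) (σ : G) (N : ℕ) (hN : 0 < N)
    (hσN : σ ^ N = 1) (ζ : ℂ) (hζ : IsPrimitiveRoot ζ N) :
    ∃ mu : ℕ → ℕ, ∀ k : ℕ, χ (σ ^ k) = ∑ i ∈ Finset.range N, (mu i : ℂ) * ζ ^ (i * k) :=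
  Cfsg.Agent.Lib.Helper5.DIHEIG.exists_mult_pow hχ σ N hN hσN ζ hζ

end group_part


end Cfsg.Agent.Lib.Helper6.DihBlkLeaves
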