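import Mathlib
import Cfsg.Agent.Lib.Helper6.DihBlkHub

set_option autoImplicit false

namespace Cfsg.Agent.Lib.Helper6.DihBlkSpine

open Cfsg.Agent.Lib.Helper6.DihBlk Cfsg.Agent.Lib.Helper6.DihBlkLeaves
open scoped ComplexConjugate

variable {B : Type*} [Fintype B] [DecidableEq B] {h : ℕ} {ζ : ℂ}

/-- The abstract form of Brauer's theorem on the principal 2-block for dihedral Sylow 2-subgroups. -/
theorem abstract_main (hh : 2 ≤ h) (hh3 : h ≠ 3) (hζ : IsPrimitiveRoot ζ (2 * h)) (D : DihData B h ζ) :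
    Fintype.card B = h + 3 ∧
    ∃ (δ₁ δ₂ δ₃ : ℤ) (c b b' : B) (a : Fin (h - 1) → B),
      (δ₁ = 1 ∨ δ₁ = -1) ∧ (δ₂ = 1 ∨ δ₂ = -1) ∧ (δ₃ = 1 ∨ δ₃ = -1) ∧
      Function.Injective a ∧ c ≠ D.b₀ ∧ b ≠ D.b₀ ∧ b' ≠ D.b₀ ∧ c ≠ b ∧ c ≠ b' ∧ b ≠ b' ∧
      (∀ j, a j ≠ D.b₀ ∧ a j ≠ c ∧ a j ≠ b ∧ a j ≠ b') ∧
      (∀ χ, χ = D.b₀ ∨ χ = c ∨ χ = b ∨ χ = b' ∨ ∃ j, χ = a j) ∧
      (∀ l, 0 < l → l < 2 * h →
        D.X c l = (δ₁ : ℂ) ∧ D.X b l = (δ₂ : ℂ) * (-1) ^ (l + 1) ∧ D.X b' l = (δ₃ : ℂ) * (-1) ^ (l + 1) ∧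
        ∀ j : Fin (h - 1), D.X (a j) l = (δ₁ : ℂ) * (ζ ^ (((j : ℕ) + 1) * l) + (ζ ^ (((j : ℕ) + 1) * l))⁻¹)) ∧
      ∀ Y : B → ℂ, (∀ k, 0 < k → k < 2 * h → ∑ χ, D.X χ k * Y χ = 0) →
        (Y D.b₀ + (δ₁ : ℂ) * Y c = -(δ₂ : ℂ) * Y b - (δ₃ : ℂ) * Y b') ∧
          ∀ j, Y D.b₀ + (δ₁ : ℂ) * Y c = (δ₁ : ℂ) * Y (a j) := by
  classical
  obtain ⟨t, ht⟩ := gram hh hζ D
  obtain ⟨hdegpos, hdeg0, hmu00, hmu0i⟩ := deg_facts hh hζ D
  have h2h : 0 < 2 * h := by omega
  have hhlt : h < 2 * h := by omega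
  -- the vectors
  set m0 : B → ℤ := fun χ => (D.mu χ 0 : ℤ) with hm0
  set me : B → ℤ := fun χ => (D.mu χ h : ℤ) with hme
  set mj : Fin (h - 1) → B → ℤ := fun j χ => (D.mu χ ((j : ℕ) + 1) : ℤ) with hmj
  have hjlt : ∀ j : Fin (h - 1), (j : ℕ) + 1 < 2 * h := fun j => by have := j.2; omega
  have hjlt' : ∀ j : Fin (h - 1), (j : ℕ) + 1 < h := fun j => by have := j.2; omega
  have hmod : ∀ x, 0 < x → x < 2 * h → x % (2 * h) ≠ 0 := by
    intro x hx0 hx
    rw [Nat.mod_eq_of_lt hx]; omega
  obtain ⟨δ₁, δ₂, δ₃, c, b, b', a, hδ₁, hδ₂, hδ₃, hainj, hc0, hb0, hb0', hcb, hcb', hbb', hane, hmeq, hmjq⟩ :=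
    lattice_core (h - 1) (by omega) (by omega) m0 me mj D.b₀ t (fun χ => (D.deg χ : ℤ))
      (fun χ => by exact_mod_cast hdegpos χ) (by simp [hdeg0])
      (by
        have := ht 0 0 h2h h2h
        simp only [if_true, Nat.add_zero, Nat.zero_mod] at this
        rw [this]; ring)
      (by
        have := ht h h hhlt hhlt
        have e : (h + h) % (2 * h) = 0 := by rw [← two_mul]; exact Nat.mod_self _
        simp only [if_true, e] at this
        rw [this]; ring)
      (by
        have := ht 0 h h2h hhlt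
        have e1 : ¬ (0 = h) := by omega
        have e2 : (0 + h) % (2 * h) ≠ 0 := by rw [Nat.zero_add]; exact hmod h (by omega) hhlt
        simp only [if_neg e1, if_neg e2] at this
        rw [this]; ring)
      (fun j => by
        have := ht 0 ((j : ℕ) + 1) h2h (hjlt j)
        have e1 : ¬ (0 = (j : ℕ) + 1) := by omega
        have e2 : (0 + ((j : ℕ) + 1)) % (2 * h) ≠ 0 := by
          rw [Nat.zero_add]; exact hmod _ (by omega) (hjlt j)
        simp only [if_neg e1, if_neg e2] at this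
        rw [this]; ring)
      (fun j => by
        have := ht h ((j : ℕ) + 1) hhlt (hjlt j)
        have e1 : ¬ (h = (j : ℕ) + 1) := by have := hjlt' j; omega
        have e2 : (h + ((j : ℕ) + 1)) % (2 * h) ≠ 0 := by
          apply hmod _ (by omega); have := hjlt' j; omega
        simp only [if_neg e1, if_neg e2] at this
        rw [this]; ring)
      (fun i j => by
        have := ht ((i : ℕ) + 1) ((j : ℕ) + 1) (hjlt i) (hjlt j)
        have e2 : (((i : ℕ) + 1) + ((j : ℕ) + 1)) % (2 * h) ≠ 0 := by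
          apply hmod _ (by omega); have := hjlt' i; have := hjlt' j; omega
        simp only [if_neg e2] at this
        rw [this]
        by_cases hij : i = j
        · subst hij; simp
        · have hne : ¬ ((i : ℕ) + 1 = (j : ℕ) + 1) := by
            intro h'; apply hij; apply Fin.ext; omega
          rw [if_neg hne, if_neg hij]; ring)
      (by simp [hm0, hmu00])
      (by simp [hme, hmu0i h (by omega) hhlt])
      (fun j => by simp [hmj, hmu0i _ (Nat.succ_pos _) (hjlt j)])
      (sum_sub_mul_deg hh hζ D 0 h h2h hhlt)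
      (fun j => sum_sub_mul_deg hh hζ D 0 ((j : ℕ) + 1) h2h (hjlt j))
  have hvals := fun l hl0 hl => values_of_shape hh hζ D δ₁ δ₂ δ₃ c b b' a hainj hc0 hb0 hb0' hcb hcb' hbb' hane
    hmeq hmjq l hl0 hl
  -- completeness
  have hcompl : ∀ χ, χ = D.b₀ ∨ χ = c ∨ χ = b ∨ χ = b' ∨ ∃ j, χ = a j := by
    intro χ
    by_contra hne
    push Not at hne
    obtain ⟨h1, h2, h3, h4, h5⟩ := hne
    exact D.hz χ ((hvals h (by omega) hhlt).2.2.2.2 χ h1 h2 h3 h4 h5)
  refine ⟨?_, δ₁, δ₂, δ₃, c, b, b', a, hδ₁, hδ₂, hδ₃, hainj, hc0, hb0, hb0', hcb, hcb', hbb', hane, hcompl,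
    fun l hl0 hl => ⟨(hvals l hl0 hl).1, (hvals l hl0 hl).2.1, (hvals l hl0 hl).2.2.1, (hvals l hl0 hl).2.2.2.1⟩,
    ?_⟩
  · -- cardinality
    have huniv : (Finset.univ : Finset B) = insert D.b₀ (insert c (insert b (insert b' (Finset.univ.image a)))) := by
      ext χ
      simp only [Finset.mem_univ, Finset.mem_insert, Finset.mem_image, true_and, true_iff]
      rcases hcompl χ with h1 | h1 | h1 | h1 | ⟨j, h1⟩
      · exact Or.inl h1
      · exact Or.inr (Or.inl h1)
      · exact Or.inr (Or.inr (Or.inl h1))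
      · exact Or.inr (Or.inr (Or.inr (Or.inl h1)))
      · exact Or.inr (Or.inr (Or.inr (Or.inr ⟨j, h1.symm⟩)))
    rw [← Finset.card_univ, huniv]
    have hb'n : b' ∉ Finset.univ.image a := by
      simp only [Finset.mem_image, Finset.mem_univ, true_and, not_exists]
      intro j hj; exact (hane j).2.2.2 hj
    have hbn : b ∉ insert b' (Finset.univ.image a) := by
      simp only [Finset.mem_insert, Finset.mem_image, Finset.mem_univ, true_and, not_or, not_exists]
      exact ⟨hbb', fun j hj => (hane j).2.2.1 hj⟩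
    have hcn : c ∉ insert b (insert b' (Finset.univ.image a)) := by
      simp only [Finset.mem_insert, Finset.mem_image, Finset.mem_univ, true_and, not_or, not_exists]
      exact ⟨hcb, hcb', fun j hj => (hane j).2.1 hj⟩
    have h0n : D.b₀ ∉ insert c (insert b (insert b' (Finset.univ.image a))) := by
      simp only [Finset.mem_insert, Finset.mem_image, Finset.mem_univ, true_and, not_or, not_exists]
      exact ⟨Ne.symm hc0, Ne.symm hb0, Ne.symm hb0', fun j hj => (hane j).1 hj⟩
    rw [Finset.card_insert_of_notMem h0n, Finset.card_insert_of_notMem hcn, Finset.card_insert_of_notMem hbn,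
      Finset.card_insert_of_notMem hb'n, Finset.card_image_of_injective _ hainj, Finset.card_univ,
      Fintype.card_fin]
    omega
  · -- relations on the regular columns
    intro Y hY
    have hsum : ∀ (w : B → ℤ), (∑ χ, ((w χ : ℤ) : ℂ) * Y χ) = ∑ χ, ((w χ : ℤ) : ℂ) * Y χ := fun _ => rfl
    have key : ∀ (d₀ dc db db' : ℤ) (aj : Option (Fin (h - 1))) (da : ℤ),
        (∑ χ : B, (((if χ = D.b₀ then d₀ else 0) + (if χ = c then dc else 0) + (if χ = b then db else 0) +
          (if χ = b' then db' else 0) + (match aj with | some j => (if χ = a j then da else 0) | none => 0) : ℤ) : ℂ)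
            * Y χ) =
          (d₀ : ℂ) * Y D.b₀ + (dc : ℂ) * Y c + (db : ℂ) * Y b + (db' : ℂ) * Y b' +
            (match aj with | some j => (da : ℂ) * Y (a j) | none => 0) := by
      intro d₀ dc db db' aj da
      have e : ∀ χ : B, (((if χ = D.b₀ then d₀ else 0) + (if χ = c then dc else 0) + (if χ = b then db else 0) +
          (if χ = b' then db' else 0) + (match aj with | some j => (if χ = a j then da else 0) | none => 0) : ℤ) : ℂ)
            * Y χ =
          (if χ = D.b₀ then (d₀ : ℂ) * Y χ else 0) + (if χ = c then (dc : ℂ) * Y χ else 0) +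
            (if χ = b then (db : ℂ) * Y χ else 0) + (if χ = b' then (db' : ℂ) * Y χ else 0) +
            (match aj with | some j => (if χ = a j then (da : ℂ) * Y χ else 0) | none => 0) := by
        intro χ
        cases aj with
        | none => push_cast; split_ifs <;> ring
        | some j => push_cast; split_ifs <;> ring
      rw [Finset.sum_congr rfl (fun χ _ => e χ)]
      simp only [Finset.sum_add_distrib, Finset.sum_ite_eq', Finset.mem_univ, if_true]
      cases aj with
      | none => simp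
      | some j => simp [Finset.sum_ite_eq']
    constructor
    · have h1 := sum_sub_mul_reg hh hζ D Y hY 0 h h2h hhlt
      have e : ∀ χ : B, ((D.mu χ 0 : ℤ) - (D.mu χ h : ℤ)) =
          (if χ = D.b₀ then 1 else 0) + (if χ = c then δ₁ else 0) + (if χ = b then δ₂ else 0) +
          (if χ = b' then δ₃ else 0) + (match (none : Option (Fin (h - 1))) with
            | some j => (if χ = a j then (0 : ℤ) else 0) | none => 0) := by
        intro χ
        have := hmeq χ
        simp only [hme, hm0] at this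
        rw [this]; ring
      rw [Finset.sum_congr rfl (fun χ _ => by rw [e χ])] at h1
      rw [key 1 δ₁ δ₂ δ₃ none 0] at h1
      simp only [Int.cast_one, one_mul, add_zero] at h1
      linear_combination h1
    · intro j
      have h1 := sum_sub_mul_reg hh hζ D Y hY 0 ((j : ℕ) + 1) h2h (hjlt j)
      have e : ∀ χ : B, ((D.mu χ 0 : ℤ) - (D.mu χ ((j : ℕ) + 1) : ℤ)) =
          (if χ = D.b₀ then 1 else 0) + (if χ = c then δ₁ else 0) + (if χ = b then 0 else 0) +
          (if χ = b' then 0 else 0) + (match (some j : Option (Fin (h - 1))) with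
            | some j => (if χ = a j then (-δ₁ : ℤ) else 0) | none => 0) := by
        intro χ
        have := hmjq j χ
        simp only [hmj, hm0] at this
        rw [this]
        simp only [ite_self, add_zero]
        split_ifs <;> ring
      rw [Finset.sum_congr rfl (fun χ _ => by rw [e χ])] at h1
      rw [key 1 δ₁ 0 0 (some j) (-δ₁)] at h1
      simp only [Int.cast_one, one_mul, Int.cast_zero, zero_mul, add_zero, Int.cast_neg] at h1
      linear_combination h1

end Cfsg.Agent.Lib.Helper6.DihBlkSpine
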