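import Mathlib
import Cfsg.Agent.Lib.Helper6.DihBlkMainA

set_option autoImplicit false

namespace Cfsg.Agent.Lib.Helper6.DihBlkSpine

open Cfsg Cfsg.Agent.CharLib
open Cfsg.Agent.Lib.Helper6.DihBlk Cfsg.Agent.Lib.Helper6.DihBlkLeaves
open scoped ComplexConjugate

variable {G : Type*} [Group G] [Finite G]

theorem two_mul_two_pow (n : ℕ) (hn : 3 ≤ n) : 2 * 2 ^ (n - 2) = 2 ^ (n - 1) := by
  have : n - 1 = (n - 2) + 1 := by omega
  rw [this, pow_succ]; ring

/-- The data of the abstract theorem for the principal block. -/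
theorem exists_dihData (M : Ideal AlgInt) (hM : IsPModular 2 M) (n : ℕ) (hn : 3 ≤ n) (P : Sylow 2 G)
    (hP : Nonempty ((P : Subgroup G) ≃* DihedralGroup (2 ^ (n - 1)))) (σ : G) (hσ : σ ∈ (P : Subgroup G))
    (hσo : orderOf σ = 2 ^ (n - 1)) (ζ : ℂ) (hζ : IsPrimitiveRoot ζ (2 ^ (n - 1)))
    [Fintype ↥(principalBlock M G)] :
    ∃ D : DihData ↥(principalBlock M G) (2 ^ (n - 2)) ζ,
      (∀ χ k, D.X χ k = (χ.1 : G → ℂ) (σ ^ k)) ∧ ((D.b₀ : ↥(principalBlock M G)).1 : G → ℂ) = fun _ => 1 := by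
  classical
  have : Fact (Nat.Prime 2) := ⟨Nat.prime_two⟩
  have h2 := two_mul_two_pow n hn
  have hpos : 0 < 2 * 2 ^ (n - 2) := by positivity
  have hσN : σ ^ (2 * 2 ^ (n - 2)) = 1 := by rw [h2, ← hσo]; exact pow_orderOf_eq_one σ
  have hζ' : IsPrimitiveRoot ζ (2 * 2 ^ (n - 2)) := by rw [h2]; exact hζ
  have hex : ∀ χ : ↥(principalBlock M G), ∃ mu : ℕ → ℕ, ∀ k : ℕ,
      (χ.1 : G → ℂ) (σ ^ k) = ∑ i ∈ Finset.range (2 * 2 ^ (n - 2)), (mu i : ℂ) * ζ ^ (i * k) :=
    fun χ => exists_mult_pow (IsIrrCharacter.isCharacter χ.1.2) σ _ hpos hσN ζ hζ'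
  choose mu hmu using hex
  refine ⟨{ X := fun χ k => (χ.1 : G → ℂ) (σ ^ k)
            mu := mu
            b₀ := ⟨trivIrr G, trivIrr_mem_principalBlock hM⟩
            hexp := hmu
            htriv := fun k => rfl
            horth := ?_
            horth0 := ?_
            hz := ?_ }, fun _ _ => rfl, rfl⟩
  · intro k l hk0 hk hl0 hl
    rw [h2] at hk hl
    have := orth_cols M hM n hn P hP σ hσ hσo k l hk0 hk hl0 hl
    rw [← this]
    exact sum_principalBlock_subtype M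
      (fun χ : IrrCharacter G => (χ : G → ℂ) (σ ^ k) * conj ((χ : G → ℂ) (σ ^ l)))
  · intro l hl0 hl
    rw [h2] at hl
    have := orth_col_one M hM n σ hσo l hl0 hl
    rw [← this]
    have e := sum_principalBlock_subtype M
      (fun χ : IrrCharacter G => (χ : G → ℂ) 1 * conj ((χ : G → ℂ) (σ ^ l)))
    simp only [pow_zero]
    exact e
  · intro χ
    exact apply_central_involution_ne_zero M hM n hn P hP σ hσ hσo χ.1 χ.2

end Cfsg.Agent.Lib.Helper6.DihBlkSpine
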