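import Mathlib
import Cfsg.Agent.Lib.Helper6.DihBlkMainB

set_option autoImplicit false

namespace Cfsg.Agent.Lib.Helper6.DihBlkSpine

open Cfsg Cfsg.Agent.CharLib
open Cfsg.Agent.Lib.Helper6.DihBlk Cfsg.Agent.Lib.Helper6.DihBlkLeaves
open scoped ComplexConjugate

theorem result_S4481 {G : Type*} [Group G] [Finite G] (M : Ideal Cfsg.AlgInt) (hM : Cfsg.IsPModular 2 M) (n : ℕ) (hn : 3 ≤ n) (P : Sylow 2 G) (hP : Nonempty ((P : Subgroup G) ≃* DihedralGroup (2 ^ (n - 1)))) (σ : G) (hσ : σ ∈ (P : Subgroup G)) (hσo : orderOf σ = 2 ^ (n - 1)) (ζ : ℂ) (hζ : IsPrimitiveRoot ζ (2 ^ (n - 1))) : Nat.card (Cfsg.principalBlock M G) = 3 + 2 ^ (n - 2) ∧ ∃ (χ₁ χ₂ χ₃ : Cfsg.IrrCharacter G) (χ' : Fin (2 ^ (n - 2) - 1) → Cfsg.IrrCharacter G) (δ₁ δ₂ δ₃ : ℤ), (δ₁ = 1 ∨ δ₁ = -1) ∧ (δ₂ = 1 ∨ δ₂ = -1) ∧ (δ₃ = 1 ∨ δ₃ = -1) ∧ Function.Injective χ'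 ∧ (χ₁ : G → ℂ) ≠ (fun _ => 1) ∧ (χ₂ : G → ℂ) ≠ (fun _ => 1) ∧ (χ₃ : G → ℂ) ≠ (fun _ => 1) ∧ χ₁ ≠ χ₂ ∧ χ₁ ≠ χ₃ ∧ χ₂ ≠ χ₃ ∧ (∀ j, χ' j ≠ χ₁ ∧ χ' j ≠ χ₂ ∧ χ' j ≠ χ₃ ∧ (χ' j : G → ℂ) ≠ (fun _ => 1)) ∧ Cfsg.principalBlock M G = {χ : Cfsg.IrrCharacter G | (χ : G → ℂ) = (fun _ => 1) ∨ χ = χ₁ ∨ χ = χ₂ ∨ χ = χ₃ ∨ ∃ j, χ = χ' j} ∧ (∀ l : ℕ, 0 < l → l < 2 ^ (n - 1) → (χ₁ : G → ℂ) (σ ^ l) = δ₁ ∧ (χ₂ : G → ℂ) (σ ^ l) = δ₂ * (-1) ^ (l + 1) ∧ (χ₃ : G → ℂ) (σ ^ l) = δ₃ * (-1) ^ (l + 1) ∧ ∀ j : Fin (2 ^ (n - 2) - 1), (χ' j : G → ℂ) (σ ^ l) = δ₁ * (ζ ^ (((j : ℕ) + 1) * l) + (ζ ^ (((j : ℕ) + 1) * l))⁻¹)) ∧ ∀ ρ : G, Odd (orderOf ρ) → ∀ j : Fin (2 ^ (n - 2) - 1), 1 + δ₁ * (χ₁ : G → ℂ) ρ = -δ₂ * (χ₂ : G → ℂ) ρ - δ₃ * (χ₃ : G → ℂ) ρ ∧ 1 + δ₁ * (χ₁ : G → ℂ) ρ = δ₁ * (χ' j : G → ℂ) ρ := by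
  classical
  let _ : Fintype ↥(principalBlock M G) := Fintype.ofFinite _
  have h2 := two_mul_two_pow n hn
  have hh : 2 ≤ 2 ^ (n - 2) := by
    calc 2 = 2 ^ 1 := by norm_num
      _ ≤ 2 ^ (n - 2) := Nat.pow_le_pow_right (by norm_num) (by omega)
  have hζ' : IsPrimitiveRoot ζ (2 * 2 ^ (n - 2)) := by rw [h2]; exact hζ
  have hh3 : 2 ^ (n - 2) ≠ 3 := by
    intro h3
    have hd : 2 ∣ 2 ^ (n - 2) := dvd_pow_self 2 (by omega)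
    rw [h3] at hd
    omega
  obtain ⟨D, hDX, hDb⟩ := exists_dihData M hM n hn P hP σ hσ hσo ζ hζ
  obtain ⟨hcard, δ₁, δ₂, δ₃, c, b, b', a, hδ₁, hδ₂, hδ₃, hainj, hc0, hb0, hb0', hcb, hcb', hbb', hane, hcompl,
    hvals, hreg⟩ := abstract_main hh hh3 hζ' D
  -- an element of the block is `b₀` iff its function is `1`
  have hone : ∀ χ : ↥(principalBlock M G), ((χ.1 : IrrCharacter G) : G → ℂ) = (fun _ => 1) ↔ χ = D.b₀ := by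
    intro χ
    constructor
    · intro h
      apply Subtype.ext; apply Subtype.ext
      rw [h, hDb]
    · intro h
      rw [h, hDb]
  have hne1 : ∀ χ : ↥(principalBlock M G), χ ≠ D.b₀ → ((χ.1 : IrrCharacter G) : G → ℂ) ≠ (fun _ => 1) :=
    fun χ hχ h => hχ ((hone χ).mp h)
  have hval_inj : ∀ χ ψ : ↥(principalBlock M G), χ ≠ ψ → χ.1 ≠ ψ.1 := fun χ ψ h h' => h (Subtype.ext h')
  refine ⟨?_, c.1, b.1, b'.1, fun j => (a j).1, δ₁, δ₂, δ₃, hδ₁, hδ₂, hδ₃, ?_, hne1 c hc0, hne1 b hb0,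
    hne1 b' hb0', hval_inj _ _ hcb, hval_inj _ _ hcb', hval_inj _ _ hbb', ?_, ?_, ?_, ?_⟩
  · rw [Nat.card_eq_fintype_card, hcard]; ring
  · intro i j hij
    exact hainj (Subtype.ext hij)
  · intro j
    exact ⟨hval_inj _ _ (hane j).2.1, hval_inj _ _ (hane j).2.2.1, hval_inj _ _ (hane j).2.2.2,
      hne1 _ (hane j).1⟩
  · ext χ
    simp only [Set.mem_ofPred_eq]
    constructor
    · intro hχ
      rcases hcompl ⟨χ, hχ⟩ with h | h | h | h | ⟨j, h⟩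
      · left; exact (hone ⟨χ, hχ⟩).mpr h
      · right; left; exact congrArg Subtype.val h
      · right; right; left; exact congrArg Subtype.val h
      · right; right; right; left; exact congrArg Subtype.val h
      · right; right; right; right; exact ⟨j, congrArg Subtype.val h⟩
    · rintro (h | h | h | h | ⟨j, h⟩)
      · have : χ = (D.b₀ : ↥(principalBlock M G)).1 := by
          apply Subtype.ext; rw [h, hDb]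
        rw [this]; exact D.b₀.2
      · rw [h]; exact c.2
      · rw [h]; exact b.2
      · rw [h]; exact b'.2
      · rw [h]; exact (a j).2
  · intro l hl0 hl
    rw [← h2] at hl
    obtain ⟨v1, v2, v3, v4⟩ := hvals l hl0 hl
    rw [hDX] at v1 v2 v3
    refine ⟨v1, v2, v3, fun j => ?_⟩
    have := v4 j
    rw [hDX] at this
    exact this
  · intro ρ hρ j
    have hY : ∀ k, 0 < k → k < 2 * 2 ^ (n - 2) →
        ∑ χ : ↥(principalBlock M G), D.X χ k * ((χ.1 : IrrCharacter G) : G → ℂ) ρ = 0 := by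
      intro k hk0 hk
      rw [h2] at hk
      have := reg_cols M hM n σ hσo k hk0 hk ρ hρ
      rw [← this]
      simp only [hDX]
      exact sum_principalBlock_subtype M
        (fun χ : IrrCharacter G => (χ : G → ℂ) (σ ^ k) * (χ : G → ℂ) ρ)
    obtain ⟨r1, r2⟩ := hreg (fun χ => ((χ.1 : IrrCharacter G) : G → ℂ) ρ) hY
    have hb1 : ((D.b₀ : ↥(principalBlock M G)).1 : G → ℂ) ρ = 1 := by rw [hDb]
    simp only [hb1] at r1 r2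
    exact ⟨r1, r2 j⟩

end Cfsg.Agent.Lib.Helper6.DihBlkSpine
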