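import Cfsg.Agent.Lib.Helper2.EQDefs
import Cfsg.Agent.Lib.Helper5.EQR3
import Cfsg.Agent.Lib.Helper6.EQR1

/-!
# EQ leaf (R4): the multiset of torus weights on `C_M(U)` is stable under the Weyl group
(planner: helper2, for S2344).
-/

set_option autoImplicit false
set_option linter.unusedSectionVars false

namespace Cfsg.Agent.Lib.Helper6.EQ

open Matrix Module Cfsg.Agent.Lib.Helper16.SLMin Cfsg.Agent.Lib.Helper16.SLMinSpine
  Cfsg.Agent.Lib.Helper2.EQ

section grp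

variable {F : Type*} [Field F] {m : ℕ}

theorem permTor_mul_apply (σ τ : Equiv.Perm (Fin m)) (t : Tor m F) :
    permTor (σ * τ) t = permTor σ (permTor τ t) := by
  apply Subtype.ext
  funext i
  show (t : Fin m → Fˣ) ((σ * τ)⁻¹ i) = (t : Fin m → Fˣ) (τ⁻¹ (σ⁻¹ i))
  rw [_root_.mul_inv_rev]
  rfl

theorem permTor_one_apply (t : Tor m F) : permTor (1 : Equiv.Perm (Fin m)) t = t := by
  apply Subtype.ext
  funext i
  show (t : Fin m → Fˣ) ((1 : Equiv.Perm (Fin m))⁻¹ i) = (t : Fin m → Fˣ) i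
  rw [inv_one]
  rfl

theorem comp_permTor_mul {A : Type*} [Monoid A] (θ : Tor m F →* A) (σ τ : Equiv.Perm (Fin m)) :
    θ.comp (permTor (σ * τ)).toMonoidHom =
      (θ.comp (permTor σ).toMonoidHom).comp (permTor τ).toMonoidHom := by
  ext t
  show θ (permTor (σ * τ) t) = θ (permTor σ (permTor τ t))
  rw [permTor_mul_apply]

theorem comp_permTor_one {A : Type*} [Monoid A] (θ : Tor m F →* A) :
    θ.comp (permTor (1 : Equiv.Perm (Fin m))).toMonoidHom = θ := by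
  ext t
  show θ (permTor (1 : Equiv.Perm (Fin m)) t) = θ t
  rw [permTor_one_apply]

end grp

section R

variable {F : Type*} [Field F] [Fintype F] [DecidableEq F] {M : Type*} [AddCommGroup M]
  [Module ℂ M] [FiniteDimensional ℂ M] {N : ℕ}

/-- by the quadratic relation, `Ti` is injective on `Cfix ⊓ wtT θ` -/
theorem eq_zero_of_Ti_eq_zero (ρ : Representation ℂ (SpecialLinearGroup (Fin (N + 1)) F) M)
    (i : Fin N) (θ : Tor (N + 1) F →* ℂˣ) {x : M} (hx : x ∈ Cfix ρ ⊓ wtT ρ θ)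
    (h0 : Ti ρ i x = 0) : x = 0 := by
  obtain ⟨γ, hγ⟩ := Cfsg.Agent.Lib.Helper5.EQ.Ti_quadratic ρ i θ hx
  rw [h0, map_zero, smul_zero, add_zero] at hγ
  have hcne : (((θ (hc i.castSucc i.succ (-1)) : ℂˣ) : ℂ) * (Fintype.card F : ℂ)⁻¹) ≠ 0 :=
    mul_ne_zero (Units.ne_zero _) (inv_ne_zero card_ne_zero_aux)
  exact (smul_eq_zero.mp hγ.symm).resolve_left hcne

theorem finrank_wtT_le_swap (ρ : Representation ℂ (SpecialLinearGroup (Fin (N + 1)) F) M)
    (i : Fin N) (θ : Tor (N + 1) F →* ℂˣ) :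
    finrank ℂ ↥(Cfix ρ ⊓ wtT ρ θ) ≤
      finrank ℂ ↥(Cfix ρ ⊓ wtT ρ
        (θ.comp (permTor (Equiv.swap i.castSucc i.succ)).toMonoidHom)) := by
  have hmap : ∀ x ∈ Cfix ρ ⊓ wtT ρ θ, Ti ρ i x ∈
      Cfix ρ ⊓ wtT ρ (θ.comp (permTor (Equiv.swap i.castSucc i.succ)).toMonoidHom) :=
    fun x hx => ⟨Ti_mem_Cfix ρ i hx.1, Ti_mem_wtT ρ i θ hx.2⟩
  refine LinearMap.finrank_le_finrank_of_injective (f := (Ti ρ i).restrict hmap) ?_
  rw [injective_iff_map_eq_zero]
  intro x hx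
  apply Subtype.ext
  have h0 : Ti ρ i (x : M) = 0 := by
    have h1 := congrArg Subtype.val hx
    rw [LinearMap.coe_restrict_apply] at h1
    exact h1
  exact eq_zero_of_Ti_eq_zero ρ i θ x.2 h0

theorem finrank_wtT_swap (ρ : Representation ℂ (SpecialLinearGroup (Fin (N + 1)) F) M)
    (i : Fin N) (θ : Tor (N + 1) F →* ℂˣ) :
    finrank ℂ ↥(Cfix ρ ⊓ wtT ρ
        (θ.comp (permTor (Equiv.swap i.castSucc i.succ)).toMonoidHom)) =
      finrank ℂ ↥(Cfix ρ ⊓ wtT ρ θ) := by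
  refine le_antisymm ?_ (finrank_wtT_le_swap ρ i θ)
  have h := finrank_wtT_le_swap ρ i
    (θ.comp (permTor (Equiv.swap i.castSucc i.succ)).toMonoidHom)
  rw [← comp_permTor_mul, Equiv.swap_mul_self, comp_permTor_one] at h
  exact h

/-- R4: the multiset of torus weights on `C_M(U)` is stable under the Weyl group -/
theorem finrank_wtT_perm (ρ : Representation ℂ (SpecialLinearGroup (Fin (N + 1)) F) M)
    (θ : Tor (N + 1) F →* ℂˣ) (σ : Equiv.Perm (Fin (N + 1))) :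
    finrank ℂ ↥(Cfix ρ ⊓ wtT ρ (θ.comp (permTor σ).toMonoidHom)) =
      finrank ℂ ↥(Cfix ρ ⊓ wtT ρ θ) := by
  have hσ : σ ∈ Submonoid.closure
      (Set.range fun i : Fin N => Equiv.swap i.castSucc i.succ) := by
    rw [Equiv.Perm.mclosure_swap_castSucc_succ]
    exact Submonoid.mem_top σ
  revert θ
  induction hσ using Submonoid.closure_induction with
  | mem τ hτ =>
    obtain ⟨i, rfl⟩ := hτ
    intro θ
    exact finrank_wtT_swap ρ i θ
  | one =>
    intro θ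
    rw [comp_permTor_one]
  | mul σ τ _ _ ihσ ihτ =>
    intro θ
    rw [comp_permTor_mul, ihτ, ihσ]

end R

end Cfsg.Agent.Lib.Helper6.EQ
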