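import Mathlib
import Cfsg.Agent.Lib.Helper4.Basic

set_option autoImplicit false

/-! An order bound from relations, for the groups `2^{2+4} : 5`. -/

namespace Cfsg.Agent.Lib.Helper6.Ext320

open Subgroup
open scoped commutatorElement

variable {H : Type*} [Group H]

/-- adjoining an element `x` normalizing `N` with `x ^ n ∈ N` multiplies the order by at most `n` -/
theorem card_sup_zpowers_le [Finite H] (N : Subgroup H) (x : H) (n : ℕ) (hn : 0 < n)
    (hx : x ^ n ∈ N) (hnorm : ∀ k ∈ N, x * k * x⁻¹ ∈ N) :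
    Nat.card ↥(N ⊔ zpowers x) ≤ n * Nat.card N := by
  have hxinv : ∀ k ∈ N, x⁻¹ * k * x ∈ N := by
    -- conjugation by `x` is an injective self-map of the finite set `N`
    let f : N → N := fun k => ⟨x * k * x⁻¹, hnorm k k.2⟩
    have hf : Function.Injective f := by
      intro a b hab
      have : x * (a : H) * x⁻¹ = x * b * x⁻¹ := congrArg Subtype.val hab
      apply Subtype.ext
      simpa using this
    have hs := Finite.injective_iff_surjective.mp hf
    intro k hk
    obtain ⟨a, ha⟩ := hs ⟨k, hk⟩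
    have h1 : x * (a : H) * x⁻¹ = k := congrArg Subtype.val ha
    have : x⁻¹ * k * x = a := by rw [← h1]; group
    rw [this]; exact a.2
  have hle : zpowers x ≤ normalizer (N : Set H) := by
    rw [zpowers_le, Subgroup.mem_normalizer_iff]
    intro k
    constructor
    · intro hk; exact hnorm k hk
    · intro hk
      have := hxinv _ hk
      have e : x⁻¹ * (x * k * x⁻¹) * x = k := by group
      rwa [e] at this
  have h1 := Cfsg.Agent.Lib.Helper4.card_sup_mul_card_inf (zpowers x) N hle
  rw [Nat.card_zpowers] at h1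
  have h2 : zpowers (x ^ n) ≤ zpowers x ⊓ N := by
    rw [zpowers_le]
    exact ⟨Subgroup.pow_mem _ (mem_zpowers x) n, hx⟩
  have h3 := Subgroup.card_le_of_le h2
  rw [Nat.card_zpowers, orderOf_pow' x hn.ne'] at h3
  have ho : 0 < orderOf x := orderOf_pos x
  set o := orderOf x with hodef
  set g := Nat.gcd o n with hg
  have hgpos : 0 < g := Nat.gcd_pos_of_pos_left n ho
  have hgo : g ∣ o := Nat.gcd_dvd_left o n
  have hgn : g ≤ n := Nat.le_of_dvd hn (Nat.gcd_dvd_right o n)
  obtain ⟨o', ho'⟩ := hgo
  have ho'pos : 0 < o' := by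
    rcases Nat.eq_zero_or_pos o' with h | h
    · rw [h, mul_zero] at ho'; omega
    · exact h
  have h4 : o / g = o' := by rw [ho', Nat.mul_div_cancel_left _ hgpos]
  rw [h4] at h3
  rw [sup_comm] at h1
  have h5 : Nat.card ↥(N ⊔ zpowers x) * o' ≤ g * o' * Nat.card N := by
    calc Nat.card ↥(N ⊔ zpowers x) * o'
        ≤ Nat.card ↥(N ⊔ zpowers x) * Nat.card ↥(zpowers x ⊓ N) := Nat.mul_le_mul_left _ h3
      _ = o * Nat.card N := h1
      _ = g * o' * Nat.card N := by rw [ho']
  have h6 : Nat.card ↥(N ⊔ zpowers x) * o' ≤ (g * Nat.card N) * o' := by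
    calc _ ≤ g * o' * Nat.card N := h5
      _ = (g * Nat.card N) * o' := by ring
  have h7 := Nat.le_of_mul_le_mul_right h6 ho'pos
  exact h7.trans (Nat.mul_le_mul_right _ hgn)

end Cfsg.Agent.Lib.Helper6.Ext320
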