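import Mathlib
import Cfsg.Agent.Lib.Helper6.Ext320A

set_option autoImplicit false

/-! The relations of the groups `2^{2+4} : 5` and the order bound they give. -/

namespace Cfsg.Agent.Lib.Helper6.Ext320

open Subgroup
open scoped commutatorElement

variable {H : Type*} [Group H]

/-- the conjugate of `Y` by `S ^ i` -/
def cj (Y S : H) (i : ℕ) : H := S ^ i * Y * (S ^ i)⁻¹

/-- the first commutator -/
def cB1 (Y S : H) : H := ⁅Y, cj Y S 1⁆

/-- the second commutator -/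
def cB2 (Y S : H) : H := ⁅Y, cj Y S 2⁆

/-- the relations -/
structure Rel (Y S : H) : Prop where
  s5 : S ^ 5 = 1
  cYB1 : Y * cB1 Y S = cB1 Y S * Y
  cSB1 : S * cB1 Y S = cB1 Y S * S
  cYB2 : Y * cB2 Y S = cB2 Y S * Y
  cSB2 : S * cB2 Y S = cB2 Y S * S
  sqB1 : cB1 Y S * cB1 Y S = 1
  sqB2 : cB2 Y S * cB2 Y S = 1
  ysq : Y * Y = cB1 Y S * cB2 Y S
  norm : cj Y S 0 * cj Y S 1 * cj Y S 2 * cj Y S 3 * cj Y S 4 = 1

namespace Rel

variable {Y S : H}

theorem cj_zero (Y S : H) : cj Y S 0 = Y := by simp [cj]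

theorem cj_succ (Y S : H) (i : ℕ) : cj Y S (i + 1) = S * cj Y S i * S⁻¹ := by
  simp only [cj, pow_succ']
  group

theorem cj_add (Y S : H) (i k : ℕ) : cj Y S (i + k) = S ^ i * cj Y S k * (S ^ i)⁻¹ := by
  simp only [cj, pow_add]
  group

theorem cj_add_five (h : Rel Y S) (i : ℕ) : cj Y S (i + 5) = cj Y S i := by
  simp only [cj, pow_add, h.s5, mul_one]

theorem cj_mod (h : Rel Y S) (i : ℕ) : cj Y S i = cj Y S (i % 5) := by
  induction i using Nat.strong_induction_on with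
  | _ i ih =>
    by_cases hi : i < 5
    · rw [Nat.mod_eq_of_lt hi]
    · push Not at hi
      obtain ⟨j, rfl⟩ : ∃ j, i = j + 5 := ⟨i - 5, by omega⟩
      rw [h.cj_add_five, ih j (by omega), Nat.add_mod_right]

/-- elements commuting with `Y` and `S` commute with the conjugates -/
theorem commute_cj {B : H} (hY : Y * B = B * Y) (hS : S * B = B * S) (i : ℕ) :
    cj Y S i * B = B * cj Y S i := by
  have hSi : ∀ i : ℕ, S ^ i * B = B * S ^ i := by
    intro i
    exact ((Commute.pow_left (show Commute S B from hS) i)).eq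
  have hSi' : ∀ i : ℕ, (S ^ i)⁻¹ * B = B * (S ^ i)⁻¹ := by
    intro i
    have := hSi i
    calc (S ^ i)⁻¹ * B = (S ^ i)⁻¹ * (B * S ^ i) * (S ^ i)⁻¹ := by group
      _ = (S ^ i)⁻¹ * (S ^ i * B) * (S ^ i)⁻¹ := by rw [this]
      _ = B * (S ^ i)⁻¹ := by group
  unfold cj
  calc S ^ i * Y * (S ^ i)⁻¹ * B = S ^ i * Y * ((S ^ i)⁻¹ * B) := by group
    _ = S ^ i * Y * (B * (S ^ i)⁻¹) := by rw [hSi']
    _ = S ^ i * (Y * B) * (S ^ i)⁻¹ := by group
    _ = S ^ i * (B * Y) * (S ^ i)⁻¹ := by rw [hY]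
    _ = (S ^ i * B) * Y * (S ^ i)⁻¹ := by group
    _ = (B * S ^ i) * Y * (S ^ i)⁻¹ := by rw [hSi]
    _ = B * (S ^ i * Y * (S ^ i)⁻¹) := by group

theorem conj_pow_fix {B : H} (hS : S * B = B * S) (i : ℕ) : S ^ i * B * (S ^ i)⁻¹ = B := by
  have := (Commute.pow_left (show Commute S B from hS) i).eq
  rw [this]; group

/-- the commutator of two conjugates -/
theorem comm_cj_add (Y S : H) (i k : ℕ) :
    ⁅cj Y S i, cj Y S (i + k)⁆ = S ^ i * ⁅Y, cj Y S k⁆ * (S ^ i)⁻¹ := by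
  rw [cj_add]
  simp only [cj, commutatorElement_def]
  group

theorem comm_cj_one (h : Rel Y S) (i : ℕ) : ⁅cj Y S i, cj Y S (i + 1)⁆ = cB1 Y S := by
  rw [comm_cj_add]
  exact conj_pow_fix h.cSB1 i

theorem comm_cj_two (h : Rel Y S) (i : ℕ) : ⁅cj Y S i, cj Y S (i + 2)⁆ = cB2 Y S := by
  rw [comm_cj_add]
  exact conj_pow_fix h.cSB2 i

theorem inv_cB1 (h : Rel Y S) : (cB1 Y S)⁻¹ = cB1 Y S := inv_eq_of_mul_eq_one_left h.sqB1

theorem inv_cB2 (h : Rel Y S) : (cB2 Y S)⁻¹ = cB2 Y S := inv_eq_of_mul_eq_one_left h.sqB2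

theorem comm_cj_three (h : Rel Y S) (i : ℕ) : ⁅cj Y S i, cj Y S (i + 3)⁆ = cB2 Y S := by
  have h1 := h.comm_cj_two (i + 3)
  rw [show i + 3 + 2 = i + 5 by ring, h.cj_add_five] at h1
  rw [← commutatorElement_inv, h1, h.inv_cB2]

theorem comm_cj_four (h : Rel Y S) (i : ℕ) : ⁅cj Y S i, cj Y S (i + 4)⁆ = cB1 Y S := by
  have h1 := h.comm_cj_one (i + 4)
  rw [show i + 4 + 1 = i + 5 by ring, h.cj_add_five] at h1
  rw [← commutatorElement_inv, h1, h.inv_cB1]

/-- the central subgroup -/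
def Δ (Y S : H) : Subgroup H := zpowers (cB1 Y S) ⊔ zpowers (cB2 Y S)

theorem cB1_mem : cB1 Y S ∈ Δ Y S := (le_sup_left : _ ≤ Δ Y S) (mem_zpowers _)

theorem cB2_mem : cB2 Y S ∈ Δ Y S := (le_sup_right : _ ≤ Δ Y S) (mem_zpowers _)

theorem comm_cj_mem_aux (h : Rel Y S) (i k : ℕ) : ⁅cj Y S i, cj Y S (i + k)⁆ ∈ Δ Y S := by
  have h1 : cj Y S (i + k) = cj Y S (i + k % 5) := by
    rw [h.cj_mod (i + k), h.cj_mod (i + k % 5)]
    congr 1
    omega
  rw [h1]
  have h2 : k % 5 < 5 := Nat.mod_lt _ (by norm_num)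
  interval_cases (k % 5)
  · rw [add_zero, commutatorElement_self]; exact Subgroup.one_mem _
  · rw [h.comm_cj_one]; exact cB1_mem
  · rw [h.comm_cj_two]; exact cB2_mem
  · rw [h.comm_cj_three]; exact cB2_mem
  · rw [h.comm_cj_four]; exact cB1_mem

theorem comm_cj_mem (h : Rel Y S) (i j : ℕ) : ⁅cj Y S i, cj Y S j⁆ ∈ Δ Y S := by
  rcases le_total i j with hij | hij
  · obtain ⟨k, rfl⟩ := Nat.exists_eq_add_of_le hij
    exact h.comm_cj_mem_aux i k
  · obtain ⟨k, rfl⟩ := Nat.exists_eq_add_of_le hij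
    rw [← commutatorElement_inv]
    exact Subgroup.inv_mem _ (h.comm_cj_mem_aux j k)

/-- elements of `Δ` commute with `Y` and `S` -/
theorem Δ_commute (h : Rel Y S) {d : H} (hd : d ∈ Δ Y S) : Y * d = d * Y ∧ S * d = d * S := by
  have hle : Δ Y S ≤ centralizer {Y, S} := by
    apply sup_le
    · rw [zpowers_le, Subgroup.mem_centralizer_iff]
      intro g hg
      rcases hg with rfl | rfl
      · exact h.cYB1
      · exact h.cSB1
    · rw [zpowers_le, Subgroup.mem_centralizer_iff]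
      intro g hg
      rcases hg with rfl | rfl
      · exact h.cYB2
      · exact h.cSB2
  have := hle hd
  rw [Subgroup.mem_centralizer_iff] at this
  exact ⟨this Y (by simp), this S (by simp)⟩

theorem card_Δ_le [Finite H] (h : Rel Y S) : Nat.card (Δ Y S) ≤ 4 := by
  have h1 : Nat.card (zpowers (cB1 Y S)) ≤ 2 := by
    rw [Nat.card_zpowers]
    apply Nat.le_of_dvd (by norm_num)
    apply orderOf_dvd_of_pow_eq_one
    rw [pow_two]; exact h.sqB1
  have h2 := card_sup_zpowers_le (zpowers (cB1 Y S)) (cB2 Y S) 2 (by norm_num)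
    (by rw [pow_two, h.sqB2]; exact Subgroup.one_mem _) (by
      intro k hk
      have hk' : k ∈ Δ Y S := (le_sup_left : _ ≤ Δ Y S) hk
      -- `cB2` commutes with `k`
      have hc : cB2 Y S * k = k * cB2 Y S := by
        have hcen : zpowers (cB1 Y S) ≤ centralizer {cB2 Y S} := by
          rw [zpowers_le, Subgroup.mem_centralizer_iff]
          intro g hg
          rw [Set.mem_singleton_iff.mp hg]
          -- `cB2 * cB1 = cB1 * cB2` as `cB1` commutes with `Y` and all conjugates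
          unfold cB2
          have e1 := h.cYB1
          have e2 := commute_cj h.cYB1 h.cSB1 2
          simp only [commutatorElement_def]
          have e1' : Y⁻¹ * cB1 Y S = cB1 Y S * Y⁻¹ := by
            calc Y⁻¹ * cB1 Y S = Y⁻¹ * (cB1 Y S * Y) * Y⁻¹ := by group
              _ = Y⁻¹ * (Y * cB1 Y S) * Y⁻¹ := by rw [e1]
              _ = cB1 Y S * Y⁻¹ := by group
          have e2' : (cj Y S 2)⁻¹ * cB1 Y S = cB1 Y S * (cj Y S 2)⁻¹ := by
            calc (cj Y S 2)⁻¹ * cB1 Y S = (cj Y S 2)⁻¹ * (cB1 Y S * cj Y S 2) * (cj Y S 2)⁻¹ := by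
                  group
              _ = (cj Y S 2)⁻¹ * (cj Y S 2 * cB1 Y S) * (cj Y S 2)⁻¹ := by rw [e2]
              _ = cB1 Y S * (cj Y S 2)⁻¹ := by group
          calc Y * cj Y S 2 * Y⁻¹ * (cj Y S 2)⁻¹ * cB1 Y S
              = Y * cj Y S 2 * Y⁻¹ * ((cj Y S 2)⁻¹ * cB1 Y S) := by group
            _ = Y * cj Y S 2 * (Y⁻¹ * cB1 Y S) * (cj Y S 2)⁻¹ := by rw [e2']; group
            _ = Y * (cj Y S 2 * cB1 Y S) * Y⁻¹ * (cj Y S 2)⁻¹ := by rw [e1']; group
            _ = (Y * cB1 Y S) * cj Y S 2 * Y⁻¹ * (cj Y S 2)⁻¹ := by rw [e2]; group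
            _ = cB1 Y S * (Y * cj Y S 2 * Y⁻¹ * (cj Y S 2)⁻¹) := by rw [e1]; group
        have := hcen hk
        rw [Subgroup.mem_centralizer_iff] at this
        exact this _ rfl
      rw [hc, mul_assoc, mul_inv_cancel, mul_one]
      exact hk)
  calc Nat.card (Δ Y S) ≤ 2 * Nat.card (zpowers (cB1 Y S)) := h2
    _ ≤ 2 * 2 := Nat.mul_le_mul_left _ h1

end Rel

end Cfsg.Agent.Lib.Helper6.Ext320
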