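import Mathlib
import Cfsg.Agent.Lib.Helper6.Ext320B

set_option autoImplicit false

/-! The order bound. -/

namespace Cfsg.Agent.Lib.Helper6.Ext320

open Subgroup
open scoped commutatorElement

variable {H : Type*} [Group H] {Y S : H}

namespace Rel

/-- the chain of subgroups -/
def chain (Y S : H) : ℕ → Subgroup H
  | 0 => Δ Y S
  | (k + 1) => chain Y S k ⊔ zpowers (cj Y S k)

theorem chain_succ (k : ℕ) : chain Y S (k + 1) = chain Y S k ⊔ zpowers (cj Y S k) := rfl

theorem chain_mono {k l : ℕ} (hkl : k ≤ l) : chain Y S k ≤ chain Y S l := by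
  induction hkl with
  | refl => exact le_rfl
  | step _ ih => exact ih.trans le_sup_left

theorem Δ_le_chain (k : ℕ) : Δ Y S ≤ chain Y S k := chain_mono (Nat.zero_le k)

theorem cj_mem_chain {i k : ℕ} (hik : i < k) : cj Y S i ∈ chain Y S k := by
  have h1 : cj Y S i ∈ chain Y S (i + 1) := (le_sup_right : _ ≤ chain Y S (i + 1)) (mem_zpowers _)
  exact chain_mono hik h1

/-- elements of `Δ` commute with the conjugates -/
theorem Δ_commute_cj (h : Rel Y S) {d : H} (hd : d ∈ Δ Y S) (m : ℕ) :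
    cj Y S m * d = d * cj Y S m :=
  commute_cj (h.Δ_commute hd).1 (h.Δ_commute hd).2 m

/-- the conjugates normalize the chain -/
theorem cj_normalizes (h : Rel Y S) (m k : ℕ) :
    ∀ n ∈ chain Y S k, cj Y S m * n * (cj Y S m)⁻¹ ∈ chain Y S k := by
  induction k with
  | zero =>
    intro n hn
    have hn' : n ∈ Δ Y S := hn
    rw [h.Δ_commute_cj hn' m, mul_assoc, mul_inv_cancel, mul_one]
    exact hn
  | succ k ih =>
    have hle : chain Y S (k + 1) ≤
        (chain Y S (k + 1)).comap (MulAut.conj (cj Y S m)).toMonoidHom := by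
      rw [chain_succ]
      apply sup_le
      · intro n hn
        rw [Subgroup.mem_comap]
        exact (le_sup_left : _ ≤ chain Y S k ⊔ zpowers (cj Y S k)) (ih n hn)
      · rw [zpowers_le, Subgroup.mem_comap]
        show cj Y S m * cj Y S k * (cj Y S m)⁻¹ ∈ _
        have e : cj Y S m * cj Y S k * (cj Y S m)⁻¹ = ⁅cj Y S m, cj Y S k⁆ * cj Y S k := by
          simp only [commutatorElement_def]; group
        rw [e]
        apply Subgroup.mul_mem
        · exact (le_sup_left : _ ≤ chain Y S k ⊔ zpowers (cj Y S k))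
            (Δ_le_chain k (h.comm_cj_mem m k))
        · exact (le_sup_right : _ ≤ chain Y S k ⊔ zpowers (cj Y S k)) (mem_zpowers _)
    intro n hn
    exact hle hn

theorem cj_sq (h : Rel Y S) (k : ℕ) : cj Y S k ^ 2 ∈ Δ Y S := by
  have e : cj Y S k ^ 2 = S ^ k * (Y * Y) * (S ^ k)⁻¹ := by
    simp only [cj, pow_two]; group
  have hm : cB1 Y S * cB2 Y S ∈ Δ Y S := Subgroup.mul_mem _ cB1_mem cB2_mem
  rw [e, h.ysq, conj_pow_fix (h.Δ_commute hm).2]
  exact hm

theorem card_chain_le [Finite H] (h : Rel Y S) (k : ℕ) : Nat.card (chain Y S k) ≤ 2 ^ k * 4 := by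
  induction k with
  | zero =>
    have := h.card_Δ_le
    show Nat.card (Δ Y S) ≤ 2 ^ 0 * 4
    simpa using this
  | succ k ih =>
    rw [chain_succ]
    have h1 := card_sup_zpowers_le (chain Y S k) (cj Y S k) 2 (by norm_num)
      (Δ_le_chain k (h.cj_sq k)) (h.cj_normalizes k k)
    calc _ ≤ 2 * Nat.card (chain Y S k) := h1
      _ ≤ 2 * (2 ^ k * 4) := Nat.mul_le_mul_left _ ih
      _ = 2 ^ (k + 1) * 4 := by ring

theorem cj_four_mem (h : Rel Y S) : cj Y S 4 ∈ chain Y S 4 := by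
  have h1 := h.norm
  have h2 : cj Y S 4 = (cj Y S 0 * cj Y S 1 * cj Y S 2 * cj Y S 3)⁻¹ :=
    eq_inv_of_mul_eq_one_right h1
  rw [h2]
  apply Subgroup.inv_mem
  exact Subgroup.mul_mem _ (Subgroup.mul_mem _ (Subgroup.mul_mem _ (cj_mem_chain (by norm_num))
    (cj_mem_chain (by norm_num))) (cj_mem_chain (by norm_num))) (cj_mem_chain (by norm_num))

/-- `S` normalizes the top of the chain -/
theorem S_normalizes (h : Rel Y S) : ∀ n ∈ chain Y S 4, S * n * S⁻¹ ∈ chain Y S 4 := by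
  have key : ∀ k ≤ 4, chain Y S k ≤ (chain Y S 4).comap (MulAut.conj S).toMonoidHom := by
    intro k
    induction k with
    | zero =>
      intro _ n hn
      rw [Subgroup.mem_comap]
      show S * n * S⁻¹ ∈ _
      have hn' : n ∈ Δ Y S := hn
      rw [(h.Δ_commute hn').2, mul_assoc, mul_inv_cancel, mul_one]
      exact Δ_le_chain 4 hn'
    | succ k ih =>
      intro hk
      rw [chain_succ]
      apply sup_le (ih (by omega))
      rw [zpowers_le, Subgroup.mem_comap]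
      show S * cj Y S k * S⁻¹ ∈ _
      rw [← cj_succ]
      rcases Nat.lt_or_ge (k + 1) 4 with h4 | h4
      · exact cj_mem_chain h4
      · have : k + 1 = 4 := by omega
        rw [this]; exact h.cj_four_mem
  intro n hn
  exact key 4 le_rfl hn

/-- **the order bound** -/
theorem card_closure_le [Finite H] (h : Rel Y S) : Nat.card (closure {Y, S}) ≤ 320 := by
  have h1 := card_sup_zpowers_le (chain Y S 4) S 5 (by norm_num)
    (by rw [h.s5]; exact Subgroup.one_mem _) h.S_normalizes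
  have h2 := h.card_chain_le 4
  have h3 : closure {Y, S} ≤ chain Y S 4 ⊔ zpowers S := by
    rw [closure_le]
    intro g hg
    rcases hg with hg | hg
    · rw [hg]
      apply (le_sup_left : chain Y S 4 ≤ _)
      have := cj_mem_chain (Y := Y) (S := S) (i := 0) (k := 4) (by norm_num)
      rwa [cj_zero] at this
    · have hg' : g = S := hg
      rw [hg']
      exact (le_sup_right : _ ≤ chain Y S 4 ⊔ zpowers S) (mem_zpowers _)
  calc Nat.card (closure {Y, S}) ≤ Nat.card ↥(chain Y S 4 ⊔ zpowers S) := Subgroup.card_le_of_le h3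
    _ ≤ 5 * Nat.card (chain Y S 4) := h1
    _ ≤ 5 * (2 ^ 4 * 4) := Nat.mul_le_mul_left _ h2
    _ = 320 := by norm_num

end Rel

/-- the relations hold in a product when they hold in both factors -/
theorem Rel.prod {H₁ H₂ : Type*} [Group H₁] [Group H₂] {y₁ s₁ : H₁} {y₂ s₂ : H₂}
    (h₁ : Rel y₁ s₁) (h₂ : Rel y₂ s₂) : Rel ((y₁, y₂) : H₁ × H₂) (s₁, s₂) := by
  have hcj : ∀ i, cj ((y₁, y₂) : H₁ × H₂) (s₁, s₂) i = (cj y₁ s₁ i, cj y₂ s₂ i) := by
    intro i
    simp [cj]
  have hB1 : cB1 ((y₁, y₂) : H₁ × H₂) (s₁, s₂) = (cB1 y₁ s₁, cB1 y₂ s₂) := by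
    simp [cB1, hcj, commutatorElement_def]
  have hB2 : cB2 ((y₁, y₂) : H₁ × H₂) (s₁, s₂) = (cB2 y₁ s₁, cB2 y₂ s₂) := by
    simp [cB2, hcj, commutatorElement_def]
  constructor
  · simp [h₁.s5, h₂.s5]
  · rw [hB1]; simp only [Prod.mk_mul_mk, h₁.cYB1, h₂.cYB1]
  · rw [hB1]; simp only [Prod.mk_mul_mk, h₁.cSB1, h₂.cSB1]
  · rw [hB2]; simp only [Prod.mk_mul_mk, h₁.cYB2, h₂.cYB2]
  · rw [hB2]; simp only [Prod.mk_mul_mk, h₁.cSB2, h₂.cSB2]
  · rw [hB1]; simp only [Prod.mk_mul_mk, h₁.sqB1, h₂.sqB1]; rfl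
  · rw [hB2]; simp only [Prod.mk_mul_mk, h₁.sqB2, h₂.sqB2]; rfl
  · rw [hB1, hB2]; simp only [Prod.mk_mul_mk, h₁.ysq, h₂.ysq]
  · simp only [hcj, Prod.mk_mul_mk, h₁.norm, h₂.norm]; rfl

/-- **uniqueness**: two groups of order `320` generated by elements satisfying the relations
are isomorphic -/
theorem nonempty_mulEquiv {G₁ G₂ : Type*} [Group G₁] [Group G₂] [Finite G₁] [Finite G₂]
    {y₁ s₁ : G₁} {y₂ s₂ : G₂} (h₁ : Rel y₁ s₁) (h₂ : Rel y₂ s₂)
    (hc₁ : Nat.card G₁ = 320) (hc₂ : Nat.card G₂ = 320)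
    (hg₁ : closure {y₁, s₁} = ⊤) (hg₂ : closure {y₂, s₂} = ⊤) : Nonempty (G₁ ≃* G₂) := by
  let D : Subgroup (G₁ × G₂) := closure {(y₁, y₂), (s₁, s₂)}
  have hD : Nat.card D ≤ 320 := (h₁.prod h₂).card_closure_le
  have hp1 : D.map (MonoidHom.fst G₁ G₂) = ⊤ := by
    rw [MonoidHom.map_closure, ← hg₁]
    congr 1
    ext g
    simp [Set.image_insert_eq]
  have hp2 : D.map (MonoidHom.snd G₁ G₂) = ⊤ := by
    rw [MonoidHom.map_closure, ← hg₂]
    congr 1
    ext g
    simp [Set.image_insert_eq]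
  let f₁ : D →* G₁ := (MonoidHom.fst G₁ G₂).comp D.subtype
  let f₂ : D →* G₂ := (MonoidHom.snd G₁ G₂).comp D.subtype
  have hs₁ : Function.Surjective f₁ := by
    intro g
    have : g ∈ D.map (MonoidHom.fst G₁ G₂) := hp1 ▸ Subgroup.mem_top g
    obtain ⟨d, hd, rfl⟩ := this
    exact ⟨⟨d, hd⟩, rfl⟩
  have hs₂ : Function.Surjective f₂ := by
    intro g
    have : g ∈ D.map (MonoidHom.snd G₁ G₂) := hp2 ▸ Subgroup.mem_top g
    obtain ⟨d, hd, rfl⟩ := this
    exact ⟨⟨d, hd⟩, rfl⟩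
  have hb₁ : Function.Bijective f₁ :=
    (Function.Surjective.bijective_of_nat_card_le hs₁ (by rw [hc₁]; exact hD))
  have hb₂ : Function.Bijective f₂ :=
    (Function.Surjective.bijective_of_nat_card_le hs₂ (by rw [hc₂]; exact hD))
  exact ⟨(MulEquiv.ofBijective f₁ hb₁).symm.trans (MulEquiv.ofBijective f₂ hb₂)⟩

end Cfsg.Agent.Lib.Helper6.Ext320
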