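import Mathlib
import Cfsg.Agent.Lib.Helper1.Coprime

set_option autoImplicit false

/-! Fixed-point-free action forced by a large derived subgroup; counting. -/

namespace Cfsg.Agent.Lib.Helper6.Ext320

open Subgroup
open scoped commutatorElement

/-- a group generated by pairwise commuting elements is commutative -/
theorem comm_of_closure_eq_top {G : Type*} [Group G] {k : Set G} (hk : closure k = ⊤)
    (hcomm : ∀ x ∈ k, ∀ y ∈ k, x * y = y * x) (a b : G) : a * b = b * a := by
  have h := Subgroup.isMulCommutative_closure hcomm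
  have ha : a ∈ closure k := hk ▸ Subgroup.mem_top a
  have hb : b ∈ closure k := hk ▸ Subgroup.mem_top b
  have := h.is_comm.comm (⟨a, ha⟩ : closure k) ⟨b, hb⟩
  exact congrArg Subtype.val this

/-- invariant subgroups on which conjugation by an element of prime order `p` has no fixed points
have order `1` modulo `p` -/
theorem card_modEq_one_of_fpf_conj {Q : Type*} [Group Q] [Finite Q] (s : Q) (p : ℕ)
    [Fact p.Prime] (hs : s ^ p = 1) (W : Subgroup Q) (hW : ∀ w ∈ W, s * w * s⁻¹ ∈ W)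
    (hfix : ∀ w ∈ W, s * w * s⁻¹ = w → w = 1) : Nat.card W ≡ 1 [MOD p] := by
  classical
  have : Fintype W := Fintype.ofFinite W
  let f : Function.End W := fun w => ⟨s * w * s⁻¹, hW w w.2⟩
  have hpow : ∀ (k : ℕ) (w : W), (((f ^ k) w : W) : Q) = s ^ k * w * (s ^ k)⁻¹ := by
    intro k
    induction k with
    | zero =>
      intro w
      rw [pow_zero]
      show (w : Q) = _
      simp
    | succ k ih =>
      intro w
      rw [pow_succ']
      show s * ((f ^ k) w : Q) * s⁻¹ = _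
      rw [ih, pow_succ']
      group
  have hf : f ^ p ^ 1 = 1 := by
    funext w
    apply Subtype.ext
    rw [pow_one, hpow, hs]
    show _ = (w : Q)
    simp
  have h1 := Equiv.Perm.card_fixedPoints_modEq (f := f) (p := p) (n := 1) hf
  have h2 : Fintype.card (Function.fixedPoints f) = 1 := by
    rw [Fintype.card_eq_one_iff]
    refine ⟨⟨1, ?_⟩, ?_⟩
    · show f 1 = 1
      apply Subtype.ext
      show s * ((1 : W) : Q) * s⁻¹ = ((1 : W) : Q)
      simp
    · rintro ⟨w, hw⟩
      apply Subtype.ext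
      apply Subtype.ext
      have h3 : f w = w := hw
      have h4 : s * (w : Q) * s⁻¹ = w := congrArg Subtype.val h3
      show (w : Q) = 1
      exact hfix _ w.2 h4
  rw [Nat.card_eq_fintype_card]
  rw [h2] at h1
  exact h1

/-- conjugation by an element of prime order `p` fixes every element of an invariant subgroup
of order less than `p` -/
theorem conj_fixed_of_card_lt {Q : Type*} [Group Q] [Finite Q] (s : Q) (p : ℕ)
    [Fact p.Prime] (hs : s ^ p = 1) (W : Subgroup Q) (hW : ∀ w ∈ W, s * w * s⁻¹ ∈ W)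
    (hlt : Nat.card W < p) : ∀ w ∈ W, s * w * s⁻¹ = w := by
  classical
  have : Fintype W := Fintype.ofFinite W
  let f : Function.End W := fun w => ⟨s * w * s⁻¹, hW w w.2⟩
  have hpow : ∀ (k : ℕ) (w : W), (((f ^ k) w : W) : Q) = s ^ k * w * (s ^ k)⁻¹ := by
    intro k
    induction k with
    | zero =>
      intro w
      rw [pow_zero]
      show (w : Q) = _
      simp
    | succ k ih =>
      intro w
      rw [pow_succ']
      show s * ((f ^ k) w : Q) * s⁻¹ = _
      rw [ih, pow_succ']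
      group
  have hf : f ^ p ^ 1 = 1 := by
    funext w
    apply Subtype.ext
    rw [pow_one, hpow, hs]
    show _ = (w : Q)
    simp
  have h1 := Equiv.Perm.card_fixedPoints_modEq (f := f) (p := p) (n := 1) hf
  rw [Nat.card_eq_fintype_card] at hlt
  have h2 : Fintype.card (Function.fixedPoints f) ≤ Fintype.card W :=
    Fintype.card_subtype_le _
  have h3 : Fintype.card (Function.fixedPoints f) = Fintype.card W := by
    unfold Nat.ModEq at h1
    rw [Nat.mod_eq_of_lt hlt, Nat.mod_eq_of_lt (lt_of_le_of_lt h2 hlt)] at h1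
    exact h1.symm
  intro w hw
  by_contra hne
  have h4 : Fintype.card (Function.fixedPoints f) < Fintype.card W := by
    apply Fintype.card_subtype_lt (x := (⟨w, hw⟩ : W))
    intro hfix
    apply hne
    have : f ⟨w, hw⟩ = ⟨w, hw⟩ := hfix
    exact congrArg Subtype.val this
  omega

/-- if `Q = A ⟨s⟩` with `A` abelian normal and `A ≤ Q'`, then `s` has no fixed points on `A` -/
theorem fpf_of_le_commutator {Q : Type*} [Group Q] [Finite Q] (A : Subgroup Q) [hAn : A.Normal]
    (hA : ∀ a ∈ A, ∀ b ∈ A, a * b = b * a) (s : Q) (hQ : A ⊔ zpowers s = ⊤)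
    (hAc : A ≤ commutator Q) : ∀ a ∈ A, s * a * s⁻¹ = a → a = 1 := by
  have hconj : ∀ a ∈ A, s * a * s⁻¹ ∈ A := fun a ha => hAn.conj_mem a ha s
  -- the image of `a ↦ a⁻¹ * (s a s⁻¹)`
  let I : Subgroup Q :=
    { carrier := {x | ∃ a ∈ A, x = a⁻¹ * (s * a * s⁻¹)}
      one_mem' := ⟨1, A.one_mem, by simp⟩
      mul_mem' := by
        rintro x y ⟨a, ha, rfl⟩ ⟨b, hb, rfl⟩
        refine ⟨a * b, A.mul_mem ha hb, ?_⟩
        have h1 := hA _ (hconj a ha) _ (A.inv_mem hb)
        have h2 := hA _ (A.inv_mem ha) _ (A.inv_mem hb)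
        calc a⁻¹ * (s * a * s⁻¹) * (b⁻¹ * (s * b * s⁻¹))
            = a⁻¹ * ((s * a * s⁻¹) * b⁻¹) * (s * b * s⁻¹) := by group
          _ = a⁻¹ * (b⁻¹ * (s * a * s⁻¹)) * (s * b * s⁻¹) := by rw [h1]
          _ = (a⁻¹ * b⁻¹) * (s * (a * b) * s⁻¹) := by group
          _ = (b⁻¹ * a⁻¹) * (s * (a * b) * s⁻¹) := by rw [h2]
          _ = (a * b)⁻¹ * (s * (a * b) * s⁻¹) := by group
      inv_mem' := by
        rintro x ⟨a, ha, rfl⟩
        refine ⟨a⁻¹, A.inv_mem ha, ?_⟩
        have h1 := hA _ (hconj _ (A.inv_mem ha)) _ ha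
        calc (a⁻¹ * (s * a * s⁻¹))⁻¹ = (s * a⁻¹ * s⁻¹) * a := by group
          _ = a * (s * a⁻¹ * s⁻¹) := h1
          _ = (a⁻¹)⁻¹ * (s * a⁻¹ * s⁻¹) := by group }
  have hI : ∀ x, x ∈ I ↔ ∃ a ∈ A, x = a⁻¹ * (s * a * s⁻¹) := fun _ => Iff.rfl
  have hIA : I ≤ A := by
    rintro x ⟨a, ha, rfl⟩
    exact A.mul_mem (A.inv_mem ha) (hconj a ha)
  -- `I` is normal
  have hnorm : normalizer (I : Set Q) = ⊤ := by
    rw [eq_top_iff, ← hQ]
    apply sup_le
    · intro a ha
      apply Cfsg.Agent.Lib.Helper1.mem_normalizer_of_forall_conj_mem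
      intro x hx
      have := hA a ha x (hIA hx)
      rw [this, mul_assoc, mul_inv_cancel, mul_one]
      exact hx
    · rw [zpowers_le]
      apply Cfsg.Agent.Lib.Helper1.mem_normalizer_of_forall_conj_mem
      rintro x ⟨a, ha, rfl⟩
      refine ⟨s * a * s⁻¹, hconj a ha, ?_⟩
      group
  have hIn : I.Normal := Subgroup.normalizer_eq_top_iff.mp hnorm
  -- the quotient is commutative
  have hgen : closure (((QuotientGroup.mk' I) '' ((A : Set Q) ∪ {s})) : Set (Q ⧸ I)) = ⊤ := by
    rw [← MonoidHom.map_closure, Subgroup.closure_union, Subgroup.closure_eq,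
      ← Subgroup.zpowers_eq_closure, hQ, ← MonoidHom.range_eq_map]
    exact MonoidHom.range_eq_top.mpr (QuotientGroup.mk'_surjective I)
  have hsA : ∀ a ∈ A, (QuotientGroup.mk' I a) * (QuotientGroup.mk' I s) =
      (QuotientGroup.mk' I s) * (QuotientGroup.mk' I a) := by
    intro a ha
    rw [← map_mul, ← map_mul]
    apply (QuotientGroup.eq).mpr
    -- `(a s)⁻¹ (s a) = s⁻¹ (a⁻¹ s a s⁻¹) s`
    have h1 : a⁻¹ * (s * a * s⁻¹) ∈ I := ⟨a, ha, rfl⟩
    have h2 := hIn.conj_mem _ h1 s⁻¹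
    have e : (a * s)⁻¹ * (s * a) = s⁻¹ * (a⁻¹ * (s * a * s⁻¹)) * s⁻¹⁻¹ := by group
    rw [e]; exact h2
  have hqc := comm_of_closure_eq_top hgen (by
    rintro _ ⟨x, hx, rfl⟩ _ ⟨y, hy, rfl⟩
    rcases hx with hx | hx <;> rcases hy with hy | hy
    · rw [← map_mul, ← map_mul, hA x hx y hy]
    · rw [Set.mem_singleton_iff.mp hy]; exact hsA x hx
    · rw [Set.mem_singleton_iff.mp hx]; exact (hsA y hy).symm
    · rw [Set.mem_singleton_iff.mp hx, Set.mem_singleton_iff.mp hy])
  have hcI : commutator Q ≤ I := by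
    rw [commutator_def, Subgroup.commutator_le]
    intro g₁ _ g₂ _
    rw [← QuotientGroup.eq_one_iff, commutatorElement_def]
    show QuotientGroup.mk' I (g₁ * g₂ * g₁⁻¹ * g₂⁻¹) = 1
    rw [map_mul, map_mul, map_mul, map_inv, map_inv, hqc (QuotientGroup.mk' I g₁)]
    group
  have hAI : A ≤ I := hAc.trans hcI
  -- the map is onto, hence one-to-one
  let L : A → A := fun a => ⟨(a : Q)⁻¹ * (s * a * s⁻¹), A.mul_mem (A.inv_mem a.2) (hconj a a.2)⟩
  have hLs : Function.Surjective L := by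
    intro x
    obtain ⟨a, ha, hx⟩ := hAI x.2
    exact ⟨⟨a, ha⟩, Subtype.ext hx.symm⟩
  have hLi := Finite.injective_iff_surjective.mpr hLs
  intro a ha hfix
  have h1 : L ⟨a, ha⟩ = L 1 := by
    apply Subtype.ext
    show a⁻¹ * (s * a * s⁻¹) = ((1 : A) : Q)⁻¹ * (s * ((1 : A) : Q) * s⁻¹)
    rw [hfix]
    simp
  have := hLi h1
  exact congrArg Subtype.val this

end Cfsg.Agent.Lib.Helper6.Ext320
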