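import Mathlib
import Cfsg.Agent.Lib.Helper6.Ext320D

set_option autoImplicit false

/-! Groups of order `320` with derived subgroup of order `64` whose centre is a four-group:
first consequences. -/

namespace Cfsg.Agent.Lib.Helper6.Ext320

open Subgroup
open scoped commutatorElement

variable {G : Type*} [Group G]

/-- the data of the first stage -/
structure Stage1 (s : G) (Z : Subgroup G) : Prop where
  card : Nat.card G = 320
  cardP : Nat.card (commutator G) = 64
  s5 : s ^ 5 = 1
  sup : commutator G ⊔ zpowers s = ⊤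
  Z_le : Z ≤ commutator G
  cardZ : Nat.card Z = 4
  sqZ : ∀ z ∈ Z, z * z = 1
  central : Z ≤ center G

theorem exists_stage1 [Finite G] (hG : Nat.card G = 320) (hD : Nat.card (commutator G) = 64)
    (hZ : IsKleinFour (center (commutator G))) : ∃ (s : G) (Z : Subgroup G), Stage1 s Z := by
  have : Fact (Nat.Prime 5) := ⟨by norm_num⟩
  obtain ⟨s, hs⟩ := exists_prime_orderOf_dvd_card' (G := G) 5 (by rw [hG]; norm_num)
  have hs5 : s ^ 5 = 1 := by rw [← hs]; exact pow_orderOf_eq_one s
  set P := commutator G with hP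
  -- `P ⊔ ⟨s⟩ = ⊤`
  have hsup : P ⊔ zpowers s = ⊤ := by
    apply Subgroup.eq_top_of_card_eq
    have h1 : 64 ∣ Nat.card ↥(P ⊔ zpowers s) := hD ▸ Subgroup.card_dvd_of_le le_sup_left
    have h2 : 5 ∣ Nat.card ↥(P ⊔ zpowers s) := by
      have := Subgroup.card_dvd_of_le (le_sup_right : zpowers s ≤ P ⊔ zpowers s)
      rwa [Nat.card_zpowers, hs] at this
    have h3 : Nat.card ↥(P ⊔ zpowers s) ∣ 320 := hG ▸ Subgroup.card_subgroup_dvd_card _
    have h4 : 320 ∣ Nat.card ↥(P ⊔ zpowers s) := by
      have : Nat.Coprime 64 5 := by norm_num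
      have := Nat.Coprime.mul_dvd_of_dvd_of_dvd this h1 h2
      simpa using this
    rw [hG]
    exact Nat.dvd_antisymm h3 h4
  let Z : Subgroup G := (center ↥P).map P.subtype
  have hZle : Z ≤ P := by
    rintro _ ⟨z, -, rfl⟩
    exact z.2
  have hcardZ : Nat.card Z = 4 := by
    rw [Subgroup.card_map_of_injective (Subgroup.subtype_injective P)]
    exact hZ.card_four
  have hsqZ : ∀ z ∈ Z, z * z = 1 := by
    rintro _ ⟨z, hz, rfl⟩
    have h1 : z ^ 2 = 1 := by
      have := Monoid.pow_exponent_eq_one (G := center ↥P) ⟨z, hz⟩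
      rw [hZ.exponent_two] at this
      exact congrArg Subtype.val this
    have h2 : ((z ^ 2 : ↥P) : G) = 1 := by rw [h1]; rfl
    simpa [pow_two] using h2
  have hZn : Z.Normal := ConjAct.normal_of_characteristic_of_normal
  -- `Z` commutes with `P`
  have hZP : ∀ z ∈ Z, ∀ p ∈ P, p * z = z * p := by
    rintro _ ⟨z, hz, rfl⟩ p hp
    have := (Subgroup.mem_center_iff.mp hz) ⟨p, hp⟩
    exact congrArg Subtype.val this
  -- `s` centralizes `Z`
  have hZs : ∀ z ∈ Z, s * z * s⁻¹ = z :=
    conj_fixed_of_card_lt s 5 hs5 Z (fun z hz => hZn.conj_mem z hz s) (by rw [hcardZ]; norm_num)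
  have hcentral : Z ≤ center G := by
    intro z hz
    have hcen : P ⊔ zpowers s ≤ centralizer {z} := by
      apply sup_le
      · intro p hp
        rw [Subgroup.mem_centralizer_singleton_iff]
        exact hZP z hz p hp
      · rw [zpowers_le, Subgroup.mem_centralizer_singleton_iff]
        have := hZs z hz
        calc s * z = s * z * s⁻¹ * s := by group
          _ = z * s := by rw [this]
    rw [hsup] at hcen
    rw [Subgroup.mem_center_iff]
    intro g
    have := hcen (Subgroup.mem_top g)
    rw [Subgroup.mem_centralizer_singleton_iff] at this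
    exact this
  exact ⟨s, Z, hG, hD, hs5, hsup, hZle, hcardZ, hsqZ, hcentral⟩

end Cfsg.Agent.Lib.Helper6.Ext320
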