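import Mathlib
import Cfsg.Agent.Lib.Helper6.Ext320E
import Cfsg.Agent.Lib.Helper20.NormalRankTwo

set_option autoImplicit false

/-! Groups of order `320` with derived subgroup of order `64` whose centre is a four-group:
the structure of the derived subgroup. -/

namespace Cfsg.Agent.Lib.Helper6.Ext320

open Subgroup
open scoped commutatorElement

variable {G : Type*} [Group G]

theorem card_cases_16 {n : ℕ} (h1 : n ∣ 16) (h2 : n ≡ 1 [MOD 5]) : n = 1 ∨ n = 16 := by
  have hle : n ≤ 16 := Nat.le_of_dvd (by norm_num) h1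
  unfold Nat.ModEq at h2
  interval_cases n <;> simp_all

theorem card_cases_64 {n : ℕ} (h1 : n ∣ 64) (h2 : n ≡ 1 [MOD 5]) : n = 1 ∨ n = 16 := by
  have hle : n ≤ 64 := Nat.le_of_dvd (by norm_num) h1
  unfold Nat.ModEq at h2
  interval_cases n <;> simp_all

theorem card_cases_4 {n : ℕ} (h1 : n ∣ 4) (h2 : n ≡ 1 [MOD 5]) : n = 1 := by
  have hle : n ≤ 4 := Nat.le_of_dvd (by norm_num) h1
  unfold Nat.ModEq at h2
  interval_cases n <;> simp_all

/-- the data of the second stage -/
structure Stage2 (s : G) (Z : Subgroup G) : Prop extends Stage1 s Z where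
  comm_eq : ⁅commutator G, commutator G⁆ = Z
  sq_mem : ∀ p ∈ commutator G, p * p ∈ Z
  fpf : ∀ p ∈ commutator G, p⁻¹ * (s * p * s⁻¹) ∈ Z → p ∈ Z
  between : ∀ W : Subgroup G, Z ≤ W → W ≤ commutator G → (∀ w ∈ W, s * w * s⁻¹ ∈ W) →
    W = Z ∨ W = commutator G

theorem Stage1.stage2 [Finite G] {s : G} {Z : Subgroup G} (h : Stage1 s Z) : Stage2 s Z := by
  have : Fact (Nat.Prime 5) := ⟨by norm_num⟩
  have : Fact (Nat.Prime 2) := ⟨by norm_num⟩
  set P := commutator G with hP
  let P₁ : Subgroup G := ⁅P, P⁆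
  have hP₁le : P₁ ≤ P := Subgroup.commutator_le_left P P
  let π : G →* G ⧸ P₁ := QuotientGroup.mk' P₁
  have hπs : Function.Surjective π := QuotientGroup.mk'_surjective P₁
  have hker : π.ker = P₁ := QuotientGroup.ker_mk' P₁
  let A : Subgroup (G ⧸ P₁) := P.map π
  have hAn : A.Normal := Subgroup.Normal.map inferInstance π hπs
  let t : G ⧸ P₁ := π s
  have ht5 : t ^ 5 = 1 := by rw [← map_pow, h.s5, map_one]
  have hA : ∀ a ∈ A, ∀ b ∈ A, a * b = b * a := by
    rintro _ ⟨p, hp, rfl⟩ _ ⟨p', hp', rfl⟩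
    rw [← map_mul, ← map_mul]
    apply (QuotientGroup.eq).mpr
    have e : (p * p')⁻¹ * (p' * p) = ⁅p'⁻¹, p⁻¹⁆ := by
      simp only [commutatorElement_def]; group
    rw [e]
    exact Subgroup.commutator_mem_commutator (P.inv_mem hp') (P.inv_mem hp)
  have hsupQ : A ⊔ zpowers t = ⊤ := by
    rw [← MonoidHom.map_zpowers, ← Subgroup.map_sup, h.sup]
    exact Subgroup.map_top_of_surjective π hπs
  have hAc : A ≤ commutator (G ⧸ P₁) := by
    rw [commutator_def]
    have h1 : (⊤ : Subgroup (G ⧸ P₁)) = (⊤ : Subgroup G).map π :=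
      (Subgroup.map_top_of_surjective π hπs).symm
    rw [h1, ← Subgroup.map_commutator, ← commutator_def]
  have hfpfQ := fpf_of_le_commutator A hA t hsupQ hAc
  have hconjA : ∀ a ∈ A, t * a * t⁻¹ ∈ A := fun a ha => hAn.conj_mem a ha t
  -- counting
  have hcnt : ∀ W : Subgroup (G ⧸ P₁), W ≤ A → (∀ w ∈ W, t * w * t⁻¹ ∈ W) →
      Nat.card W ≡ 1 [MOD 5] := fun W hW hinv =>
    card_modEq_one_of_fpf_conj t 5 ht5 W hinv (fun w hw => hfpfQ w (hW hw))
  have hcardA : Nat.card P = Nat.card A * Nat.card P₁ := by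
    have h1 := Cfsg.Agent.Lib.Helper20.card_comap_mk'_eq P₁ A
    have h2 : A.comap π = P := by
      apply Subgroup.comap_map_eq_self
      rw [hker]; exact hP₁le
    rw [← h1]
    exact (congrArg (fun K : Subgroup G => Nat.card K) h2).symm
  have hPp : IsPGroup 2 P := IsPGroup.of_card (n := 6) (by rw [h.cardP]; norm_num)
  have hP₁ne : P₁ ≠ P := by
    intro heq
    have hnil : Group.IsNilpotent P := hPp.isNilpotent
    have hnt : Nontrivial P := by
      apply (Finite.one_lt_card_iff_nontrivial).mp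
      rw [h.cardP]; norm_num
    have hlt := IsSolvable.commutator_lt_top_of_nontrivial (G := P)
    have h1 : (commutator P).map P.subtype = P₁ := Subgroup.map_subtype_commutator P
    apply hlt.ne
    apply Subgroup.map_injective (Subgroup.subtype_injective P)
    rw [h1, heq, ← MonoidHom.range_eq_map, Subgroup.range_subtype]
  have hA16 : Nat.card A = 16 := by
    have h1 := hcnt A le_rfl hconjA
    have h2 : Nat.card A ∣ 64 := by rw [← h.cardP, hcardA]; exact dvd_mul_right _ _
    rcases card_cases_64 h2 h1 with h3 | h3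
    · exfalso
      rw [h3, one_mul] at hcardA
      exact hP₁ne (Subgroup.eq_of_le_of_card_ge hP₁le (by rw [hcardA]))
    · exact h3
  have hP₁4 : Nat.card P₁ = 4 := by
    rw [hA16, h.cardP] at hcardA
    omega
  -- `Z = P₁`
  have hZn : Z.Normal := by
    refine ⟨fun z hz g => ?_⟩
    have := (Subgroup.mem_center_iff.mp (h.central hz)) g
    rw [this, mul_assoc, mul_inv_cancel, mul_one]; exact hz
  have hZP₁ : Z = P₁ := by
    have h1 : Nat.card (Z.map π) = 1 := by
      apply card_cases_4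
      · have := Subgroup.card_dvd_of_surjective (π.subgroupMap Z) (π.subgroupMap_surjective Z)
        rwa [h.cardZ] at this
      · apply hcnt _ (Subgroup.map_mono h.Z_le)
        rintro _ ⟨z, hz, rfl⟩
        refine ⟨s * z * s⁻¹, hZn.conj_mem z hz s, ?_⟩
        simp [t]
    have h2 : Z.map π = ⊥ := Subgroup.card_eq_one.mp h1
    have h3 : Z ≤ P₁ := by
      rw [← hker, ← Subgroup.map_eq_bot_iff]; exact h2
    exact Subgroup.eq_of_le_of_card_ge h3 (by rw [h.cardZ, hP₁4])
  -- exponent two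
  have hAsq : ∀ a ∈ A, a * a = 1 := by
    let W₂ : Subgroup (G ⧸ P₁) :=
      { carrier := {a | a ∈ A ∧ a * a = 1}
        one_mem' := ⟨A.one_mem, by simp⟩
        mul_mem' := by
          rintro a b ⟨ha, ha2⟩ ⟨hb, hb2⟩
          refine ⟨A.mul_mem ha hb, ?_⟩
          calc a * b * (a * b) = a * (b * a) * b := by group
            _ = a * (a * b) * b := by rw [hA b hb a ha]
            _ = (a * a) * (b * b) := by group
            _ = 1 := by rw [ha2, hb2, one_mul]
        inv_mem' := by
          rintro a ⟨ha, ha2⟩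
          refine ⟨A.inv_mem ha, ?_⟩
          have : (a * a)⁻¹ = 1 := by rw [ha2, inv_one]
          rw [← this]; group }
    have hW₂le : W₂ ≤ A := fun a ha => ha.1
    have h1 := hcnt W₂ hW₂le (by
      rintro a ⟨ha, ha2⟩
      refine ⟨hconjA a ha, ?_⟩
      calc t * a * t⁻¹ * (t * a * t⁻¹) = t * (a * a) * t⁻¹ := by group
        _ = 1 := by rw [ha2]; group)
    have h2 : Nat.card W₂ ∣ 16 := hA16 ▸ Subgroup.card_dvd_of_le hW₂le
    have h3 : Nat.card W₂ ≠ 1 := by
      intro h4
      have h5 : (2 : ℕ) ∣ Nat.card A := by rw [hA16]; norm_num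
      obtain ⟨a, ha⟩ := exists_prime_orderOf_dvd_card' 2 h5
      have ha2 : (a : G ⧸ P₁) * a = 1 := by
        have : a ^ 2 = 1 := by rw [← ha]; exact pow_orderOf_eq_one a
        have h6 : ((a ^ 2 : A) : G ⧸ P₁) = 1 := by rw [this]; rfl
        simpa [pow_two] using h6
      have ham : (a : G ⧸ P₁) ∈ W₂ := ⟨a.2, ha2⟩
      have h7 : W₂ = ⊥ := Subgroup.card_eq_one.mp h4
      rw [h7, Subgroup.mem_bot] at ham
      have : a = 1 := Subtype.ext ham
      rw [this, orderOf_one] at ha
      norm_num at ha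
    have h4 : Nat.card W₂ = 16 := by
      rcases card_cases_16 h2 h1 with h5 | h5
      · exact absurd h5 h3
      · exact h5
    have h5 : W₂ = A := Subgroup.eq_of_le_of_card_ge hW₂le (by rw [h4, hA16])
    intro a ha
    have : a ∈ W₂ := h5 ▸ ha
    exact this.2
  refine { h with comm_eq := hZP₁.symm, sq_mem := ?_, fpf := ?_, between := ?_ }
  · intro p hp
    rw [hZP₁, ← hker, MonoidHom.mem_ker, map_mul]
    exact hAsq _ ⟨p, hp, rfl⟩
  · intro p hp hfix
    rw [hZP₁, ← hker, MonoidHom.mem_ker] at hfix ⊢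
    apply hfpfQ _ ⟨p, hp, rfl⟩
    have e : t * π p * t⁻¹ = π p * π (p⁻¹ * (s * p * s⁻¹)) := by
      simp only [t, map_mul, map_inv]; group
    rw [e, hfix, mul_one]
  · intro W hZW hWP hinv
    have h1 := hcnt (W.map π) (Subgroup.map_mono hWP) (by
      rintro _ ⟨w, hw, rfl⟩
      refine ⟨s * w * s⁻¹, hinv w hw, ?_⟩
      simp [t])
    have h2 : Nat.card (W.map π) ∣ 16 := hA16 ▸ Subgroup.card_dvd_of_le (Subgroup.map_mono hWP)
    have hWc : (W.map π).comap π = W := by
      apply Subgroup.comap_map_eq_self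
      rw [hker, ← hZP₁]; exact hZW
    have h3 := Cfsg.Agent.Lib.Helper20.card_comap_mk'_eq P₁ (W.map π)
    have h3' : Nat.card W = Nat.card (W.map π) * Nat.card P₁ := by
      rw [← h3]
      exact (congrArg (fun K : Subgroup G => Nat.card K) hWc).symm
    rcases card_cases_16 h2 h1 with h4 | h4
    · left
      symm
      apply Subgroup.eq_of_le_of_card_ge hZW
      rw [h3', h4, one_mul, hP₁4, h.cardZ]
    · right
      apply Subgroup.eq_of_le_of_card_ge hWP
      rw [h3', h4, hP₁4, h.cardP]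

end Cfsg.Agent.Lib.Helper6.Ext320
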