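import Mathlib
import Cfsg.Agent.Lib.Helper6.Ext320F
import Cfsg.Agent.Lib.Helper6.Ext320C

set_option autoImplicit false

/-! Groups of order `320` with derived subgroup of order `64` whose centre is a four-group:
they satisfy the relations. -/

namespace Cfsg.Agent.Lib.Helper6.Ext320

open Subgroup
open scoped commutatorElement

variable {G : Type*} [Group G]

theorem prod_cj_eq (Y S : G) :
    cj Y S 0 * cj Y S 1 * cj Y S 2 * cj Y S 3 * cj Y S 4 = (Y * S) ^ 5 * (S ^ 5)⁻¹ := by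
  simp only [cj, pow_succ, pow_zero, one_mul]
  group

theorem commutatorElement_mul_central_left {k z b : G} (hz : z ∈ center G) :
    ⁅k * z, b⁆ = ⁅k, b⁆ := by
  rw [Subgroup.mem_center_iff] at hz
  have e : z * b * z⁻¹ = b := by rw [← hz b]; group
  simp only [commutatorElement_def]
  calc k * z * b * (k * z)⁻¹ * b⁻¹ = k * (z * b * z⁻¹) * k⁻¹ * b⁻¹ := by group
    _ = k * b * k⁻¹ * b⁻¹ := by rw [e]

theorem commutatorElement_mul_central {k k' z z' : G} (hz : z ∈ center G) (hz' : z' ∈ center G) :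
    ⁅k * z, k' * z'⁆ = ⁅k, k'⁆ := by
  rw [commutatorElement_mul_central_left hz, ← commutatorElement_inv,
    commutatorElement_mul_central_left hz', commutatorElement_inv]

theorem comm_calc {A : Type*} [CommGroup A] (w c1 c2 : A) (hw : w * w = 1) (h1 : c1 * c1 = 1)
    (h2 : c2 * c2 = 1) :
    ((w * w * c1) * w * (c2 * c1)) * w * (c2 * c2 * c1) = c1 * c2 := by
  rw [hw, h2, one_mul]
  calc c1 * w * (c2 * c1) * w * c1 = (w * w) * (c1 * c1) * c1 * c2 := by ac_rfl
    _ = c1 * c2 := by rw [hw, h1, one_mul, one_mul]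

theorem calc_central (w c1 c2 : G) (hw : w ∈ center G) (h1 : c1 ∈ center G) (h2 : c2 ∈ center G)
    (hww : w * w = 1) (h11 : c1 * c1 = 1) (h22 : c2 * c2 = 1) :
    ((w * w * c1) * w * (c2 * c1)) * w * (c2 * c2 * c1) = c1 * c2 := by
  letI : CommGroup (center G) :=
    { (inferInstance : Group (center G)) with mul_comm := fun a b => mul_comm' a b }
  have := comm_calc (⟨w, hw⟩ : center G) ⟨c1, h1⟩ ⟨c2, h2⟩ (Subtype.ext hww) (Subtype.ext h11)
    (Subtype.ext h22)
  exact congrArg Subtype.val this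

/-- class two with central elementary abelian commutators -/
structure Cl2 (P Z : Subgroup G) : Prop where
  central : Z ≤ center G
  sqZ : ∀ z ∈ Z, z * z = 1
  comm_mem : ∀ p ∈ P, ∀ p' ∈ P, ⁅p, p'⁆ ∈ Z

namespace Cl2

variable {P Z : Subgroup G}

theorem comm (h : Cl2 P Z) {z : G} (hz : z ∈ Z) (g : G) : g * z = z * g :=
  Subgroup.mem_center_iff.mp (h.central hz) g

theorem inv_eq (h : Cl2 P Z) {z : G} (hz : z ∈ Z) : z⁻¹ = z :=
  inv_eq_of_mul_eq_one_left (h.sqZ z hz)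

theorem comm_symm (h : Cl2 P Z) {a b : G} (ha : a ∈ P) (hb : b ∈ P) : ⁅b, a⁆ = ⁅a, b⁆ := by
  rw [← commutatorElement_inv, h.inv_eq (h.comm_mem a ha b hb)]

theorem conj_eq (h : Cl2 P Z) {z : G} (hz : z ∈ Z) (g : G) : g * z * g⁻¹ = z := by
  rw [h.comm hz g, mul_assoc, mul_inv_cancel, mul_one]

theorem sq_mul (h : Cl2 P Z) {a b : G} (ha : a ∈ P) (hb : b ∈ P) :
    (a * b) * (a * b) = (a * a) * (b * b) * ⁅a, b⁆ := by
  have e : b * a = ⁅b, a⁆ * a * b := by
    simp only [commutatorElement_def]; group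
  have hz := h.comm_mem b hb a ha
  calc a * b * (a * b) = a * (b * a) * b := by group
    _ = a * (⁅b, a⁆ * a * b) * b := by rw [← e]
    _ = (a * ⁅b, a⁆) * a * b * b := by group
    _ = (⁅b, a⁆ * a) * a * b * b := by rw [h.comm hz a]
    _ = ⁅b, a⁆ * (a * a * (b * b)) := by group
    _ = (a * a) * (b * b) * ⁅b, a⁆ := (h.comm hz _).symm
    _ = (a * a) * (b * b) * ⁅a, b⁆ := by rw [h.comm_symm ha hb]

theorem comm_mul (h : Cl2 P Z) {a b c : G} (ha : a ∈ P) (hb : b ∈ P) (hc : c ∈ P) :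
    ⁅a * b, c⁆ = ⁅a, c⁆ * ⁅b, c⁆ := by
  have e : ⁅a * b, c⁆ = a * ⁅b, c⁆ * a⁻¹ * ⁅a, c⁆ := by
    simp only [commutatorElement_def]; group
  rw [e, h.conj_eq (h.comm_mem b hb c hc) a, h.comm (h.comm_mem a ha c hc)]

end Cl2

theorem Stage2.cl2 {s : G} {Z : Subgroup G} (h : Stage2 s Z) : Cl2 (commutator G) Z where
  central := h.central
  sqZ := h.sqZ
  comm_mem := by
    intro p hp p' hp'
    rw [← h.comm_eq]
    exact Subgroup.commutator_mem_commutator hp hp'

/-- the relations hold -/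
theorem Stage2.rel_of {s : G} {Z : Subgroup G} (h : Stage2 s Z) {y : G}
    (hyP : y ∈ commutator G) (hnorm : (y * s) ^ 5 = 1) : Rel y s := by
  have hc := h.cl2
  have hPn : (commutator G).Normal := inferInstance
  have hcjP : ∀ i, cj y s i ∈ commutator G := fun i => hPn.conj_mem y hyP (s ^ i)
  have hB1 : cB1 y s ∈ Z := hc.comm_mem y hyP _ (hcjP 1)
  have hB2 : cB2 y s ∈ Z := hc.comm_mem y hyP _ (hcjP 2)
  have hw : y * y ∈ Z := h.sq_mem y hyP
  have hnorm' : cj y s 0 * cj y s 1 * cj y s 2 * cj y s 3 * cj y s 4 = 1 := by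
    rw [prod_cj_eq, hnorm, h.s5, inv_one, mul_one]
  have hsq : ∀ i, cj y s i * cj y s i = y * y := by
    intro i
    have e : cj y s i * cj y s i = s ^ i * (y * y) * (s ^ i)⁻¹ := by
      simp only [cj]; group
    rw [e, hc.conj_eq hw]
  -- the commutators
  have c01 : ⁅cj y s 0, cj y s 1⁆ = cB1 y s := by rw [Rel.cj_zero]; rfl
  have c02 : ⁅cj y s 0, cj y s 2⁆ = cB2 y s := by rw [Rel.cj_zero]; rfl
  have c12 : ⁅cj y s 1, cj y s 2⁆ = cB1 y s := by
    have := Rel.comm_cj_add y s 1 1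
    rw [this]
    exact hc.conj_eq hB1 _
  have c13 : ⁅cj y s 1, cj y s 3⁆ = cB2 y s := by
    have := Rel.comm_cj_add y s 1 2
    rw [this]
    exact hc.conj_eq hB2 _
  have c23 : ⁅cj y s 2, cj y s 3⁆ = cB1 y s := by
    have := Rel.comm_cj_add y s 2 1
    rw [this]
    exact hc.conj_eq hB1 _
  have c03 : ⁅cj y s 0, cj y s 3⁆ = cB2 y s := by
    have h5 : cj y s (3 + 2) = cj y s 0 := by
      simp only [cj, h.s5, pow_zero]
    have := Rel.comm_cj_add y s 3 2
    rw [h5] at this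
    rw [hc.comm_symm (hcjP 0) (hcjP 3)] at this
    rw [this]
    exact hc.conj_eq hB2 _
  have hmulP : ∀ {a b : G}, a ∈ commutator G → b ∈ commutator G → a * b ∈ commutator G :=
    fun ha hb => Subgroup.mul_mem _ ha hb
  -- the square of the product of the first four conjugates
  have hu1 : (cj y s 0 * cj y s 1 * cj y s 2 * cj y s 3) *
      (cj y s 0 * cj y s 1 * cj y s 2 * cj y s 3) = y * y := by
    have e : cj y s 0 * cj y s 1 * cj y s 2 * cj y s 3 = (cj y s 4)⁻¹ :=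
      eq_inv_of_mul_eq_one_left hnorm'
    rw [e, ← mul_inv_rev, hsq, hc.inv_eq hw]
  have hu2 : (cj y s 0 * cj y s 1 * cj y s 2 * cj y s 3) *
      (cj y s 0 * cj y s 1 * cj y s 2 * cj y s 3) =
      ((y * y * (y * y) * cB1 y s) * (y * y) * (cB2 y s * cB1 y s)) * (y * y) *
        (cB2 y s * cB2 y s * cB1 y s) := by
    rw [hc.sq_mul (hmulP (hmulP (hcjP 0) (hcjP 1)) (hcjP 2)) (hcjP 3),
      hc.sq_mul (hmulP (hcjP 0) (hcjP 1)) (hcjP 2), hc.sq_mul (hcjP 0) (hcjP 1),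
      hc.comm_mul (hmulP (hcjP 0) (hcjP 1)) (hcjP 2) (hcjP 3),
      hc.comm_mul (hcjP 0) (hcjP 1) (hcjP 3), hc.comm_mul (hcjP 0) (hcjP 1) (hcjP 2),
      hsq, hsq, hsq, hsq, c01, c02, c12, c13, c23, c03]
  have hysq : y * y = cB1 y s * cB2 y s := by
    rw [← hu1, hu2]
    exact calc_central (y * y) (cB1 y s) (cB2 y s) (h.central hw) (h.central hB1)
      (h.central hB2) (h.sqZ _ hw) (h.sqZ _ hB1) (h.sqZ _ hB2)
  exact
    { s5 := h.s5
      cYB1 := hc.comm hB1 y
      cSB1 := hc.comm hB1 s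
      cYB2 := hc.comm hB2 y
      cSB2 := hc.comm hB2 s
      sqB1 := h.sqZ _ hB1
      sqB2 := h.sqZ _ hB2
      ysq := hysq
      norm := hnorm' }

end Cfsg.Agent.Lib.Helper6.Ext320
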