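import Mathlib
import Cfsg.Agent.Lib.Helper6.Ext320G

set_option autoImplicit false

/-! Groups of order `320` with derived subgroup of order `64` whose centre is a four-group:
generation, and the abstract half of the identification. -/

namespace Cfsg.Agent.Lib.Helper6.Ext320

open Subgroup
open scoped commutatorElement

variable {G : Type*} [Group G]

theorem Stage2.closure_eq_top [Finite G] {s : G} {Z : Subgroup G} (h : Stage2 s Z) {y : G}
    (hyP : y ∈ commutator G) (hyZ : y ∉ Z) : closure {y, s} = ⊤ := by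
  have hc := h.cl2
  have hPn : (commutator G).Normal := inferInstance
  have hyK : y ∈ closure {y, s} := subset_closure (by simp)
  have hsK : s ∈ closure {y, s} := subset_closure (by simp)
  have hZn : Z.Normal := by
    refine ⟨fun z hz g => ?_⟩
    rw [hc.conj_eq hz]; exact hz
  let W : Subgroup G := Z ⊔ (closure {y, s} ⊓ commutator G)
  have hZW : Z ≤ W := le_sup_left
  have hWP : W ≤ commutator G := sup_le h.Z_le inf_le_right
  have hinv : ∀ w ∈ W, s * w * s⁻¹ ∈ W := by
    have hle : W ≤ W.comap (MulAut.conj s).toMonoidHom := by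
      apply sup_le
      · intro z hz
        rw [Subgroup.mem_comap]
        show s * z * s⁻¹ ∈ W
        rw [hc.conj_eq hz]
        exact hZW hz
      · intro k hk
        rw [Subgroup.mem_comap]
        show s * k * s⁻¹ ∈ W
        apply (le_sup_right : closure {y, s} ⊓ commutator G ≤ W)
        exact ⟨Subgroup.mul_mem _ (Subgroup.mul_mem _ hsK hk.1) (Subgroup.inv_mem _ hsK),
          hPn.conj_mem k hk.2 s⟩
    intro w hw
    exact hle hw
  have hWeq : W = commutator G := by
    rcases h.between W hZW hWP hinv with h1 | h1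
    · exfalso
      apply hyZ
      rw [← h1]
      exact (le_sup_right : closure {y, s} ⊓ commutator G ≤ W) ⟨hyK, hyP⟩
    · exact h1
  have hKZ : closure {y, s} ⊔ Z = ⊤ := by
    rw [eq_top_iff, ← h.sup]
    apply sup_le
    · rw [← hWeq]
      apply sup_le le_sup_right
      exact inf_le_left.trans le_sup_left
    · rw [zpowers_le]
      exact (le_sup_left : closure {y, s} ≤ _) hsK
  have hmem : ∀ g : G, ∃ k ∈ closure {y, s}, ∃ z ∈ Z, g = k * z := by
    intro g
    have h1 : g ∈ closure {y, s} ⊔ Z := hKZ ▸ Subgroup.mem_top g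
    rw [← SetLike.mem_coe, Subgroup.mul_normal] at h1
    obtain ⟨k, hk, z, hz, rfl⟩ := Set.mem_mul.mp h1
    exact ⟨k, hk, z, hz, rfl⟩
  have hPK : commutator G ≤ closure {y, s} := by
    rw [commutator_def, Subgroup.commutator_le]
    intro g₁ _ g₂ _
    obtain ⟨k, hk, z, hz, rfl⟩ := hmem g₁
    obtain ⟨k', hk', z', hz', rfl⟩ := hmem g₂
    rw [commutatorElement_mul_central (h.central hz) (h.central hz'), commutatorElement_def]
    exact Subgroup.mul_mem _ (Subgroup.mul_mem _ (Subgroup.mul_mem _ hk hk')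
      (Subgroup.inv_mem _ hk)) (Subgroup.inv_mem _ hk')
  rw [eq_top_iff, ← h.sup]
  apply sup_le hPK
  rw [zpowers_le]
  exact hsK

/-- **the abstract half**: such a group is generated by two elements satisfying the relations -/
theorem exists_rel [Finite G] (hG : Nat.card G = 320) (hD : Nat.card (commutator G) = 64)
    (hZ : IsKleinFour (center (commutator G))) :
    ∃ y s : G, Rel y s ∧ closure {y, s} = ⊤ := by
  obtain ⟨s, Z, h1⟩ := exists_stage1 hG hD hZ
  have h := h1.stage2
  have hc := h.cl2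
  have hPn : (commutator G).Normal := inferInstance
  obtain ⟨y', hy'P, hy'Z⟩ : ∃ y' ∈ commutator G, y' ∉ Z := by
    by_contra hcon
    push Not at hcon
    have h2 : commutator G ≤ Z := hcon
    have h3 := Subgroup.card_le_of_le h2
    rw [h.cardP, h.cardZ] at h3
    omega
  have hcjP : ∀ i, cj y' s i ∈ commutator G := fun i => hPn.conj_mem y' hy'P (s ^ i)
  have hnP : (y' * s) ^ 5 ∈ commutator G := by
    have e := prod_cj_eq y' s
    rw [h.s5, inv_one, mul_one] at e
    rw [← e]
    exact Subgroup.mul_mem _ (Subgroup.mul_mem _ (Subgroup.mul_mem _ (Subgroup.mul_mem _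
      (hcjP 0) (hcjP 1)) (hcjP 2)) (hcjP 3)) (hcjP 4)
  have hn : (y' * s) ^ 5 ∈ Z := by
    apply h.fpf _ hnP
    have e : s * (y' * s) ^ 5 * s⁻¹ = y'⁻¹ * (y' * s) ^ 5 * y' := by
      simp only [pow_succ, pow_zero, one_mul]; group
    have e2 : ((y' * s) ^ 5)⁻¹ * (s * (y' * s) ^ 5 * s⁻¹) = ⁅((y' * s) ^ 5)⁻¹, y'⁻¹⁆ := by
      rw [e, commutatorElement_def]; group
    rw [e2]
    exact hc.comm_mem _ (Subgroup.inv_mem _ hnP) _ (Subgroup.inv_mem _ hy'P)
  set n := (y' * s) ^ 5 with hndef
  have hyP : y' * n ∈ commutator G := Subgroup.mul_mem _ hy'P hnP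
  have hyZ : y' * n ∉ Z := by
    intro hcon
    apply hy'Z
    have := Z.mul_mem hcon (Z.inv_mem hn)
    rwa [mul_assoc, mul_inv_cancel, mul_one] at this
  have hnorm : (y' * n * s) ^ 5 = 1 := by
    have e1 : y' * n * s = (y' * s) * n := by
      rw [mul_assoc, ← hc.comm hn s, ← mul_assoc]
    have hcm : Commute (y' * s) n := hc.comm hn (y' * s)
    rw [e1, hcm.mul_pow, ← hndef, ← pow_succ', show 5 + 1 = 2 * 3 by norm_num, pow_mul, pow_two,
      h.sqZ n hn, one_pow]
  exact ⟨y' * n, s, h.rel_of hyP hnorm, h.closure_eq_top hyP hyZ⟩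

end Cfsg.Agent.Lib.Helper6.Ext320
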