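import Mathlib
import Cfsg.Agent.Lib.Helper6.Ext320H

set_option autoImplicit false

/-! Transport of the relations along homomorphisms, and fixed-point counting. -/

namespace Cfsg.Agent.Lib.Helper6.Ext320

open Subgroup
open scoped commutatorElement

theorem cj_map {H₁ H₂ : Type*} [Group H₁] [Group H₂] (f : H₁ →* H₂) (Y S : H₁) (i : ℕ) :
    cj (f Y) (f S) i = f (cj Y S i) := by
  simp only [cj, map_mul, map_pow, map_inv]

theorem cB1_map {H₁ H₂ : Type*} [Group H₁] [Group H₂] (f : H₁ →* H₂) (Y S : H₁) :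
    cB1 (f Y) (f S) = f (cB1 Y S) := by
  simp only [cB1, cj_map, map_commutatorElement]

theorem cB2_map {H₁ H₂ : Type*} [Group H₁] [Group H₂] (f : H₁ →* H₂) (Y S : H₁) :
    cB2 (f Y) (f S) = f (cB2 Y S) := by
  simp only [cB2, cj_map, map_commutatorElement]

theorem Rel.map {H₁ H₂ : Type*} [Group H₁] [Group H₂] (f : H₁ →* H₂) {Y S : H₁}
    (h : Rel Y S) : Rel (f Y) (f S) := by
  constructor
  · rw [← map_pow, h.s5, map_one]
  · rw [cB1_map, ← map_mul, ← map_mul, h.cYB1]
  · rw [cB1_map, ← map_mul, ← map_mul, h.cSB1]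
  · rw [cB2_map, ← map_mul, ← map_mul, h.cYB2]
  · rw [cB2_map, ← map_mul, ← map_mul, h.cSB2]
  · rw [cB1_map, ← map_mul, h.sqB1, map_one]
  · rw [cB2_map, ← map_mul, h.sqB2, map_one]
  · rw [cB1_map, cB2_map, ← map_mul, ← map_mul, h.ysq]
  · simp only [cj_map, ← map_mul]
    rw [h.norm, map_one]

theorem Rel.of_map {H₁ H₂ : Type*} [Group H₁] [Group H₂] (f : H₁ →* H₂)
    (hf : Function.Injective f) {Y S : H₁} (h : Rel (f Y) (f S)) : Rel Y S := by
  constructor
  · apply hf; rw [map_pow, h.s5, map_one]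
  · apply hf; have := h.cYB1; rw [cB1_map, ← map_mul, ← map_mul] at this; exact this
  · apply hf; have := h.cSB1; rw [cB1_map, ← map_mul, ← map_mul] at this; exact this
  · apply hf; have := h.cYB2; rw [cB2_map, ← map_mul, ← map_mul] at this; exact this
  · apply hf; have := h.cSB2; rw [cB2_map, ← map_mul, ← map_mul] at this; exact this
  · apply hf; have := h.sqB1; rw [cB1_map, ← map_mul] at this; rw [this, map_one]
  · apply hf; have := h.sqB2; rw [cB2_map, ← map_mul] at this; rw [this, map_one]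
  · apply hf; have := h.ysq; rw [cB1_map, cB2_map, ← map_mul, ← map_mul] at this; exact this
  · apply hf
    have := h.norm
    simp only [cj_map, ← map_mul] at this
    rw [this, map_one]

/-- the order of an invariant subgroup is congruent to the number of its fixed points -/
theorem card_modEq_card_fixed {Q : Type*} [Group Q] [Finite Q] (s : Q) (p : ℕ)
    [Fact p.Prime] (hs : s ^ p = 1) (W : Subgroup Q) (hW : ∀ w ∈ W, s * w * s⁻¹ ∈ W) :
    Nat.card W ≡ Nat.card ↥(W ⊓ centralizer {s}) [MOD p] := by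
  classical
  have : Fintype W := Fintype.ofFinite W
  let f : Function.End W := fun w => ⟨s * w * s⁻¹, hW w w.2⟩
  have hpow : ∀ (k : ℕ) (w : W), (((f ^ k) w : W) : Q) = s ^ k * w * (s ^ k)⁻¹ := by
    intro k
    induction k with
    | zero =>
      intro w
      rw [pow_zero]
      show (w : Q) = _
      simp
    | succ k ih =>
      intro w
      rw [pow_succ']
      show s * ((f ^ k) w : Q) * s⁻¹ = _
      rw [ih, pow_succ']
      group
  have hf : f ^ p ^ 1 = 1 := by
    funext w
    apply Subtype.ext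
    rw [pow_one, hpow, hs]
    show _ = (w : Q)
    simp
  have h1 := Equiv.Perm.card_fixedPoints_modEq (f := f) (p := p) (n := 1) hf
  have h2 : Nat.card (Function.fixedPoints f) = Nat.card ↥(W ⊓ centralizer {s}) := by
    apply Nat.card_congr
    refine
      { toFun := fun w => ⟨(w.1 : Q), Subgroup.mem_inf.mpr ⟨w.1.2, ?_⟩⟩
        invFun := fun w => ⟨⟨w.1, (Subgroup.mem_inf.mp w.2).1⟩, ?_⟩
        left_inv := fun w => rfl
        right_inv := fun w => rfl }
    · rw [Subgroup.mem_centralizer_singleton_iff]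
      have h3 : f w.1 = w.1 := w.2
      have h4 : s * (w.1 : Q) * s⁻¹ = w.1 := congrArg Subtype.val h3
      calc (w.1 : Q) * s = s * (w.1 : Q) * s⁻¹ * s := by rw [h4]
        _ = s * (w.1 : Q) := by group
    · show f ⟨w.1, (Subgroup.mem_inf.mp w.2).1⟩ = ⟨w.1, (Subgroup.mem_inf.mp w.2).1⟩
      apply Subtype.ext
      show s * w.1 * s⁻¹ = w.1
      have := (Subgroup.mem_inf.mp w.2).2
      rw [Subgroup.mem_centralizer_singleton_iff] at this
      rw [← this, mul_assoc, mul_inv_cancel, mul_one]
  rw [Nat.card_eq_fintype_card]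
  rw [Nat.card_eq_fintype_card] at h2
  rw [← h2]
  exact h1

end Cfsg.Agent.Lib.Helper6.Ext320
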