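import Mathlib
import Cfsg.Agent.Lib.Helper6.Ext320I
import Cfsg.Agent.Lib.Helper18.SU3Model

set_option autoImplicit false

/-! A model of the centralizer of an involution of `SU₃(4)`: the group of pairs extended by a
rotation of order five. -/

namespace Cfsg.Agent.Lib.Helper6.Ext320

open Cfsg.Agent.Lib.Helper18.SU3Model
open Subgroup
open scoped commutatorElement

variable {F : Type*} [Field F] {σ : F →+* F} {ν : F}

/-- the rotation `(a, b) ↦ (ν a, b)` -/
def rotFun (ν : F) (x : Pr σ) : Pr σ := ⟨ν * x.a, x.b⟩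

theorem rotFun_mul (hν : σ ν * ν = 1) (x y : Pr σ) :
    rotFun ν (x * y) = rotFun ν x * rotFun ν y := by
  ext
  · simp [rotFun, mul_add]
  · simp only [rotFun, mul_b, map_mul]
    linear_combination (-(σ x.a * y.a)) * hν

/-- the data on the field -/
structure NuData (σ : F →+* F) (ν : F) : Prop where
  good : Good σ
  pow5 : ν ^ 5 = 1
  ne1 : ν ≠ 1
  sig : σ ν = ν ^ 4

namespace NuData

theorem norm (d : NuData σ ν) : σ ν * ν = 1 := by
  rw [d.sig, ← pow_succ, d.pow5]

theorem sum (d : NuData σ ν) : 1 + ν + ν ^ 2 + ν ^ 3 + ν ^ 4 = 0 := by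
  have h1 : (ν - 1) * (1 + ν + ν ^ 2 + ν ^ 3 + ν ^ 4) = 0 := by
    linear_combination d.pow5
  rcases mul_eq_zero.mp h1 with h2 | h2
  · exact absurd (sub_eq_zero.mp h2) d.ne1
  · exact h2

theorem ne0 (d : NuData σ ν) : ν ≠ 0 := by
  intro h
  have := d.pow5
  rw [h] at this
  norm_num at this

/-- the rotation of the model group -/
def rot (d : NuData σ ν) : TG d.good →* TG d.good where
  toFun g := ⟨rotFun ν g.1, by
    have h1 := g.2
    rw [mem_T d.good] at h1 ⊢
    simp only [rotFun, map_mul]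
    linear_combination h1 - (g.1.a * σ g.1.a) * d.norm⟩
  map_one' := by
    apply Subtype.ext
    show rotFun ν (1 : Pr σ) = 1
    ext <;> simp [rotFun]
  map_mul' x y := Subtype.ext (rotFun_mul d.norm x.1 y.1)

theorem rot_a (d : NuData σ ν) (g : TG d.good) : (d.rot g).1.a = ν * g.1.a := rfl

theorem rot_b (d : NuData σ ν) (g : TG d.good) : (d.rot g).1.b = g.1.b := rfl

theorem iter_a (d : NuData σ ν) (g : TG d.good) (i : ℕ) :
    ((d.rot)^[i] g).1.a = ν ^ i * g.1.a := by
  induction i with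
  | zero => simp
  | succ i ih => rw [Function.iterate_succ_apply', rot_a, ih]; ring

theorem iter_b (d : NuData σ ν) (g : TG d.good) (i : ℕ) :
    ((d.rot)^[i] g).1.b = g.1.b := by
  induction i with
  | zero => simp
  | succ i ih => rw [Function.iterate_succ_apply', rot_b, ih]

theorem rot_eq_self (d : NuData σ ν) {z : TG d.good} (hz : z.1.a = 0) : d.rot z = z := by
  apply Subtype.ext
  ext
  · rw [rot_a, hz, mul_zero]
  · rfl

theorem rot_eq_self_iff (d : NuData σ ν) (z : TG d.good) : d.rot z = z ↔ z.1.a = 0 := by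
  constructor
  · intro h
    have h1 : ν * z.1.a = z.1.a := by rw [← rot_a d, h]
    have h2 : (ν - 1) * z.1.a = 0 := by linear_combination h1
    rcases mul_eq_zero.mp h2 with h3 | h3
    · exact absurd (sub_eq_zero.mp h3) d.ne1
    · exact h3
  · exact d.rot_eq_self

theorem comm_a (d : NuData σ ν) (x y : TG d.good) : (⁅x, y⁆ : TG d.good).1.a = 0 := by
  have : ((⁅x, y⁆ : TG d.good) : Pr σ) = ⁅x.1, y.1⁆ := by
    simp only [commutatorElement_def, Subgroup.coe_mul, Subgroup.coe_inv]
  rw [this, commutator_eq]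

theorem comm_b (d : NuData σ ν) (x y : TG d.good) :
    (⁅x, y⁆ : TG d.good).1.b = σ x.1.a * y.1.a - σ y.1.a * x.1.a := by
  have : ((⁅x, y⁆ : TG d.good) : Pr σ) = ⁅x.1, y.1⁆ := by
    simp only [commutatorElement_def, Subgroup.coe_mul, Subgroup.coe_inv]
  rw [this, commutator_eq]

end NuData

/-- a group containing the model group and a rotation -/
structure Model (d : NuData σ ν) {H : Type*} [Group H] (U : TG d.good →* H) (s : H) : Prop where
  inj : Function.Injective U
  s5 : s ^ 5 = 1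
  conj : ∀ g, s * U g = U (d.rot g) * s

namespace Model

variable {d : NuData σ ν} {H : Type*} [Group H] {U : TG d.good →* H} {s : H}

theorem cj_eq (m : Model d U s) (g : TG d.good) (i : ℕ) :
    cj (U g) s i = U ((d.rot)^[i] g) := by
  induction i with
  | zero => rw [Rel.cj_zero]; rfl
  | succ i ih =>
    rw [Rel.cj_succ, ih, m.conj, Function.iterate_succ_apply', mul_assoc, mul_inv_cancel, mul_one]

theorem commute_central (m : Model d U s) {z : TG d.good} (hz : z.1.a = 0) :
    (∀ g, U g * U z = U z * U g) ∧ s * U z = U z * s := by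
  constructor
  · intro g
    rw [← map_mul, ← map_mul]
    congr 1
    exact Subgroup.mem_center_iff.mp ((mem_center_iff d.good z).mpr hz) g
  · rw [m.conj, d.rot_eq_self hz]

/-- the relations in the model -/
theorem rel_of (m : Model d U s) (g : TG d.good)
    (hnorm : g * (d.rot)^[1] g * (d.rot)^[2] g * (d.rot)^[3] g * (d.rot)^[4] g = 1)
    (hsq : g * g = ⁅g, (d.rot)^[1] g⁆ * ⁅g, (d.rot)^[2] g⁆) : Rel (U g) s := by
  have hB1 : cB1 (U g) s = U ⁅g, (d.rot)^[1] g⁆ := by
    rw [cB1, m.cj_eq, map_commutatorElement]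
  have hB2 : cB2 (U g) s = U ⁅g, (d.rot)^[2] g⁆ := by
    rw [cB2, m.cj_eq, map_commutatorElement]
  have c1 := m.commute_central (d.comm_a g ((d.rot)^[1] g))
  have c2 := m.commute_central (d.comm_a g ((d.rot)^[2] g))
  have sq1 : ⁅g, (d.rot)^[1] g⁆ * ⁅g, (d.rot)^[1] g⁆ = 1 :=
    (coe_mul_self_eq_one_iff d.good _).mpr (d.comm_a _ _)
  have sq2 : ⁅g, (d.rot)^[2] g⁆ * ⁅g, (d.rot)^[2] g⁆ = 1 :=
    (coe_mul_self_eq_one_iff d.good _).mpr (d.comm_a _ _)
  constructor
  · exact m.s5
  · rw [hB1]; exact c1.1 g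
  · rw [hB1]; exact c1.2
  · rw [hB2]; exact c2.1 g
  · rw [hB2]; exact c2.2
  · rw [hB1, ← map_mul, sq1, map_one]
  · rw [hB2, ← map_mul, sq2, map_one]
  · rw [hB1, hB2, ← map_mul, ← map_mul, hsq]
  · rw [m.cj_eq, m.cj_eq, m.cj_eq, m.cj_eq, m.cj_eq, ← map_mul, ← map_mul, ← map_mul, ← map_mul]
    have : (d.rot)^[0] g = g := rfl
    rw [this, hnorm, map_one]

end Model

end Cfsg.Agent.Lib.Helper6.Ext320
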