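import Mathlib
import Cfsg.Agent.Lib.Helper6.Ext320J

set_option autoImplicit false

/-! The generators of the model and the relations they satisfy. -/

namespace Cfsg.Agent.Lib.Helper6.Ext320

open Cfsg.Agent.Lib.Helper18.SU3Model
open Subgroup
open scoped commutatorElement

variable {F : Type*} [Field F] {σ : F →+* F} {ν : F}

namespace NuData

/-- the generator of the model group -/
def y0 (d : NuData σ ν) : TG d.good :=
  ⟨⟨1, ν ^ 2 + ν ^ 4⟩, by
    rw [mem_T d.good]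
    simp only [map_add, map_pow, map_one, d.sig]
    linear_combination ((1)*ν^1 + (1)*ν^3 + (1)*ν^6 + (1)*ν^11) * d.pow5 + (1) * d.sum +
      ((-1)) * d.good.two⟩

theorem y0_a (d : NuData σ ν) : d.y0.1.a = 1 := rfl

theorem y0_b (d : NuData σ ν) : d.y0.1.b = ν ^ 2 + ν ^ 4 := rfl

theorem y0_norm (d : NuData σ ν) :
    d.y0 * (d.rot)^[1] d.y0 * (d.rot)^[2] d.y0 * (d.rot)^[3] d.y0 * (d.rot)^[4] d.y0 = 1 := by
  apply Subtype.ext
  simp only [Subgroup.coe_mul, Subgroup.coe_one]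
  ext
  · simp only [mul_a, one_a, d.iter_a, y0_a]
    linear_combination d.sum
  · simp only [mul_b, mul_a, one_b, d.iter_a, d.iter_b, y0_a, y0_b, map_add, map_mul, map_pow,
      map_one, d.sig]
    linear_combination ((3)*ν^1 + (2)*ν^2 + (1)*ν^3 + (2)*ν^6 + (1)*ν^7 + (1)*ν^11) * d.pow5 +
      (6) * d.sum + ((-3) + (-1)*ν^1 + (1)*ν^2 + (-2)*ν^3) * d.good.two

theorem y0_sq (d : NuData σ ν) :
    d.y0 * d.y0 = ⁅d.y0, (d.rot)^[1] d.y0⁆ * ⁅d.y0, (d.rot)^[2] d.y0⁆ := by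
  apply Subtype.ext
  rw [Subgroup.coe_mul, Subgroup.coe_mul]
  ext
  · rw [mul_a, mul_a, d.comm_a, d.comm_a, y0_a]
    linear_combination d.good.two
  · rw [mul_b, mul_b, d.comm_a, d.comm_b, d.comm_b]
    simp only [d.iter_a, y0_a, y0_b, map_add, map_mul, map_pow, map_one, map_zero, d.sig]
    linear_combination ((1)*ν^3) * d.pow5 + (3) * d.sum +
      ((-1) + (-2)*ν^1 + (-1)*ν^2 + (-1)*ν^3) * d.good.two

theorem z1_b (d : NuData σ ν) : (⁅d.y0, (d.rot)^[1] d.y0⁆ : TG d.good).1.b = ν - ν ^ 4 := by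
  rw [d.comm_b]
  simp only [d.iter_a, y0_a, map_mul, map_pow, map_one, d.sig]
  ring

theorem z2_b (d : NuData σ ν) : (⁅d.y0, (d.rot)^[2] d.y0⁆ : TG d.good).1.b = ν ^ 2 - ν ^ 3 := by
  rw [d.comm_b]
  simp only [d.iter_a, y0_a, map_mul, map_pow, map_one, d.sig]
  linear_combination (-(ν ^ 3)) * d.pow5

theorem z1_ne (d : NuData σ ν) : ν - ν ^ 4 ≠ 0 := by
  intro h
  have h1 : ν ^ 4 = ν := (sub_eq_zero.mp h).symm
  have h2 : ν ^ 2 = 1 := by
    have : ν ^ 5 = ν ^ 4 * ν := by ring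
    rw [d.pow5, h1] at this
    rw [pow_two]; exact this.symm
  have h3 : ν ^ 4 = 1 := by
    have : ν ^ 4 = (ν ^ 2) ^ 2 := by ring
    rw [this, h2, one_pow]
  exact d.ne1 (h1.symm.trans h3)

theorem z2_ne (d : NuData σ ν) : ν ^ 2 - ν ^ 3 ≠ 0 := by
  intro h
  have h1 : ν ^ 2 * (1 - ν) = 0 := by linear_combination h
  rcases mul_eq_zero.mp h1 with h2 | h2
  · exact d.ne0 (pow_eq_zero_iff (by norm_num) |>.mp h2)
  · exact d.ne1 (sub_eq_zero.mp h2).symm

theorem z12_ne (d : NuData σ ν) : ν - ν ^ 4 ≠ ν ^ 2 - ν ^ 3 := by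
  intro h
  have h1 : (1 : F) = 0 := by
    linear_combination d.sum - h - (ν ^ 4 + ν ^ 2) * d.good.two
  exact one_ne_zero h1

end NuData

namespace Model

variable {d : NuData σ ν} {H : Type*} [Group H] {U : TG d.good →* H} {s : H}

theorem rel (m : Model d U s) : Rel (U d.y0) s := m.rel_of d.y0 d.y0_norm d.y0_sq

end Model

end Cfsg.Agent.Lib.Helper6.Ext320
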