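import Mathlib
import Cfsg.Agent.Lib.Helper6.Ext320K

set_option autoImplicit false

/-! The generators of the model generate a group of order at least `320`. -/

namespace Cfsg.Agent.Lib.Helper6.Ext320

open Cfsg.Agent.Lib.Helper18.SU3Model
open Subgroup
open scoped commutatorElement

variable {F : Type*} [Field F] {σ : F →+* F} {ν : F}

theorem card_cases_64' {n : ℕ} (h1 : n ∣ 64) (h2 : n ≡ 4 [MOD 5]) : n = 4 ∨ n = 64 := by
  have hle : n ≤ 64 := Nat.le_of_dvd (by norm_num) h1
  unfold Nat.ModEq at h2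
  interval_cases n <;> simp_all

theorem card_cases_4' {n : ℕ} (h1 : n ∣ 4) (h2 : 3 ≤ n) : n = 4 := by
  have hle : n ≤ 4 := Nat.le_of_dvd (by norm_num) h1
  interval_cases n <;> simp_all

namespace Model

variable {d : NuData σ ν} {H : Type*} [Group H] {U : TG d.good →* H} {s : H}

theorem card_closure_ge [Finite F] [Finite H] (m : Model d U s) (hs1 : s ≠ 1)
    (hk : Nat.card {c : F // σ c = c} = 4) (hF : Nat.card F = 4 ^ 2) :
    320 ≤ Nat.card (closure {U d.y0, s}) := by
  have : Fact (Nat.Prime 5) := ⟨by norm_num⟩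
  set K := closure {U d.y0, s} with hK
  have hgK : U d.y0 ∈ K := subset_closure (by simp)
  have hsK : s ∈ K := subset_closure (by simp)
  have hcjK : ∀ i, cj (U d.y0) s i ∈ K := fun i =>
    K.mul_mem (K.mul_mem (K.pow_mem hsK i) hgK) (K.inv_mem (K.pow_mem hsK i))
  have hcomK : ∀ i, U ⁅d.y0, (d.rot)^[i] d.y0⁆ ∈ K := by
    intro i
    rw [map_commutatorElement, ← m.cj_eq, commutatorElement_def]
    exact K.mul_mem (K.mul_mem (K.mul_mem hgK (hcjK i)) (K.inv_mem hgK)) (K.inv_mem (hcjK i))
  -- the centre of the model group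
  let Z' : Subgroup H := (center (TG d.good)).map U
  have hZ'card : Nat.card Z' = 4 := by
    rw [Subgroup.card_map_of_injective m.inj]
    exact card_center d.good 4 hk
  have hz1 : U ⁅d.y0, (d.rot)^[1] d.y0⁆ ∈ K ⊓ Z' :=
    ⟨hcomK 1, ⟨_, (mem_center_iff d.good _).mpr (d.comm_a _ _), rfl⟩⟩
  have hz2 : U ⁅d.y0, (d.rot)^[2] d.y0⁆ ∈ K ⊓ Z' :=
    ⟨hcomK 2, ⟨_, (mem_center_iff d.good _).mpr (d.comm_a _ _), rfl⟩⟩
  have hne1 : (⁅d.y0, (d.rot)^[1] d.y0⁆ : TG d.good) ≠ 1 := by
    intro h
    have := congrArg (fun g : TG d.good => g.1.b) h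
    simp only [d.z1_b] at this
    exact d.z1_ne this
  have hne2 : (⁅d.y0, (d.rot)^[2] d.y0⁆ : TG d.good) ≠ 1 := by
    intro h
    have := congrArg (fun g : TG d.good => g.1.b) h
    simp only [d.z2_b] at this
    exact d.z2_ne this
  have hne12 : (⁅d.y0, (d.rot)^[1] d.y0⁆ : TG d.good) ≠ ⁅d.y0, (d.rot)^[2] d.y0⁆ := by
    intro h
    have := congrArg (fun g : TG d.good => g.1.b) h
    simp only [d.z1_b, d.z2_b] at this
    exact d.z12_ne this
  have hZ'K : Z' ≤ K := by
    have h1 : Nat.card ↥(K ⊓ Z') ∣ 4 := hZ'card ▸ Subgroup.card_dvd_of_le inf_le_right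
    have h3 : 3 ≤ Nat.card ↥(K ⊓ Z') := by
      let f : Fin 3 → ↥(K ⊓ Z') := ![1, ⟨_, hz1⟩, ⟨_, hz2⟩]
      have hf : Function.Injective f := by
        intro i j hij
        have hv : ((f i : ↥(K ⊓ Z')) : H) = f j := congrArg Subtype.val hij
        fin_cases i <;> fin_cases j <;> simp only [f] at hv <;> first
          | rfl
          | (exfalso
             simp only [Fin.zero_eta, Fin.mk_one, Fin.reduceFinMk, Matrix.cons_val_zero,
               Matrix.cons_val_one, Matrix.cons_val_two, Matrix.cons_val, Subgroup.coe_one] at hv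
             first
               | exact hne1 (m.inj (by rw [map_one]; exact hv.symm))
               | exact hne1 (m.inj (by rw [map_one]; exact hv))
               | exact hne2 (m.inj (by rw [map_one]; exact hv.symm))
               | exact hne2 (m.inj (by rw [map_one]; exact hv))
               | exact hne12 (m.inj hv)
               | exact hne12 (m.inj hv.symm))
      have := Nat.card_le_card_of_injective f hf
      simpa using this
    have h4 := card_cases_4' h1 h3
    have h5 : K ⊓ Z' = Z' := Subgroup.eq_of_le_of_card_ge inf_le_right (by rw [h4, hZ'card])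
    exact h5 ▸ inf_le_left
  -- the image of the model group
  have hRcard : Nat.card U.range = 64 := by
    rw [← Nat.card_congr (MonoidHom.ofInjective m.inj).toEquiv]
    have := card_TG d.good 4 hk hF
    rw [this]; norm_num
  let W : Subgroup H := K ⊓ U.range
  have hWinv : ∀ w ∈ W, s * w * s⁻¹ ∈ W := by
    rintro w ⟨hwK, x, rfl⟩
    refine ⟨K.mul_mem (K.mul_mem hsK hwK) (K.inv_mem hsK), d.rot x, ?_⟩
    rw [m.conj, mul_assoc, mul_inv_cancel, mul_one]
  have hfix : W ⊓ centralizer {s} = Z' := by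
    apply le_antisymm
    · rintro w ⟨⟨-, x, rfl⟩, hws⟩
      have hws' : U x ∈ centralizer {s} := hws
      rw [Subgroup.mem_centralizer_singleton_iff] at hws'
      have hws := hws'
      rw [m.conj] at hws
      have h1 : U x = U (d.rot x) := mul_right_cancel hws
      have h2 : d.rot x = x := (m.inj h1).symm
      exact ⟨x, (mem_center_iff d.good x).mpr ((d.rot_eq_self_iff x).mp h2), rfl⟩
    · rintro w ⟨z, hz, rfl⟩
      refine ⟨⟨hZ'K ⟨z, hz, rfl⟩, z, rfl⟩, ?_⟩
      show U z ∈ centralizer {s}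
      rw [Subgroup.mem_centralizer_singleton_iff]
      exact ((m.commute_central ((mem_center_iff d.good z).mp hz)).2).symm
  have hmod := card_modEq_card_fixed s 5 m.s5 W hWinv
  rw [hfix, hZ'card] at hmod
  have hWdvd : Nat.card W ∣ 64 := hRcard ▸ Subgroup.card_dvd_of_le inf_le_right
  have hZ'W : Z' ≤ W := le_inf hZ'K (Subgroup.map_le_range U _)
  have hWcard : Nat.card W = 64 := by
    rcases card_cases_64' hWdvd hmod with h4 | h4
    · exfalso
      have h5 : Z' = W := Subgroup.eq_of_le_of_card_ge hZ'W (by rw [h4, hZ'card])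
      have h6 : U d.y0 ∈ Z' := h5 ▸ (⟨hgK, d.y0, rfl⟩ : U d.y0 ∈ W)
      obtain ⟨z, hz, hzy⟩ := h6
      have h7 : z = d.y0 := m.inj hzy
      have h8 := (mem_center_iff d.good z).mp hz
      rw [h7, d.y0_a] at h8
      exact one_ne_zero h8
    · exact h4
  have hRK : U.range ≤ K := by
    have h5 : W = U.range := Subgroup.eq_of_le_of_card_ge inf_le_right (by rw [hWcard, hRcard])
    exact h5 ▸ inf_le_left
  have h64 : 64 ∣ Nat.card K := hRcard ▸ Subgroup.card_dvd_of_le hRK
  have h5 : 5 ∣ Nat.card K := by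
    have h6 : orderOf s = 5 := orderOf_eq_prime m.s5 hs1
    rw [← h6]
    exact Subgroup.orderOf_dvd_natCard K hsK
  have h320 : 320 ∣ Nat.card K := by
    have : Nat.Coprime 64 5 := by norm_num
    have := Nat.Coprime.mul_dvd_of_dvd_of_dvd this h64 h5
    simpa using this
  exact Nat.le_of_dvd Nat.card_pos h320

end Model

end Cfsg.Agent.Lib.Helper6.Ext320
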