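import Mathlib
import Cfsg.Prelude.Def_Classical
import Cfsg.Agent.Lib.Helper14.Unitary3

set_option autoImplicit false

/-! The centralizer of the involution swapping two coordinates in `SU₃(4)` has at most `320`
elements. -/

namespace Cfsg.Agent.Lib.Helper6.Ext320

open Polynomial

section count

variable {F : Type*} [Field F] [Fintype F] [DecidableEq F]

/-- the parameter set -/
def parSet (F : Type*) [Field F] [Fintype F] [DecidableEq F] : Finset (F × F × F) :=
  Finset.univ.filter (fun p => p.1 ^ 5 = 1 ∧ p.1 * p.2.2 ^ 4 + p.1 ^ 4 * p.2.2 + p.2.1 ^ 5 = 0)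

theorem card_fifth_roots_le : (Finset.univ.filter (fun s : F => s ^ 5 = 1)).card ≤ 5 := by
  calc (Finset.univ.filter (fun s : F => s ^ 5 = 1)).card
      ≤ (nthRoots 5 (1 : F)).toFinset.card := by
        apply Finset.card_le_card
        intro s hs
        rw [Multiset.mem_toFinset, mem_nthRoots (by norm_num)]
        exact (Finset.mem_filter.mp hs).2
    _ ≤ Multiset.card (nthRoots 5 (1 : F)) := Multiset.toFinset_card_le _
    _ ≤ 5 := card_nthRoots 5 1

theorem card_quartic_le (s d : F) (hs : s ≠ 0) :
    (Finset.univ.filter (fun a : F => s * a ^ 4 + s ^ 4 * a + d ^ 5 = 0)).card ≤ 4 := by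
  let p : F[X] := C s * X ^ 4 + C (s ^ 4) * X + C (d ^ 5)
  have hdeg : p.natDegree ≤ 4 := by
    simp only [p]
    compute_degree
  have hp0 : p ≠ 0 := by
    intro h
    have h1 : p.coeff 4 = s := by
      simp only [p, coeff_add, coeff_C_mul, coeff_X_pow, coeff_X, coeff_C]
      norm_num
    rw [h, coeff_zero] at h1
    exact hs h1.symm
  calc (Finset.univ.filter (fun a : F => s * a ^ 4 + s ^ 4 * a + d ^ 5 = 0)).card
      ≤ p.roots.toFinset.card := by
        apply Finset.card_le_card
        intro a ha
        rw [Multiset.mem_toFinset, mem_roots hp0, IsRoot.def]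
        simp only [p, eval_add, eval_mul, eval_C, eval_pow, eval_X]
        exact (Finset.mem_filter.mp ha).2
    _ ≤ Multiset.card p.roots := Multiset.toFinset_card_le _
    _ ≤ p.natDegree := card_roots' p
    _ ≤ 4 := hdeg

theorem card_parSet_le (hF : Fintype.card F = 16) : (parSet F).card ≤ 320 := by
  let f : F × F × F → F × F := fun p => (p.1, p.2.1)
  have hfib : ∀ b ∈ (parSet F).image f, ((parSet F).filter (fun x => f x = b)).card ≤ 4 := by
    intro b hb
    obtain ⟨x, hx, rfl⟩ := Finset.mem_image.mp hb
    have hx' := (Finset.mem_filter.mp hx).2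
    have hs : x.1 ≠ 0 := by
      intro h
      have := hx'.1
      rw [h] at this
      norm_num at this
    refine le_trans ?_ (card_quartic_le x.1 x.2.1 hs)
    apply Finset.card_le_card_of_injOn (fun y => y.2.2)
    · intro y hy
      have hy1 := Finset.mem_filter.mp hy
      have hy2 := (Finset.mem_filter.mp hy1.1).2
      have hy3 : f y = f x := hy1.2
      have e1' : (f y).1 = (f x).1 := congrArg Prod.fst hy3
      have e2' : (f y).2 = (f x).2 := congrArg Prod.snd hy3
      have e1 : y.1 = x.1 := e1'
      have e2 : y.2.1 = x.2.1 := e2'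
      rw [Finset.mem_coe, Finset.mem_filter]
      refine ⟨Finset.mem_univ _, ?_⟩
      rw [← e1, ← e2]
      exact hy2.2
    · intro y hy y' hy' hyy
      have hy1 := (Finset.mem_filter.mp hy).2
      have hy1' := (Finset.mem_filter.mp hy').2
      have hyy' : f y = f y' := hy1.trans hy1'.symm
      have e1' : (f y).1 = (f y').1 := congrArg Prod.fst hyy'
      have e2' : (f y).2 = (f y').2 := congrArg Prod.snd hyy'
      have e1 : y.1 = y'.1 := e1'
      have e2 : y.2.1 = y'.2.1 := e2'
      have e3 : y.2.2 = y'.2.2 := hyy
      exact Prod.ext e1 (Prod.ext e2 e3)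
  have h1 := Finset.card_le_mul_card_image (parSet F) 4 hfib
  have h2 : ((parSet F).image f).card ≤ 5 * 16 := by
    calc ((parSet F).image f).card
        ≤ ((Finset.univ.filter (fun s : F => s ^ 5 = 1)) ×ˢ (Finset.univ : Finset F)).card := by
          apply Finset.card_le_card
          intro b hb
          obtain ⟨x, hx, rfl⟩ := Finset.mem_image.mp hb
          have hx' := (Finset.mem_filter.mp hx).2
          rw [Finset.mem_product]
          exact ⟨Finset.mem_filter.mpr ⟨Finset.mem_univ _, hx'.1⟩, Finset.mem_univ _⟩
      _ = (Finset.univ.filter (fun s : F => s ^ 5 = 1)).card * Fintype.card F := by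
          rw [Finset.card_product, Finset.card_univ]
      _ ≤ 5 * 16 := by
          rw [hF]
          exact Nat.mul_le_mul_right _ card_fifth_roots_le
  calc (parSet F).card ≤ 4 * ((parSet F).image f).card := h1
    _ ≤ 4 * (5 * 16) := Nat.mul_le_mul_left _ h2
    _ = 320 := by norm_num

end count

end Cfsg.Agent.Lib.Helper6.Ext320
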