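import Mathlib
import Cfsg.Agent.Lib.Helper6.Ext320M

set_option autoImplicit false

/-! The centralizer of the involution swapping two coordinates in `SU₃(4)` has at most `320`
elements: the parametrization. -/

namespace Cfsg.Agent.Lib.Helper6.Ext320

open Cfsg.Agent.Lib.Helper14

section algebra

variable {F : Type*} [Field F]

/-- the equations satisfied by the entries of `[[a,b,c],[b,a,c],[d,d,e]]` -/
structure CData (a b c d e : F) : Prop where
  c00 : a * a ^ 4 + b * b ^ 4 + d * d ^ 4 = 1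
  c01 : a * b ^ 4 + b * a ^ 4 + d * d ^ 4 = 0
  c02 : a * c ^ 4 + b * c ^ 4 + d * e ^ 4 = 0
  det : a * a * e - a * c * d - b * b * e + b * c * d + c * b * d - c * a * d = 1

variable {a b c d e a' b' c' d' e' : F}

theorem CData.sq_e (h2 : (2 : F) = 0) (h : CData a b c d e) : (a + b) ^ 2 * e = 1 := by
  linear_combination h.det + (a * b * e + b * b * e + a * c * d - b * c * d) * h2

theorem CData.s_ne (h2 : (2 : F) = 0) (h : CData a b c d e) : a + b ≠ 0 := by
  intro h0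
  have := h.sq_e h2
  rw [h0] at this
  norm_num at this

theorem CData.s5 (h2 : (2 : F) = 0) (h : CData a b c d e) : (a + b) ^ 5 = 1 := by
  linear_combination h.c00 + h.c01 +
    (2 * a ^ 4 * b + 5 * a ^ 3 * b ^ 2 + 5 * a ^ 2 * b ^ 3 + 2 * a * b ^ 4 - d ^ 5) * h2

theorem CData.quartic (h2 : (2 : F) = 0) (h : CData a b c d e) :
    (a + b) * a ^ 4 + (a + b) ^ 4 * a + d ^ 5 = 0 := by
  linear_combination h.c01 +
    (a ^ 5 + 2 * a ^ 4 * b + 3 * a ^ 3 * b ^ 2 + 2 * a ^ 2 * b ^ 3) * h2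

theorem CData.ext (h2 : (2 : F) = 0) (h : CData a b c d e) (h' : CData a' b' c' d' e')
    (hs : a + b = a' + b') (hd : d = d') (ha : a = a') : b = b' ∧ c = c' ∧ e = e' := by
  have hb : b = b' := by linear_combination hs - ha
  subst hd ha hb
  have hs0 := h.s_ne h2
  have he : e = e' := by
    have h1 : (a + b) ^ 2 * (e - e') = 0 := by
      linear_combination h.sq_e h2 - h'.sq_e h2
    rcases mul_eq_zero.mp h1 with h3 | h3
    · exact absurd (pow_eq_zero_iff (by norm_num) |>.mp h3) hs0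
    · exact sub_eq_zero.mp h3
  subst he
  refine ⟨rfl, ?_, rfl⟩
  have h1 : (a + b) * (c ^ 4 - c' ^ 4) = 0 := by
    linear_combination h.c02 - h'.c02
  have h3 : c ^ 4 - c' ^ 4 = 0 := by
    rcases mul_eq_zero.mp h1 with h3 | h3
    · exact absurd h3 hs0
    · exact h3
  have h4 : (c - c') ^ 4 = 0 := by
    linear_combination h3 + (c' ^ 4 - 2 * c ^ 3 * c' + 3 * c ^ 2 * c' ^ 2 - 2 * c * c' ^ 3) * h2
  exact sub_eq_zero.mp (pow_eq_zero_iff (by norm_num) |>.mp h4)

end algebra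

section group

variable {F : Type*} [Field F] [Fintype F] [DecidableEq F]

/-- the entries of an element of `SU₃(4)` -/
def ent (g : Cfsg.SU 3 F 4) (i j : Fin 3) : F :=
  ((g : Matrix.SpecialLinearGroup (Fin 3) F) : Matrix (Fin 3) (Fin 3) F) i j

theorem col_rel (hF : Fintype.card F = 4 ^ 2) (g : Cfsg.SU 3 F 4) (j l : Fin 3) :
    ent g 0 j * ent g 0 l ^ 4 + ent g 1 j * ent g 1 l ^ 4 + ent g 2 j * ent g 2 l ^ 4 =
      if j = l then 1 else 0 := by
  have := (mem_SU_iff g.1).mp g.2 (Pi.single j 1) (Pi.single l 1)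
  rw [hermForm_single hF, Matrix.mulVec_single_one, Matrix.mulVec_single_one] at this
  rw [← this]
  unfold Cfsg.hermForm
  rw [Fin.sum_univ_three]
  rfl

theorem det_rel (g : Cfsg.SU 3 F 4) :
    ent g 0 0 * ent g 1 1 * ent g 2 2 - ent g 0 0 * ent g 1 2 * ent g 2 1
      - ent g 0 1 * ent g 1 0 * ent g 2 2 + ent g 0 1 * ent g 1 2 * ent g 2 0
      + ent g 0 2 * ent g 1 0 * ent g 2 1 - ent g 0 2 * ent g 1 1 * ent g 2 0 = 1 := by
  have := (g : Matrix.SpecialLinearGroup (Fin 3) F).2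
  rw [Matrix.det_fin_three] at this
  exact this

theorem symm_rel (t₀ : Cfsg.SU 3 F 4)
    (ht₀ : ((t₀ : Matrix.SpecialLinearGroup (Fin 3) F) : Matrix (Fin 3) (Fin 3) F) =
      !![0, 1, 0; 1, 0, 0; 0, 0, 1])
    (g : Cfsg.SU 3 F 4) (hg : g ∈ Subgroup.centralizer ({t₀} : Set (Cfsg.SU 3 F 4))) :
    ent g 1 0 = ent g 0 1 ∧ ent g 1 1 = ent g 0 0 ∧ ent g 1 2 = ent g 0 2 ∧
      ent g 2 1 = ent g 2 0 := by
  rw [Subgroup.mem_centralizer_singleton_iff] at hg
  have h1 : ((g : Matrix.SpecialLinearGroup (Fin 3) F) : Matrix (Fin 3) (Fin 3) F) *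
      !![0, 1, 0; 1, 0, 0; 0, 0, 1] = !![0, 1, 0; 1, 0, 0; 0, 0, 1] *
      ((g : Matrix.SpecialLinearGroup (Fin 3) F) : Matrix (Fin 3) (Fin 3) F) := by
    rw [← ht₀]
    have := congrArg (fun x : Cfsg.SU 3 F 4 =>
      ((x : Matrix.SpecialLinearGroup (Fin 3) F) : Matrix (Fin 3) (Fin 3) F)) hg
    exact this
  have e00 := congrFun (congrFun h1 0) 0
  have e01 := congrFun (congrFun h1 0) 1
  have e02 := congrFun (congrFun h1 0) 2
  have e20 := congrFun (congrFun h1 2) 0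
  simp [Matrix.mul_apply, Fin.sum_univ_three] at e00 e01 e02 e20
  exact ⟨e00.symm, e01.symm, e02.symm, e20⟩

end group

end Cfsg.Agent.Lib.Helper6.Ext320
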