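import Mathlib
import Cfsg.Agent.Lib.Helper6.Ext320N

set_option autoImplicit false

/-! The centralizer of the involution swapping two coordinates in `SU₃(4)` has at most `320`
elements. -/

namespace Cfsg.Agent.Lib.Helper6.Ext320

open Cfsg.Agent.Lib.Helper14

variable {F : Type*} [Field F] [Fintype F] [DecidableEq F]

theorem cdata_of_mem (hF : Fintype.card F = 4 ^ 2) (t₀ : Cfsg.SU 3 F 4)
    (ht₀ : ((t₀ : Matrix.SpecialLinearGroup (Fin 3) F) : Matrix (Fin 3) (Fin 3) F) =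
      !![0, 1, 0; 1, 0, 0; 0, 0, 1])
    (g : Cfsg.SU 3 F 4) (hg : g ∈ Subgroup.centralizer ({t₀} : Set (Cfsg.SU 3 F 4))) :
    CData (ent g 0 0) (ent g 0 1) (ent g 0 2) (ent g 2 0) (ent g 2 2) := by
  obtain ⟨s10, s11, s12, s21⟩ := symm_rel t₀ ht₀ g hg
  have c00 := col_rel hF g 0 0
  have c01 := col_rel hF g 0 1
  have c02 := col_rel hF g 0 2
  have dt := det_rel g
  rw [s10, s11, s12, s21] at dt
  rw [s10] at c00
  rw [s10, s11, s21] at c01
  rw [s10, s12] at c02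
  simp only [if_true] at c00
  rw [if_neg (by decide)] at c01 c02
  exact ⟨c00, c01, c02, dt⟩

theorem card_centralizer_le (hF : Fintype.card F = 4 ^ 2) (h2 : (2 : F) = 0)
    (t₀ : Cfsg.SU 3 F 4)
    (ht₀ : ((t₀ : Matrix.SpecialLinearGroup (Fin 3) F) : Matrix (Fin 3) (Fin 3) F) =
      !![0, 1, 0; 1, 0, 0; 0, 0, 1]) :
    Nat.card (Subgroup.centralizer ({t₀} : Set (Cfsg.SU 3 F 4))) ≤ 320 := by
  let Φ : Subgroup.centralizer ({t₀} : Set (Cfsg.SU 3 F 4)) → ↥(parSet F) := fun g =>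
    ⟨(ent g.1 0 0 + ent g.1 0 1, ent g.1 2 0, ent g.1 0 0), by
      have hd := cdata_of_mem hF t₀ ht₀ g.1 g.2
      rw [parSet, Finset.mem_filter]
      exact ⟨Finset.mem_univ _, hd.s5 h2, hd.quartic h2⟩⟩
  have hΦ : Function.Injective Φ := by
    intro g g' hgg
    have hd := cdata_of_mem hF t₀ ht₀ g.1 g.2
    have hd' := cdata_of_mem hF t₀ ht₀ g'.1 g'.2
    have h0 : (Φ g).1 = (Φ g').1 := congrArg Subtype.val hgg
    have e1 : ent g.1 0 0 + ent g.1 0 1 = ent g'.1 0 0 + ent g'.1 0 1 := congrArg Prod.fst h0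
    have e2 : ent g.1 2 0 = ent g'.1 2 0 := congrArg (fun p : F × F × F => p.2.1) h0
    have e3 : ent g.1 0 0 = ent g'.1 0 0 := congrArg (fun p : F × F × F => p.2.2) h0
    obtain ⟨e4, e5, e6⟩ := hd.ext h2 hd' e1 e2 e3
    obtain ⟨s10, s11, s12, s21⟩ := symm_rel t₀ ht₀ g.1 g.2
    obtain ⟨s10', s11', s12', s21'⟩ := symm_rel t₀ ht₀ g'.1 g'.2
    apply Subtype.ext
    apply Subtype.ext
    apply Subtype.ext
    ext i j
    show ent g.1 i j = ent g'.1 i j
    fin_cases i <;> fin_cases j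
    · exact e3
    · exact e4
    · exact e5
    · show ent g.1 1 0 = ent g'.1 1 0
      rw [s10, s10', e4]
    · show ent g.1 1 1 = ent g'.1 1 1
      rw [s11, s11', e3]
    · show ent g.1 1 2 = ent g'.1 1 2
      rw [s12, s12', e5]
    · exact e2
    · show ent g.1 2 1 = ent g'.1 2 1
      rw [s21, s21', e2]
    · exact e6
  calc Nat.card (Subgroup.centralizer ({t₀} : Set (Cfsg.SU 3 F 4)))
      ≤ Nat.card ↥(parSet F) := Nat.card_le_card_of_injective Φ hΦ
    _ = (parSet F).card := by rw [Nat.card_eq_fintype_card, Fintype.card_coe]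
    _ ≤ 320 := card_parSet_le (by rw [hF]; norm_num)

end Cfsg.Agent.Lib.Helper6.Ext320
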