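import Mathlib
import Cfsg.Agent.Lib.Helper6.Ext320L
import Cfsg.Agent.Lib.Helper6.Ext320O
import Cfsg.Agent.Lib.Helper18.SU3Sylow

set_option autoImplicit false

/-! The model inside `SU₃(4)`. -/

namespace Cfsg.Agent.Lib.Helper6.Ext320

open Cfsg.Agent.Lib.Helper14
open Cfsg.Agent.Lib.Helper18.SU3Model
open Subgroup

variable {F : Type*} [Field F] {σ : F →+* F} {ν : F}

/-- the diagonal matrix -/
def sMat (ν : F) : Matrix (Fin 3) (Fin 3) F := Matrix.diagonal ![ν ^ 3, ν ^ 3, ν ^ 4]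

theorem det_sMat (hν : ν ^ 5 = 1) : (sMat ν).det = 1 := by
  rw [sMat, Matrix.det_diagonal, Fin.prod_univ_three]
  show ν ^ 3 * ν ^ 3 * ν ^ 4 = 1
  have : ν ^ 3 * ν ^ 3 * ν ^ 4 = (ν ^ 5) ^ 2 := by ring
  rw [this, hν, one_pow]

theorem isUni_sMat (hν : ν ^ 5 = 1) : IsUni F 4 3 (sMat ν) := by
  apply isUni_diagonal
  intro i
  fin_cases i
  · show ν ^ 3 * (ν ^ 3) ^ 4 = 1
    have : ν ^ 3 * (ν ^ 3) ^ 4 = (ν ^ 5) ^ 3 := by ring
    rw [this, hν, one_pow]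
  · show ν ^ 3 * (ν ^ 3) ^ 4 = 1
    have : ν ^ 3 * (ν ^ 3) ^ 4 = (ν ^ 5) ^ 3 := by ring
    rw [this, hν, one_pow]
  · show ν ^ 4 * (ν ^ 4) ^ 4 = 1
    have : ν ^ 4 * (ν ^ 4) ^ 4 = (ν ^ 5) ^ 4 := by ring
    rw [this, hν, one_pow]

/-- the diagonal element of `SU₃(4)` -/
def sSU (hν : ν ^ 5 = 1) : Cfsg.SU 3 F 4 :=
  ⟨⟨sMat ν, det_sMat hν⟩, (mem_SU_iff _).mpr (isUni_sMat hν)⟩

theorem sMat_pow (hν : ν ^ 5 = 1) : sMat ν ^ 5 = 1 := by
  rw [sMat, Matrix.diagonal_pow, ← Matrix.diagonal_one]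
  congr 1
  funext i
  fin_cases i
  · show (ν ^ 3) ^ 5 = 1
    rw [← pow_mul, mul_comm, pow_mul, hν, one_pow]
  · show (ν ^ 3) ^ 5 = 1
    rw [← pow_mul, mul_comm, pow_mul, hν, one_pow]
  · show (ν ^ 4) ^ 5 = 1
    rw [← pow_mul, mul_comm, pow_mul, hν, one_pow]

theorem sMat_mul_Umat (hν : ν ^ 5 = 1) (hσν : σ ν = ν ^ 4) (x : Pr σ) :
    sMat ν * Umat x = Umat (rotFun ν x) * sMat ν := by
  unfold sMat
  ext i j
  rw [Matrix.diagonal_mul, Matrix.mul_diagonal]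
  fin_cases i <;> fin_cases j <;> simp [Umat, rotFun, hσν]
  all_goals first
    | ring1
    | linear_combination (-(ν ^ 3 * σ x.a)) * hν


section model

variable [Fintype F]

theorem model (d : NuData σ ν) (hσq : ∀ x, σ x = x ^ 4) (hF : Fintype.card F = 4 ^ 2) :
    Model d (USU d.good hσq hF) (sSU (F := F) d.pow5) where
  inj := USU_injective d.good hσq hF
  s5 := by
    apply Subtype.ext
    apply Subtype.ext
    show sMat ν ^ 5 = 1
    exact sMat_pow d.pow5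
  conj := by
    intro g
    apply Subtype.ext
    apply Subtype.ext
    show sMat ν * Umat g.1 = Umat (rotFun ν g.1) * sMat ν
    exact sMat_mul_Umat d.pow5 d.sig g.1

omit [Fintype F] in
theorem sSU_ne_one (d : NuData σ ν) : sSU (F := F) d.pow5 ≠ 1 := by
  intro h
  have h1 : sMat ν = 1 := congrArg (fun x : Cfsg.SU 3 F 4 =>
    ((x : Matrix.SpecialLinearGroup (Fin 3) F) : Matrix (Fin 3) (Fin 3) F)) h
  have h2 := congrFun (congrFun h1 0) 0
  simp [sMat] at h2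
  -- `ν ^ 3 = 1`
  apply d.ne1
  have h3 : ν ^ 6 = 1 := by
    have : ν ^ 6 = (ν ^ 3) ^ 2 := by ring
    rw [this, h2, one_pow]
  have h4 : ν ^ 6 = ν ^ 5 * ν := by ring
  rw [h4, d.pow5, one_mul] at h3
  exact h3

/-- the involution -/
def tSU (d : NuData σ ν) (hσq : ∀ x, σ x = x ^ 4) (hF : Fintype.card F = 4 ^ 2) :
    Cfsg.SU 3 F 4 :=
  USU d.good hσq hF (zc d.good 1 (map_one σ))

theorem tSU_mat (d : NuData σ ν) (hσq : ∀ x, σ x = x ^ 4) (hF : Fintype.card F = 4 ^ 2) :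
    ((tSU d hσq hF : Matrix.SpecialLinearGroup (Fin 3) F) : Matrix (Fin 3) (Fin 3) F) =
      !![0, 1, 0; 1, 0, 0; 0, 0, 1] := by
  show Umat (⟨0, 1⟩ : Pr σ) = _
  have h11 : (1 : F) + 1 = 0 := by linear_combination d.good.two
  unfold Umat
  simp [h11]

theorem orderOf_tSU (d : NuData σ ν) (hσq : ∀ x, σ x = x ^ 4) (hF : Fintype.card F = 4 ^ 2) :
    orderOf (tSU d hσq hF) = 2 := by
  apply orderOf_eq_prime
  · rw [pow_two, tSU, ← map_mul, zc_mul_self, map_one]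
  · intro h
    have h1 : zc d.good 1 (map_one σ) = 1 := USU_injective d.good hσq hF (by rw [map_one]; exact h)
    exact zc_ne_one d.good (map_one σ) one_ne_zero h1

end model

end Cfsg.Agent.Lib.Helper6.Ext320
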