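import Mathlib
import Cfsg.Agent.Lib.Helper6.Ext320P

set_option autoImplicit false

/-! Groups of order `320` with derived subgroup of order `64` whose centre is a four-group are
centralizers of involutions of `SU₃(4) ≅ PSU₃(4)`. -/

namespace Cfsg.Agent.Lib.Helper6.Ext320

open Cfsg.Agent.Lib.Helper14
open Cfsg.Agent.Lib.Helper18.SU3Model
open Subgroup

/-- centralizers correspond under isomorphisms -/
theorem nonempty_centralizer_equiv {A B : Type*} [Group A] [Group B] (e : A ≃* B) (a : A) :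
    Nonempty (centralizer ({a} : Set A) ≃* centralizer ({e a} : Set B)) := by
  have h : (centralizer ({a} : Set A)).map e.toMonoidHom = centralizer ({e a} : Set B) := by
    ext b
    constructor
    · rintro ⟨x, hx, rfl⟩
      have hx' : x ∈ centralizer ({a} : Set A) := hx
      rw [Subgroup.mem_centralizer_singleton_iff] at hx' ⊢
      show e x * e a = e a * e x
      rw [← map_mul, ← map_mul, hx']
    · intro hb
      rw [Subgroup.mem_centralizer_singleton_iff] at hb
      refine ⟨e.symm b, ?_, by simp⟩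
      show e.symm b ∈ centralizer ({a} : Set A)
      rw [Subgroup.mem_centralizer_singleton_iff]
      apply e.injective
      rw [map_mul, map_mul, e.apply_symm_apply]
      exact hb
  exact ⟨(e.subgroupMap _).trans (MulEquiv.subgroupCongr h)⟩

theorem main_SU {G : Type*} [Group G] [Finite G] (hG : Nat.card G = 320)
    (hD : Nat.card (commutator G) = 64) (hZ : IsKleinFour (center (commutator G)))
    {F : Type*} [Field F] [Fintype F] (hF : Fintype.card F = 16) :
    ∃ t₀ : Cfsg.SU 3 F 4, orderOf t₀ = 2 ∧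
      Nonempty (G ≃* centralizer ({t₀} : Set (Cfsg.SU 3 F 4))) := by
  classical
  have hF' : Fintype.card F = (2 ^ 2) ^ 2 := by rw [hF]; norm_num
  obtain ⟨σ, hgood, hσq, hk⟩ := exists_good (n := 2) (by norm_num) hF'
  have hσq4 : ∀ x, σ x = x ^ 4 := fun x => by rw [hσq]; norm_num
  have hk4 : Nat.card {c : F // σ c = c} = 4 := by rw [hk]; norm_num
  have hF4 : Fintype.card F = 4 ^ 2 := by rw [hF]; norm_num
  obtain ⟨ν, hν5, hν1⟩ : ∃ ν : F, ν ^ 5 = 1 ∧ ν ≠ 1 := by
    have hcard : Nat.card Fˣ = 15 := by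
      rw [Nat.card_eq_fintype_card, Fintype.card_units, hF]
    have : Fact (Nat.Prime 5) := ⟨by norm_num⟩
    obtain ⟨u, hu⟩ := exists_prime_orderOf_dvd_card' (G := Fˣ) 5 (by rw [hcard]; norm_num)
    refine ⟨(u : F), ?_, ?_⟩
    · rw [← Units.val_pow_eq_pow_val, ← hu, pow_orderOf_eq_one]; rfl
    · intro h
      have h1 : u = 1 := Units.ext h
      rw [h1, orderOf_one] at hu
      norm_num at hu
  have d : NuData σ ν := ⟨hgood, hν5, hν1, hσq4 ν⟩
  have m := model d hσq4 hF4
  have hs1 := sSU_ne_one (F := F) d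
  have ht₀ := tSU_mat d hσq4 hF4
  have hord := orderOf_tSU d hσq4 hF4
  have hle := card_centralizer_le hF4 d.good.two (tSU d hσq4 hF4) ht₀
  have hcc := m.commute_central (z := zc d.good 1 (map_one σ)) rfl
  have hKle : closure {USU d.good hσq4 hF4 d.y0, sSU (F := F) d.pow5} ≤
      centralizer ({tSU d hσq4 hF4} : Set (Cfsg.SU 3 F 4)) := by
    rw [closure_le]
    intro x hx
    rw [SetLike.mem_coe, Subgroup.mem_centralizer_singleton_iff]
    rcases hx with rfl | hx
    · exact hcc.1 d.y0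
    · rw [Set.mem_singleton_iff] at hx
      rw [hx]
      exact hcc.2
  have hrel : Rel (USU d.good hσq4 hF4 d.y0) (sSU (F := F) d.pow5) := m.rel
  have hKge := m.card_closure_ge hs1 hk4 (by rw [Nat.card_eq_fintype_card, hF4])
  have hKcard := hrel.card_closure_le
  have hKeq : closure {USU d.good hσq4 hF4 d.y0, sSU (F := F) d.pow5} =
      centralizer ({tSU d hσq4 hF4} : Set (Cfsg.SU 3 F 4)) :=
    Subgroup.eq_of_le_of_card_ge hKle (hle.trans hKge)
  obtain ⟨y, s, hrelG, hgenG⟩ := exists_rel hG hD hZ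
  set K := closure {USU d.good hσq4 hF4 d.y0, sSU (F := F) d.pow5} with hK
  have hyK : USU d.good hσq4 hF4 d.y0 ∈ K := subset_closure (by simp)
  have hsK : sSU (F := F) d.pow5 ∈ K := subset_closure (by simp)
  have hrel₂ : Rel (⟨_, hyK⟩ : K) ⟨_, hsK⟩ :=
    Rel.of_map K.subtype (Subgroup.subtype_injective K) hrel
  have hgen₂ : closure {(⟨_, hyK⟩ : K), ⟨_, hsK⟩} = ⊤ := by
    have h1 := Subgroup.closure_closure_coe_preimage
      (k := ({USU d.good hσq4 hF4 d.y0, sSU (F := F) d.pow5} : Set (Cfsg.SU 3 F 4)))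
    rw [← h1]
    congr 1
    ext x
    simp only [Set.mem_insert_iff, Set.mem_singleton_iff, Set.mem_preimage, Subtype.ext_iff]
  have hcard₂ : Nat.card K = 320 := le_antisymm hKcard hKge
  obtain ⟨e⟩ := nonempty_mulEquiv hrelG hrel₂ hG hcard₂ hgenG hgen₂
  exact ⟨tSU d hσq4 hF4, hord, ⟨e.trans (MulEquiv.subgroupCongr hKeq)⟩⟩

/-- **the identification** -/
theorem main_PSU {G : Type*} [Group G] [Finite G] (hG : Nat.card G = 320)
    (hD : Nat.card (commutator G) = 64) (hZ : IsKleinFour (center (commutator G)))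
    {F : Type*} [Field F] [Fintype F] (hF : Fintype.card F = 16) :
    ∃ t : Cfsg.PSU 3 F 4, orderOf t = 2 ∧
      Nonempty (G ≃* centralizer ({t} : Set (Cfsg.PSU 3 F 4))) := by
  classical
  obtain ⟨t₀, hord, ⟨e⟩⟩ := main_SU hG hD hZ hF
  have hF4 : Fintype.card F = 4 ^ 2 := by rw [hF]; norm_num
  have hc : center (Cfsg.SU 3 F 4) = ⊥ := by
    rw [← Subgroup.card_eq_one, card_center_SU hF4 3 (by norm_num)]
    norm_num
  have hinj : Function.Injective (QuotientGroup.mk' (center (Cfsg.SU 3 F 4))) := by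
    rw [← MonoidHom.ker_eq_bot_iff, QuotientGroup.ker_mk', hc]
  let π : Cfsg.SU 3 F 4 ≃* Cfsg.PSU 3 F 4 :=
    MulEquiv.ofBijective (QuotientGroup.mk' (center (Cfsg.SU 3 F 4)))
      ⟨hinj, QuotientGroup.mk'_surjective _⟩
  obtain ⟨e'⟩ := nonempty_centralizer_equiv π t₀
  refine ⟨π t₀, ?_, ⟨e.trans e'⟩⟩
  rw [← hord]
  exact orderOf_injective π.toMonoidHom π.injective t₀

end Cfsg.Agent.Lib.Helper6.Ext320
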