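/-
helper6: Feit–Higman, part 1.  Algebraic identities in an algebra generated by two elements
`A₁, A₂` satisfying the Hecke relations `A_i² = q_i + (q_i - 1) A_i`: the central element
`Z = A₁A₂ + A₂A₁ - (q₁-1)A₂ - (q₂-1)A₁ + (q₁-1)(q₂-1)`.
-/
import Mathlib

set_option autoImplicit false
set_option linter.unusedSectionVars false
set_option linter.unusedSimpArgs false
set_option linter.unusedVariables false

namespace Cfsg.Agent.Lib.Helper6.FH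

variable {𝒜 : Type*} [Ring 𝒜] [Algebra ℝ 𝒜]

section defs

variable (A₁ A₂ : 𝒜) (q₁ q₂ : ℝ)

/-- the central element -/
def Zc : 𝒜 :=
  A₁ * A₂ + A₂ * A₁ - (q₁ - 1) • A₂ - (q₂ - 1) • A₁ + ((q₁ - 1) * (q₂ - 1)) • (1 : 𝒜)

end defs

section identities

variable {A₁ A₂ : 𝒜} {q₁ q₂ : ℝ}
variable (h₁ : A₁ * A₁ = q₁ • (1 : 𝒜) + (q₁ - 1) • A₁)
  (h₂ : A₂ * A₂ = q₂ • (1 : 𝒜) + (q₂ - 1) • A₂)
include h₁ h₂

theorem sq₁' (t : 𝒜) : A₁ * (A₁ * t) = q₁ • t + (q₁ - 1) • (A₁ * t) := by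
  rw [← mul_assoc, h₁, add_mul, smul_mul_assoc, one_mul, smul_mul_assoc]

theorem sq₂' (t : 𝒜) : A₂ * (A₂ * t) = q₂ • t + (q₂ - 1) • (A₂ * t) := by
  rw [← mul_assoc, h₂, add_mul, smul_mul_assoc, one_mul, smul_mul_assoc]

theorem Z_comm₁ : A₁ * Zc A₁ A₂ q₁ q₂ = Zc A₁ A₂ q₁ q₂ * A₁ := by
  unfold Zc
  simp only [mul_add, add_mul, mul_sub, sub_mul, smul_mul_assoc, mul_smul_comm, mul_assoc, mul_one,
    one_mul, h₁, h₂, sq₁' h₁ h₂, sq₂' h₁ h₂, smul_add, smul_sub, smul_smul]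
  module

theorem Z_comm₂ : A₂ * Zc A₁ A₂ q₁ q₂ = Zc A₁ A₂ q₁ q₂ * A₂ := by
  unfold Zc
  simp only [mul_add, add_mul, mul_sub, sub_mul, smul_mul_assoc, mul_smul_comm, mul_assoc, mul_one,
    one_mul, h₁, h₂, sq₁' h₁ h₂, sq₂' h₁ h₂, smul_add, smul_sub, smul_smul]
  module

theorem Z_mul_A₁ : Zc A₁ A₂ q₁ q₂ * A₁ = A₁ * A₂ * A₁ + q₁ • A₂ - (q₁ * (q₂ - 1)) • (1 : 𝒜) := by
  unfold Zc
  simp only [mul_add, add_mul, mul_sub, sub_mul, smul_mul_assoc, mul_smul_comm, mul_assoc, mul_one,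
    one_mul, h₁, h₂, sq₁' h₁ h₂, sq₂' h₁ h₂, smul_add, smul_sub, smul_smul]
  module

theorem Z_mul_A₂ : Zc A₁ A₂ q₁ q₂ * A₂ = A₂ * A₁ * A₂ + q₂ • A₁ - (q₂ * (q₁ - 1)) • (1 : 𝒜) := by
  unfold Zc
  simp only [mul_add, add_mul, mul_sub, sub_mul, smul_mul_assoc, mul_smul_comm, mul_assoc, mul_one,
    one_mul, h₁, h₂, sq₁' h₁ h₂, sq₂' h₁ h₂, smul_add, smul_sub, smul_smul]
  module

theorem Z_mul_x : Zc A₁ A₂ q₁ q₂ * (A₁ * A₂) =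
    (A₁ * A₂) * (A₁ * A₂) + (q₁ * q₂) • (1 : 𝒜) := by
  unfold Zc
  simp only [mul_add, add_mul, mul_sub, sub_mul, smul_mul_assoc, mul_smul_comm, mul_assoc, mul_one,
    one_mul, h₁, h₂, sq₁' h₁ h₂, sq₂' h₁ h₂, smul_add, smul_sub, smul_smul]
  module

theorem Z_mul_y : Zc A₁ A₂ q₁ q₂ * (A₂ * A₁) =
    (A₂ * A₁) * (A₂ * A₁) + (q₁ * q₂) • (1 : 𝒜) := by
  unfold Zc
  simp only [mul_add, add_mul, mul_sub, sub_mul, smul_mul_assoc, mul_smul_comm, mul_assoc, mul_one,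
    one_mul, h₁, h₂, sq₁' h₁ h₂, sq₂' h₁ h₂, smul_add, smul_sub, smul_smul]
  module

theorem comm_sq : (A₁ * A₂ - A₂ * A₁) * (A₁ * A₂ - A₂ * A₁) =
    (Zc A₁ A₂ q₁ q₂ - (1 + q₁ * q₂) • (1 : 𝒜)) * (Zc A₁ A₂ q₁ q₂ + (q₁ + q₂) • (1 : 𝒜)) := by
  unfold Zc
  simp only [mul_add, add_mul, mul_sub, sub_mul, smul_mul_assoc, mul_smul_comm, mul_assoc, mul_one,
    one_mul, h₁, h₂, sq₁' h₁ h₂, sq₂' h₁ h₂, smul_add, smul_sub, smul_smul]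
  module

theorem P_identity₁ : (A₁ + 1) * (A₂ + 1) * (A₁ + 1) =
    (A₁ + 1) * (Zc A₁ A₂ q₁ q₂ + (q₁ + q₂) • (1 : 𝒜)) := by
  unfold Zc
  simp only [mul_add, add_mul, mul_sub, sub_mul, smul_mul_assoc, mul_smul_comm, mul_assoc, mul_one,
    one_mul, h₁, h₂, sq₁' h₁ h₂, sq₂' h₁ h₂, smul_add, smul_sub, smul_smul]
  module

theorem P_identity₂ : (A₂ + 1) * (A₁ + 1) * (A₂ + 1) =
    (A₂ + 1) * (Zc A₁ A₂ q₁ q₂ + (q₁ + q₂) • (1 : 𝒜)) := by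
  unfold Zc
  simp only [mul_add, add_mul, mul_sub, sub_mul, smul_mul_assoc, mul_smul_comm, mul_assoc, mul_one,
    one_mul, h₁, h₂, sq₁' h₁ h₂, sq₂' h₁ h₂, smul_add, smul_sub, smul_smul]
  module

omit h₁ h₂ in
theorem Z_eq_P : Zc A₁ A₂ q₁ q₂ = (1 + q₁ * q₂) • (1 : 𝒜) - (q₂ + 1) • (A₁ + 1) - (q₁ + 1) • (A₂ + 1)
    + (A₁ + 1) * (A₂ + 1) + (A₂ + 1) * (A₁ + 1) := by
  unfold Zc
  simp only [mul_add, add_mul, mul_one, one_mul, smul_add]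
  module

theorem P_sq₁ : (A₁ + 1) * (A₁ + 1) = (q₁ + 1) • (A₁ + 1) := by
  simp only [mul_add, add_mul, mul_one, one_mul, h₁, smul_add]
  module

theorem P_sq₂ : (A₂ + 1) * (A₂ + 1) = (q₂ + 1) • (A₂ + 1) := by
  simp only [mul_add, add_mul, mul_one, one_mul, h₂, smul_add]
  module

end identities

section equal

variable {A₁ A₂ : 𝒜} {q : ℝ}
variable (h₁ : A₁ * A₁ = q • (1 : 𝒜) + (q - 1) • A₁)
  (h₂ : A₂ * A₂ = q • (1 : 𝒜) + (q - 1) • A₂)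
include h₁ h₂

theorem braid3_eq : A₁ * A₂ * A₁ - A₂ * A₁ * A₂ = (Zc A₁ A₂ q q + q • (1 : 𝒜)) * (A₁ - A₂) := by
  unfold Zc
  simp only [mul_add, add_mul, mul_sub, sub_mul, smul_mul_assoc, mul_smul_comm, mul_assoc, mul_one,
    one_mul, h₁, h₂, sq₁' h₁ h₂, sq₂' h₁ h₂, smul_add, smul_sub, smul_smul]
  module

theorem diff_sq_eq : (A₁ - A₂) * (A₁ - A₂) = (1 + q * q) • (1 : 𝒜) - Zc A₁ A₂ q q := by
  unfold Zc
  simp only [mul_add, add_mul, mul_sub, sub_mul, smul_mul_assoc, mul_smul_comm, mul_assoc, mul_one,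
    one_mul, h₁, h₂, sq₁' h₁ h₂, sq₂' h₁ h₂, smul_add, smul_sub, smul_smul]
  module

end equal

end Cfsg.Agent.Lib.Helper6.FH
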