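/-
helper6: Feit–Higman, part 2.  Alternating words in two generators satisfying the Hecke relations:
powers, multiplication rules, and the recursion `x^(k+2) = Z x^(k+1) - q₁q₂ x^k`.
-/
import Mathlib
import Cfsg.Agent.Lib.Helper6.FH1

set_option autoImplicit false
set_option linter.unusedSectionVars false
set_option linter.unusedSimpArgs false
set_option linter.unusedVariables false

namespace Cfsg.Agent.Lib.Helper6.FH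

variable {𝒜 : Type*} [Ring 𝒜] [Algebra ℝ 𝒜]

/-- the alternating product of `ℓ` factors whose rightmost factor is `A₁` -/
def wX (A₁ A₂ : 𝒜) : ℕ → 𝒜
  | 0 => 1
  | (ℓ + 1) => (if Even ℓ then A₁ else A₂) * wX A₁ A₂ ℓ

theorem wX_zero (A₁ A₂ : 𝒜) : wX A₁ A₂ 0 = 1 := rfl

theorem wX_succ (A₁ A₂ : 𝒜) (ℓ : ℕ) :
    wX A₁ A₂ (ℓ + 1) = (if Even ℓ then A₁ else A₂) * wX A₁ A₂ ℓ := rfl

theorem wX_one (A₁ A₂ : 𝒜) : wX A₁ A₂ 1 = A₁ := by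
  rw [wX_succ, wX_zero, if_pos (by decide), mul_one]

theorem wX_succ_even (A₁ A₂ : 𝒜) {ℓ : ℕ} (h : Even ℓ) : wX A₁ A₂ (ℓ + 1) = A₁ * wX A₁ A₂ ℓ := by
  rw [wX_succ, if_pos h]

theorem wX_succ_odd (A₁ A₂ : 𝒜) {ℓ : ℕ} (h : ¬ Even ℓ) : wX A₁ A₂ (ℓ + 1) = A₂ * wX A₁ A₂ ℓ := by
  rw [wX_succ, if_neg h]

theorem wX_even (A₁ A₂ : 𝒜) (k : ℕ) : wX A₁ A₂ (2 * k) = (A₂ * A₁) ^ k := by
  induction k with
  | zero => rw [Nat.mul_zero, wX_zero, pow_zero]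
  | succ k ih =>
    have e : 2 * (k + 1) = (2 * k + 1) + 1 := by ring
    rw [e, wX_succ_odd _ _ (by simp [Nat.even_add_one]), wX_succ_even _ _ (by simp), ih, pow_succ',
      mul_assoc]

theorem wX_odd (A₁ A₂ : 𝒜) (k : ℕ) : wX A₁ A₂ (2 * k + 1) = A₁ * (A₂ * A₁) ^ k := by
  rw [wX_succ_even _ _ (by simp), wX_even]

/-- shifting the rightmost letter -/
theorem wX_succ_right (A₁ A₂ : 𝒜) (ℓ : ℕ) : wX A₁ A₂ (ℓ + 1) = wX A₂ A₁ ℓ * A₁ := by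
  rcases Nat.even_or_odd' ℓ with ⟨k, rfl | rfl⟩
  · rw [wX_odd, wX_even, mul_pow_mul]
  · have e : 2 * k + 1 + 1 = 2 * (k + 1) := by ring
    rw [e, wX_even, wX_odd, pow_succ, ← mul_assoc, mul_pow_mul]

section hecke

variable {A₁ A₂ : 𝒜} {q₁ q₂ : ℝ}
variable (h₁ : A₁ * A₁ = q₁ • (1 : 𝒜) + (q₁ - 1) • A₁)
  (h₂ : A₂ * A₂ = q₂ • (1 : 𝒜) + (q₂ - 1) • A₂)
include h₁ h₂

/-- left multiplication by `A₁` on the words ending in `A₁` -/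
theorem A₁_mul_wX (ℓ : ℕ) : A₁ * wX A₁ A₂ ℓ =
    if Even ℓ then wX A₁ A₂ (ℓ + 1) else q₁ • wX A₁ A₂ (ℓ - 1) + (q₁ - 1) • wX A₁ A₂ ℓ := by
  by_cases h : Even ℓ
  · rw [if_pos h, wX_succ_even _ _ h]
  · rw [if_neg h]
    obtain ⟨k, rfl⟩ : ∃ k, ℓ = k + 1 := ⟨ℓ - 1, by
      have : ℓ ≠ 0 := fun h0 => h (by rw [h0]; decide)
      omega⟩
    have hk : Even k := by
      rw [Nat.even_add_one] at h
      exact not_not.mp h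
    rw [Nat.add_sub_cancel, wX_succ_even _ _ hk, sq₁' h₁ h₂]

theorem A₂_mul_wX (ℓ : ℕ) : A₂ * wX A₁ A₂ ℓ =
    if Even ℓ then (if ℓ = 0 then wX A₂ A₁ 1 else q₂ • wX A₁ A₂ (ℓ - 1) + (q₂ - 1) • wX A₁ A₂ ℓ)
    else wX A₁ A₂ (ℓ + 1) := by
  by_cases h : Even ℓ
  · rw [if_pos h]
    by_cases h0 : ℓ = 0
    · rw [if_pos h0, h0, wX_zero, wX_one, mul_one]
    · rw [if_neg h0]
      obtain ⟨k, rfl⟩ : ∃ k, ℓ = k + 1 := ⟨ℓ - 1, by omega⟩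
      have hk : ¬ Even k := by
        rw [Nat.even_add_one] at h
        exact h
      rw [Nat.add_sub_cancel, wX_succ_odd _ _ hk, sq₂' h₁ h₂]
  · rw [if_neg h, wX_succ_odd _ _ h]

/-- the quadratic relation for `x = A₁ A₂` over the central element -/
theorem x_pow_succ_succ (k : ℕ) : (A₁ * A₂) ^ (k + 2) =
    Zc A₁ A₂ q₁ q₂ * (A₁ * A₂) ^ (k + 1) - (q₁ * q₂) • (A₁ * A₂) ^ k := by
  have h := Z_mul_x h₁ h₂
  have e1 : (A₁ * A₂) ^ (k + 2) = (A₁ * A₂) * (A₁ * A₂) * (A₁ * A₂) ^ k := by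
    simp only [pow_succ', mul_assoc]
  have e2 : Zc A₁ A₂ q₁ q₂ * (A₁ * A₂) ^ (k + 1) =
      (Zc A₁ A₂ q₁ q₂ * (A₁ * A₂)) * (A₁ * A₂) ^ k := by
    simp only [pow_succ', mul_assoc]
  rw [e1, e2, h, add_mul, smul_mul_assoc, one_mul, add_sub_cancel_right]

theorem y_pow_succ_succ (k : ℕ) : (A₂ * A₁) ^ (k + 2) =
    Zc A₁ A₂ q₁ q₂ * (A₂ * A₁) ^ (k + 1) - (q₁ * q₂) • (A₂ * A₁) ^ k := by
  have h := Z_mul_y h₁ h₂
  have e1 : (A₂ * A₁) ^ (k + 2) = (A₂ * A₁) * (A₂ * A₁) * (A₂ * A₁) ^ k := by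
    simp only [pow_succ', mul_assoc]
  have e2 : Zc A₁ A₂ q₁ q₂ * (A₂ * A₁) ^ (k + 1) =
      (Zc A₁ A₂ q₁ q₂ * (A₂ * A₁)) * (A₂ * A₁) ^ k := by
    simp only [pow_succ', mul_assoc]
  rw [e1, e2, h, add_mul, smul_mul_assoc, one_mul, add_sub_cancel_right]

end hecke

end Cfsg.Agent.Lib.Helper6.FH
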