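/-
helper6: Feit–Higman, part 3.  The matrix setting: two symmetric real matrices satisfying the Hecke
relations, the braid relation of length `n`, and Frobenius-orthogonality of the alternating words
of length at most `n`.  The span of the words is a subalgebra; Parseval's identity in it.
-/
import Mathlib
import Cfsg.Agent.Lib.Helper6.FH2

set_option autoImplicit false
set_option linter.unusedSectionVars false
set_option linter.unusedSimpArgs false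
set_option linter.unusedVariables false

namespace Cfsg.Agent.Lib.Helper6.FH

open Matrix

variable {Ω : Type*} [Fintype Ω] [DecidableEq Ω]

/-- the Frobenius inner product -/
def ip (a b : Matrix Ω Ω ℝ) : ℝ := (a * bᵀ).trace

theorem ip_comm (a b : Matrix Ω Ω ℝ) : ip a b = ip b a := by
  unfold ip
  rw [← Matrix.trace_transpose, Matrix.transpose_mul, Matrix.transpose_transpose]

theorem ip_add_left (a b c : Matrix Ω Ω ℝ) : ip (a + b) c = ip a c + ip b c := by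
  unfold ip
  rw [add_mul, Matrix.trace_add]

theorem ip_smul_left (r : ℝ) (a c : Matrix Ω Ω ℝ) : ip (r • a) c = r * ip a c := by
  unfold ip
  rw [smul_mul_assoc, Matrix.trace_smul, smul_eq_mul]

theorem ip_add_right (a b c : Matrix Ω Ω ℝ) : ip a (b + c) = ip a b + ip a c := by
  rw [ip_comm, ip_add_left, ip_comm b, ip_comm c]

theorem ip_smul_right (r : ℝ) (a c : Matrix Ω Ω ℝ) : ip a (r • c) = r * ip a c := by
  rw [ip_comm, ip_smul_left, ip_comm]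

theorem ip_zero_left (c : Matrix Ω Ω ℝ) : ip 0 c = 0 := by
  unfold ip
  rw [zero_mul, Matrix.trace_zero]

theorem ip_sum_left {ι : Type*} (s : Finset ι) (f : ι → Matrix Ω Ω ℝ) (c : Matrix Ω Ω ℝ) :
    ip (∑ i ∈ s, f i) c = ∑ i ∈ s, ip (f i) c := by
  unfold ip
  rw [Finset.sum_mul, Matrix.trace_sum]

theorem ip_self (a : Matrix Ω Ω ℝ) : ip a a = ∑ i, ∑ j, a i j * a i j := by
  unfold ip
  rw [Matrix.trace]
  apply Finset.sum_congr rfl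
  intro i _
  rw [Matrix.diag_apply, Matrix.mul_apply]
  apply Finset.sum_congr rfl
  intro j _
  rw [Matrix.transpose_apply]

theorem ip_self_nonneg (a : Matrix Ω Ω ℝ) : 0 ≤ ip a a := by
  rw [ip_self]
  exact Finset.sum_nonneg fun i _ => Finset.sum_nonneg fun j _ => mul_self_nonneg _

theorem ip_self_eq_zero {a : Matrix Ω Ω ℝ} (h : ip a a = 0) : a = 0 := by
  rw [ip_self] at h
  ext i j
  have h1 := (Finset.sum_eq_zero_iff_of_nonneg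
    (fun i _ => Finset.sum_nonneg fun j _ => mul_self_nonneg (a i j))).mp h i (Finset.mem_univ _)
  have h2 := (Finset.sum_eq_zero_iff_of_nonneg
    (fun j _ => mul_self_nonneg (a i j))).mp h1 j (Finset.mem_univ _)
  exact mul_self_eq_zero.mp h2

/-- the pairing with a fixed matrix as a linear functional -/
def ipL (c : Matrix Ω Ω ℝ) : Matrix Ω Ω ℝ →ₗ[ℝ] ℝ where
  toFun a := ip a c
  map_add' a b := ip_add_left a b c
  map_smul' r a := by rw [ip_smul_left]; rfl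

theorem ipL_apply (c a : Matrix Ω Ω ℝ) : ipL c a = ip a c := rfl

/-- the squared-norm parameter of the word of length `ℓ` -/
def qw (q₁ q₂ : ℝ) (ℓ : ℕ) : ℝ := q₁ ^ ((ℓ + 1) / 2) * q₂ ^ (ℓ / 2)

/-- the hypotheses: Hecke relations, braid relation, orthogonality of the words -/
structure Data (A₁ A₂ : Matrix Ω Ω ℝ) (q₁ q₂ : ℕ) (n : ℕ) : Prop where
  symm₁ : A₁ᵀ = A₁
  symm₂ : A₂ᵀ = A₂
  sq₁ : A₁ * A₁ = (q₁ : ℝ) • (1 : Matrix Ω Ω ℝ) + ((q₁ : ℝ) - 1) • A₁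
  sq₂ : A₂ * A₂ = (q₂ : ℝ) • (1 : Matrix Ω Ω ℝ) + ((q₂ : ℝ) - 1) • A₂
  braid : wX A₁ A₂ n = wX A₂ A₁ n
  hq₁ : 2 ≤ q₁
  hq₂ : 2 ≤ q₂
  hn : 2 ≤ n
  normX : ∀ ℓ ≤ n, ip (wX A₁ A₂ ℓ) (wX A₁ A₂ ℓ) = (Fintype.card Ω : ℝ) * qw q₁ q₂ ℓ
  normY : ∀ ℓ ≤ n, ip (wX A₂ A₁ ℓ) (wX A₂ A₁ ℓ) = (Fintype.card Ω : ℝ) * qw q₂ q₁ ℓ
  orthXX : ∀ ℓ ℓ', ℓ ≤ n → ℓ' ≤ n → ℓ ≠ ℓ' → ip (wX A₁ A₂ ℓ) (wX A₁ A₂ ℓ') = 0
  orthYY : ∀ ℓ ℓ', ℓ ≤ n → ℓ' ≤ n → ℓ ≠ ℓ' → ip (wX A₂ A₁ ℓ) (wX A₂ A₁ ℓ') = 0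
  orthXY : ∀ ℓ ℓ', ℓ ≤ n → ℓ' ≤ n → (ℓ ≠ ℓ' ∨ (0 < ℓ ∧ ℓ < n)) →
    ip (wX A₁ A₂ ℓ) (wX A₂ A₁ ℓ') = 0

namespace Data

variable {A₁ A₂ : Matrix Ω Ω ℝ} {q₁ q₂ n : ℕ}

theorem swap (h : Data A₁ A₂ q₁ q₂ n) : Data A₂ A₁ q₂ q₁ n where
  symm₁ := h.symm₂
  symm₂ := h.symm₁
  sq₁ := h.sq₂
  sq₂ := h.sq₁
  braid := h.braid.symm
  hq₁ := h.hq₂
  hq₂ := h.hq₁
  hn := h.hn
  normX := h.normY
  normY := h.normX
  orthXX := h.orthYY
  orthYY := h.orthXX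
  orthXY := by
    intro ℓ ℓ' hℓ hℓ' hc
    rw [ip_comm]
    apply h.orthXY ℓ' ℓ hℓ' hℓ
    rcases hc with hc | hc
    · exact Or.inl (Ne.symm hc)
    · by_cases he : ℓ' = ℓ
      · right; rw [he]; exact hc
      · exact Or.inl he

end Data

/-- the transpose of a word -/
theorem wX_transpose {A₁ A₂ : Matrix Ω Ω ℝ} (h₁ : A₁ᵀ = A₁) (h₂ : A₂ᵀ = A₂) (ℓ : ℕ) :
    (wX A₁ A₂ ℓ)ᵀ = if Even ℓ then wX A₂ A₁ ℓ else wX A₁ A₂ ℓ := by
  rcases Nat.even_or_odd' ℓ with ⟨k, rfl | rfl⟩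
  · rw [if_pos (by simp), wX_even, wX_even, Matrix.transpose_pow, Matrix.transpose_mul, h₁, h₂]
  · rw [if_neg (by simp), wX_odd, Matrix.transpose_mul, Matrix.transpose_pow,
      Matrix.transpose_mul, h₁, h₂, mul_pow_mul]

end Cfsg.Agent.Lib.Helper6.FH
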