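/-
helper6: Feit–Higman, part 4.  The filtration by word length, closure of the span of the words
under multiplication, and Parseval's identity.
-/
import Mathlib
import Cfsg.Agent.Lib.Helper6.FH3

set_option autoImplicit false
set_option linter.unusedSectionVars false
set_option linter.unusedSimpArgs false
set_option linter.unusedVariables false

namespace Cfsg.Agent.Lib.Helper6.FH

open Matrix

variable {Ω : Type*} [Fintype Ω] [DecidableEq Ω]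

/-- Parseval's identity for an orthogonal family -/
theorem parseval {ι : Type*} [Fintype ι] (b : ι → Matrix Ω Ω ℝ) (nb : ι → ℝ)
    (horth : ∀ i j, i ≠ j → ip (b i) (b j) = 0) (hnorm : ∀ i, ip (b i) (b i) = nb i)
    (hnb : ∀ i, nb i ≠ 0) {v : Matrix Ω Ω ℝ} (hv : v ∈ Submodule.span ℝ (Set.range b)) :
    ip v v = ∑ i, (ip v (b i)) ^ 2 / nb i := by
  classical
  obtain ⟨c, rfl⟩ := (Submodule.mem_span_range_iff_exists_fun ℝ).mp hv
  have h1 : ∀ j, ip (∑ i, c i • b i) (b j) = c j * nb j := by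
    intro j
    rw [ip_sum_left, Finset.sum_eq_single j]
    · rw [ip_smul_left, hnorm]
    · intro i _ hij
      rw [ip_smul_left, horth i j hij, mul_zero]
    · intro h; exact absurd (Finset.mem_univ j) h
  have h2 : ip (∑ i, c i • b i) (∑ i, c i • b i) = ∑ j, c j * (c j * nb j) := by
    conv_lhs => rw [ip_sum_left]
    apply Finset.sum_congr rfl
    intro j _
    rw [ip_smul_left, ip_comm, h1]
  rw [h2]
  apply Finset.sum_congr rfl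
  intro j _
  rw [h1]
  field_simp [hnb j]

section fil

variable (A₁ A₂ : Matrix Ω Ω ℝ)

/-- the span of the words of length at most `d` -/
def Fil (d : ℕ) : Submodule ℝ (Matrix Ω Ω ℝ) :=
  Submodule.span ℝ ({M | ∃ ℓ ≤ d, M = wX A₁ A₂ ℓ} ∪ {M | ∃ ℓ ≤ d, M = wX A₂ A₁ ℓ})

theorem Fil_mono {d d' : ℕ} (h : d ≤ d') : Fil A₁ A₂ d ≤ Fil A₁ A₂ d' := by
  apply Submodule.span_mono
  rintro M (⟨ℓ, hℓ, rfl⟩ | ⟨ℓ, hℓ, rfl⟩)
  · exact Or.inl ⟨ℓ, le_trans hℓ h, rfl⟩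
  · exact Or.inr ⟨ℓ, le_trans hℓ h, rfl⟩

theorem wX_mem_Fil {ℓ d : ℕ} (h : ℓ ≤ d) : wX A₁ A₂ ℓ ∈ Fil A₁ A₂ d :=
  Submodule.subset_span (Or.inl ⟨ℓ, h, rfl⟩)

theorem wY_mem_Fil {ℓ d : ℕ} (h : ℓ ≤ d) : wX A₂ A₁ ℓ ∈ Fil A₁ A₂ d :=
  Submodule.subset_span (Or.inr ⟨ℓ, h, rfl⟩)

theorem Fil_swap (d : ℕ) : Fil A₁ A₂ d = Fil A₂ A₁ d := by
  unfold Fil
  rw [Set.union_comm]

theorem one_mem_Fil (d : ℕ) : (1 : Matrix Ω Ω ℝ) ∈ Fil A₁ A₂ d :=
  wX_mem_Fil A₁ A₂ (Nat.zero_le d)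

end fil

section hecke

variable {A₁ A₂ : Matrix Ω Ω ℝ} {q₁ q₂ : ℝ}
variable (h₁ : A₁ * A₁ = q₁ • (1 : Matrix Ω Ω ℝ) + (q₁ - 1) • A₁)
  (h₂ : A₂ * A₂ = q₂ • (1 : Matrix Ω Ω ℝ) + (q₂ - 1) • A₂)
include h₁ h₂

theorem A₁_mul_mem_Fil {d : ℕ} {h : Matrix Ω Ω ℝ} (hh : h ∈ Fil A₁ A₂ d) :
    A₁ * h ∈ Fil A₁ A₂ (d + 1) := by
  refine Submodule.span_induction (p := fun h _ => A₁ * h ∈ Fil A₁ A₂ (d + 1)) ?_ ?_ ?_ ?_ hh
  · rintro M (⟨ℓ, hℓ, rfl⟩ | ⟨ℓ, hℓ, rfl⟩)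
    · rw [A₁_mul_wX h₁ h₂]
      split_ifs with he
      · exact wX_mem_Fil _ _ (by omega)
      · exact Submodule.add_mem _ (Submodule.smul_mem _ _ (wX_mem_Fil _ _ (by omega)))
          (Submodule.smul_mem _ _ (wX_mem_Fil _ _ (by omega)))
    · rw [A₂_mul_wX h₂ h₁]
      split_ifs with he h0
      · exact wX_mem_Fil _ _ (by omega)
      · exact Submodule.add_mem _ (Submodule.smul_mem _ _ (wY_mem_Fil _ _ (by omega)))
          (Submodule.smul_mem _ _ (wY_mem_Fil _ _ (by omega)))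
      · exact wY_mem_Fil _ _ (by omega)
  · rw [mul_zero]; exact Submodule.zero_mem _
  · intro x y _ _ hx hy
    rw [mul_add]; exact Submodule.add_mem _ hx hy
  · intro r x _ hx
    rw [mul_smul_comm]; exact Submodule.smul_mem _ _ hx

theorem A₂_mul_mem_Fil {d : ℕ} {h : Matrix Ω Ω ℝ} (hh : h ∈ Fil A₁ A₂ d) :
    A₂ * h ∈ Fil A₁ A₂ (d + 1) := by
  rw [Fil_swap] at hh ⊢
  exact A₁_mul_mem_Fil h₂ h₁ hh

/-- the top level is closed under left multiplication, thanks to the braid relation -/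
theorem A₁_mul_mem_top {n : ℕ} (hn : 1 ≤ n) (hbr : wX A₁ A₂ n = wX A₂ A₁ n) {h : Matrix Ω Ω ℝ}
    (hh : h ∈ Fil A₁ A₂ n) : A₁ * h ∈ Fil A₁ A₂ n := by
  refine Submodule.span_induction (p := fun h _ => A₁ * h ∈ Fil A₁ A₂ n) ?_ ?_ ?_ ?_ hh
  · rintro M (⟨ℓ, hℓ, rfl⟩ | ⟨ℓ, hℓ, rfl⟩)
    · rcases Nat.lt_or_ge ℓ n with hlt | hge
      · exact Fil_mono _ _ (by omega) (A₁_mul_mem_Fil h₁ h₂ (wX_mem_Fil A₁ A₂ (le_refl ℓ)))
      · have hℓn : ℓ = n := le_antisymm hℓ hge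
        subst hℓn
        by_cases he : Even ℓ
        · rw [hbr, A₂_mul_wX h₂ h₁, if_pos he, if_neg (by omega)]
          exact Submodule.add_mem _ (Submodule.smul_mem _ _ (wY_mem_Fil _ _ (by omega)))
            (Submodule.smul_mem _ _ (wY_mem_Fil _ _ (by omega)))
        · rw [A₁_mul_wX h₁ h₂, if_neg he]
          exact Submodule.add_mem _ (Submodule.smul_mem _ _ (wX_mem_Fil _ _ (by omega)))
            (Submodule.smul_mem _ _ (wX_mem_Fil _ _ (by omega)))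
    · rcases Nat.lt_or_ge ℓ n with hlt | hge
      · exact Fil_mono _ _ (by omega) (A₁_mul_mem_Fil h₁ h₂ (wY_mem_Fil A₁ A₂ (le_refl ℓ)))
      · have hℓn : ℓ = n := le_antisymm hℓ hge
        subst hℓn
        by_cases he : Even ℓ
        · rw [A₂_mul_wX h₂ h₁, if_pos he, if_neg (by omega)]
          exact Submodule.add_mem _ (Submodule.smul_mem _ _ (wY_mem_Fil _ _ (by omega)))
            (Submodule.smul_mem _ _ (wY_mem_Fil _ _ (by omega)))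
        · rw [← hbr, A₁_mul_wX h₁ h₂, if_neg he]
          exact Submodule.add_mem _ (Submodule.smul_mem _ _ (wX_mem_Fil _ _ (by omega)))
            (Submodule.smul_mem _ _ (wX_mem_Fil _ _ (by omega)))
  · rw [mul_zero]; exact Submodule.zero_mem _
  · intro x y _ _ hx hy
    rw [mul_add]; exact Submodule.add_mem _ hx hy
  · intro r x _ hx
    rw [mul_smul_comm]; exact Submodule.smul_mem _ _ hx

theorem A₂_mul_mem_top {n : ℕ} (hn : 1 ≤ n) (hbr : wX A₁ A₂ n = wX A₂ A₁ n) {h : Matrix Ω Ω ℝ}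
    (hh : h ∈ Fil A₁ A₂ n) : A₂ * h ∈ Fil A₁ A₂ n := by
  rw [Fil_swap] at hh ⊢
  exact A₁_mul_mem_top h₂ h₁ hn hbr.symm hh

theorem Z_mul_mem_top {n : ℕ} (hn : 1 ≤ n) (hbr : wX A₁ A₂ n = wX A₂ A₁ n) {h : Matrix Ω Ω ℝ}
    (hh : h ∈ Fil A₁ A₂ n) : Zc A₁ A₂ q₁ q₂ * h ∈ Fil A₁ A₂ n := by
  unfold Zc
  simp only [add_mul, sub_mul, smul_mul_assoc, one_mul, mul_assoc]
  have a1 := A₁_mul_mem_top h₁ h₂ hn hbr hh
  have a2 := A₂_mul_mem_top h₁ h₂ hn hbr hh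
  have a12 := A₁_mul_mem_top h₁ h₂ hn hbr a2
  have a21 := A₂_mul_mem_top h₁ h₂ hn hbr a1
  exact Submodule.add_mem _ (Submodule.sub_mem _ (Submodule.sub_mem _ (Submodule.add_mem _ a12 a21)
    (Submodule.smul_mem _ _ a2)) (Submodule.smul_mem _ _ a1)) (Submodule.smul_mem _ _ hh)

theorem Z_pow_mem_top {n : ℕ} (hn : 1 ≤ n) (hbr : wX A₁ A₂ n = wX A₂ A₁ n) (k : ℕ) :
    Zc A₁ A₂ q₁ q₂ ^ k ∈ Fil A₁ A₂ n := by
  induction k with
  | zero => rw [pow_zero]; exact one_mem_Fil _ _ _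
  | succ k ih => rw [pow_succ']; exact Z_mul_mem_top h₁ h₂ hn hbr ih

theorem aeval_Z_mem_top {n : ℕ} (hn : 1 ≤ n) (hbr : wX A₁ A₂ n = wX A₂ A₁ n) (p : Polynomial ℝ) :
    Polynomial.aeval (Zc A₁ A₂ q₁ q₂) p ∈ Fil A₁ A₂ n := by
  rw [Polynomial.aeval_eq_sum_range]
  apply Submodule.sum_mem
  intro k _
  exact Submodule.smul_mem _ _ (Z_pow_mem_top h₁ h₂ hn hbr k)

end hecke

end Cfsg.Agent.Lib.Helper6.FH
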