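/-
helper6: Feit–Higman, part 5.  The top term of `Z^k` in the filtration by word length, the
nonvanishing of `g(Z)` for monic `g` of small degree, and the resulting idempotents.
-/
import Mathlib
import Cfsg.Agent.Lib.Helper6.FH4

set_option autoImplicit false
set_option linter.unusedSectionVars false
set_option linter.unusedSimpArgs false
set_option linter.unusedVariables false

namespace Cfsg.Agent.Lib.Helper6.FH

open Matrix Polynomial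

variable {Ω : Type*} [Fintype Ω] [DecidableEq Ω]

section hecke

variable {A₁ A₂ : Matrix Ω Ω ℝ} {q₁ q₂ : ℝ}
variable (h₁ : A₁ * A₁ = q₁ • (1 : Matrix Ω Ω ℝ) + (q₁ - 1) • A₁)
  (h₂ : A₂ * A₂ = q₂ • (1 : Matrix Ω Ω ℝ) + (q₂ - 1) • A₂)
include h₁ h₂

theorem Z_mul_mem_Fil {d : ℕ} {h : Matrix Ω Ω ℝ} (hh : h ∈ Fil A₁ A₂ d) :
    Zc A₁ A₂ q₁ q₂ * h ∈ Fil A₁ A₂ (d + 2) := by
  unfold Zc
  simp only [add_mul, sub_mul, smul_mul_assoc, one_mul, mul_assoc]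
  have a1 := A₁_mul_mem_Fil h₁ h₂ hh
  have a2 := A₂_mul_mem_Fil h₁ h₂ hh
  have a12 := A₁_mul_mem_Fil h₁ h₂ a2
  have a21 := A₂_mul_mem_Fil h₁ h₂ a1
  have m1 : Fil A₁ A₂ (d + 1) ≤ Fil A₁ A₂ (d + 2) := Fil_mono _ _ (by omega)
  have m0 : Fil A₁ A₂ d ≤ Fil A₁ A₂ (d + 2) := Fil_mono _ _ (by omega)
  exact Submodule.add_mem _ (Submodule.sub_mem _ (Submodule.sub_mem _ (Submodule.add_mem _ a12 a21)
    (Submodule.smul_mem _ _ (m1 a2))) (Submodule.smul_mem _ _ (m1 a1)))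
    (Submodule.smul_mem _ _ (m0 hh))

theorem Z_pow_mem_Fil (k : ℕ) : Zc A₁ A₂ q₁ q₂ ^ k ∈ Fil A₁ A₂ (2 * k) := by
  induction k with
  | zero => rw [pow_zero]; exact one_mem_Fil _ _ _
  | succ k ih =>
    rw [pow_succ']
    have := Z_mul_mem_Fil h₁ h₂ ih
    have e : 2 * (k + 1) = 2 * k + 2 := by ring
    rw [e]; exact this

/-- the top term of `Z * wX (2k)` -/
theorem Z_mul_wX_even {k : ℕ} (hk : 1 ≤ k) :
    Zc A₁ A₂ q₁ q₂ * wX A₁ A₂ (2 * k) - wX A₁ A₂ (2 * k + 2) ∈ Fil A₁ A₂ (2 * k + 1) := by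
  have hev : Even (2 * k) := even_two_mul k
  have hod : ¬ Even (2 * k + 1) := by simp [Nat.even_add_one]
  have e1 : A₂ * (A₁ * wX A₁ A₂ (2 * k)) = wX A₁ A₂ (2 * k + 2) := by
    rw [wX_succ_odd _ _ hod, wX_succ_even _ _ hev]
  have e2 : A₂ * wX A₁ A₂ (2 * k) ∈ Fil A₁ A₂ (2 * k) := by
    rw [A₂_mul_wX h₁ h₂, if_pos hev, if_neg (by omega)]
    exact Submodule.add_mem _ (Submodule.smul_mem _ _ (wX_mem_Fil _ _ (by omega)))
      (Submodule.smul_mem _ _ (wX_mem_Fil _ _ (by omega)))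
  have e3 : A₁ * (A₂ * wX A₁ A₂ (2 * k)) ∈ Fil A₁ A₂ (2 * k + 1) := A₁_mul_mem_Fil h₁ h₂ e2
  have e4 : A₁ * wX A₁ A₂ (2 * k) ∈ Fil A₁ A₂ (2 * k + 1) := by
    rw [← wX_succ_even _ _ hev]; exact wX_mem_Fil _ _ (le_refl _)
  have e5 : wX A₁ A₂ (2 * k) ∈ Fil A₁ A₂ (2 * k + 1) := wX_mem_Fil _ _ (by omega)
  have m0 : Fil A₁ A₂ (2 * k) ≤ Fil A₁ A₂ (2 * k + 1) := Fil_mono _ _ (by omega)
  have key : Zc A₁ A₂ q₁ q₂ * wX A₁ A₂ (2 * k) - wX A₁ A₂ (2 * k + 2) =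
      A₁ * (A₂ * wX A₁ A₂ (2 * k)) - (q₁ - 1) • (A₂ * wX A₁ A₂ (2 * k))
        - (q₂ - 1) • (A₁ * wX A₁ A₂ (2 * k)) + ((q₁ - 1) * (q₂ - 1)) • wX A₁ A₂ (2 * k) := by
    rw [← e1]
    unfold Zc
    simp only [add_mul, sub_mul, smul_mul_assoc, one_mul, mul_assoc]
    abel
  rw [key]
  exact Submodule.add_mem _ (Submodule.sub_mem _ (Submodule.sub_mem _ e3
    (Submodule.smul_mem _ _ (m0 e2))) (Submodule.smul_mem _ _ e4)) (Submodule.smul_mem _ _ e5)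

end hecke

theorem Zc_swap {𝒜 : Type*} [Ring 𝒜] [Algebra ℝ 𝒜] (A₁ A₂ : 𝒜) (q₁ q₂ : ℝ) :
    Zc A₂ A₁ q₂ q₁ = Zc A₁ A₂ q₁ q₂ := by
  unfold Zc
  rw [mul_comm (q₂ - 1) (q₁ - 1)]
  abel

section hecke2

variable {A₁ A₂ : Matrix Ω Ω ℝ} {q₁ q₂ : ℝ}
variable (h₁ : A₁ * A₁ = q₁ • (1 : Matrix Ω Ω ℝ) + (q₁ - 1) • A₁)
  (h₂ : A₂ * A₂ = q₂ • (1 : Matrix Ω Ω ℝ) + (q₂ - 1) • A₂)
include h₁ h₂

theorem Z_mul_wY_even {k : ℕ} (hk : 1 ≤ k) :
    Zc A₁ A₂ q₁ q₂ * wX A₂ A₁ (2 * k) - wX A₂ A₁ (2 * k + 2) ∈ Fil A₁ A₂ (2 * k + 1) := by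
  rw [← Zc_swap, Fil_swap]
  exact Z_mul_wX_even h₂ h₁ hk

/-- the top term of `Z ^ k` -/
theorem top_term {k : ℕ} (hk : 1 ≤ k) :
    Zc A₁ A₂ q₁ q₂ ^ k - wX A₁ A₂ (2 * k) - wX A₂ A₁ (2 * k) ∈ Fil A₁ A₂ (2 * k - 1) := by
  induction k, hk using Nat.le_induction with
  | base =>
    have e : Zc A₁ A₂ q₁ q₂ ^ 1 - wX A₁ A₂ (2 * 1) - wX A₂ A₁ (2 * 1) =
        - (q₁ - 1) • A₂ - (q₂ - 1) • A₁ + ((q₁ - 1) * (q₂ - 1)) • (1 : Matrix Ω Ω ℝ) := by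
      rw [pow_one, wX_even, wX_even, pow_one, pow_one]
      unfold Zc
      module
    rw [e]
    have a1 : A₁ ∈ Fil A₁ A₂ (2 * 1 - 1) := by
      have := wX_mem_Fil A₁ A₂ (ℓ := 1) (d := 2 * 1 - 1) (by norm_num)
      rwa [wX_one] at this
    have a2 : A₂ ∈ Fil A₁ A₂ (2 * 1 - 1) := by
      have := wY_mem_Fil A₁ A₂ (ℓ := 1) (d := 2 * 1 - 1) (by norm_num)
      rwa [wX_one] at this
    exact Submodule.add_mem _ (Submodule.sub_mem _ (Submodule.smul_mem _ _ a2)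
      (Submodule.smul_mem _ _ a1)) (Submodule.smul_mem _ _ (one_mem_Fil _ _ _))
  | succ k hk ih =>
    have e : Zc A₁ A₂ q₁ q₂ ^ (k + 1) - wX A₁ A₂ (2 * (k + 1)) - wX A₂ A₁ (2 * (k + 1)) =
        Zc A₁ A₂ q₁ q₂ * (Zc A₁ A₂ q₁ q₂ ^ k - wX A₁ A₂ (2 * k) - wX A₂ A₁ (2 * k))
        + (Zc A₁ A₂ q₁ q₂ * wX A₁ A₂ (2 * k) - wX A₁ A₂ (2 * k + 2))
        + (Zc A₁ A₂ q₁ q₂ * wX A₂ A₁ (2 * k) - wX A₂ A₁ (2 * k + 2)) := by
      have e' : 2 * (k + 1) = 2 * k + 2 := by ring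
      rw [e', pow_succ', mul_sub, mul_sub]
      abel
    rw [e]
    have a1 := Z_mul_mem_Fil h₁ h₂ ih
    have e2 : 2 * k - 1 + 2 = 2 * (k + 1) - 1 := by omega
    have e3 : 2 * k + 1 = 2 * (k + 1) - 1 := by omega
    rw [e2] at a1
    have a2 := Z_mul_wX_even h₁ h₂ hk
    have a3 := Z_mul_wY_even h₁ h₂ hk
    rw [e3] at a2 a3
    exact Submodule.add_mem _ (Submodule.add_mem _ a1 a2) a3

end hecke2

namespace Data

variable {A₁ A₂ : Matrix Ω Ω ℝ} {q₁ q₂ n : ℕ}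

theorem ip_Fil_wX (h : Data A₁ A₂ q₁ q₂ n) {d ℓ : ℕ} (hd : d < ℓ) (hℓ : ℓ ≤ n)
    {m : Matrix Ω Ω ℝ} (hm : m ∈ Fil A₁ A₂ d) : ip m (wX A₁ A₂ ℓ) = 0 := by
  refine Submodule.span_induction (p := fun m _ => ip m (wX A₁ A₂ ℓ) = 0) ?_ ?_ ?_ ?_ hm
  · rintro M (⟨ℓ', hℓ', rfl⟩ | ⟨ℓ', hℓ', rfl⟩)
    · exact h.orthXX ℓ' ℓ (by omega) hℓ (by omega)
    · rw [ip_comm]
      exact h.orthXY ℓ ℓ' hℓ (by omega) (Or.inl (by omega))
  · exact ip_zero_left _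
  · intro x y _ _ hx hy
    rw [ip_add_left, hx, hy, add_zero]
  · intro r x _ hx
    rw [ip_smul_left, hx, mul_zero]

theorem qw_pos (h : Data A₁ A₂ q₁ q₂ n) (ℓ : ℕ) : 0 < qw (q₁ : ℝ) (q₂ : ℝ) ℓ := by
  unfold qw
  have h1 : (0 : ℝ) < q₁ := by
    have := h.hq₁
    exact_mod_cast (by omega : 0 < q₁)
  have h2 : (0 : ℝ) < q₂ := by
    have := h.hq₂
    exact_mod_cast (by omega : 0 < q₂)
  positivity

theorem symmZ (h : Data A₁ A₂ q₁ q₂ n) : (Zc A₁ A₂ (q₁ : ℝ) (q₂ : ℝ))ᵀ = Zc A₁ A₂ (q₁ : ℝ) (q₂ : ℝ) := by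
  unfold Zc
  simp only [Matrix.transpose_add, Matrix.transpose_sub, Matrix.transpose_mul, Matrix.transpose_smul,
    Matrix.transpose_one, h.symm₁, h.symm₂]
  abel

/-- a monic polynomial of small degree in `Z` does not vanish -/
theorem aeval_monic_ne_zero [Nonempty Ω] (h : Data A₁ A₂ q₁ q₂ n) {g : ℝ[X]} (hg : g.Monic)
    (hd : 1 ≤ g.natDegree) (hn : 2 * g.natDegree ≤ n) :
    aeval (Zc A₁ A₂ (q₁ : ℝ) (q₂ : ℝ)) g ≠ 0 := by
  intro h0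
  set d := g.natDegree with hdd
  set Z := Zc A₁ A₂ (q₁ : ℝ) (q₂ : ℝ) with hZ
  have hN : (0 : ℝ) < Fintype.card Ω := by exact_mod_cast Fintype.card_pos
  -- lower terms
  have hlow : ∑ i ∈ Finset.range d, g.coeff i • Z ^ i ∈ Fil A₁ A₂ (2 * d - 1) := by
    apply Submodule.sum_mem
    intro i hi
    have hi' : i < d := Finset.mem_range.mp hi
    exact Submodule.smul_mem _ _ (Fil_mono _ _ (by omega) (Z_pow_mem_Fil h.sq₁ h.sq₂ i))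
  have htop := top_term h.sq₁ h.sq₂ hd
  have hsum : aeval Z g = (∑ i ∈ Finset.range d, g.coeff i • Z ^ i
      + (Z ^ d - wX A₁ A₂ (2 * d) - wX A₂ A₁ (2 * d))) + wX A₁ A₂ (2 * d) + wX A₂ A₁ (2 * d) := by
    rw [aeval_eq_sum_range, Finset.sum_range_succ, ← hdd, hg.coeff_natDegree, one_smul]
    abel
  have hr := h.ip_Fil_wX (d := 2 * d - 1) (ℓ := 2 * d) (by omega) hn
    (Submodule.add_mem _ hlow htop)
  have hip : ip (aeval Z g) (wX A₁ A₂ (2 * d)) = 0 := by rw [h0, ip_zero_left]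
  rw [hsum, ip_add_left, ip_add_left, hr, zero_add, h.normX _ hn] at hip
  have hq := h.qw_pos (2 * d)
  rcases Nat.lt_or_ge (2 * d) n with hlt | hge
  · rw [ip_comm, h.orthXY (2 * d) (2 * d) hn hn (Or.inr ⟨by omega, hlt⟩), add_zero] at hip
    have : (0 : ℝ) < (Fintype.card Ω : ℝ) * qw (q₁ : ℝ) (q₂ : ℝ) (2 * d) := mul_pos hN hq
    linarith
  · have hdn : 2 * d = n := le_antisymm hn hge
    rw [hdn, ← h.braid, h.normX _ (le_refl n)] at hip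
    have : (0 : ℝ) < (Fintype.card Ω : ℝ) * qw (q₁ : ℝ) (q₂ : ℝ) n := by
      rw [← hdn]; exact mul_pos hN hq
    linarith

end Data

/-- the idempotents attached to a root of an annihilating polynomial of `Z` -/
structure Idem (A₁ A₂ : Matrix Ω Ω ℝ) (q₁ q₂ : ℝ) (n : ℕ) (c : ℝ) (e : Matrix Ω Ω ℝ) : Prop where
  ne : e ≠ 0
  idem : e * e = e
  symm : eᵀ = e
  Ze : Zc A₁ A₂ q₁ q₂ * e = c • e
  eZ : e * Zc A₁ A₂ q₁ q₂ = c • e
  comm₁ : e * A₁ = A₁ * e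
  comm₂ : e * A₂ = A₂ * e
  mem : e ∈ Fil A₁ A₂ n

theorem Idem.swap {A₁ A₂ : Matrix Ω Ω ℝ} {q₁ q₂ : ℝ} {n : ℕ} {c : ℝ} {e : Matrix Ω Ω ℝ}
    (h : Idem A₁ A₂ q₁ q₂ n c e) : Idem A₂ A₁ q₂ q₁ n c e where
  ne := h.ne
  idem := h.idem
  symm := h.symm
  Ze := by rw [Zc_swap]; exact h.Ze
  eZ := by rw [Zc_swap]; exact h.eZ
  comm₁ := h.comm₂
  comm₂ := h.comm₁
  mem := by rw [Fil_swap]; exact h.mem

theorem aeval_mul_of_eigen {Z G : Matrix Ω Ω ℝ} {c : ℝ} (hZG : Z * G = c • G) (f : ℝ[X]) :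
    aeval Z f * G = f.eval c • G := by
  have hpow : ∀ k : ℕ, Z ^ k * G = c ^ k • G := by
    intro k
    induction k with
    | zero => rw [pow_zero, pow_zero, one_mul, one_smul]
    | succ k ih => rw [pow_succ, mul_assoc, hZG, mul_smul_comm, ih, smul_smul, pow_succ, mul_comm]
  rw [aeval_eq_sum_range, Finset.sum_mul, eval_eq_sum_range, Finset.sum_smul]
  apply Finset.sum_congr rfl
  intro k _
  rw [smul_mul_assoc, hpow, smul_smul]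

theorem Data.exists_idem [Nonempty Ω] {A₁ A₂ : Matrix Ω Ω ℝ} {q₁ q₂ n : ℕ}
    (h : Data A₁ A₂ q₁ q₂ n) {p : ℝ[X]} (hp : p.Monic) {d : ℕ} (hdeg : p.natDegree = d + 1)
    (hd : 1 ≤ d) (hdn : 2 * d ≤ n) (hann : aeval (Zc A₁ A₂ (q₁ : ℝ) (q₂ : ℝ)) p = 0) {c : ℝ}
    (hroot : p.IsRoot c) : ∃ e, Idem A₁ A₂ (q₁ : ℝ) (q₂ : ℝ) n c e := by
  set Z := Zc A₁ A₂ (q₁ : ℝ) (q₂ : ℝ) with hZ
  set g := p /ₘ (X - C c) with hg
  have hmul : (X - C c) * g = p := mul_divByMonic_eq_iff_isRoot.mpr hroot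
  have hgm : g.Monic := by
    apply Monic.of_mul_monic_left (monic_X_sub_C c)
    rw [hmul]; exact hp
  have hgd : g.natDegree = d := by
    have := (monic_X_sub_C c).natDegree_mul hgm
    rw [hmul, hdeg, natDegree_X_sub_C] at this
    omega
  set G := aeval Z g with hG
  have hGne : G ≠ 0 := h.aeval_monic_ne_zero hgm (by omega) (by omega)
  have hZG : Z * G = c • G := by
    have : aeval Z ((X - C c) * g) = 0 := by rw [hmul]; exact hann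
    rw [map_mul, map_sub, aeval_X, aeval_C, sub_mul] at this
    rw [sub_eq_zero] at this
    rw [this, Algebra.algebraMap_eq_smul_one, smul_mul_assoc, one_mul]
  have hc1 : Commute Z A₁ := (Z_comm₁ h.sq₁ h.sq₂).symm
  have hc2 : Commute Z A₂ := (Z_comm₂ h.sq₁ h.sq₂).symm
  have hGc : ∀ B : Matrix Ω Ω ℝ, Commute Z B → Commute G B := by
    intro B hB
    rw [hG, aeval_eq_sum_range]
    exact Commute.sum_left _ _ _ (fun k _ => (hB.pow_left k).smul_left _)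
  have hGT : Gᵀ = G := by
    rw [hG, aeval_eq_sum_range, Matrix.transpose_sum]
    apply Finset.sum_congr rfl
    intro k _
    rw [Matrix.transpose_smul, Matrix.transpose_pow, h.symmZ]
  have hGG : G * G = g.eval c • G := aeval_mul_of_eigen hZG g
  have hgc : g.eval c ≠ 0 := by
    intro h0
    rw [h0, zero_smul] at hGG
    apply hGne
    apply ip_self_eq_zero
    unfold ip
    rw [hGT, hGG, Matrix.trace_zero]
  refine ⟨(g.eval c)⁻¹ • G, ?_, ?_, ?_, ?_, ?_, ?_, ?_, ?_⟩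
  · intro h0
    rcases smul_eq_zero.mp h0 with h1 | h1
    · exact hgc (inv_eq_zero.mp h1)
    · exact hGne h1
  · rw [smul_mul_assoc, mul_smul_comm, hGG, smul_smul, smul_smul]
    congr 1
    field_simp
  · rw [Matrix.transpose_smul, hGT]
  · rw [mul_smul_comm, hZG, smul_comm]
  · have hGZ : G * Z = c • G := by rw [(hGc Z (Commute.refl Z)).eq, hZG]
    rw [smul_mul_assoc, hGZ, smul_comm]
  · rw [smul_mul_assoc, (hGc A₁ hc1).eq, mul_smul_comm]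
  · rw [smul_mul_assoc, (hGc A₂ hc2).eq, mul_smul_comm]
  · exact Submodule.smul_mem _ _
      (aeval_Z_mem_top h.sq₁ h.sq₂ (by have := h.hn; omega) h.braid g)

end Cfsg.Agent.Lib.Helper6.FH
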