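/-
helper6: Feit–Higman, part 6.  The trace of an idempotent `e` of `ℝ[Z]` against the words, and
the resulting expression of `4 |Ω| / tr e` as a sum over the words.
-/
import Mathlib
import Cfsg.Agent.Lib.Helper6.FH5

set_option autoImplicit false
set_option linter.unusedSectionVars false
set_option linter.unusedSimpArgs false
set_option linter.unusedVariables false

namespace Cfsg.Agent.Lib.Helper6.FH

open Matrix Polynomial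

variable {Ω : Type*} [Fintype Ω] [DecidableEq Ω]

/-- the trace functional `h ↦ tr (e h)` -/
def trE (e : Matrix Ω Ω ℝ) : Matrix Ω Ω ℝ →ₗ[ℝ] ℝ :=
  (Matrix.traceLinearMap Ω ℝ ℝ).comp (LinearMap.mulLeft ℝ e)

theorem trE_apply (e h : Matrix Ω Ω ℝ) : trE e h = (e * h).trace := rfl

theorem trE_comm {e k : Matrix Ω Ω ℝ} (hk : e * k = k * e) (h : Matrix Ω Ω ℝ) :
    trE e (h * k) = trE e (k * h) := by
  rw [trE_apply, trE_apply, ← mul_assoc, Matrix.trace_mul_comm, ← mul_assoc, ← hk, mul_assoc]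

/-- the normalised values of the trace functional on the words -/
def sW (q₁ q₂ c : ℝ) : ℕ → ℝ
  | 0 => 2
  | 1 => q₁ - 1
  | 2 => c
  | 3 => q₁ * (q₂ - 1) + (q₁ - 1) * c
  | (ℓ + 4) => c * sW q₁ q₂ c (ℓ + 2) - q₁ * q₂ * sW q₁ q₂ c ℓ

theorem sW_add_four (q₁ q₂ c : ℝ) (ℓ : ℕ) :
    sW q₁ q₂ c (ℓ + 4) = c * sW q₁ q₂ c (ℓ + 2) - q₁ * q₂ * sW q₁ q₂ c ℓ := by
  rw [sW]

/-- the sum over the words -/
noncomputable def Ssum (q₁ q₂ : ℝ) (n : ℕ) (c : ℝ) : ℝ :=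
  ∑ ℓ ∈ Finset.range n, sW q₁ q₂ c ℓ ^ 2 / qw q₁ q₂ ℓ
    + ∑ ℓ ∈ Finset.range n, sW q₂ q₁ c (ℓ + 1) ^ 2 / qw q₂ q₁ (ℓ + 1)

section hecke

variable {A₁ A₂ : Matrix Ω Ω ℝ} {q₁ q₂ : ℝ}
variable (h₁ : A₁ * A₁ = q₁ • (1 : Matrix Ω Ω ℝ) + (q₁ - 1) • A₁)
  (h₂ : A₂ * A₂ = q₂ • (1 : Matrix Ω Ω ℝ) + (q₂ - 1) • A₂)
include h₁ h₂

/-- the four-step recursion of the words -/
theorem wX_add_four (ℓ : ℕ) : wX A₁ A₂ (ℓ + 4) =
    Zc A₁ A₂ q₁ q₂ * wX A₁ A₂ (ℓ + 2) - (q₁ * q₂) • wX A₁ A₂ ℓ := by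
  rcases Nat.even_or_odd' ℓ with ⟨k, rfl | rfl⟩
  · have e1 : 2 * k + 4 = 2 * (k + 2) := by ring
    have e2 : 2 * k + 2 = 2 * (k + 1) := by ring
    rw [e1, e2, wX_even, wX_even, wX_even, y_pow_succ_succ h₁ h₂]
  · have e1 : 2 * k + 1 + 4 = 2 * (k + 2) + 1 := by ring
    have e2 : 2 * k + 1 + 2 = 2 * (k + 1) + 1 := by ring
    rw [e1, e2, wX_odd, wX_odd, wX_odd, y_pow_succ_succ h₁ h₂, mul_sub, ← mul_assoc,
      Z_comm₁ h₁ h₂, mul_assoc, mul_smul_comm]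

variable {n : ℕ} {c : ℝ} {e : Matrix Ω Ω ℝ} (hI : Idem A₁ A₂ q₁ q₂ n c e)
include hI

theorem trE_Z_mul (h : Matrix Ω Ω ℝ) : trE e (Zc A₁ A₂ q₁ q₂ * h) = c * trE e h := by
  rw [trE_apply, trE_apply, ← mul_assoc, hI.eZ, smul_mul_assoc, Matrix.trace_smul, smul_eq_mul]

theorem trE_mul_Z (h : Matrix Ω Ω ℝ) : trE e (h * Zc A₁ A₂ q₁ q₂) = c * trE e h := by
  rw [trE_comm (by rw [hI.eZ, hI.Ze]), trE_Z_mul h₁ h₂ hI]

theorem trE_P₁ : (q₁ + 1) * trE e ((A₁ + 1) * (A₂ + 1)) = (c + (q₁ + q₂)) * trE e (A₁ + 1) := by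
  have hP₁ : e * (A₁ + 1) = (A₁ + 1) * e := by rw [mul_add, add_mul, hI.comm₁, mul_one, one_mul]
  have e1 : trE e ((A₁ + 1) * (A₂ + 1) * (A₁ + 1)) = (c + (q₁ + q₂)) * trE e (A₁ + 1) := by
    rw [P_identity₁ h₁ h₂, mul_add, map_add, trE_mul_Z h₁ h₂ hI, mul_smul_comm, mul_one, map_smul,
      smul_eq_mul]
    ring
  have e2 : trE e ((A₁ + 1) * (A₂ + 1) * (A₁ + 1)) = (q₁ + 1) * trE e ((A₁ + 1) * (A₂ + 1)) := by
    rw [trE_comm hP₁, ← mul_assoc, P_sq₁ h₁ h₂, smul_mul_assoc, map_smul, smul_eq_mul]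
  rw [← e1, e2]

theorem trE_P₂ : (q₂ + 1) * trE e ((A₁ + 1) * (A₂ + 1)) = (c + (q₁ + q₂)) * trE e (A₂ + 1) := by
  have hP₂ : e * (A₂ + 1) = (A₂ + 1) * e := by rw [mul_add, add_mul, hI.comm₂, mul_one, one_mul]
  have e1 : trE e ((A₂ + 1) * (A₁ + 1) * (A₂ + 1)) = (c + (q₁ + q₂)) * trE e (A₂ + 1) := by
    rw [P_identity₂ h₁ h₂, mul_add, map_add, trE_mul_Z h₁ h₂ hI, mul_smul_comm, mul_one, map_smul,
      smul_eq_mul]
    ring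
  have e2 : trE e ((A₂ + 1) * (A₁ + 1) * (A₂ + 1)) = (q₂ + 1) * trE e ((A₁ + 1) * (A₂ + 1)) := by
    rw [trE_comm hP₂, ← mul_assoc, P_sq₂ h₁ h₂, smul_mul_assoc, map_smul, smul_eq_mul,
      trE_comm hP₂]
  rw [← e1, e2]

theorem trE_Zeq : c * e.trace = (1 + q₁ * q₂) * e.trace - (q₂ + 1) * trE e (A₁ + 1)
    - (q₁ + 1) * trE e (A₂ + 1) + trE e ((A₁ + 1) * (A₂ + 1)) + trE e ((A₁ + 1) * (A₂ + 1)) := by
  have hP₁ : e * (A₁ + 1) = (A₁ + 1) * e := by rw [mul_add, add_mul, hI.comm₁, mul_one, one_mul]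
  have hD : trE e 1 = e.trace := by rw [trE_apply, mul_one]
  have hb' : trE e ((A₂ + 1) * (A₁ + 1)) = trE e ((A₁ + 1) * (A₂ + 1)) := trE_comm hP₁ (A₂ + 1)
  have e1 : trE e (Zc A₁ A₂ q₁ q₂) = c * e.trace := by
    have := trE_Z_mul h₁ h₂ hI 1
    rwa [mul_one, hD] at this
  have e2 := congrArg (trE e) (Z_eq_P (A₁ := A₁) (A₂ := A₂) (q₁ := q₁) (q₂ := q₂))
  rw [e1, LinearMap.map_add, LinearMap.map_add, LinearMap.map_sub, LinearMap.map_sub,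
    LinearMap.map_smul, LinearMap.map_smul, LinearMap.map_smul, hD, hb'] at e2
  rw [e2]
  simp only [smul_eq_mul]

theorem trE_basic (hcs : c + (q₁ + q₂) ≠ 0) (hc1 : c - 1 - q₁ * q₂ ≠ 0) :
    trE e A₁ = (q₁ - 1) * (e.trace / 2) ∧ trE e A₂ = (q₂ - 1) * (e.trace / 2) ∧
      trE e (A₁ * A₂) = c * (e.trace / 2) ∧ trE e (A₂ * A₁) = c * (e.trace / 2) := by
  have hD : trE e 1 = e.trace := by rw [trE_apply, mul_one]
  have E1 := trE_P₁ h₁ h₂ hI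
  have E2 := trE_P₂ h₁ h₂ hI
  have E3 := trE_Zeq h₁ h₂ hI
  have X1 : trE e (A₁ + 1) = trE e A₁ + e.trace := by rw [map_add, hD]
  have X2 : trE e (A₂ + 1) = trE e A₂ + e.trace := by rw [map_add, hD]
  have X3 : trE e ((A₁ + 1) * (A₂ + 1)) = trE e (A₁ * A₂) + trE e A₁ + trE e A₂ + e.trace := by
    rw [mul_add, add_mul, mul_one, one_mul, map_add, map_add, map_add, hD]
    ring
  have X4 : trE e (A₂ * A₁) = trE e (A₁ * A₂) := trE_comm hI.comm₁ A₂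
  rw [X4]
  generalize trE e (A₁ + 1) = a₁ at *
  generalize trE e (A₂ + 1) = a₂ at *
  generalize trE e ((A₁ + 1) * (A₂ + 1)) = b at *
  generalize trE e A₁ = t₁ at *
  generalize trE e A₂ = t₂ at *
  generalize trE e (A₁ * A₂) = t₁₂ at *
  generalize e.trace = D at *
  have key : (c - 1 - q₁ * q₂) * ((c + (q₁ + q₂)) * D - 2 * b) = 0 := by
    linear_combination (c + (q₁ + q₂)) * E3 + (q₂ + 1) * E1 + (q₁ + 1) * E2
  have hb2 : 2 * b = (c + (q₁ + q₂)) * D := by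
    rcases mul_eq_zero.mp key with h0 | h0
    · exact absurd h0 hc1
    · linarith
  have ha₁' : a₁ = (q₁ + 1) * (D / 2) := by
    apply mul_left_cancel₀ hcs
    rw [← E1]
    linear_combination ((q₁ + 1) / 2) * hb2
  have ha₂' : a₂ = (q₂ + 1) * (D / 2) := by
    apply mul_left_cancel₀ hcs
    rw [← E2]
    linear_combination ((q₂ + 1) / 2) * hb2
  have r1 : t₁ = (q₁ - 1) * (D / 2) := by linarith
  have r2 : t₂ = (q₂ - 1) * (D / 2) := by linarith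
  have r3 : t₁₂ = c * (D / 2) := by linarith
  exact ⟨r1, r2, r3, r3⟩

theorem trE_wX (hcs : c + (q₁ + q₂) ≠ 0) (hc1 : c - 1 - q₁ * q₂ ≠ 0) (ℓ : ℕ) :
    trE e (wX A₁ A₂ ℓ) = (e.trace / 2) * sW q₁ q₂ c ℓ := by
  obtain ⟨r1, r2, r3, r4⟩ := trE_basic h₁ h₂ hI hcs hc1
  induction ℓ using Nat.strong_induction_on with
  | _ ℓ ih =>
    match ℓ, ih with
    | 0, _ => rw [wX_zero, trE_apply, mul_one, sW]; ring
    | 1, _ => rw [wX_one, r1, sW]; ring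
    | 2, _ =>
      have : wX A₁ A₂ 2 = A₂ * A₁ := by
        have := wX_even A₁ A₂ 1
        rwa [pow_one] at this
      rw [this, r4, sW]; ring
    | 3, _ =>
      have : wX A₁ A₂ 3 = A₁ * (A₂ * A₁) := by
        have := wX_odd A₁ A₂ 1
        rwa [pow_one] at this
      rw [this, ← trE_comm hI.comm₁, mul_assoc, h₁, mul_add, mul_smul_comm, mul_smul_comm, mul_one,
        map_add, map_smul, map_smul, r2, r4, sW, smul_eq_mul, smul_eq_mul]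
      ring
    | (ℓ + 4), ih =>
      rw [wX_add_four h₁ h₂, map_sub, map_smul, trE_Z_mul h₁ h₂ hI, ih (ℓ + 2) (by omega),
        ih ℓ (by omega), sW_add_four, smul_eq_mul]
      ring

end hecke

namespace Data

variable {A₁ A₂ : Matrix Ω Ω ℝ} {q₁ q₂ n : ℕ}

/-- the orthogonal basis of the top level of the filtration -/
def wordFam (A₁ A₂ : Matrix Ω Ω ℝ) (n : ℕ) : Fin n ⊕ Fin n → Matrix Ω Ω ℝ
  | Sum.inl ℓ => wX A₁ A₂ ℓ
  | Sum.inr ℓ => wX A₂ A₁ (ℓ + 1)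

/-- the norms -/
noncomputable def wordNorm (Ω : Type*) [Fintype Ω] (q₁ q₂ : ℝ) (n : ℕ) : Fin n ⊕ Fin n → ℝ
  | Sum.inl ℓ => (Fintype.card Ω : ℝ) * qw q₁ q₂ ℓ
  | Sum.inr ℓ => (Fintype.card Ω : ℝ) * qw q₂ q₁ (ℓ + 1)

theorem Fil_le_span (h : Data A₁ A₂ q₁ q₂ n) :
    Fil A₁ A₂ n ≤ Submodule.span ℝ (Set.range (wordFam A₁ A₂ n)) := by
  have hn := h.hn
  apply Submodule.span_le.mpr
  rintro M (⟨ℓ, hℓ, rfl⟩ | ⟨ℓ, hℓ, rfl⟩)
  · rcases Nat.lt_or_ge ℓ n with hlt | hge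
    · exact Submodule.subset_span ⟨Sum.inl ⟨ℓ, hlt⟩, rfl⟩
    · have : ℓ = n := le_antisymm hℓ hge
      subst this
      refine Submodule.subset_span ⟨Sum.inr ⟨ℓ - 1, by omega⟩, ?_⟩
      show wX A₂ A₁ (ℓ - 1 + 1) = wX A₁ A₂ ℓ
      rw [Nat.sub_add_cancel (by omega), h.braid]
  · rcases Nat.eq_zero_or_pos ℓ with h0 | hpos
    · subst h0
      exact Submodule.subset_span ⟨Sum.inl ⟨0, by omega⟩, rfl⟩
    · refine Submodule.subset_span ⟨Sum.inr ⟨ℓ - 1, by omega⟩, ?_⟩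
      show wX A₂ A₁ (ℓ - 1 + 1) = wX A₂ A₁ ℓ
      rw [Nat.sub_add_cancel (by omega)]

theorem main_sum [Nonempty Ω] (h : Data A₁ A₂ q₁ q₂ n) {c : ℝ} {e : Matrix Ω Ω ℝ}
    (hI : Idem A₁ A₂ (q₁ : ℝ) (q₂ : ℝ) n c e) (hcs : c + ((q₁ : ℝ) + q₂) ≠ 0)
    (hc1 : c - 1 - (q₁ : ℝ) * q₂ ≠ 0) :
    e.trace * Ssum (q₁ : ℝ) (q₂ : ℝ) n c = 4 * (Fintype.card Ω : ℝ) ∧ e.trace ≠ 0 := by
  have hN : (0 : ℝ) < Fintype.card Ω := by exact_mod_cast Fintype.card_pos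
  have hee : ip e e = e.trace := by
    unfold ip
    rw [hI.symm, hI.idem]
  have hD0 : e.trace ≠ 0 := by
    intro h0
    rw [h0] at hee
    exact hI.ne (ip_self_eq_zero hee)
  have hipw : ∀ w : Matrix Ω Ω ℝ, ip e w = trE e w := by
    intro w
    rw [trE_apply]
    unfold ip
    rw [← Matrix.trace_transpose, Matrix.transpose_mul, Matrix.transpose_transpose, hI.symm,
      Matrix.trace_mul_comm]
  have hpar := parseval (wordFam A₁ A₂ n) (wordNorm Ω (q₁ : ℝ) (q₂ : ℝ) n) ?_ ?_ ?_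
    (h.Fil_le_span hI.mem)
  · rw [hee, Fintype.sum_sum_type] at hpar
    simp only [wordFam, wordNorm, hipw] at hpar
    rw [Fin.sum_univ_eq_sum_range (fun ℓ => trE e (wX A₁ A₂ ℓ) ^ 2 /
        ((Fintype.card Ω : ℝ) * qw (q₁ : ℝ) (q₂ : ℝ) ℓ)) n,
      Fin.sum_univ_eq_sum_range (fun ℓ => trE e (wX A₂ A₁ (ℓ + 1)) ^ 2 /
        ((Fintype.card Ω : ℝ) * qw (q₂ : ℝ) (q₁ : ℝ) (ℓ + 1))) n] at hpar
    have hcs' : c + ((q₂ : ℝ) + q₁) ≠ 0 := by rwa [add_comm (q₂ : ℝ)]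
    have hc1' : c - 1 - (q₂ : ℝ) * q₁ ≠ 0 := by rwa [mul_comm (q₂ : ℝ)]
    have e1 : ∀ ℓ, trE e (wX A₁ A₂ ℓ) ^ 2 / ((Fintype.card Ω : ℝ) * qw (q₁ : ℝ) (q₂ : ℝ) ℓ) =
        (e.trace ^ 2 / (4 * Fintype.card Ω)) * (sW (q₁ : ℝ) q₂ c ℓ ^ 2 / qw (q₁ : ℝ) (q₂ : ℝ) ℓ) := by
      intro ℓ
      rw [trE_wX h.sq₁ h.sq₂ hI hcs hc1]
      have := h.qw_pos ℓ
      field_simp
      ring
    have e2 : ∀ ℓ, trE e (wX A₂ A₁ (ℓ + 1)) ^ 2 /
        ((Fintype.card Ω : ℝ) * qw (q₂ : ℝ) (q₁ : ℝ) (ℓ + 1)) =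
        (e.trace ^ 2 / (4 * Fintype.card Ω)) *
          (sW (q₂ : ℝ) q₁ c (ℓ + 1) ^ 2 / qw (q₂ : ℝ) (q₁ : ℝ) (ℓ + 1)) := by
      intro ℓ
      rw [trE_wX h.sq₂ h.sq₁ hI.swap hcs' hc1']
      have := h.swap.qw_pos (ℓ + 1)
      field_simp
      ring
    simp only [e1, e2] at hpar
    rw [← Finset.mul_sum, ← Finset.mul_sum, ← mul_add] at hpar
    refine ⟨?_, hD0⟩
    unfold Ssum
    set S := ∑ ℓ ∈ Finset.range n, sW (q₁ : ℝ) q₂ c ℓ ^ 2 / qw (q₁ : ℝ) (q₂ : ℝ) ℓ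
      + ∑ ℓ ∈ Finset.range n, sW (q₂ : ℝ) q₁ c (ℓ + 1) ^ 2 / qw (q₂ : ℝ) (q₁ : ℝ) (ℓ + 1)
    have h4 : e.trace * (4 * (Fintype.card Ω : ℝ)) = e.trace ^ 2 * S := by
      calc e.trace * (4 * (Fintype.card Ω : ℝ))
          = (e.trace ^ 2 / (4 * (Fintype.card Ω : ℝ)) * S) * (4 * (Fintype.card Ω : ℝ)) := by
            rw [← hpar]
        _ = e.trace ^ 2 * S := by field_simp
    have : e.trace * (e.trace * S - 4 * (Fintype.card Ω : ℝ)) = 0 := by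
      linear_combination -h4
    rcases mul_eq_zero.mp this with h0 | h0
    · exact absurd h0 hD0
    · linarith
  · -- orthogonality
    rintro (⟨ℓ, hℓ⟩ | ⟨ℓ, hℓ⟩) (⟨ℓ', hℓ'⟩ | ⟨ℓ', hℓ'⟩) hne
    · exact h.orthXX ℓ ℓ' (by omega) (by omega) (fun he => hne (by subst he; rfl))
    · show ip (wX A₁ A₂ ℓ) (wX A₂ A₁ (ℓ' + 1)) = 0
      apply h.orthXY ℓ (ℓ' + 1) (by omega) (by omega)
      by_cases he : ℓ = ℓ' + 1
      · right; omega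
      · left; exact he
    · show ip (wX A₂ A₁ (ℓ + 1)) (wX A₁ A₂ ℓ') = 0
      rw [ip_comm]
      apply h.orthXY ℓ' (ℓ + 1) (by omega) (by omega)
      by_cases he : ℓ' = ℓ + 1
      · right; omega
      · left; exact he
    · show ip (wX A₂ A₁ (ℓ + 1)) (wX A₂ A₁ (ℓ' + 1)) = 0
      apply h.orthYY (ℓ + 1) (ℓ' + 1) (by omega) (by omega)
      intro he
      apply hne
      have : ℓ = ℓ' := by omega
      subst this
      rfl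
  · rintro (⟨ℓ, hℓ⟩ | ⟨ℓ, hℓ⟩)
    · exact h.normX ℓ (by omega)
    · exact h.normY (ℓ + 1) (by omega)
  · rintro (⟨ℓ, hℓ⟩ | ⟨ℓ, hℓ⟩)
    · exact (mul_pos hN (h.qw_pos ℓ)).ne'
    · exact (mul_pos hN (h.swap.qw_pos (ℓ + 1))).ne'

/-- the trace of an idempotent is a natural number -/
theorem trace_idem_nat {e : Matrix Ω Ω ℝ} (he : e * e = e) : ∃ D : ℕ, e.trace = D := by
  have h1 : IsIdempotentElem (Matrix.toLin' e) := by
    unfold IsIdempotentElem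
    rw [Module.End.mul_eq_comp, ← Matrix.toLin'_mul, he]
  have h2 := LinearMap.IsProj.trace (LinearMap.IsIdempotentElem.isProj_range _ h1)
  rw [Matrix.trace_toLin'_eq] at h2
  exact ⟨_, h2⟩

end Data

end Cfsg.Agent.Lib.Helper6.FH
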