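/-
helper6: Feit–Higman, part 7.  The polynomials `α_k` with `x^k = α_k(Z) x - v α_{k-1}(Z)`, the
annihilating polynomial of `Z` coming from the braid relation, and its roots `2 u cos θ`.
-/
import Mathlib
import Cfsg.Agent.Lib.Helper6.FH6

set_option autoImplicit false
set_option linter.unusedSectionVars false
set_option linter.unusedSimpArgs false
set_option linter.unusedVariables false

namespace Cfsg.Agent.Lib.Helper6.FH

open Matrix Polynomial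

/-- the polynomials `α_k` -/
noncomputable def al (v : ℝ) : ℕ → ℝ[X]
  | 0 => 0
  | 1 => 1
  | (k + 2) => X * al v (k + 1) - C v * al v k

theorem al_zero (v : ℝ) : al v 0 = 0 := by rw [al]

theorem al_one (v : ℝ) : al v 1 = 1 := by rw [al]

theorem al_add_two (v : ℝ) (k : ℕ) : al v (k + 2) = X * al v (k + 1) - C v * al v k := by rw [al]

theorem al_two (v : ℝ) : al v 2 = X := by
  rw [al_add_two, al_one, al_zero, mul_one, mul_zero, sub_zero]

theorem al_monic (v : ℝ) (k : ℕ) : (al v (k + 1)).Monic ∧ (al v (k + 1)).natDegree = k := by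
  induction k using Nat.twoStepInduction with
  | zero => rw [al_one]; exact ⟨monic_one, natDegree_one⟩
  | one => rw [al_two]; exact ⟨monic_X, natDegree_X⟩
  | more k ih1 ih2 =>
    rw [al_add_two]
    have hm : (X * al v (k + 1 + 1)).Monic := monic_X.mul ih2.1
    have hd : (X * al v (k + 1 + 1)).natDegree = k + 2 := by
      rw [natDegree_X_mul ih2.1.ne_zero, ih2.2]
    have hlt : (C v * al v (k + 1)).natDegree < (X * al v (k + 1 + 1)).natDegree := by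
      have := natDegree_C_mul_le v (al v (k + 1))
      rw [ih1.2] at this
      omega
    exact ⟨hm.sub_of_left (degree_lt_degree hlt),
      by rw [natDegree_sub_eq_left_of_natDegree_lt hlt, hd]⟩

/-- the values of `α_k` at `2 u cos θ` -/
theorem al_eval (u θ : ℝ) (k : ℕ) :
    (al (u * u) (k + 1)).eval (2 * u * Real.cos θ) * Real.sin θ = u ^ k * Real.sin ((k + 1 : ℕ) * θ) := by
  induction k using Nat.twoStepInduction with
  | zero => rw [al_one]; simp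
  | one =>
    rw [al_two, eval_X]
    have : ((1 + 1 : ℕ) : ℝ) * θ = 2 * θ := by norm_num
    rw [this, Real.sin_two_mul]
    ring
  | more k ih1 ih2 =>
    have e1 : ((k + 2 + 1 : ℕ) : ℝ) * θ = ((k + 1 + 1 : ℕ) : ℝ) * θ + θ := by push_cast; ring
    have e2 : ((k + 1 : ℕ) : ℝ) * θ = ((k + 1 + 1 : ℕ) : ℝ) * θ - θ := by push_cast; ring
    rw [e2, Real.sin_sub] at ih1
    rw [al_add_two, eval_sub, eval_mul, eval_mul, eval_X, eval_C, e1, Real.sin_add]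
    linear_combination (2 * u * Real.cos θ) * ih2 - u * u * ih1

section algebra

variable {𝒜 : Type*} [Ring 𝒜] [Algebra ℝ 𝒜]

theorem aeval_al_add_two (Z : 𝒜) (v : ℝ) (k : ℕ) :
    aeval Z (al v (k + 2)) = Z * aeval Z (al v (k + 1)) - v • aeval Z (al v k) := by
  rw [al_add_two, map_sub, map_mul, map_mul, aeval_X, aeval_C, Algebra.algebraMap_eq_smul_one,
    smul_mul_assoc, one_mul]

/-- powers of an element satisfying a quadratic relation over `Z` -/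
theorem pow_succ_eq_al {Z x : 𝒜} {v : ℝ}
    (hrec : ∀ k : ℕ, x ^ (k + 2) = Z * x ^ (k + 1) - v • x ^ k) (k : ℕ) :
    x ^ (k + 1) = aeval Z (al v (k + 1)) * x - v • aeval Z (al v k) := by
  induction k using Nat.twoStepInduction with
  | zero => rw [al_one, al_zero, map_one, map_zero, one_mul, smul_zero, sub_zero, zero_add, pow_one]
  | one =>
    rw [al_two, al_one, aeval_X, map_one, hrec 0, zero_add, pow_one, pow_zero]
  | more k ih1 ih2 =>
    rw [hrec (k + 1), ih2, ih1, aeval_al_add_two Z v (k + 1), aeval_al_add_two Z v k]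
    simp only [mul_sub, sub_mul, mul_smul_comm, smul_mul_assoc, smul_sub, mul_assoc]
    abel

theorem odd_core (Z A₁ A₂ P P' : 𝒜) (v q : ℝ)
    (hb : A₁ * (P * (A₂ * A₁) - v • P') = A₂ * (P * (A₁ * A₂) - v • P'))
    (c1 : A₁ * P = P * A₁) (c1' : A₁ * P' = P' * A₁) (c2 : A₂ * P = P * A₂)
    (c2' : A₂ * P' = P' * A₂)
    (hb3 : A₁ * A₂ * A₁ - A₂ * A₁ * A₂ = (Z + q • (1 : 𝒜)) * (A₁ - A₂))
    (hcomm : Z * P = P * Z) :
    (Z * P - v • P' + q • P) * (A₁ - A₂) = 0 := by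
  have e1 : P * (A₁ * A₂ * A₁ - A₂ * A₁ * A₂) - v • (P' * (A₁ - A₂)) = 0 := by
    have : A₁ * (P * (A₂ * A₁) - v • P') - A₂ * (P * (A₁ * A₂) - v • P') = 0 := by
      rw [hb, sub_self]
    rw [← this]
    simp only [mul_sub, mul_smul_comm, ← mul_assoc, c1, c2, c1', c2', smul_sub]
    abel
  rw [hb3] at e1
  rw [← e1, hcomm]
  simp only [mul_sub, sub_mul, add_mul, mul_add, smul_mul_assoc, mul_smul_comm, mul_one, one_mul,
    mul_assoc, smul_sub]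
  abel

end algebra

variable {Ω : Type*} [Fintype Ω] [DecidableEq Ω]

namespace Data

variable {A₁ A₂ : Matrix Ω Ω ℝ} {q₁ q₂ n : ℕ}

theorem commute_aeval₁ (h : Data A₁ A₂ q₁ q₂ n) (p : ℝ[X]) :
    A₁ * aeval (Zc A₁ A₂ (q₁ : ℝ) (q₂ : ℝ)) p = aeval (Zc A₁ A₂ (q₁ : ℝ) (q₂ : ℝ)) p * A₁ := by
  have hc : Commute A₁ (Zc A₁ A₂ (q₁ : ℝ) (q₂ : ℝ)) := Z_comm₁ h.sq₁ h.sq₂
  have : Commute A₁ (aeval (Zc A₁ A₂ (q₁ : ℝ) (q₂ : ℝ)) p) := by
    rw [aeval_eq_sum_range]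
    exact Commute.sum_right _ _ _ (fun k _ => (hc.pow_right k).smul_right _)
  exact this.eq

theorem commute_aeval₂ (h : Data A₁ A₂ q₁ q₂ n) (p : ℝ[X]) :
    A₂ * aeval (Zc A₁ A₂ (q₁ : ℝ) (q₂ : ℝ)) p = aeval (Zc A₁ A₂ (q₁ : ℝ) (q₂ : ℝ)) p * A₂ := by
  have hc : Commute A₂ (Zc A₁ A₂ (q₁ : ℝ) (q₂ : ℝ)) := Z_comm₂ h.sq₁ h.sq₂
  have : Commute A₂ (aeval (Zc A₁ A₂ (q₁ : ℝ) (q₂ : ℝ)) p) := by
    rw [aeval_eq_sum_range]
    exact Commute.sum_right _ _ _ (fun k _ => (hc.pow_right k).smul_right _)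
  exact this.eq

/-- the annihilating polynomial, `n` even -/
theorem ann_even (h : Data A₁ A₂ q₁ q₂ n) {m : ℕ} (hn : n = 2 * (m + 1)) :
    aeval (Zc A₁ A₂ (q₁ : ℝ) (q₂ : ℝ)) (al ((q₁ : ℝ) * q₂) (m + 1) *
      ((X - C (1 + (q₁ : ℝ) * q₂)) * (X + C ((q₁ : ℝ) + q₂)))) = 0 := by
  have hx := pow_succ_eq_al (x_pow_succ_succ h.sq₁ h.sq₂) m
  have hy := pow_succ_eq_al (y_pow_succ_succ h.sq₁ h.sq₂) m
  have hb := h.braid
  rw [hn, wX_even, wX_even] at hb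
  set Z := Zc A₁ A₂ (q₁ : ℝ) (q₂ : ℝ) with hZ
  have h0 : aeval Z (al ((q₁ : ℝ) * q₂) (m + 1)) * (A₁ * A₂ - A₂ * A₁) = 0 := by
    rw [mul_sub]
    have : (A₁ * A₂) ^ (m + 1) - (A₂ * A₁) ^ (m + 1) = 0 := by rw [hb, sub_self]
    rw [hx, hy] at this
    rw [← this]
    abel
  have eA : ∀ a : ℝ, aeval Z (X - C a) = Z - a • (1 : Matrix Ω Ω ℝ) := by
    intro a; rw [map_sub, aeval_X, aeval_C, Algebra.algebraMap_eq_smul_one]
  have eB : ∀ a : ℝ, aeval Z (X + C a) = Z + a • (1 : Matrix Ω Ω ℝ) := by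
    intro a; rw [map_add, aeval_X, aeval_C, Algebra.algebraMap_eq_smul_one]
  rw [map_mul, map_mul, eA, eB, ← comm_sq h.sq₁ h.sq₂, ← mul_assoc, h0, zero_mul]

/-- for odd `n` the two parameters coincide -/
theorem q_eq_of_odd (h : Data A₁ A₂ q₁ q₂ n) [Nonempty Ω] {m : ℕ} (hn : n = 2 * m + 1) :
    q₁ = q₂ := by
  have hN : (0 : ℝ) < Fintype.card Ω := by exact_mod_cast Fintype.card_pos
  have h1 := h.normX n (le_refl n)
  have h2 := h.normY n (le_refl n)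
  rw [h.braid, h2] at h1
  have h3 : qw (q₂ : ℝ) (q₁ : ℝ) n = qw (q₁ : ℝ) (q₂ : ℝ) n := mul_left_cancel₀ hN.ne' h1
  unfold qw at h3
  have e1 : (n + 1) / 2 = m + 1 := by omega
  have e2 : n / 2 = m := by omega
  rw [e1, e2] at h3
  have hq1 : (0 : ℝ) < q₁ := by
    have := h.hq₁
    exact_mod_cast (by omega : 0 < q₁)
  have hq2 : (0 : ℝ) < q₂ := by
    have := h.hq₂
    exact_mod_cast (by omega : 0 < q₂)
  have h4 : ((q₁ : ℝ) * q₂) ^ m * ((q₂ : ℝ) - q₁) = 0 := by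
    rw [mul_pow]
    linear_combination h3
  rcases mul_eq_zero.mp h4 with h5 | h5
  · exact absurd h5 (pow_pos (mul_pos hq1 hq2) m).ne'
  · have : (q₂ : ℝ) = q₁ := by linarith
    exact_mod_cast this.symm

/-- the annihilating polynomial, `n` odd -/
theorem ann_odd {q : ℕ} (h : Data A₁ A₂ q q n) {m : ℕ} (hn : n = 2 * (m + 1) + 1) :
    aeval (Zc A₁ A₂ (q : ℝ) (q : ℝ)) ((al ((q : ℝ) * q) (m + 2) + C (q : ℝ) * al ((q : ℝ) * q) (m + 1)) *
      (X - C (1 + (q : ℝ) * q))) = 0 := by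
  have hx := pow_succ_eq_al (x_pow_succ_succ h.sq₁ h.sq₂) m
  have hy := pow_succ_eq_al (y_pow_succ_succ h.sq₁ h.sq₂) m
  have hb := h.braid
  rw [hn, wX_odd, wX_odd, hx, hy] at hb
  have hb3 := braid3_eq h.sq₁ h.sq₂
  have hd := diff_sq_eq h.sq₁ h.sq₂
  have c1 := h.commute_aeval₁ (al ((q : ℝ) * q) (m + 1))
  have c1' := h.commute_aeval₁ (al ((q : ℝ) * q) m)
  have c2 := h.commute_aeval₂ (al ((q : ℝ) * q) (m + 1))
  have c2' := h.commute_aeval₂ (al ((q : ℝ) * q) m)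
  have hcomm : Zc A₁ A₂ (q : ℝ) (q : ℝ) * aeval (Zc A₁ A₂ (q : ℝ) (q : ℝ)) (al ((q : ℝ) * q) (m + 1)) =
      aeval (Zc A₁ A₂ (q : ℝ) (q : ℝ)) (al ((q : ℝ) * q) (m + 1)) * Zc A₁ A₂ (q : ℝ) (q : ℝ) := by
    have : aeval (Zc A₁ A₂ (q : ℝ) (q : ℝ)) (X * al ((q : ℝ) * q) (m + 1)) =
        aeval (Zc A₁ A₂ (q : ℝ) (q : ℝ)) (al ((q : ℝ) * q) (m + 1) * X) := by rw [mul_comm]
    rwa [map_mul, map_mul, aeval_X] at this
  have h0 := odd_core _ _ _ _ _ _ _ hb c1 c1' c2 c2' hb3 hcomm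
  have eA : ∀ a : ℝ, aeval (Zc A₁ A₂ (q : ℝ) (q : ℝ)) (X - C a) =
      Zc A₁ A₂ (q : ℝ) (q : ℝ) - a • (1 : Matrix Ω Ω ℝ) := by
    intro a; rw [map_sub, aeval_X, aeval_C, Algebra.algebraMap_eq_smul_one]
  rw [map_mul, map_add, map_mul, eA, aeval_C, Algebra.algebraMap_eq_smul_one, smul_mul_assoc, one_mul,
    aeval_al_add_two]
  have : Zc A₁ A₂ (q : ℝ) (q : ℝ) - (1 + (q : ℝ) * q) • (1 : Matrix Ω Ω ℝ) =
      - ((A₁ - A₂) * (A₁ - A₂)) := by
    rw [hd]; abel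
  rw [this, mul_neg, ← mul_assoc, h0, zero_mul, neg_zero]

end Data

end Cfsg.Agent.Lib.Helper6.FH
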