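/-
helper6: Feit–Higman, part 8.  For every angle `θ` with `sin θ ≠ 0` and `sin (n θ / 2) = 0` the
number `2 u cos θ` is an eigenvalue of `Z`, and the multiplicity `D` satisfies `D * Ssum = 4 |Ω|`.
-/
import Mathlib
import Cfsg.Agent.Lib.Helper6.FH7

set_option autoImplicit false
set_option linter.unusedSectionVars false
set_option linter.unusedSimpArgs false
set_option linter.unusedVariables false

namespace Cfsg.Agent.Lib.Helper6.FH

open Matrix Polynomial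

variable {Ω : Type*} [Fintype Ω] [DecidableEq Ω]

theorem cos_abs_lt_one {θ : ℝ} (hs : Real.sin θ ≠ 0) : -1 < Real.cos θ ∧ Real.cos θ < 1 := by
  have h1 := Real.sin_sq_add_cos_sq θ
  have h2 : 0 < Real.sin θ ^ 2 := by positivity
  constructor <;> nlinarith

/-- the two non-degeneracy conditions on `c = 2 u cos θ` -/
theorem c_conditions {q₁ q₂ : ℕ} (hq₁ : 2 ≤ q₁) (hq₂ : 2 ≤ q₂) {θ : ℝ} (hs : Real.sin θ ≠ 0) :
    2 * Real.sqrt ((q₁ : ℝ) * q₂) * Real.cos θ + ((q₁ : ℝ) + q₂) ≠ 0 ∧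
    2 * Real.sqrt ((q₁ : ℝ) * q₂) * Real.cos θ - 1 - (q₁ : ℝ) * q₂ ≠ 0 := by
  obtain ⟨hc1, hc2⟩ := cos_abs_lt_one hs
  have h1 : (2 : ℝ) ≤ q₁ := by exact_mod_cast hq₁
  have h2 : (2 : ℝ) ≤ q₂ := by exact_mod_cast hq₂
  have hpos : (0 : ℝ) < (q₁ : ℝ) * q₂ := by positivity
  set u := Real.sqrt ((q₁ : ℝ) * q₂) with hu
  have hu0 : 0 < u := Real.sqrt_pos.mpr hpos
  have huu : u * u = (q₁ : ℝ) * q₂ := Real.mul_self_sqrt hpos.le
  have hσ : 2 * u ≤ (q₁ : ℝ) + q₂ := by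
    by_contra hlt
    push_neg at hlt
    nlinarith [sq_nonneg ((q₁ : ℝ) - q₂)]
  constructor
  · have : 0 < 2 * u * Real.cos θ + ((q₁ : ℝ) + q₂) := by nlinarith
    exact this.ne'
  · have : 2 * u * Real.cos θ - 1 - (q₁ : ℝ) * q₂ < 0 := by nlinarith [sq_nonneg (u - 1)]
    exact this.ne

namespace Data

variable {A₁ A₂ : Matrix Ω Ω ℝ} {q₁ q₂ n : ℕ}

theorem exists_D [Nonempty Ω] (h : Data A₁ A₂ q₁ q₂ n) {θ : ℝ} (hs : Real.sin θ ≠ 0)
    (hn : Real.sin ((n : ℝ) * θ / 2) = 0) :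
    ∃ D : ℕ, D ≠ 0 ∧ (D : ℝ) * Ssum (q₁ : ℝ) (q₂ : ℝ) n
      (2 * Real.sqrt ((q₁ : ℝ) * q₂) * Real.cos θ) = 4 * (Fintype.card Ω : ℝ) := by
  obtain ⟨hcs, hc1⟩ := c_conditions h.hq₁ h.hq₂ hs
  have hpos : (0 : ℝ) < (q₁ : ℝ) * q₂ := by
    have := h.qw_pos 2
    unfold qw at this
    simpa using this
  set u := Real.sqrt ((q₁ : ℝ) * q₂) with hu
  have huu : u * u = (q₁ : ℝ) * q₂ := Real.mul_self_sqrt hpos.le
  -- existence of the idempotent
  have hex : ∃ e, Idem A₁ A₂ (q₁ : ℝ) (q₂ : ℝ) n (2 * u * Real.cos θ) e := by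
    have hn2 := h.hn
    rcases Nat.even_or_odd' n with ⟨k, hk | hk⟩
    · -- even
      obtain ⟨m, rfl⟩ : ∃ m, k = m + 1 := ⟨k - 1, by omega⟩
      have hmon := al_monic ((q₁ : ℝ) * q₂) m
      have hp : (al ((q₁ : ℝ) * q₂) (m + 1) *
          ((X - C (1 + (q₁ : ℝ) * q₂)) * (X + C ((q₁ : ℝ) + q₂)))).Monic :=
        hmon.1.mul ((monic_X_sub_C _).mul (monic_X_add_C _))
      have hdeg : (al ((q₁ : ℝ) * q₂) (m + 1) *
          ((X - C (1 + (q₁ : ℝ) * q₂)) * (X + C ((q₁ : ℝ) + q₂)))).natDegree = (m + 1) + 1 := by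
        rw [hmon.1.natDegree_mul ((monic_X_sub_C _).mul (monic_X_add_C _)),
          (monic_X_sub_C _).natDegree_mul (monic_X_add_C _), natDegree_X_sub_C, natDegree_X_add_C,
          hmon.2]
      refine h.exists_idem hp hdeg (by omega) (by omega) (h.ann_even hk) ?_
      have hev := al_eval u θ m
      rw [huu] at hev
      have e1 : ((m + 1 : ℕ) : ℝ) * θ = (n : ℝ) * θ / 2 := by
        rw [hk]; push_cast; ring
      rw [e1, hn, mul_zero] at hev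
      have h0 : (al ((q₁ : ℝ) * q₂) (m + 1)).eval (2 * u * Real.cos θ) = 0 := by
        rcases mul_eq_zero.mp hev with h0 | h0
        · exact h0
        · exact absurd h0 hs
      rw [IsRoot, eval_mul, h0, zero_mul]
    · -- odd
      obtain ⟨m, rfl⟩ : ∃ m, k = m + 1 := ⟨k - 1, by omega⟩
      have hq := h.q_eq_of_odd hk
      subst hq
      have huq : u = (q₁ : ℝ) := by
        rw [hu]; exact Real.sqrt_mul_self (Nat.cast_nonneg _)
      have hmon2 := al_monic ((q₁ : ℝ) * q₁) (m + 1)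
      have hmon1 := al_monic ((q₁ : ℝ) * q₁) m
      have hlt : (C (q₁ : ℝ) * al ((q₁ : ℝ) * q₁) (m + 1)).natDegree <
          (al ((q₁ : ℝ) * q₁) (m + 2)).natDegree := by
        have := natDegree_C_mul_le (q₁ : ℝ) (al ((q₁ : ℝ) * q₁) (m + 1))
        rw [hmon1.2] at this
        rw [hmon2.2]
        omega
      have hβm : (al ((q₁ : ℝ) * q₁) (m + 2) + C (q₁ : ℝ) * al ((q₁ : ℝ) * q₁) (m + 1)).Monic :=
        hmon2.1.add_of_left (degree_lt_degree hlt)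
      have hβd : (al ((q₁ : ℝ) * q₁) (m + 2) + C (q₁ : ℝ) * al ((q₁ : ℝ) * q₁) (m + 1)).natDegree
          = m + 1 := by
        rw [natDegree_add_eq_left_of_natDegree_lt hlt, hmon2.2]
      have hp : ((al ((q₁ : ℝ) * q₁) (m + 2) + C (q₁ : ℝ) * al ((q₁ : ℝ) * q₁) (m + 1)) *
          (X - C (1 + (q₁ : ℝ) * q₁))).Monic := hβm.mul (monic_X_sub_C _)
      have hdeg : ((al ((q₁ : ℝ) * q₁) (m + 2) + C (q₁ : ℝ) * al ((q₁ : ℝ) * q₁) (m + 1)) *
          (X - C (1 + (q₁ : ℝ) * q₁))).natDegree = (m + 1) + 1 := by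
        rw [hβm.natDegree_mul (monic_X_sub_C _), natDegree_X_sub_C, hβd]
      refine h.exists_idem hp hdeg (by omega) (by omega) (h.ann_odd hk) ?_
      have hev2 := al_eval (q₁ : ℝ) θ (m + 1)
      have hev1 := al_eval (q₁ : ℝ) θ m
      rw [huq]
      have e2 : ((m + 1 + 1 : ℕ) : ℝ) * θ = (n : ℝ) * θ / 2 + θ / 2 := by
        rw [hk]; push_cast; ring
      have e1 : ((m + 1 : ℕ) : ℝ) * θ = (n : ℝ) * θ / 2 - θ / 2 := by
        rw [hk]; push_cast; ring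
      rw [e2, Real.sin_add, hn] at hev2
      rw [e1, Real.sin_sub, hn] at hev1
      have h0 : ((al ((q₁ : ℝ) * q₁) (m + 2) + C (q₁ : ℝ) * al ((q₁ : ℝ) * q₁) (m + 1)).eval
          (2 * (q₁ : ℝ) * Real.cos θ)) * Real.sin θ = 0 := by
        rw [eval_add, eval_mul, eval_C]
        linear_combination hev2 + (q₁ : ℝ) * hev1
      rcases mul_eq_zero.mp h0 with h0 | h0
      · rw [IsRoot, eval_mul, h0, zero_mul]
      · exact absurd h0 hs
  obtain ⟨e, hI⟩ := hex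
  obtain ⟨hsum, hne⟩ := h.main_sum hI hcs hc1
  obtain ⟨D, hD⟩ := trace_idem_nat hI.idem
  refine ⟨D, ?_, ?_⟩
  · rintro rfl
    apply hne
    rw [hD]; simp
  · rw [← hD]; exact hsum

end Data

end Cfsg.Agent.Lib.Helper6.FH
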