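/-
helper6: Feit–Higman, part 9.  Trigonometric closed forms of the normalised traces `sW` and of the
block sums making up `Ssum`.
-/
import Mathlib
import Cfsg.Agent.Lib.Helper6.FH8

set_option autoImplicit false
set_option linter.unusedSectionVars false
set_option linter.unusedSimpArgs false
set_option linter.unusedVariables false

namespace Cfsg.Agent.Lib.Helper6.FH

open Finset Real

/-- the sum of `cos (2kθ)` -/
noncomputable def Cz (θ : ℝ) (M : ℕ) : ℝ := ∑ k ∈ range M, cos (2 * (k : ℝ) * θ)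

/-- the sum of `cos (2(k+1)θ)` -/
noncomputable def Cs (θ : ℝ) (M : ℕ) : ℝ := ∑ k ∈ range M, cos (2 * ((k : ℝ) + 1) * θ)

/-- the sum of `cos ((2k+1)θ)` -/
noncomputable def Co (θ : ℝ) (M : ℕ) : ℝ := ∑ k ∈ range M, cos ((2 * (k : ℝ) + 1) * θ)

theorem Cz_formula (θ : ℝ) (M : ℕ) : 2 * sin θ * Cz θ M = sin (2 * (M : ℝ) * θ - θ) + sin θ := by
  unfold Cz
  induction M with
  | zero => simp
  | succ M ih =>
    rw [sum_range_succ, mul_add, ih]
    have e : 2 * ((M + 1 : ℕ) : ℝ) * θ - θ = 2 * (M : ℝ) * θ + θ := by push_cast; ring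
    rw [e, sin_add, sin_sub]
    ring

theorem Co_formula (θ : ℝ) (M : ℕ) : 2 * sin θ * Co θ M = sin (2 * (M : ℝ) * θ) := by
  unfold Co
  induction M with
  | zero => simp
  | succ M ih =>
    rw [sum_range_succ, mul_add, ih]
    have e1 : 2 * ((M + 1 : ℕ) : ℝ) * θ = (2 * (M : ℝ) + 1) * θ + θ := by push_cast; ring
    have e2 : 2 * (M : ℝ) * θ = (2 * (M : ℝ) + 1) * θ - θ := by ring
    rw [e1, e2, sin_add, sin_sub]
    ring

theorem Cs_eq (θ : ℝ) (M : ℕ) : Cs θ M = Cz θ (M + 1) - 1 := by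
  unfold Cs Cz
  rw [sum_range_succ']
  simp

/-- splitting a sum according to parity -/
theorem sum_range_two_mul (f : ℕ → ℝ) (m : ℕ) :
    ∑ ℓ ∈ range (2 * m), f ℓ = ∑ k ∈ range m, f (2 * k) + ∑ k ∈ range m, f (2 * k + 1) := by
  induction m with
  | zero => simp
  | succ m ih =>
    have e : 2 * (m + 1) = 2 * m + 1 + 1 := by ring
    rw [e, sum_range_succ, sum_range_succ, ih, sum_range_succ, sum_range_succ]
    ring

theorem sum_range_two_mul_add_one (f : ℕ → ℝ) (m : ℕ) :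
    ∑ ℓ ∈ range (2 * m + 1), f ℓ =
      ∑ k ∈ range (m + 1), f (2 * k) + ∑ k ∈ range m, f (2 * k + 1) := by
  rw [sum_range_succ, sum_range_two_mul, sum_range_succ]
  ring

section closed

variable {q₁ q₂ u θ : ℝ}

theorem sW_even (huu : u * u = q₁ * q₂) (k : ℕ) :
    sW q₁ q₂ (2 * u * cos θ) (2 * k) = 2 * u ^ k * cos ((k : ℝ) * θ) := by
  induction k using Nat.twoStepInduction with
  | zero => rw [sW]; simp
  | one => rw [sW]; simp
  | more k ih1 ih2 =>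
    have e : 2 * (k + 2) = 2 * k + 4 := by ring
    have e' : 2 * k + 2 = 2 * (k + 1) := by ring
    rw [e, sW_add_four, e', ih1, ih2, ← huu]
    have e1 : ((k + 2 : ℕ) : ℝ) * θ = ((k + 1 : ℕ) : ℝ) * θ + θ := by push_cast; ring
    have e2 : (k : ℝ) * θ = ((k + 1 : ℕ) : ℝ) * θ - θ := by push_cast; ring
    rw [e1, e2, cos_add, cos_sub]
    ring

theorem sW_odd (huu : u * u = q₁ * q₂) (k : ℕ) :
    sW q₁ q₂ (2 * u * cos θ) (2 * k + 1) * (u * sin θ) =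
      u ^ k * ((q₁ - 1) * u * sin (((k : ℝ) + 1) * θ) + q₁ * (q₂ - 1) * sin ((k : ℝ) * θ)) := by
  induction k using Nat.twoStepInduction with
  | zero => rw [sW]; simp; ring
  | one =>
    rw [sW]
    have : ((1 : ℕ) : ℝ) + 1 = 2 := by norm_num
    rw [this, sin_two_mul]
    simp
    ring
  | more k ih1 ih2 =>
    have e : 2 * (k + 2) + 1 = (2 * k + 1) + 4 := by ring
    have e' : 2 * k + 1 + 2 = 2 * (k + 1) + 1 := by ring
    rw [e, sW_add_four, e', sub_mul, mul_assoc, ih2, mul_assoc (q₁ * q₂), ih1, ← huu]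
    have e1 : (((k + 2 : ℕ) : ℝ) + 1) * θ = (((k + 1 : ℕ) : ℝ) + 1) * θ + θ := by push_cast; ring
    have e2 : ((k : ℝ) + 1) * θ = (((k + 1 : ℕ) : ℝ) + 1) * θ - θ := by push_cast; ring
    have e3 : ((k + 2 : ℕ) : ℝ) * θ = ((k + 1 : ℕ) : ℝ) * θ + θ := by push_cast; ring
    have e4 : (k : ℝ) * θ = ((k + 1 : ℕ) : ℝ) * θ - θ := by push_cast; ring
    rw [e1, e2, e3, e4, sin_add, sin_sub, sin_add, sin_sub]
    ring

theorem qw_even (huu : u * u = q₁ * q₂) (k : ℕ) : qw q₁ q₂ (2 * k) = u ^ k * u ^ k := by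
  unfold qw
  have e1 : (2 * k + 1) / 2 = k := by omega
  have e2 : 2 * k / 2 = k := by omega
  rw [e1, e2, ← mul_pow, ← mul_pow, huu]

theorem qw_odd (huu : u * u = q₁ * q₂) (k : ℕ) : qw q₁ q₂ (2 * k + 1) = q₁ * (u ^ k * u ^ k) := by
  unfold qw
  have e1 : (2 * k + 1 + 1) / 2 = k + 1 := by omega
  have e2 : (2 * k + 1) / 2 = k := by omega
  rw [e1, e2, ← mul_pow u u, huu, mul_pow, pow_succ]
  ring

theorem term_even (huu : u * u = q₁ * q₂) (hu : u ≠ 0) (k : ℕ) :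
    sW q₁ q₂ (2 * u * cos θ) (2 * k) ^ 2 / qw q₁ q₂ (2 * k) = 2 + 2 * cos (2 * (k : ℝ) * θ) := by
  rw [sW_even huu, qw_even huu]
  have hk : u ^ k ≠ 0 := pow_ne_zero k hu
  have e : 2 * (k : ℝ) * θ = 2 * ((k : ℝ) * θ) := by ring
  rw [e, cos_two_mul]
  field_simp
  ring

/-- the block of the even words -/
theorem block_even (huu : u * u = q₁ * q₂) (hu : u ≠ 0) (M : ℕ) :
    ∑ k ∈ range M, sW q₁ q₂ (2 * u * cos θ) (2 * k) ^ 2 / qw q₁ q₂ (2 * k) =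
      2 * (M : ℝ) + 2 * Cz θ M := by
  unfold Cz
  induction M with
  | zero => simp
  | succ M ih =>
    rw [sum_range_succ, sum_range_succ, ih, term_even huu hu]
    push_cast
    ring

theorem block_even' (huu : u * u = q₁ * q₂) (hu : u ≠ 0) (M : ℕ) :
    ∑ k ∈ range M, sW q₁ q₂ (2 * u * cos θ) (2 * k + 1 + 1) ^ 2 / qw q₁ q₂ (2 * k + 1 + 1) =
      2 * (M : ℝ) + 2 * Cs θ M := by
  unfold Cs
  induction M with
  | zero => simp
  | succ M ih =>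
    rw [sum_range_succ, sum_range_succ, ih]
    have e : 2 * M + 1 + 1 = 2 * (M + 1) := by ring
    rw [e, term_even huu hu]
    push_cast
    ring

theorem term_odd (huu : u * u = q₁ * q₂) (hu : u ≠ 0) (hq₁ : q₁ ≠ 0) (k : ℕ) :
    sW q₁ q₂ (2 * u * cos θ) (2 * k + 1) ^ 2 / qw q₁ q₂ (2 * k + 1) * (q₁ * (u * u) * sin θ ^ 2) =
      (q₁ - 1) ^ 2 * (u * u) * ((1 - cos (2 * ((k : ℝ) + 1) * θ)) / 2)
      + (q₁ * (q₂ - 1)) ^ 2 * ((1 - cos (2 * (k : ℝ) * θ)) / 2)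
      + (q₁ - 1) * (q₁ * (q₂ - 1)) * u * (cos θ - cos ((2 * (k : ℝ) + 1) * θ)) := by
  rw [qw_odd huu]
  have hk : u ^ k ≠ 0 := pow_ne_zero k hu
  have h1 := sW_odd (θ := θ) huu k
  have h2 : sW q₁ q₂ (2 * u * cos θ) (2 * k + 1) ^ 2 / (q₁ * (u ^ k * u ^ k)) *
      (q₁ * (u * u) * sin θ ^ 2) =
      (sW q₁ q₂ (2 * u * cos θ) (2 * k + 1) * (u * sin θ)) ^ 2 / (u ^ k * u ^ k) := by
    field_simp
  rw [h2, h1]
  have e1 : 2 * ((k : ℝ) + 1) * θ = 2 * (((k : ℝ) + 1) * θ) := by ring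
  have e2 : 2 * (k : ℝ) * θ = 2 * ((k : ℝ) * θ) := by ring
  have e3 : (2 * (k : ℝ) + 1) * θ = ((k : ℝ) + 1) * θ + (k : ℝ) * θ := by ring
  have hcos : cos θ = cos (((k : ℝ) + 1) * θ) * cos ((k : ℝ) * θ)
      + sin (((k : ℝ) + 1) * θ) * sin ((k : ℝ) * θ) := by
    rw [← cos_sub]; congr 1; ring
  rw [e1, e2, e3, cos_two_mul', cos_two_mul', cos_add, hcos]
  have s1 := sin_sq_add_cos_sq (((k : ℝ) + 1) * θ)
  have s2 := sin_sq_add_cos_sq ((k : ℝ) * θ)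
  have h3 : ∀ X : ℝ, (u ^ k * X) ^ 2 / (u ^ k * u ^ k) = X ^ 2 := by
    intro X; field_simp
  rw [h3]
  linear_combination ((q₁ - 1) ^ 2 * (u * u) / 2) * s1 + ((q₁ * (q₂ - 1)) ^ 2 / 2) * s2

/-- the block of the odd words -/
theorem block_odd (huu : u * u = q₁ * q₂) (hu : u ≠ 0) (hq₁ : q₁ ≠ 0) (M : ℕ) :
    (∑ k ∈ range M, sW q₁ q₂ (2 * u * cos θ) (2 * k + 1) ^ 2 / qw q₁ q₂ (2 * k + 1)) *
        (q₁ * (u * u) * sin θ ^ 2) =
      ((M : ℝ) / 2) * ((q₁ - 1) ^ 2 * (u * u) + (q₁ * (q₂ - 1)) ^ 2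
        + (q₁ - 1) * (q₁ * (q₂ - 1)) * (2 * u * cos θ))
      - (q₁ - 1) ^ 2 * (u * u) / 2 * Cs θ M - (q₁ * (q₂ - 1)) ^ 2 / 2 * Cz θ M
      - (q₁ - 1) * (q₁ * (q₂ - 1)) * u * Co θ M := by
  unfold Cs Cz Co
  induction M with
  | zero => simp
  | succ M ih =>
    rw [sum_range_succ, add_mul, ih, term_odd huu hu hq₁, sum_range_succ, sum_range_succ,
      sum_range_succ]
    push_cast
    ring

end closed

end Cfsg.Agent.Lib.Helper6.FH
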