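/-
helper6: Feit–Higman, part 10.  The closed form of `Ssum` at `c = 2 u cos θ`, and the resulting
multiplicity formula.
-/
import Mathlib
import Cfsg.Agent.Lib.Helper6.FH9

set_option autoImplicit false
set_option linter.unusedSectionVars false
set_option linter.unusedSimpArgs false
set_option linter.unusedVariables false

namespace Cfsg.Agent.Lib.Helper6.FH

open Finset Real

section vanish

variable {θ : ℝ}

theorem vanish_even (hs : sin θ ≠ 0) {m : ℕ} (hm : sin ((m : ℝ) * θ) = 0) :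
    Cz θ m = 0 ∧ Cs θ m = 0 ∧ Co θ m = 0 := by
  have h2 : (2 : ℝ) * sin θ ≠ 0 := mul_ne_zero two_ne_zero hs
  have e : 2 * (m : ℝ) * θ = 2 * ((m : ℝ) * θ) := by ring
  have hsin : sin (2 * (m : ℝ) * θ) = 0 := by rw [e, sin_two_mul, hm]; ring
  have hcos : cos (2 * (m : ℝ) * θ) = 1 := by rw [e, cos_two_mul', hm]; nlinarith [sin_sq_add_cos_sq ((m : ℝ) * θ), hm]
  have hz : Cz θ m = 0 := by
    apply mul_left_cancel₀ h2
    rw [Cz_formula, sin_sub, hsin, hcos]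
    ring
  have hz1 : Cz θ (m + 1) = 1 := by
    apply mul_left_cancel₀ h2
    rw [Cz_formula]
    have e1 : 2 * ((m + 1 : ℕ) : ℝ) * θ - θ = 2 * (m : ℝ) * θ + θ := by push_cast; ring
    rw [e1, sin_add, hsin, hcos]
    ring
  refine ⟨hz, ?_, ?_⟩
  · rw [Cs_eq, hz1, sub_self]
  · apply mul_left_cancel₀ h2
    rw [Co_formula, hsin, mul_zero]

theorem vanish_odd (hs : sin θ ≠ 0) {m : ℕ} (hn : sin (((2 * m + 1 : ℕ) : ℝ) * θ / 2) = 0) :
    Cz θ (m + 1) + Cs θ m = 0 ∧ Cs θ m + Cz θ m + Cs θ (m + 1) + Cz θ (m + 1) = 0 ∧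
      Co θ m + Co θ (m + 1) = 0 := by
  have h2 : (2 : ℝ) * sin θ ≠ 0 := mul_ne_zero two_ne_zero hs
  set φ : ℝ := ((2 * m + 1 : ℕ) : ℝ) * θ with hφ
  have e : φ = 2 * (φ / 2) := by ring
  have hsin : sin φ = 0 := by rw [e, sin_two_mul, hn]; ring
  have hcos : cos φ = 1 := by
    rw [e, cos_two_mul']
    nlinarith [sin_sq_add_cos_sq (φ / 2), hn]
  have hz0 : 2 * sin θ * Cz θ m = - sin (2 * θ) + sin θ := by
    rw [Cz_formula]
    have e1 : 2 * (m : ℝ) * θ - θ = φ - 2 * θ := by rw [hφ]; push_cast; ring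
    rw [e1, sin_sub, hsin, hcos]
    ring
  have hz1 : 2 * sin θ * Cz θ (m + 1) = sin θ := by
    rw [Cz_formula]
    have e1 : 2 * ((m + 1 : ℕ) : ℝ) * θ - θ = φ := by rw [hφ]; push_cast; ring
    rw [e1, hsin]
    ring
  have hz2 : 2 * sin θ * Cz θ (m + 2) = sin (2 * θ) + sin θ := by
    rw [Cz_formula]
    have e1 : 2 * ((m + 2 : ℕ) : ℝ) * θ - θ = φ + 2 * θ := by rw [hφ]; push_cast; ring
    rw [e1, sin_add, hsin, hcos]
    ring
  have ho0 : 2 * sin θ * Co θ m = - sin θ := by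
    rw [Co_formula]
    have e1 : 2 * (m : ℝ) * θ = φ - θ := by rw [hφ]; push_cast; ring
    rw [e1, sin_sub, hsin, hcos]
    ring
  have ho1 : 2 * sin θ * Co θ (m + 1) = sin θ := by
    rw [Co_formula]
    have e1 : 2 * ((m + 1 : ℕ) : ℝ) * θ = φ + θ := by rw [hφ]; push_cast; ring
    rw [e1, sin_add, hsin, hcos]
    ring
  refine ⟨?_, ?_, ?_⟩
  · apply mul_left_cancel₀ h2
    rw [Cs_eq]
    linear_combination 2 * hz1
  · apply mul_left_cancel₀ h2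
    rw [Cs_eq, Cs_eq]
    linear_combination hz0 + 2 * hz1 + hz2
  · apply mul_left_cancel₀ h2
    linear_combination ho0 + ho1

end vanish

section closed

variable {q₁ q₂ u θ : ℝ}

theorem Ssum_even (hq₁ : q₁ ≠ 0) (hq₂ : q₂ ≠ 0) (hu : u ≠ 0) (huu : u * u = q₁ * q₂)
    (hs : sin θ ≠ 0) {m : ℕ} (hm : sin ((m : ℝ) * θ) = 0) :
    Ssum q₁ q₂ (2 * m) (2 * u * cos θ) * (4 * (u * u) - (2 * u * cos θ) ^ 2) =
      2 * ((2 * m : ℕ) : ℝ) * (q₁ + q₂ + 2 * u * cos θ) * (1 + u * u - 2 * u * cos θ) := by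
  obtain ⟨hz, hcs, hco⟩ := vanish_even hs hm
  have huu' : u * u = q₂ * q₁ := by rw [huu, mul_comm]
  unfold Ssum
  rw [sum_range_two_mul, sum_range_two_mul (fun ℓ => sW q₂ q₁ (2 * u * cos θ) (ℓ + 1) ^ 2 /
    qw q₂ q₁ (ℓ + 1)), block_even huu hu, block_even' huu' hu, hz, hcs]
  have hX := block_odd (θ := θ) huu hu hq₁ m
  have hY := block_odd (θ := θ) huu' hu hq₂ m
  rw [hz, hcs, hco] at hX hY
  set OX := ∑ k ∈ range m, sW q₁ q₂ (2 * u * cos θ) (2 * k + 1) ^ 2 / qw q₁ q₂ (2 * k + 1)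
  set OY := ∑ k ∈ range m, sW q₂ q₁ (2 * u * cos θ) (2 * k + 1) ^ 2 / qw q₂ q₁ (2 * k + 1)
  have hsc := sin_sq_add_cos_sq θ
  have hX' : OX * ((u * u) * sin θ ^ 2) = ((m : ℝ) / 2) * (q₂ * (q₁ - 1) ^ 2 + q₁ * (q₂ - 1) ^ 2
      + (q₁ - 1) * (q₂ - 1) * (2 * u * cos θ)) := by
    apply mul_left_cancel₀ hq₁
    rw [huu] at hX ⊢
    linear_combination hX
  have hY' : OY * ((u * u) * sin θ ^ 2) = ((m : ℝ) / 2) * (q₂ * (q₁ - 1) ^ 2 + q₁ * (q₂ - 1) ^ 2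
      + (q₁ - 1) * (q₂ - 1) * (2 * u * cos θ)) := by
    apply mul_left_cancel₀ hq₂
    rw [huu] at hY ⊢
    linear_combination hY
  push_cast
  have h4 : 4 * (u * u) - (2 * u * cos θ) ^ 2 = 4 * ((u * u) * sin θ ^ 2) := by
    linear_combination (-(4 * (u * u))) * hsc
  rw [h4]
  linear_combination 4 * hX' + 4 * hY' + (16 * (m : ℝ) * (u * u)) * hsc
    + (16 * (m : ℝ) - 4 * (m : ℝ) * (q₁ + q₂) - 4 * (m : ℝ) * (2 * u * cos θ)) * huu

theorem Ssum_odd {q : ℝ} (hq : q ≠ 0) (hs : sin θ ≠ 0) {m : ℕ}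
    (hn : sin (((2 * m + 1 : ℕ) : ℝ) * θ / 2) = 0) :
    Ssum q q (2 * m + 1) (2 * q * cos θ) * (4 * (q * q) - (2 * q * cos θ) ^ 2) =
      2 * ((2 * m + 1 : ℕ) : ℝ) * (q + q + 2 * q * cos θ) * (1 + q * q - 2 * q * cos θ) := by
  obtain ⟨v1, v2, v3⟩ := vanish_odd hs hn
  have huu : q * q = q * q := rfl
  unfold Ssum
  rw [sum_range_two_mul_add_one, sum_range_two_mul_add_one (fun ℓ => sW q q (2 * q * cos θ) (ℓ + 1) ^ 2 /
    qw q q (ℓ + 1)), block_even huu hq, block_even' huu hq]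
  have hX := block_odd (θ := θ) huu hq hq m
  have hY := block_odd (θ := θ) huu hq hq (m + 1)
  set OX := ∑ k ∈ range m, sW q q (2 * q * cos θ) (2 * k + 1) ^ 2 / qw q q (2 * k + 1)
  set OY := ∑ k ∈ range (m + 1), sW q q (2 * q * cos θ) (2 * k + 1) ^ 2 / qw q q (2 * k + 1)
  have hsc := sin_sq_add_cos_sq θ
  have hXY : (OX + OY) * ((q * q) * sin θ ^ 2) =
      (q - 1) ^ 2 * q * ((2 * m + 1 : ℕ) : ℝ) * (1 + cos θ) := by
    apply mul_left_cancel₀ hq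
    push_cast at hX hY ⊢
    linear_combination hX + hY - ((q - 1) ^ 2 * (q * q) / 2) * v2 - ((q - 1) * (q * (q - 1)) * q) * v3
  have h4 : 4 * (q * q) - (2 * q * cos θ) ^ 2 = 4 * ((q * q) * sin θ ^ 2) := by
    linear_combination (-(4 * (q * q))) * hsc
  rw [h4]
  push_cast at hXY ⊢
  linear_combination 4 * hXY + (8 * ((q * q) * sin θ ^ 2)) * v1
    + (8 * (2 * (m : ℝ) + 1) * (q * q)) * hsc

end closed

end Cfsg.Agent.Lib.Helper6.FH
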