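/-
helper6: Feit–Higman, part 11.  The multiplicity formula, rationality of the eigenvalues, and
Niven's theorem: `n ∈ {2, 3, 4, 6, 8}`.
-/
import Mathlib
import Cfsg.Agent.Lib.Helper6.FH10

set_option autoImplicit false
set_option linter.unusedSectionVars false
set_option linter.unusedSimpArgs false
set_option linter.unusedVariables false

namespace Cfsg.Agent.Lib.Helper6.FH

open Real

/-- rationality from the pair `c, -c` -/
theorem rat_of_pm {q₁ q₂ : ℕ} (hq₁ : 2 ≤ q₁) (hq₂ : 2 ≤ q₂) {c : ℝ} {ρ₁ ρ₂ : ℚ}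
    (hT : 4 * ((q₁ : ℝ) * q₂) - c ^ 2 ≠ 0)
    (h1 : ((q₁ : ℝ) + q₂ + c) * (1 + (q₁ : ℝ) * q₂ - c) = ρ₁ * (4 * ((q₁ : ℝ) * q₂) - c ^ 2))
    (h2 : ((q₁ : ℝ) + q₂ - c) * (1 + (q₁ : ℝ) * q₂ + c) = ρ₂ * (4 * ((q₁ : ℝ) * q₂) - c ^ 2)) :
    ∃ r : ℚ, c = r := by
  have g1 : (2 : ℝ) ≤ q₁ := by exact_mod_cast hq₁
  have g2 : (2 : ℝ) ≤ q₂ := by exact_mod_cast hq₂
  set T : ℝ := 4 * ((q₁ : ℝ) * q₂) - c ^ 2 with hTdef
  have hK : T * ((ρ₁ : ℝ) + ρ₂ - 2) = 2 * ((q₁ : ℝ) + q₂) * (1 + (q₁ : ℝ) * q₂) - 8 * ((q₁ : ℝ) * q₂) := by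
    have : c ^ 2 = 4 * ((q₁ : ℝ) * q₂) - T := by rw [hTdef]; ring
    linear_combination -h1 - h2 + 2 * this
  have hKpos : 0 < 2 * ((q₁ : ℝ) + q₂) * (1 + (q₁ : ℝ) * q₂) - 8 * ((q₁ : ℝ) * q₂) := by
    nlinarith [mul_nonneg (sub_nonneg.mpr g1) (sub_nonneg.mpr g2)]
  have hρ : (ρ₁ : ℝ) + ρ₂ - 2 ≠ 0 := by
    intro h0
    rw [h0, mul_zero] at hK
    linarith
  have hTq : T = ((2 * ((q₁ : ℚ) + q₂) * (1 + (q₁ : ℚ) * q₂) - 8 * ((q₁ : ℚ) * q₂)) / (ρ₁ + ρ₂ - 2) : ℚ) := by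
    push_cast
    rw [eq_div_iff hρ]
    exact hK
  have hA : 2 * c * (((q₁ : ℝ) - 1) * ((q₂ : ℝ) - 1)) = ((ρ₁ : ℝ) - ρ₂) * T := by
    linear_combination h1 - h2
  have hA0 : (2 : ℝ) * (((q₁ : ℝ) - 1) * ((q₂ : ℝ) - 1)) ≠ 0 := by
    have : 0 < ((q₁ : ℝ) - 1) * ((q₂ : ℝ) - 1) := mul_pos (by linarith) (by linarith)
    positivity
  refine ⟨(ρ₁ - ρ₂) * ((2 * ((q₁ : ℚ) + q₂) * (1 + (q₁ : ℚ) * q₂) - 8 * ((q₁ : ℚ) * q₂)) / (ρ₁ + ρ₂ - 2)) /
    (2 * (((q₁ : ℚ) - 1) * ((q₂ : ℚ) - 1))), ?_⟩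
  rw [Rat.cast_div, Rat.cast_mul, ← hTq, eq_div_iff (by push_cast; exact hA0)]
  push_cast
  linear_combination hA

/-- rationality in the equal-parameter case -/
theorem rat_of_eq {q : ℕ} (hq : 2 ≤ q) {c : ℝ} {ρ : ℚ} (hc : (q : ℝ) + q + c ≠ 0)
    (h1 : ((q : ℝ) + q + c) * (1 + (q : ℝ) * q - c) = ρ * (4 * ((q : ℝ) * q) - c ^ 2)) :
    ∃ r : ℚ, c = r := by
  have g : (2 : ℝ) ≤ q := by exact_mod_cast hq
  have h2 : 1 + (q : ℝ) * q - c = ρ * (2 * q - c) := by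
    apply mul_left_cancel₀ hc
    linear_combination h1
  have hρ : (ρ : ℝ) - 1 ≠ 0 := by
    intro h0
    have : (ρ : ℝ) = 1 := by linarith
    rw [this] at h2
    nlinarith
  refine ⟨(2 * q * ρ - 1 - q * q) / (ρ - 1), ?_⟩
  push_cast
  rw [eq_div_iff hρ]
  linear_combination h2

/-- Niven's theorem for the angles `2π / k` -/
theorem niven_nat {k : ℕ} (hk : 1 ≤ k) (h : ∃ r : ℚ, cos (2 * π / k) = r) :
    k = 1 ∨ k = 2 ∨ k = 3 ∨ k = 4 ∨ k = 6 := by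
  have hk0 : (0 : ℝ) < k := by exact_mod_cast hk
  have hniv := niven (θ := 2 * π / k) ⟨2 / k, by push_cast; ring⟩ h
  have hpi := pi_pos
  by_contra hcon
  simp only [not_or] at hcon
  obtain ⟨n1, n2, n3, n4, n6⟩ := hcon
  have h5 : k = 5 ∨ 7 ≤ k := by omega
  rcases h5 with rfl | h7
  · -- `π/3 < 2π/5 < π/2`
    have l1 : cos (2 * π / (5 : ℕ)) < cos (π / 3) := by
      apply cos_lt_cos_of_nonneg_of_le_pi (by positivity)
      · push_cast; linarith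
      · push_cast; linarith
    have l2 : cos (π / 2) < cos (2 * π / (5 : ℕ)) := by
      apply cos_lt_cos_of_nonneg_of_le_pi (by positivity)
      · linarith
      · push_cast; linarith
    rw [cos_pi_div_three] at l1
    rw [cos_pi_div_two] at l2
    simp only [Set.mem_insert_iff, Set.mem_singleton_iff] at hniv
    rcases hniv with h | h | h | h | h <;> linarith
  · have h7' : (7 : ℝ) ≤ k := by exact_mod_cast h7
    have hlt : 2 * π / k < π / 3 := by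
      rw [div_lt_div_iff₀ hk0 (by norm_num)]
      nlinarith
    have hpos : 0 < 2 * π / (k : ℝ) := by positivity
    have l1 : cos (π / 3) < cos (2 * π / k) := by
      apply cos_lt_cos_of_nonneg_of_le_pi hpos.le (by linarith) hlt
    have l2 : cos (2 * π / k) < cos 0 := by
      apply cos_lt_cos_of_nonneg_of_le_pi (le_refl 0) (by linarith) hpos
    rw [cos_pi_div_three] at l1
    rw [cos_zero] at l2
    simp only [Set.mem_insert_iff, Set.mem_singleton_iff] at hniv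
    rcases hniv with h | h | h | h | h <;> linarith

variable {Ω : Type*} [Fintype Ω] [DecidableEq Ω]

namespace Data

variable {A₁ A₂ : Matrix Ω Ω ℝ} {q₁ q₂ n : ℕ}

/-- the multiplicity formula -/
theorem mult_formula [Nonempty Ω] (h : Data A₁ A₂ q₁ q₂ n) {θ : ℝ} (hs : sin θ ≠ 0)
    (hn : sin ((n : ℝ) * θ / 2) = 0) :
    ∃ ρ : ℚ, ((q₁ : ℝ) + q₂ + 2 * sqrt ((q₁ : ℝ) * q₂) * cos θ) *
        (1 + (q₁ : ℝ) * q₂ - 2 * sqrt ((q₁ : ℝ) * q₂) * cos θ) =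
      ρ * (4 * ((q₁ : ℝ) * q₂) - (2 * sqrt ((q₁ : ℝ) * q₂) * cos θ) ^ 2) := by
  obtain ⟨D, hD0, hD⟩ := h.exists_D hs hn
  have hq1 : (0 : ℝ) < q₁ := by
    have := h.hq₁
    exact_mod_cast (by omega : 0 < q₁)
  have hq2 : (0 : ℝ) < q₂ := by
    have := h.hq₂
    exact_mod_cast (by omega : 0 < q₂)
  have hpos : (0 : ℝ) < (q₁ : ℝ) * q₂ := mul_pos hq1 hq2
  set u := sqrt ((q₁ : ℝ) * q₂) with hu
  have hu0 : 0 < u := sqrt_pos.mpr hpos
  have huu : u * u = (q₁ : ℝ) * q₂ := mul_self_sqrt hpos.le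
  have hn0 : (0 : ℝ) < n := by
    have := h.hn
    exact_mod_cast (by omega : 0 < n)
  have hD0' : (D : ℝ) ≠ 0 := by exact_mod_cast hD0
  have hN : (0 : ℝ) < Fintype.card Ω := by exact_mod_cast Fintype.card_pos
  have key : Ssum (q₁ : ℝ) (q₂ : ℝ) n (2 * u * cos θ) * (4 * (u * u) - (2 * u * cos θ) ^ 2) =
      2 * (n : ℝ) * ((q₁ : ℝ) + q₂ + 2 * u * cos θ) * (1 + u * u - 2 * u * cos θ) := by
    rcases Nat.even_or_odd' n with ⟨m, hm | hm⟩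
    · have hm' : sin ((m : ℝ) * θ) = 0 := by
        have : (m : ℝ) * θ = (n : ℝ) * θ / 2 := by rw [hm]; push_cast; ring
        rw [this, hn]
      have := Ssum_even hq1.ne' hq2.ne' hu0.ne' huu hs hm'
      rw [← hm] at this
      exact this
    · have hq := h.q_eq_of_odd hm
      subst hq
      have huq : u = (q₁ : ℝ) := by
        rw [hu]; exact sqrt_mul_self (Nat.cast_nonneg _)
      have hn' : sin (((2 * m + 1 : ℕ) : ℝ) * θ / 2) = 0 := by rw [← hm]; exact hn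
      have := Ssum_odd hq1.ne' hs hn'
      rw [← hm] at this
      rw [huq]
      exact this
  refine ⟨(4 * (Fintype.card Ω : ℚ)) / (2 * n * D), ?_⟩
  push_cast
  rw [← huu, div_mul_eq_mul_div, eq_div_iff (by positivity)]
  have : (D : ℝ) * (Ssum (q₁ : ℝ) (q₂ : ℝ) n (2 * u * cos θ) *
      (4 * (u * u) - (2 * u * cos θ) ^ 2)) = 4 * (Fintype.card Ω : ℝ) *
      (4 * (u * u) - (2 * u * cos θ) ^ 2) := by
    rw [← mul_assoc, hD]
  rw [key] at this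
  linear_combination this

end Data

end Cfsg.Agent.Lib.Helper6.FH
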