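/-
helper6: Feit–Higman, part 12.  The abstract theorem: under the hypotheses `Data` the braid
length `n` is `2, 3, 4, 6` or `8`.
-/
import Mathlib
import Cfsg.Agent.Lib.Helper6.FH11

set_option autoImplicit false
set_option linter.unusedSectionVars false
set_option linter.unusedSimpArgs false
set_option linter.unusedVariables false

namespace Cfsg.Agent.Lib.Helper6.FH

open Real

variable {Ω : Type*} [Fintype Ω] [DecidableEq Ω]

namespace Data

variable {A₁ A₂ : Matrix Ω Ω ℝ} {q₁ q₂ n : ℕ}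

theorem c_rat_even [Nonempty Ω] (h : Data A₁ A₂ q₁ q₂ n) {m : ℕ} (hnm : n = 2 * m) {θ : ℝ}
    (hs : sin θ ≠ 0) (hm : sin ((m : ℝ) * θ) = 0) :
    ∃ r : ℚ, 2 * sqrt ((q₁ : ℝ) * q₂) * cos θ = r := by
  have hn1 : sin ((n : ℝ) * θ / 2) = 0 := by
    have : (n : ℝ) * θ / 2 = (m : ℝ) * θ := by rw [hnm]; push_cast; ring
    rw [this, hm]
  have hs2 : sin (π - θ) ≠ 0 := by rw [sin_pi_sub]; exact hs
  have hn2 : sin ((n : ℝ) * (π - θ) / 2) = 0 := by
    have : (n : ℝ) * (π - θ) / 2 = (m : ℝ) * π - (m : ℝ) * θ := by rw [hnm]; push_cast; ring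
    rw [this, sin_sub, sin_nat_mul_pi, hm]
    ring
  obtain ⟨ρ₁, h1⟩ := h.mult_formula hs hn1
  obtain ⟨ρ₂, h2⟩ := h.mult_formula hs2 hn2
  rw [cos_pi_sub] at h2
  have hq1 : (0 : ℝ) < q₁ := by
    have := h.hq₁
    exact_mod_cast (by omega : 0 < q₁)
  have hq2 : (0 : ℝ) < q₂ := by
    have := h.hq₂
    exact_mod_cast (by omega : 0 < q₂)
  have hpos : (0 : ℝ) < (q₁ : ℝ) * q₂ := mul_pos hq1 hq2
  have huu : sqrt ((q₁ : ℝ) * q₂) * sqrt ((q₁ : ℝ) * q₂) = (q₁ : ℝ) * q₂ := mul_self_sqrt hpos.le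
  have hT : 4 * ((q₁ : ℝ) * q₂) - (2 * sqrt ((q₁ : ℝ) * q₂) * cos θ) ^ 2 ≠ 0 := by
    have e : 4 * ((q₁ : ℝ) * q₂) - (2 * sqrt ((q₁ : ℝ) * q₂) * cos θ) ^ 2 =
        4 * ((q₁ : ℝ) * q₂) * sin θ ^ 2 := by
      have := sin_sq_add_cos_sq θ
      linear_combination (-(4 * ((q₁ : ℝ) * q₂))) * this - (4 * cos θ ^ 2) * huu
    rw [e]
    have : 0 < sin θ ^ 2 := by positivity
    positivity
  have h2' : ((q₁ : ℝ) + q₂ - 2 * sqrt ((q₁ : ℝ) * q₂) * cos θ) *
      (1 + (q₁ : ℝ) * q₂ + 2 * sqrt ((q₁ : ℝ) * q₂) * cos θ) =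
      ρ₂ * (4 * ((q₁ : ℝ) * q₂) - (2 * sqrt ((q₁ : ℝ) * q₂) * cos θ) ^ 2) := by
    linear_combination h2
  exact rat_of_pm h.hq₁ h.hq₂ hT h1 h2'

theorem n_mem [Nonempty Ω] (h : Data A₁ A₂ q₁ q₂ n) :
    n = 2 ∨ n = 3 ∨ n = 4 ∨ n = 6 ∨ n = 8 := by
  have hn2 := h.hn
  have hq1 : (0 : ℝ) < q₁ := by
    have := h.hq₁
    exact_mod_cast (by omega : 0 < q₁)
  have hq2 : (0 : ℝ) < q₂ := by
    have := h.hq₂
    exact_mod_cast (by omega : 0 < q₂)
  have hpos : (0 : ℝ) < (q₁ : ℝ) * q₂ := mul_pos hq1 hq2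
  have hu0 : 0 < sqrt ((q₁ : ℝ) * q₂) := sqrt_pos.mpr hpos
  have huu : sqrt ((q₁ : ℝ) * q₂) * sqrt ((q₁ : ℝ) * q₂) = (q₁ : ℝ) * q₂ := mul_self_sqrt hpos.le
  have hpi := pi_pos
  rcases Nat.even_or_odd' n with ⟨m, hm | hm⟩
  · -- even
    rcases Nat.lt_or_ge m 2 with hlt | hge
    · left; omega
    · have hm0 : (0 : ℝ) < m := by exact_mod_cast (by omega : 0 < m)
      have hm2 : (2 : ℝ) ≤ m := by exact_mod_cast hge
      have hθpos : 0 < π / (m : ℝ) := by positivity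
      have hθlt : π / (m : ℝ) < π := by
        rw [div_lt_iff₀ hm0]
        nlinarith
      have hs : sin (π / m) ≠ 0 := (sin_pos_of_pos_of_lt_pi hθpos hθlt).ne'
      have hsm : sin ((m : ℝ) * (π / m)) = 0 := by
        have : (m : ℝ) * (π / m) = π := by field_simp
        rw [this, sin_pi]
      obtain ⟨r₁, hr₁⟩ := h.c_rat_even hm hs hsm
      have hcos2 : ∃ r : ℚ, cos (2 * π / m) = r := by
        refine ⟨2 * (r₁ ^ 2 / (4 * ((q₁ : ℚ) * q₂))) - 1, ?_⟩
        have e : 2 * π / (m : ℝ) = 2 * (π / m) := by ring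
        rw [e, cos_two_mul]
        have hr2 : (r₁ : ℝ) ^ 2 = 4 * ((q₁ : ℝ) * q₂) * cos (π / m) ^ 2 := by
          rw [← hr₁]
          linear_combination (4 * cos (π / m) ^ 2) * huu
        push_cast
        rw [hr2]
        field_simp
      rcases niven_nat (by omega) hcos2 with h1 | h1 | h1 | h1 | h1
      · omega
      · right; right; left; omega
      · right; right; right; left; omega
      · right; right; right; right; omega
      · -- `m = 6`
        exfalso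
        subst h1
        have hs3 : sin (π / 3) ≠ 0 :=
          (sin_pos_of_pos_of_lt_pi (by positivity) (by linarith)).ne'
        have hsm3 : sin (((6 : ℕ) : ℝ) * (π / 3)) = 0 := by
          have : ((6 : ℕ) : ℝ) * (π / 3) = 2 * π := by push_cast; ring
          rw [this, sin_two_pi]
        obtain ⟨r₂, hr₂⟩ := h.c_rat_even hm hs3 hsm3
        rw [cos_pi_div_three] at hr₂
        have e6 : π / ((6 : ℕ) : ℝ) = π / 6 := by norm_num
        rw [e6, cos_pi_div_six] at hr₁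
        have hu : sqrt ((q₁ : ℝ) * q₂) = r₂ := by linarith
        have hr₂0 : (r₂ : ℝ) ≠ 0 := by rw [← hu]; exact hu0.ne'
        have h3 : sqrt 3 = ((r₁ / r₂ : ℚ) : ℝ) := by
          push_cast
          rw [eq_div_iff hr₂0, ← hu]
          linarith
        have hirr : Irrational (sqrt ((3 : ℕ) : ℝ)) := Nat.prime_three.irrational_sqrt
        have e3 : ((3 : ℕ) : ℝ) = 3 := by norm_num
        rw [e3] at hirr
        exact hirr.ne_rat _ h3
  · -- odd
    have hq := h.q_eq_of_odd hm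
    subst hq
    have hn0 : (0 : ℝ) < n := by exact_mod_cast (by omega : 0 < n)
    have hn3 : (3 : ℝ) ≤ n := by exact_mod_cast (by omega : 3 ≤ n)
    have hθpos : 0 < 2 * π / (n : ℝ) := by positivity
    have hθlt : 2 * π / (n : ℝ) < π := by
      rw [div_lt_iff₀ hn0]
      nlinarith
    have hs : sin (2 * π / n) ≠ 0 := (sin_pos_of_pos_of_lt_pi hθpos hθlt).ne'
    have hsn : sin ((n : ℝ) * (2 * π / n) / 2) = 0 := by
      have : (n : ℝ) * (2 * π / n) / 2 = π := by field_simp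
      rw [this, sin_pi]
    obtain ⟨ρ, hρ⟩ := h.mult_formula hs hsn
    have huq : sqrt ((q₁ : ℝ) * q₁) = q₁ := sqrt_mul_self (Nat.cast_nonneg _)
    rw [huq] at hρ
    have hc := (c_conditions h.hq₁ h.hq₁ hs).1
    rw [huq] at hc
    have hc' : (q₁ : ℝ) + q₁ + 2 * q₁ * cos (2 * π / n) ≠ 0 := by
      intro h0; apply hc; linarith
    obtain ⟨r, hr⟩ := rat_of_eq h.hq₁ hc' hρ
    have hcos : ∃ r' : ℚ, cos (2 * π / n) = r' := by
      refine ⟨r / (2 * q₁), ?_⟩
      push_cast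
      rw [eq_div_iff (by positivity)]
      linarith
    rcases niven_nat (by omega) hcos with h1 | h1 | h1 | h1 | h1 <;> omega

end Data

end Cfsg.Agent.Lib.Helper6.FH
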