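/-
helper6: Feit–Higman, part 13.  Alternating words in a group generated by two involutions whose
length function changes under left multiplication by a generator: lengths, distinctness, the
braid relation, and the order of the group.
-/
import Mathlib
import Cfsg.Agent.Lib.Helper3.WordLen
import Cfsg.Agent.Lib.Helper3.Dihedral

set_option autoImplicit false
set_option linter.unusedSectionVars false
set_option linter.unusedSimpArgs false
set_option linter.unusedVariables false

namespace Cfsg.Agent.Lib.Helper6.FH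

open Cfsg.Agent.Lib.Helper3.WordLen

section gw

variable {W : Type*} [Group W]

/-- the alternating product of `ℓ` factors whose rightmost factor is `a` -/
def gw (a b : W) : ℕ → W
  | 0 => 1
  | (ℓ + 1) => (if Even ℓ then a else b) * gw a b ℓ

theorem gw_zero (a b : W) : gw a b 0 = 1 := rfl

theorem gw_succ (a b : W) (ℓ : ℕ) : gw a b (ℓ + 1) = (if Even ℓ then a else b) * gw a b ℓ := rfl

theorem gw_one (a b : W) : gw a b 1 = a := by
  rw [gw_succ, gw_zero, if_pos (by decide), mul_one]

theorem gw_even (a b : W) (k : ℕ) : gw a b (2 * k) = (b * a) ^ k := by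
  induction k with
  | zero => rw [Nat.mul_zero, gw_zero, pow_zero]
  | succ k ih =>
    have e : 2 * (k + 1) = (2 * k + 1) + 1 := by ring
    rw [e, gw_succ, if_neg (by simp [Nat.even_add_one]), gw_succ, if_pos (by simp), ih, pow_succ',
      mul_assoc]

theorem gw_odd (a b : W) (k : ℕ) : gw a b (2 * k + 1) = a * (b * a) ^ k := by
  rw [gw_succ, if_pos (by simp), gw_even]

theorem gw_cat (x y : W) (k j : ℕ) : gw x y (k + j) =
    gw (if Even k then x else y) (if Even k then y else x) j * gw x y k := by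
  induction j with
  | zero => rw [add_zero, gw_zero, one_mul]
  | succ j ih =>
    rw [← add_assoc, gw_succ, ih, gw_succ, mul_assoc]
    congr 1
    by_cases hk : Even k <;> by_cases hj : Even j <;> simp [Nat.even_add, hk, hj]

theorem gw_inv {x y : W} (hx : x * x = 1) (hy : y * y = 1) (k : ℕ) :
    (gw x y k)⁻¹ = if Even k then gw y x k else gw x y k := by
  have hxi : x⁻¹ = x := inv_eq_of_mul_eq_one_left hx
  have hyi : y⁻¹ = y := inv_eq_of_mul_eq_one_left hy
  rcases Nat.even_or_odd' k with ⟨i, rfl | rfl⟩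
  · rw [if_pos (by simp), gw_even, gw_even, ← inv_pow, mul_inv_rev, hxi, hyi]
  · rw [if_neg (by simp), gw_odd, mul_inv_rev, ← inv_pow, mul_inv_rev, hxi, hyi, mul_pow_mul]

theorem gw_mul_inv {a b : W} (ha : a * a = 1) (hb : b * b = 1) (ℓ k : ℕ) :
    gw a b ℓ * (gw b a k)⁻¹ =
      gw (if Even k then a else b) (if Even k then b else a) (k + ℓ) := by
  rw [gw_inv hb ha, gw_cat]
  by_cases hk : Even k <;> simp [hk]

end gw

/-- the hypotheses on a group generated by two involutions -/
structure Dih {W : Type*} [Group W] (S : Set W) (a b : W) : Prop where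
  hS : S = {a, b}
  ha : a * a = 1
  hb : b * b = 1
  ha1 : a ≠ 1
  hb1 : b ≠ 1
  hgen : Subgroup.closure S = ⊤
  hne : ∀ s ∈ S, ∀ w : W, len S (s * w) ≠ len S w

namespace Dih

variable {W : Type*} [Group W] {a b : W} {S : Set W}

theorem swap (h : Dih S a b) : Dih S b a where
  hS := by rw [h.hS, Set.pair_comm]
  ha := h.hb
  hb := h.ha
  ha1 := h.hb1
  hb1 := h.ha1
  hgen := h.hgen
  hne := h.hne

theorem hSq (h : Dih S a b) : ∀ s ∈ S, s * s = 1 := by
  intro s hs
  rw [h.hS] at hs
  rcases hs with rfl | rfl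
  · exact h.ha
  · exact h.hb

theorem len_step (h : Dih S a b) {s : W} (hs : s ∈ S) (w : W) :
    len S (s * w) = len S w + 1 ∨ len S (s * w) + 1 = len S w := by
  have h1 := len_mul_le h.hSq h.hgen hs w
  have h2 := len_le_mul h.hSq h.hgen hs w
  have h3 := h.hne s hs w
  omega

theorem mem_a (h : Dih S a b) : a ∈ S := by rw [h.hS]; simp

theorem mem_b (h : Dih S a b) : b ∈ S := by rw [h.hS]; simp

theorem letter_mem (h : Dih S a b) (ℓ : ℕ) : (if Even ℓ then a else b) ∈ S := by
  split_ifs
  · exact h.mem_a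
  · exact h.mem_b

theorem len_gw_le (h : Dih S a b) (ℓ : ℕ) : len S (gw a b ℓ) ≤ ℓ := by
  induction ℓ with
  | zero => rw [gw_zero, len_one]
  | succ ℓ ih =>
    rw [gw_succ]
    have := len_mul_le h.hSq h.hgen (h.letter_mem ℓ) (gw a b ℓ)
    omega

theorem len_gw_parity (h : Dih S a b) (ℓ : ℕ) : len S (gw a b ℓ) % 2 = ℓ % 2 := by
  induction ℓ with
  | zero => rw [gw_zero, len_one]
  | succ ℓ ih =>
    rw [gw_succ]
    have := h.len_step (h.letter_mem ℓ) (gw a b ℓ)
    omega

theorem order_swap (h : Dih S a b) : orderOf (a * b) = orderOf (b * a) := by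
  have : a * b = (b * a)⁻¹ := by
    rw [mul_inv_rev, inv_eq_of_mul_eq_one_left h.ha, inv_eq_of_mul_eq_one_left h.hb]
  rw [this, orderOf_inv]

theorem gw_ne_one (h : Dih S a b) {j : ℕ} (h0 : 0 < j) (hj : j < 2 * orderOf (b * a)) :
    gw a b j ≠ 1 := by
  rcases Nat.even_or_odd' j with ⟨i, rfl | rfl⟩
  · rw [gw_even]
    exact pow_ne_one_of_lt_orderOf (by omega) (by omega)
  · intro h1
    have := h.len_gw_parity (2 * i + 1)
    rw [h1, len_one] at this
    omega

theorem gw_ne_one' (h : Dih S a b) (c : Prop) [Decidable c] {j : ℕ} (h0 : 0 < j)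
    (hj : j < 2 * orderOf (b * a)) : gw (if c then a else b) (if c then b else a) j ≠ 1 := by
  by_cases hc : c
  · rw [if_pos hc, if_pos hc]; exact h.gw_ne_one h0 hj
  · rw [if_neg hc, if_neg hc]
    apply h.swap.gw_ne_one h0
    rw [h.order_swap]; exact hj

theorem eq_gw_aux (h : Dih S a b) {k : ℕ} {w s : W} (hw : len S w = k + 1) (hs : s ∈ S)
    (hsw : s * w = gw a b k) : w = gw a b (k + 1) ∨ w = gw b a (k + 1) := by
  have hss : s * s = 1 := h.hSq s hs
  have hw' : w = s * gw a b k := by rw [← hsw, ← mul_assoc, hss, one_mul]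
  by_cases hsl : s = (if Even k then a else b)
  · left; rw [hw', gw_succ, hsl]
  · have hs' : s = (if Even k then b else a) := by
      rw [h.hS] at hs
      by_cases hk : Even k
      · rw [if_pos hk] at hsl ⊢
        rcases hs with rfl | rfl
        · exact absurd rfl hsl
        · rfl
      · rw [if_neg hk] at hsl ⊢
        rcases hs with rfl | rfl
        · rfl
        · exact absurd rfl hsl
    rcases Nat.eq_zero_or_pos k with rfl | hk0
    · right
      rw [hw', gw_zero, mul_one, hs', if_pos (by decide), gw_one]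
    · exfalso
      obtain ⟨k', rfl⟩ : ∃ k', k = k' + 1 := ⟨k - 1, by omega⟩
      have : s = (if Even k' then a else b) := by
        rw [hs']
        by_cases hk' : Even k'
        · rw [if_pos hk', if_neg (by rw [Nat.even_add_one]; exact not_not.mpr hk')]
        · rw [if_neg hk', if_pos (by rw [Nat.even_add_one]; exact hk')]
      rw [gw_succ, ← this, ← mul_assoc, hss, one_mul] at hw'
      have := h.len_gw_le k'
      rw [← hw', hw] at this
      omega

theorem eq_gw_of_len (h : Dih S a b) : ∀ (k : ℕ) (w : W), len S w = k →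
    w = gw a b k ∨ w = gw b a k := by
  intro k
  induction k with
  | zero =>
    intro w hw
    left
    rw [gw_zero]
    exact (len_eq_zero_iff h.hSq h.hgen).mp hw
  | succ k ih =>
    intro w hw
    obtain ⟨s, hs, hlen⟩ := exists_cons h.hSq h.hgen hw
    rcases ih (s * w) hlen with h1 | h1
    · exact h.eq_gw_aux hw hs h1
    · exact (h.swap.eq_gw_aux hw hs h1).symm

theorem len_gw (h : Dih S a b) {ℓ : ℕ} (hℓ : ℓ ≤ orderOf (b * a)) : len S (gw a b ℓ) = ℓ := by
  by_contra hcon
  have hle := h.len_gw_le ℓ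
  obtain ⟨k, hk⟩ : ∃ k, len S (gw a b ℓ) = k := ⟨_, rfl⟩
  rw [hk] at hcon hle
  have hlt : k < ℓ := by omega
  rcases h.eq_gw_of_len k (gw a b ℓ) hk with h1 | h1
  · obtain ⟨j, rfl⟩ : ∃ j, ℓ = k + j := ⟨ℓ - k, by omega⟩
    rw [gw_cat] at h1
    have h2 := mul_eq_right.mp h1
    exact h.gw_ne_one' (Even k) (by omega) (by omega) h2
  · have h2 : gw a b ℓ * (gw b a k)⁻¹ = 1 := by rw [h1, mul_inv_cancel]
    rw [gw_mul_inv h.ha h.hb] at h2
    have hℓ0 : 0 < ℓ := by omega
    exact h.gw_ne_one' (Even k) (by omega) (by omega) h2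

theorem gw_ne_gw (h : Dih S a b) {ℓ : ℕ} (h0 : 0 < ℓ) (hℓ : ℓ < orderOf (b * a)) :
    gw a b ℓ ≠ gw b a ℓ := by
  intro h1
  have h2 : gw a b ℓ * (gw b a ℓ)⁻¹ = 1 := by rw [h1, mul_inv_cancel]
  rw [gw_mul_inv h.ha h.hb] at h2
  exact h.gw_ne_one' (Even ℓ) (by omega) (by omega) h2

theorem gw_braid (h : Dih S a b) : gw a b (orderOf (b * a)) = gw b a (orderOf (b * a)) := by
  have h2 : gw a b (orderOf (b * a)) * (gw b a (orderOf (b * a)))⁻¹ = 1 := by
    rw [gw_mul_inv h.ha h.hb]
    have e : orderOf (b * a) + orderOf (b * a) = 2 * orderOf (b * a) := by ring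
    rw [e, gw_even]
    by_cases hk : Even (orderOf (b * a))
    · rw [if_pos hk, if_pos hk]; exact pow_orderOf_eq_one _
    · rw [if_neg hk, if_neg hk, ← h.order_swap]; exact pow_orderOf_eq_one _
  exact mul_inv_eq_one.mp h2

theorem card_eq (h : Dih S a b) [Finite W] : Nat.card W = 2 * orderOf (b * a) := by
  have hx : (b * a) ^ (orderOf (b * a)) = 1 := pow_orderOf_eq_one _
  have hsx : a * (b * a) * a = (b * a)⁻¹ := by
    rw [mul_inv_rev, inv_eq_of_mul_eq_one_left h.ha, inv_eq_of_mul_eq_one_left h.hb, mul_assoc,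
      mul_assoc, h.ha, mul_one]
  have hnot : a ∉ Subgroup.zpowers (b * a) := by
    intro hmem
    rw [← mem_powers_iff_mem_zpowers, Submonoid.mem_powers_iff] at hmem
    obtain ⟨i, hi⟩ := hmem
    rw [← gw_even] at hi
    have h1 := h.len_gw_parity (2 * i)
    rw [hi, len_gen h.hSq h.hgen h.mem_a h.ha1] at h1
    omega
  have hinj := Cfsg.Agent.Lib.Helper3.dihLift_injective (b * a) a hx h.ha hsx rfl hnot
  have hrange := Cfsg.Agent.Lib.Helper3.dihLift_range (b * a) a hx h.ha hsx
  have htop : Subgroup.closure ({b * a, a} : Set W) = ⊤ := by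
    rw [eq_top_iff, ← h.hgen, Subgroup.closure_le, h.hS]
    rintro x (rfl | rfl)
    · exact Subgroup.subset_closure (by simp)
    · have : x = (x * a) * a⁻¹ := by group
      rw [this]
      exact Subgroup.mul_mem _ (Subgroup.subset_closure (by simp))
        (Subgroup.inv_mem _ (Subgroup.subset_closure (by simp)))
  rw [htop] at hrange
  have hsurj : Function.Surjective (Cfsg.Agent.Lib.Helper3.dihLift (b * a) a hx h.ha hsx) :=
    MonoidHom.range_eq_top.mp hrange
  rw [← Nat.card_congr (Equiv.ofBijective _ ⟨hinj, hsurj⟩), DihedralGroup.nat_card]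

end Dih

end Cfsg.Agent.Lib.Helper6.FH
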