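/-
helper6: Feit–Higman, part 14.  The cell matrices of a finite group with a (B,N)-pair acting on
the cosets of `B`: products, transposes, orthogonality, and the Hecke relation.
-/
import Mathlib
import Cfsg.Agent.Lib.Helper7.BNCount
import Cfsg.Agent.Lib.Helper6.FH12

set_option autoImplicit false
set_option linter.unusedSectionVars false
set_option linter.unusedSimpArgs false
set_option linter.unusedVariables false

namespace Cfsg.Agent.Lib.Helper6.FH

open Cfsg Cfsg.Agent.Lib.Helper3.BN Cfsg.Agent.Lib.Helper3.WordLen Cfsg.Agent.Lib.Helper7 Matrix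

variable {G : Type*} [Group G] (P : Cfsg.BNPair G)

local notation "ℓ" => len (Sbar P)

/-- the relation "in relative position `w`" on the cosets of `B` -/
def rel (w : W P) (x y : G ⧸ P.B) : Prop := (Quotient.out x)⁻¹ * Quotient.out y ∈ C P w

theorem rel_mk (w : W P) (g h : G) :
    rel P w (g : G ⧸ P.B) (h : G ⧸ P.B) ↔ g⁻¹ * h ∈ C P w := by
  unfold rel
  obtain ⟨b, hb⟩ := QuotientGroup.mk_out_eq_mul P.B g
  obtain ⟨b', hb'⟩ := QuotientGroup.mk_out_eq_mul P.B h
  rw [hb, hb']
  have e : (g * (b : G))⁻¹ * (h * (b' : G)) = (b : G)⁻¹ * (g⁻¹ * h) * (b' : G) := by group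
  rw [e]
  constructor
  · intro hm
    have h1 := C_mul_right P (C_mul_left P hm b.2) (P.B.inv_mem b'.2)
    have e2 : (b : G) * ((b : G)⁻¹ * (g⁻¹ * h) * (b' : G)) * (b' : G)⁻¹ = g⁻¹ * h := by group
    rwa [e2] at h1
  · intro hm
    exact C_mul_right P (C_mul_left P hm (P.B.inv_mem b.2)) b'.2

theorem rel_one (x y : G ⧸ P.B) : rel P 1 x y ↔ x = y := by
  induction x using QuotientGroup.induction_on with
  | H g =>
    induction y using QuotientGroup.induction_on with
    | H h => rw [rel_mk, C_one, QuotientGroup.eq]; rfl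

theorem rel_symm {w : W P} {x y : G ⧸ P.B} (h : rel P w x y) : rel P w⁻¹ y x := by
  unfold rel at h ⊢
  have := C_inv P h
  rwa [_root_.mul_inv_rev, inv_inv] at this

theorem rel_unique {w w' : W P} {x y : G ⧸ P.B} (h : rel P w x y) (h' : rel P w' x y) : w = w' :=
  eq_of_common P h h'

open Classical in
/-- the cell matrix -/
noncomputable def cellMat (w : W P) : Matrix (G ⧸ P.B) (G ⧸ P.B) ℝ :=
  fun x y => if rel P w x y then 1 else 0

open Classical in
theorem cellMat_apply (w : W P) (x y : G ⧸ P.B) :
    cellMat P w x y = if rel P w x y then 1 else 0 := rfl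

theorem cellMat_of_rel {w : W P} {x y : G ⧸ P.B} (h : rel P w x y) : cellMat P w x y = 1 := by
  classical
  rw [cellMat_apply, if_pos h]

theorem cellMat_of_not_rel {w : W P} {x y : G ⧸ P.B} (h : ¬ rel P w x y) :
    cellMat P w x y = 0 := by
  classical
  rw [cellMat_apply, if_neg h]

theorem cellMat_mul_self (w : W P) (x y : G ⧸ P.B) :
    cellMat P w x y * cellMat P w x y = cellMat P w x y := by
  classical
  rw [cellMat_apply]
  split_ifs <;> simp

theorem cellMat_transpose (w : W P) : (cellMat P w)ᵀ = cellMat P w⁻¹ := by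
  classical
  ext x y
  rw [Matrix.transpose_apply, cellMat_apply, cellMat_apply]
  have : rel P w y x ↔ rel P w⁻¹ x y := by
    constructor
    · exact rel_symm P
    · intro h
      have := rel_symm P h
      rwa [inv_inv] at this
  simp only [this]

section fin

variable [Fintype (G ⧸ P.B)] [DecidableEq (G ⧸ P.B)]

theorem cellMat_one : cellMat P 1 = (1 : Matrix (G ⧸ P.B) (G ⧸ P.B) ℝ) := by
  classical
  ext x y
  rw [cellMat_apply, Matrix.one_apply]
  simp only [rel_one]

theorem ip_eq_sum {Ω : Type*} [Fintype Ω] [DecidableEq Ω] (a b : Matrix Ω Ω ℝ) :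
    ip a b = ∑ i, ∑ j, a i j * b i j := by
  unfold ip
  rw [Matrix.trace]
  apply Finset.sum_congr rfl
  intro i _
  rw [Matrix.diag_apply, Matrix.mul_apply]
  apply Finset.sum_congr rfl
  intro j _
  rw [Matrix.transpose_apply]

theorem ip_cellMat_ne {w w' : W P} (h : w ≠ w') : ip (cellMat P w) (cellMat P w') = 0 := by
  classical
  rw [ip_eq_sum]
  apply Finset.sum_eq_zero
  intro x _
  apply Finset.sum_eq_zero
  intro y _
  by_cases h1 : rel P w x y
  · have h2 : ¬ rel P w' x y := fun h2 => h (rel_unique P h1 h2)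
    rw [cellMat_of_not_rel P h2, mul_zero]
  · rw [cellMat_of_not_rel P h1, zero_mul]

/-- multiplication of cell matrices when the lengths add -/
theorem cellMat_mul {s : G} (hs : s ∈ P.S) {w : W P} (hlt : ℓ w < ℓ (sb P s hs * w)) :
    cellMat P (sb P s hs) * cellMat P w = cellMat P (sb P s hs * w) := by
  classical
  ext x z
  rw [Matrix.mul_apply]
  induction x using QuotientGroup.induction_on with
  | H g =>
  induction z using QuotientGroup.induction_on with
  | H k =>
  by_cases hgk : rel P (sb P s hs * w) (g : G ⧸ P.B) (k : G ⧸ P.B)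
  · rw [cellMat_of_rel P hgk]
    rw [rel_mk] at hgk
    obtain ⟨a, ha, b, hb, hab⟩ := exists_mul_of_mem_C P hs w hgk
    rw [Finset.sum_eq_single ((g * a : G) : G ⧸ P.B)]
    · have h1 : rel P (sb P s hs) (g : G ⧸ P.B) ((g * a : G) : G ⧸ P.B) := by
        rw [rel_mk]
        have : g⁻¹ * (g * a) = a := by group
        rw [this]; exact ha
      have h2 : rel P w ((g * a : G) : G ⧸ P.B) (k : G ⧸ P.B) := by
        rw [rel_mk]
        have : (g * a)⁻¹ * k = a⁻¹ * (g⁻¹ * k) := by group
        rw [this, hab]
        have : a⁻¹ * (a * b) = b := by group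
        rw [this]; exact hb
      rw [cellMat_of_rel P h1, cellMat_of_rel P h2, mul_one]
    · intro y _ hy
      induction y using QuotientGroup.induction_on with
      | H h =>
      by_cases h1 : rel P (sb P s hs) (g : G ⧸ P.B) (h : G ⧸ P.B)
      · by_cases h2 : rel P w (h : G ⧸ P.B) (k : G ⧸ P.B)
        · exfalso
          rw [rel_mk] at h1 h2
          rcases inv_mul_mem_B_or_C P hs ha h1 with h3 | h3
          · apply hy
            rw [eq_comm, QuotientGroup.eq]
            have : (g * a)⁻¹ * h = a⁻¹ * (g⁻¹ * h) := by group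
            rw [this]; exact h3
          · have h4 := C_mul_C P hs (le_of_lt hlt) h3 h2
            have e : a⁻¹ * (g⁻¹ * h) * (h⁻¹ * k) = b := by
              have : a⁻¹ * (g⁻¹ * h) * (h⁻¹ * k) = a⁻¹ * (g⁻¹ * k) := by group
              rw [this, hab]; group
            rw [e] at h4
            have := eq_of_common P h4 hb
            exact sb_ne_one P hs (mul_eq_right.mp this)
        · rw [cellMat_of_not_rel P h2, mul_zero]
      · rw [cellMat_of_not_rel P h1, zero_mul]
    · intro h; exact absurd (Finset.mem_univ _) h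
  · rw [cellMat_of_not_rel P hgk]
    apply Finset.sum_eq_zero
    intro y _
    induction y using QuotientGroup.induction_on with
    | H h =>
    by_cases h1 : rel P (sb P s hs) (g : G ⧸ P.B) (h : G ⧸ P.B)
    · by_cases h2 : rel P w (h : G ⧸ P.B) (k : G ⧸ P.B)
      · exfalso
        apply hgk
        rw [rel_mk] at h1 h2 ⊢
        have := C_mul_C P hs (le_of_lt hlt) h1 h2
        have e : g⁻¹ * h * (h⁻¹ * k) = g⁻¹ * k := by group
        rwa [e] at this
      · rw [cellMat_of_not_rel P h2, mul_zero]
    · rw [cellMat_of_not_rel P h1, zero_mul]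

end fin

end Cfsg.Agent.Lib.Helper6.FH
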