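/-
helper6: Feit–Higman, part 15.  The Hecke relation for the cell matrix of a distinguished
generator, and the parameter `q_s ≥ 2`.
-/
import Mathlib
import Cfsg.Agent.Lib.Helper6.FH14

set_option autoImplicit false
set_option linter.unusedSectionVars false
set_option linter.unusedSimpArgs false
set_option linter.unusedVariables false

namespace Cfsg.Agent.Lib.Helper6.FH

open Cfsg Cfsg.Agent.Lib.Helper3.BN Cfsg.Agent.Lib.Helper3.WordLen Cfsg.Agent.Lib.Helper7 Matrix

variable {G : Type*} [Group G] (P : Cfsg.BNPair G)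

variable [Fintype (G ⧸ P.B)] [DecidableEq (G ⧸ P.B)]

/-- the row sums of a cell matrix do not depend on the row -/
theorem rowSum_eq (w : W P) (g : G) :
    ∑ y, cellMat P w (g : G ⧸ P.B) y = ∑ y, cellMat P w ((1 : G) : G ⧸ P.B) y := by
  classical
  rw [← Equiv.sum_comp (MulAction.toPerm (g⁻¹ : G)) (fun y => cellMat P w ((1 : G) : G ⧸ P.B) y)]
  apply Finset.sum_congr rfl
  intro y _
  induction y using QuotientGroup.induction_on with
  | H h =>
    have e : (MulAction.toPerm (g⁻¹ : G)) ((h : G) : G ⧸ P.B) = ((g⁻¹ * h : G) : G ⧸ P.B) := rfl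
    rw [e, cellMat_apply, cellMat_apply]
    have : rel P w (g : G ⧸ P.B) (h : G ⧸ P.B) ↔
        rel P w ((1 : G) : G ⧸ P.B) ((g⁻¹ * h : G) : G ⧸ P.B) := by
      rw [rel_mk, rel_mk, inv_one, one_mul]
    simp only [this]

open Classical in
/-- the parameter of a distinguished generator: the number of cosets of `B` in `B s B` -/
noncomputable def qn (s : G) (hs : s ∈ P.S) : ℕ :=
  (Finset.univ.filter (fun y : G ⧸ P.B => rel P (sb P s hs) ((1 : G) : G ⧸ P.B) y)).card

theorem rowSum_sb {s : G} (hs : s ∈ P.S) (x : G ⧸ P.B) :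
    ∑ y, cellMat P (sb P s hs) x y = (qn P s hs : ℝ) := by
  classical
  induction x using QuotientGroup.induction_on with
  | H g =>
    rw [rowSum_eq, qn]
    simp only [cellMat_apply]
    rw [Finset.sum_boole]

theorem not_rel_self {s : G} (hs : s ∈ P.S) (x : G ⧸ P.B) : ¬ rel P (sb P s hs) x x := by
  intro h
  have h1 : rel P 1 x x := (rel_one P x x).mpr rfl
  exact sb_ne_one P hs (rel_unique P h h1)

theorem cellMat_sb_symm {s : G} (hs : s ∈ P.S) (x y : G ⧸ P.B) :
    cellMat P (sb P s hs) y x = cellMat P (sb P s hs) x y := by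
  have := cellMat_transpose P (sb P s hs)
  rw [sb_inv] at this
  have h2 := congrFun (congrFun this x) y
  rwa [Matrix.transpose_apply] at h2

theorem two_le_qn {s : G} (hs : s ∈ P.S) : 2 ≤ qn P s hs := by
  classical
  obtain ⟨b, hb, hbs⟩ := exists_conj_not_mem P hs
  unfold qn
  apply Nat.succ_le_of_lt
  rw [Finset.one_lt_card]
  refine ⟨((s : G) : G ⧸ P.B), ?_, ((b * s : G) : G ⧸ P.B), ?_, ?_⟩
  · rw [Finset.mem_filter]
    refine ⟨Finset.mem_univ _, ?_⟩
    rw [rel_mk, inv_one, one_mul]
    exact self_mem_C P (P.subset hs)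
  · rw [Finset.mem_filter]
    refine ⟨Finset.mem_univ _, ?_⟩
    rw [rel_mk, inv_one, one_mul]
    exact C_mul_left P (self_mem_C P (P.subset hs)) hb
  · intro h
    rw [QuotientGroup.eq] at h
    apply hbs
    have : s * b * s = (s * s) * (s⁻¹ * (b * s)) := by group
    rw [this]
    exact P.B.mul_mem (P.sq_mem s hs) h

/-- the Hecke relation -/
theorem cellMat_sq {s : G} (hs : s ∈ P.S) :
    cellMat P (sb P s hs) * cellMat P (sb P s hs) =
      (qn P s hs : ℝ) • (1 : Matrix (G ⧸ P.B) (G ⧸ P.B) ℝ)
        + ((qn P s hs : ℝ) - 1) • cellMat P (sb P s hs) := by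
  classical
  ext x z
  rw [Matrix.mul_apply, Matrix.add_apply, Matrix.smul_apply, Matrix.smul_apply, smul_eq_mul,
    smul_eq_mul]
  by_cases hxz : x = z
  · subst hxz
    rw [Matrix.one_apply_eq, cellMat_of_not_rel P (not_rel_self P hs x), mul_zero, add_zero, mul_one,
      ← rowSum_sb P hs x]
    apply Finset.sum_congr rfl
    intro y _
    rw [cellMat_sb_symm P hs x y, cellMat_mul_self]
  · rw [Matrix.one_apply_ne hxz, mul_zero, zero_add]
    induction x using QuotientGroup.induction_on with
    | H g =>
    induction z using QuotientGroup.induction_on with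
    | H k =>
    by_cases hr : rel P (sb P s hs) (g : G ⧸ P.B) (k : G ⧸ P.B)
    · rw [cellMat_of_rel P hr, mul_one]
      have hterm : ∀ y : G ⧸ P.B, cellMat P (sb P s hs) (g : G ⧸ P.B) y *
          cellMat P (sb P s hs) y (k : G ⧸ P.B) =
          cellMat P (sb P s hs) (g : G ⧸ P.B) y
            - (if y = (k : G ⧸ P.B) then cellMat P (sb P s hs) (g : G ⧸ P.B) y else 0) := by
        intro y
        induction y using QuotientGroup.induction_on with
        | H h =>
        by_cases h1 : rel P (sb P s hs) (g : G ⧸ P.B) (h : G ⧸ P.B)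
        · by_cases hyk : ((h : G) : G ⧸ P.B) = (k : G ⧸ P.B)
          · rw [if_pos hyk, hyk, cellMat_of_not_rel P (not_rel_self P hs _), mul_zero, sub_self]
          · rw [if_neg hyk, sub_zero]
            have h2 : rel P (sb P s hs) (h : G ⧸ P.B) (k : G ⧸ P.B) := by
              rw [rel_mk] at h1 hr ⊢
              rcases inv_mul_mem_B_or_C P hs h1 hr with h3 | h3
              · exfalso
                apply hyk
                rw [QuotientGroup.eq]
                have : h⁻¹ * k = (g⁻¹ * h)⁻¹ * (g⁻¹ * k) := by group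
                rw [this]; exact h3
              · have : h⁻¹ * k = (g⁻¹ * h)⁻¹ * (g⁻¹ * k) := by group
                rw [this]; exact h3
            rw [cellMat_of_rel P h2, mul_one]
        · rw [cellMat_of_not_rel P h1, zero_mul]
          split_ifs <;> simp
      rw [Finset.sum_congr rfl (fun y _ => hterm y), Finset.sum_sub_distrib, rowSum_sb,
        Finset.sum_ite_eq' Finset.univ (k : G ⧸ P.B), if_pos (Finset.mem_univ _), cellMat_of_rel P hr]
    · rw [cellMat_of_not_rel P hr, mul_zero]
      apply Finset.sum_eq_zero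
      intro y _
      induction y using QuotientGroup.induction_on with
      | H h =>
      by_cases h1 : rel P (sb P s hs) (g : G ⧸ P.B) (h : G ⧸ P.B)
      · by_cases h2 : rel P (sb P s hs) (h : G ⧸ P.B) (k : G ⧸ P.B)
        · exfalso
          have h1' := rel_symm P h1
          rw [sb_inv] at h1'
          rw [rel_mk] at h1' h2
          rcases inv_mul_mem_B_or_C P hs h1' h2 with h3 | h3
          · apply hxz
            rw [QuotientGroup.eq]
            have : g⁻¹ * k = (h⁻¹ * g)⁻¹ * (h⁻¹ * k) := by group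
            rw [this]; exact h3
          · apply hr
            rw [rel_mk]
            have : g⁻¹ * k = (h⁻¹ * g)⁻¹ * (h⁻¹ * k) := by group
            rw [this]; exact h3
        · rw [cellMat_of_not_rel P h2, mul_zero]
      · rw [cellMat_of_not_rel P h1, zero_mul]

end Cfsg.Agent.Lib.Helper6.FH
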