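/-
helper6: Feit–Higman, part 16.  Assembly: a finite group with a (B,N)-pair of rank 2 gives rise to
the matrix data of part 3, whence the restriction on the order of the Weyl group.
-/
import Mathlib
import Cfsg.Agent.Lib.Helper6.FH13
import Cfsg.Agent.Lib.Helper6.FH15

set_option autoImplicit false
set_option linter.unusedSectionVars false
set_option linter.unusedSimpArgs false
set_option linter.unusedVariables false

namespace Cfsg.Agent.Lib.Helper6.FH

open Cfsg Cfsg.Agent.Lib.Helper3.BN Cfsg.Agent.Lib.Helper3.WordLen Cfsg.Agent.Lib.Helper7 Matrix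

section abstract

variable {Ω : Type*} [Fintype Ω] [DecidableEq Ω]

theorem norm_step {A X : Matrix Ω Ω ℝ} {q : ℝ} (hA : Aᵀ = A)
    (hsq : A * A = q • (1 : Matrix Ω Ω ℝ) + (q - 1) • A) (horth : ip (A * X) X = 0) :
    ip (A * X) (A * X) = q * ip X X := by
  have h1 : ip (A * X) (A * X) = ((A * A) * (X * Xᵀ)).trace := by
    unfold ip
    rw [Matrix.transpose_mul, hA, ← mul_assoc, Matrix.trace_mul_comm, ← mul_assoc, ← mul_assoc,
      mul_assoc (A * A)]
  rw [h1, hsq, add_mul, Matrix.trace_add, smul_mul_assoc, smul_mul_assoc, Matrix.trace_smul,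
    Matrix.trace_smul, one_mul, smul_eq_mul, smul_eq_mul]
  have h2 : (A * (X * Xᵀ)).trace = ip (A * X) X := by
    unfold ip
    rw [mul_assoc]
  rw [h2, horth, mul_zero, add_zero]
  rfl

theorem qw_succ (q₁ q₂ : ℝ) (ℓ : ℕ) :
    qw q₁ q₂ (ℓ + 1) = (if Even ℓ then q₁ else q₂) * qw q₁ q₂ ℓ := by
  unfold qw
  rcases Nat.even_or_odd' ℓ with ⟨k, rfl | rfl⟩
  · rw [if_pos (by simp)]
    have e1 : (2 * k + 1 + 1) / 2 = k + 1 := by omega
    have e2 : (2 * k + 1) / 2 = k := by omega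
    have e3 : 2 * k / 2 = k := by omega
    rw [e1, e2, e3, pow_succ]
    ring
  · rw [if_neg (by simp)]
    have e1 : (2 * k + 1 + 1 + 1) / 2 = k + 1 := by omega
    have e2 : (2 * k + 1 + 1) / 2 = k + 1 := by omega
    have e3 : (2 * k + 1) / 2 = k := by omega
    rw [e1, e2, e3, pow_succ q₂]
    ring

theorem norm_of_orth {A₁ A₂ : Matrix Ω Ω ℝ} {q₁ q₂ : ℝ} {n : ℕ} (h₁ : A₁ᵀ = A₁) (h₂ : A₂ᵀ = A₂)
    (hsq₁ : A₁ * A₁ = q₁ • (1 : Matrix Ω Ω ℝ) + (q₁ - 1) • A₁)
    (hsq₂ : A₂ * A₂ = q₂ • (1 : Matrix Ω Ω ℝ) + (q₂ - 1) • A₂)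
    (horth : ∀ ℓ ℓ', ℓ ≤ n → ℓ' ≤ n → ℓ ≠ ℓ' → ip (wX A₁ A₂ ℓ) (wX A₁ A₂ ℓ') = 0) :
    ∀ ℓ ≤ n, ip (wX A₁ A₂ ℓ) (wX A₁ A₂ ℓ) = (Fintype.card Ω : ℝ) * qw q₁ q₂ ℓ := by
  intro ℓ
  induction ℓ with
  | zero =>
    intro _
    unfold ip qw
    rw [wX_zero, Matrix.transpose_one, mul_one, Matrix.trace_one]
    simp
  | succ ℓ ih =>
    intro hℓ
    rw [qw_succ, wX_succ]
    have ho := horth (ℓ + 1) ℓ hℓ (by omega) (by omega)
    rw [wX_succ] at ho
    by_cases he : Even ℓ
    · rw [if_pos he] at ho ⊢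
      rw [if_pos he, norm_step h₁ hsq₁ ho, ih (by omega)]
      ring
    · rw [if_neg he] at ho ⊢
      rw [if_neg he, norm_step h₂ hsq₂ ho, ih (by omega)]
      ring

end abstract

section bn

variable {G : Type*} [Group G] [Finite G] (P : Cfsg.BNPair G)

local notation "ℓ" => len (Sbar P)

variable [Fintype (G ⧸ P.B)] [DecidableEq (G ⧸ P.B)]

theorem wX_cellMat {s t : G} (hs : s ∈ P.S) (ht : t ∈ P.S)
    (hD : Dih (Sbar P) (sb P s hs) (sb P t ht)) {k : ℕ}
    (hk : k ≤ orderOf (sb P t ht * sb P s hs)) :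
    wX (cellMat P (sb P s hs)) (cellMat P (sb P t ht)) k =
      cellMat P (gw (sb P s hs) (sb P t ht) k) := by
  induction k with
  | zero => rw [wX_zero, gw_zero, cellMat_one]
  | succ k ih =>
    rw [wX_succ, gw_succ, ih (by omega)]
    have h1 := hD.len_gw (show k ≤ _ by omega)
    have h2 := hD.len_gw hk
    rw [gw_succ] at h2
    by_cases he : Even k
    · rw [if_pos he] at h2 ⊢
      rw [if_pos he]
      exact cellMat_mul P hs (by rw [h1, h2]; omega)
    · rw [if_neg he] at h2 ⊢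
      rw [if_neg he]
      exact cellMat_mul P ht (by rw [h1, h2]; omega)

theorem data_of_dih {s t : G} (hs : s ∈ P.S) (ht : t ∈ P.S)
    (hD : Dih (Sbar P) (sb P s hs) (sb P t ht)) (hn : 2 ≤ orderOf (sb P t ht * sb P s hs)) :
    Data (cellMat P (sb P s hs)) (cellMat P (sb P t ht)) (qn P s hs) (qn P t ht)
      (orderOf (sb P t ht * sb P s hs)) := by
  set a := sb P s hs with ha
  set b := sb P t ht with hb
  set n := orderOf (b * a) with hndef
  have hn' : orderOf (a * b) = n := hD.order_swap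
  have hX : ∀ k ≤ n, wX (cellMat P a) (cellMat P b) k = cellMat P (gw a b k) :=
    fun k hk => wX_cellMat P hs ht hD hk
  have hY : ∀ k ≤ n, wX (cellMat P b) (cellMat P a) k = cellMat P (gw b a k) :=
    fun k hk => wX_cellMat P ht hs hD.swap (by rw [← ha, ← hb, hn']; exact hk)
  have hlenX : ∀ k ≤ n, ℓ (gw a b k) = k := fun k hk => hD.len_gw hk
  have hlenY : ∀ k ≤ n, ℓ (gw b a k) = k := fun k hk => hD.swap.len_gw (by rw [hn']; exact hk)
  have symm₁ : (cellMat P a)ᵀ = cellMat P a := by rw [cellMat_transpose, ha, sb_inv]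
  have symm₂ : (cellMat P b)ᵀ = cellMat P b := by rw [cellMat_transpose, hb, sb_inv]
  have sq₁ := cellMat_sq P hs
  have sq₂ := cellMat_sq P ht
  have orthXX : ∀ k k', k ≤ n → k' ≤ n → k ≠ k' →
      ip (wX (cellMat P a) (cellMat P b) k) (wX (cellMat P a) (cellMat P b) k') = 0 := by
    intro k k' hk hk' hne
    rw [hX k hk, hX k' hk']
    apply ip_cellMat_ne
    intro he
    apply hne
    rw [← hlenX k hk, ← hlenX k' hk', he]
  have orthYY : ∀ k k', k ≤ n → k' ≤ n → k ≠ k' →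
      ip (wX (cellMat P b) (cellMat P a) k) (wX (cellMat P b) (cellMat P a) k') = 0 := by
    intro k k' hk hk' hne
    rw [hY k hk, hY k' hk']
    apply ip_cellMat_ne
    intro he
    apply hne
    rw [← hlenY k hk, ← hlenY k' hk', he]
  refine
    { symm₁ := symm₁
      symm₂ := symm₂
      sq₁ := sq₁
      sq₂ := sq₂
      braid := by rw [hX n (le_refl n), hY n (le_refl n), hD.gw_braid]
      hq₁ := two_le_qn P hs
      hq₂ := two_le_qn P ht
      hn := hn
      normX := norm_of_orth symm₁ symm₂ sq₁ sq₂ orthXX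
      normY := norm_of_orth symm₂ symm₁ sq₂ sq₁ orthYY
      orthXX := orthXX
      orthYY := orthYY
      orthXY := ?_ }
  intro k k' hk hk' hc
  rw [hX k hk, hY k' hk']
  apply ip_cellMat_ne
  intro he
  rcases hc with hc | ⟨h0, hlt⟩
  · apply hc
    rw [← hlenX k hk, ← hlenY k' hk', he]
  · have hkk : k = k' := by rw [← hlenX k hk, ← hlenY k' hk', he]
    subst hkk
    exact hD.gw_ne_gw h0 hlt he

end bn

end Cfsg.Agent.Lib.Helper6.FH
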