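/-
helper6: involutions whose centralizer contains at most three involutions, part A:
the set of involutions of `C_G(x)`.
-/
import Mathlib

set_option autoImplicit false

namespace Cfsg.Agent.Lib.Helper6.FewInvol

universe u

variable {G : Type u} [Group G]

/-- the involutions commuting with `x` -/
def invSet (x : G) : Set G := {u | orderOf u = 2 ∧ u * x = x * u}

theorem mem_invSet {x u : G} : u ∈ invSet x ↔ orderOf u = 2 ∧ u * x = x * u := Iff.rfl

theorem orderOf_two_iff' {x : G} : orderOf x = 2 ↔ x * x = 1 ∧ x ≠ 1 := by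
  constructor
  · intro h
    refine ⟨?_, ?_⟩
    · have := pow_orderOf_eq_one x
      rwa [h, pow_two] at this
    · intro h1
      rw [h1, orderOf_one] at h
      norm_num at h
  · rintro ⟨h2, h1⟩
    have : Fact (Nat.Prime 2) := ⟨Nat.prime_two⟩
    exact orderOf_eq_prime (by rw [pow_two]; exact h2) h1

theorem self_mem_invSet {x : G} (hx : orderOf x = 2) : x ∈ invSet x := ⟨hx, rfl⟩

theorem ncard_invSet (x : G) :
    (invSet x).ncard = Nat.card {u : ↥(Subgroup.centralizer ({x} : Set G)) // orderOf u = 2} := by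
  rw [← Nat.card_coe_set_eq]
  apply Nat.card_congr
  refine ⟨fun u => ⟨⟨u.1, Subgroup.mem_centralizer_singleton_iff.2 u.2.2⟩, ?_⟩,
    fun u => ⟨u.1.1, ?_, Subgroup.mem_centralizer_singleton_iff.1 u.1.2⟩, ?_, ?_⟩
  · rw [← Subgroup.orderOf_coe]
    exact u.2.1
  · rw [Subgroup.orderOf_coe]
    exact u.2
  · intro u; rfl
  · intro u; rfl

/-- the product of `x` with another involution of `C(x)` is a third one -/
theorem mul_mem_invSet {x u : G} (hx : orderOf x = 2) (hu : u ∈ invSet x) (hux : u ≠ x) :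
    x * u ∈ invSet x ∧ x * u ≠ x ∧ x * u ≠ u := by
  obtain ⟨hx2, hx1⟩ := orderOf_two_iff'.1 hx
  obtain ⟨hu2, hu1⟩ := orderOf_two_iff'.1 hu.1
  have hc : u * x = x * u := hu.2
  refine ⟨⟨?_, ?_⟩, ?_, ?_⟩
  · rw [orderOf_two_iff']
    refine ⟨?_, ?_⟩
    · calc x * u * (x * u) = x * (u * x) * u := by group
        _ = x * (x * u) * u := by rw [hc]
        _ = (x * x) * (u * u) := by group
        _ = 1 := by rw [hx2, hu2, one_mul]
    · intro h
      apply hux
      have : x * u = x * x := by rw [h, hx2]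
      exact mul_left_cancel this
  · calc x * u * x = x * (u * x) := by group
      _ = x * (x * u) := by rw [hc]
  · intro h
    apply hu1
    have : x * u = x * 1 := by rw [h, mul_one]
    exact mul_left_cancel this
  · intro h
    apply hx1
    have : x * u = 1 * u := by rw [h, one_mul]
    exact mul_right_cancel this

section finite
variable [Finite G]

/-- with at most three involutions in `C(x)`, a second one determines all. -/
theorem invSet_eq {x u : G} (hx : orderOf x = 2) (h3 : (invSet x).ncard ≤ 3) (hu : u ∈ invSet x)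
    (hux : u ≠ x) : invSet x = {x, u, x * u} := by
  classical
  obtain ⟨h1, h2, h3'⟩ := mul_mem_invSet hx hu hux
  symm
  apply Set.eq_of_subset_of_ncard_le
  · intro w hw
    rcases hw with rfl | rfl | rfl
    · exact self_mem_invSet hx
    · exact hu
    · exact h1
  · have : ({x, u, x * u} : Set G).ncard = 3 :=
      Set.ncard_eq_three.2 ⟨x, u, x * u, fun h => hux h.symm, fun h => h2 h.symm,
        fun h => h3' h.symm, rfl⟩
    rw [this]
    exact h3
  · exact Set.toFinite _

theorem invSet_eq_singleton {x : G} (hx : orderOf x = 2) (h : ∀ u ∈ invSet x, u = x) :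
    invSet x = {x} := by
  ext w
  simp only [Set.mem_singleton_iff]
  exact ⟨fun hw => h w hw, fun hw => by rw [hw]; exact self_mem_invSet hx⟩

/-- conjugation transports `invSet` -/
theorem mem_invSet_conj {x w : G} (g : G) :
    w ∈ invSet (g * x * g⁻¹) ↔ g⁻¹ * w * g ∈ invSet x := by
  simp only [mem_invSet]
  have ho : orderOf (g⁻¹ * w * g) = orderOf w := by
    have hc : SemiconjBy g⁻¹ w (g⁻¹ * w * g) := by
      unfold SemiconjBy; group
    exact (SemiconjBy.orderOf_eq _ hc).symm
  rw [ho]
  constructor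
  · rintro ⟨h1, h2⟩
    refine ⟨h1, ?_⟩
    calc g⁻¹ * w * g * x = g⁻¹ * (w * (g * x * g⁻¹)) * g := by group
      _ = g⁻¹ * (g * x * g⁻¹ * w) * g := by rw [h2]
      _ = x * (g⁻¹ * w * g) := by group
  · rintro ⟨h1, h2⟩
    refine ⟨h1, ?_⟩
    calc w * (g * x * g⁻¹) = g * (g⁻¹ * w * g * x) * g⁻¹ := by group
      _ = g * (x * (g⁻¹ * w * g)) * g⁻¹ := by rw [h2]
      _ = g * x * g⁻¹ * w := by group

theorem ncard_invSet_conj (x g : G) : (invSet (g * x * g⁻¹)).ncard = (invSet x).ncard := by
  have h : invSet (g * x * g⁻¹) = (fun w => g * w * g⁻¹) '' invSet x := by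
    ext w
    rw [mem_invSet_conj]
    constructor
    · intro hw
      exact ⟨g⁻¹ * w * g, hw, by group⟩
    · rintro ⟨v, hv, rfl⟩
      have : g⁻¹ * (g * v * g⁻¹) * g = v := by group
      rw [this]; exact hv
  rw [h]
  apply Set.ncard_image_of_injective
  intro a b hab
  have : g * a * g⁻¹ = g * b * g⁻¹ := hab
  exact mul_left_cancel (mul_right_cancel this)

/-- if `x ~ u` with `u` a second involution of `C(x)`, then `C(u)` has the same involutions. -/
theorem invSet_eq_of_isConj {x u : G} (hx : orderOf x = 2) (h3 : (invSet x).ncard ≤ 3)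
    (hu : u ∈ invSet x) (hux : u ≠ x) (hc : IsConj x u) : invSet u = invSet x := by
  obtain ⟨g, rfl⟩ := isConj_iff.1 hc
  have h3' : (invSet (g * x * g⁻¹)).ncard ≤ 3 := by rw [ncard_invSet_conj]; exact h3
  have hxu : x ∈ invSet (g * x * g⁻¹) := ⟨hx, hu.2.symm⟩
  rw [invSet_eq hu.1 h3' hxu (Ne.symm hux), invSet_eq hx h3 hu hux]
  have : g * x * g⁻¹ * x = x * (g * x * g⁻¹) := hu.2
  rw [this]
  ext w
  simp only [Set.mem_insert_iff, Set.mem_singleton_iff]
  tauto

end finite

end Cfsg.Agent.Lib.Helper6.FewInvol
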