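/-
helper6: involutions whose centralizer contains at most three involutions, part B:
in a simple group such an involution is 2-central and all involutions are conjugate.
-/
import Mathlib
import Cfsg.Agent.Lib.Helper6.FewInvolA
import Cfsg.Agent.S3276
import Cfsg.Agent.S0215
import Cfsg.Agent.S3864

set_option autoImplicit false

namespace Cfsg.Agent.Lib.Helper6.FewInvol

universe u

variable {G : Type u} [Group G] [Finite G]

theorem exists_conj_mem_sylow (S : Sylow 2 G) (a : G) (ha : orderOf a = 2) :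
    ∃ c : G, c * a * c⁻¹ ∈ (S : Subgroup G) :=
  Cfsg.Agent.S3864.exists_conj_mem_sylow (P := S) a ha

variable [IsSimpleGroup G]

theorem false_of_conj_of_not_conj {x u : G} (hx : orderOf x = 2) (h3 : (invSet x).ncard ≤ 3)
    (hu : u ∈ invSet x) (hux : u ≠ x) (hc : IsConj x u) (hnc : ¬ IsConj x (x * u)) : False := by
  obtain ⟨hy, hyx, hyu⟩ := mul_mem_invSet hx hu hux
  have hI := invSet_eq hx h3 hu hux
  have hIu := invSet_eq_of_isConj hx h3 hu hux hc
  have key : ∀ g : G, g * (x * u) * g⁻¹ ∈ invSet x → g * (x * u) * g⁻¹ = x * u := by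
    intro g hg
    have hcy : IsConj (x * u) (g * (x * u) * g⁻¹) := isConj_iff.2 ⟨g, rfl⟩
    rw [hI] at hg
    rcases hg with h | h | h
    · exfalso; rw [h] at hcy; exact hnc hcy.symm
    · exfalso; rw [h] at hcy; exact hnc (hc.trans hcy.symm)
    · exact h
  have hstar : ∀ w : G, orderOf w = 2 → Commute w x → ∀ g : G,
      Commute (g * (x * u) * g⁻¹) w → Commute (g * (x * u) * g⁻¹) (x * u) := by
    intro w hw hwx g hg
    have ho : orderOf (g * (x * u) * g⁻¹) = 2 := by
      have hsc : SemiconjBy g (x * u) (g * (x * u) * g⁻¹) := by unfold SemiconjBy; group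
      rw [← SemiconjBy.orderOf_eq _ hsc]; exact hy.1
    have hwI : w ∈ invSet x := ⟨hw, hwx.eq⟩
    rw [hI] at hwI
    rcases hwI with rfl | rfl | rfl
    · rw [key g ⟨ho, hg.eq⟩]
    · rw [key g (by rw [← hIu]; exact ⟨ho, hg.eq⟩)]
    · exact hg
  obtain ⟨hne, -, -⟩ := Cfsg.Agent.S3276.result x (x * u) hx hy.1 hy.2.symm hnc hstar
  rcases (Subgroup.normalClosure_normal (s := ({x * u} : Set G))).eq_bot_or_eq_top with h | h
  · have hmem : x * u ∈ Subgroup.normalClosure ({x * u} : Set G) :=
      Subgroup.subset_normalClosure (Set.mem_singleton _)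
    rw [h, Subgroup.mem_bot] at hmem
    have h1 := hy.1
    rw [hmem, orderOf_one] at h1
    exact absurd h1 (by norm_num)
  · exact hne h

theorem false_of_isolated {x u : G} (hx : orderOf x = 2) (hu : orderOf u = 2) (hux : u ≠ x)
    (S : Sylow 2 G) (hxS : x ∈ S) (hiso : ∀ g : G, g * x * g⁻¹ ∈ S → g * x * g⁻¹ = x) : False := by
  obtain ⟨N, hN, hodd, hcomm⟩ := Cfsg.Agent.S0215.result S x hx hxS hiso
  obtain ⟨hx2, hx1⟩ := orderOf_two_iff'.1 hx
  obtain ⟨hu2, hu1⟩ := orderOf_two_iff'.1 hu
  rcases hN.eq_bot_or_eq_top with h | h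
  · -- `x` is central
    have hcen : ∀ g : G, x * g = g * x := by
      intro g
      have := hcomm g
      rw [h, Subgroup.mem_bot] at this
      calc x * g = (x * g * x⁻¹ * g⁻¹) * (g * x) := by group
        _ = g * x := by rw [this, one_mul]
    have hZ : (Subgroup.zpowers x).Normal := by
      refine ⟨fun n hn g => ?_⟩
      obtain ⟨k, rfl⟩ := Subgroup.mem_zpowers_iff.1 hn
      have : g * x ^ k * g⁻¹ = x ^ k := by
        have hc : Commute g (x ^ k) := (Commute.zpow_right (hcen g).symm k)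
        rw [hc.eq, mul_inv_cancel_right]
      rw [this]
      exact Subgroup.zpow_mem _ (Subgroup.mem_zpowers x) k
    rcases hZ.eq_bot_or_eq_top with h' | h'
    · have : x ∈ Subgroup.zpowers x := Subgroup.mem_zpowers x
      rw [h', Subgroup.mem_bot] at this
      exact hx1 this
    · have hcard : Nat.card G = 2 := by
        rw [← Subgroup.card_top (G := G), ← h', Nat.card_zpowers, hx]
      obtain ⟨y, -, hy⟩ := (Nat.card_eq_two_iff' (1 : G)).1 hcard
      exact hux ((hy u hu1).trans (hy x hx1).symm)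
  · rw [h, Subgroup.card_top] at hodd
    have := orderOf_dvd_natCard x
    rw [hx] at this
    exact (Nat.not_even_iff_odd.2 hodd) (even_iff_two_dvd.2 this)

/-- `C(x)` contains a Sylow 2-subgroup of `G`. -/
theorem exists_sylow_le {x : G} (hx : orderOf x = 2) (h3 : (invSet x).ncard ≤ 3) :
    ∃ S : Sylow 2 G, x ∈ S ∧ (S : Subgroup G) ≤ Subgroup.centralizer ({x} : Set G) := by
  have : Fact (Nat.Prime 2) := ⟨Nat.prime_two⟩
  obtain ⟨hx2, hx1⟩ := orderOf_two_iff'.1 hx
  set C := Subgroup.centralizer ({x} : Set G) with hC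
  have hxC : x ∈ C := Subgroup.mem_centralizer_singleton_iff.2 rfl
  let T₀ : Sylow 2 ↥C := default
  set T : Subgroup G := (T₀ : Subgroup ↥C).map C.subtype with hTdef
  have hTC : T ≤ C := Subgroup.map_subtype_le _
  have hT2 : IsPGroup 2 T := T₀.isPGroup'.map _
  have hmax : ∀ Q : Subgroup G, IsPGroup 2 Q → T ≤ Q → Q ≤ C → Q = T := by
    intro Q hQ hTQ hQC
    have h1 : IsPGroup 2 (Q.subgroupOf C) := hQ.comap_subtype
    have h2 : (T₀ : Subgroup ↥C) ≤ Q.subgroupOf C := by
      intro t ht
      rw [Subgroup.mem_subgroupOf]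
      exact hTQ (Subgroup.mem_map_of_mem _ ht)
    have h3 := T₀.is_maximal' h1 h2
    rw [hTdef, ← h3, Subgroup.map_subgroupOf_eq_of_le hQC]
  have hxT : x ∈ T := by
    -- `x` is central in `C`
    let Z₀ : Subgroup ↥C := Subgroup.zpowers ⟨x, hxC⟩
    have hZn : Z₀.Normal := by
      refine ⟨fun n hn g => ?_⟩
      obtain ⟨k, rfl⟩ := Subgroup.mem_zpowers_iff.1 hn
      have hg : (g : G) * x = x * (g : G) := Subgroup.mem_centralizer_singleton_iff.1 g.2
      have hc : Commute g (⟨x, hxC⟩ : ↥C) := Subtype.ext hg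
      have : g * (⟨x, hxC⟩ : ↥C) ^ k * g⁻¹ = (⟨x, hxC⟩ : ↥C) ^ k := by
        rw [(hc.zpow_right k).eq, mul_inv_cancel_right]
      rw [this]
      exact Subgroup.zpow_mem _ (Subgroup.mem_zpowers _) k
    have hZ2 : IsPGroup 2 Z₀ := by
      apply IsPGroup.of_card (n := 1)
      rw [Nat.card_zpowers, pow_one, ← Subgroup.orderOf_coe]
      exact hx
    have hsup : IsPGroup 2 ((T₀ : Subgroup ↥C) ⊔ Z₀ : Subgroup ↥C) :=
      T₀.isPGroup'.to_sup_of_normal_right hZ2
    have := T₀.is_maximal' hsup le_sup_left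
    have hmem : (⟨x, hxC⟩ : ↥C) ∈ (T₀ : Subgroup ↥C) := by
      rw [← this]
      exact Subgroup.mem_sup_right (Subgroup.mem_zpowers _)
    exact ⟨⟨x, hxC⟩, hmem, rfl⟩
  obtain ⟨S, hTS⟩ := hT2.exists_le_sylow
  refine ⟨S, hTS hxT, ?_⟩
  by_contra hSC
  have hinf : (S : Subgroup G) ⊓ C = T :=
    hmax _ (S.isPGroup'.to_le inf_le_left) (le_inf hTS hTC) inf_le_right
  -- no conjugate of `x` is centralized by `S`
  have hcardT : ∀ Q : Subgroup G, IsPGroup 2 Q → Q ≤ C → Nat.card Q ≤ Nat.card T := by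
    intro Q hQ hQC
    have h1 : IsPGroup 2 (Q.subgroupOf C) := hQ.comap_subtype
    obtain ⟨T₁, hT₁⟩ := h1.exists_le_sylow
    have h2 : Nat.card (Q.subgroupOf C) ≤ Nat.card T₁ := Subgroup.card_le_of_le hT₁
    rw [Nat.card_congr (Subgroup.subgroupOfEquivOfLe hQC).toEquiv] at h2
    have h3 : Nat.card T₁ = Nat.card T₀ := by
      rw [T₁.card_eq_multiplicity, T₀.card_eq_multiplicity]
    have h4 : Nat.card T = Nat.card T₀ := by
      rw [hTdef]
      exact Nat.card_congr
        (Subgroup.equivMapOfInjective _ _ (Subgroup.subtype_injective C)).symm.toEquiv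
    rw [h4, ← h3]
    exact h2
  have hTltS : Nat.card T < Nat.card (S : Subgroup G) := by
    by_contra hle
    push Not at hle
    have := Subgroup.eq_of_le_of_card_ge hTS hle
    apply hSC
    rw [← this]
    exact hTC
  have hnoconj : ∀ h : G, ¬ (S : Subgroup G) ≤ Subgroup.centralizer ({h * x * h⁻¹} : Set G) := by
    intro h hle
    let Q : Subgroup G := (S : Subgroup G).map (MulAut.conj h⁻¹).toMonoidHom
    have hQ2 : IsPGroup 2 Q := S.isPGroup'.map _
    have hQC : Q ≤ C := by
      rintro _ ⟨s, hs, rfl⟩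
      have h1 := Subgroup.mem_centralizer_singleton_iff.1 (hle hs)
      rw [hC, Subgroup.mem_centralizer_singleton_iff]
      show h⁻¹ * s * h⁻¹⁻¹ * x = x * (h⁻¹ * s * h⁻¹⁻¹)
      calc h⁻¹ * s * h⁻¹⁻¹ * x = h⁻¹ * (s * (h * x * h⁻¹)) * h := by group
        _ = h⁻¹ * (h * x * h⁻¹ * s) * h := by rw [h1]
        _ = x * (h⁻¹ * s * h⁻¹⁻¹) := by group
    have hQcard : Nat.card Q = Nat.card (S : Subgroup G) :=
      Nat.card_congr
        (Subgroup.equivMapOfInjective _ _ (MulAut.conj h⁻¹).injective).symm.toEquiv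
    have := hcardT Q hQ2 hQC
    omega
  -- the normalizer condition in `S`
  have hnil : Group.IsNilpotent ↥(S : Subgroup G) := S.isPGroup'.isNilpotent
  have hlt : T.subgroupOf (S : Subgroup G) < ⊤ := by
    rw [lt_top_iff_ne_top]
    intro h
    rw [Subgroup.subgroupOf_eq_top] at h
    exact hSC (h.trans hTC)
  obtain ⟨g', hg'N, hg'T⟩ := SetLike.exists_of_lt (normalizerCondition_of_isNilpotent _ hlt)
  set g : G := (g' : G) with hg
  have hgS : g ∈ (S : Subgroup G) := g'.2
  have hgT : g ∉ T := by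
    intro h
    apply hg'T
    rw [Subgroup.mem_subgroupOf]
    exact h
  have hgnorm : g * x * g⁻¹ ∈ T := by
    have h1 : (⟨x, hTS hxT⟩ : ↥(S : Subgroup G)) ∈ T.subgroupOf (S : Subgroup G) := by
      rw [Subgroup.mem_subgroupOf]; exact hxT
    have h2 := (Subgroup.mem_normalizer_iff.1 hg'N _).1 h1
    rw [Subgroup.mem_subgroupOf] at h2
    exact h2
  have hgC : g ∉ C := by
    intro h
    apply hgT
    rw [← hinf]
    exact ⟨hgS, h⟩
  set u := g * x * g⁻¹ with hu_def
  have huo : orderOf u = 2 := by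
    have hsc : SemiconjBy g x u := by unfold SemiconjBy; rw [hu_def]; group
    rw [← SemiconjBy.orderOf_eq _ hsc]; exact hx
  have huI : u ∈ invSet x := ⟨huo, Subgroup.mem_centralizer_singleton_iff.1 (hTC hgnorm)⟩
  have hux : u ≠ x := by
    intro h
    apply hgC
    rw [hC, Subgroup.mem_centralizer_singleton_iff]
    calc g * x = (g * x * g⁻¹) * g := by group
      _ = x * g := by rw [← hu_def, h]
  have hI := invSet_eq hx h3 huI hux
  -- a central involution of `S`
  have hnt : Nontrivial ↥(S : Subgroup G) :=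
    ⟨⟨⟨x, hTS hxT⟩, 1, fun h => hx1 (congrArg Subtype.val h)⟩⟩
  have hcnt := (S.isPGroup').center_nontrivial
  have hc2 : 2 ∣ Nat.card (Subgroup.center ↥(S : Subgroup G)) := by
    obtain ⟨n, hn⟩ := IsPGroup.iff_card.mp
      ((S.isPGroup').to_subgroup (Subgroup.center ↥(S : Subgroup G)))
    rcases n with _ | n
    · rw [pow_zero] at hn
      have := Finite.one_lt_card (α := Subgroup.center ↥(S : Subgroup G))
      omega
    · rw [hn, pow_succ]
      exact Dvd.intro_left _ rfl
  obtain ⟨z', hz'⟩ := exists_prime_orderOf_dvd_card' 2 hc2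
  set z : G := ((z' : ↥(S : Subgroup G)) : G) with hz_def
  have hzo : orderOf z = 2 := by
    rw [hz_def, Subgroup.orderOf_coe, Subgroup.orderOf_coe]; exact hz'
  have hzS : z ∈ (S : Subgroup G) := (z' : ↥(S : Subgroup G)).2
  have hzc : ∀ s ∈ (S : Subgroup G), s * z = z * s := by
    intro s hs
    have := Subgroup.mem_center_iff.1 z'.2 ⟨s, hs⟩
    exact congrArg Subtype.val this
  have hSz : (S : Subgroup G) ≤ Subgroup.centralizer ({z} : Set G) := by
    intro s hs
    rw [Subgroup.mem_centralizer_singleton_iff]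
    exact hzc s hs
  have hzI : z ∈ invSet x := ⟨hzo, (hzc x (hTS hxT)).symm⟩
  rw [hI] at hzI
  rcases hzI with h | h | h
  · rw [h] at hSz
    exact hSC hSz
  · rw [h] at hSz
    exact hnoconj g hSz
  · apply false_of_conj_of_not_conj hx h3 huI hux (isConj_iff.2 ⟨g, rfl⟩)
    intro hcon
    obtain ⟨k, hk⟩ := isConj_iff.1 hcon
    rw [h, ← hk] at hSz
    exact hnoconj k hSz

/-- Main theorem: 2-central and one class of involutions. -/
theorem main {x : G} (hx : orderOf x = 2) (h3 : (invSet x).ncard ≤ 3) :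
    (∃ S : Sylow 2 G, (S : Subgroup G) ≤ Subgroup.centralizer ({x} : Set G)) ∧
      ∀ a b : G, orderOf a = 2 → orderOf b = 2 → IsConj a b := by
  obtain ⟨S, hxS, hS⟩ := exists_sylow_le hx h3
  refine ⟨⟨S, hS⟩, ?_⟩
  obtain ⟨hx2, hx1⟩ := orderOf_two_iff'.1 hx
  have key : ∀ a : G, orderOf a = 2 → IsConj x a := by
    intro a ha
    obtain ⟨c, hc⟩ := exists_conj_mem_sylow S a ha
    have hao : orderOf (c * a * c⁻¹) = 2 := by
      have hsc : SemiconjBy c a (c * a * c⁻¹) := by unfold SemiconjBy; group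
      rw [← SemiconjBy.orderOf_eq _ hsc]; exact ha
    have haI : c * a * c⁻¹ ∈ invSet x :=
      ⟨hao, Subgroup.mem_centralizer_singleton_iff.1 (hS hc)⟩
    have hca : IsConj a (c * a * c⁻¹) := isConj_iff.2 ⟨c, rfl⟩
    suffices h : IsConj x (c * a * c⁻¹) from h.trans hca.symm
    by_cases hall : ∀ w ∈ invSet x, w = x
    · rw [hall _ haI]
    · push Not at hall
      obtain ⟨u, huI, hux⟩ := hall
      have hI := invSet_eq hx h3 huI hux
      obtain ⟨hy, hyx, hyu⟩ := mul_mem_invSet hx huI hux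
      by_cases hc1 : IsConj x u
      · by_cases hc2 : IsConj x (x * u)
        · rw [hI] at haI
          rcases haI with h | h | h
          · rw [h]
          · rw [h]; exact hc1
          · rw [h]; exact hc2
        · exact (false_of_conj_of_not_conj hx h3 huI hux hc1 hc2).elim
      · by_cases hc2 : IsConj x (x * u)
        · exfalso
          apply false_of_conj_of_not_conj hx h3 hy hyx hc2
          have : x * (x * u) = u := by rw [← mul_assoc, hx2, one_mul]
          rw [this]
          exact hc1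
        · exfalso
          apply false_of_isolated hx huI.1 hux S hxS
          intro g hg
          have hgo : orderOf (g * x * g⁻¹) = 2 := by
            have hsc : SemiconjBy g x (g * x * g⁻¹) := by unfold SemiconjBy; group
            rw [← SemiconjBy.orderOf_eq _ hsc]; exact hx
          have hgI : g * x * g⁻¹ ∈ invSet x :=
            ⟨hgo, Subgroup.mem_centralizer_singleton_iff.1 (hS hg)⟩
          rw [hI] at hgI
          rcases hgI with h | h | h
          · exact h
          · exact (hc1 (isConj_iff.2 ⟨g, h⟩)).elim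
          · exact (hc2 (isConj_iff.2 ⟨g, h⟩)).elim
  intro a b ha hb
  exact (key a ha).symm.trans (key b hb)

end Cfsg.Agent.Lib.Helper6.FewInvol
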