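/-
helper6: Fong's theorem on blocks over an invariant character of `O_{p'}(G)`, part A:
blocks are detected on `p`-regular classes; central characters through a surjection with
`p'`-kernel; lifting a normal `p`-subgroup through a central `p'`-extension.
-/
import Mathlib
import Cfsg.Agent.Lib.Helper6.Osima2
import Cfsg.Agent.Lib.Helper6.BrauerMap
import Cfsg.Agent.Lib.Helper6.FirstMain
import Cfsg.Agent.Lib.Helper6.SepClassesC
import Cfsg.Agent.Lib.Lead.CharMore

set_option autoImplicit false

namespace Cfsg.Agent.Lib.Helper6.FongBlock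

open Cfsg Cfsg.Agent.CharLib Cfsg.Agent.Lib.Helper24 Cfsg.Agent.Lib.Helper6
  Cfsg.Agent.Lib.Helper6.SepClasses
open scoped ComplexConjugate

universe u

section pregular

variable {G : Type u} [Group G] [Finite G] {M : Ideal AlgInt} {p : ℕ} [hpp : Fact p.Prime]

/-- Two irreducible characters whose central characters agree modulo `M` on the `p`-regular
classes lie in the same block. -/
theorem sameBlock_of_forall_pRegular (hM : IsPModular p M) (χ ψ : IrrCharacter G)
    (h : ∀ g : G, ¬ p ∣ orderOf g →
      MemLocalIdeal M (centralChar (χ : G → ℂ) g - centralChar (ψ : G → ℂ) g)) :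
    SameBlock M (χ : G → ℂ) (ψ : G → ℂ) := by
  classical
  let _ := Fintype.ofFinite G
  let _ : Fintype (ConjClasses G) := Fintype.ofFinite _
  have hprime : M.IsPrime := isPrime_of_isPModular hM
  set B := blockOf M (χ : G → ℂ) with hB
  set a := blockCoeff B with ha
  have hacls : IsClassFunction G a := blockCoeff_isClassFunction _
  have h1 : omegaFun (χ : G → ℂ) a = 1 := by
    rw [ha, omegaFun_blockCoeff, if_pos (mem_blockOf_self χ)]
  have h2 : omegaFun (ψ : G → ℂ) a = if ψ ∈ B then 1 else 0 := by
    rw [ha, omegaFun_blockCoeff]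
  have h3 : MemLocalIdeal M (omegaFun (χ : G → ℂ) a - omegaFun (ψ : G → ℂ) a) := by
    rw [omegaFun_eq_sum_conjClasses χ hacls, omegaFun_eq_sum_conjClasses ψ hacls,
      ← Finset.sum_sub_distrib]
    apply sum_memLocalIdeal
    intro C _
    rw [← mul_sub]
    by_cases hC : p ∣ orderOf (Quotient.out C)
    · rw [ha, hB, blockCoeff_eq_zero_of_dvd_orderOf hM χ _ hC, zero_mul]
      exact memLocalIdeal_zero hprime.one_notMem
    · exact memLocalIdeal_mul_left (memLocalRing_blockCoeff_blockOf χ _) (h _ hC)
  by_contra hcon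
  have h4 : ψ ∉ B := hcon
  rw [h1, h2, if_neg h4, sub_zero] at h3
  exact not_memLocalIdeal_one h3

end pregular

section fiber

variable {E G : Type*} [Group E] [Group G] [Fintype E] [Fintype G]

/-- Summing a function of `π e` over the source of a surjective homomorphism. -/
theorem sum_comp_surjective (π : E →* G) (hπ : Function.Surjective π) (F : G → ℂ) :
    ∑ e : E, F (π e) = (Nat.card π.ker : ℂ) * ∑ g : G, F g := by
  classical
  rw [← Finset.sum_fiberwise (s := Finset.univ) (g := fun e => π e) (f := fun e => F (π e))]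
  rw [Finset.mul_sum]
  apply Finset.sum_congr rfl
  intro g _
  have h1 : ∀ e ∈ Finset.univ.filter (fun e : E => π e = g), F (π e) = F g := by
    intro e he
    rw [(Finset.mem_filter.mp he).2]
  rw [Finset.sum_congr rfl h1, Finset.sum_const, nsmul_eq_mul]
  congr 2
  have h2 := MonoidHom.card_fiber_eq_of_mem_range π (x := g) (y := 1) (hπ g) (hπ 1)
  rw [h2]
  rw [Nat.card_eq_fintype_card, Fintype.card_subtype]
  apply Finset.card_bij (fun e _ => e)
  · intro e he
    simpa [MonoidHom.mem_ker] using he
  · intro a _ b _ h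
    exact h
  · intro b hb
    exact ⟨b, by simpa [MonoidHom.mem_ker] using hb, rfl⟩

end fiber

section pullback

variable {G E : Type u} [Group G] [Finite G] [Group E] [Finite E] {M : Ideal AlgInt} {p : ℕ}
  [hpp : Fact p.Prime]

/-- **Pullback**: if the inflation `ψ = χ ∘ π` of `χ` along a surjection with kernel of order
prime to `p` has central character in the local ideal at all preimages of the class of `g`,
then so has `χ` at `g`. -/
theorem memLocalIdeal_centralChar_of_pullback (hM : IsPModular p M) (π : E →* G)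
    (hπ : Function.Surjective π) (hZp : ¬ p ∣ Nat.card π.ker) (χ : IrrCharacter G)
    (ψ : IrrCharacter E) (hψ : ∀ e : E, (ψ : E → ℂ) e = (χ : G → ℂ) (π e)) (g : G)
    (h : ∀ e : E, IsConj g (π e) → MemLocalIdeal M (centralChar (ψ : E → ℂ) e)) :
    MemLocalIdeal M (centralChar (χ : G → ℂ) g) := by
  classical
  let _ := Fintype.ofFinite G
  let _ := Fintype.ofFinite E
  have hprime : M.IsPrime := isPrime_of_isPModular hM
  set c : E → ℂ := fun e => classInd g (π e) with hc
  have hccls : IsClassFunction E c := by
    intro e k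
    rw [hc]
    simp only [map_mul, map_inv]
    exact classInd_conj g (π e) (π k)
  have hcR : ∀ e, MemLocalRing M (c e) := fun e => memLocalRing_classInd g (π e)
  have h1 : MemLocalIdeal M (omegaFun (ψ : E → ℂ) c) := by
    apply memLocalIdeal_omegaFun_of_forall ψ hccls hcR
    intro e
    by_cases he : IsConj g (π e)
    · exact Or.inr (h e he)
    · left
      rw [hc]
      simp only
      rw [classInd_of_not_isConj he]
      exact memLocalIdeal_zero hprime.one_notMem
  have h2 : omegaFun (ψ : E → ℂ) c =
      (Nat.card π.ker : ℂ) * centralChar (χ : G → ℂ) g := by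
    rw [← omegaFun_classInd χ g]
    unfold omegaFun
    rw [hψ 1, map_one, ← mul_div_assoc]
    congr 1
    have h3 : ∀ e : E, c e * (ψ : E → ℂ) e =
        (fun x : G => classInd g x * (χ : G → ℂ) x) (π e) := by
      intro e
      rw [hψ e]
    rw [Finset.sum_congr rfl (fun e _ => h3 e)]
    exact sum_comp_surjective π hπ (fun x : G => classInd g x * (χ : G → ℂ) x)
  rw [h2] at h1
  rcases memLocalIdeal_or_of_mul (memLocalRing_natCast _) (memLocalRing_centralChar χ g) h1 with
    h4 | h4
  · exact absurd h4 (not_memLocalIdeal_natCast_of_not_dvd hM hZp)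
  · exact h4

end pullback

section lift

variable {X Y : Type*} [Group X] [Finite X] [Group Y] {p : ℕ} [hpp : Fact p.Prime]

/-- **Lifting a normal `p`-subgroup** through a central extension with kernel of order prime to
`p`. -/
theorem exists_normal_pGroup_map_eq (f : X →* Y) (hf : Function.Surjective f)
    (hc : f.ker ≤ Subgroup.center X) (hp : ¬ p ∣ Nat.card f.ker) (Q : Subgroup Y) [hQn : Q.Normal]
    (hQ : IsPGroup p Q) :
    ∃ Q₁ : Subgroup X, Q₁.Normal ∧ IsPGroup p Q₁ ∧ Q₁.map f = Q := by
  classical
  have hYfin : Finite Y := Finite.of_surjective f hf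
  set R : Subgroup X := Q.comap f with hR
  have hRn : R.Normal := Subgroup.Normal.comap hQn f
  set fR : R →* Q := f.subgroupComap Q with hfR
  have hker : fR.ker ≤ Subgroup.center R := by
    intro r hr
    rw [MonoidHom.mem_ker] at hr
    have h1 : f (r : X) = 1 := congrArg (fun q : Q => (q : Y)) hr
    have h2 : (r : X) ∈ Subgroup.center X := hc ((MonoidHom.mem_ker).mpr h1)
    rw [Subgroup.mem_center_iff]
    intro s
    apply Subtype.ext
    have := (Subgroup.mem_center_iff.mp h2) (s : X)
    simpa using this
  have hQnil : Group.IsNilpotent Q := IsPGroup.isNilpotent hQ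
  have hRnil : Group.IsNilpotent R := Subgroup.isNilpotent_of_ker_le_center fR hker
  obtain ⟨P⟩ : Nonempty (Sylow p R) := inferInstance
  have hPn : (P : Subgroup R).Normal :=
    ((Group.isNilpotent_of_finite_tfae (G := R)).out 0 3 rfl rfl).mp hRnil p hpp P
  have hPc : (P : Subgroup R).Characteristic := Sylow.characteristic_of_normal P hPn
  refine ⟨(P : Subgroup R).map R.subtype, ConjAct.normal_of_characteristic_of_normal, ?_, ?_⟩
  · exact P.isPGroup'.map _
  · apply le_antisymm
    · rintro y ⟨x, ⟨r, -, rfl⟩, rfl⟩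
      exact r.2
    · intro y hy
      obtain ⟨x, rfl⟩ := hf y
      -- the `p`-part of `x`
      obtain ⟨k, hk⟩ := IsPGroup.iff_card.mp hQ
      set m := Nat.card f.ker with hm
      have hcop : Nat.Coprime (p ^ k) m :=
        Nat.Coprime.pow_left k ((Nat.Prime.coprime_iff_not_dvd hpp.out).mpr hp)
      obtain ⟨c, hc1, hc2⟩ := Nat.chineseRemainder hcop 1 0
      have hxR : x ∈ R := hy
      have hpow : (f x) ^ (p ^ k) = 1 := by
        have h1 : (⟨f x, hy⟩ : Q) ^ Nat.card Q = 1 := pow_card_eq_one'
        rw [hk] at h1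
        have := congrArg (fun q : Q => (q : Y)) h1
        simpa using this
      have hxk : x ^ (p ^ k) ∈ f.ker := by
        rw [MonoidHom.mem_ker, map_pow, hpow]
      have hs1 : (x ^ c) ^ (p ^ k) = 1 := by
        rw [← pow_mul, mul_comm, pow_mul]
        obtain ⟨t, ht⟩ := (Nat.modEq_zero_iff_dvd.mp hc2)
        rw [ht, pow_mul]
        have h2 : (⟨x ^ p ^ k, hxk⟩ : f.ker) ^ Nat.card f.ker = 1 := pow_card_eq_one'
        have h3 := congrArg (fun q : f.ker => (q : X)) h2
        simp only [SubgroupClass.coe_pow, OneMemClass.coe_one] at h3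
        rw [← hm] at h3
        rw [h3, one_pow]
      have hs2 : f (x ^ c) = f x := by
        rw [map_pow]
        have h4 : c ≡ 1 [MOD orderOf (f x)] :=
          hc1.of_dvd (orderOf_dvd_of_pow_eq_one hpow)
        have := (pow_eq_pow_iff_modEq (x := f x)).mpr h4
        rw [this, pow_one]
      have hsR : x ^ c ∈ R := R.pow_mem hxR c
      -- `x ^ c` lies in the unique Sylow subgroup
      have hsP : (⟨x ^ c, hsR⟩ : R) ∈ (P : Subgroup R) := by
        have hz : IsPGroup p (Subgroup.zpowers (⟨x ^ c, hsR⟩ : R)) := by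
          have h5 : (⟨x ^ c, hsR⟩ : R) ^ (p ^ k) = 1 := Subtype.ext (by simpa using hs1)
          obtain ⟨j, -, hj⟩ := (Nat.dvd_prime_pow hpp.out).mp (orderOf_dvd_of_pow_eq_one h5)
          exact IsPGroup.of_card (n := j) (by rw [Nat.card_zpowers, hj])
        obtain ⟨P', hP'⟩ := hz.exists_le_sylow
        have hu : P' = P := by
          have := Sylow.unique_of_normal P hPn
          exact Subsingleton.elim _ _
        rw [← hu]
        exact hP' (Subgroup.mem_zpowers _)
      rw [← hs2]
      exact ⟨x ^ c, ⟨⟨x ^ c, hsR⟩, hsP, rfl⟩, rfl⟩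

end lift

end Cfsg.Agent.Lib.Helper6.FongBlock
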