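/-
helper6: Fong's theorem, part B: vanishing of central characters of characters lying over an
extendible character of a normal `p'`-subgroup (twisted version of `ClassSumOmega`), and the
transfer through a central extension.
-/
import Mathlib
import Cfsg.Agent.Lib.Helper6.FongA
import Cfsg.Agent.Lib.Helper6.QuotBlock
import Cfsg.Agent.Lib.Helper6.ClassSumOmega
import Cfsg.Agent.Lib.Helper6.SepClassesB
import Cfsg.Agent.Lib.Helper23.CentralProdB
import Cfsg.Agent.Lib.Lead.BlockBasic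

set_option autoImplicit false

namespace Cfsg.Agent.Lib.Helper6.FongBlock

open Cfsg Cfsg.Agent.CharLib Cfsg.Agent.Lib.Helper24 Cfsg.Agent.Lib.Helper6
  Cfsg.Agent.Lib.Helper6.SepClasses Cfsg.Agent.Lib.Helper23
open scoped ComplexConjugate

universe u

section twisted

variable {E : Type u} [Group E] [Finite E] {M : Ideal AlgInt} {p : ℕ} [hpp : Fact p.Prime]

/-- **Twisted vanishing**: let `τ` be an irreducible character of `E` of degree prime to `p`
restricting irreducibly to the normal subgroup `N₁`, and `ψ` an irreducible character over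
`τ|_{N₁}`. If no conjugate of the image of `e` in `E / N₁` centralises the normal `p`-subgroup
`Q₁` of `E / N₁`, the central character of `ψ` at `e` lies in the local ideal. -/
theorem memLocalIdeal_centralChar_twisted (hM : IsPModular p M) (N₁ : Subgroup E)
    [hN₁ : N₁.Normal] [Fintype N₁] (τ : IrrCharacter E)
    (hτN : IsIrrCharacter N₁ (resFun N₁ (τ : E → ℂ)))
    (hτp : ¬ p ∣ charDegree (τ : E → ℂ)) (ψ : IrrCharacter E)
    (hψ : classInner (resFun N₁ (ψ : E → ℂ)) (resFun N₁ (τ : E → ℂ)) ≠ 0)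
    (Q₁ : Subgroup (E ⧸ N₁)) [hQn : Q₁.Normal] (hQ₁ : IsPGroup p Q₁) (e : E)
    (he : ∀ y : E ⧸ N₁, IsConj ((e : E ⧸ N₁)) y → y ∉ Subgroup.centralizer (Q₁ : Set (E ⧸ N₁))) :
    MemLocalIdeal M (centralChar (ψ : E → ℂ) e) := by
  classical
  let _ := Fintype.ofFinite E
  have hprime : M.IsPrime := isPrime_of_isPModular hM
  obtain ⟨hγirr, hγmul, hγover⟩ := (gallagher_avg N₁ τ.2 hτN ψ.2).1 hψ
  set γ : E → ℂ := avgMulConj N₁ (ψ : E → ℂ) (τ : E → ℂ) with hγ
  obtain ⟨-, hγinv⟩ := apply_mul_of_indFun_one_ne_zero N₁ hγirr hγover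
  have hγker : ∀ n ∈ N₁, ((⟨γ, hγirr⟩ : IrrCharacter E) : E → ℂ) n =
      ((⟨γ, hγirr⟩ : IrrCharacter E) : E → ℂ) 1 := by
    intro n hn
    have := hγinv ⟨n, hn⟩ 1
    simpa using this
  obtain ⟨β, hβ⟩ := exists_deflation N₁ ⟨γ, hγirr⟩ hγker
  have hβ0 := memLocalIdeal_centralChar_of_not_centralizes hM Q₁ hQ₁ (e : E ⧸ N₁) he β
  obtain ⟨m, hm⟩ := index_centralizer_mk_dvd N₁ e
  have hτ1 : (τ : E → ℂ) 1 = (charDegree (τ : E → ℂ) : ℂ) := irr_apply_one τ
  have hτ10 : (τ : E → ℂ) 1 ≠ 0 := irr_apply_one_ne_zero τ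
  have hγ10 : γ 1 ≠ 0 := irr_apply_one_ne_zero ⟨γ, hγirr⟩
  have hψe : ∀ x : E, (ψ : E → ℂ) x = γ x * (τ : E → ℂ) x := by
    intro x
    have := congrFun hγmul x
    rw [Pi.mul_apply] at this
    exact this.symm
  have key : centralChar (ψ : E → ℂ) e =
      (m : ℂ) * ((τ : E → ℂ) e * ((charDegree (τ : E → ℂ) : ℕ) : ℂ)⁻¹) *
        centralChar (β : E ⧸ N₁ → ℂ) (e : E ⧸ N₁) := by
    unfold centralChar
    rw [hψe e, hψe 1, hm, hβ e]
    have h1 : (β : E ⧸ N₁ → ℂ) 1 = γ 1 := by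
      have := hβ 1
      simpa using this
    rw [h1, ← hτ1]
    push_cast
    field_simp
  rw [key]
  apply memLocalIdeal_mul_left _ hβ0
  apply memLocalRing_mul (memLocalRing_natCast m)
  exact memLocalRing_mul (memLocalRing_irr_apply τ e) (memLocalRing_inv_natCast_of_not_dvd hM hτp)

end twisted

section transfer

variable {G E : Type u} [Group G] [Finite G] [Group E] [Finite E] {M : Ideal AlgInt} {p : ℕ}
  [hpp : Fact p.Prime]

/-- **Vanishing through a central extension**. Let `N ⊴ G`, `θ ∈ Irr(N)`, and let `π : E → G` be a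
surjection with central kernel of order prime to `p`, with a lift `ι : N → E` of `N` to a normal
subgroup of `E` and an irreducible character `τ` of `E` of degree prime to `p` extending `θ`
(via `ι`). If `χ ∈ Irr(G)` lies over `θ` and no conjugate of the image of `g` in `G / N` centralises
the normal `p`-subgroup `Q` of `G / N`, then the central character of `χ` at `g` lies in the local
ideal. -/
theorem memLocalIdeal_centralChar_of_extension (hM : IsPModular p M) (N : Subgroup G)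
    [hN : N.Normal] [Fintype N] (θ : IrrCharacter N) (π : E →* G) (hπ : Function.Surjective π)
    (hZc : π.ker ≤ Subgroup.center E) (hZp : ¬ p ∣ Nat.card π.ker) (ι : N →* E)
    (hι : ∀ n : N, π (ι n) = (n : G)) [hιn : ι.range.Normal] (τ : IrrCharacter E)
    (hτθ : ∀ n : N, (τ : E → ℂ) (ι n) = (θ : N → ℂ) n)
    (hτp : ¬ p ∣ charDegree (τ : E → ℂ)) (χ : IrrCharacter G)
    (hχ : classInner (fun n : N => (χ : G → ℂ) n) (θ : N → ℂ) ≠ 0)
    (Q : Subgroup (G ⧸ N)) [hQn : Q.Normal] (hQ : IsPGroup p Q) (g : G)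
    (hg : ∀ y : G ⧸ N, IsConj ((g : G ⧸ N)) y → y ∉ Subgroup.centralizer (Q : Set (G ⧸ N))) :
    MemLocalIdeal M (centralChar (χ : G → ℂ) g) := by
  classical
  let _ := Fintype.ofFinite G
  let _ := Fintype.ofFinite E
  have hprime : M.IsPrime := isPrime_of_isPModular hM
  set N₁ : Subgroup E := ι.range with hN₁
  let _ : Fintype N₁ := Fintype.ofFinite _
  have hιinj : Function.Injective ι := by
    intro a b hab
    apply Subtype.ext
    rw [← hι a, ← hι b, hab]
  -- the inflated character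
  set ψ : IrrCharacter E := ⟨(χ : G → ℂ) ∘ π, IsIrrCharacter.comp_surjective χ.2 π hπ⟩ with hψdef
  have hψ : ∀ e : E, (ψ : E → ℂ) e = (χ : G → ℂ) (π e) := fun e => rfl
  apply memLocalIdeal_centralChar_of_pullback hM π hπ hZp χ ψ hψ g
  intro e he
  -- the isomorphism `N ≃ N₁`
  let α : N ≃* N₁ := MonoidHom.ofInjective hιinj
  have hα : ∀ n : N, ((α n : N₁) : E) = ι n := fun n => rfl
  have hτN : IsIrrCharacter N₁ (resFun N₁ (τ : E → ℂ)) := by
    have h1 : IsIrrCharacter N₁ ((θ : N → ℂ) ∘ α.symm) := IsIrrCharacter.comp_mulEquiv θ.2 α.symm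
    have h2 : resFun N₁ (τ : E → ℂ) = (θ : N → ℂ) ∘ α.symm := by
      funext x
      obtain ⟨n, rfl⟩ := α.surjective x
      change (τ : E → ℂ) ((α n : N₁) : E) = (θ : N → ℂ) (α.symm (α n))
      rw [hα, hτθ, MulEquiv.symm_apply_apply]
    rw [h2]
    exact h1
  have hψτ : classInner (resFun N₁ (ψ : E → ℂ)) (resFun N₁ (τ : E → ℂ)) ≠ 0 := by
    have h1 : classInner (resFun N₁ (ψ : E → ℂ)) (resFun N₁ (τ : E → ℂ)) =
        classInner (fun n : N => (χ : G → ℂ) n) (θ : N → ℂ) := by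
      unfold classInner
      have hc : Nat.card N₁ = Nat.card N := (Nat.card_congr α.toEquiv).symm
      rw [hc]
      congr 1
      symm
      apply Fintype.sum_equiv α.toEquiv
      intro n
      change (χ : G → ℂ) n * conj ((θ : N → ℂ) n) =
        (ψ : E → ℂ) ((α n : N₁) : E) * conj ((τ : E → ℂ) ((α n : N₁) : E))
      rw [hα, hτθ, hψ, hι]
    rw [h1]
    exact hχ
  -- the induced map on quotients
  have hle : N₁ ≤ N.comap π := by
    rintro x ⟨n, rfl⟩
    rw [Subgroup.mem_comap, hι]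
    exact n.2
  set πq : E ⧸ N₁ →* G ⧸ N := QuotientGroup.map N₁ N π hle with hπq
  have hπq_mk : ∀ x : E, πq (x : E ⧸ N₁) = ((π x : G) : G ⧸ N) := fun x => rfl
  have hπqs : Function.Surjective πq := by
    intro y
    obtain ⟨y', rfl⟩ := QuotientGroup.mk_surjective y
    obtain ⟨x, rfl⟩ := hπ y'
    exact ⟨(x : E ⧸ N₁), rfl⟩
  have hkerq : πq.ker ≤ (π.ker).map (QuotientGroup.mk' N₁) := by
    intro y hy
    obtain ⟨x, rfl⟩ := QuotientGroup.mk_surjective y
    rw [MonoidHom.mem_ker, hπq_mk, QuotientGroup.eq_one_iff] at hy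
    refine ⟨x * (ι ⟨π x, hy⟩)⁻¹, ?_, ?_⟩
    · rw [SetLike.mem_coe, MonoidHom.mem_ker, map_mul, map_inv, hι]
      simp
    · change ((x * (ι ⟨π x, hy⟩)⁻¹ : E) : E ⧸ N₁) = (x : E ⧸ N₁)
      rw [QuotientGroup.eq]
      have : (x * (ι ⟨π x, hy⟩)⁻¹)⁻¹ * x = ι ⟨π x, hy⟩ := by group
      rw [this]
      exact ⟨_, rfl⟩
  have hZcq : πq.ker ≤ Subgroup.center (E ⧸ N₁) := by
    intro y hy
    obtain ⟨z, hz, rfl⟩ := hkerq hy
    rw [Subgroup.mem_center_iff]
    intro w
    obtain ⟨w', rfl⟩ := QuotientGroup.mk_surjective w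
    have := (Subgroup.mem_center_iff.mp (hZc hz)) w'
    change ((w' * z : E) : E ⧸ N₁) = ((z * w' : E) : E ⧸ N₁)
    rw [this]
  have hZpq : ¬ p ∣ Nat.card πq.ker := by
    intro hdvd
    apply hZp
    have h1 : Nat.card πq.ker ∣ Nat.card ((π.ker).map (QuotientGroup.mk' N₁)) :=
      Subgroup.card_dvd_of_le hkerq
    have h2 : Nat.card ((π.ker).map (QuotientGroup.mk' N₁)) ∣ Nat.card π.ker :=
      Subgroup.card_map_dvd _ _
    exact dvd_trans hdvd (dvd_trans h1 h2)
  obtain ⟨Q₁, hQ₁n, hQ₁p, hQ₁map⟩ := exists_normal_pGroup_map_eq πq hπqs hZcq hZpq Q hQ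
  apply memLocalIdeal_centralChar_twisted hM N₁ τ hτN hτp ψ hψτ Q₁ hQ₁p e
  intro y hy hyc
  apply hg (πq y)
  · -- conjugacy
    have h1 : IsConj ((π e : G) : G ⧸ N) (πq y) := by
      have := MonoidHom.map_isConj πq hy
      rwa [hπq_mk] at this
    have h2 : IsConj ((g : G) : G ⧸ N) ((π e : G) : G ⧸ N) := MonoidHom.map_isConj (QuotientGroup.mk' N) he
    exact h2.trans h1
  · rw [Subgroup.mem_centralizer_iff]
    intro q hq
    rw [SetLike.mem_coe, ← hQ₁map] at hq
    obtain ⟨q₁, hq₁, rfl⟩ := hq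
    rw [← map_mul, ← map_mul]
    congr 1
    exact (Subgroup.mem_centralizer_iff.mp hyc) q₁ hq₁

end transfer

end Cfsg.Agent.Lib.Helper6.FongBlock
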