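/-
helper6: Fong's theorem, part D: the characters over an invariant irreducible character `θ` of a
normal `p'`-subgroup `N` form a single block when `G / N` has a self-centralising normal
`p`-subgroup.
-/
import Mathlib
import Cfsg.Agent.Lib.Helper6.FongB
import Cfsg.Agent.Lib.Helper6.FongC
import Cfsg.Agent.Lib.Helper6.Clifford
import Cfsg.Agent.Lib.Helper23.GreenTau

set_option autoImplicit false

namespace Cfsg.Agent.Lib.Helper6.FongBlock

open Cfsg Cfsg.Agent.CharLib Cfsg.Agent.Lib.Helper24 Cfsg.Agent.Lib.Helper6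
  Cfsg.Agent.Lib.Helper6.SepClasses Cfsg.Agent.Lib.Helper23
open scoped ComplexConjugate

universe u

section single

variable {G : Type u} [Group G] [Finite G] {M : Ideal AlgInt} {p : ℕ} [hpp : Fact p.Prime]

/-- In a group of order prime to `p` every block is a singleton. -/
theorem eq_of_sameBlock_of_not_dvd_card (hM : IsPModular p M) (hG : ¬ p ∣ Nat.card G)
    (θ θ₁ : IrrCharacter G) (h : SameBlock M (θ : G → ℂ) (θ₁ : G → ℂ)) : θ = θ₁ := by
  classical
  let _ := Fintype.ofFinite G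
  have hprime : M.IsPrime := isPrime_of_isPModular hM
  set a := blockCoeff ({θ₁} : Set (IrrCharacter G)) with ha
  have hacls : IsClassFunction G a := blockCoeff_isClassFunction _
  have haR : ∀ x, MemLocalRing M (a x) := by
    intro x
    rw [ha, blockCoeff_singleton]
    apply memLocalRing_mul (memLocalRing_inv_natCast_of_not_dvd hM hG)
    apply memLocalRing_mul (memLocalRing_irr_apply θ₁ 1)
    have h1 : conj ((θ₁ : G → ℂ) x) = (θ₁ : G → ℂ) x⁻¹ := (irr_apply_inv θ₁ x).symm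
    rw [h1]
    exact memLocalRing_irr_apply θ₁ _
  have hkey := memLocalIdeal_omegaFun_sub θ θ₁ h hacls haR
  rw [ha, omegaFun_blockCoeff, omegaFun_blockCoeff, if_pos (Set.mem_singleton θ₁)] at hkey
  by_contra hne
  rw [if_neg (fun hmem => hne (Set.mem_singleton_iff.mp hmem)), zero_sub] at hkey
  have h2 := memLocalIdeal_neg hkey
  rw [neg_neg] at h2
  exact not_memLocalIdeal_one h2

/-- **Fong's theorem, single block**: all irreducible characters of `G` over the invariant
irreducible character `θ` of the normal `p'`-subgroup `N` lie in one block, provided `G / N` has a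
normal `p`-subgroup containing its own centraliser. -/
theorem sameBlock_of_over_invariant (hM : IsPModular p M) (N : Subgroup G) [hN : N.Normal]
    [Fintype N] (hNp : ¬ p ∣ Nat.card N) (θ : IrrCharacter N)
    (hinv : ∀ (g : G) (n : N), (θ : N → ℂ) ⟨g * n * g⁻¹, hN.conj_mem n n.2 g⟩ = (θ : N → ℂ) n)
    (Q : Subgroup (G ⧸ N)) [hQn : Q.Normal] (hQ : IsPGroup p Q)
    (hC : Subgroup.centralizer (Q : Set (G ⧸ N)) ≤ Q) (χ ψ : IrrCharacter G)
    (hχ : classInner (fun n : N => (χ : G → ℂ) n) (θ : N → ℂ) ≠ 0)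
    (hψ : classInner (fun n : N => (ψ : G → ℂ) n) (θ : N → ℂ) ≠ 0) :
    SameBlock M (χ : G → ℂ) (ψ : G → ℂ) := by
  classical
  let _ := Fintype.ofFinite G
  have hprime : M.IsPrime := isPrime_of_isPModular hM
  obtain ⟨E, hEg, hEf, π, ι, τ, hπ, hZc, hZp, hι, hιn, hτθ, hτp⟩ :=
    exists_central_extension (p := p) N θ hinv hNp
  -- vanishing outside the preimage of `Q`
  have hvan : ∀ (φ : IrrCharacter G), classInner (fun n : N => (φ : G → ℂ) n) (θ : N → ℂ) ≠ 0 →
      ∀ g : G, (g : G ⧸ N) ∉ Q → MemLocalIdeal M (centralChar (φ : G → ℂ) g) := by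
    intro φ hφ g hg
    apply memLocalIdeal_centralChar_of_extension hM N θ π hπ hZc hZp ι hι τ hτθ hτp φ hφ Q hQ g
    intro y hy hyc
    apply hg
    obtain ⟨c, hc⟩ := isConj_iff.mp hy
    have h1 : (g : G ⧸ N) = c⁻¹ * y * c⁻¹⁻¹ := by
      rw [← hc]; group
    rw [h1]
    exact hQn.conj_mem y (hC hyc) c⁻¹
  -- values on `N`
  have hinv' : ∀ g : G, conjFun N g (θ : N → ℂ) = (θ : N → ℂ) := fun g => funext (fun n => hinv g n)
  have hres : ∀ (φ : IrrCharacter G), classInner (fun n : N => (φ : G → ℂ) n) (θ : N → ℂ) ≠ 0 →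
      ∀ n : N, (φ : G → ℂ) n / (φ : G → ℂ) 1 = (θ : N → ℂ) n / (θ : N → ℂ) 1 := by
    intro φ hφ n
    have h1 := clifford_of_invariant N φ.2 θ.2 hφ hinv'
    have h2 := congrFun h1 n
    have h3 := congrFun h1 1
    rw [resFun_apply, Pi.smul_apply, smul_eq_mul] at h2 h3
    change (φ : G → ℂ) 1 = _ at h3
    rw [h2, h3]
    have hθ1 : (θ : N → ℂ) 1 ≠ 0 := irr_apply_one_ne_zero θ
    have hc0 : classInner (resFun N (φ : G → ℂ)) (θ : N → ℂ) ≠ 0 := hφ
    field_simp
  apply sameBlock_of_forall_pRegular hM χ ψ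
  intro g hg
  by_cases hgQ : (g : G ⧸ N) ∈ Q
  · -- then `g ∈ N`
    have hgN : g ∈ N := by
      rw [← QuotientGroup.eq_one_iff]
      obtain ⟨k, hk⟩ := (IsPGroup.iff_orderOf.mp hQ) ⟨(g : G ⧸ N), hgQ⟩
      have h1 : orderOf (g : G ⧸ N) = p ^ k := by
        rw [← hk]
        exact (Subgroup.orderOf_mk _ hgQ).symm
      have h2 : orderOf (g : G ⧸ N) ∣ orderOf g := orderOf_map_dvd (QuotientGroup.mk' N) g
      rw [h1] at h2
      rcases Nat.eq_zero_or_pos k with hk0 | hk0
      · rw [hk0, pow_zero] at h1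
        exact orderOf_eq_one_iff.mp h1
      · exact absurd (dvd_trans (dvd_pow_self p hk0.ne') h2) hg
    have h1 := hres χ hχ ⟨g, hgN⟩
    have h2 := hres ψ hψ ⟨g, hgN⟩
    have h3 : centralChar (χ : G → ℂ) g = centralChar (ψ : G → ℂ) g := by
      unfold centralChar
      rw [mul_div_assoc, mul_div_assoc]
      change _ * ((χ : G → ℂ) g / _) = _ * ((ψ : G → ℂ) g / _)
      have h1' : (χ : G → ℂ) g / (χ : G → ℂ) 1 = (θ : N → ℂ) ⟨g, hgN⟩ / (θ : N → ℂ) 1 := h1
      have h2' : (ψ : G → ℂ) g / (ψ : G → ℂ) 1 = (θ : N → ℂ) ⟨g, hgN⟩ / (θ : N → ℂ) 1 := h2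
      rw [h1', h2']
    rw [h3, sub_self]
    exact memLocalIdeal_zero hprime.one_notMem
  · exact memLocalIdeal_sub (hvan χ hχ g hgQ) (hvan ψ hψ g hgQ)

end single

end Cfsg.Agent.Lib.Helper6.FongBlock
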