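/-
helper6: Fong's theorem on heights in `p`-solvable groups, part A (group theory).
-/
import Mathlib
import Cfsg.Agent.Lib.Helper6.CTripleB
import Cfsg.Agent.Lib.Helper12.HallHigman
import Cfsg.Agent.Lib.Helper24.PSolvable

set_option autoImplicit false

namespace Cfsg.Agent.Lib.Helper6.FongHeight

open Cfsg Cfsg.Agent.Lib.Helper6.CTriple

universe u

/-- The index of the centre is invariant under isomorphism. -/
theorem index_center_eq_of_mulEquiv {A B : Type*} [Group A] [Group B] (e : A ≃* B) :
    (Subgroup.center A).index = (Subgroup.center B).index := by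
  have h1 : (Subgroup.center A).map e.toMonoidHom = Subgroup.center B := by
    ext b
    constructor
    · rintro ⟨a, ha, rfl⟩
      rw [Subgroup.mem_center_iff]
      intro y
      obtain ⟨x, rfl⟩ := e.surjective y
      change e x * e a = e a * e x
      rw [← map_mul, ← map_mul, Subgroup.mem_center_iff.mp ha x]
    · intro hb
      refine ⟨e.symm b, ?_, by simp⟩
      rw [SetLike.mem_coe, Subgroup.mem_center_iff]
      intro x
      apply e.injective
      rw [map_mul, map_mul, MulEquiv.apply_symm_apply]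
      exact Subgroup.mem_center_iff.mp hb (e x)
  rw [← h1]
  exact (Subgroup.index_map_of_bijective e.bijective _).symm

/-- The preimage of an abelian `p`-subgroup under a surjection with central `p'`-kernel is
abelian. -/
theorem comm_of_comap_abelian {E Gb : Type*} [Group E] [Finite E] [Group Gb] (p : ℕ)
    [hp : Fact p.Prime] (φ : E →* Gb) (hc : φ.ker ≤ Subgroup.center E)
    (hker : ¬ p ∣ Nat.card φ.ker) (A₀ : Subgroup Gb) (hA₀ : IsPGroup p A₀)
    (hab : ∀ a ∈ A₀, ∀ b ∈ A₀, a * b = b * a) :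
    ∀ x ∈ A₀.comap φ, ∀ y ∈ A₀.comap φ, x * y = y * x := by
  intro x hx y hy
  set c := x * y * x⁻¹ * y⁻¹ with hcdef
  have hcker : c ∈ φ.ker := by
    rw [MonoidHom.mem_ker, hcdef, map_mul, map_mul, map_mul, map_inv, map_inv, hab _ hx _ hy]
    group
  have hcz : ∀ w : E, w * c = c * w := fun w => Subgroup.mem_center_iff.mp (hc hcker) w
  have hconj : x * y * x⁻¹ = c * y := by rw [hcdef]; group
  obtain ⟨k, hk⟩ := hA₀ (⟨φ y, hy⟩ : A₀)
  have hyk : y ^ (p ^ k) ∈ φ.ker := by
    rw [MonoidHom.mem_ker, map_pow]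
    have := congrArg (fun a : A₀ => (a : Gb)) hk
    simpa using this
  have h1 : x * y ^ (p ^ k) * x⁻¹ = c ^ (p ^ k) * y ^ (p ^ k) := by
    rw [← conj_pow, hconj, (show Commute c y from (hcz y).symm).mul_pow]
  have h2 : x * y ^ (p ^ k) * x⁻¹ = y ^ (p ^ k) := by
    rw [Subgroup.mem_center_iff.mp (hc hyk) x, mul_inv_cancel_right]
  have h3 : c ^ (p ^ k) = 1 := by
    rw [h2] at h1
    exact (mul_eq_right.mp h1.symm)
  have h4 : c ^ Nat.card φ.ker = 1 := by
    have := pow_card_eq_one' (G := φ.ker) (x := ⟨c, hcker⟩)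
    exact congrArg (fun a : φ.ker => (a : E)) this
  have hcop : (p ^ k).Coprime (Nat.card φ.ker) :=
    Nat.Coprime.pow_left k ((Nat.Prime.coprime_iff_not_dvd hp.out).mpr hker)
  have hc1 : c = 1 := eq_one_of_pow_eq_one_of_coprime hcop h3 h4
  have : x * y = c * (y * x) := by rw [hcdef]; group
  rw [this, hc1, one_mul]

variable {G : Type u} [Group G] [Finite G]

/-- In a `p`-solvable group the centre of a Sylow `p`-subgroup embeds in
`Z(O_p(G/N))` when `N` is a normal `p'`-subgroup with `O_{p'}(G/N) = 1`. -/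
theorem card_center_sylow_dvd (p : ℕ) [hp : Fact p.Prime] (hsolv : IsPSolvable p G)
    (N : Subgroup G) [hN : N.Normal] (hNp : ¬ p ∣ Nat.card N)
    (hO : pPrimeCore p (G ⧸ N) = ⊥) (P : Sylow p G) :
    Nat.card (Subgroup.center (P : Subgroup G)) ∣
      Nat.card (pCore p (G ⧸ N) ⊓
        Subgroup.centralizer ((pCore p (G ⧸ N) : Subgroup (G ⧸ N)) : Set (G ⧸ N)) :
          Subgroup (G ⧸ N)) := by
  classical
  let mk : G →* G ⧸ N := QuotientGroup.mk' N
  have hmk : Function.Surjective mk := QuotientGroup.mk'_surjective N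
  have hsolv' : IsPSolvable p (G ⧸ N) :=
    Cfsg.Agent.Lib.Helper24.isPSolvable_of_surjective p mk hmk hsolv
  set Q : Subgroup (G ⧸ N) := pCore p (G ⧸ N) with hQ
  haveI hQn : Q.Normal := Cfsg.Agent.Lib.Helper24.pCore_normal' p
  have hQp : IsPGroup p Q := Cfsg.Agent.Lib.Helper12.pCore_isPGroup' p
  have hHH : Subgroup.centralizer (Q : Set (G ⧸ N)) ≤ Q :=
    Cfsg.Agent.Lib.Helper12.centralizer_pCore_le_pCore p hsolv' hO
  let Pb : Sylow p (G ⧸ N) := P.mapSurjective hmk
  have hQPb : Q ≤ (P : Subgroup G).map mk :=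
    Cfsg.Agent.Lib.Helper24.normal_pgroup_le_sylow Q hQp Pb
  let f : Subgroup.center (P : Subgroup G) →*
      (Q ⊓ Subgroup.centralizer (Q : Set (G ⧸ N)) : Subgroup (G ⧸ N)) :=
    { toFun := fun z => ⟨mk ((z : (P : Subgroup G)) : G), by
        have hz : mk ((z : (P : Subgroup G)) : G) ∈ Subgroup.centralizer (Q : Set (G ⧸ N)) := by
          rw [Subgroup.mem_centralizer_iff]
          intro q hq
          obtain ⟨g, hg, rfl⟩ := hQPb hq
          have h1 := Subgroup.mem_center_iff.mp z.2 ⟨g, hg⟩
          have h2 : g * ((z : (P : Subgroup G)) : G) = ((z : (P : Subgroup G)) : G) * g :=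
            congrArg (fun a : (P : Subgroup G) => (a : G)) h1
          rw [← map_mul, ← map_mul, h2]
        exact ⟨hHH hz, hz⟩⟩
      map_one' := by
        apply Subtype.ext
        simp
      map_mul' := by
        intro a b
        apply Subtype.ext
        simp }
  apply Subgroup.card_dvd_of_injective f
  rw [injective_iff_map_eq_one]
  intro z hz
  have h1 : mk ((z : (P : Subgroup G)) : G) = 1 := congrArg Subtype.val hz
  have h2 : ((z : (P : Subgroup G)) : G) ∈ N := by
    rw [← QuotientGroup.ker_mk' N, MonoidHom.mem_ker]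
    exact h1
  -- a `p`-element of the `p'`-group `N` is trivial
  obtain ⟨k, hk⟩ := P.isPGroup' (z : (P : Subgroup G))
  have h3 : ((z : (P : Subgroup G)) : G) ^ (p ^ k) = 1 := by
    have := congrArg (fun a : (P : Subgroup G) => (a : G)) hk
    simpa using this
  have h4 : ((z : (P : Subgroup G)) : G) ^ Nat.card N = 1 := by
    have := pow_card_eq_one' (G := N) (x := ⟨_, h2⟩)
    exact congrArg (fun a : N => (a : G)) this
  have hcop : (p ^ k).Coprime (Nat.card N) :=
    Nat.Coprime.pow_left k ((Nat.Prime.coprime_iff_not_dvd hp.out).mpr hNp)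
  have h5 := eq_one_of_pow_eq_one_of_coprime hcop h3 h4
  apply Subtype.ext
  apply Subtype.ext
  exact h5

end Cfsg.Agent.Lib.Helper6.FongHeight
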