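/-
helper6: Fong's theorem on heights in `p`-solvable groups, part B: the degree bound over an
invariant character of a normal `p'`-subgroup.
-/
import Mathlib
import Cfsg.Agent.Lib.Helper6.FongHeightA
import Cfsg.Agent.Lib.Helper6.FongB
import Cfsg.Agent.Lib.Helper6.FongC
import Cfsg.Agent.S0169

set_option autoImplicit false

namespace Cfsg.Agent.Lib.Helper6.FongHeight

open Cfsg Cfsg.Agent.CharLib Cfsg.Agent.Lib.Helper24 Cfsg.Agent.Lib.Helper6
  Cfsg.Agent.Lib.Helper6.FongBlock Cfsg.Agent.Lib.Helper23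
open scoped ComplexConjugate

universe u

variable {G : Type u} [Group G] [Finite G] {p : ℕ} [hpp : Fact p.Prime]

/-- **Degree bound**: over an invariant character of the normal `p'`-subgroup `N` with
`O_{p'}(G/N) = 1` in a `p`-solvable group, `χ(1)_p ≤ |P : Z(P)|`. -/
theorem factorization_degree_le (hsolv : IsPSolvable p G) (N : Subgroup G) [hN : N.Normal]
    [Fintype N] (hNp : ¬ p ∣ Nat.card N) (hO : pPrimeCore p (G ⧸ N) = ⊥) (θ : IrrCharacter N)
    (hinv : ∀ (g : G) (n : N), (θ : N → ℂ) ⟨g * n * g⁻¹, hN.conj_mem n n.2 g⟩ = (θ : N → ℂ) n)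
    (χ : IrrCharacter G) (hχ : classInner (fun n : N => (χ : G → ℂ) n) (θ : N → ℂ) ≠ 0)
    (P : Sylow p G) :
    (charDegree (χ : G → ℂ)).factorization p ≤
      ((Subgroup.center (P : Subgroup G)).index).factorization p := by
  classical
  obtain ⟨E, hEg, hEf, π, ι, τ, hπ, hZc, hZp, hι, hιn, hτθ, hτp⟩ :=
    exists_central_extension (p := p) N θ hinv hNp
  haveI := hιn
  let _ := Fintype.ofFinite G
  let _ := Fintype.ofFinite E
  set N₁ : Subgroup E := ι.range with hN₁
  let _ : Fintype N₁ := Fintype.ofFinite _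
  have hιinj : Function.Injective ι := by
    intro a b hab
    apply Subtype.ext
    rw [← hι a, ← hι b, hab]
  set ψ : IrrCharacter E := ⟨(χ : G → ℂ) ∘ π, IsIrrCharacter.comp_surjective χ.2 π hπ⟩ with hψdef
  have hψ : ∀ e : E, (ψ : E → ℂ) e = (χ : G → ℂ) (π e) := fun e => rfl
  let α : N ≃* N₁ := MonoidHom.ofInjective hιinj
  have hα : ∀ n : N, ((α n : N₁) : E) = ι n := fun n => rfl
  have hτN : IsIrrCharacter N₁ (resFun N₁ (τ : E → ℂ)) := by
    have h1 : IsIrrCharacter N₁ ((θ : N → ℂ) ∘ α.symm) := IsIrrCharacter.comp_mulEquiv θ.2 α.symm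
    have h2 : resFun N₁ (τ : E → ℂ) = (θ : N → ℂ) ∘ α.symm := by
      funext x
      obtain ⟨n, rfl⟩ := α.surjective x
      change (τ : E → ℂ) ((α n : N₁) : E) = (θ : N → ℂ) (α.symm (α n))
      rw [hα, hτθ, MulEquiv.symm_apply_apply]
    rw [h2]
    exact h1
  have hψτ : classInner (resFun N₁ (ψ : E → ℂ)) (resFun N₁ (τ : E → ℂ)) ≠ 0 := by
    have h1 : classInner (resFun N₁ (ψ : E → ℂ)) (resFun N₁ (τ : E → ℂ)) =
        classInner (fun n : N => (χ : G → ℂ) n) (θ : N → ℂ) := by
      unfold classInner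
      have hc : Nat.card N₁ = Nat.card N := (Nat.card_congr α.toEquiv).symm
      rw [hc]
      congr 1
      symm
      apply Fintype.sum_equiv α.toEquiv
      intro n
      change (χ : G → ℂ) n * conj ((θ : N → ℂ) n) =
        (ψ : E → ℂ) ((α n : N₁) : E) * conj ((τ : E → ℂ) ((α n : N₁) : E))
      rw [hα, hτθ, hψ, hι]
    rw [h1]
    exact hχ
  -- Gallagher
  obtain ⟨hγirr, hγmul, hγover⟩ := (gallagher_avg N₁ τ.2 hτN ψ.2).1 hψτ
  set γ : E → ℂ := avgMulConj N₁ (ψ : E → ℂ) (τ : E → ℂ) with hγ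
  obtain ⟨-, hγinv⟩ := apply_mul_of_indFun_one_ne_zero N₁ hγirr hγover
  have hγker : ∀ n ∈ N₁, ((⟨γ, hγirr⟩ : IrrCharacter E) : E → ℂ) n =
      ((⟨γ, hγirr⟩ : IrrCharacter E) : E → ℂ) 1 := by
    intro n hn
    have := hγinv ⟨n, hn⟩ 1
    simpa using this
  obtain ⟨β, hβ⟩ := exists_deflation N₁ ⟨γ, hγirr⟩ hγker
  -- degrees
  have hdeg : charDegree (χ : G → ℂ) = charDegree (β : E ⧸ N₁ → ℂ) * charDegree (τ : E → ℂ) := by
    have h1 : (χ : G → ℂ) 1 = (β : E ⧸ N₁ → ℂ) 1 * (τ : E → ℂ) 1 := by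
      have h2 := congrFun hγmul 1
      rw [Pi.mul_apply] at h2
      have h3 := hβ 1
      change (β : E ⧸ N₁ → ℂ) 1 = γ 1 at h3
      rw [h3, h2, hψ, map_one]
    rw [irr_apply_one χ, irr_apply_one β, irr_apply_one τ] at h1
    exact_mod_cast h1
  have hβ0 : charDegree (β : E ⧸ N₁ → ℂ) ≠ 0 := by
    intro h0
    have := irr_apply_one_ne_zero β
    rw [irr_apply_one β, h0] at this
    exact this (by simp)
  have hτ0 : charDegree (τ : E → ℂ) ≠ 0 := by
    intro h0
    have := irr_apply_one_ne_zero τ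
    rw [irr_apply_one τ, h0] at this
    exact this (by simp)
  have hfac : (charDegree (χ : G → ℂ)).factorization p =
      (charDegree (β : E ⧸ N₁ → ℂ)).factorization p := by
    rw [hdeg, Nat.factorization_mul hβ0 hτ0]
    change _ + (charDegree (τ : E → ℂ)).factorization p = _
    rw [Nat.factorization_eq_zero_of_not_dvd hτp, add_zero]
  -- the induced map on quotients
  have hle : N₁ ≤ N.comap π := by
    rintro x ⟨n, rfl⟩
    rw [Subgroup.mem_comap, hι]
    exact n.2
  set πq : E ⧸ N₁ →* G ⧸ N := QuotientGroup.map N₁ N π hle with hπq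
  have hπq_mk : ∀ x : E, πq (x : E ⧸ N₁) = ((π x : G) : G ⧸ N) := fun x => rfl
  have hπqs : Function.Surjective πq := by
    intro y
    obtain ⟨y', rfl⟩ := QuotientGroup.mk_surjective y
    obtain ⟨x, rfl⟩ := hπ y'
    exact ⟨(x : E ⧸ N₁), rfl⟩
  have hkerq : πq.ker ≤ (π.ker).map (QuotientGroup.mk' N₁) := by
    intro y hy
    obtain ⟨x, rfl⟩ := QuotientGroup.mk_surjective y
    rw [MonoidHom.mem_ker, hπq_mk, QuotientGroup.eq_one_iff] at hy
    refine ⟨x * (ι ⟨π x, hy⟩)⁻¹, ?_, ?_⟩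
    · rw [SetLike.mem_coe, MonoidHom.mem_ker, map_mul, map_inv, hι]
      simp
    · change ((x * (ι ⟨π x, hy⟩)⁻¹ : E) : E ⧸ N₁) = (x : E ⧸ N₁)
      rw [QuotientGroup.eq]
      have : (x * (ι ⟨π x, hy⟩)⁻¹)⁻¹ * x = ι ⟨π x, hy⟩ := by group
      rw [this]
      exact ⟨_, rfl⟩
  have hZcq : πq.ker ≤ Subgroup.center (E ⧸ N₁) := by
    intro y hy
    obtain ⟨z, hz, rfl⟩ := hkerq hy
    rw [Subgroup.mem_center_iff]
    intro w
    obtain ⟨w', rfl⟩ := QuotientGroup.mk_surjective w
    have := (Subgroup.mem_center_iff.mp (hZc hz)) w'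
    change ((w' * z : E) : E ⧸ N₁) = ((z * w' : E) : E ⧸ N₁)
    rw [this]
  have hZpq : ¬ p ∣ Nat.card πq.ker := by
    intro hdvd
    apply hZp
    have h1 : Nat.card πq.ker ∣ Nat.card ((π.ker).map (QuotientGroup.mk' N₁)) :=
      Subgroup.card_dvd_of_le hkerq
    have h2 : Nat.card ((π.ker).map (QuotientGroup.mk' N₁)) ∣ Nat.card π.ker :=
      Subgroup.card_map_dvd _ _
    exact dvd_trans hdvd (dvd_trans h1 h2)
  -- the abelian normal subgroup
  set Q : Subgroup (G ⧸ N) := pCore p (G ⧸ N) with hQ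
  haveI hQn : Q.Normal := Cfsg.Agent.Lib.Helper24.pCore_normal' p
  have hQp : IsPGroup p Q := Cfsg.Agent.Lib.Helper12.pCore_isPGroup' p
  haveI hCn : (Subgroup.centralizer (Q : Set (G ⧸ N))).Normal := Subgroup.normal_centralizer
  set A₀ : Subgroup (G ⧸ N) := Q ⊓ Subgroup.centralizer (Q : Set (G ⧸ N)) with hA₀
  haveI hA₀n : A₀.Normal := Subgroup.normal_inf_normal _ _
  have hA₀p : IsPGroup p A₀ := hQp.to_le inf_le_left
  have hA₀ab : ∀ a ∈ A₀, ∀ b ∈ A₀, a * b = b * a := by
    intro a ha b hb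
    exact (Subgroup.mem_centralizer_iff.mp ha.2 b hb.1).symm
  set A : Subgroup (E ⧸ N₁) := A₀.comap πq with hA
  haveI hAn : A.Normal := hA₀n.comap πq
  have hAab : ∀ x ∈ A, ∀ y ∈ A, x * y = y * x :=
    comm_of_comap_abelian p πq hZcq hZpq A₀ hA₀p hA₀ab
  -- Itô
  have hito : charDegree (β : E ⧸ N₁ → ℂ) ∣ A₀.index := by
    obtain ⟨n, ρ, hirr, hρ⟩ := β.2
    haveI := hirr
    have h1 : Module.finrank ℂ (Fin n → ℂ) ∣ A.index := Cfsg.Agent.S0169.result ρ A hAab
    rw [Module.finrank_fin_fun, hA, Subgroup.index_comap_of_surjective A₀ hπqs] at h1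
    have h2 : charDegree (β : E ⧸ N₁ → ℂ) = n := by
      apply charDegree_eq_of_apply_one
      rw [← hρ, Representation.char_one, Module.finrank_fin_fun]
    rw [h2]
    exact h1
  -- arithmetic
  have hA₀idx : A₀.index ≠ 0 := Subgroup.index_ne_zero_of_finite
  have h1 : (charDegree (β : E ⧸ N₁ → ℂ)).factorization p ≤ (A₀.index).factorization p :=
    (Nat.factorization_le_iff_dvd hβ0 hA₀idx).mpr hito p
  have hcardGN : (Nat.card (G ⧸ N)).factorization p = (Nat.card G).factorization p := by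
    have h2 : Nat.card G = Nat.card (G ⧸ N) * Nat.card N :=
      Subgroup.card_eq_card_quotient_mul_card_subgroup N
    rw [h2, Nat.factorization_mul Nat.card_pos.ne' Nat.card_pos.ne']
    change _ = _ + (Nat.card N).factorization p
    rw [Nat.factorization_eq_zero_of_not_dvd hNp, add_zero]
  have h3 : (A₀.index).factorization p + (Nat.card A₀).factorization p =
      (Nat.card G).factorization p := by
    rw [← hcardGN, ← A₀.index_mul_card, Nat.factorization_mul hA₀idx Nat.card_pos.ne']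
    rfl
  have hZidx : (Subgroup.center (P : Subgroup G)).index ≠ 0 := Subgroup.index_ne_zero_of_finite
  have h4 : ((Subgroup.center (P : Subgroup G)).index).factorization p +
      (Nat.card (Subgroup.center (P : Subgroup G))).factorization p =
        (Nat.card G).factorization p := by
    have h5 : Nat.card (P : Subgroup G) = p ^ (Nat.card G).factorization p :=
      P.card_eq_multiplicity
    have h6 := (Subgroup.center (P : Subgroup G)).index_mul_card
    have h7 : (Nat.card (P : Subgroup G)).factorization p = (Nat.card G).factorization p := by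
      rw [h5, Nat.Prime.factorization_pow hpp.out]
      simp
    rw [← h7, ← h6, Nat.factorization_mul hZidx Nat.card_pos.ne']
    rfl
  have h8 : (Nat.card (Subgroup.center (P : Subgroup G))).factorization p ≤
      (Nat.card A₀).factorization p :=
    (Nat.factorization_le_iff_dvd Nat.card_pos.ne' Nat.card_pos.ne').mpr
      (card_center_sylow_dvd p hsolv N hNp hO P) p
  rw [hfac]
  omega

end Cfsg.Agent.Lib.Helper6.FongHeight
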