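/-
helper6: Fong's theorem on heights in `p`-solvable groups, part C: the induction through the
Fong–Reynolds correspondence.
-/
import Mathlib
import Cfsg.Agent.Lib.Helper6.FongHeightB
import Cfsg.Agent.Lib.Helper6.FongReynolds
import Cfsg.Agent.Lib.Helper6.FongD
import Cfsg.Agent.Lib.Helper6.Ramification2
import Cfsg.Agent.Lib.Helper23.BrauerInduced
import Cfsg.Agent.Lib.Helper23.QuotDefectAux
import Cfsg.Agent.Lib.Helper25.PSolvableSub
import Cfsg.Agent.Lib.Helper12.Cores
import Cfsg.Agent.S4492

set_option autoImplicit false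

namespace Cfsg.Agent.Lib.Helper6.FongHeight

open Cfsg Cfsg.Agent.CharLib Cfsg.Agent.Lib.Helper24 Cfsg.Agent.Lib.Helper6
  Cfsg.Agent.Lib.Helper6.FongBlock Cfsg.Agent.Lib.Helper23 Cfsg.Agent.Lib.Helper6.FongReynolds
open scoped ComplexConjugate

universe u

/-- **Fong's theorem on heights**: in a `p`-solvable group the height of every member of a block
with defect group `P` is at most the exponent of `p` in `|P : Z(P)|`. -/
theorem blockHeight_le (p : ℕ) [hpp : Fact p.Prime] {M : Ideal AlgInt} (hM : IsPModular p M) :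
    ∀ (n : ℕ) (G : Type u) [Group G] [Finite G], Nat.card G = n → IsPSolvable p G →
      ∀ B : Set (IrrCharacter G), IsPBlock M B → ∀ P : Subgroup G, IsDefectGroup p M B P →
        ∀ χ : IrrCharacter G, χ ∈ B →
          blockHeight p B (χ : G → ℂ) ≤ ((Subgroup.center P).index).factorization p := by
  intro n
  induction n using Nat.strong_induction_on with
  | _ n ih =>
  intro G _ _ hcard hsolv B hB P hP χ hχ
  classical
  have hprime : M.IsPrime := isPrime_of_isPModular hM
  letI : Fintype G := Fintype.ofFinite G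
  set K : Subgroup G := pPrimeCore p G with hK
  haveI hKn : K.Normal := pPrimeCore_normal' p
  letI : Fintype K := Fintype.ofFinite K
  have hKp : ¬ p ∣ Nat.card K := by
    have h1 : (Nat.card K).Coprime p := Cfsg.Agent.Lib.Helper12.pPrimeCore_coprime p
    intro h
    have := Nat.Coprime.eq_one_of_dvd h1.symm h
    exact hpp.out.one_lt.ne' this
  have hO : pPrimeCore p (G ⧸ K) = ⊥ := pPrimeCore_quotient_eq_bot' p
  -- a constituent of the restriction
  have hχc : IsCharacter G (χ : G → ℂ) := IsIrrCharacter.isCharacter χ.2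
  have hne : resFun K (χ : G → ℂ) ≠ 0 := by
    intro h
    have h1 := congrFun h 1
    have h2 : resFun K (χ : G → ℂ) 1 = (χ : G → ℂ) 1 := rfl
    rw [h2] at h1
    exact irr_apply_one_ne_zero χ h1
  obtain ⟨θ', hθ', hc⟩ := IsCharacter.exists_constituent (isCharacter_resFun K hχc) hne
  let θ : IrrCharacter K := ⟨θ', hθ'⟩
  set b : Set (IrrCharacter K) := {θ} with hbdef
  have hb : IsPBlock M b := by
    refine ⟨θ, ?_⟩
    ext θ₁
    constructor
    · intro h
      rw [Set.mem_singleton_iff.mp h]
      exact mem_blockOf_self θ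
    · intro h
      exact Set.mem_singleton_iff.mpr (eq_of_sameBlock_of_not_dvd_card hM hKp θ θ₁ h).symm
  set T : Subgroup G := inertiaSubgroup K θ' with hT
  letI : Fintype T := Fintype.ofFinite T
  have hconj : ∀ g : G, conjIrr g θ = θ ↔ g ∈ T := by
    intro g
    rw [hT, mem_inertiaSubgroup]
    constructor
    · intro h
      exact congrArg Subtype.val h
    · intro h
      exact Subtype.ext h
  have hstab : ∀ t ∈ T, ∀ θ₁ ∈ b, conjIrr t θ₁ ∈ b := by
    intro t ht θ₁ hθ₁
    rw [Set.mem_singleton_iff.mp hθ₁]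
    exact Set.mem_singleton_iff.mpr ((hconj t).mpr ht)
  have hTb : ∀ g : G, ∀ θ₁ ∈ b, conjIrr g θ₁ ∈ b → g ∈ T := by
    intro g θ₁ hθ₁ h
    rw [Set.mem_singleton_iff.mp hθ₁] at h
    exact (hconj g).mp (Set.mem_singleton_iff.mp h)
  have hθcf : IsClassFunction K θ' := IsCharacter.isClassFunction (IsIrrCharacter.isCharacter hθ')
  have hKT : K ≤ T := by
    intro k hk
    rw [hT, mem_inertiaSubgroup]
    funext n
    rw [conjFun_apply]
    exact hθcf n ⟨k, hk⟩
  have hcov : CoversG b B := ⟨χ, hχ, θ, rfl, hc⟩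
  by_cases hTtop : T = ⊤
  · -- the invariant case
    have hinv : ∀ (g : G) (n : K), (θ : K → ℂ) ⟨g * n * g⁻¹, hKn.conj_mem n n.2 g⟩ =
        (θ : K → ℂ) n := by
      intro g n
      have hg : g ∈ T := by rw [hTtop]; exact Subgroup.mem_top g
      rw [hT, mem_inertiaSubgroup] at hg
      exact congrFun hg n
    obtain ⟨B₀, hB₀, hB₀mem, -, hB₀syl⟩ := Cfsg.Agent.S4492.aux p M hM hsolv K hKp hO θ hinv
    have hχ₀ : χ ∈ B₀ := (hB₀mem χ).mpr hc
    have hBB : B = B₀ := isPBlock_eq_of_mem hB hB₀ hχ hχ₀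
    obtain ⟨S, rfl⟩ := hB₀syl P (hBB ▸ hP)
    have h1 : blockHeight p B (χ : G → ℂ) ≤ (charDegree (χ : G → ℂ)).factorization p :=
      Nat.sub_le _ _
    exact h1.trans (factorization_degree_le hsolv K hKp hO θ hinv χ hc S)
  · -- the Fong–Reynolds reduction
    obtain ⟨B', hB', hcovT, hind⟩ := exists_block_T hM hb hKT hstab hTb hB hcov
    obtain ⟨B₁, hI1, -, hirr, hB1⟩ := induced_block hM hb hKT hstab hTb hB' hcovT
    have e1 : B = B₁ := Cfsg.Agent.CharLib.isInducedBlock_unique hind hI1
    have hχind : χ ∈ indSet T B' := by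
      rw [← hB1, ← e1]
      exact hχ
    obtain ⟨ψ, hψ, hχψ⟩ := hχind
    obtain ⟨hdef, hheight⟩ := heights_defects hM hb hKT hstab hTb hB' hcovT hind
    obtain ⟨χ', -, hχ'ψ, hh⟩ := hheight ψ hψ
    have hχχ' : χ' = χ := Subtype.ext (hχ'ψ.trans hχψ.symm)
    rw [hχχ'] at hh
    obtain ⟨D', hD'⟩ := exists_isDefectGroup hM B' hB'
    have hD := hdef D' hD'
    -- induction hypothesis on `T`
    have hcardT : Nat.card T < n := by
      rw [← hcard, ← T.index_mul_card]
      have h1 : T.index ≠ 1 := fun h => hTtop (Subgroup.index_eq_one.mp h)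
      have h0 : T.index ≠ 0 := Subgroup.index_ne_zero_of_finite
      have h2 : 2 ≤ T.index := by omega
      have h3 : 0 < Nat.card T := Nat.card_pos
      nlinarith
    have hsolvT : IsPSolvable p T := Cfsg.Agent.Lib.Helper25.isPSolvable_subgroup p hsolv T
    have hIH := ih (Nat.card T) hcardT T rfl hsolvT B' hB' D' hD' ψ hψ
    rw [hh]
    refine hIH.trans (le_of_eq ?_)
    -- the centres of `D'` and `P` have the same index
    obtain ⟨c, rfl⟩ := isDefectGroup_conj_of_isDefectGroup hM hB hD hP
    have e2 : (Subgroup.center D').index = (Subgroup.center (D'.map T.subtype)).index :=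
      index_center_eq_of_mulEquiv (D'.equivMapOfInjective T.subtype T.subtype_injective)
    have e3 : (Subgroup.center (D'.map T.subtype)).index =
        (Subgroup.center ((D'.map T.subtype).map (MulAut.conj c).toMonoidHom)).index :=
      index_center_eq_of_mulEquiv ((D'.map T.subtype).equivMapOfInjective
        (MulAut.conj c).toMonoidHom (MulAut.conj c).injective)
    rw [e2, e3]

end Cfsg.Agent.Lib.Helper6.FongHeight
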