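import Mathlib

set_option autoImplicit false

/-! Fixed-point-free automorphisms of order three: basic facts. -/

namespace Cfsg.Agent.Lib.Helper6.Fpf3

open Subgroup

variable {G : Type*} [Group G]

/-- a fixed-point-free automorphism with trivial cube -/
structure IsFpf3 (ρ : MulAut G) : Prop where
  cube : ∀ y : G, ρ (ρ (ρ y)) = y
  fpf : ∀ y : G, ρ y = y → y = 1

namespace IsFpf3

variable {ρ : MulAut G}

theorem of_orderOf (h3 : orderOf ρ = 3) (hf : ∀ y : G, ρ y = y → y = 1) : IsFpf3 ρ := by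
  refine ⟨fun y => ?_, hf⟩
  have h : ρ ^ 3 = 1 := by rw [← h3]; exact pow_orderOf_eq_one ρ
  have h2 : (ρ ^ 3) y = y := by rw [h]; rfl
  simpa [pow_succ, MulAut.mul_apply] using h2

theorem lang_injective (h : IsFpf3 ρ) : Function.Injective (fun y : G => y⁻¹ * ρ y) := by
  intro y t hyt
  have h1 : ρ (t * y⁻¹) = t * y⁻¹ := by
    have h2 : y⁻¹ * ρ y = t⁻¹ * ρ t := hyt
    have h3 : ρ y = y * (t⁻¹ * ρ t) := by rw [← h2]; group
    rw [map_mul, map_inv, h3]; group
  have h2 := h.fpf _ h1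
  have : t = y := by
    have := congrArg (· * y) h2
    simpa using this
  exact this.symm

theorem lang_surjective [Finite G] (h : IsFpf3 ρ) (t : G) : ∃ y : G, y⁻¹ * ρ y = t :=
  (Finite.injective_iff_surjective.mp h.lang_injective) t

theorem norm_eq_one [Finite G] (h : IsFpf3 ρ) (y : G) : y * ρ y * ρ (ρ y) = 1 := by
  obtain ⟨t, rfl⟩ := h.lang_surjective y
  simp only [map_mul, map_inv, h.cube]
  group

theorem rho_rho [Finite G] (h : IsFpf3 ρ) (y : G) : ρ (ρ y) = (y * ρ y)⁻¹ :=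
  eq_inv_of_mul_eq_one_right (h.norm_eq_one y)

theorem commute [Finite G] (h : IsFpf3 ρ) (y : G) : y * ρ y = ρ y * y := by
  have h2 := h.norm_eq_one y⁻¹
  simp only [map_inv] at h2
  have h3 : ρ (ρ y) = (y * ρ y)⁻¹ := h.rho_rho y
  have h4 : ρ (ρ y) = (ρ y * y)⁻¹ := by
    apply eq_inv_of_mul_eq_one_left
    have : (ρ (ρ y) * (ρ y * y))⁻¹ = 1 := by
      rw [← h2]; group
    exact inv_eq_one.mp this
  have := h3.symm.trans h4
  exact inv_injective this

theorem ne_of_ne_one (h : IsFpf3 ρ) {y : G} (hy : y ≠ 1) : ρ y ≠ y := fun h1 => hy (h.fpf y h1)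

theorem rho_ne_one {y : G} (hy : y ≠ 1) : ρ y ≠ 1 := by
  intro h1
  apply hy
  have := congrArg ρ.symm h1
  simpa using this

theorem rho_rho_ne (h : IsFpf3 ρ) {y : G} (hy : y ≠ 1) : ρ (ρ y) ≠ y := by
  intro h1
  apply h.ne_of_ne_one hy
  have := congrArg ρ h1
  rw [h.cube] at this
  exact this.symm

/-- fixed points in a quotient lift: the relative version -/
theorem mem_of_lang_mem [Finite G] (h : IsFpf3 ρ) (N : Subgroup G) (hN : ∀ n ∈ N, ρ n ∈ N) {y : G}
    (hy : y⁻¹ * ρ y ∈ N) : y ∈ N := by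
  let L : N → N := fun n => ⟨(n : G)⁻¹ * ρ n, N.mul_mem (N.inv_mem n.2) (hN n n.2)⟩
  have hL : Function.Injective L := by
    intro a b hab
    have : (a : G)⁻¹ * ρ a = (b : G)⁻¹ * ρ b := congrArg Subtype.val hab
    exact Subtype.ext (h.lang_injective this)
  obtain ⟨n, hn⟩ := (Finite.injective_iff_surjective.mp hL) ⟨_, hy⟩
  have hn' : (n : G)⁻¹ * ρ n = y⁻¹ * ρ y := congrArg Subtype.val hn
  have h1 := h.lang_injective hn'
  rw [← h1]; exact n.2

/-- invariant subgroups have order `1` modulo `3` -/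
theorem card_modEq [Finite G] (h : IsFpf3 ρ) (H : Subgroup G) (hH : ∀ y ∈ H, ρ y ∈ H) :
    Nat.card H ≡ 1 [MOD 3] := by
  classical
  have : Fintype H := Fintype.ofFinite H
  have : Fact (Nat.Prime 3) := ⟨by norm_num⟩
  let f : Function.End H := fun y => ⟨ρ y, hH y y.2⟩
  have hf : f ^ 3 ^ 1 = 1 := by
    funext y
    apply Subtype.ext
    show ((f * (f * f)) y : G) = y
    · exact h.cube y
  have h1 := Equiv.Perm.card_fixedPoints_modEq (f := f) (p := 3) (n := 1) hf
  have h2 : Fintype.card (Function.fixedPoints f) = 1 := by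
    rw [Fintype.card_eq_one_iff]
    refine ⟨⟨1, ?_⟩, ?_⟩
    · show f 1 = 1
      apply Subtype.ext
      show ρ ((1 : H) : G) = ((1 : H) : G)
      simp
    · rintro ⟨y, hy⟩
      apply Subtype.ext
      apply Subtype.ext
      have h3 : f y = y := hy
      have h4 : ρ (y : G) = y := congrArg Subtype.val h3
      show (y : G) = 1
      exact h.fpf _ h4
  rw [Nat.card_eq_fintype_card]
  rw [h2] at h1
  exact h1

end IsFpf3

end Cfsg.Agent.Lib.Helper6.Fpf3
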