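import Mathlib
import Cfsg.Agent.Lib.Helper6.Fpf3A

set_option autoImplicit false

/-! Fixed-point-free automorphisms of order three: quotients and the centre. -/

namespace Cfsg.Agent.Lib.Helper6.Fpf3

open Subgroup

variable {G : Type*} [Group G]

namespace IsFpf3

variable {ρ : MulAut G}

theorem map_eq_of_forall_mem [Finite G] (N : Subgroup G) (hN : ∀ n ∈ N, ρ n ∈ N) :
    N.map (ρ : G →* G) = N := by
  have h1 : N.map (ρ : G →* G) ≤ N := by
    rintro _ ⟨n, hn, rfl⟩
    exact hN n hn
  apply Subgroup.eq_of_le_of_card_ge h1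
  rw [Subgroup.card_map_of_injective (f := (ρ : G →* G)) ρ.injective]

/-- the induced automorphism of a quotient -/
noncomputable def quot [Finite G] (ρ : MulAut G) (N : Subgroup G) [N.Normal] (hN : ∀ n ∈ N, ρ n ∈ N) :
    MulAut (G ⧸ N) :=
  QuotientGroup.congr N N ρ (map_eq_of_forall_mem N hN)

@[simp]
theorem quot_mk [Finite G] (N : Subgroup G) [N.Normal] (hN : ∀ n ∈ N, ρ n ∈ N) (y : G) :
    quot ρ N hN (y : G ⧸ N) = ((ρ y : G) : G ⧸ N) := rfl

theorem quot_isFpf3 [Finite G] (h : IsFpf3 ρ) (N : Subgroup G) [N.Normal] (hN : ∀ n ∈ N, ρ n ∈ N) :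
    IsFpf3 (quot ρ N hN) := by
  constructor
  · intro y
    induction y using QuotientGroup.induction_on with
    | H y => simp only [quot_mk, h.cube]
  · intro y
    induction y using QuotientGroup.induction_on with
    | H y =>
      intro hy
      rw [quot_mk, QuotientGroup.eq] at hy
      have h1 : y⁻¹ * ρ y ∈ N := by
        have := N.inv_mem hy
        simpa [mul_inv_rev] using this
      exact (QuotientGroup.eq_one_iff y).mpr (h.mem_of_lang_mem N hN h1)

theorem center_invariant (ρ : MulAut G) : ∀ n ∈ center G, ρ n ∈ center G := by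
  intro n hn
  rw [Subgroup.mem_center_iff] at hn ⊢
  intro g
  have := congrArg ρ (hn (ρ.symm g))
  simpa using this

theorem mem_center_of_rho_mem (ρ : MulAut G) {y : G} (hy : ρ y ∈ center G) : y ∈ center G := by
  have := center_invariant ρ⁻¹ (ρ y) hy
  simpa using this

/-- the centre cannot have index four -/
theorem index_center_ne_four [Finite G] (h : IsFpf3 ρ) : (center G).index ≠ 4 := by
  intro h4
  have hne : center G ≠ ⊤ := by
    intro h1
    rw [h1, Subgroup.index_top] at h4
    norm_num at h4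
  obtain ⟨y, hy⟩ : ∃ y : G, y ∉ center G := by
    by_contra hcon
    push Not at hcon
    exact hne (eq_top_iff.mpr fun g _ => hcon g)
  let C : Subgroup G := centralizer {y}
  have hZC : center G ≤ C := Subgroup.center_le_centralizer _
  have hyC : y ∈ C := by
    rw [Subgroup.mem_centralizer_iff]
    intro g hg
    rw [Set.mem_singleton_iff.mp hg]
  have hryC : ρ y ∈ C := by
    rw [Subgroup.mem_centralizer_iff]
    intro g hg
    rw [Set.mem_singleton_iff.mp hg]
    exact h.commute y
  have hmul := Subgroup.relIndex_mul_index hZC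
  rw [h4] at hmul
  have hdvd : (center G).relIndex C ∣ 4 := ⟨_, hmul.symm⟩
  have hcases : (center G).relIndex C = 1 ∨ (center G).relIndex C = 2 ∨ (center G).relIndex C = 4 := by
    have hle : (center G).relIndex C ≤ 4 := Nat.le_of_dvd (by norm_num) hdvd
    interval_cases ((center G).relIndex C) <;> simp_all
  rcases hcases with h1 | h2 | h4'
  · exact hy (Subgroup.relIndex_eq_one.mp h1 hyC)
  · have hidx : ((center G).subgroupOf C).index = 2 := h2
    have key := Subgroup.mul_mem_iff_of_index_two hidx (a := (⟨y⁻¹, C.inv_mem hyC⟩ : C))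
      (b := (⟨ρ y, hryC⟩ : C))
    have h5 : (⟨y⁻¹, C.inv_mem hyC⟩ : C) ∉ (center G).subgroupOf C := by
      rw [Subgroup.mem_subgroupOf]
      intro h6
      exact hy (by simpa using (center G).inv_mem h6)
    have h6 : (⟨ρ y, hryC⟩ : C) ∉ (center G).subgroupOf C := by
      rw [Subgroup.mem_subgroupOf]
      intro h7
      exact hy (mem_center_of_rho_mem ρ h7)
    have h7 : (⟨y⁻¹, C.inv_mem hyC⟩ : C) * ⟨ρ y, hryC⟩ ∈ (center G).subgroupOf C :=
      key.mpr ⟨fun h8 => absurd h8 h5, fun h8 => absurd h8 h6⟩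
    rw [Subgroup.mem_subgroupOf] at h7
    exact hy (h.mem_of_lang_mem (center G) (center_invariant ρ) h7)
  · rw [h4'] at hmul
    have h5 : C.index = 1 := by omega
    have h6 : C = ⊤ := Subgroup.index_eq_one.mp h5
    apply hy
    rw [Subgroup.mem_center_iff]
    intro g
    have : g ∈ C := h6 ▸ Subgroup.mem_top g
    rw [Subgroup.mem_centralizer_iff] at this
    exact (this y rfl).symm

end IsFpf3

end Cfsg.Agent.Lib.Helper6.Fpf3
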