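import Mathlib
import Cfsg.Agent.Lib.Helper6.Fpf3B

set_option autoImplicit false

/-! A nonabelian group of order `64` with a fixed-point-free automorphism of order three is
special of shape `2^{2+4}`. -/

namespace Cfsg.Agent.Lib.Helper6.Fpf3

open Subgroup
open scoped commutatorElement

variable {T : Type*} [Group T]

/-- the structure obtained -/
structure IsSpecial64 (ρ : MulAut T) : Prop where
  fpf : IsFpf3 ρ
  card : Nat.card T = 64
  cardZ : Nat.card (center T) = 4
  comm_mem : ∀ y t : T, ⁅y, t⁆ ∈ center T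
  sqZ : ∀ z ∈ center T, z * z = 1

theorem card_cases_of_dvd_64 {n : ℕ} (h1 : n ∣ 64) (h2 : n ≡ 1 [MOD 3]) :
    n = 1 ∨ n = 4 ∨ n = 16 ∨ n = 64 := by
  have hle : n ≤ 64 := Nat.le_of_dvd (by norm_num) h1
  unfold Nat.ModEq at h2
  interval_cases n <;> simp_all

theorem card_cases_of_dvd_16 {n : ℕ} (h1 : n ∣ 16) (h2 : n ≡ 1 [MOD 3]) :
    n = 1 ∨ n = 4 ∨ n = 16 := by
  have hle : n ≤ 16 := Nat.le_of_dvd (by norm_num) h1
  unfold Nat.ModEq at h2
  interval_cases n <;> simp_all

theorem card_cases_of_dvd_4 {n : ℕ} (h1 : n ∣ 4) (h2 : n ≡ 1 [MOD 3]) :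
    n = 1 ∨ n = 4 := by
  have hle : n ≤ 4 := Nat.le_of_dvd (by norm_num) h1
  unfold Nat.ModEq at h2
  interval_cases n <;> simp_all

/-- a nonabelian `2`-group with such an automorphism and a centre of order at most 16 inside
a group of order `4 * |Z|` is impossible; the general step: the centre has order `1 mod 3`, is
not trivial, not of index `4` -/
theorem card_center_of_card [Finite T] {ρ : MulAut T} (h : IsFpf3 ρ) :
    Nat.card (center T) ≡ 1 [MOD 3] :=
  h.card_modEq (center T) (IsFpf3.center_invariant ρ)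

theorem isSpecial64 [Finite T] {ρ : MulAut T} (h : IsFpf3 ρ) (hT : Nat.card T = 64)
    (hna : ¬ IsMulCommutative T) : IsSpecial64 ρ := by
  have hp : IsPGroup 2 T := IsPGroup.of_card (n := 6) (by rw [hT]; norm_num)
  have : Fact (Nat.Prime 2) := ⟨Nat.prime_two⟩
  have hnt : Nontrivial T := by
    apply (Finite.one_lt_card_iff_nontrivial).mp
    rw [hT]; norm_num
  -- the centre has order four
  have hZ1 : Nat.card (center T) ≠ 1 := by
    have := hp.center_nontrivial
    intro h1
    have := (Finite.one_lt_card_iff_nontrivial (α := center T)).mpr this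
    omega
  have hZ64 : Nat.card (center T) ≠ 64 := by
    intro h1
    apply hna
    have h2 : center T = ⊤ := Subgroup.eq_top_of_card_eq _ (by rw [h1, hT])
    exact ⟨⟨fun a b => by
      have : b ∈ center T := h2 ▸ Subgroup.mem_top b
      exact ((Subgroup.mem_center_iff.mp this) a)⟩⟩
  have hZ16 : Nat.card (center T) ≠ 16 := by
    intro h1
    have h2 := Subgroup.card_mul_index (center T)
    rw [h1, hT] at h2
    exact h.index_center_ne_four (by omega)
  have hZ : Nat.card (center T) = 4 := by
    have h1 := card_cases_of_dvd_64 (hT ▸ Subgroup.card_subgroup_dvd_card (center T))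
      (card_center_of_card h)
    tauto
  -- the quotient is abelian
  have hq := h.quot_isFpf3 (center T) (IsFpf3.center_invariant ρ)
  have hqcard : Nat.card (T ⧸ center T) = 16 := by
    have h2 := Subgroup.card_eq_card_quotient_mul_card_subgroup (center T)
    rw [hT, hZ] at h2
    omega
  have hqp : IsPGroup 2 (T ⧸ center T) := IsPGroup.of_card (n := 4) (by rw [hqcard]; norm_num)
  have hqnt : Nontrivial (T ⧸ center T) := by
    apply (Finite.one_lt_card_iff_nontrivial).mp
    rw [hqcard]; norm_num
  have hqZ1 : Nat.card (center (T ⧸ center T)) ≠ 1 := by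
    have := hqp.center_nontrivial
    intro h1
    have := (Finite.one_lt_card_iff_nontrivial (α := center (T ⧸ center T))).mpr this
    omega
  have hqZ4 : Nat.card (center (T ⧸ center T)) ≠ 4 := by
    intro h1
    have h2 := Subgroup.card_mul_index (center (T ⧸ center T))
    rw [h1, hqcard] at h2
    exact hq.index_center_ne_four (by omega)
  have hqZ : Nat.card (center (T ⧸ center T)) = 16 := by
    have h1 := card_cases_of_dvd_16
      (hqcard ▸ Subgroup.card_subgroup_dvd_card (center (T ⧸ center T))) (card_center_of_card hq)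
    tauto
  have hqtop : center (T ⧸ center T) = ⊤ :=
    Subgroup.eq_top_of_card_eq _ (by rw [hqZ, hqcard])
  have hcomm : ∀ y t : T, ⁅y, t⁆ ∈ center T := by
    intro y t
    rw [← QuotientGroup.eq_one_iff, commutatorElement_def]
    have h1 : ((y : T) : T ⧸ center T) ∈ center (T ⧸ center T) := hqtop ▸ Subgroup.mem_top _
    have h2 := (Subgroup.mem_center_iff.mp h1) (t : T ⧸ center T)
    simp only [QuotientGroup.mk_mul, QuotientGroup.mk_inv]
    rw [← h2]; group
  -- the centre has exponent two
  have hsq : ∀ z ∈ center T, z * z = 1 := by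
    let Z2 : Subgroup T :=
      { carrier := {z | z ∈ center T ∧ z * z = 1}
        one_mem' := ⟨Subgroup.one_mem _, by simp⟩
        mul_mem' := by
          rintro a b ⟨ha, ha2⟩ ⟨hb, hb2⟩
          refine ⟨Subgroup.mul_mem _ ha hb, ?_⟩
          have := (Subgroup.mem_center_iff.mp hb) a
          calc a * b * (a * b) = a * (b * a) * b := by group
            _ = a * (a * b) * b := by rw [← this]
            _ = (a * a) * (b * b) := by group
            _ = 1 := by rw [ha2, hb2, one_mul]
        inv_mem' := by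
          rintro a ⟨ha, ha2⟩
          refine ⟨Subgroup.inv_mem _ ha, ?_⟩
          have : (a * a)⁻¹ = 1 := by rw [ha2, inv_one]
          rw [← this]; group }
    have hZ2le : Z2 ≤ center T := fun z hz => hz.1
    have hZ2inv : ∀ z ∈ Z2, ρ z ∈ Z2 := by
      rintro z ⟨hz, hz2⟩
      refine ⟨IsFpf3.center_invariant ρ z hz, ?_⟩
      rw [← map_mul, hz2, map_one]
    have h1 := h.card_modEq Z2 hZ2inv
    have h2 : Nat.card Z2 ∣ 4 := hZ ▸ Subgroup.card_dvd_of_le hZ2le
    have h3 : Nat.card Z2 ≠ 1 := by
      intro h4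
      have h5 : (2 : ℕ) ∣ Nat.card (center T) := by rw [hZ]; norm_num
      obtain ⟨z, hz⟩ := exists_prime_orderOf_dvd_card' 2 h5
      have hz2 : (z : T) * z = 1 := by
        have : z ^ 2 = 1 := by rw [← hz]; exact pow_orderOf_eq_one z
        have h6 : ((z ^ 2 : center T) : T) = 1 := by rw [this]; rfl
        simpa [pow_two] using h6
      have hzm : (z : T) ∈ Z2 := ⟨z.2, hz2⟩
      have h7 : Z2 = ⊥ := Subgroup.card_eq_one.mp h4
      rw [h7, Subgroup.mem_bot] at hzm
      have : z = 1 := Subtype.ext hzm
      rw [this, orderOf_one] at hz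
      norm_num at hz
    have h4 : Nat.card Z2 = 4 := by
      rcases card_cases_of_dvd_4 h2 h1 with h5 | h5
      · exact absurd h5 h3
      · exact h5
    have h5 : Z2 = center T := Subgroup.eq_of_le_of_card_ge hZ2le (by rw [h4, hZ])
    intro z hz
    have : z ∈ Z2 := h5 ▸ hz
    exact this.2
  exact ⟨h, hT, hZ, hcomm, hsq⟩

end Cfsg.Agent.Lib.Helper6.Fpf3
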