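import Mathlib
import Cfsg.Agent.Lib.Helper6.Fpf3C

set_option autoImplicit false

/-! Commutator calculus in the special group of order `64`. -/

namespace Cfsg.Agent.Lib.Helper6.Fpf3

open Subgroup
open scoped commutatorElement

variable {T : Type*} [Group T] {ρ : MulAut T}

namespace IsSpecial64

theorem central (hs : IsSpecial64 ρ) {z : T} (hz : z ∈ center T) (g : T) : z * g = g * z :=
  ((Subgroup.mem_center_iff.mp hz) g).symm

theorem inv_eq_self (hs : IsSpecial64 ρ) {z : T} (hz : z ∈ center T) : z⁻¹ = z :=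
  inv_eq_of_mul_eq_one_left (hs.sqZ z hz)

theorem comm_symm (hs : IsSpecial64 ρ) (y t : T) : ⁅y, t⁆ = ⁅t, y⁆ := by
  rw [← commutatorElement_inv t y, hs.inv_eq_self (hs.comm_mem t y)]

theorem comm_mul_left (hs : IsSpecial64 ρ) (y y' t : T) : ⁅y * y', t⁆ = ⁅y, t⁆ * ⁅y', t⁆ := by
  have h1 : ⁅y * y', t⁆ = y * ⁅y', t⁆ * y⁻¹ * ⁅y, t⁆ := by
    simp only [commutatorElement_def]; group
  rw [h1, ← hs.central (hs.comm_mem y' t) y, mul_assoc ⁅y', t⁆, mul_inv_cancel, mul_one,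
    hs.central (hs.comm_mem y' t)]

theorem comm_mul_right (hs : IsSpecial64 ρ) (y t t' : T) : ⁅y, t * t'⁆ = ⁅y, t⁆ * ⁅y, t'⁆ := by
  rw [hs.comm_symm y, hs.comm_mul_left, hs.comm_symm t, hs.comm_symm t']

theorem comm_self (y : T) : ⁅y, y⁆ = 1 := commutatorElement_self y

theorem comm_inv_right (hs : IsSpecial64 ρ) (y t : T) : ⁅y, t⁻¹⁆ = ⁅y, t⁆ := by
  have h1 := hs.comm_mul_right y t t⁻¹
  rw [mul_inv_cancel, commutatorElement_one_right] at h1
  have h2 := eq_inv_of_mul_eq_one_right h1.symm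
  rw [h2, hs.inv_eq_self (hs.comm_mem y t)]

theorem comm_inv_left (hs : IsSpecial64 ρ) (y t : T) : ⁅y⁻¹, t⁆ = ⁅y, t⁆ := by
  rw [hs.comm_symm, hs.comm_inv_right, hs.comm_symm]

theorem comm_eq_one_of_mem_left (hs : IsSpecial64 ρ) {z : T} (hz : z ∈ center T) (t : T) :
    ⁅z, t⁆ = 1 := by
  rw [commutatorElement_eq_one_iff_commute]
  exact hs.central hz t

theorem comm_eq_one_of_mem_right (hs : IsSpecial64 ρ) {z : T} (hz : z ∈ center T) (t : T) :
    ⁅t, z⁆ = 1 := by
  rw [hs.comm_symm]; exact hs.comm_eq_one_of_mem_left hz t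

theorem mem_center_of_comm {y : T} (hy : ∀ t : T, ⁅y, t⁆ = 1) : y ∈ center T := by
  rw [Subgroup.mem_center_iff]
  intro t
  have := (commutatorElement_eq_one_iff_commute.mp (hy t))
  exact this.symm

theorem swap_mul (y t : T) : y * t = ⁅y, t⁆ * t * y := by
  simp only [commutatorElement_def]; group

theorem mul_mul_self (hs : IsSpecial64 ρ) (y t : T) :
    (y * t) * (y * t) = y * y * (t * t) * ⁅y, t⁆ := by
  have h1 : (y * t) * (y * t) = y * (t * y) * t := by group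
  rw [h1, swap_mul t y, hs.comm_symm t y]
  have hc := hs.central (hs.comm_mem y t)
  calc y * (⁅y, t⁆ * y * t) * t = y * (⁅y, t⁆ * (y * t * t)) := by group
    _ = y * ((y * t * t) * ⁅y, t⁆) := by rw [hc]
    _ = y * y * (t * t) * ⁅y, t⁆ := by group

theorem sq_mem (hs : IsSpecial64 ρ) (y : T) : y * y ∈ center T := by
  apply mem_center_of_comm
  intro t
  rw [hs.comm_mul_left, hs.sqZ _ (hs.comm_mem y t)]

theorem comm_rho (y t : T) : ⁅ρ y, ρ t⁆ = ρ ⁅y, t⁆ := (map_commutatorElement ρ y t).symm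

theorem comm_self_rho [Finite T] (hs : IsSpecial64 ρ) (y : T) : ⁅y, ρ y⁆ = 1 := by
  rw [commutatorElement_eq_one_iff_commute]
  exact hs.fpf.commute y

theorem comm_rho_left [Finite T] (hs : IsSpecial64 ρ) (y t : T) : ⁅ρ y, t⁆ = ⁅y, ρ t⁆ := by
  have h1 := hs.comm_self_rho (y * t)
  rw [map_mul, hs.comm_mul_left, hs.comm_mul_right, hs.comm_mul_right, hs.comm_self_rho,
    hs.comm_self_rho, one_mul, mul_one] at h1
  have h2 := eq_inv_of_mul_eq_one_left h1
  rw [hs.inv_eq_self (hs.comm_mem t (ρ y))] at h2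
  rw [hs.comm_symm (ρ y) t, h2]

theorem rho_rho_Z [Finite T] (hs : IsSpecial64 ρ) {z : T} (hz : z ∈ center T) :
    ρ (ρ z) = z * ρ z := by
  rw [hs.fpf.rho_rho z, mul_inv_rev, hs.inv_eq_self hz,
    hs.inv_eq_self (IsFpf3.center_invariant ρ z hz), hs.central hz]

theorem comm_rho_right [Finite T] (hs : IsSpecial64 ρ) (y t : T) : ⁅y, ρ t⁆ = ρ (ρ ⁅y, t⁆) := by
  have h1 : ρ ⁅y, t⁆ = ⁅y, ρ (ρ t)⁆ := by rw [← comm_rho, hs.comm_rho_left]
  rw [hs.fpf.rho_rho t, hs.comm_inv_right, hs.comm_mul_right] at h1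
  rw [hs.rho_rho_Z (hs.comm_mem y t), h1, ← mul_assoc, hs.sqZ _ (hs.comm_mem y t), one_mul]

theorem rho_mem_center (z : T) (hz : z ∈ center T) : ρ z ∈ center T :=
  IsFpf3.center_invariant ρ z hz

theorem norm_Z [Finite T] (hs : IsSpecial64 ρ) {z : T} (hz : z ∈ center T) :
    z * ρ z * ρ (ρ z) = 1 := hs.fpf.norm_eq_one z

/-- the centre is `{1, w, ρ w, ρ² w}` -/
theorem center_cases [Finite T] (hs : IsSpecial64 ρ) {w : T} (hw : w ∈ center T) (hw1 : w ≠ 1)
    {z : T} (hz : z ∈ center T) : z = 1 ∨ z = w ∨ z = ρ w ∨ z = ρ (ρ w) := by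
  classical
  by_contra hcon
  push Not at hcon
  obtain ⟨h1, h2, h3, h4⟩ := hcon
  have hsub : ∀ t ∈ ({z, 1, w, ρ w, ρ (ρ w)} : Finset T), t ∈ center T := by
    intro t ht
    simp only [Finset.mem_insert, Finset.mem_singleton] at ht
    rcases ht with rfl | rfl | rfl | rfl | rfl
    · exact hz
    · exact Subgroup.one_mem _
    · exact hw
    · exact rho_mem_center _ hw
    · exact rho_mem_center _ (rho_mem_center _ hw)
  have hcard : ({z, 1, w, ρ w, ρ (ρ w)} : Finset T).card = 5 := by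
    have e1 : (1 : T) ≠ w := fun h => hw1 h.symm
    have e2 : (1 : T) ≠ ρ w := fun h => IsFpf3.rho_ne_one hw1 h.symm
    have e3 : (1 : T) ≠ ρ (ρ w) := fun h => IsFpf3.rho_ne_one (IsFpf3.rho_ne_one hw1) h.symm
    have e4 : w ≠ ρ w := fun h => hs.fpf.ne_of_ne_one hw1 h.symm
    have e5 : w ≠ ρ (ρ w) := fun h => hs.fpf.rho_rho_ne hw1 h.symm
    have e6 : ρ w ≠ ρ (ρ w) := fun h => hs.fpf.ne_of_ne_one (IsFpf3.rho_ne_one hw1) h.symm
    rw [Finset.card_insert_of_notMem, Finset.card_insert_of_notMem, Finset.card_insert_of_notMem,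
      Finset.card_insert_of_notMem, Finset.card_singleton]
    · simp [e6]
    · simp [e4, e5]
    · simp [e1, e2, e3]
    · simp [h1, h2, h3, h4]
  have : Fintype (center T) := Fintype.ofFinite _
  have h5 : ({z, 1, w, ρ w, ρ (ρ w)} : Finset T).card ≤ Nat.card (center T) := by
    rw [Nat.card_eq_fintype_card, ← Finset.card_univ]
    apply Finset.card_le_card_of_injOn (fun t => if h : t ∈ center T then ⟨t, h⟩ else 1)
    · intro t _; exact Finset.mem_univ _
    · intro a ha b hb hab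
      have ha' := hsub a ha
      have hb' := hsub b hb
      simp only [dif_pos ha', dif_pos hb'] at hab
      exact congrArg Subtype.val hab
  rw [hcard, hs.cardZ] at h5
  omega

end IsSpecial64

end Cfsg.Agent.Lib.Helper6.Fpf3
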