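import Mathlib
import Cfsg.Agent.Lib.Helper6.Fpf3D

set_option autoImplicit false

/-! The fixed points of an involutory automorphism inverting `ρ`. -/

namespace Cfsg.Agent.Lib.Helper6.Fpf3

open Subgroup
open scoped commutatorElement

variable {T : Type*} [Group T] {ρ x : MulAut T}

/-- an involutory automorphism inverting `ρ` -/
structure IsInv (ρ x : MulAut T) : Prop where
  sq : ∀ y : T, x (x y) = y
  conj : ∀ y : T, x (ρ y) = ρ (ρ (x y))

theorem IsInv.of_orderOf (hρ : IsFpf3 ρ) (hx : orderOf x = 2) (hxr : x * ρ * x⁻¹ = ρ⁻¹) :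
    IsInv ρ x := by
  constructor
  · intro y
    have h : x ^ 2 = 1 := by rw [← hx]; exact pow_orderOf_eq_one x
    have h2 : (x ^ 2) y = y := by rw [h]; rfl
    simpa [pow_succ, MulAut.mul_apply] using h2
  · intro y
    have h1 : x * ρ = ρ⁻¹ * x := by
      rw [← hxr]; group
    have h2 : (x * ρ) y = (ρ⁻¹ * x) y := by rw [h1]
    simp only [MulAut.mul_apply] at h2
    rw [h2]
    have h3 : ρ (ρ (ρ (ρ⁻¹ (x y)))) = ρ⁻¹ (x y) := hρ.cube _
    rw [← h3]
    simp

/-- the subgroup of fixed points -/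
def fixedSub (x : MulAut T) : Subgroup T where
  carrier := {y | x y = y}
  one_mem' := map_one x
  mul_mem' := by
    intro a b ha hb
    show x (a * b) = a * b
    rw [map_mul, ha, hb]
  inv_mem' := by
    intro a ha
    show x a⁻¹ = a⁻¹
    rw [map_inv, ha]

theorem mem_fixedSub {x : MulAut T} {y : T} : y ∈ fixedSub x ↔ x y = y := Iff.rfl

namespace IsSpecial64

/-- four distinct elements exhaust the centre -/
theorem center_exhaust [Finite T] (hs : IsSpecial64 ρ) {a b c : T} (ha : a ∈ center T)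
    (hb : b ∈ center T) (hc : c ∈ center T) (ha1 : a ≠ 1) (hb1 : b ≠ 1) (hc1 : c ≠ 1)
    (hab : a ≠ b) (hac : a ≠ c) (hbc : b ≠ c) {z : T} (hz : z ∈ center T) :
    z = 1 ∨ z = a ∨ z = b ∨ z = c := by
  classical
  by_contra hcon
  push Not at hcon
  obtain ⟨h1, h2, h3, h4⟩ := hcon
  have hsub : ∀ t ∈ ({z, 1, a, b, c} : Finset T), t ∈ center T := by
    intro t ht
    simp only [Finset.mem_insert, Finset.mem_singleton] at ht
    rcases ht with rfl | rfl | rfl | rfl | rfl
    · exact hz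
    · exact Subgroup.one_mem _
    · exact ha
    · exact hb
    · exact hc
  have hcard : ({z, 1, a, b, c} : Finset T).card = 5 := by
    rw [Finset.card_insert_of_notMem, Finset.card_insert_of_notMem, Finset.card_insert_of_notMem,
      Finset.card_insert_of_notMem, Finset.card_singleton]
    · simp [hbc]
    · simp [hab, hac]
    · simp [ha1.symm, hb1.symm, hc1.symm]
    · simp [h1, h2, h3, h4]
  have : Fintype (center T) := Fintype.ofFinite _
  have h5 : ({z, 1, a, b, c} : Finset T).card ≤ Nat.card (center T) := by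
    rw [Nat.card_eq_fintype_card, ← Finset.card_univ]
    apply Finset.card_le_card_of_injOn (fun t => if h : t ∈ center T then ⟨t, h⟩ else 1)
    · intro t _; exact Finset.mem_univ _
    · intro a ha b hb hab
      have ha' := hsub a ha
      have hb' := hsub b hb
      simp only [dif_pos ha', dif_pos hb'] at hab
      exact congrArg Subtype.val hab
  rw [hcard, hs.cardZ] at h5
  omega

theorem exists_center_ne_one [Finite T] (hs : IsSpecial64 ρ) : ∃ w ∈ center T, w ≠ 1 := by
  have h1 : center T ≠ ⊥ := by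
    intro h
    have := hs.cardZ
    rw [h, Subgroup.card_bot] at this
    norm_num at this
  obtain ⟨w, hw⟩ := (Subgroup.ne_bot_iff_exists_ne_one).mp h1
  exact ⟨w.1, w.2, fun h => hw (Subtype.ext h)⟩

end IsSpecial64

/-- the data attached to `x` -/
structure XData (ρ x : MulAut T) (z₁ z₀ : T) : Prop where
  z₁_mem : z₁ ∈ center T
  z₁_ne : x z₁ ≠ z₁
  z₀_def : z₀ = z₁ * x z₁

namespace XData

variable {z₁ z₀ : T}

theorem exists_xdata [Finite T] (hs : IsSpecial64 ρ) (hx : IsInv ρ x) :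
    ∃ z₁ z₀ : T, XData ρ x z₁ z₀ := by
  by_contra hcon
  have hfix : ∀ z ∈ center T, x z = z := by
    intro z hz
    by_contra h
    exact hcon ⟨z, z * x z, hz, h, rfl⟩
  obtain ⟨w, hw, hw1⟩ := hs.exists_center_ne_one
  have h1 := hx.conj w
  rw [hfix w hw, hfix _ (IsSpecial64.rho_mem_center w hw)] at h1
  have h2 : w = ρ w := ρ.injective h1
  exact hs.fpf.ne_of_ne_one hw1 h2.symm

theorem xz₁_mem (hd : XData ρ x z₁ z₀) : x z₁ ∈ center T :=
  IsFpf3.center_invariant x z₁ hd.z₁_mem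

theorem z₀_mem (hd : XData ρ x z₁ z₀) : z₀ ∈ center T := by
  rw [hd.z₀_def]; exact Subgroup.mul_mem _ hd.z₁_mem hd.xz₁_mem

theorem z₁_ne_one (hd : XData ρ x z₁ z₀) : z₁ ≠ 1 := by
  intro h
  apply hd.z₁_ne
  rw [h, map_one]

theorem xz₁_ne_one (hd : XData ρ x z₁ z₀) : x z₁ ≠ 1 := IsFpf3.rho_ne_one hd.z₁_ne_one

theorem z₀_ne_one (hs : IsSpecial64 ρ) (hd : XData ρ x z₁ z₀) : z₀ ≠ 1 := by
  intro h
  rw [hd.z₀_def] at h
  have h1 := eq_inv_of_mul_eq_one_right h
  rw [hs.inv_eq_self hd.z₁_mem] at h1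
  exact hd.z₁_ne h1

theorem x_z₀ (hs : IsSpecial64 ρ) (hx : IsInv ρ x) (hd : XData ρ x z₁ z₀) : x z₀ = z₀ := by
  rw [hd.z₀_def, map_mul, hx.sq, hs.central hd.xz₁_mem]

theorem fix_cases [Finite T] (hs : IsSpecial64 ρ) (hx : IsInv ρ x) (hd : XData ρ x z₁ z₀) {z : T}
    (hz : z ∈ center T) (hxz : x z = z) : z = 1 ∨ z = z₀ := by
  have h1 : z₁ ≠ z₀ := by
    intro h
    have h2 := hd.z₀_def
    rw [← h] at h2
    have : x z₁ = 1 := by
      have := congrArg (z₁⁻¹ * ·) h2
      simpa using this.symm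
    exact hd.xz₁_ne_one this
  have h2 : x z₁ ≠ z₀ := by
    intro h
    have h2 := hd.z₀_def
    rw [← h] at h2
    have : z₁ = 1 := by
      have := congrArg (· * (x z₁)⁻¹) h2
      simpa using this.symm
    exact hd.z₁_ne_one this
  rcases hs.center_exhaust hd.z₁_mem hd.xz₁_mem hd.z₀_mem hd.z₁_ne_one hd.xz₁_ne_one
    (hd.z₀_ne_one hs) (fun h => hd.z₁_ne h.symm) h1 h2 hz with h | h | h | h
  · exact Or.inl h
  · rw [h] at hxz; exact absurd hxz hd.z₁_ne
  · rw [h, hx.sq] at hxz; exact absurd hxz.symm hd.z₁_ne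
  · exact Or.inr h

/-- elements fixed modulo the centre -/
theorem lang_cases [Finite T] (hs : IsSpecial64 ρ) (hx : IsInv ρ x) (hd : XData ρ x z₁ z₀) {y : T}
    (hy : y⁻¹ * x y ∈ center T) : x y = y ∨ (x y = y * z₀ ∧ x (y * z₁) = y * z₁) := by
  set c := y⁻¹ * x y with hc
  have h1 : x y = y * c := by rw [hc]; group
  have h2 : c * x c = 1 := by
    have h3 := hx.sq y
    rw [h1, map_mul, h1, mul_assoc] at h3
    exact mul_left_cancel (a := y) (by rw [h3, mul_one])
  have h3 : x c = c := by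
    have := eq_inv_of_mul_eq_one_right h2
    rw [this, hs.inv_eq_self hy]
  rcases hd.fix_cases hs hx hy h3 with h4 | h4
  · left; rw [h1, h4, mul_one]
  · right
    refine ⟨by rw [h1, h4], ?_⟩
    rw [map_mul, h1, h4, hd.z₀_def, mul_assoc, mul_assoc, hs.sqZ _ hd.xz₁_mem, mul_one]

end XData

end Cfsg.Agent.Lib.Helper6.Fpf3
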