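import Mathlib
import Cfsg.Agent.Lib.Helper6.Fpf3E

set_option autoImplicit false

/-! The fixed points of `x` form a nonabelian group of order eight. -/

namespace Cfsg.Agent.Lib.Helper6.Fpf3

open Subgroup
open scoped commutatorElement

variable {T : Type*} [Group T] {ρ x : MulAut T}

namespace XData

variable {z₁ z₀ : T}

/-- elements fixed modulo the centre, as a subgroup -/
def modFix (x : MulAut T) : Subgroup T where
  carrier := {y | y⁻¹ * x y ∈ center T}
  one_mem' := by
    show (1 : T)⁻¹ * x 1 ∈ center T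
    simp
  mul_mem' := by
    intro a b ha hb
    show (a * b)⁻¹ * x (a * b) ∈ center T
    have ha' : a⁻¹ * x a ∈ center T := ha
    have hb' : b⁻¹ * x b ∈ center T := hb
    have h1 : (a * b)⁻¹ * x (a * b) = b⁻¹ * (a⁻¹ * x a) * x b := by
      rw [map_mul]; group
    rw [h1, mul_assoc, ← (Subgroup.mem_center_iff.mp ha') (x b), ← mul_assoc]
    exact Subgroup.mul_mem _ hb' ha'
  inv_mem' := by
    intro a ha
    show (a⁻¹)⁻¹ * x a⁻¹ ∈ center T
    have ha' : a⁻¹ * x a ∈ center T := ha
    have h1 : (a⁻¹)⁻¹ * x a⁻¹ = a * (a⁻¹ * x a)⁻¹ * a⁻¹ := by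
      rw [map_inv]; group
    rw [h1, (Subgroup.mem_center_iff.mp (Subgroup.inv_mem _ ha')) a, mul_assoc, mul_inv_cancel,
      mul_one]
    exact Subgroup.inv_mem _ ha'

theorem mem_modFix {y : T} : y ∈ modFix x ↔ y⁻¹ * x y ∈ center T := Iff.rfl

theorem fixedSub_le_modFix : fixedSub x ≤ modFix x := by
  intro y hy
  rw [mem_modFix, mem_fixedSub.mp hy, inv_mul_cancel]
  exact Subgroup.one_mem _

theorem center_le_modFix : center T ≤ modFix x := by
  intro z hz
  rw [mem_modFix]
  exact Subgroup.mul_mem _ (Subgroup.inv_mem _ hz) (IsFpf3.center_invariant x z hz)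

/-- the subgroup of elements fixed modulo the centre has order at least sixteen -/
theorem card_modFix_ge [Finite T] (hs : IsSpecial64 ρ) (hx : IsInv ρ x) :
    16 ≤ Nat.card (modFix x) := by
  let xb : MulAut (T ⧸ center T) := IsFpf3.quot x (center T) (IsFpf3.center_invariant x)
  have hVcomm : ∀ a b : T ⧸ center T, a * b = b * a := by
    intro a b
    induction a using QuotientGroup.induction_on with
    | H y =>
      induction b using QuotientGroup.induction_on with
      | H t =>
        rw [← QuotientGroup.mk_mul, ← QuotientGroup.mk_mul, QuotientGroup.eq]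
        have h1 : (y * t)⁻¹ * (t * y) = ⁅t⁻¹, y⁻¹⁆ := by
          simp only [commutatorElement_def]; group
        rw [h1]; exact hs.comm_mem _ _
  have hVsq : ∀ a : T ⧸ center T, a * a = 1 := by
    intro a
    induction a using QuotientGroup.induction_on with
    | H y =>
      rw [← QuotientGroup.mk_mul, QuotientGroup.eq_one_iff]
      exact hs.sq_mem y
  have hVinv : ∀ a : T ⧸ center T, a⁻¹ = a := fun a => inv_eq_of_mul_eq_one_left (hVsq a)
  have hxbsq : ∀ a : T ⧸ center T, xb (xb a) = a := by
    intro a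
    induction a using QuotientGroup.induction_on with
    | H y =>
      show IsFpf3.quot x (center T) _ (IsFpf3.quot x (center T) _ (y : T ⧸ center T)) = _
      rw [IsFpf3.quot_mk, IsFpf3.quot_mk, hx.sq]
  let θ : (T ⧸ center T) →* (T ⧸ center T) := MonoidHom.mk' (fun v => v * xb v) (by
    intro a b
    show a * b * xb (a * b) = a * xb a * (b * xb b)
    rw [map_mul, mul_assoc, mul_assoc, ← mul_assoc b, hVcomm b (xb a), mul_assoc])
  have hθ : ∀ v, θ v = v * xb v := fun _ => rfl
  have hker : θ.ker ≤ fixedSub xb := by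
    intro v hv
    rw [MonoidHom.mem_ker, hθ] at hv
    rw [mem_fixedSub]
    have := eq_inv_of_mul_eq_one_right hv
    rw [this, hVinv]
  have hrange : θ.range ≤ fixedSub xb := by
    rintro _ ⟨v, rfl⟩
    rw [mem_fixedSub, hθ, map_mul, hxbsq, hVcomm]
  have hcard : Nat.card (T ⧸ center T) = 16 := by
    have h2 := Subgroup.card_eq_card_quotient_mul_card_subgroup (center T)
    rw [hs.card, hs.cardZ] at h2
    omega
  have h1 : Nat.card θ.ker * Nat.card θ.range = 16 := by
    rw [← hcard, ← Subgroup.index_ker]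
    exact Subgroup.card_mul_index θ.ker
  have h2 : Nat.card θ.ker ≤ Nat.card (fixedSub xb) := Subgroup.card_le_of_le hker
  have h3 : Nat.card θ.range ≤ Nat.card (fixedSub xb) := Subgroup.card_le_of_le hrange
  have h4 : 4 ≤ Nat.card (fixedSub xb) := by
    by_contra hlt
    push Not at hlt
    have : Nat.card θ.ker * Nat.card θ.range ≤ 3 * 3 :=
      Nat.mul_le_mul (by omega) (by omega)
    omega
  have h5 : modFix x = (fixedSub xb).comap (QuotientGroup.mk' (center T)) := by
    ext y
    rw [mem_modFix, Subgroup.mem_comap, mem_fixedSub]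
    show _ ↔ IsFpf3.quot x (center T) _ (y : T ⧸ center T) = _
    rw [IsFpf3.quot_mk, eq_comm]
    show _ ↔ ((y : T) : T ⧸ center T) = ((x y : T) : T ⧸ center T)
    rw [QuotientGroup.eq]
  have h6 : (modFix x).index = (fixedSub xb).index := by
    rw [h5]
    exact Subgroup.index_comap_of_surjective _ (QuotientGroup.mk'_surjective _)
  have h7 := Subgroup.card_mul_index (modFix x)
  have h8 := Subgroup.card_mul_index (fixedSub xb)
  rw [hs.card, h6] at h7
  rw [hcard] at h8
  have hpos : 0 < (fixedSub xb).index := by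
    rcases Nat.eq_zero_or_pos (fixedSub xb).index with h | h
    · rw [h] at h8; omega
    · exact h
  have h9 : Nat.card (modFix x) * (fixedSub xb).index =
      4 * Nat.card (fixedSub xb) * (fixedSub xb).index := by
    rw [h7, mul_assoc, h8]
    <;> norm_num
  have h10 := Nat.eq_of_mul_eq_mul_right hpos h9
  omega

theorem card_fixedSub [Finite T] (hs : IsSpecial64 ρ) (hx : IsInv ρ x) (hd : XData ρ x z₁ z₀) :
    Nat.card (fixedSub x) = 8 := by
  -- lower bound
  have hidx : ((fixedSub x).subgroupOf (modFix x)).index = 2 := by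
    rw [Subgroup.index_eq_two_iff]
    refine ⟨⟨z₁, center_le_modFix hd.z₁_mem⟩, ?_⟩
    rintro ⟨b, hb⟩
    simp only [Subgroup.mem_subgroupOf, Subgroup.coe_mul, mem_fixedSub]
    rcases hd.lang_cases hs hx (mem_modFix.mp hb) with h | ⟨h1, h2⟩
    · right
      refine ⟨h, ?_⟩
      rw [map_mul, h]
      intro h3
      exact hd.z₁_ne (mul_left_cancel h3)
    · left
      refine ⟨h2, ?_⟩
      rw [h1]
      intro h3
      apply hd.z₀_ne_one hs
      have := mul_left_cancel (a := b) (by rw [h3, mul_one] : b * z₀ = b * 1)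
      exact this
  have h1 := Subgroup.card_mul_index ((fixedSub x).subgroupOf (modFix x))
  rw [hidx, Nat.card_congr (Subgroup.subgroupOfEquivOfLe fixedSub_le_modFix).toEquiv] at h1
  have h2 := card_modFix_ge hs hx
  -- upper bound
  have hinj : Function.Injective (fun p : fixedSub x × fixedSub x => (p.1 : T) * ρ (p.2 : T)) := by
    rintro ⟨⟨a, ha⟩, ⟨b, hb⟩⟩ ⟨⟨c, hc⟩, ⟨d, hd'⟩⟩ h
    rw [mem_fixedSub] at ha hb hc hd'
    have h3 : c⁻¹ * a = ρ (d * b⁻¹) := by
      rw [map_mul, map_inv]
      have := congrArg (fun t => c⁻¹ * t * (ρ b)⁻¹) h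
      simp only at this
      rw [show c⁻¹ * (a * ρ b) * (ρ b)⁻¹ = c⁻¹ * a by group,
        show c⁻¹ * (c * ρ d) * (ρ b)⁻¹ = ρ d * (ρ b)⁻¹ by group] at this
      exact this
    have h4 : x (d * b⁻¹) = d * b⁻¹ := by rw [map_mul, map_inv, hd', hb]
    have h5 : x (c⁻¹ * a) = c⁻¹ * a := by rw [map_mul, map_inv, hc, ha]
    rw [h3, hx.conj, h4] at h5
    have h6 : d * b⁻¹ = 1 := by
      apply hs.fpf.fpf
      exact (ρ.injective h5)
    have h7 : d = b := by
      have := congrArg (· * b) h6
      simpa using this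
    subst h7
    rw [h6, map_one] at h3
    have h8 : a = c := by
      have := congrArg (c * ·) h3
      simpa using this
    subst h8
    rfl
  have h3 := Nat.card_le_card_of_injective _ hinj
  rw [Nat.card_prod, hs.card] at h3
  have h4 : Nat.card (fixedSub x) ≤ 8 := by
    by_contra hlt
    push Not at hlt
    have : 9 * 9 ≤ Nat.card (fixedSub x) * Nat.card (fixedSub x) :=
      Nat.mul_le_mul (by omega) (by omega)
    omega
  omega

end XData

end Cfsg.Agent.Lib.Helper6.Fpf3
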