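import Mathlib
import Cfsg.Agent.Lib.Helper6.Fpf3F

set_option autoImplicit false

/-! The fixed points of `x` do not commute; singular elements. -/

namespace Cfsg.Agent.Lib.Helper6.Fpf3

open Subgroup
open scoped commutatorElement

variable {T : Type*} [Group T] {ρ x : MulAut T}

namespace XData

variable {z₁ z₀ : T}

theorem rho_not_mem_modFix [Finite T] (hs : IsSpecial64 ρ) (hx : IsInv ρ x) {y : T}
    (hy : x y = y) (hyZ : y ∉ center T) : ρ y ∉ modFix x := by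
  intro h
  rw [mem_modFix, hx.conj, hy] at h
  have h1 : (ρ y)⁻¹ * ρ (ρ y) = ρ (y⁻¹ * ρ y) := by rw [map_mul, map_inv]
  rw [h1] at h
  have h2 := IsFpf3.mem_center_of_rho_mem ρ h
  exact hyZ (hs.fpf.mem_of_lang_mem (center T) (IsFpf3.center_invariant ρ) h2)

theorem exists_noncomm [Finite T] (hs : IsSpecial64 ρ) (hx : IsInv ρ x) (hd : XData ρ x z₁ z₀) :
    ∃ y₁ y₂ : T, x y₁ = y₁ ∧ x y₂ = y₂ ∧ ⁅y₁, y₂⁆ ≠ 1 := by
  by_contra hcon
  push Not at hcon
  have hC8 := hd.card_fixedSub hs hx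
  obtain ⟨y₁, hy₁, hy₁Z⟩ : ∃ y₁ : T, x y₁ = y₁ ∧ y₁ ∉ center T := by
    by_contra h
    push Not at h
    have hle : fixedSub x ≤ center T := fun y hy => h y hy
    have := Subgroup.card_le_of_le hle
    rw [hC8, hs.cardZ] at this
    omega
  let K : Subgroup T := centralizer {y₁}
  have hK : ∀ t : T, t ∈ K ↔ ⁅y₁, t⁆ = 1 := by
    intro t
    rw [Subgroup.mem_centralizer_singleton_iff, commutatorElement_eq_one_iff_commute]
    exact ⟨fun h => h.symm, fun h => h.symm⟩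
  have hKinv : ∀ t ∈ K, ρ t ∈ K := by
    intro t ht
    rw [hK] at ht ⊢
    rw [hs.comm_rho_right, ht, map_one, map_one]
  have hKcard := hs.fpf.card_modEq K hKinv
  have hKdvd : Nat.card K ∣ 64 := hs.card ▸ Subgroup.card_subgroup_dvd_card K
  have hle : modFix x ≤ K := by
    intro y hy
    rw [hK]
    rcases hd.lang_cases hs hx (mem_modFix.mp hy) with h | ⟨_, h⟩
    · exact hcon y₁ y hy₁ h
    · have := hcon y₁ (y * z₁) hy₁ h
      rw [hs.comm_mul_right, hs.comm_eq_one_of_mem_right hd.z₁_mem, mul_one] at this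
      exact this
  have hρ : ρ y₁ ∈ K := by
    rw [hK]; exact hs.comm_self_rho y₁
  have hlt : Nat.card (modFix x) < Nat.card K := by
    by_contra h
    push Not at h
    have := Subgroup.eq_of_le_of_card_ge hle h
    exact rho_not_mem_modFix hs hx hy₁ hy₁Z (this ▸ hρ)
  have h16 := card_modFix_ge (x := x) hs hx
  have h64 : Nat.card K = 64 := by
    rcases card_cases_of_dvd_64 hKdvd hKcard with h | h | h | h <;> omega
  have htop : K = ⊤ := Subgroup.eq_top_of_card_eq _ (by rw [h64, hs.card])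
  apply hy₁Z
  apply IsSpecial64.mem_center_of_comm
  intro t
  exact (hK t).mp (htop ▸ Subgroup.mem_top t)

/-- a noncentral involution -/
theorem exists_singular [Finite T] (hs : IsSpecial64 ρ) (hx : IsInv ρ x) (hd : XData ρ x z₁ z₀) :
    ∃ a : T, a ∉ center T ∧ a * a = 1 := by
  obtain ⟨y₁, y₂, hy₁, hy₂, hc⟩ := hd.exists_noncomm hs hx
  have hy₁Z : y₁ ∉ center T := fun h => hc (hs.comm_eq_one_of_mem_left h y₂)
  have hy₂Z : y₂ ∉ center T := fun h => hc (hs.comm_eq_one_of_mem_right h y₁)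
  have hcz : ⁅y₁, y₂⁆ = z₀ := by
    have h1 : x ⁅y₁, y₂⁆ = ⁅y₁, y₂⁆ := by rw [map_commutatorElement, hy₁, hy₂]
    rcases hd.fix_cases hs hx (hs.comm_mem y₁ y₂) h1 with h | h
    · exact absurd h hc
    · exact h
  have h1 : y₁ * y₁ = 1 ∨ y₁ * y₁ = z₀ :=
    hd.fix_cases hs hx (hs.sq_mem y₁) (by rw [map_mul, hy₁])
  have h2 : y₂ * y₂ = 1 ∨ y₂ * y₂ = z₀ :=
    hd.fix_cases hs hx (hs.sq_mem y₂) (by rw [map_mul, hy₂])
  rcases h1 with h1 | h1
  · exact ⟨y₁, hy₁Z, h1⟩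
  rcases h2 with h2 | h2
  · exact ⟨y₂, hy₂Z, h2⟩
  refine ⟨y₁ * ρ y₂, ?_, ?_⟩
  · intro h
    have h3 := hs.comm_eq_one_of_mem_left h y₂
    rw [hs.comm_mul_left, hs.comm_symm (ρ y₂) y₂, hs.comm_self_rho, mul_one] at h3
    exact hc h3
  · rw [hs.mul_mul_self, hs.comm_rho_right, hcz, h1, ← map_mul, h2]
    exact hs.norm_Z hd.z₀_mem

end XData

namespace IsSpecial64

/-- a hyperbolic partner -/
theorem exists_partner [Finite T] (hs : IsSpecial64 ρ) {a : T} (ha : a ∉ center T)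
    (ha2 : a * a = 1) : ∃ b : T, b * b = 1 ∧ ⁅a, b⁆ ≠ 1 := by
  obtain ⟨c, hc⟩ : ∃ c : T, ⁅a, c⁆ ≠ 1 := by
    by_contra h
    push Not at h
    exact ha (mem_center_of_comm h)
  set w := ⁅a, c⁆ with hw
  have hwZ : w ∈ center T := hs.comm_mem a c
  have hρa2 : ρ a * ρ a = 1 := by rw [← map_mul, ha2, map_one]
  have hρρa2 : ρ (ρ a) * ρ (ρ a) = 1 := by rw [← map_mul, hρa2, map_one]
  have hww : w * w = 1 := hs.sqZ w hwZ
  have hρww : ρ w * ρ w = 1 := hs.sqZ _ (rho_mem_center w hwZ)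
  have hρρww : ρ (ρ w) * ρ (ρ w) = 1 := hs.sqZ _ (rho_mem_center _ (rho_mem_center w hwZ))
  rcases hs.center_cases hwZ hc (hs.sq_mem c) with h | h | h | h
  · exact ⟨c, h, hc⟩
  · refine ⟨c * a, ?_, ?_⟩
    · rw [hs.mul_mul_self, h, ha2, mul_one, hs.comm_symm c a, hww]
    · rw [hs.comm_mul_right, comm_self, mul_one]; exact hc
  · refine ⟨c * ρ (ρ a), ?_, ?_⟩
    · rw [hs.mul_mul_self, h, hρρa2, mul_one, hs.comm_symm c, hs.comm_rho_left, comm_rho, hρww]
    · rw [hs.comm_mul_right, hs.fpf.rho_rho a, hs.comm_inv_right, hs.comm_mul_right, comm_self,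
        hs.comm_self_rho, mul_one, mul_one]
      exact hc
  · refine ⟨c * ρ a, ?_, ?_⟩
    · rw [hs.mul_mul_self, h, hρa2, mul_one, hs.comm_symm c, hs.comm_rho_left, hs.comm_rho_right,
        hρρww]
    · rw [hs.comm_mul_right, hs.comm_self_rho, mul_one]; exact hc

end IsSpecial64

end Cfsg.Agent.Lib.Helper6.Fpf3
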