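import Mathlib
import Cfsg.Agent.Lib.Helper10.M21A
import Cfsg.Agent.Lib.Helper2.GLCard
import Cfsg.Agent.Lib.Helper19.SylIso

set_option autoImplicit false

/-! The Heisenberg group over the field with four elements, inside `PSL(3, 4)`. -/

namespace Cfsg.Agent.Lib.Helper6.Fpf3

open Cfsg.Agent.Lib.Helper10.M21

/-- the Heisenberg group over the field with four elements -/
structure Heis where
  s : K4
  t : K4
  u : K4
  deriving DecidableEq

namespace Heis

@[ext]
theorem ext' {p q : Heis} (h1 : p.s = q.s) (h2 : p.t = q.t) (h3 : p.u = q.u) : p = q := by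
  cases p; cases q; simp_all

theorem K4_add_self : ∀ a : K4, a + a = 0 := by decide

instance : Mul Heis := ⟨fun p q => ⟨p.s + q.s, p.t + q.t, p.u + q.u + q.s * p.t⟩⟩
instance : One Heis := ⟨⟨0, 0, 0⟩⟩
instance : Inv Heis := ⟨fun p => ⟨p.s, p.t, p.u + p.s * p.t⟩⟩

@[simp] theorem mul_s (p q : Heis) : (p * q).s = p.s + q.s := rfl
@[simp] theorem mul_t (p q : Heis) : (p * q).t = p.t + q.t := rfl
@[simp] theorem mul_u (p q : Heis) : (p * q).u = p.u + q.u + q.s * p.t := rfl
@[simp] theorem one_s : (1 : Heis).s = 0 := rfl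
@[simp] theorem one_t : (1 : Heis).t = 0 := rfl
@[simp] theorem one_u : (1 : Heis).u = 0 := rfl
@[simp] theorem inv_s (p : Heis) : (p⁻¹).s = p.s := rfl
@[simp] theorem inv_t (p : Heis) : (p⁻¹).t = p.t := rfl
@[simp] theorem inv_u (p : Heis) : (p⁻¹).u = p.u + p.s * p.t := rfl

instance : Group Heis where
  mul_assoc p q r := by
    ext <;> simp only [mul_s, mul_t, mul_u] <;> ring
  one_mul p := by
    ext <;> simp
  mul_one p := by
    ext <;> simp
  inv_mul_cancel p := by
    ext
    · simp [K4_add_self]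
    · simp [K4_add_self]
    · simp only [mul_u, inv_u, inv_t, one_u]
      have h1 := K4_add_self p.u
      have h2 := K4_add_self (p.s * p.t)
      calc p.u + p.s * p.t + p.u + p.s * p.t = (p.u + p.u) + (p.s * p.t + p.s * p.t) := by ring
        _ = 0 := by rw [h1, h2, add_zero]

/-- the equivalence with triples -/
def equivProd : Heis ≃ K4 × K4 × K4 where
  toFun p := (p.s, p.t, p.u)
  invFun q := ⟨q.1, q.2.1, q.2.2⟩
  left_inv _ := rfl
  right_inv _ := rfl

instance : Fintype Heis := Fintype.ofEquiv _ equivProd.symm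

theorem card : Nat.card Heis = 64 := by
  rw [Nat.card_congr equivProd, Nat.card_prod, Nat.card_prod, Nat.card_eq_fintype_card, K4.card]

/-- the matrix of an element -/
def toMat (p : Heis) : Matrix (Fin 3) (Fin 3) K4 := !![1, p.t, p.u; 0, 1, p.s; 0, 0, 1]

theorem det_toMat (p : Heis) : (toMat p).det = 1 := by
  simp [toMat, Matrix.det_fin_three]

theorem toMat_mul (p q : Heis) : toMat (p * q) = toMat p * toMat q := by
  ext i j
  fin_cases i <;> fin_cases j <;>
    simp [toMat, Matrix.mul_apply, Fin.sum_univ_three] <;> ring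

/-- the embedding into the special linear group -/
def toSL : Heis →* Matrix.SpecialLinearGroup (Fin 3) K4 :=
  MonoidHom.mk' (fun p => ⟨toMat p, det_toMat p⟩) (fun p q => by
    apply Subtype.ext
    exact toMat_mul p q)

theorem toSL_coe (p : Heis) : (toSL p : Matrix (Fin 3) (Fin 3) K4) = toMat p := rfl

/-- the embedding into the projective group -/
def toPSL : Heis →* Matrix.ProjectiveSpecialLinearGroup (Fin 3) K4 :=
  (QuotientGroup.mk' _).comp toSL

theorem toPSL_injective : Function.Injective toPSL := by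
  rw [injective_iff_map_eq_one]
  intro p hp
  have h1 : toSL p ∈ Subgroup.center (Matrix.SpecialLinearGroup (Fin 3) K4) :=
    (QuotientGroup.eq_one_iff _).mp hp
  rw [Matrix.SpecialLinearGroup.mem_center_iff] at h1
  obtain ⟨r, -, hr⟩ := h1
  have h2 : ∀ i j : Fin 3, (Matrix.scalar (Fin 3) r) i j = toMat p i j := by
    intro i j
    rw [hr, toSL_coe]
  have h01 := h2 0 1
  have h02 := h2 0 2
  have h12 := h2 1 2
  simp [toMat, Matrix.scalar_apply, Matrix.diagonal_apply] at h01 h02 h12
  ext
  · exact h12.symm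
  · exact h01.symm
  · exact h02.symm

theorem card_psl : Nat.card (Matrix.ProjectiveSpecialLinearGroup (Fin 3) K4) = 20160 := by
  have h := Cfsg.Agent.Lib.Helper2.card_PSL_field (F := K4) 3 (by norm_num)
  rw [K4.card] at h
  simp only [Fin.prod_univ_succ, Fin.prod_univ_zero] at h
  generalize Nat.card (Matrix.ProjectiveSpecialLinearGroup (Fin 3) K4) = n at h ⊢
  norm_num at h
  omega

/-- a group isomorphic to `Heis` is isomorphic to every Sylow `2`-subgroup of `PSL(3, 4)` -/
theorem nonempty_sylow_equiv {T : Type*} [Group T] (e : Heis ≃* T)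
    (S : Sylow 2 (Matrix.ProjectiveSpecialLinearGroup (Fin 3) K4)) :
    Nonempty (T ≃* ↥(S : Subgroup (Matrix.ProjectiveSpecialLinearGroup (Fin 3) K4))) := by
  have : Fact (Nat.Prime 2) := ⟨Nat.prime_two⟩
  have hfin : Finite (Matrix.ProjectiveSpecialLinearGroup (Fin 3) K4) :=
    Nat.finite_of_card_ne_zero (by rw [card_psl]; norm_num)
  have e1 : Heis ≃* toPSL.range := MonoidHom.ofInjective toPSL_injective
  have hc : Nat.card toPSL.range = 2 ^ 6 := by
    rw [← Nat.card_congr e1.toEquiv, card]; norm_num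
  obtain ⟨e2⟩ := Cfsg.Agent.Lib.Helper19.SylIso.sylow_equiv_of_card toPSL.range 6 hc
    (by rw [card_psl]; norm_num) S
  exact ⟨e.symm.trans (e1.trans e2.symm)⟩

end Heis

end Cfsg.Agent.Lib.Helper6.Fpf3
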