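import Mathlib
import Cfsg.Agent.Lib.Helper6.Fpf3G
import Cfsg.Agent.Lib.Helper6.Fpf3H

set_option autoImplicit false

/-! The isomorphism with the Heisenberg group. -/

namespace Cfsg.Agent.Lib.Helper6.Fpf3

open Subgroup Cfsg.Agent.Lib.Helper10.M21
open scoped commutatorElement

variable {T : Type*} [Group T]

/-- the map from the additive group of the field given by two elements -/
def v4 (a a' : T) : K4 → T
  | K4.o => 1
  | K4.e => a
  | K4.w => a'
  | K4.v => a * a'

theorem K4_add_def (s t : K4) : s + t = K4.add s t := rfl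
theorem K4_mul_def (s t : K4) : s * t = K4.mul s t := rfl
theorem K4_zero_def : (0 : K4) = K4.o := rfl
theorem K4_one_def : (1 : K4) = K4.e := rfl

theorem v4_zero (a a' : T) : v4 a a' 0 = 1 := rfl

theorem v4_add {a a' : T} (h1 : a * a = 1) (h2 : a' * a' = 1) (hc : a' * a = a * a') (s t : K4) :
    v4 a a' (s + t) = v4 a a' s * v4 a a' t := by
  have h1' : ∀ g : T, a * (a * g) = g := fun g => by rw [← mul_assoc, h1, one_mul]
  have h2' : ∀ g : T, a' * (a' * g) = g := fun g => by rw [← mul_assoc, h2, one_mul]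
  have hc' : ∀ g : T, a' * (a * g) = a * (a' * g) := fun g => by
    rw [← mul_assoc, hc, mul_assoc]
  cases s <;> cases t <;>
    simp only [K4_add_def, K4.add, v4, mul_assoc, h1, h2, hc, h1', h2', hc', mul_one, one_mul]

theorem v4_eq_one {a a' : T} (ha : a ≠ 1) (ha' : a' ≠ 1) (haa' : a * a' ≠ 1) {s : K4}
    (h : v4 a a' s = 1) : s = 0 := by
  cases s
  · rfl
  · exact absurd h ha
  · exact absurd h ha'
  · exact absurd h haa'

theorem v4_comm {a a' : T} (h1 : a * a = 1) (h2 : a' * a' = 1) (hc : a' * a = a * a') (s t : K4) :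
    v4 a a' s * v4 a a' t = v4 a a' t * v4 a a' s := by
  rw [← v4_add h1 h2 hc, ← v4_add h1 h2 hc, add_comm]

variable {ρ : MulAut T}

/-- a hyperbolic pair -/
structure HypPair (ρ : MulAut T) (a b : T) : Prop where
  a2 : a * a = 1
  b2 : b * b = 1
  ne : ⁅a, b⁆ ≠ 1

namespace HypPair

variable {a b : T}

/-- the three coordinate maps -/
def α (ρ : MulAut T) (a : T) : K4 → T := v4 a (ρ a)

theorem α_add [Finite T] (hs : IsSpecial64 ρ) {a : T} (ha : a * a = 1) (s t : K4) :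
    α ρ a (s + t) = α ρ a s * α ρ a t :=
  v4_add ha (by rw [← map_mul, ha, map_one]) (hs.fpf.commute a).symm s t

theorem α_comm [Finite T] (hs : IsSpecial64 ρ) {a : T} (ha : a * a = 1) (s t : K4) :
    α ρ a s * α ρ a t = α ρ a t * α ρ a s :=
  v4_comm ha (by rw [← map_mul, ha, map_one]) (hs.fpf.commute a).symm s t

/-- the central coordinate -/
def ζ (ρ : MulAut T) (w : T) : K4 → T := v4 w (ρ (ρ w))

theorem ζ_mem (w : T) (hw : w ∈ center T) (u : K4) : ζ ρ w u ∈ center T := by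
  have h1 := IsSpecial64.rho_mem_center (ρ := ρ) _ (IsSpecial64.rho_mem_center (ρ := ρ) w hw)
  cases u
  · exact Subgroup.one_mem _
  · exact hw
  · exact h1
  · exact Subgroup.mul_mem _ hw h1

theorem ζ_add (hs : IsSpecial64 ρ) {w : T} (hw : w ∈ center T) (s t : K4) :
    ζ ρ w (s + t) = ζ ρ w s * ζ ρ w t := by
  have h1 := IsSpecial64.rho_mem_center (ρ := ρ) _ (IsSpecial64.rho_mem_center (ρ := ρ) w hw)
  exact v4_add (hs.sqZ w hw) (hs.sqZ _ h1) (hs.central h1 w) s t

theorem ζ_eq_one (hs : IsSpecial64 ρ) {w : T} (hw : w ∈ center T) (hw1 : w ≠ 1) {u : K4}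
    (h : ζ ρ w u = 1) : u = 0 := by
  refine v4_eq_one hw1 (IsFpf3.rho_ne_one (IsFpf3.rho_ne_one hw1)) ?_ h
  intro h2
  have h3 := eq_inv_of_mul_eq_one_right h2
  rw [hs.inv_eq_self hw] at h3
  exact hs.fpf.rho_rho_ne hw1 h3

/-- the commutator table -/
theorem comm_table [Finite T] (hs : IsSpecial64 ρ) (a b : T) (s t : K4) :
    ⁅α ρ b t, α ρ a s⁆ = ζ ρ ⁅a, b⁆ (s * t) := by
  set w := ⁅a, b⁆ with hw
  have hwZ : w ∈ center T := hs.comm_mem a b
  have hrZ : ρ w ∈ center T := IsSpecial64.rho_mem_center w hwZ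
  have e1 : ⁅b, a⁆ = w := hs.comm_symm b a
  have e2 : ⁅b, ρ a⁆ = w * ρ w := by
    rw [hs.comm_rho_right, e1, hs.rho_rho_Z hwZ]
  have e3 : ⁅ρ b, a⁆ = w * ρ w := by rw [hs.comm_rho_left, e2]
  have e4 : ⁅ρ b, ρ a⁆ = ρ w := by rw [IsSpecial64.comm_rho, e1]
  have e5 : ρ (ρ w) = w * ρ w := hs.rho_rho_Z hwZ
  have h1 : w * w = 1 := hs.sqZ w hwZ
  have h2 : ρ w * ρ w = 1 := hs.sqZ _ hrZ
  have hc : ρ w * w = w * ρ w := hs.central hrZ w
  have h1' : ∀ g : T, w * (w * g) = g := fun g => by rw [← mul_assoc, h1, one_mul]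
  have h2' : ∀ g : T, ρ w * (ρ w * g) = g := fun g => by rw [← mul_assoc, h2, one_mul]
  have hc' : ∀ g : T, ρ w * (w * g) = w * (ρ w * g) := fun g => by
    rw [← mul_assoc, hc, mul_assoc]
  cases s <;> cases t <;>
    simp only [K4_mul_def, K4.mul, α, ζ, v4, commutatorElement_one_left,
      commutatorElement_one_right, hs.comm_mul_left, hs.comm_mul_right, e1, e2, e3, e4, e5,
      mul_assoc, h1, h2, hc, h1', h2', hc', mul_one, one_mul]

end HypPair

end Cfsg.Agent.Lib.Helper6.Fpf3
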