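import Mathlib
import Cfsg.Agent.Lib.Helper4.D8Rec
import Cfsg.Agent.Lib.Helper2.QuatGen

set_option autoImplicit false

/-! A nonabelian group of order eight is dihedral or quaternion. -/

namespace Cfsg.Agent.Lib.Helper6.OrderEight

open Subgroup Cfsg.Agent.Lib.Helper4

variable {X : Type*} [Group X] [Finite X]

theorem dihedral_or_quaternion (hcard : Nat.card X = 8) (hab : ¬ IsMulCommutative X) :
    Nonempty (X ≃* DihedralGroup 4) ∨ Nonempty (X ≃* QuaternionGroup 2) := by
  obtain ⟨r, hr⟩ := exists_orderOf_eq_four hcard hab
  by_cases hex : ∃ s : X, s * s = 1 ∧ s ∉ zpowers r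
  · obtain ⟨s, hs, hs'⟩ := hex
    exact Or.inl (dihedral_four_core hcard hab r s hr hs hs')
  · right
    push Not at hex
    have hidx : (zpowers r).index = 2 := by
      have := (zpowers r).card_mul_index
      rw [Nat.card_zpowers, hr, hcard] at this
      omega
    have hn : (zpowers r).Normal := Subgroup.normal_of_index_eq_two hidx
    obtain ⟨y, hy⟩ : ∃ y : X, y ∉ zpowers r := by
      by_contra hcon
      push Not at hcon
      have : zpowers r = ⊤ := eq_top_iff.mpr fun g _ => hcon g
      rw [this, Subgroup.index_top] at hidx
      norm_num at hidx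
    have hr4 : r ^ 4 = 1 := by rw [← hr]; exact pow_orderOf_eq_one r
    have hr2 : r ^ 2 ≠ 1 := by
      intro h
      have := orderOf_dvd_of_pow_eq_one h
      rw [hr] at this
      norm_num at this
    have hy2 : y * y ≠ 1 := fun h => hy (hex y h)
    have hyy : y * y ∈ zpowers r := (Subgroup.mul_mem_iff_of_index_two hidx).mpr Iff.rfl
    have hno8 : ∀ g : X, orderOf g ≠ 8 := by
      intro g h
      have hcyc : IsCyclic X := isCyclic_of_orderOf_eq_card g (by rw [h, hcard])
      exact hab IsCyclic.isMulCommutative
    have hy4 : y ^ 4 = 1 := by
      have hdvd : orderOf y ∣ 8 := hcard ▸ orderOf_dvd_natCard y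
      have hle : orderOf y ≤ 8 := Nat.le_of_dvd (by norm_num) hdvd
      have h8 := hno8 y
      have hpos := orderOf_pos y
      have : orderOf y ∣ 4 := by
        interval_cases h : orderOf y <;> simp_all
      exact orderOf_dvd_iff_pow_eq_one.mp this
    have hyr : y * y = r ^ 2 := by
      rcases mem_zpowers_four hr hyy with h | h | h | h
      · exact absurd h hy2
      · exfalso
        have : r ^ 2 = 1 := by
          rw [← h, ← pow_two, ← pow_mul]; exact hy4
        exact hr2 this
      · exact h
      · exfalso
        have h1 : (r ^ 3) ^ 2 = 1 := by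
          rw [← h, ← pow_two, ← pow_mul]; exact hy4
        have h2 : r ^ 2 = 1 := by
          have : (r ^ 3) ^ 2 = r ^ 4 * r ^ 2 := by rw [← pow_mul, ← pow_add]
          rw [this, hr4, one_mul] at h1
          exact h1
        exact hr2 h2
    have hc : y * r * y⁻¹ ∈ zpowers r := hn.conj_mem r (mem_zpowers r) y
    have hco : orderOf (y * r * y⁻¹) = 4 := by
      have := (MulAut.conj y).orderOf_eq r
      rw [MulAut.conj_apply] at this
      rw [this, hr]
    have key : y * r * y⁻¹ = r⁻¹ := by
      have hinv : r ^ 3 = r⁻¹ := by
        rw [eq_inv_iff_mul_eq_one, ← pow_succ]; exact hr4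
      rcases mem_zpowers_four hr hc with h1 | h1 | h1 | h1
      · rw [h1, orderOf_one] at hco; norm_num at hco
      · exfalso
        have hsr : y * r = r * y := by
          have := congrArg (fun t => t * y) h1
          simpa using this
        apply hab
        have hrc : r ∈ center X := by
          have : centralizer ({r} : Set X) = ⊤ := by
            apply eq_top_of_zpowers_le hcard hr hy
            · rw [zpowers_le, mem_centralizer_singleton_iff]
            · rw [mem_centralizer_singleton_iff]; exact hsr
          rw [mem_center_iff]
          intro g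
          have hg : g ∈ centralizer ({r} : Set X) := by rw [this]; trivial
          rw [mem_centralizer_singleton_iff] at hg
          exact hg
        have hsc : y ∈ center X := by
          have : centralizer ({y} : Set X) = ⊤ := by
            apply eq_top_of_zpowers_le hcard hr hy
            · rw [zpowers_le, mem_centralizer_singleton_iff]; exact hsr.symm
            · rw [mem_centralizer_singleton_iff]
          rw [mem_center_iff]
          intro g
          have hg : g ∈ centralizer ({y} : Set X) := by rw [this]; trivial
          rw [mem_centralizer_singleton_iff] at hg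
          exact hg
        have htop : center X = ⊤ :=
          eq_top_of_zpowers_le hcard hr hy _ (zpowers_le.mpr hrc) hsc
        refine ⟨⟨fun a b => ?_⟩⟩
        have ha : a ∈ center X := by rw [htop]; trivial
        exact (mem_center_iff.mp ha b).symm
      · exfalso
        have h2 : (y * r * y⁻¹) ^ 2 = 1 := by
          rw [h1, ← pow_mul]; exact hr4
        have := orderOf_dvd_of_pow_eq_one h2
        rw [hco] at this
        norm_num at this
      · rw [h1, hinv]
    have ht : orderOf r = 2 * 2 := hr
    have hinj := Cfsg.Agent.Lib.Helper2.quatHom_injective (n := 2) le_rfl ht hyr key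
    have hcardQ : Nat.card (QuaternionGroup 2) = 8 := by
      rw [Nat.card_eq_fintype_card, QuaternionGroup.card]
    have hbij : Function.Bijective (Cfsg.Agent.Lib.Helper2.quatHom ht hyr key) :=
      hinj.bijective_of_nat_card_le (by rw [hcardQ, hcard])
    exact ⟨(MulEquiv.ofBijective _ hbij).symm⟩

end Cfsg.Agent.Lib.Helper6.OrderEight
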