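import Mathlib
import Cfsg.Agent.Lib.Helper6.Fpf3I
import Cfsg.Agent.Lib.Helper6.OrderEight

set_option autoImplicit false

/-! The isomorphism with the Heisenberg group: assembly. -/

namespace Cfsg.Agent.Lib.Helper6.Fpf3

open Subgroup Cfsg.Agent.Lib.Helper10.M21
open scoped commutatorElement

variable {T : Type*} [Group T] {ρ x : MulAut T}

theorem mul_rearrange {A B Z1 A' B' Z2 W : T} (hZ1 : Z1 ∈ center T)
    (hW : W ∈ center T) (h : B * A' = W * A' * B) :
    (A * B * Z1) * (A' * B' * Z2) = (A * A') * (B * B') * (Z1 * Z2 * W) := by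
  have c1 : ∀ g : T, g * Z1 = Z1 * g := Subgroup.mem_center_iff.mp hZ1
  have cW : ∀ g : T, g * W = W * g := Subgroup.mem_center_iff.mp hW
  calc (A * B * Z1) * (A' * B' * Z2) = A * B * (Z1 * (A' * B')) * Z2 := by group
    _ = A * B * ((A' * B') * Z1) * Z2 := by rw [c1]
    _ = A * (B * A') * B' * Z1 * Z2 := by group
    _ = A * (W * A' * B) * B' * Z1 * Z2 := by rw [h]
    _ = (A * W) * A' * B * B' * Z1 * Z2 := by group
    _ = (W * A) * A' * B * B' * Z1 * Z2 := by rw [cW]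
    _ = W * (A * A' * (B * B') * (Z1 * Z2)) := by group
    _ = (A * A' * (B * B') * (Z1 * Z2)) * W := by rw [cW]
    _ = (A * A') * (B * B') * (Z1 * Z2 * W) := by group

namespace HypPair

variable {a b : T}

/-- the isomorphism, as a homomorphism -/
noncomputable def φ [Finite T] (hs : IsSpecial64 ρ) (hp : HypPair ρ a b) : Heis →* T :=
  MonoidHom.mk' (fun p => α ρ a p.s * α ρ b p.t * ζ ρ ⁅a, b⁆ p.u) (by
    intro p q
    have hwZ : ⁅a, b⁆ ∈ center T := hs.comm_mem a b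
    show α ρ a (p.s + q.s) * α ρ b (p.t + q.t) * ζ ρ ⁅a, b⁆ (p.u + q.u + q.s * p.t) = _
    rw [α_add hs hp.a2, α_add hs hp.b2, ζ_add hs hwZ, ζ_add hs hwZ]
    refine (mul_rearrange (ζ_mem _ hwZ _) (ζ_mem _ hwZ _) ?_).symm
    rw [IsSpecial64.swap_mul (α ρ b p.t) (α ρ a q.s), comm_table hs])

theorem φ_apply [Finite T] (hs : IsSpecial64 ρ) (hp : HypPair ρ a b) (p : Heis) :
    φ hs hp p = α ρ a p.s * α ρ b p.t * ζ ρ ⁅a, b⁆ p.u := rfl

theorem φ_injective [Finite T] (hs : IsSpecial64 ρ) (hp : HypPair ρ a b) :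
    Function.Injective (φ hs hp) := by
  rw [injective_iff_map_eq_one]
  intro p h
  rw [φ_apply] at h
  have hwZ : ⁅a, b⁆ ∈ center T := hs.comm_mem a b
  have hAB : α ρ a p.s * α ρ b p.t ∈ center T := by
    have := eq_inv_of_mul_eq_one_left h
    rw [this]
    exact Subgroup.inv_mem _ (ζ_mem _ hwZ _)
  have ha_e : α ρ a K4.e = a := rfl
  have hb_e : α ρ b K4.e = b := rfl
  have ht : p.t = 0 := by
    have h1 := hs.comm_eq_one_of_mem_left hAB a
    rw [hs.comm_mul_left] at h1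
    have h2 : ⁅α ρ a p.s, a⁆ = 1 := by
      rw [commutatorElement_eq_one_iff_commute]
      have := α_comm hs hp.a2 p.s K4.e
      rw [ha_e] at this
      exact this
    have h3 : ⁅α ρ b p.t, a⁆ = ζ ρ ⁅a, b⁆ (K4.e * p.t) := by
      rw [← comm_table hs a b K4.e p.t, ha_e]
    rw [h2, one_mul, h3] at h1
    have h4 := ζ_eq_one hs hwZ hp.ne h1
    have h5 : K4.e * p.t = p.t := one_mul p.t
    rw [← h5, h4]
  have hs0 : p.s = 0 := by
    have h1 := hs.comm_eq_one_of_mem_right hAB b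
    rw [hs.comm_mul_right] at h1
    have h2 : ⁅b, α ρ b p.t⁆ = 1 := by
      rw [commutatorElement_eq_one_iff_commute]
      have := α_comm hs hp.b2 K4.e p.t
      rw [hb_e] at this
      exact this
    have h3 : ⁅b, α ρ a p.s⁆ = ζ ρ ⁅a, b⁆ (p.s * K4.e) := by
      rw [← comm_table hs a b p.s K4.e, hb_e]
    rw [h2, mul_one, h3] at h1
    have h4 := ζ_eq_one hs hwZ hp.ne h1
    have h5 : p.s * K4.e = p.s := mul_one p.s
    rw [← h5, h4]
  have hu : p.u = 0 := by
    rw [hs0, ht] at h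
    have h1 : α ρ a 0 = 1 := rfl
    have h2 : α ρ b 0 = 1 := rfl
    rw [h1, h2, one_mul, one_mul] at h
    exact ζ_eq_one hs hwZ hp.ne h
  exact Heis.ext' hs0 ht hu

/-- the isomorphism -/
theorem nonempty_equiv [Finite T] (hs : IsSpecial64 ρ) (hp : HypPair ρ a b) :
    Nonempty (Heis ≃* T) := by
  have hbij : Function.Bijective (φ hs hp) :=
    (φ_injective hs hp).bijective_of_nat_card_le (by rw [Heis.card, hs.card])
  exact ⟨MulEquiv.ofBijective _ hbij⟩

end HypPair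

/-- the structure theorem -/
theorem nonempty_heis_equiv [Finite T] (hs : IsSpecial64 ρ) (hx : IsInv ρ x) :
    Nonempty (Heis ≃* T) := by
  obtain ⟨z₁, z₀, hd⟩ := XData.exists_xdata hs hx
  obtain ⟨a, haZ, ha2⟩ := hd.exists_singular hs hx
  obtain ⟨b, hb2, hab⟩ := hs.exists_partner haZ ha2
  exact HypPair.nonempty_equiv hs ⟨ha2, hb2, hab⟩

/-- the fixed points of `x` -/
theorem fixedSub_dihedral_or_quaternion [Finite T] (hs : IsSpecial64 ρ) (hx : IsInv ρ x) :
    Nonempty (↥(fixedSub x) ≃* DihedralGroup 4) ∨ Nonempty (↥(fixedSub x) ≃* QuaternionGroup 2) := by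
  obtain ⟨z₁, z₀, hd⟩ := XData.exists_xdata hs hx
  apply OrderEight.dihedral_or_quaternion (hd.card_fixedSub hs hx)
  intro hcomm
  obtain ⟨y₁, y₂, hy₁, hy₂, hc⟩ := hd.exists_noncomm hs hx
  apply hc
  rw [commutatorElement_eq_one_iff_commute]
  have := hcomm.is_comm.comm (⟨y₁, hy₁⟩ : fixedSub x) ⟨y₂, hy₂⟩
  exact congrArg Subtype.val this

end Cfsg.Agent.Lib.Helper6.Fpf3
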