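import Cfsg.Agent.Lib.Helper17.FrCDefs
import Cfsg.Agent.Lib.Helper6.FrCA6

/-!
# CORE (frame stabilisers), leaf A6 generic: `allB_five'` etc. under `7 ≤ Fintype.card κ` (for S5858, n = 11)
(the primed versions of `Helper6.FrCA6`; same proofs).
-/

set_option autoImplicit false
set_option linter.unusedSectionVars false
set_option linter.unusedVariables false
set_option linter.unusedSimpArgs false

namespace Cfsg.Agent.Lib.Helper6.FrCLeaf

open Module QuadraticMap Matrix Cfsg.Agent.Lib.Helper25.CD Cfsg.Agent.Lib.Helper25.Spin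
  Cfsg.Agent.Lib.Helper5.NSMax Cfsg.Agent.Lib.Helper5.PairMax Cfsg.Agent.Lib.Helper17.OC2
  Cfsg.Agent.Lib.Helper29.FrStd Cfsg.Agent.Lib.Helper11.Mono Cfsg.Agent.Lib.Helper17.FrC

variable {κ : Type} [Fintype κ] [DecidableEq κ] {F : Type*} [Field F] [Fintype F]
  {c : F} {M : Subgroup ↥(Cfsg.isometryGroup F ⇑(stdQ κ F c))}

/-- a 4-set and three points of its complement -/
lemma exists_four_three' (hκ : 7 ≤ Fintype.card κ) (S : Finset κ) (hS : S.card = 4) :
    ∃ s1 s2 s3 s4 c1 c2 c3 : κ, [s1, s2, s3, s4, c1, c2, c3].Nodup ∧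
      (∀ l, l ∈ S ↔ l = s1 ∨ l = s2 ∨ l = s3 ∨ l = s4) := by
  have hne : S.Nonempty := by
    rw [← Finset.card_pos, hS]; norm_num
  obtain ⟨s1, hs1⟩ := hne
  have h3 : (S.erase s1).card = 3 := by rw [Finset.card_erase_of_mem hs1, hS]
  obtain ⟨s2, s3, s4, h23, h24, h34, hE⟩ := Finset.card_eq_three.1 h3
  have hmem : ∀ l, l ∈ S ↔ l = s1 ∨ l = s2 ∨ l = s3 ∨ l = s4 := by
    intro l
    by_cases hl : l = s1
    · subst hl
      simp [hs1]
    · have : l ∈ S ↔ l ∈ S.erase s1 := by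
        rw [Finset.mem_erase]
        exact ⟨fun h => ⟨hl, h⟩, fun h => h.2⟩
      rw [this, hE]
      simp [hl]
  have hs2 : s2 ∈ S.erase s1 := by rw [hE]; simp
  have hs3 : s3 ∈ S.erase s1 := by rw [hE]; simp
  have hs4 : s4 ∈ S.erase s1 := by rw [hE]; simp
  have h12 : s1 ≠ s2 := fun h => (Finset.mem_erase.1 hs2).1 h.symm
  have h13 : s1 ≠ s3 := fun h => (Finset.mem_erase.1 hs3).1 h.symm
  have h14 : s1 ≠ s4 := fun h => (Finset.mem_erase.1 hs4).1 h.symm
  have hc : 3 ≤ Sᶜ.card := by rw [Finset.card_compl, hS]; omega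
  obtain ⟨t, ht, ht3⟩ := Finset.exists_subset_card_eq (s := Sᶜ) (n := 3) hc
  obtain ⟨c1, c2, c3, k12, k13, k23, hE'⟩ := Finset.card_eq_three.1 ht3
  have hc1 : c1 ∉ S := by
    have : c1 ∈ Sᶜ := ht (by rw [hE']; simp)
    exact Finset.mem_compl.1 this
  have hc2 : c2 ∉ S := by
    have : c2 ∈ Sᶜ := ht (by rw [hE']; simp)
    exact Finset.mem_compl.1 this
  have hc3 : c3 ∉ S := by
    have : c3 ∈ Sᶜ := ht (by rw [hE']; simp)
    exact Finset.mem_compl.1 this
  have n1 : ∀ c, c ∉ S → s1 ≠ c ∧ s2 ≠ c ∧ s3 ≠ c ∧ s4 ≠ c := by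
    intro c hc
    rw [hmem] at hc
    push Not at hc
    exact ⟨fun h => hc.1 h.symm, fun h => hc.2.1 h.symm, fun h => hc.2.2.1 h.symm,
      fun h => hc.2.2.2 h.symm⟩
  obtain ⟨p1, p2, p3, p4⟩ := n1 c1 hc1
  obtain ⟨q1, q2, q3, q4⟩ := n1 c2 hc2
  obtain ⟨r1, r2, r3, r4⟩ := n1 c3 hc3
  refine ⟨s1, s2, s3, s4, c1, c2, c3, ?_, hmem⟩
  simp only [List.nodup_cons, List.mem_cons, List.not_mem_nil, or_false, not_or, List.nodup_nil,
    and_true, not_false_eq_true]
  exact ⟨⟨h12, h13, h14, p1, q1, r1⟩, ⟨h23, h24, p2, q2, r2⟩, ⟨h34, p3, q3, r3⟩, ⟨p4, q4, r4⟩,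
    ⟨k12, k13⟩, k23⟩

/-- the overlap copy of a vector with support of size 4: an even-permutation image `b` meeting the support of `a`
in exactly one coordinate `s1`, where it agrees with `a`. -/
lemma overlap_copy' (hκ : 7 ≤ Fintype.card κ) {R : (κ → F) → Prop} (hS : Sys R) {a : κ → F} (ha : R a)
    (h4 : (supp a).card = 4) :
    ∃ (b : κ → F) (s1 s2 s3 s4 c1 c2 c3 : κ), R b ∧ [s1, s2, s3, s4, c1, c2, c3].Nodup ∧
      (∀ l, a l ≠ 0 ↔ l = s1 ∨ l = s2 ∨ l = s3 ∨ l = s4) ∧ b s1 = a s1 ∧ b s2 = 0 ∧ b s3 = 0 ∧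
      b s4 = 0 ∧ b c1 = a s3 ∧ b c2 = a s2 ∧ b c3 = a s4 ∧
      (∀ l, l ≠ s1 → l ≠ s2 → l ≠ s3 → l ≠ s4 → l ≠ c1 → l ≠ c2 → l ≠ c3 → b l = 0) ∧
      a ⬝ᵥ b = a s1 * a s1 := by
  obtain ⟨s1, s2, s3, s4, c1, c2, c3, hnd, hmem⟩ := exists_four_three' hκ (supp a) h4
  have hmem' : ∀ l, a l ≠ 0 ↔ l = s1 ∨ l = s2 ∨ l = s3 ∨ l = s4 := by
    intro l
    rw [← mem_supp, hmem]
  have hnd' := hnd
  simp only [List.nodup_cons, List.mem_cons, List.not_mem_nil, or_false, not_or, List.nodup_nil,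
    and_true, not_false_eq_true] at hnd'
  obtain ⟨⟨h12, h13, h14, p1, q1, r1⟩, ⟨h23, h24, p2, q2, r2⟩, ⟨h34, p3, q3, r3⟩, ⟨p4, q4, r4⟩,
    ⟨k12, k13⟩, k23⟩ := hnd'
  have hnd6 : [s2, s3, s4, c1, c2, c3].Nodup := by
    simp only [List.nodup_cons, List.mem_cons, List.not_mem_nil, or_false, not_or, List.nodup_nil,
      and_true, not_false_eq_true]
    exact ⟨⟨h23, h24, p2, q2, r2⟩, ⟨h34, p3, q3, r3⟩, ⟨p4, q4, r4⟩, ⟨k12, k13⟩, k23⟩
  obtain ⟨v2, v3, v4, w1, w2, w3, vfix⟩ := ovPerm_vals hnd6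
  have hsign := ovPerm_sign (s2 := s2) (s3 := s3) (s4 := s4) (c1 := c1) (c2 := c2) (c3 := c3) p2 q3 r4 k12
  have az : ∀ l, l ≠ s1 → l ≠ s2 → l ≠ s3 → l ≠ s4 → a l = 0 := by
    intro l l1 l2 l3 l4
    by_contra h
    rcases (hmem' l).1 h with h | h | h | h
    · exact l1 h
    · exact l2 h
    · exact l3 h
    · exact l4 h
  have ac1 : a c1 = 0 := az c1 (Ne.symm p1) (Ne.symm p2) (Ne.symm p3) (Ne.symm p4)
  have ac2 : a c2 = 0 := az c2 (Ne.symm q1) (Ne.symm q2) (Ne.symm q3) (Ne.symm q4)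
  have ac3 : a c3 = 0 := az c3 (Ne.symm r1) (Ne.symm r2) (Ne.symm r3) (Ne.symm r4)
  have b1 : (a ∘ ovPerm s2 s3 s4 c1 c2 c3) s1 = a s1 := by
    rw [Function.comp_apply, vfix s1 h12 h13 h14 p1 q1 r1]
  have b2 : (a ∘ ovPerm s2 s3 s4 c1 c2 c3) s2 = 0 := by rw [Function.comp_apply, v2, ac1]
  have b3 : (a ∘ ovPerm s2 s3 s4 c1 c2 c3) s3 = 0 := by rw [Function.comp_apply, v3, ac2]
  have b4 : (a ∘ ovPerm s2 s3 s4 c1 c2 c3) s4 = 0 := by rw [Function.comp_apply, v4, ac3]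
  refine ⟨a ∘ ovPerm s2 s3 s4 c1 c2 c3, s1, s2, s3, s4, c1, c2, c3, hS.perm a _ hsign ha, hnd, hmem',
    b1, b2, b3, b4, ?_, ?_, ?_, ?_, ?_⟩
  · rw [Function.comp_apply, w1]
  · rw [Function.comp_apply, w2]
  · rw [Function.comp_apply, w3]
  · intro l l1 l2 l3 l4 l5 l6 l7
    rw [Function.comp_apply, vfix l l2 l3 l4 l5 l6 l7]
    exact az l l1 l2 l3 l4
  · unfold dotProduct
    rw [Finset.sum_eq_single s1]
    · rw [b1]
    · intro l _ hl
      by_cases hl0 : a l = 0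
      · rw [hl0, zero_mul]
      · rcases (hmem' l).1 hl0 with h | h | h | h
        · exact absurd h hl
        · rw [h, b2, mul_zero]
        · rw [h, b3, mul_zero]
        · rw [h, b4, mul_zero]
    · intro h
      exact absurd (Finset.mem_univ _) h

/-- A6 (`p = 5`). -/
theorem allB_five' (h5 : Fintype.card F = 5) (hκ : 7 ≤ Fintype.card κ) {R : (κ → F) → Prop} (hS : Sys R)
    (hpm : ∀ (a : κ → F) (m : κ), R a → (a m = 1 ∨ a m = -1) → a = e m ∨ a = -e m)
    (h0 : ∀ b, R b → ∀ T : Finset κ, (∃ l ∈ T, b l ≠ 0) → (∃ l, l ∉ T ∧ b l ≠ 0) → ∑ l ∈ T, b l ^ 2 ≠ 0) :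
    ∀ a, R a → IsB a := by
  have : Fact (Nat.Prime 5) := ⟨by norm_num⟩
  have hch : CharP F 5 := charP_of_card_eq_prime h5
  have five : (5 : F) = 0 := by
    have := (CharP.cast_eq_zero_iff F 5 5).2 (dvd_refl 5)
    exact_mod_cast this
  have hval : ∀ x : F, x = 0 ∨ x ^ 2 = 1 ∨ x ^ 2 = -1 := by
    intro x
    by_cases hx : x = 0
    · exact Or.inl hx
    · right
      have h4 : x ^ 4 = 1 := by
        have := FiniteField.pow_card_sub_one_eq_one x hx
        rwa [h5] at this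
      have : (x ^ 2 - 1) * (x ^ 2 + 1) = 0 := by linear_combination h4
      rcases mul_eq_zero.1 this with h | h
      · exact Or.inl (sub_eq_zero.1 h)
      · exact Or.inr (eq_neg_of_add_eq_zero_left h)
  intro a ha
  by_cases hm : ∃ m, a m = 1 ∨ a m = -1
  · obtain ⟨m, hm⟩ := hm
    exact Or.inl ⟨m, hpm a m ha hm⟩
  · exfalso
    push Not at hm
    have hsq : ∀ l, a l ≠ 0 → a l ^ 2 = -1 := by
      intro l hl
      rcases hval (a l) with h | h | h
      · exact absurd h hl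
      · exfalso
        have : (a l - 1) * (a l + 1) = 0 := by linear_combination h
        rcases mul_eq_zero.1 this with h' | h'
        · exact (hm l).1 (sub_eq_zero.1 h')
        · exact (hm l).2 (eq_neg_of_add_eq_zero_left h')
      · exact h
    have hunit := hS.unit a ha
    rw [dot_self_eq_sum_supp, sum_sq_eq_card_smul (supp a) (fun l hl => hsq l (mem_supp.1 hl))] at hunit
    -- the size of the support is `4` or `9`
    have hcard : ((supp a).card + 1 : ℕ) % 5 = 0 := by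
      have h1 : (((supp a).card + 1 : ℕ) : F) = 0 := by
        push_cast
        linear_combination -hunit
      rw [CharP.cast_eq_zero_iff F 5] at h1
      exact Nat.mod_eq_zero_of_dvd h1
    have h49 : (supp a).card = 4 ∨ 9 ≤ (supp a).card := by omega
    rcases h49 with h4 | h9
    · -- the overlap copy
      obtain ⟨b, s1, s2, s3, s4, c1, c2, c3, hb, hnd, hmem, b1, b2, b3, b4, bc1, bc2, bc3, bz, hdot⟩ :=
        overlap_copy' hκ hS ha h4
      simp only [List.nodup_cons, List.mem_cons, List.not_mem_nil, or_false, not_or, List.nodup_nil,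
        and_true, not_false_eq_true] at hnd
      obtain ⟨⟨h12, h13, h14, p1, q1, r1⟩, ⟨h23, h24, p2, q2, r2⟩, ⟨h34, p3, q3, r3⟩, ⟨p4, q4, r4⟩,
        ⟨k12, k13⟩, k23⟩ := hnd
      have as1 : a s1 ≠ 0 := (hmem s1).2 (Or.inl rfl)
      have as2 : a s2 ≠ 0 := (hmem s2).2 (Or.inr (Or.inl rfl))
      have as3 : a s3 ≠ 0 := (hmem s3).2 (Or.inr (Or.inr (Or.inl rfl)))
      have ac1 : a c1 = 0 := by
        by_contra h
        rcases (hmem c1).1 h with h | h | h | h
        · exact p1 h.symm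
        · exact p2 h.symm
        · exact p3 h.symm
        · exact p4 h.symm
      have hdot' : a ⬝ᵥ b = -1 := by rw [hdot, ← hsq s1 as1]; ring
      have hR' := hS.refl a b ha hb
      rw [hdot'] at hR'
      have v1 : (a - (2 * (-1 : F)) • b) c1 = 2 * a s3 := by
        simp only [Pi.sub_apply, Pi.smul_apply, smul_eq_mul, ac1, bc1]
        ring
      have v2 : (a - (2 * (-1 : F)) • b) s2 = a s2 := by
        simp only [Pi.sub_apply, Pi.smul_apply, smul_eq_mul, b2]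
        ring
      have hone : (2 * a s3) ^ 2 = 1 := by
        have := hsq s3 as3
        linear_combination 4 * this - five
      have hpm1 : (a - (2 * (-1 : F)) • b) c1 = 1 ∨ (a - (2 * (-1 : F)) • b) c1 = -1 := by
        rw [v1]
        have : (2 * a s3 - 1) * (2 * a s3 + 1) = 0 := by linear_combination hone
        rcases mul_eq_zero.1 this with h' | h'
        · exact Or.inl (sub_eq_zero.1 h')
        · exact Or.inr (eq_neg_of_add_eq_zero_left h')
      have hes : (e c1 : κ → F) s2 = 0 := by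
        unfold e
        rw [Pi.single_apply, if_neg p2]
      rcases hpm _ c1 hR' hpm1 with h | h
      · have := congrFun h s2
        rw [v2, hes] at this
        exact as2 this
      · have := congrFun h s2
        rw [v2, Pi.neg_apply, hes, neg_zero] at this
        exact as2 this
    · -- a zero-sum subset of size 5
      obtain ⟨T, hT, hT5⟩ := Finset.exists_subset_card_eq (s := supp a) (n := 5) (by omega)
      have hsum : ∑ l ∈ T, a l ^ 2 = 0 := by
        rw [sum_sq_eq_card_smul T (fun l hl => hsq l (mem_supp.1 (hT hl))), hT5]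
        push_cast
        linear_combination -five
      have hTne : T.Nonempty := by rw [← Finset.card_pos, hT5]; norm_num
      obtain ⟨l₀, hl₀⟩ := hTne
      have hdiff : (supp a \ T).Nonempty := by
        rw [← Finset.card_pos, Finset.card_sdiff_of_subset hT, hT5]
        omega
      obtain ⟨l₁, hl₁⟩ := hdiff
      rw [Finset.mem_sdiff] at hl₁
      exact h0 a ha T ⟨l₀, hl₀, mem_supp.1 (hT hl₀)⟩ ⟨l₁, hl₁.2, mem_supp.1 hl₁.1⟩ hsum

end Cfsg.Agent.Lib.Helper6.FrCLeaf
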