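/-
helper6: fully ramified characters over a central subgroup ("groups of central type"):
the quotient has no self-centralising cyclic subgroup.
-/
import Mathlib
import Cfsg.Agent.Lib.Helper6.CTripleA
import Cfsg.Agent.Lib.Helper6.LinChar
import Cfsg.Agent.Lib.Lead.CharMain
import Cfsg.Agent.Lib.Helper10.IrrOrtho

set_option autoImplicit false

namespace Cfsg.Agent.Lib.Helper6.FullyRam

open Cfsg Cfsg.Agent.CharLib Cfsg.Agent.Lib.Helper24 Cfsg.Agent.Lib.Helper6
  Cfsg.Agent.Lib.Helper6.CTriple
open scoped ComplexConjugate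

universe u

/-- **Central type**: if `γ ∈ Irr(E)` has `γ(1)² = |E / Z|` for a central subgroup `Z = ker φ`, then
the nontrivial quotient `Q = E / Z` has no cyclic subgroup equal to its own centraliser. -/
theorem centralizer_ne_of_central_type {E Q : Type u} [Group E] [Finite E] [Group Q] (φ : E →* Q)
    (hφ : Function.Surjective φ) (hZc : φ.ker ≤ Subgroup.center E) (γ : IrrCharacter E)
    (hγ : (charDegree (γ : E → ℂ)) ^ 2 = Nat.card Q) (hQ : ∃ q : Q, q ≠ 1)
    (C : Subgroup Q) (hC : IsCyclic C) : Subgroup.centralizer (C : Set Q) ≠ C := by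
  classical
  intro hCC
  haveI : Finite Q := Finite.of_surjective φ hφ
  letI : Fintype E := Fintype.ofFinite E
  letI := fintypeIrr E
  set Z : Subgroup E := φ.ker with hZ
  letI : Fintype Z := Fintype.ofFinite Z
  have hcardE : Nat.card E = Nat.card Q * Nat.card Z := by
    rw [Subgroup.card_eq_card_quotient_mul_card_subgroup Z,
      Nat.card_congr (QuotientGroup.quotientKerEquivOfSurjective φ hφ).toEquiv]
  have hcomm : ∀ z ∈ Z, ∀ x : E, x * z = z * x := fun z hz x =>
    Subgroup.mem_center_iff.mp (hZc hz) x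
  -- central characters
  have hex : ∀ χ : IrrCharacter E, ∃ lam : Z →* ℂˣ, ∀ (z : Z) (e : E),
      (χ : E → ℂ) ((z : E) * e) = ((lam z : ℂˣ) : ℂ) * (χ : E → ℂ) e :=
    fun χ => exists_centralHom χ Z hZc
  choose lam hlam using hex
  let L : IrrCharacter E → Z → ℂ := fun χ z => ((lam χ z : ℂˣ) : ℂ)
  have hLirr : ∀ χ, IsIrrCharacter Z (L χ) := fun χ => isIrrCharacter_of_hom (lam χ)
  have hmulz : ∀ (χ : IrrCharacter E) (z : Z) (e : E),
      (χ : E → ℂ) (e * (z : E)) = L χ z * (χ : E → ℂ) e := by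
    intro χ z e
    rw [hcomm z z.2 e]
    exact hlam χ z e
  have hZ0 : (Nat.card Z : ℂ) ≠ 0 := by exact_mod_cast (Nat.card_pos (α := Z)).ne'
  -- the twisted column orthogonality
  have hstar : ∀ g : E, ∑ z : Z, L γ z * (classIndicator (g * (z : E)) g *
      (Nat.card (Subgroup.centralizer ({g * (z : E)} : Set E)) : ℂ)) =
      (Nat.card Z : ℂ) * ∑ χ : IrrCharacter E, if L γ = L χ then
        (χ : E → ℂ) g * conj ((χ : E → ℂ) g) else 0 := by
    intro g
    have h1 : ∀ z : Z, L γ z * (classIndicator (g * (z : E)) g *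
        (Nat.card (Subgroup.centralizer ({g * (z : E)} : Set E)) : ℂ)) =
        ∑ χ : IrrCharacter E, (χ : E → ℂ) g * conj ((χ : E → ℂ) g) * (L γ z * conj (L χ z)) := by
      intro z
      rw [← sum_irr_mul_conj g (g * (z : E)), Finset.mul_sum]
      apply Finset.sum_congr rfl
      intro χ _
      rw [hmulz χ z g, map_mul]
      ring
    rw [Finset.sum_congr rfl (fun z _ => h1 z), Finset.sum_comm, Finset.mul_sum]
    apply Finset.sum_congr rfl
    intro χ _
    rw [← Finset.mul_sum]
    have h2 : ∑ z : Z, L γ z * conj (L χ z) = (Nat.card Z : ℂ) * classInner (L γ) (L χ) := by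
      unfold classInner
      rw [← mul_assoc, mul_inv_cancel₀ hZ0, one_mul]
    rw [h2, classInner_irr (hLirr γ) (hLirr χ)]
    split_ifs <;> ring
  -- degrees
  have hdegsum : ∑ χ : IrrCharacter E, (if L γ = L χ then (charDegree (χ : E → ℂ)) ^ 2 else 0) =
      Nat.card Q := by
    have h1 := hstar 1
    have h2 : ∀ z : Z, L γ z * (classIndicator ((1 : E) * (z : E)) 1 *
        (Nat.card (Subgroup.centralizer ({(1 : E) * (z : E)} : Set E)) : ℂ)) =
        if z = 1 then (Nat.card E : ℂ) else 0 := by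
      intro z
      unfold classIndicator
      by_cases hz : z = 1
      · rw [if_pos hz, hz]
        have h3 : L γ 1 = 1 := by
          change ((lam γ 1 : ℂˣ) : ℂ) = 1
          rw [map_one, Units.val_one]
        have h4 : Subgroup.centralizer ({(1 : E) * ((1 : Z) : E)} : Set E) = ⊤ := by
          rw [Subgroup.coe_one, mul_one, Subgroup.centralizer_eq_top_iff_subset]
          intro x hx
          rw [Set.mem_singleton_iff.mp hx]
          exact Subgroup.one_mem _
        rw [h3, h4, Subgroup.coe_one, mul_one, if_pos (IsConj.refl 1), one_mul, one_mul,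
          Subgroup.card_top]
      · rw [if_neg hz, if_neg, zero_mul, mul_zero]
        intro hcon
        rw [one_mul, isConj_one_right] at hcon
        exact hz (Subtype.ext hcon)
    rw [Finset.sum_congr rfl (fun z _ => h2 z), Finset.sum_ite_eq' Finset.univ (1 : Z),
      if_pos (Finset.mem_univ _)] at h1
    have h3 : (Nat.card Z : ℂ) * ((Nat.card Q : ℕ) : ℂ) = (Nat.card Z : ℂ) *
        ((∑ χ : IrrCharacter E,
          (if L γ = L χ then (charDegree (χ : E → ℂ)) ^ 2 else 0) : ℕ) : ℂ) := by
      rw [← Nat.cast_mul, mul_comm, ← hcardE, h1]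
      congr 1
      push_cast
      apply Finset.sum_congr rfl
      intro χ _
      split_ifs
      · rw [irr_apply_one χ, Complex.conj_natCast]
        ring
      · rfl
    have h4 := mul_left_cancel₀ hZ0 h3
    exact_mod_cast h4.symm
  have huniq : ∀ χ : IrrCharacter E, L γ = L χ → χ = γ := by
    intro χ hχ
    by_contra hne
    have h1 : (charDegree (γ : E → ℂ)) ^ 2 + (charDegree (χ : E → ℂ)) ^ 2 ≤
        ∑ χ' : IrrCharacter E,
          (if L γ = L χ' then (charDegree (χ' : E → ℂ)) ^ 2 else 0) := by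
      have h2 : ({γ, χ} : Finset (IrrCharacter E)) ⊆ Finset.univ := Finset.subset_univ _
      have h3 := Finset.sum_le_sum_of_subset (f := fun χ' : IrrCharacter E =>
        (if L γ = L χ' then (charDegree (χ' : E → ℂ)) ^ 2 else 0)) h2
      rw [Finset.sum_pair (fun h => hne h.symm), if_pos rfl, if_pos hχ] at h3
      exact h3
    rw [hdegsum, ← hγ] at h1
    have h5 : charDegree (χ : E → ℂ) ≠ 0 := by
      intro h0
      have := irr_apply_one_ne_zero χ
      rw [irr_apply_one χ, h0] at this
      exact this (by simp)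
    have h6 : 0 < (charDegree (χ : E → ℂ)) ^ 2 := by positivity
    omega
  -- vanishing off `Z`
  have hγ1 : (γ : E → ℂ) 1 = (charDegree (γ : E → ℂ) : ℂ) := irr_apply_one γ
  have hnormL : ∀ z : Z, L γ z * conj (L γ z) = 1 := by
    intro z
    have h1 : (L γ z) ^ orderOf z = 1 := by
      change (((lam γ z : ℂˣ) : ℂ)) ^ orderOf z = 1
      rw [← Units.val_pow_eq_pow_val, ← map_pow, pow_orderOf_eq_one, map_one, Units.val_one]
    have h2 : ‖L γ z‖ = 1 :=
      Complex.norm_eq_one_of_pow_eq_one h1 (orderOf_pos z).ne'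
    rw [Complex.mul_conj, Complex.normSq_eq_norm_sq, h2]
    simp
  have hvanish : ∀ g : E, g ∉ Z → (γ : E → ℂ) g = 0 := by
    intro g hg
    have h1 : classInner (γ : E → ℂ) (γ : E → ℂ) = 1 :=
      Cfsg.Agent.Lib.Helper10.classInner_irr_self γ.2
    unfold classInner at h1
    have hE0 : (Nat.card E : ℂ) ≠ 0 := by exact_mod_cast (Nat.card_pos (α := E)).ne'
    have h2 : ∑ x : E, (γ : E → ℂ) x * conj ((γ : E → ℂ) x) = (Nat.card E : ℂ) := by
      field_simp at h1
      exact h1
    have h3 : ∀ x : E, (γ : E → ℂ) x * conj ((γ : E → ℂ) x) =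
        ((Complex.normSq ((γ : E → ℂ) x) : ℝ) : ℂ) := fun x => Complex.mul_conj _
    have h4 : ∑ x : E, Complex.normSq ((γ : E → ℂ) x) = (Nat.card E : ℝ) := by
      have : ((∑ x : E, Complex.normSq ((γ : E → ℂ) x) : ℝ) : ℂ) = ((Nat.card E : ℝ) : ℂ) := by
        push_cast
        rw [← h2]
        exact Finset.sum_congr rfl (fun x _ => (h3 x).symm)
      exact_mod_cast this
    have h5 : ∑ x ∈ Finset.univ.filter (fun x : E => x ∈ Z), Complex.normSq ((γ : E → ℂ) x) =
        (Nat.card E : ℝ) := by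
      have h6 : ∑ x ∈ Finset.univ.filter (fun x : E => x ∈ Z), Complex.normSq ((γ : E → ℂ) x) =
          ∑ z : Z, Complex.normSq ((γ : E → ℂ) z) := by
        rw [Finset.sum_subtype (Finset.univ.filter (fun x : E => x ∈ Z))
          (p := fun x => x ∈ Z) (fun x => by simp)]
      rw [h6]
      have h7 : ∀ z : Z, Complex.normSq ((γ : E → ℂ) z) =
          ((charDegree (γ : E → ℂ)) ^ 2 : ℕ) := by
        intro z
        have h8 := hlam γ z 1
        rw [mul_one] at h8
        have h9 : ((Complex.normSq ((γ : E → ℂ) z) : ℝ) : ℂ) =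
            (((charDegree (γ : E → ℂ)) ^ 2 : ℕ) : ℂ) := by
          rw [← Complex.mul_conj, h8, map_mul, hγ1, Complex.conj_natCast]
          have := hnormL z
          change ((lam γ z : ℂˣ) : ℂ) * conj ((lam γ z : ℂˣ) : ℂ) = 1 at this
          push_cast
          linear_combination ((charDegree (γ : E → ℂ) : ℂ)) ^ 2 * this
        exact_mod_cast h9
      rw [Finset.sum_congr rfl (fun z _ => h7 z), Finset.sum_const, Finset.card_univ,
        ← Nat.card_eq_fintype_card, hγ, hcardE]
      push_cast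
      ring
    have h10 := Finset.sum_filter_add_sum_filter_not Finset.univ (fun x : E => x ∈ Z)
      (fun x => Complex.normSq ((γ : E → ℂ) x))
    rw [h5, h4] at h10
    have h11 : ∑ x ∈ Finset.univ.filter (fun x : E => ¬ x ∈ Z),
        Complex.normSq ((γ : E → ℂ) x) = 0 := by linarith
    have h12 := (Finset.sum_eq_zero_iff_of_nonneg (fun x _ => Complex.normSq_nonneg _)).mp h11 g
      (Finset.mem_filter.mpr ⟨Finset.mem_univ _, hg⟩)
    exact Complex.normSq_eq_zero.mp h12
  -- the generator
  obtain ⟨⟨c, hcC⟩, hc⟩ := hC.exists_generator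
  obtain ⟨g, hg⟩ := hφ c
  have hCz : ∀ y : Q, y ∈ C → ∃ k : ℤ, c ^ k = y := by
    intro y hy
    have := hc ⟨y, hy⟩
    rw [Subgroup.mem_zpowers_iff] at this
    obtain ⟨k, hk⟩ := this
    exact ⟨k, by simpa using congrArg Subtype.val hk⟩
  have hc1 : c ≠ 1 := by
    intro h1
    obtain ⟨q, hq⟩ := hQ
    have hq1 : q ∈ Subgroup.centralizer (C : Set Q) := by
      rw [Subgroup.mem_centralizer_iff]
      intro y hy
      obtain ⟨k, hk⟩ := hCz y hy
      rw [← hk, h1, one_zpow, one_mul, mul_one]
    rw [hCC] at hq1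
    obtain ⟨k, hk⟩ := hCz q hq1
    rw [h1, one_zpow] at hk
    exact hq hk.symm
  have hgZ : g ∉ Z := by
    intro h
    rw [hZ, MonoidHom.mem_ker, hg] at h
    exact hc1 h
  -- only `z = 1` contributes
  have hconj : ∀ z : Z, IsConj g (g * (z : E)) → z = 1 := by
    intro z hz
    obtain ⟨x, hx⟩ := isConj_iff.mp hz
    have h1 : φ x * c * (φ x)⁻¹ = c := by
      rw [← hg, ← map_inv, ← map_mul, ← map_mul, hx, map_mul, MonoidHom.mem_ker.mp z.2, mul_one]
    have h2 : φ x ∈ Subgroup.centralizer (C : Set Q) := by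
      rw [Subgroup.mem_centralizer_iff]
      intro y hy
      obtain ⟨k, hk⟩ := hCz y hy
      rw [← hk]
      have h3 : Commute (φ x) c := by
        change φ x * c = c * φ x
        calc φ x * c = (φ x * c * (φ x)⁻¹) * φ x := by group
          _ = c * φ x := by rw [h1]
      exact ((h3.zpow_right k).eq).symm
    rw [hCC] at h2
    obtain ⟨k, hk⟩ := hCz _ h2
    have h4 : x * (g ^ k)⁻¹ ∈ Z := by
      rw [hZ, MonoidHom.mem_ker, map_mul, map_inv, map_zpow, hg, hk, mul_inv_cancel]
    have h5 : x * g * x⁻¹ = g := by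
      have h6 : x = (x * (g ^ k)⁻¹) * g ^ k := by group
      have h7 := hcomm _ h4
      set w := x * (g ^ k)⁻¹ with hw
      rw [h6]
      have h8 : w * g ^ k * g * (w * g ^ k)⁻¹ = w * g * w⁻¹ := by
        have : g ^ k * g * (g ^ k)⁻¹ = g := by
          rw [(Commute.zpow_self g k).eq, mul_inv_cancel_right]
        calc w * g ^ k * g * (w * g ^ k)⁻¹ = w * (g ^ k * g * (g ^ k)⁻¹) * w⁻¹ := by group
          _ = w * g * w⁻¹ := by rw [this]
      rw [h8, ← h7 g, mul_inv_cancel_right]
    rw [h5] at hx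
    have h9 : (z : E) = 1 := by
      have := hx
      exact mul_eq_left.mp this.symm
    exact Subtype.ext h9
  have h1 := hstar g
  have h2 : ∀ z : Z, L γ z * (classIndicator (g * (z : E)) g *
      (Nat.card (Subgroup.centralizer ({g * (z : E)} : Set E)) : ℂ)) =
      if z = 1 then (Nat.card (Subgroup.centralizer ({g} : Set E)) : ℂ) else 0 := by
    intro z
    unfold classIndicator
    by_cases hz : z = 1
    · rw [if_pos hz, hz]
      have h3 : L γ 1 = 1 := by
        change ((lam γ 1 : ℂˣ) : ℂ) = 1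
        rw [map_one, Units.val_one]
      rw [h3, Subgroup.coe_one, mul_one, if_pos (IsConj.refl g), one_mul, one_mul]
    · rw [if_neg hz, if_neg (fun h => hz (hconj z h)), zero_mul, mul_zero]
  rw [Finset.sum_congr rfl (fun z _ => h2 z), Finset.sum_ite_eq' Finset.univ (1 : Z),
    if_pos (Finset.mem_univ _)] at h1
  have h3 : ∀ χ : IrrCharacter E, (if L γ = L χ then
      (χ : E → ℂ) g * conj ((χ : E → ℂ) g) else 0) = 0 := by
    intro χ
    split_ifs with h
    · rw [huniq χ h, hvanish g hgZ, zero_mul]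
    · rfl
  rw [Finset.sum_congr rfl (fun χ _ => h3 χ), Finset.sum_const_zero, mul_zero] at h1
  have h4 : (Nat.card (Subgroup.centralizer ({g} : Set E)) : ℂ) ≠ 0 := by
    exact_mod_cast (Nat.card_pos (α := Subgroup.centralizer ({g} : Set E))).ne'
  exact h4 h1

end Cfsg.Agent.Lib.Helper6.FullyRam
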