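/-
helper6: the standard flag of `F^n`, the action of `GL_n(F)` on subspaces, the stabilizers of the
standard partial flags as standard parabolic subgroups, and the Steinberg function of `GL_n(F)` as
an alternating sum over partial flag types.
-/
import Mathlib
import Cfsg.Agent.Lib.Helper6.GLStB
import Cfsg.Agent.S2420

set_option autoImplicit false
set_option linter.unusedSectionVars false

namespace Cfsg.Agent.Lib.Helper6.GLFlag

open Matrix Equiv Cfsg Cfsg.Agent.Lib.Helper3.BN Cfsg.Agent.Lib.Helper6.BNSt
  Cfsg.Agent.Lib.Helper6.GLBN Cfsg.Agent.Lib.Helper6.GLSt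
open Module (finrank)

variable {n : ℕ} {F : Type*} [Field F]

/-- the action of an invertible matrix on subspaces -/
def act (g : GL (Fin n) F) (U : Submodule F (Fin n → F)) : Submodule F (Fin n → F) :=
  U.map (Matrix.toLin' (g : Matrix (Fin n) (Fin n) F))

theorem mem_act {g : GL (Fin n) F} {U : Submodule F (Fin n → F)} {v : Fin n → F} :
    v ∈ act g U ↔ ∃ u ∈ U, (g : Matrix (Fin n) (Fin n) F) *ᵥ u = v := by
  unfold act
  rw [Submodule.mem_map]
  simp only [Matrix.toLin'_apply]

theorem act_one (U : Submodule F (Fin n → F)) : act 1 U = U := by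
  unfold act
  rw [Units.val_one, Matrix.toLin'_one]
  exact Submodule.map_id U

theorem act_mul (g h : GL (Fin n) F) (U : Submodule F (Fin n → F)) :
    act (g * h) U = act g (act h U) := by
  unfold act
  rw [Units.val_mul, Matrix.toLin'_mul, Submodule.map_comp]

theorem act_mono (g : GL (Fin n) F) : Monotone (act g) := fun _ _ h => Submodule.map_mono h

theorem act_inv_act (g : GL (Fin n) F) (U : Submodule F (Fin n → F)) : act g⁻¹ (act g U) = U := by
  rw [← act_mul, inv_mul_cancel, act_one]

theorem act_act_inv (g : GL (Fin n) F) (U : Submodule F (Fin n → F)) : act g (act g⁻¹ U) = U := by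
  rw [← act_mul, mul_inv_cancel, act_one]

theorem finrank_act (g : GL (Fin n) F) (U : Submodule F (Fin n → F)) :
    finrank F (act g U) = finrank F U := by
  apply le_antisymm
  · exact Submodule.finrank_map_le _ _
  · have h := Submodule.finrank_map_le (Matrix.toLin' ((g⁻¹ : GL (Fin n) F) : Matrix (Fin n) (Fin n) F))
      (act g U)
    have h2 : Submodule.map (Matrix.toLin' ((g⁻¹ : GL (Fin n) F) : Matrix (Fin n) (Fin n) F))
      (act g U) = U := act_inv_act g U
    rw [h2] at h
    exact h

theorem act_eq_of_le {g : GL (Fin n) F} {U : Submodule F (Fin n → F)} (h : act g U ≤ U) :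
    act g U = U :=
  Submodule.eq_of_le_of_finrank_eq h (finrank_act g U)

theorem act_injective (g : GL (Fin n) F) : Function.Injective (act g) := by
  intro U U' h
  rw [← act_inv_act g U, h, act_inv_act]

/-- the standard flag: the vectors supported on the first `d` coordinates -/
def E (n : ℕ) (F : Type*) [Field F] (d : ℕ) : Submodule F (Fin n → F) where
  carrier := {v | ∀ i : Fin n, d ≤ i.val → v i = 0}
  add_mem' := by
    intro a b ha hb i hi
    rw [Pi.add_apply, ha i hi, hb i hi, add_zero]
  zero_mem' := fun _ _ => rfl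
  smul_mem' := by
    intro c a ha i hi
    rw [Pi.smul_apply, ha i hi, smul_zero]

theorem mem_E {d : ℕ} {v : Fin n → F} : v ∈ E n F d ↔ ∀ i : Fin n, d ≤ i.val → v i = 0 := Iff.rfl

theorem E_mono : Monotone (E n F) := by
  intro d d' h v hv i hi
  exact hv i (le_trans h hi)

theorem single_mem_E {d : ℕ} {j : Fin n} (hj : j.val < d) : (Pi.single j (1 : F)) ∈ E n F d := by
  intro i hi
  rw [Pi.single_apply, if_neg]
  rintro rfl
  omega

theorem finrank_E (d : ℕ) (hd : d ≤ n) : finrank F (E n F d) = d := by
  classical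
  let e : E n F d ≃ₗ[F] ({i : Fin n // i.val < d} → F) :=
    { toFun := fun v i => v.1 i.1
      map_add' := fun _ _ => rfl
      map_smul' := fun _ _ => rfl
      invFun := fun w => ⟨fun i => if h : i.val < d then w ⟨i, h⟩ else 0, by
        intro i hi
        show (if h : i.val < d then w ⟨i, h⟩ else 0) = 0
        rw [dif_neg (by omega)]⟩
      left_inv := by
        intro v
        apply Subtype.ext
        funext i
        by_cases h : i.val < d
        · simp [h]
        · simp only [h, dite_false]
          exact (v.2 i (by omega)).symm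
      right_inv := by
        intro w
        funext i
        simp [i.2] }
  rw [LinearEquiv.finrank_eq e, Module.finrank_fintype_fun_eq_card, Fintype.card_subtype,
    Cfsg.Agent.S2420.card_filter_lt d hd]

/-- the stabilizer of the standard partial flag of type `D` -/
def Stab (n : ℕ) (F : Type*) [Field F] (D : Finset ℕ) : Subgroup (GL (Fin n) F) where
  carrier := {g | ∀ d ∈ D, act g (E n F d) = E n F d}
  mul_mem' := by
    intro a b ha hb d hd
    rw [act_mul, hb d hd, ha d hd]
  one_mem' := fun d _ => act_one _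
  inv_mem' := by
    intro a ha d hd
    have h := ha d hd
    calc act a⁻¹ (E n F d) = act a⁻¹ (act a (E n F d)) := by rw [h]
      _ = E n F d := act_inv_act a _

theorem mem_Stab {D : Finset ℕ} {g : GL (Fin n) F} :
    g ∈ Stab n F D ↔ ∀ d ∈ D, act g (E n F d) = E n F d := Iff.rfl

theorem Bup_le_Stab (D : Finset ℕ) : Bup n F ≤ Stab n F D := by
  intro g hg d _
  apply act_eq_of_le
  intro v hv
  rw [mem_act] at hv
  obtain ⟨u, hu, rfl⟩ := hv
  intro i hi
  rw [Matrix.mulVec, dotProduct]
  apply Finset.sum_eq_zero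
  intro j _
  by_cases hji : j < i
  · rw [(mem_Bup.mp hg) i j hji, zero_mul]
  · rw [not_lt, Fin.le_def] at hji
    rw [hu j (by omega), mul_zero]

theorem mono_mulVec (σ : Perm (Fin n)) (c : Fin n → F) (v : Fin n → F) (i : Fin n) :
    (mono σ c *ᵥ v) i = c (σ.symm i) * v (σ.symm i) := by
  rw [Matrix.mulVec, dotProduct, Finset.sum_eq_single (σ.symm i)]
  · rw [mono_apply, if_pos (by simp)]
  · intro k _ hk
    rw [mono_apply, if_neg, zero_mul]
    intro h
    apply hk
    rw [h]; simp
  · intro h; exact absurd (Finset.mem_univ _) h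

theorem sG_mulVec (k k' : Fin n) (v : Fin n → F) (i : Fin n) :
    (((sG k k' : GL (Fin n) F) : Matrix (Fin n) (Fin n) F) *ᵥ v) i = v (swap k k' i) := by
  unfold sG
  rw [coe_monoGL, mono_mulVec]
  simp

theorem sG_mem_Stab_iff {k k' : Fin n} (hk : k'.val = k.val + 1) (D : Finset ℕ) :
    (sG k k' : GL (Fin n) F) ∈ Stab n F D ↔ k'.val ∉ D := by
  constructor
  · intro h hD
    have h1 := h _ hD
    have h2 : (Pi.single k (1 : F)) ∈ E n F k'.val := single_mem_E (by omega)
    have h3 : ((sG k k' : GL (Fin n) F) : Matrix (Fin n) (Fin n) F) *ᵥ (Pi.single k (1 : F)) ∈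
        E n F k'.val := by
      rw [← h1]
      exact mem_act.mpr ⟨_, h2, rfl⟩
    have h4 := h3 k' le_rfl
    rw [sG_mulVec, swap_apply_right, Pi.single_eq_same] at h4
    exact one_ne_zero h4
  · intro h d hd
    apply act_eq_of_le
    intro v hv
    rw [mem_act] at hv
    obtain ⟨u, hu, rfl⟩ := hv
    intro i hi
    rw [sG_mulVec]
    apply hu
    by_cases hik : i = k
    · rw [hik, swap_apply_left]
      rw [hik] at hi
      omega
    · by_cases hik' : i = k'
      · rw [hik', swap_apply_right]
        rw [hik'] at hi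
        have : d ≠ k'.val := fun e => h (e ▸ hd)
        omega
      · rw [swap_apply_of_ne_of_ne hik hik']
        exact hi

/-- the simple reflection number `d` (swapping the coordinates `d-1` and `d`) -/
def sOf (n : ℕ) (F : Type*) [Field F] (d : ℕ) : GL (Fin n) F :=
  if h : 0 < d ∧ d < n then sG ⟨d - 1, by omega⟩ ⟨d, h.2⟩ else 1

theorem sOf_eq {d : ℕ} (h : 0 < d ∧ d < n) : sOf n F d = sG ⟨d - 1, by omega⟩ ⟨d, h.2⟩ := by
  unfold sOf
  rw [dif_pos h]

theorem mem_Icc_iff {d : ℕ} : d ∈ Finset.Icc 1 (n - 1) ↔ 0 < d ∧ d < n := by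
  rw [Finset.mem_Icc]
  omega

theorem sOf_injOn : Set.InjOn (sOf n F) (Finset.Icc 1 (n - 1) : Finset ℕ) := by
  intro d hd d' hd' h
  rw [Finset.mem_coe, mem_Icc_iff] at hd hd'
  rw [sOf_eq hd, sOf_eq hd'] at h
  unfold sG at h
  have h1 := monoGL_perm_eq h
  have h2 := congrFun (congrArg DFunLike.coe h1) ⟨d - 1, by omega⟩
  rw [swap_apply_left] at h2
  by_cases e1 : (⟨d - 1, by omega⟩ : Fin n) = ⟨d' - 1, by omega⟩
  · have := congrArg Fin.val e1
    simp only at this
    omega
  · by_cases e2 : (⟨d - 1, by omega⟩ : Fin n) = ⟨d', hd'.2⟩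
    · rw [e2, swap_apply_right] at h2
      have h3 := congrArg Fin.val h2
      have h4 := congrArg Fin.val e2
      simp only at h3 h4
      omega
    · rw [swap_apply_of_ne_of_ne e1 e2] at h2
      have h3 := congrArg Fin.val h2
      simp only at h3
      omega

variable [Finite F]

theorem SfinGL_eq [DecidableEq (GL (Fin n) F)] :
    SfinGL n F = (Finset.Icc 1 (n - 1)).image (sOf n F) := by
  ext s
  rw [Finset.mem_image]
  have : s ∈ SfinGL n F ↔ s ∈ simpleSet n F := by
    unfold SfinGL
    rw [Set.Finite.mem_toFinset]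
  rw [this]
  constructor
  · rintro ⟨k, k', hk, rfl⟩
    have hk' := k'.isLt
    refine ⟨k'.val, mem_Icc_iff.mpr ⟨by omega, hk'⟩, ?_⟩
    rw [sOf_eq ⟨by omega, hk'⟩]
    congr 1
    apply Fin.ext
    simp only
    omega
  · rintro ⟨d, hd, rfl⟩
    rw [mem_Icc_iff] at hd
    rw [sOf_eq hd]
    exact ⟨_, _, by simp only; omega, rfl⟩

theorem parabolic_image_eq_Stab [DecidableEq (GL (Fin n) F)] (D : Finset ℕ) :
    (glBN n F).parabolic ((((Finset.Icc 1 (n - 1)) \ D).image (sOf n F) : Finset (GL (Fin n) F)) :
      Set (GL (Fin n) F)) = Stab n F D := by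
  rw [subgroup_eq_parabolic (glBN n F) (Stab n F D) (Bup_le_Stab D)]
  congr 1
  ext s
  simp only [Finset.coe_image, Set.mem_image, Finset.mem_coe, Finset.mem_sdiff, Set.mem_ofPred_eq]
  constructor
  · rintro ⟨d, ⟨hd, hdD⟩, rfl⟩
    rw [mem_Icc_iff] at hd
    rw [sOf_eq hd]
    refine ⟨?_, ?_⟩
    · rw [glBN_S]
      exact ⟨_, _, by simp only; omega, rfl⟩
    · rw [sG_mem_Stab_iff (by simp only; omega)]
      exact hdD
  · rintro ⟨hs, hsD⟩
    rw [glBN_S] at hs
    obtain ⟨k, k', hk, rfl⟩ := hs
    rw [sG_mem_Stab_iff hk] at hsD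
    have hk' := k'.isLt
    refine ⟨k'.val, ⟨mem_Icc_iff.mpr ⟨by omega, hk'⟩, hsD⟩, ?_⟩
    rw [sOf_eq ⟨by omega, hk'⟩]
    congr 1
    apply Fin.ext
    simp only
    omega

/-- the Steinberg function as an alternating sum over the types of partial flags -/
theorem stGL_eq_sum_Stab (x : GL (Fin n) F) :
    stGL n F x = ∑ D ∈ (Finset.Icc 1 (n - 1)).powerset,
      (-1 : ℂ) ^ ((n - 1) - D.card) * fixedPointCharacter (Stab n F D) x := by
  classical
  unfold stGL stFun
  rw [SfinGL_eq]
  set I := Finset.Icc 1 (n - 1) with hI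
  set h : Finset (GL (Fin n) F) → ℂ := fun J =>
    (-1 : ℂ) ^ J.card * fixedPointCharacter ((glBN n F).parabolic (J : Set (GL (Fin n) F))) x with hh
  have h1 : ∑ J ∈ (I.image (sOf n F)).powerset, h J = ∑ T ∈ I.powerset, h (T.image (sOf n F)) := by
    symm
    apply Finset.sum_bij (fun T _ => T.image (sOf n F))
    · intro T hT
      rw [Finset.mem_powerset] at hT ⊢
      exact Finset.image_subset_image hT
    · intro T hT T' hT' e
      rw [Finset.mem_powerset] at hT hT'
      ext d
      constructor
      · intro hd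
        have : sOf n F d ∈ T'.image (sOf n F) := by
          rw [← e]; exact Finset.mem_image_of_mem _ hd
        rw [Finset.mem_image] at this
        obtain ⟨d', hd', e'⟩ := this
        have := sOf_injOn (F := F) (Finset.mem_coe.mpr (hT' hd')) (Finset.mem_coe.mpr (hT hd)) e'
        rw [← this]; exact hd'
      · intro hd
        have : sOf n F d ∈ T.image (sOf n F) := by
          rw [e]; exact Finset.mem_image_of_mem _ hd
        rw [Finset.mem_image] at this
        obtain ⟨d', hd', e'⟩ := this
        have := sOf_injOn (F := F) (Finset.mem_coe.mpr (hT hd')) (Finset.mem_coe.mpr (hT' hd)) e'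
        rw [← this]; exact hd'
    · intro J hJ
      rw [Finset.mem_powerset] at hJ
      refine ⟨I.filter (fun d => sOf n F d ∈ J), ?_, ?_⟩
      · rw [Finset.mem_powerset]; exact Finset.filter_subset _ _
      · ext s
        rw [Finset.mem_image]
        constructor
        · rintro ⟨d, hd, rfl⟩
          exact (Finset.mem_filter.mp hd).2
        · intro hs
          have := hJ hs
          rw [Finset.mem_image] at this
          obtain ⟨d, hd, rfl⟩ := this
          exact ⟨d, Finset.mem_filter.mpr ⟨hd, hs⟩, rfl⟩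
    · intro T _; rfl
  have h2 : ∑ T ∈ I.powerset, h (T.image (sOf n F)) =
      ∑ D ∈ I.powerset, h ((I \ D).image (sOf n F)) := by
    apply Finset.sum_bij' (fun T _ => I \ T) (fun D _ => I \ D)
    · intro T _
      rw [Finset.mem_powerset]; exact Finset.sdiff_subset
    · intro D _
      rw [Finset.mem_powerset]; exact Finset.sdiff_subset
    · intro T hT
      rw [Finset.mem_powerset] at hT
      exact Finset.sdiff_sdiff_eq_self hT
    · intro D hD
      rw [Finset.mem_powerset] at hD
      exact Finset.sdiff_sdiff_eq_self hD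
    · intro T hT
      rw [Finset.mem_powerset] at hT
      rw [Finset.sdiff_sdiff_eq_self hT]
  have h0 : ∑ J ∈ (I.image (sOf n F)).powerset, (-1 : ℂ) ^ J.card *
      fixedPointCharacter ((glBN n F).parabolic (J : Set (GL (Fin n) F))) x =
      ∑ J ∈ (I.image (sOf n F)).powerset, h J := rfl
  rw [h0, h1, h2]
  apply Finset.sum_congr rfl
  intro D hD
  rw [Finset.mem_powerset] at hD
  rw [hh]
  simp only
  rw [parabolic_image_eq_Stab, Finset.card_image_of_injOn, Finset.card_sdiff_of_subset hD, hI,
    Nat.card_Icc]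
  · congr 2
  · exact sOf_injOn.mono (Finset.coe_subset.mpr Finset.sdiff_subset)

end Cfsg.Agent.Lib.Helper6.GLFlag
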