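/-
helper6: `GL_n(F)` is transitive on the partial flags of a given type; the fixed points of an element
`x` on the cosets of the stabilizer of the standard partial flag of type `D` are in bijection with
the `x`-invariant partial flags of type `D`.
-/
import Mathlib
import Cfsg.Agent.Lib.Helper6.GLFlagA

set_option autoImplicit false
set_option linter.unusedSectionVars false

namespace Cfsg.Agent.Lib.Helper6.GLFlag

open Matrix Equiv Cfsg Cfsg.Agent.Lib.Helper6.GLBN
open Module (finrank)

/-- the infimum of a finite chain is the top element or a member of the chain -/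
theorem inf_chain_mem {α : Type*} [SemilatticeInf α] [OrderTop α] [DecidableEq α] (T : Finset α)
    (hT : IsChain (· ≤ ·) (T : Set α)) : T.inf id = ⊤ ∨ T.inf id ∈ T := by
  induction T using Finset.induction_on with
  | empty => left; exact Finset.inf_empty
  | insert a T _ ih =>
    have hT' : IsChain (· ≤ ·) (T : Set α) := by
      intro x hx y hy hxy
      exact hT (by simp [Finset.mem_coe.mp hx]) (by simp [Finset.mem_coe.mp hy]) hxy
    rw [Finset.inf_insert, id]
    right
    rcases ih hT' with h | h
    · rw [h, inf_top_eq]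
      exact Finset.mem_insert_self _ _
    · have ha : a ∈ ((insert a T : Finset α) : Set α) := by simp
      have hm : T.inf id ∈ ((insert a T : Finset α) : Set α) := by
        rw [Finset.mem_coe]; exact Finset.mem_insert_of_mem h
      rcases hT.total ha hm with h1 | h1
      · rw [inf_eq_left.mpr h1]; exact Finset.mem_insert_self _ _
      · rw [inf_eq_right.mpr h1]; exact Finset.mem_insert_of_mem h

variable {n : ℕ} {F : Type*} [Field F]

/-- a greedy choice of linearly independent vectors in an increasing family of subspaces -/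
theorem exists_greedy (W : ℕ → Submodule F (Fin n → F)) (hW : Monotone W)
    (hdim : ∀ i, i < n → i < finrank F (W i)) :
    ∀ k, k ≤ n → ∃ b : Fin k → (Fin n → F), LinearIndependent F b ∧ ∀ i : Fin k, b i ∈ W i.val := by
  intro k
  induction k with
  | zero =>
    intro _
    exact ⟨fun i => i.elim0, linearIndependent_empty_type, fun i => i.elim0⟩
  | succ k ih =>
    intro hk
    obtain ⟨b, hb, hbW⟩ := ih (by omega)
    have h1 : finrank F (Submodule.span F (Set.range b)) = k := by
      rw [finrank_span_eq_card hb, Fintype.card_fin]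
    have h2 : ¬ (W k ≤ Submodule.span F (Set.range b)) := by
      intro hle
      have := Submodule.finrank_mono hle
      have := hdim k (by omega)
      omega
    obtain ⟨x, hxW, hx⟩ := SetLike.not_le_iff_exists.mp h2
    refine ⟨Fin.snoc b x, hb.finSnoc hx, ?_⟩
    intro i
    refine Fin.lastCases ?_ ?_ i
    · rw [Fin.snoc_last]
      exact hxW
    · intro j
      rw [Fin.snoc_castSucc]
      exact hbW j

/-- `GL_n(F)` is transitive on partial flags: every finite chain of subspaces is the image of a
part of the standard flag -/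
theorem exists_adapted (C : Finset (Submodule F (Fin n → F)))
    (hC : IsChain (· ≤ ·) (C : Set (Submodule F (Fin n → F)))) :
    ∃ g : GL (Fin n) F, ∀ U ∈ C, act g (E n F (finrank F U)) = U := by
  classical
  set W : ℕ → Submodule F (Fin n → F) := fun i =>
    (C.filter (fun U : Submodule F (Fin n → F) => i < finrank F U)).inf id with hWdef
  have hWmono : Monotone W := by
    intro i j hij
    apply Finset.inf_mono
    intro U hU
    rw [Finset.mem_filter] at hU ⊢
    exact ⟨hU.1, by omega⟩
  have hWle : ∀ U ∈ C, ∀ i, i < finrank F U → W i ≤ U := by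
    intro U hU i hi
    exact Finset.inf_le (f := id) (Finset.mem_filter.mpr ⟨hU, hi⟩)
  have hWdim : ∀ i, i < n → i < finrank F (W i) := by
    intro i hi
    have hch : IsChain (· ≤ ·) ((C.filter (fun U : Submodule F (Fin n → F) => i < finrank F U) : Finset _) :
        Set (Submodule F (Fin n → F))) := by
      intro x hx y hy hxy
      exact hC (Finset.mem_coe.mpr (Finset.mem_filter.mp (Finset.mem_coe.mp hx)).1)
        (Finset.mem_coe.mpr (Finset.mem_filter.mp (Finset.mem_coe.mp hy)).1) hxy
    rcases inf_chain_mem _ hch with h | h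
    · have : W i = ⊤ := h
      rw [this, finrank_top, Module.finrank_fin_fun]
      exact hi
    · exact (Finset.mem_filter.mp h).2
  obtain ⟨b, hb, hbW⟩ := exists_greedy W hWmono hWdim n le_rfl
  have hunit : IsUnit (Matrix.of (fun i j => b j i) : Matrix (Fin n) (Fin n) F) := by
    rw [← Matrix.linearIndependent_cols_iff_isUnit]
    exact hb
  obtain ⟨g, hg⟩ := hunit
  refine ⟨g, ?_⟩
  intro U hU
  have hdn : finrank F U ≤ n := by
    have := Submodule.finrank_le U
    rwa [Module.finrank_fin_fun] at this
  apply Submodule.eq_of_le_of_finrank_eq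
  · intro v hv
    rw [mem_act] at hv
    obtain ⟨u, hu, rfl⟩ := hv
    rw [hg, Matrix.mulVec_eq_sum]
    apply Submodule.sum_mem
    intro j _
    by_cases hj : j.val < finrank F U
    · have h1 : (Matrix.of (fun i j => b j i) : Matrix (Fin n) (Fin n) F)ᵀ j = b j := by
        funext i
        rfl
      rw [h1]
      have h2 : b j ∈ U := hWle U hU j.val hj (hbW j)
      rw [op_smul_eq_smul]
      exact Submodule.smul_mem _ _ h2
    · rw [hu j (by omega)]
      simp
  · rw [finrank_act, finrank_E _ hdn]

section theta

variable [DecidableEq (Submodule F (Fin n → F))]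

/-- the partial flag `g · (standard flag of type D)` as a finset of subspaces -/
def theta (g : GL (Fin n) F) (D : Finset ℕ) : Finset (Submodule F (Fin n → F)) :=
  D.image (fun d => act g (E n F d))

theorem theta_chain (g : GL (Fin n) F) (D : Finset ℕ) :
    IsChain (· ≤ ·) ((theta g D : Finset _) : Set (Submodule F (Fin n → F))) := by
  intro U hU U' hU' _
  rw [Finset.mem_coe] at hU hU'
  unfold theta at hU hU'
  rw [Finset.mem_image] at hU hU'
  obtain ⟨d, _, rfl⟩ := hU
  obtain ⟨d', _, rfl⟩ := hU'
  rcases le_total d d' with h | h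
  · left; exact act_mono g (E_mono h)
  · right; exact act_mono g (E_mono h)

theorem theta_dims (g : GL (Fin n) F) {D : Finset ℕ} (hD : ∀ d ∈ D, d ≤ n) :
    (theta g D).image (fun U : Submodule F (Fin n → F) => finrank F U) = D := by
  unfold theta
  rw [Finset.image_image]
  conv_rhs => rw [← Finset.image_id (s := D)]
  apply Finset.image_congr
  intro d hd
  simp only [Function.comp_apply, id]
  rw [finrank_act, finrank_E _ (hD d hd)]

theorem theta_mul_Stab (g : GL (Fin n) F) {D : Finset ℕ} {s : GL (Fin n) F} (hs : s ∈ Stab n F D) :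
    theta (g * s) D = theta g D := by
  unfold theta
  apply Finset.image_congr
  intro d hd
  simp only
  rw [act_mul, hs d hd]

theorem theta_inj {g g' : GL (Fin n) F} {D : Finset ℕ} (hD : ∀ d ∈ D, d ≤ n)
    (h : theta g D = theta g' D) : g⁻¹ * g' ∈ Stab n F D := by
  intro d hd
  have h1 : act g (E n F d) ∈ theta g' D := by
    rw [← h]
    exact Finset.mem_image_of_mem _ hd
  unfold theta at h1
  rw [Finset.mem_image] at h1
  obtain ⟨d', hd', e⟩ := h1
  have h2 : finrank F (act g' (E n F d')) = finrank F (act g (E n F d)) :=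
    congrArg (fun U : Submodule F (Fin n → F) => finrank F U) e
  rw [finrank_act, finrank_act, finrank_E _ (hD d hd), finrank_E _ (hD d' hd')] at h2
  rw [h2] at e
  rw [act_mul, e, act_inv_act]

theorem theta_fixed_iff (x g : GL (Fin n) F) (D : Finset ℕ) :
    g⁻¹ * x * g ∈ Stab n F D ↔ ∀ U ∈ theta g D, act x U = U := by
  constructor
  · intro h U hU
    unfold theta at hU
    rw [Finset.mem_image] at hU
    obtain ⟨d, hd, rfl⟩ := hU
    have h1 := h d hd
    rw [act_mul, act_mul] at h1
    have h2 := congrArg (act g) h1
    rw [act_act_inv] at h2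
    exact h2
  · intro h d hd
    have h1 := h _ (Finset.mem_image_of_mem _ hd)
    rw [act_mul, act_mul, h1, act_inv_act]

end theta

/-- the `x`-invariant partial flags of type `D` -/
def flagsOf (x : GL (Fin n) F) (D : Finset ℕ) : Set (Finset (Submodule F (Fin n → F))) :=
  {C | IsChain (· ≤ ·) (C : Set (Submodule F (Fin n → F))) ∧
    C.image (fun U : Submodule F (Fin n → F) => finrank F U) = D ∧ ∀ U ∈ C, act x U = U}

theorem fixed_iff (x g : GL (Fin n) F) (D : Finset ℕ) :
    x • (g : GL (Fin n) F ⧸ Stab n F D) = (g : GL (Fin n) F ⧸ Stab n F D) ↔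
      g⁻¹ * x * g ∈ Stab n F D := by
  rw [MulAction.Quotient.smul_mk, QuotientGroup.eq, smul_eq_mul, ← Subgroup.inv_mem_iff]
  have : ((x * g)⁻¹ * g)⁻¹ = g⁻¹ * x * g := by group
  rw [this]

/-- the number of fixed points of `x` on the cosets of the stabilizer of the standard flag of type
`D` is the number of `x`-invariant flags of type `D` -/
theorem card_fixedBy_Stab (x : GL (Fin n) F) {D : Finset ℕ} (hD : ∀ d ∈ D, d ≤ n) :
    Nat.card (MulAction.fixedBy (GL (Fin n) F ⧸ Stab n F D) x) = Nat.card (flagsOf x D) := by
  classical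
  have hfix : ∀ q : MulAction.fixedBy (GL (Fin n) F ⧸ Stab n F D) x,
      (Quotient.out q.1)⁻¹ * x * (Quotient.out q.1) ∈ Stab n F D := by
    intro q
    rw [← fixed_iff, QuotientGroup.out_eq']
    exact q.2
  let Θ : MulAction.fixedBy (GL (Fin n) F ⧸ Stab n F D) x → flagsOf x D := fun q =>
    ⟨theta (Quotient.out q.1) D, theta_chain _ _, theta_dims _ hD,
      (theta_fixed_iff x _ D).mp (hfix q)⟩
  apply Nat.card_congr
  apply Equiv.ofBijective Θ
  constructor
  · intro q q' h
    have h1 : theta (Quotient.out q.1) D = theta (Quotient.out q'.1) D := congrArg Subtype.val h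
    have h2 := theta_inj hD h1
    apply Subtype.ext
    rw [← QuotientGroup.out_eq' q.1, ← QuotientGroup.out_eq' q'.1, QuotientGroup.eq]
    exact h2
  · rintro ⟨C, hC1, hC2, hC3⟩
    obtain ⟨g, hg⟩ := exists_adapted C hC1
    have hth : theta g D = C := by
      unfold theta
      rw [← hC2, Finset.image_image]
      conv_rhs => rw [← Finset.image_id (s := C)]
      apply Finset.image_congr
      intro U hU
      simp only [Function.comp_apply, id]
      exact hg U hU
    have hgfix : g⁻¹ * x * g ∈ Stab n F D := by
      rw [theta_fixed_iff, hth]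
      exact hC3
    refine ⟨⟨(g : GL (Fin n) F ⧸ Stab n F D), (fixed_iff x g D).mpr hgfix⟩, ?_⟩
    apply Subtype.ext
    show theta (Quotient.out (g : GL (Fin n) F ⧸ Stab n F D)) D = C
    obtain ⟨s, hs⟩ := QuotientGroup.mk_out_eq_mul (Stab n F D) g
    rw [hs, theta_mul_Stab g s.2, hth]

end Cfsg.Agent.Lib.Helper6.GLFlag
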