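/-
helper6: the lattice of invariant subspaces of an endomorphism of a finite vector space: classical
instances (as definitions, to be used as local instances) and modularity.
-/
import Mathlib

set_option autoImplicit false

namespace Cfsg.Agent.Lib.Helper6.Invt

variable {F V : Type*} [Field F] [AddCommGroup V] [Module F V]

/-- classical decidable equality on the lattice of invariant subspaces -/
noncomputable def invtDecEq (f : Module.End F V) : DecidableEq (f.invtSubmodule) :=
  Classical.decEq _

/-- the lattice of invariant subspaces of a finite vector space is finite -/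
noncomputable def invtFintype [Finite V] (f : Module.End F V) : Fintype (f.invtSubmodule) :=
  Fintype.ofFinite _

/-- the lattice of invariant subspaces of a finite vector space is locally finite -/
noncomputable def invtLFO [Finite V] (f : Module.End F V) : LocallyFiniteOrder (f.invtSubmodule) :=
  @Fintype.toLocallyFiniteOrder _ _ (invtFintype f) (Classical.decRel _) (Classical.decRel _)

theorem invt_isModular (f : Module.End F V) : IsModularLattice (f.invtSubmodule) where
  sup_inf_le_assoc_of_le := by
    intro x y z hxz
    have h1 : ((x : Submodule F V) ⊔ y) ⊓ z ≤ x ⊔ y ⊓ z :=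
      IsModularLattice.sup_inf_le_assoc_of_le (y : Submodule F V) (show (x : Submodule F V) ≤ z from hxz)
    exact h1

theorem coe_le_coe {f : Module.End F V} {a b : f.invtSubmodule} :
    (a : Submodule F V) ≤ b ↔ a ≤ b := Iff.rfl

theorem coe_sup {f : Module.End F V} (a b : f.invtSubmodule) :
    ((a ⊔ b : f.invtSubmodule) : Submodule F V) = (a : Submodule F V) ⊔ b := rfl

theorem coe_inf {f : Module.End F V} (a b : f.invtSubmodule) :
    ((a ⊓ b : f.invtSubmodule) : Submodule F V) = (a : Submodule F V) ⊓ b := rfl

theorem coe_bot {f : Module.End F V} : ((⊥ : f.invtSubmodule) : Submodule F V) = ⊥ := rfl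

theorem coe_top {f : Module.End F V} : ((⊤ : f.invtSubmodule) : Submodule F V) = ⊤ := rfl

theorem eq_bot_iff_coe {f : Module.End F V} {a : f.invtSubmodule} :
    a = ⊥ ↔ (a : Submodule F V) = ⊥ := by
  constructor
  · intro h; rw [h]; rfl
  · intro h; exact Subtype.ext h

theorem eq_top_iff_coe {f : Module.End F V} {a : f.invtSubmodule} :
    a = ⊤ ↔ (a : Submodule F V) = ⊤ := by
  constructor
  · intro h; rw [h]; rfl
  · intro h; exact Subtype.ext h

end Cfsg.Agent.Lib.Helper6.Invt
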