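/-
helper6: Moebius function lemmas (on top of Mathlib's incidence algebra): invariance under
isomorphisms of intervals, the dual form of Weisner's theorem, and Philip Hall's theorem
(alternating count of chains).
-/
import Mathlib

set_option autoImplicit false

namespace Cfsg.Agent.Lib.Helper6.Mob

open Finset IncidenceAlgebra

section Iso

variable {α β : Type*} [PartialOrder α] [LocallyFiniteOrder α] [DecidableEq α]
  [PartialOrder β] [LocallyFiniteOrder β] [DecidableEq β]

/-- the Moebius function only depends on the isomorphism type of the interval -/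
theorem mu_eq_of_iso {a b : α} {a' b' : β} (φ : α → β)
    (h1 : ∀ x ∈ Icc a b, φ x ∈ Icc a' b')
    (h2 : ∀ x ∈ Icc a b, ∀ y ∈ Icc a b, (φ x ≤ φ y ↔ x ≤ y))
    (h3 : ∀ y ∈ Icc a' b', ∃ x ∈ Icc a b, φ x = y) (hab : a ≤ b) :
    mu ℤ a b = mu ℤ a' b' := by
  have ha : a ∈ Icc a b := mem_Icc.mpr ⟨le_refl _, hab⟩
  have hb : b ∈ Icc a b := mem_Icc.mpr ⟨hab, le_refl _⟩
  have ha'b' : a' ≤ b' := by
    have := mem_Icc.mp (h1 a ha)
    exact this.1.trans this.2
  -- `φ a = a'`
  have hφa : φ a = a' := by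
    obtain ⟨x, hx, hxa⟩ := h3 a' (mem_Icc.mpr ⟨le_refl _, ha'b'⟩)
    have h4 : φ x ≤ φ a := by rw [hxa]; exact (mem_Icc.mp (h1 a ha)).1
    have h5 : x ≤ a := (h2 x hx a ha).mp h4
    have h6 : x = a := le_antisymm h5 (mem_Icc.mp hx).1
    rw [← h6, hxa]
  have hφb : φ b = b' := by
    obtain ⟨x, hx, hxb⟩ := h3 b' (mem_Icc.mpr ⟨ha'b', le_refl _⟩)
    have h4 : φ b ≤ φ x := by rw [hxb]; exact (mem_Icc.mp (h1 b hb)).2
    have h5 : b ≤ x := (h2 b hb x hx).mp h4
    have h6 : x = b := le_antisymm (mem_Icc.mp hx).2 h5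
    rw [← h6, hxb]
  have hinj : ∀ x ∈ Icc a b, ∀ y ∈ Icc a b, φ x = φ y → x = y := by
    intro x hx y hy hxy
    exact le_antisymm ((h2 x hx y hy).mp hxy.le) ((h2 y hy x hx).mp hxy.ge)
  have key : ∀ k : ℕ, ∀ x ∈ Icc a b, (Icc a x).card = k → mu ℤ a x = mu ℤ a' (φ x) := by
    intro k
    induction k using Nat.strong_induction_on with
    | _ k ih =>
      intro x hx hk
      by_cases hax : a = x
      · subst hax
        rw [hφa, mu_self, mu_self]
      · have hax' : a' ≠ φ x := by
          intro h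
          rw [← hφa] at h
          exact hax (hinj a ha x hx h)
        rw [mu_eq_neg_sum_Ico_of_ne hax, mu_eq_neg_sum_Ico_of_ne hax']
        congr 1
        have hxI := mem_Icc.mp hx
        apply Finset.sum_bij (fun y _ => φ y)
        · intro y hy
          have hy' := mem_Ico.mp hy
          have hyI : y ∈ Icc a b := mem_Icc.mpr ⟨hy'.1, hy'.2.le.trans hxI.2⟩
          rw [mem_Ico]
          refine ⟨(mem_Icc.mp (h1 y hyI)).1, lt_of_le_of_ne ((h2 y hyI x hx).mpr hy'.2.le) ?_⟩
          intro h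
          exact hy'.2.ne (hinj y hyI x hx h)
        · intro y hy z hz hyz
          have hy' := mem_Ico.mp hy
          have hz' := mem_Ico.mp hz
          exact hinj y (mem_Icc.mpr ⟨hy'.1, hy'.2.le.trans hxI.2⟩) z
            (mem_Icc.mpr ⟨hz'.1, hz'.2.le.trans hxI.2⟩) hyz
        · intro y' hy'
          have hy'' := mem_Ico.mp hy'
          have hφx := mem_Icc.mp (h1 x hx)
          obtain ⟨y, hy, rfl⟩ := h3 y' (mem_Icc.mpr ⟨hy''.1, hy''.2.le.trans hφx.2⟩)
          refine ⟨y, ?_, rfl⟩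
          rw [mem_Ico]
          refine ⟨(mem_Icc.mp hy).1, lt_of_le_of_ne ((h2 y hy x hx).mp hy''.2.le) ?_⟩
          rintro rfl
          exact lt_irrefl _ hy''.2
        · intro y hy
          have hy' := mem_Ico.mp hy
          have hyI : y ∈ Icc a b := mem_Icc.mpr ⟨hy'.1, hy'.2.le.trans hxI.2⟩
          apply ih (Icc a y).card _ y hyI rfl
          rw [← hk]
          exact Finset.card_lt_card (Icc_ssubset_Icc_right hxI.1 (le_refl _) hy'.2)
  rw [key _ b hb rfl, hφb]

end Iso

section Weisner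

variable {α : Type*} [Lattice α] [LocallyFiniteOrder α] [DecidableEq α]

/-- the dual form of Weisner's theorem, in an interval -/
theorem weisner_dual {a H U : α} (haH : a ≤ H) (hHU : H < U) :
    ∑ z ∈ (Icc a U).filter (fun z => z ⊓ H = a), mu ℤ z U = 0 := by
  classical
  -- `g w` is the sum over the fibre of `z ↦ z ⊓ H`
  set g : α → ℤ := fun w => ∑ z ∈ (Icc a U).filter (fun z => z ⊓ H = w), mu ℤ z U with hg
  have hsum : ∀ w ∈ Icc a H, ∑ w' ∈ Icc w H, g w' = 0 := by
    intro w hw
    have hw' := mem_Icc.mp hw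
    have h1 : ∑ w' ∈ Icc w H, g w' =
        ∑ z ∈ (Icc a U).filter (fun z => w ≤ z), mu ℤ z U := by
      have hmaps : ∀ z ∈ (Icc a U).filter (fun z => w ≤ z), z ⊓ H ∈ Icc w H := by
        intro z hz
        rw [mem_filter] at hz
        rw [mem_Icc]
        exact ⟨le_inf hz.2 hw'.2, inf_le_right⟩
      rw [← Finset.sum_fiberwise_of_maps_to hmaps]
      apply Finset.sum_congr rfl
      intro w' hw'2
      have hw'3 := mem_Icc.mp hw'2
      rw [hg]
      apply Finset.sum_congr
      · ext z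
        simp only [mem_filter]
        constructor
        · rintro ⟨h1, h2⟩
          refine ⟨⟨h1, ?_⟩, h2⟩
          rw [← h2] at hw'3
          exact hw'3.1.trans inf_le_left
        · rintro ⟨⟨h1, _⟩, h2⟩
          exact ⟨h1, h2⟩
      · intro _ _; rfl
    have h2 : (Icc a U).filter (fun z => w ≤ z) = Icc w U := by
      ext z
      simp only [mem_filter, mem_Icc]
      constructor
      · rintro ⟨⟨_, h2⟩, h3⟩; exact ⟨h3, h2⟩
      · rintro ⟨h1, h2⟩; exact ⟨⟨hw'.1.trans h1, h2⟩, h1⟩
    rw [h1, h2, sum_Icc_mu_left, if_neg]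
    rintro rfl
    exact lt_irrefl _ (lt_of_lt_of_le hHU hw'.2)
  have key : ∀ k : ℕ, ∀ w ∈ Icc a H, (Icc w H).card = k → g w = 0 := by
    intro k
    induction k using Nat.strong_induction_on with
    | _ k ih =>
      intro w hw hk
      have hw' := mem_Icc.mp hw
      have h1 := hsum w hw
      rw [Icc_eq_cons_Ioc hw'.2, Finset.sum_cons] at h1
      have h2 : ∑ w' ∈ Ioc w H, g w' = 0 := by
        apply Finset.sum_eq_zero
        intro w' hw'2
        have hw'3 := mem_Ioc.mp hw'2
        apply ih (Icc w' H).card _ w' (mem_Icc.mpr ⟨hw'.1.trans hw'3.1.le, hw'3.2⟩) rfl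
        rw [← hk]
        exact Finset.card_lt_card (Icc_ssubset_Icc_left hw'.2 hw'3.1 (le_refl _))
      rw [h2, add_zero] at h1
      exact h1
  exact key _ a (mem_Icc.mpr ⟨le_refl _, haH⟩) rfl

end Weisner

end Cfsg.Agent.Lib.Helper6.Mob
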