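/-
helper6: Philip Hall's theorem: the alternating count of the chains in an open interval is minus
the Moebius function.
-/
import Mathlib
import Cfsg.Agent.Lib.Helper6.MobA

set_option autoImplicit false

namespace Cfsg.Agent.Lib.Helper6.Mob

open Finset IncidenceAlgebra

variable {α : Type*} [PartialOrder α] [LocallyFiniteOrder α] [DecidableEq α]

/-- the chains inside the open interval `(a, b)` -/
noncomputable def chains (a b : α) : Finset (Finset α) := by
  classical
  exact (Ioo a b).powerset.filter (fun C => IsChain (· ≤ ·) (C : Set α))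

theorem mem_chains {a b : α} {C : Finset α} :
    C ∈ chains a b ↔ C ⊆ Ioo a b ∧ IsChain (· ≤ ·) (C : Set α) := by
  classical
  unfold chains
  rw [mem_filter, mem_powerset]

/-- a non-empty finite chain has a greatest element -/
theorem exists_top {C : Finset α} (hne : C.Nonempty) (hC : IsChain (· ≤ ·) (C : Set α)) :
    ∃ m ∈ C, ∀ x ∈ C, x ≤ m := by
  obtain ⟨m, hm, hmax⟩ := C.exists_maximal hne
  refine ⟨m, hm, ?_⟩
  intro x hx
  by_cases hxm : x = m
  · rw [hxm]
  · rcases hC (Finset.mem_coe.mpr hx) (Finset.mem_coe.mpr hm) hxm with h | h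
    · exact h
    · exact hmax hx h

/-- the alternating count of chains -/
noncomputable def chainSum (a b : α) : ℤ := ∑ C ∈ chains a b, (-1 : ℤ) ^ C.card

theorem chainSum_rec {a b : α} (hab : a < b) :
    chainSum a b = 1 - ∑ m ∈ Ioo a b, chainSum a m := by
  classical
  unfold chainSum
  -- split off the empty chain
  have hempty : (∅ : Finset α) ∈ chains a b := by
    rw [mem_chains]
    exact ⟨Finset.empty_subset _, by simp⟩
  rw [← Finset.add_sum_erase _ _ hempty, Finset.card_empty, pow_zero]
  congr 1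
  -- distribute the non-empty chains by their top element
  have h1 : ∀ C ∈ (chains a b).erase ∅, (-1 : ℤ) ^ C.card =
      ∑ m ∈ Ioo a b, if (m ∈ C ∧ ∀ x ∈ C, x ≤ m) then (-1 : ℤ) ^ C.card else 0 := by
    intro C hC
    rw [mem_erase, mem_chains] at hC
    obtain ⟨m, hm, hmax⟩ := exists_top (Finset.nonempty_iff_ne_empty.mpr hC.1) hC.2.2
    rw [Finset.sum_eq_single m]
    · rw [if_pos ⟨hm, hmax⟩]
    · intro m' _ hne
      rw [if_neg]
      rintro ⟨hm', hmax'⟩
      exact hne (le_antisymm (hmax m' hm') (hmax' m hm))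
    · intro h
      exact absurd (hC.2.1 hm) h
  rw [Finset.sum_congr rfl h1, Finset.sum_comm, ← Finset.sum_neg_distrib]
  apply Finset.sum_congr rfl
  intro m hm
  have hm' := mem_Ioo.mp hm
  rw [← Finset.sum_filter, ← Finset.sum_neg_distrib]
  symm
  apply Finset.sum_bij (fun C' _ => insert m C')
  · intro C' hC'
    rw [mem_chains] at hC'
    rw [mem_filter, mem_erase, mem_chains]
    have hmC' : m ∉ C' := by
      intro h
      exact lt_irrefl _ (mem_Ioo.mp (hC'.1 h)).2
    refine ⟨⟨Finset.insert_ne_empty _ _, ?_, ?_⟩, Finset.mem_insert_self _ _, ?_⟩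
    · intro x hx
      rw [mem_insert] at hx
      rcases hx with rfl | hx
      · exact hm
      · have := mem_Ioo.mp (hC'.1 hx)
        exact mem_Ioo.mpr ⟨this.1, this.2.trans hm'.2⟩
    · rw [Finset.coe_insert]
      apply hC'.2.insert
      intro x hx _
      right
      exact (mem_Ioo.mp (hC'.1 (Finset.mem_coe.mp hx))).2.le
    · intro x hx
      rw [mem_insert] at hx
      rcases hx with rfl | hx
      · exact le_refl _
      · exact (mem_Ioo.mp (hC'.1 hx)).2.le
  · intro C₁ hC₁ C₂ hC₂ h
    rw [mem_chains] at hC₁ hC₂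
    have h1 : m ∉ C₁ := fun h => lt_irrefl _ (mem_Ioo.mp (hC₁.1 h)).2
    have h2 : m ∉ C₂ := fun h => lt_irrefl _ (mem_Ioo.mp (hC₂.1 h)).2
    rw [← Finset.erase_insert h1, ← Finset.erase_insert h2, h]
  · intro C hC
    rw [mem_filter, mem_erase, mem_chains] at hC
    obtain ⟨⟨_, hsub, hchain⟩, hmC, hmax⟩ := hC
    refine ⟨C.erase m, ?_, Finset.insert_erase hmC⟩
    rw [mem_chains]
    constructor
    · intro x hx
      rw [mem_erase] at hx
      have := mem_Ioo.mp (hsub hx.2)
      exact mem_Ioo.mpr ⟨this.1, lt_of_le_of_ne (hmax x hx.2) hx.1⟩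
    · intro x hx y hy hxy
      exact hchain (Finset.mem_coe.mpr (Finset.mem_of_mem_erase (Finset.mem_coe.mp hx)))
        (Finset.mem_coe.mpr (Finset.mem_of_mem_erase (Finset.mem_coe.mp hy))) hxy
  · intro C' hC'
    rw [mem_chains] at hC'
    have hmC' : m ∉ C' := by
      intro h
      exact lt_irrefl _ (mem_Ioo.mp (hC'.1 h)).2
    rw [Finset.card_insert_of_notMem hmC', pow_succ]
    ring

/-- Philip Hall's theorem -/
theorem chainSum_eq {a b : α} (hab : a < b) : chainSum a b = -mu ℤ a b := by
  have key : ∀ k : ℕ, ∀ b : α, a < b → (Icc a b).card = k → chainSum a b = -mu ℤ a b := by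
    intro k
    induction k using Nat.strong_induction_on with
    | _ k ih =>
      intro b hab hk
      rw [chainSum_rec hab, mu_eq_neg_sum_Ico_of_ne hab.ne, neg_neg, Finset.Ico_eq_cons_Ioo hab,
        Finset.sum_cons, mu_self, sub_eq_add_neg, ← Finset.sum_neg_distrib]
      congr 1
      apply Finset.sum_congr rfl
      intro m hm
      have hm' := mem_Ioo.mp hm
      rw [ih (Icc a m).card _ m hm'.1 rfl, neg_neg]
      rw [← hk]
      exact Finset.card_lt_card (Icc_ssubset_Icc_right hab.le (le_refl _) hm'.2)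
  exact key _ b hab rfl

end Cfsg.Agent.Lib.Helper6.Mob
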