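/-
helper6: the value of the Steinberg function of `GL_n(F)` at `x` is `(-1)^n` times the Moebius
number of the lattice of `x`-invariant subspaces.
-/
import Mathlib
import Cfsg.Agent.Lib.Helper6.GLFlagB
import Cfsg.Agent.Lib.Helper6.InvtA
import Cfsg.Agent.Lib.Helper6.MobB

set_option autoImplicit false
set_option linter.unusedSectionVars false

namespace Cfsg.Agent.Lib.Helper6.GLFlag

open Matrix Equiv Cfsg Cfsg.Agent.Lib.Helper6.GLBN Cfsg.Agent.Lib.Helper6.GLSt
  Cfsg.Agent.Lib.Helper6.Invt Cfsg.Agent.Lib.Helper6.Mob Cfsg.Agent.Lib.Helper6.BNSt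
open Module (finrank)
open IncidenceAlgebra

attribute [local instance] invtDecEq invtLFO

variable {n : ℕ} {F : Type*} [Field F]

/-- the endomorphism of `F^n` given by `x` -/
noncomputable abbrev endo (x : GL (Fin n) F) : Module.End F (Fin n → F) :=
  Matrix.toLin' (x : Matrix (Fin n) (Fin n) F)

theorem mem_invt_iff (x : GL (Fin n) F) (U : Submodule F (Fin n → F)) :
    U ∈ (endo x).invtSubmodule ↔ act x U = U := by
  rw [Module.End.mem_invtSubmodule_iff_map_le]
  constructor
  · intro h; exact act_eq_of_le h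
  · intro h; exact le_of_eq h

/-- the set of dimensions of a finset of invariant subspaces -/
noncomputable def dimsL (x : GL (Fin n) F) (C : Finset (endo x).invtSubmodule) : Finset ℕ :=
  C.image (fun U : (endo x).invtSubmodule => finrank F U.1)

theorem finrank_injOn_chain (x : GL (Fin n) F) {C : Finset (endo x).invtSubmodule}
    (hC : IsChain (· ≤ ·) (C : Set (endo x).invtSubmodule)) :
    Set.InjOn (fun U : (endo x).invtSubmodule => finrank F U.1)
      (C : Set (endo x).invtSubmodule) := by
  intro U hU U' hU' h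
  simp only at h
  by_contra hne
  rcases hC hU hU' hne with h1 | h1
  · exact hne (Subtype.ext (Submodule.eq_of_le_of_finrank_eq h1 h))
  · exact hne (Subtype.ext (Submodule.eq_of_le_of_finrank_eq h1 h.symm).symm)

variable [Finite F]

theorem dimsL_mem (x : GL (Fin n) F) {C : Finset (endo x).invtSubmodule}
    (hC : C ∈ chains (⊥ : (endo x).invtSubmodule) ⊤) :
    dimsL x C ∈ (Finset.Icc 1 (n - 1)).powerset := by
  rw [mem_chains] at hC
  rw [Finset.mem_powerset]
  intro d hd
  unfold dimsL at hd
  rw [Finset.mem_image] at hd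
  obtain ⟨U, hU, rfl⟩ := hd
  have h1 := hC.1 hU
  rw [Finset.mem_Ioo] at h1
  have h2 : (U : Submodule F (Fin n → F)) ≠ ⊥ := by
    intro h
    exact (ne_of_gt h1.1) (eq_bot_iff_coe.mpr h)
  have h3 : (U : Submodule F (Fin n → F)) ≠ ⊤ := by
    intro h
    exact (ne_of_lt h1.2) (eq_top_iff_coe.mpr h)
  have h4 := Submodule.one_le_finrank_iff.mpr h2
  have h5 := Submodule.finrank_lt h3
  rw [Module.finrank_fin_fun] at h5
  rw [mem_Icc_iff]
  omega

/-- the invariant flags of type `D` are the chains of the lattice of invariant subspaces with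
dimension set `D` -/
theorem card_flagsOf (x : GL (Fin n) F) {D : Finset ℕ} (hD : D ⊆ Finset.Icc 1 (n - 1)) :
    Nat.card (flagsOf x D) =
      ((chains (⊥ : (endo x).invtSubmodule) ⊤).filter (fun C => dimsL x C = D)).card := by
  classical
  set emb : (endo x).invtSubmodule ↪ Submodule F (Fin n → F) :=
    Function.Embedding.subtype _ with hemb
  have hΨ : ∀ C' : {C' // C' ∈ (chains (⊥ : (endo x).invtSubmodule) ⊤).filter
      (fun C => dimsL x C = D)}, C'.1.map emb ∈ flagsOf x D := by
    rintro ⟨C', hC'⟩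
    rw [Finset.mem_filter, mem_chains] at hC'
    obtain ⟨⟨_, hch⟩, hdim⟩ := hC'
    refine ⟨?_, ?_, ?_⟩
    · intro U hU U' hU' hne
      rw [Finset.mem_coe, Finset.mem_map] at hU hU'
      obtain ⟨a, ha, rfl⟩ := hU
      obtain ⟨b, hb, rfl⟩ := hU'
      have hab : a ≠ b := fun e => hne (by rw [e])
      exact hch (Finset.mem_coe.mpr ha) (Finset.mem_coe.mpr hb) hab
    · rw [Finset.map_eq_image, Finset.image_image]
      exact hdim
    · intro U hU
      rw [Finset.mem_map] at hU
      obtain ⟨a, _, rfl⟩ := hU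
      exact (mem_invt_iff x _).mp a.2
  have h1 : Nat.card (flagsOf x D) = Nat.card {C' // C' ∈
      (chains (⊥ : (endo x).invtSubmodule) ⊤).filter (fun C => dimsL x C = D)} := by
    symm
    apply Nat.card_congr
    apply Equiv.ofBijective (fun C' => (⟨C'.1.map emb, hΨ C'⟩ : flagsOf x D))
    constructor
    · intro C₁ C₂ h
      have h' : C₁.1.map emb = C₂.1.map emb := congrArg Subtype.val h
      exact Subtype.ext (Finset.map_injective emb h')
    · rintro ⟨C, hC1, hC2, hC3⟩
      have hp : ∀ U ∈ C, U ∈ (endo x).invtSubmodule := fun U hU => (mem_invt_iff x U).mpr (hC3 U hU)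
      have hmap : (C.subtype (fun U => U ∈ (endo x).invtSubmodule)).map emb = C :=
        Finset.subtype_map_of_mem hp
      have hmem : C.subtype (fun U => U ∈ (endo x).invtSubmodule) ∈
          (chains (⊥ : (endo x).invtSubmodule) ⊤).filter (fun C => dimsL x C = D) := by
        rw [Finset.mem_filter, mem_chains]
        refine ⟨⟨?_, ?_⟩, ?_⟩
        · intro U hU
          rw [Finset.mem_subtype] at hU
          have hd : finrank F (U : Submodule F (Fin n → F)) ∈ D := by
            rw [← hC2]
            exact Finset.mem_image_of_mem _ hU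
          have hd' := mem_Icc_iff.mp (hD hd)
          rw [Finset.mem_Ioo, bot_lt_iff_ne_bot, lt_top_iff_ne_top]
          constructor
          · intro h
            rw [h, coe_bot, finrank_bot] at hd'
            omega
          · intro h
            rw [h, coe_top, finrank_top, Module.finrank_fin_fun] at hd'
            omega
        · intro U hU U' hU' hne
          rw [Finset.mem_coe, Finset.mem_subtype] at hU hU'
          have hne' : (U : Submodule F (Fin n → F)) ≠ U' := fun e => hne (Subtype.ext e)
          exact hC1 (Finset.mem_coe.mpr hU) (Finset.mem_coe.mpr hU') hne'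
        · unfold dimsL
          rw [← hC2]
          conv_rhs => rw [← hmap]
          rw [Finset.map_eq_image, Finset.image_image]
          rfl
      refine ⟨⟨_, hmem⟩, ?_⟩
      apply Subtype.ext
      exact hmap
  rw [h1, Nat.card_eq_fintype_card, Fintype.card_coe]

/-- the Steinberg function at `x` and the Moebius number of the lattice of `x`-invariant
subspaces -/
theorem stGL_eq_mu (x : GL (Fin n) F) (hn : 0 < n) :
    stGL n F x = (-1 : ℂ) ^ n * ((mu ℤ (⊥ : (endo x).invtSubmodule) ⊤ : ℤ) : ℂ) := by
  classical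
  rw [stGL_eq_sum_Stab]
  have h1 : ∀ D ∈ (Finset.Icc 1 (n - 1)).powerset,
      (-1 : ℂ) ^ ((n - 1) - D.card) * fixedPointCharacter (Stab n F D) x =
      (-1 : ℂ) ^ (n - 1) * (((∑ C ∈ (chains (⊥ : (endo x).invtSubmodule) ⊤).filter
        (fun C => dimsL x C = D), (-1 : ℤ) ^ C.card : ℤ)) : ℂ) := by
    intro D hD
    rw [Finset.mem_powerset] at hD
    have hDn : ∀ d ∈ D, d ≤ n := by
      intro d hd
      have := mem_Icc_iff.mp (hD hd)
      omega
    rw [fixedPointCharacter_apply, card_fixedBy_Stab x hDn, card_flagsOf x hD]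
    have hcard : D.card ≤ n - 1 := by
      have := Finset.card_le_card hD
      rw [Nat.card_Icc] at this
      omega
    have h2 : ∀ C ∈ (chains (⊥ : (endo x).invtSubmodule) ⊤).filter (fun C => dimsL x C = D),
        (-1 : ℤ) ^ C.card = (-1 : ℤ) ^ D.card := by
      intro C hC
      rw [Finset.mem_filter, mem_chains] at hC
      rw [← hC.2]
      unfold dimsL
      rw [Finset.card_image_of_injOn (finrank_injOn_chain x hC.1.2)]
    rw [Finset.sum_congr rfl h2, Finset.sum_const, nsmul_eq_mul]
    push_cast
    have h3 : (-1 : ℂ) ^ (n - 1) = (-1 : ℂ) ^ ((n - 1) - D.card) * (-1 : ℂ) ^ D.card := by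
      rw [← pow_add, Nat.sub_add_cancel hcard]
    rw [h3]
    have h4 : (-1 : ℂ) ^ D.card * (-1 : ℂ) ^ D.card = 1 := by
      rw [← pow_add, ← two_mul, pow_mul]
      simp
    calc (-1 : ℂ) ^ ((n - 1) - D.card) * _ = (-1 : ℂ) ^ ((n - 1) - D.card) * _ *
          ((-1 : ℂ) ^ D.card * (-1 : ℂ) ^ D.card) := by rw [h4, mul_one]
      _ = _ := by ring
  rw [Finset.sum_congr rfl h1, ← Finset.mul_sum, ← Int.cast_sum,
    Finset.sum_fiberwise_of_maps_to (fun C hC => dimsL_mem x hC)]
  have hlt : (⊥ : (endo x).invtSubmodule) < ⊤ := by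
    rw [bot_lt_iff_ne_bot]
    intro h
    have h2 : (⊤ : Submodule F (Fin n → F)) = ⊥ := congrArg Subtype.val h
    have h3 := congrArg (fun U : Submodule F (Fin n → F) => finrank F U) h2
    simp only [finrank_top, Module.finrank_fin_fun, finrank_bot] at h3
    omega
  have h5 := chainSum_eq hlt
  unfold chainSum at h5
  rw [h5]
  push_cast
  obtain ⟨m, rfl⟩ : ∃ m, n = m + 1 := ⟨n - 1, by omega⟩
  rw [Nat.add_sub_cancel, pow_succ]
  ring

end Cfsg.Agent.Lib.Helper6.GLFlag
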