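/-
helper6: permutations, two labellings, and contingency tables: the table of a permutation is a
complete invariant of its double coset with respect to the two label-preserving subgroups, and every
table with the right margins occurs.
-/
import Mathlib

set_option autoImplicit false

namespace Cfsg.Agent.Lib.Helper6.GLTab

open Equiv Finset

/-- an equivalence matching two labellings with equal fibre cardinalities -/
theorem exists_equiv_comp_eq {X X' K : Type*} [Fintype X] [Fintype X'] [DecidableEq K]
    (f : X → K) (g : X' → K)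
    (h : ∀ k, Fintype.card {x // f x = k} = Fintype.card {x // g x = k}) :
    ∃ e : X ≃ X', ∀ x, g (e x) = f x :=
  ⟨Equiv.ofFiberEquiv (fun k => Fintype.equivOfCardEq (h k)), fun x => Equiv.ofFiberEquiv_map _ x⟩

variable {n : ℕ} (la lb : Fin n → Fin n)

/-- the contingency table of a permutation -/
def tbl (σ : Perm (Fin n)) (i j : Fin n) : ℕ :=
  Fintype.card {x : Fin n // lb x = j ∧ la (σ x) = i}

theorem tbl_eq_card_filter (σ : Perm (Fin n)) (i j : Fin n) :
    tbl la lb σ i j = (Finset.univ.filter fun x : Fin n => lb x = j ∧ la (σ x) = i).card := by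
  unfold tbl
  rw [Fintype.card_subtype]

theorem tbl_row_sum (σ : Perm (Fin n)) (i : Fin n) :
    ∑ j, tbl la lb σ i j = Fintype.card {y : Fin n // la y = i} := by
  rw [Fintype.card_subtype]
  have h1 : (Finset.univ.filter fun y : Fin n => la y = i).card =
      (Finset.univ.filter fun x : Fin n => la (σ x) = i).card := by
    symm
    apply Finset.card_equiv σ
    intro x
    simp
  rw [h1, Finset.card_eq_sum_card_fiberwise (f := lb) (t := Finset.univ)
    (fun x _ => Finset.mem_coe.mpr (Finset.mem_univ _))]
  apply Finset.sum_congr rfl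
  intro j _
  rw [tbl_eq_card_filter, Finset.filter_filter]
  congr 1
  ext x
  simp only [Finset.mem_filter, Finset.mem_univ, true_and]
  tauto

theorem tbl_col_sum (σ : Perm (Fin n)) (j : Fin n) :
    ∑ i, tbl la lb σ i j = Fintype.card {x : Fin n // lb x = j} := by
  rw [Fintype.card_subtype]
  rw [Finset.card_eq_sum_card_fiberwise (f := fun x => la (σ x)) (t := Finset.univ)
    (fun x _ => Finset.mem_coe.mpr (Finset.mem_univ _))]
  apply Finset.sum_congr rfl
  intro i _
  rw [tbl_eq_card_filter, Finset.filter_filter]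

/-- invariance of the table under the two label-preserving subgroups -/
theorem tbl_mul_mul {a b : Perm (Fin n)} (ha : ∀ x, la (a x) = la x) (hb : ∀ x, lb (b x) = lb x)
    (σ : Perm (Fin n)) : tbl la lb (a * σ * b) = tbl la lb σ := by
  funext i j
  rw [tbl_eq_card_filter, tbl_eq_card_filter]
  apply Finset.card_equiv b
  intro x
  rw [Finset.mem_filter, Finset.mem_filter]
  have e : (a * σ * b) x = a (σ (b x)) := rfl
  rw [e, ha, hb]
  simp

/-- the table separates the double cosets -/
theorem exists_of_tbl_eq {σ σ' : Perm (Fin n)} (h : tbl la lb σ = tbl la lb σ') :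
    ∃ a b : Perm (Fin n), (∀ x, la (a x) = la x) ∧ (∀ x, lb (b x) = lb x) ∧ σ' = a * σ * b := by
  classical
  obtain ⟨b, hb⟩ := exists_equiv_comp_eq
    (fun x : Fin n => (la (σ' x), lb x)) (fun x : Fin n => (la (σ x), lb x)) (by
      rintro ⟨i, j⟩
      have := congrFun (congrFun h i) j
      unfold tbl at this
      rw [Fintype.card_subtype, Fintype.card_subtype] at this
      rw [Fintype.card_subtype, Fintype.card_subtype]
      rw [show (Finset.univ.filter fun x : Fin n => (la (σ' x), lb x) = (i, j)) =
          Finset.univ.filter fun x : Fin n => lb x = j ∧ la (σ' x) = i by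
        ext x; simp only [Finset.mem_filter, Finset.mem_univ, true_and, Prod.mk.injEq]; tauto,
        show (Finset.univ.filter fun x : Fin n => (la (σ x), lb x) = (i, j)) =
          Finset.univ.filter fun x : Fin n => lb x = j ∧ la (σ x) = i by
        ext x; simp only [Finset.mem_filter, Finset.mem_univ, true_and, Prod.mk.injEq]; tauto]
      exact this.symm)
  have hb1 : ∀ x, la (σ (b x)) = la (σ' x) := fun x => (Prod.mk.inj (hb x)).1
  have hb2 : ∀ x, lb (b x) = lb x := fun x => (Prod.mk.inj (hb x)).2
  refine ⟨σ' * b⁻¹ * σ⁻¹, b, ?_, hb2, by group⟩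
  intro y
  simp only [Perm.mul_apply]
  have := hb1 (b⁻¹ (σ⁻¹ y))
  rw [← this]
  simp

section surj

variable (A : Fin n → Fin n → ℕ)

/-- swapping the first two components -/
def sigmaSwap : (Σ i : Fin n, Σ j : Fin n, Fin (A i j)) ≃ (Σ j : Fin n, Σ i : Fin n, Fin (A i j)) where
  toFun t := ⟨t.2.1, t.1, t.2.2⟩
  invFun t := ⟨t.2.1, t.1, t.2.2⟩
  left_inv _ := rfl
  right_inv _ := rfl

theorem card_fiber_sigma (i j : Fin n) :
    Fintype.card {t : (Σ j : Fin n, Σ i : Fin n, Fin (A i j)) // t.1 = j ∧ t.2.1 = i} = A i j := by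
  rw [← Fintype.card_fin (A i j)]
  symm
  apply Fintype.card_congr
  refine Equiv.ofBijective (fun u => ⟨⟨j, i, u⟩, rfl, rfl⟩) ⟨?_, ?_⟩
  · intro u v h
    have h1 := congrArg Subtype.val h
    simp only [Sigma.mk.injEq, heq_eq_eq, true_and] at h1
    exact h1
  · rintro ⟨⟨j', i', u⟩, h1, h2⟩
    simp only at h1 h2
    subst h1
    subst h2
    exact ⟨u, rfl⟩

/-- every table with the right margins is the table of a permutation -/
theorem exists_tbl_eq (hrow : ∀ i, ∑ j, A i j = Fintype.card {y : Fin n // la y = i})
    (hcol : ∀ j, ∑ i, A i j = Fintype.card {x : Fin n // lb x = j}) :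
    ∃ σ : Perm (Fin n), tbl la lb σ = A := by
  classical
  obtain ⟨e1, he1⟩ := exists_equiv_comp_eq
    (fun t : (Σ i : Fin n, Σ j : Fin n, Fin (A i j)) => t.1) la (by
      intro i
      rw [← hrow i]
      have : Fintype.card {t : (Σ i : Fin n, Σ j : Fin n, Fin (A i j)) // t.1 = i} =
          Fintype.card (Σ j : Fin n, Fin (A i j)) := by
        apply Fintype.card_congr
        exact Equiv.sigmaSubtype i
      rw [this, Fintype.card_sigma]
      simp)
  obtain ⟨e2, he2⟩ := exists_equiv_comp_eq
    (fun t : (Σ j : Fin n, Σ i : Fin n, Fin (A i j)) => t.1) lb (by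
      intro j
      rw [← hcol j]
      have : Fintype.card {t : (Σ j : Fin n, Σ i : Fin n, Fin (A i j)) // t.1 = j} =
          Fintype.card (Σ i : Fin n, Fin (A i j)) := by
        apply Fintype.card_congr
        exact Equiv.sigmaSubtype j
      rw [this, Fintype.card_sigma]
      simp)
  refine ⟨e2.symm.trans ((sigmaSwap A).symm.trans e1), ?_⟩
  funext i j
  unfold tbl
  rw [← card_fiber_sigma A i j]
  symm
  apply Fintype.card_congr
  refine e2.subtypeEquiv ?_
  intro t
  rw [he2]
  apply and_congr Iff.rfl
  have : (e2.symm.trans ((sigmaSwap A).symm.trans e1)) (e2 t) = e1 ((sigmaSwap A).symm t) := by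
    simp
  rw [this, he1]
  rfl

end surj

end Cfsg.Agent.Lib.Helper6.GLTab
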