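/-
helper6: complete homogeneous polynomials via power series; the key relation
`∑_j e_j^{(k)} h_{m-j} = a_k^m` behind the Jacobi–Trudi identity.
-/
import Mathlib

set_option autoImplicit false

namespace Cfsg.Agent.Lib.Helper6.JT

open PowerSeries Finset

variable {R : Type*} [CommRing R]

/-- the geometric series `∑ r^m t^m` -/
noncomputable def geo (r : R) : PowerSeries R := PowerSeries.mk (fun m => r ^ m)

theorem coeff_geo (r : R) (m : ℕ) : PowerSeries.coeff m (geo r) = r ^ m := by
  unfold geo
  rw [PowerSeries.coeff_mk]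

theorem geo_mul (r : R) : geo r * (1 - PowerSeries.C r * PowerSeries.X) = 1 := by
  have h := congrArg (PowerSeries.rescale r) (PowerSeries.mk_one_mul_one_sub_eq_one R)
  rw [map_mul, map_sub, map_one, PowerSeries.rescale_X, PowerSeries.rescale_mk] at h
  rw [← h]
  congr 2
  unfold geo
  ext m
  simp

variable {ι : Type*} [Fintype ι] [DecidableEq ι] (a : ι → R)

/-- the generating series of the complete homogeneous polynomials in the `a l` -/
noncomputable def Hs : PowerSeries R := ∏ l, geo (a l)

/-- the complete homogeneous polynomial of degree `m` evaluated at the `a l` -/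
noncomputable def hc (m : ℕ) : R := PowerSeries.coeff m (Hs a)

/-- `∏_{l ≠ k} (1 - a_l t)` -/
noncomputable def Ek (k : ι) : Polynomial R :=
  ∏ l ∈ Finset.univ.erase k, (1 - Polynomial.C (a l) * Polynomial.X)

theorem Ek_natDegree_le (k : ι) : (Ek a k).natDegree ≤ Fintype.card ι - 1 := by
  unfold Ek
  refine le_trans (Polynomial.natDegree_prod_le _ _) ?_
  have h1 : ∀ l ∈ Finset.univ.erase k,
      (1 - Polynomial.C (a l) * Polynomial.X : Polynomial R).natDegree ≤ 1 := by
    intro l _
    refine le_trans (Polynomial.natDegree_sub_le _ _) ?_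
    rw [Polynomial.natDegree_one]
    refine max_le (Nat.zero_le _) ?_
    exact le_trans (Polynomial.natDegree_C_mul_le _ _) Polynomial.natDegree_X_le
  refine le_trans (Finset.sum_le_sum h1) ?_
  rw [Finset.sum_const, Finset.card_erase_of_mem (Finset.mem_univ k), Finset.card_univ]
  simp

theorem Ek_coeff_eq_zero (k : ι) {j : ℕ} (hj : Fintype.card ι ≤ j) : (Ek a k).coeff j = 0 := by
  apply Polynomial.coeff_eq_zero_of_natDegree_lt
  have := Ek_natDegree_le a k
  have hpos : 0 < Fintype.card ι := Fintype.card_pos_iff.mpr ⟨k⟩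
  omega

theorem Ek_mul_Hs (k : ι) : ((Ek a k : Polynomial R) : PowerSeries R) * Hs a = geo (a k) := by
  unfold Ek Hs
  rw [← Finset.mul_prod_erase Finset.univ (fun l => geo (a l)) (Finset.mem_univ k)]
  have h1 : ((∏ l ∈ Finset.univ.erase k, (1 - Polynomial.C (a l) * Polynomial.X) : Polynomial R) :
      PowerSeries R) = ∏ l ∈ Finset.univ.erase k, (1 - PowerSeries.C (a l) * PowerSeries.X) := by
    rw [← Polynomial.coeToPowerSeries.ringHom_apply, map_prod]
    apply Finset.prod_congr rfl
    intro l _
    rw [Polynomial.coeToPowerSeries.ringHom_apply, Polynomial.coe_sub, Polynomial.coe_one,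
      Polynomial.coe_mul, Polynomial.coe_C, Polynomial.coe_X]
  rw [h1]
  have h2 : (∏ l ∈ Finset.univ.erase k, (1 - PowerSeries.C (a l) * PowerSeries.X)) *
      ∏ l ∈ Finset.univ.erase k, geo (a l) = 1 := by
    rw [← Finset.prod_mul_distrib]
    apply Finset.prod_eq_one
    intro l _
    rw [mul_comm, geo_mul]
  calc (∏ l ∈ Finset.univ.erase k, (1 - PowerSeries.C (a l) * PowerSeries.X)) *
        (geo (a k) * ∏ l ∈ Finset.univ.erase k, geo (a l))
      = geo (a k) * ((∏ l ∈ Finset.univ.erase k, (1 - PowerSeries.C (a l) * PowerSeries.X)) *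
        ∏ l ∈ Finset.univ.erase k, geo (a l)) := by ring
    _ = geo (a k) := by rw [h2, mul_one]

/-- the convolution identity -/
theorem sum_antidiagonal_Ek (k : ι) (m : ℕ) :
    ∑ p ∈ Finset.HasAntidiagonal.antidiagonal m, (Ek a k).coeff p.1 * hc a p.2 = a k ^ m := by
  have h := congrArg (PowerSeries.coeff m) (Ek_mul_Hs a k)
  rw [PowerSeries.coeff_mul, coeff_geo] at h
  rw [← h]
  apply Finset.sum_congr rfl
  intro p _
  rw [Polynomial.coeff_coe]
  rfl

omit [DecidableEq ι] in
theorem hc_zero : hc a 0 = 1 := by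
  unfold hc Hs
  rw [PowerSeries.coeff_zero_eq_constantCoeff_apply, map_prod]
  apply Finset.prod_eq_one
  intro l _
  rw [← PowerSeries.coeff_zero_eq_constantCoeff_apply, coeff_geo, pow_zero]

end Cfsg.Agent.Lib.Helper6.JT
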