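/-
helper6: the Jacobi–Trudi identity in bialternant form:
`det (a_k ^ L_i) = det (h_{L_i - j}) * det (a_k ^ i)`.
-/
import Mathlib
import Cfsg.Agent.Lib.Helper6.JT1

set_option autoImplicit false

namespace Cfsg.Agent.Lib.Helper6.JT

open Finset Matrix

variable {R : Type*} [CommRing R] {n : ℕ} (a : Fin n → R)

/-- complete homogeneous polynomials with integer index, zero for negative index -/
noncomputable def hZ (z : ℤ) : R := if 0 ≤ z then hc a z.toNat else 0

theorem hZ_of_nonneg {z : ℤ} (hz : 0 ≤ z) : hZ a z = hc a z.toNat := by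
  unfold hZ; rw [if_pos hz]

theorem hZ_of_neg {z : ℤ} (hz : z < 0) : hZ a z = 0 := by
  unfold hZ; rw [if_neg (not_le.mpr hz)]

theorem hZ_natCast_sub {m j : ℕ} (h : j ≤ m) : hZ a ((m : ℤ) - j) = hc a (m - j) := by
  rw [hZ_of_nonneg a (by omega)]
  congr 1
  omega

/-- the Jacobi–Trudi matrix -/
noncomputable def Mm (L : Fin n → ℕ) : Matrix (Fin n) (Fin n) R :=
  Matrix.of fun i j => hZ a ((L i : ℤ) - (j.val : ℤ))

/-- the matrix of signed elementary symmetric polynomials in all but one variable -/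
noncomputable def Cm : Matrix (Fin n) (Fin n) R :=
  Matrix.of fun j k => (Ek a k).coeff j.val

/-- the generalized Vandermonde matrix -/
def Dm (L : Fin n → ℕ) : Matrix (Fin n) (Fin n) R :=
  Matrix.of fun i k => a k ^ L i

theorem sum_fin_Ek (k : Fin n) (m : ℕ) :
    ∑ j : Fin n, hZ a ((m : ℤ) - (j.val : ℤ)) * (Ek a k).coeff j.val = a k ^ m := by
  rw [← sum_antidiagonal_Ek a k m, Finset.Nat.sum_antidiagonal_eq_sum_range_succ
    (fun i j => (Ek a k).coeff i * hc a j) m]
  set g : ℕ → R := fun j => hZ a ((m : ℤ) - (j : ℤ)) * (Ek a k).coeff j with hg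
  have h1 : ∑ j : Fin n, hZ a ((m : ℤ) - (j.val : ℤ)) * (Ek a k).coeff j.val =
      ∑ j ∈ Finset.range n, g j := by
    rw [Finset.sum_range]
  have h2 : ∑ j ∈ Finset.range (m + 1), (Ek a k).coeff j * hc a (m - j) =
      ∑ j ∈ Finset.range (m + 1), g j := by
    apply Finset.sum_congr rfl
    intro j hj
    rw [Finset.mem_range] at hj
    rw [hg]
    simp only
    rw [hZ_natCast_sub a (by omega), mul_comm]
  rw [h1, h2]
  have h3 : ∀ N, n ≤ N → ∑ j ∈ Finset.range n, g j = ∑ j ∈ Finset.range N, g j := by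
    intro N hN
    apply Finset.sum_subset
    · intro j hj
      rw [Finset.mem_range] at hj ⊢
      omega
    · intro j _ hj
      rw [Finset.mem_range, not_lt] at hj
      rw [hg]
      simp only
      rw [Ek_coeff_eq_zero a k (by rw [Fintype.card_fin]; exact hj), mul_zero]
  have h4 : ∀ N, m + 1 ≤ N → ∑ j ∈ Finset.range (m + 1), g j = ∑ j ∈ Finset.range N, g j := by
    intro N hN
    apply Finset.sum_subset
    · intro j hj
      rw [Finset.mem_range] at hj ⊢
      omega
    · intro j _ hj
      rw [Finset.mem_range, not_lt] at hj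
      rw [hg]
      simp only
      rw [hZ_of_neg a (by omega), zero_mul]
  rw [h3 (max n (m + 1)) (le_max_left _ _), h4 (max n (m + 1)) (le_max_right _ _)]

theorem Dm_eq_mul (L : Fin n → ℕ) : Dm a L = Mm a L * Cm a := by
  ext i k
  rw [Matrix.mul_apply]
  unfold Dm Mm Cm
  simp only [Matrix.of_apply]
  rw [sum_fin_Ek]

theorem det_Mm_id : (Mm a (fun i : Fin n => i.val)).det = 1 := by
  rw [Matrix.det_of_isLowerTriangular]
  · apply Finset.prod_eq_one
    intro i _
    unfold Mm
    simp only [Matrix.of_apply]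
    rw [sub_self, hZ_of_nonneg a le_rfl]
    exact hc_zero a
  · intro i j hij
    unfold Mm
    simp only [Matrix.of_apply]
    apply hZ_of_neg
    have : i < j := hij
    rw [Fin.lt_def] at this
    omega

/-- the Jacobi–Trudi identity in bialternant form -/
theorem det_Dm (L : Fin n → ℕ) :
    (Dm a L).det = (Mm a L).det * (Dm a (fun i : Fin n => i.val)).det := by
  rw [Dm_eq_mul a L, Dm_eq_mul a (fun i : Fin n => i.val), Matrix.det_mul, Matrix.det_mul,
    det_Mm_id, one_mul]

end Cfsg.Agent.Lib.Helper6.JT
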