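/-
helper6: coefficients of products of complete homogeneous polynomials count contingency tables.
-/
import Mathlib
import Cfsg.Agent.Lib.Helper6.JT2

set_option autoImplicit false

namespace Cfsg.Agent.Lib.Helper6.JT

open Finset MvPolynomial

variable {n : ℕ}

/-- the number of `n × n` tables of natural numbers with row sums `α` and column sums `β` -/
noncomputable def tabCount (α β : Fin n → ℕ) : ℕ :=
  Nat.card {A : Fin n → Fin n → ℕ // (∀ i, ∑ j, A i j = α i) ∧ (∀ j, ∑ i, A i j = β j)}

/-- the variables of the polynomial ring -/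
noncomputable abbrev xv (n : ℕ) : Fin n → MvPolynomial (Fin n) ℤ := fun l => X l

theorem hc_xv (m : ℕ) :
    hc (xv n) m = ∑ γ ∈ Finset.finsuppAntidiag (Finset.univ : Finset (Fin n)) m,
      (monomial γ (1 : ℤ) : MvPolynomial (Fin n) ℤ) := by
  unfold hc Hs
  rw [PowerSeries.coeff_prod]
  apply Finset.sum_congr rfl
  intro γ _
  rw [MvPolynomial.monomial_eq, map_one, one_mul, Finsupp.prod_fintype _ _ (fun i => pow_zero _)]
  apply Finset.prod_congr rfl
  intro l _
  rw [coeff_geo]

/-- the finset of tuples of exponent vectors with prescribed degrees and total -/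
noncomputable def tabSet (α : Fin n → ℕ) (β : Fin n →₀ ℕ) : Finset (Fin n → (Fin n →₀ ℕ)) :=
  (Fintype.piFinset fun i => Finset.finsuppAntidiag (Finset.univ : Finset (Fin n)) (α i)).filter
    fun p => ∑ i, p i = β

theorem coeff_prod_hc (α : Fin n → ℕ) (β : Fin n →₀ ℕ) :
    MvPolynomial.coeff β (∏ i, hc (xv n) (α i)) = ((tabSet α β).card : ℤ) := by
  simp only [hc_xv]
  rw [Finset.prod_univ_sum]
  rw [MvPolynomial.coeff_sum]
  unfold tabSet
  rw [Finset.card_filter, Nat.cast_sum]
  apply Finset.sum_congr rfl
  intro p _
  rw [← MvPolynomial.monomial_sum_one, MvPolynomial.coeff_monomial]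
  split_ifs <;> simp

theorem tabSet_card (α β : Fin n → ℕ) :
    (tabSet α (Finsupp.equivFunOnFinite.symm β)).card = tabCount α β := by
  unfold tabCount
  rw [← Nat.card_eq_finsetCard]
  apply Nat.card_congr
  refine
    { toFun := fun p => ⟨fun i j => p.1 i j, ?_, ?_⟩
      invFun := fun A => ⟨fun i => Finsupp.equivFunOnFinite.symm (A.1 i), ?_⟩
      left_inv := ?_
      right_inv := ?_ }
  · intro i
    have hp := p.2
    unfold tabSet at hp
    rw [Finset.mem_filter, Fintype.mem_piFinset] at hp
    have := (Finset.mem_finsuppAntidiag.mp (hp.1 i)).1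
    exact this
  · intro j
    have hp := p.2
    unfold tabSet at hp
    rw [Finset.mem_filter] at hp
    have := DFunLike.congr_fun hp.2 j
    rw [Finsupp.finset_sum_apply] at this
    exact this
  · unfold tabSet
    rw [Finset.mem_filter, Fintype.mem_piFinset]
    constructor
    · intro i
      rw [Finset.mem_finsuppAntidiag]
      refine ⟨?_, Finset.subset_univ _⟩
      exact A.2.1 i
    · ext j
      rw [Finsupp.finset_sum_apply]
      exact A.2.2 j
  · intro p
    apply Subtype.ext
    funext i
    ext j
    rfl
  · intro A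
    rfl

/-- coefficients of products of complete homogeneous polynomials count tables -/
theorem coeff_prod_hc' (α β : Fin n → ℕ) :
    MvPolynomial.coeff (Finsupp.equivFunOnFinite.symm β) (∏ i, hc (xv n) (α i)) =
      (tabCount α β : ℤ) := by
  rw [coeff_prod_hc, tabSet_card]

end Cfsg.Agent.Lib.Helper6.JT
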