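/-
helper6: for `GL_n(F)`, the number of `(J_α, J_β)`-reduced Weyl group elements is the number of
contingency tables with margins `α`, `β`.
-/
import Mathlib
import Cfsg.Agent.S2420
import Cfsg.Agent.Lib.Helper6.GLBNE
import Cfsg.Agent.Lib.Helper6.BNRedB
import Cfsg.Agent.Lib.Helper6.GLTabA
import Cfsg.Agent.Lib.Helper6.JT3

set_option autoImplicit false

namespace Cfsg.Agent.Lib.Helper6.GLTab

open Equiv Cfsg.Agent.Lib.Helper6.GLBN Cfsg.Agent.Lib.Helper6.BNSt Cfsg.Agent.Lib.Helper3.BN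
  Cfsg.Agent.Lib.Helper6.CoxRed Cfsg.Agent.Lib.Helper6.JT

variable {n : ℕ} {F : Type*} [Field F]

/-- the block labelling of a composition, with values in `Fin n` -/
def lab (α : Fin n → ℕ) (hα : ∑ i, α i = n) (x : Fin n) : Fin n :=
  ⟨Cfsg.compLabel α x, Cfsg.Agent.S2420.label_lt α hα x⟩

theorem lab_card (α : Fin n → ℕ) (hα : ∑ i, α i = n) (i : Fin n) :
    Fintype.card {y : Fin n // lab α hα y = i} = α i := by
  rw [← Cfsg.Agent.S2420.fiber_card α hα i]
  apply Fintype.card_congr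
  apply Equiv.subtypeEquivRight
  intro y
  exact Fin.ext_iff

theorem mem_young_iff (α : Fin n → ℕ) (hα : ∑ i, α i = n) (σ : Perm (Fin n)) :
    σ ∈ Cfsg.youngSubgroup α ↔ ∀ x, lab α hα (σ x) = lab α hα x := by
  constructor
  · intro h x
    exact Fin.ext (h x)
  · intro h x
    exact Fin.ext_iff.mp (h x)

variable (F) in
/-- the table of a reduced element -/
noncomputable def redTbl (α β : Fin n → ℕ) (hα : ∑ i, α i = n) (hβ : ∑ i, β i = n)
    (d : Red (glBN n F) (Jset F α) (Jset F β)) :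
    {A : Fin n → Fin n → ℕ // (∀ i, ∑ j, A i j = α i) ∧ (∀ j, ∑ i, A i j = β j)} :=
  ⟨tbl (lab α hα) (lab β hβ) ((weylEquiv n F).symm d.1), by
    constructor
    · intro i
      rw [tbl_row_sum, lab_card]
    · intro j
      rw [tbl_col_sum, lab_card]⟩

theorem redTbl_injective (α β : Fin n → ℕ) (hα : ∑ i, α i = n) (hβ : ∑ i, β i = n) :
    Function.Injective (redTbl F α β hα hβ) := by
  rintro ⟨d, hd⟩ ⟨d', hd'⟩ h
  have h1 := congrArg Subtype.val h
  unfold redTbl at h1
  simp only at h1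
  obtain ⟨a, b, ha, hb, hab⟩ := exists_of_tbl_eq _ _ h1
  have ha' : weylEquiv n F a ∈ WJ (glBN n F) (Jset F α) :=
    (weylEquiv_mem_WJ_iff α a).mpr ((mem_young_iff α hα a).mpr ha)
  have hb' : weylEquiv n F b ∈ WJ (glBN n F) (Jset F β) :=
    (weylEquiv_mem_WJ_iff β b).mpr ((mem_young_iff β hβ b).mpr hb)
  have hdc : InDC (Jbar (glBN n F) (Jset F α)) (Jbar (glBN n F) (Jset F β)) d d' := by
    refine ⟨weylEquiv n F a, ha', weylEquiv n F b, hb', ?_⟩
    have := congrArg (weylEquiv n F) hab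
    rw [MulEquiv.apply_symm_apply, MulEquiv.map_mul, MulEquiv.map_mul,
      MulEquiv.apply_symm_apply] at this
    exact this
  apply Subtype.ext
  simp only
  have e1 := eq_redOf (glBN n F) (Jset F α) (Jset F β) hd hdc
  have e2 := redOf_self (glBN n F) (Jset F α) (Jset F β) hd'
  rw [e1, e2]

theorem redTbl_surjective (α β : Fin n → ℕ) (hα : ∑ i, α i = n) (hβ : ∑ i, β i = n) :
    Function.Surjective (redTbl F α β hα hβ) := by
  rintro ⟨A, hA1, hA2⟩
  obtain ⟨σ, hσ⟩ := exists_tbl_eq (lab α hα) (lab β hβ) A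
    (by intro i; rw [hA1, lab_card]) (by intro j; rw [hA2, lab_card])
  refine ⟨⟨redOf (glBN n F) (Jset F α) (Jset F β) (weylEquiv n F σ), redOf_isRed _ _ _ _⟩, ?_⟩
  apply Subtype.ext
  unfold redTbl
  simp only
  rw [← hσ]
  obtain ⟨x, hx, y, hy, hxy⟩ := redOf_inDC (glBN n F) (Jset F α) (Jset F β) (weylEquiv n F σ)
  have hx' : ∀ z, lab α hα ((weylEquiv n F).symm x z) = lab α hα z := by
    rw [← mem_young_iff, ← weylEquiv_mem_WJ_iff (F := F), MulEquiv.apply_symm_apply]
    exact hx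
  have hy' : ∀ z, lab β hβ ((weylEquiv n F).symm y z) = lab β hβ z := by
    rw [← mem_young_iff, ← weylEquiv_mem_WJ_iff (F := F), MulEquiv.apply_symm_apply]
    exact hy
  have e : σ = (weylEquiv n F).symm x *
      (weylEquiv n F).symm (redOf (glBN n F) (Jset F α) (Jset F β) (weylEquiv n F σ)) *
      (weylEquiv n F).symm y := by
    rw [← map_mul, ← map_mul, ← hxy, MulEquiv.symm_apply_apply]
  conv_rhs => rw [e]
  rw [tbl_mul_mul _ _ hx' hy']

/-- the number of reduced elements is the number of tables -/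
theorem card_red_eq_tabCount [Finite F] (α β : Fin n → ℕ) (hα : ∑ i, α i = n) (hβ : ∑ i, β i = n) :
    Nat.card (Red (glBN n F) (Jset F α) (Jset F β)) = tabCount α β := by
  unfold tabCount
  exact Nat.card_congr (Equiv.ofBijective (redTbl F α β hα hβ)
    ⟨redTbl_injective α β hα hβ, redTbl_surjective α β hα hβ⟩)

end Cfsg.Agent.Lib.Helper6.GLTab
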