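/-
helper6: orthonormality of the determinantal (Jacobi–Trudi) sums with respect to the
contingency table counts.
-/
import Mathlib
import Cfsg.Agent.Lib.Helper6.JT3

set_option autoImplicit false

namespace Cfsg.Agent.Lib.Helper6.JT

open Finset MvPolynomial Equiv

variable {n : ℕ}

/-- a function on `Fin n` as an exponent vector -/
noncomputable abbrev eqv (f : Fin n → ℕ) : Fin n →₀ ℕ := Finsupp.equivFunOnFinite.symm f

theorem eqv_apply (f : Fin n → ℕ) (i : Fin n) : eqv f i = f i := rfl

theorem prod_X_pow_eq (f : Fin n → ℕ) :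
    ∏ k, (X k : MvPolynomial (Fin n) ℤ) ^ f k = monomial (eqv f) 1 := by
  rw [MvPolynomial.monomial_eq, map_one, one_mul, Finsupp.prod_fintype _ _ (fun i => pow_zero _)]
  rfl

theorem det_Mm_expand (L : Fin n → ℕ) :
    (Mm (xv n) L).det = ∑ κ : Perm (Fin n), if ∀ i, (κ i).val ≤ L i then
      ((Perm.sign κ : ℤ) : MvPolynomial (Fin n) ℤ) * ∏ i, hc (xv n) (L i - (κ i).val) else 0 := by
  rw [← Matrix.det_transpose, Matrix.det_apply']
  apply Finset.sum_congr rfl
  intro κ _
  by_cases h : ∀ i, (κ i).val ≤ L i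
  · rw [if_pos h]
    congr 1
    apply Finset.prod_congr rfl
    intro i _
    rw [Matrix.transpose_apply]
    unfold Mm
    simp only [Matrix.of_apply]
    exact hZ_natCast_sub _ (h i)
  · rw [if_neg h]
    push_neg at h
    obtain ⟨i, hi⟩ := h
    rw [Finset.prod_eq_zero (Finset.mem_univ i), mul_zero]
    rw [Matrix.transpose_apply]
    unfold Mm
    simp only [Matrix.of_apply]
    apply hZ_of_neg
    omega

theorem det_Dm_expand (L : Fin n → ℕ) :
    (Dm (xv n) L).det = ∑ σ : Perm (Fin n),
      ((Perm.sign σ : ℤ) : MvPolynomial (Fin n) ℤ) * monomial (eqv fun k => L (σ k)) 1 := by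
  rw [Matrix.det_apply']
  apply Finset.sum_congr rfl
  intro σ _
  congr 1
  rw [← prod_X_pow_eq]
  rfl

/-- a strictly monotone permutation of `Fin n` is the identity -/
theorem perm_eq_one_of_strictMono {σ : Perm (Fin n)} (h : StrictMono σ) : σ = 1 := by
  have h1 : ∀ i, i ≤ σ i := fun i => h.le_apply
  have h2 : StrictMono (σ⁻¹ : Perm (Fin n)) := by
    intro i j hij
    by_contra hlt
    rw [not_lt] at hlt
    have := h.monotone hlt
    rw [Perm.inv_def, Equiv.apply_symm_apply, Equiv.apply_symm_apply] at this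
    exact absurd hij (not_lt.mpr this)
  have h3 : ∀ i, i ≤ σ⁻¹ i := fun i => h2.le_apply
  ext i
  have := h3 (σ i)
  rw [Perm.inv_def, Equiv.symm_apply_apply] at this
  rw [Perm.one_apply]
  exact congrArg Fin.val (le_antisymm this (h1 i))

theorem coeff_det_Dm {L L' : Fin n → ℕ} (hL : StrictMono L) (hL' : StrictMono L') :
    MvPolynomial.coeff (eqv L') (Dm (xv n) L).det = if L = L' then 1 else 0 := by
  rw [det_Dm_expand, MvPolynomial.coeff_sum]
  have key : ∀ σ : Perm (Fin n), (eqv fun k => L (σ k)) = eqv L' → σ = 1 := by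
    intro σ h
    apply perm_eq_one_of_strictMono
    intro i j hij
    have hi := DFunLike.congr_fun h i
    have hj := DFunLike.congr_fun h j
    rw [eqv_apply, eqv_apply] at hi hj
    have : L (σ i) < L (σ j) := by rw [hi, hj]; exact hL' hij
    exact hL.lt_iff_lt.mp this
  rw [Finset.sum_eq_single (1 : Perm (Fin n))]
  · rw [Perm.sign_one]
    simp only [Units.val_one, Int.cast_one, one_mul, Perm.one_apply]
    rw [MvPolynomial.coeff_monomial]
    by_cases h : L = L'
    · rw [if_pos h, if_pos (by rw [h])]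
    · rw [if_neg h, if_neg]
      intro h'
      apply h
      funext i
      have := DFunLike.congr_fun h' i
      rwa [eqv_apply, eqv_apply] at this
  · intro σ _ hσ
    rw [← eq_intCast (MvPolynomial.C (σ := Fin n) (R := ℤ)), MvPolynomial.coeff_C_mul, MvPolynomial.coeff_monomial, if_neg,
      mul_zero]
    exact fun h => hσ (key σ h)
  · intro h; exact absurd (Finset.mem_univ _) h

/-- orthonormality of the determinantal sums -/
theorem sum_sign_tabCount {L L' : Fin n → ℕ} (hL : StrictMono L) (hL' : StrictMono L') :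
    ∑ κ' : Perm (Fin n), ∑ κ : Perm (Fin n),
      (if (∀ i, (κ i).val ≤ L i) ∧ (∀ i, (κ' i).val ≤ L' i) then
        (Perm.sign κ : ℤ) * (Perm.sign κ' : ℤ) *
          (tabCount (fun i => L i - (κ i).val) (fun i => L' i - (κ' i).val) : ℤ) else 0) =
      if L = L' then 1 else 0 := by
  rw [← coeff_det_Dm hL hL', det_Dm (xv n) L, det_Dm_expand (fun i : Fin n => i.val), Finset.mul_sum,
    MvPolynomial.coeff_sum]
  apply Finset.sum_congr rfl
  intro κ' _
  rw [← mul_assoc, mul_comm _ ((Perm.sign κ' : ℤ) : MvPolynomial (Fin n) ℤ), mul_assoc,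
    ← eq_intCast (MvPolynomial.C (σ := Fin n) (R := ℤ)), MvPolynomial.coeff_C_mul, MvPolynomial.coeff_mul_monomial']
  by_cases hκ' : ∀ i, (κ' i).val ≤ L' i
  · have hle : (eqv fun k : Fin n => ((κ' k).val : ℕ)) ≤ eqv L' := by
      intro i
      exact hκ' i
    rw [if_pos hle, mul_one, det_Mm_expand, MvPolynomial.coeff_sum, Finset.mul_sum]
    apply Finset.sum_congr rfl
    intro κ _
    by_cases hκ : ∀ i, (κ i).val ≤ L i
    · rw [if_pos hκ, if_pos ⟨hκ, hκ'⟩, ← eq_intCast (MvPolynomial.C (σ := Fin n) (R := ℤ)), MvPolynomial.coeff_C_mul]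
      have e : eqv L' - (eqv fun k : Fin n => ((κ' k).val : ℕ)) =
          eqv (fun i => L' i - (κ' i).val) := by
        ext i
        rfl
      rw [e, coeff_prod_hc']
      ring
    · rw [if_neg hκ, if_neg (fun h => hκ h.1), MvPolynomial.coeff_zero, mul_zero]
  · have hle : ¬ (eqv fun k : Fin n => ((κ' k).val : ℕ)) ≤ eqv L' := by
      intro h
      apply hκ'
      intro i
      exact h i
    rw [if_neg hle, mul_zero]
    apply Finset.sum_eq_zero
    intro κ _
    rw [if_neg (fun h => hκ' h.2)]

end Cfsg.Agent.Lib.Helper6.JT
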