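/-
helper6: the alternating sums of flag characters of `GL_n(q)` (`Cfsg.unipotentCharacterGL`) are
orthonormal generalized characters.
-/
import Mathlib
import Cfsg.Agent.S2423
import Cfsg.Agent.Lib.Helper6.GLTabB
import Cfsg.Agent.Lib.Helper6.JT4
import Cfsg.Agent.Lib.Helper6.BNStB

set_option autoImplicit false

namespace Cfsg.Agent.Lib.Helper6.GLUni

open Equiv Cfsg Cfsg.Agent.Lib.Helper6.GLBN Cfsg.Agent.Lib.Helper6.BNSt Cfsg.Agent.Lib.Helper6.JT
  Cfsg.Agent.Lib.Helper6.GLTab
open scoped ComplexConjugate MatrixGroups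

universe u

variable {n : ℕ} {F : Type u} [Field F]

/-- the shifted partition `λ_i = ν_i + i` -/
def shift (ν : Fin n → ℕ) (i : Fin n) : ℕ := ν i + i.val

theorem shift_strictMono {ν : Fin n → ℕ} (h : Monotone ν) : StrictMono (shift ν) := by
  intro i j hij
  unfold shift
  have := h hij.le
  rw [Fin.lt_def] at hij
  omega

theorem shift_injective : Function.Injective (shift : (Fin n → ℕ) → Fin n → ℕ) := by
  intro ν ν' h
  funext i
  have := congrFun h i
  unfold shift at this
  omega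

/-- the composition `λ - κ` -/
def cmp (ν : Fin n → ℕ) (κ : Perm (Fin n)) (i : Fin n) : ℕ := ν i + i.val - (κ i).val

theorem cmp_sum {ν : Fin n → ℕ} (hν : ∑ i, ν i = n) {κ : Perm (Fin n)}
    (hκ : ∀ i, (κ i).val ≤ ν i + i.val) : ∑ i, cmp ν κ i = n := by
  have h1 : ∑ i, cmp ν κ i + ∑ i, (κ i).val = ∑ i, ν i + ∑ i : Fin n, i.val := by
    rw [← Finset.sum_add_distrib, ← Finset.sum_add_distrib]
    apply Finset.sum_congr rfl
    intro i _
    unfold cmp
    exact Nat.sub_add_cancel (hκ i)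
  have h2 : ∑ i, (κ i).val = ∑ i : Fin n, i.val := Equiv.sum_comp κ (fun i : Fin n => i.val)
  rw [h2, hν] at h1
  omega

theorem unipotent_apply (ν : Fin n → ℕ) (g : GL (Fin n) F) :
    Cfsg.unipotentCharacterGL n F ν g = ∑ κ : Perm (Fin n),
      if ∀ i : Fin n, (κ i).val ≤ ν i + i.val then
        ((Perm.sign κ : ℤ) : ℂ) * fixedPointCharacter (Cfsg.parabolicGL n F (cmp ν κ)) g
      else 0 := rfl

theorem unipotent_conj (ν : Fin n → ℕ) (g : GL (Fin n) F) :
    conj (Cfsg.unipotentCharacterGL n F ν g) = Cfsg.unipotentCharacterGL n F ν g := by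
  rw [unipotent_apply, map_sum]
  apply Finset.sum_congr rfl
  intro κ _
  split_ifs
  · rw [map_mul, fixedPointCharacter_apply, Complex.conj_natCast, map_intCast]
  · rw [map_zero]

theorem isGeneralizedCharacter_unipotent [Fintype F] [DecidableEq F] (ν : Fin n → ℕ) :
    IsGeneralizedCharacter (GL (Fin n) F) (Cfsg.unipotentCharacterGL n F ν) := by
  classical
  refine ⟨∑ κ ∈ Finset.univ.filter (fun κ : Perm (Fin n) =>
        (∀ i : Fin n, (κ i).val ≤ ν i + i.val) ∧ Perm.sign κ = 1),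
      fixedPointCharacter (Cfsg.parabolicGL n F (cmp ν κ)),
    ∑ κ ∈ Finset.univ.filter (fun κ : Perm (Fin n) =>
        (∀ i : Fin n, (κ i).val ≤ ν i + i.val) ∧ Perm.sign κ = -1),
      fixedPointCharacter (Cfsg.parabolicGL n F (cmp ν κ)), ?_, ?_, ?_⟩
  · exact Cfsg.Agent.CharLib.IsCharacter.sum _ (fun κ _ => isCharacter_fixedPointCharacter _)
  · exact Cfsg.Agent.CharLib.IsCharacter.sum _ (fun κ _ => isCharacter_fixedPointCharacter _)
  · funext g
    rw [unipotent_apply]
    simp only [Pi.sub_apply, Finset.sum_apply]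
    rw [Finset.sum_filter, Finset.sum_filter, ← Finset.sum_sub_distrib]
    apply Finset.sum_congr rfl
    intro κ _
    by_cases h : ∀ i : Fin n, (κ i).val ≤ ν i + i.val
    · rw [if_pos h]
      rcases Int.units_eq_one_or (Perm.sign κ) with h1 | h1
      · rw [if_pos ⟨h, h1⟩, if_neg (fun h' => by rw [h1] at h'; exact absurd h'.2 (by decide)), h1]
        simp
      · rw [if_neg (fun h' => by rw [h1] at h'; exact absurd h'.2 (by decide)), if_pos ⟨h, h1⟩, h1]
        simp
    · rw [if_neg h, if_neg (fun h' => h h'.1), if_neg (fun h' => h h'.1), sub_zero]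

/-- the inner products of the alternating sums -/
theorem classInner_unipotent [Fintype F] [DecidableEq F] {ν ν' : Fin n → ℕ} (hmono : Monotone ν)
    (hsum : ∑ i, ν i = n) (hmono' : Monotone ν') (hsum' : ∑ i, ν' i = n) :
    classInner (Cfsg.unipotentCharacterGL n F ν) (Cfsg.unipotentCharacterGL n F ν') =
      if ν = ν' then 1 else 0 := by
  classical
  unfold classInner
  -- expand the product
  have h1 : ∀ g : GL (Fin n) F, Cfsg.unipotentCharacterGL n F ν g *
      conj (Cfsg.unipotentCharacterGL n F ν' g) =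
      ∑ κ : Perm (Fin n), ∑ κ' : Perm (Fin n),
        if (∀ i : Fin n, (κ i).val ≤ ν i + i.val) ∧ (∀ i : Fin n, (κ' i).val ≤ ν' i + i.val) then
          (((Perm.sign κ : ℤ) : ℂ) * ((Perm.sign κ' : ℤ) : ℂ)) *
            (fixedPointCharacter (Cfsg.parabolicGL n F (cmp ν κ)) g *
              fixedPointCharacter (Cfsg.parabolicGL n F (cmp ν' κ')) g)
        else 0 := by
    intro g
    rw [unipotent_conj, unipotent_apply, unipotent_apply, Finset.sum_mul_sum]
    apply Finset.sum_congr rfl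
    intro κ _
    apply Finset.sum_congr rfl
    intro κ' _
    by_cases h : ∀ i : Fin n, (κ i).val ≤ ν i + i.val
    · by_cases h' : ∀ i : Fin n, (κ' i).val ≤ ν' i + i.val
      · rw [if_pos h, if_pos h', if_pos ⟨h, h'⟩]
        ring
      · rw [if_neg h', mul_zero]
        rw [if_neg (show ¬ ((∀ i : Fin n, (κ i).val ≤ ν i + i.val) ∧
          (∀ i : Fin n, (κ' i).val ≤ ν' i + i.val)) from fun hh => h' hh.2)]
    · rw [if_neg h, zero_mul]
      rw [if_neg (show ¬ ((∀ i : Fin n, (κ i).val ≤ ν i + i.val) ∧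
          (∀ i : Fin n, (κ' i).val ≤ ν' i + i.val)) from fun hh => h hh.1)]
  rw [Finset.sum_congr rfl (fun g _ => h1 g), Finset.sum_comm, Finset.mul_sum]
  have h2 : ∀ κ : Perm (Fin n), (Nat.card (GL (Fin n) F) : ℂ)⁻¹ *
      (∑ g : GL (Fin n) F, ∑ κ' : Perm (Fin n),
        if (∀ i : Fin n, (κ i).val ≤ ν i + i.val) ∧ (∀ i : Fin n, (κ' i).val ≤ ν' i + i.val) then
          (((Perm.sign κ : ℤ) : ℂ) * ((Perm.sign κ' : ℤ) : ℂ)) *
            (fixedPointCharacter (Cfsg.parabolicGL n F (cmp ν κ)) g *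
              fixedPointCharacter (Cfsg.parabolicGL n F (cmp ν' κ')) g)
        else 0) =
      ∑ κ' : Perm (Fin n),
        (((if (∀ i : Fin n, (κ i).val ≤ ν i + i.val) ∧ (∀ i : Fin n, (κ' i).val ≤ ν' i + i.val) then
          (Perm.sign κ : ℤ) * (Perm.sign κ' : ℤ) *
            (tabCount (fun i => shift ν i - (κ i).val) (fun i => shift ν' i - (κ' i).val) : ℤ)
          else 0 : ℤ)) : ℂ) := by
    intro κ
    rw [Finset.sum_comm, Finset.mul_sum]
    apply Finset.sum_congr rfl
    intro κ' _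
    by_cases h : (∀ i : Fin n, (κ i).val ≤ ν i + i.val) ∧ (∀ i : Fin n, (κ' i).val ≤ ν' i + i.val)
    · simp only [if_pos h]
      rw [← Finset.mul_sum, mul_left_comm, Cfsg.Agent.S2423.inner_GL,
        card_red_eq_tabCount _ _ (cmp_sum hsum h.1) (cmp_sum hsum' h.2)]
      push_cast
      rfl
    · simp only [if_neg h]
      simp
  rw [Finset.sum_congr rfl (fun κ _ => h2 κ), Finset.sum_comm]
  have key := sum_sign_tabCount (shift_strictMono hmono) (shift_strictMono hmono')
  have key' := congrArg (fun z : ℤ => (z : ℂ)) key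
  simp only [Int.cast_sum] at key'
  have e : (∑ κ' : Perm (Fin n), ∑ κ : Perm (Fin n),
      (((if (∀ i : Fin n, (κ i).val ≤ ν i + i.val) ∧ (∀ i : Fin n, (κ' i).val ≤ ν' i + i.val) then
          (Perm.sign κ : ℤ) * (Perm.sign κ' : ℤ) *
            (tabCount (fun i => shift ν i - (κ i).val) (fun i => shift ν' i - (κ' i).val) : ℤ)
          else 0 : ℤ)) : ℂ)) =
      ∑ κ' : Perm (Fin n), ∑ κ : Perm (Fin n),
      (((if (∀ i : Fin n, (κ i).val ≤ shift ν i) ∧ (∀ i : Fin n, (κ' i).val ≤ shift ν' i) then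
          (Perm.sign κ : ℤ) * (Perm.sign κ' : ℤ) *
            (tabCount (fun i => shift ν i - (κ i).val) (fun i => shift ν' i - (κ' i).val) : ℤ)
          else 0 : ℤ)) : ℂ) := rfl
  rw [e, key']
  by_cases h : ν = ν'
  · rw [if_pos h, if_pos (by rw [h])]
    simp
  · rw [if_neg h, if_neg (fun h' => h (shift_injective h'))]
    simp

end Cfsg.Agent.Lib.Helper6.GLUni
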