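/-
helper6: the alternating sum of flag characters of `GL_n(q)` for the partition `(1,…,1)` is the
Steinberg function `stGL` (the alternating sum over the standard parabolic subgroups).
-/
import Mathlib
import Cfsg.Agent.S2421
import Cfsg.Agent.Lib.Helper6.GLStB
import Cfsg.Agent.Lib.Helper6.GLUniA

set_option autoImplicit false
set_option linter.unusedSectionVars false

namespace Cfsg.Agent.Lib.Helper6.GLStV

open Cfsg Cfsg.Agent.Lib.Helper3.BN Cfsg.Agent.Lib.Helper3.WordLen Cfsg.Agent.Lib.Helper6.CoxRed
  Cfsg.Agent.Lib.Helper6.BNSt Cfsg.Agent.Lib.Helper6.GLBN Cfsg.Agent.Lib.Helper6.GLSt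
  Cfsg.Agent.Lib.Helper6.GLUni Cfsg.Agent.Lib.Helper6.GLTab
open scoped ComplexConjugate MatrixGroups

universe u

section abstract

variable {G : Type u} [Group G] (P : Cfsg.BNPair G) (Sfin : Finset G)
  (hSfin : (Sfin : Set G) = P.S)
include hSfin

/-- the multiplicity of the Steinberg function in a parabolic permutation character -/
theorem classInner_fixedPoint_stFun [Fintype G] [DecidableEq G] (J : Finset G) (hJ : J ⊆ Sfin) :
    classInner (fixedPointCharacter (P.parabolic (J : Set G))) (stFun P Sfin) =
      if J = ∅ then 1 else 0 := by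
  classical
  have : Fintype (W P) := Fintype.ofFinite _
  unfold classInner
  have hsub : ∀ K ∈ Sfin.powerset, ((K : Finset G) : Set G) ⊆ P.S := by
    intro K hK s hs
    exact mem_S_of_mem P Sfin hSfin (Finset.mem_powerset.mp hK hs)
  have hJ' : ((J : Finset G) : Set G) ⊆ P.S := hsub J (Finset.mem_powerset.mpr hJ)
  have h1 : ∀ g : G, fixedPointCharacter (P.parabolic (J : Set G)) g * conj (stFun P Sfin g) =
      ∑ K ∈ Sfin.powerset, (-1 : ℂ) ^ K.card *
          ((Nat.card (MulAction.fixedBy (G ⧸ P.parabolic (J : Set G)) g) *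
            Nat.card (MulAction.fixedBy (G ⧸ P.parabolic (K : Set G)) g) : ℕ) : ℂ) := by
    intro g
    rw [stFun_conj]
    unfold stFun
    rw [Finset.mul_sum]
    apply Finset.sum_congr rfl
    intro K _
    rw [fixedPointCharacter_apply, fixedPointCharacter_apply]
    push_cast
    ring
  rw [Finset.sum_congr rfl (fun g _ => h1 g), Finset.sum_comm]
  have h2 : ∀ K ∈ Sfin.powerset, (∑ g : G, (-1 : ℂ) ^ K.card *
          ((Nat.card (MulAction.fixedBy (G ⧸ P.parabolic (J : Set G)) g) *
            Nat.card (MulAction.fixedBy (G ⧸ P.parabolic (K : Set G)) g) : ℕ) : ℂ)) =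
      (Nat.card G : ℂ) * ((((-1 : ℤ) ^ K.card *
        (Nat.card (Red P (J : Set G) (K : Set G)) : ℤ) : ℤ)) : ℂ) := by
    intro K hK
    rw [← Finset.mul_sum, ← Nat.cast_sum]
    have : Fintype (Red P (J : Set G) (K : Set G)) := Fintype.ofFinite _
    rw [sum_card_fixedBy_mul P hJ' (hsub K hK), Nat.card_eq_fintype_card,
      Nat.card_eq_fintype_card]
    push_cast
    ring
  rw [Finset.sum_congr rfl h2, ← Finset.mul_sum, ← mul_assoc]
  have hG : (Nat.card G : ℂ) ≠ 0 := by
    exact_mod_cast (Nat.card_pos (α := G)).ne'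
  rw [inv_mul_cancel₀ hG, one_mul, ← Int.cast_sum]
  have h3 : (∑ K ∈ Sfin.powerset, (-1 : ℤ) ^ K.card *
        (Nat.card (Red P (J : Set G) (K : Set G)) : ℤ)) = if J = ∅ then 1 else 0 := by
    have h4 : ∀ K ∈ Sfin.powerset, (-1 : ℤ) ^ K.card *
        (Nat.card (Red P (J : Set G) (K : Set G)) : ℤ) =
        ∑ w : W P, (if J ⊆ AL P Sfin w then 1 else 0) *
          ((-1 : ℤ) ^ K.card * (if K ⊆ AR P Sfin w then 1 else 0)) := by
      intro K hK
      rw [card_red_eq P Sfin hSfin J K hJ (Finset.mem_powerset.mp hK), Finset.mul_sum]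
      apply Finset.sum_congr rfl
      intro w _
      ring
    rw [Finset.sum_congr rfl h4, Finset.sum_comm]
    have h5 : ∀ w : W P, (∑ K ∈ Sfin.powerset, (if J ⊆ AL P Sfin w then (1 : ℤ) else 0) *
          ((-1 : ℤ) ^ K.card * (if K ⊆ AR P Sfin w then 1 else 0))) =
        if w = w0 P then (if J = ∅ then 1 else 0) else 0 := by
      intro w
      rw [← Finset.mul_sum, sum_powerset_indicator Sfin _ (AR_subset P Sfin w)]
      by_cases h : w = w0 P
      · rw [if_pos ((AR_eq_empty_iff_eq P Sfin hSfin w).mpr h), if_pos h, mul_one,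
          (AL_eq_empty_iff_eq P Sfin hSfin w).mpr h]
        by_cases hJe : J = ∅
        · rw [if_pos hJe, if_pos (by rw [hJe])]
        · rw [if_neg hJe, if_neg (fun h' => hJe (Finset.subset_empty.mp h'))]
      · rw [if_neg (fun h' => h ((AR_eq_empty_iff_eq P Sfin hSfin w).mp h')), if_neg h, mul_zero]
    rw [Finset.sum_congr rfl (fun w _ => h5 w)]
    simp
  rw [h3]
  split_ifs <;> simp

theorem classInner_fixedPoint_stFun_empty [Fintype G] :
    classInner (fixedPointCharacter (P.parabolic ((∅ : Finset G) : Set G))) (stFun P Sfin) = 1 := by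
  classical
  rw [classInner_fixedPoint_stFun P Sfin hSfin ∅ (Finset.empty_subset _), if_pos rfl]

theorem classInner_fixedPoint_stFun_nonempty [Fintype G] (J : Finset G) (hJ : J ⊆ Sfin)
    (hne : J.Nonempty) :
    classInner (fixedPointCharacter (P.parabolic (J : Set G))) (stFun P Sfin) = 0 := by
  classical
  rw [classInner_fixedPoint_stFun P Sfin hSfin J hJ, if_neg (Finset.nonempty_iff_ne_empty.mp hne)]

end abstract

variable {n : ℕ} {F : Type u} [Field F]

/-- the composition of all ones has no simple reflection in its parabolic -/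
theorem Jset_ones (hn : ∑ _i : Fin n, 1 = n) : Jset F (fun _ : Fin n => 1) = ∅ := by
  ext s
  simp only [Set.mem_empty_iff_false, iff_false]
  rintro ⟨hs, hp⟩
  rw [glBN_S] at hs
  obtain ⟨k, k', hk, rfl⟩ := hs
  rw [← permGL_swap, permGL_mem_parabolicGL_iff, mem_young_iff _ hn] at hp
  have h1 := hp k
  rw [Equiv.swap_apply_left] at h1
  -- the labelling is injective
  have hcard := lab_card (fun _ : Fin n => 1) hn (lab (fun _ : Fin n => 1) hn k)
  have hle : Fintype.card {y : Fin n // lab (fun _ : Fin n => 1) hn y =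
      lab (fun _ : Fin n => 1) hn k} ≤ 1 := hcard.le
  rw [Fintype.card_le_one_iff] at hle
  have := hle ⟨k', h1⟩ ⟨k, rfl⟩
  have h2 : k' = k := congrArg Subtype.val this
  rw [h2] at hk
  omega

/-- a composition with a part at least `2` has a simple reflection in its parabolic -/
theorem Jset_nonempty (μ : Fin n → ℕ) (hμ : ∑ i, μ i = n) (i : Fin n) (hi : 2 ≤ μ i) :
    (Jset F μ).Nonempty := by
  classical
  have hcard := lab_card μ hμ i
  have h2 : 1 < Fintype.card {y : Fin n // lab μ hμ y = i} := by omega
  rw [Fintype.one_lt_card_iff] at h2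
  obtain ⟨⟨a, ha⟩, ⟨b, hb⟩, hab⟩ := h2
  have hab' : a ≠ b := fun h => hab (Subtype.ext h)
  -- wlog a < b
  have key : ∀ a b : Fin n, lab μ hμ a = i → lab μ hμ b = i → a < b → (Jset F μ).Nonempty := by
    intro a b ha hb hlt
    have hlt' : a.val + 1 < n + 1 := by
      have := b.isLt
      rw [Fin.lt_def] at hlt
      omega
    have hlt2 : a.val + 1 < n := by
      have := b.isLt
      rw [Fin.lt_def] at hlt
      omega
    set a' : Fin n := ⟨a.val + 1, hlt2⟩ with ha'
    have h3 : a ≤ a' := by rw [Fin.le_def]; simp [ha']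
    have h4 : a' ≤ b := by rw [Fin.le_def]; rw [Fin.lt_def] at hlt; simp [ha']; omega
    have h5 : Cfsg.compLabel μ a' = Cfsg.compLabel μ a := by
      apply le_antisymm
      · have h6 := compLabel_mono μ h4
        have h7 : Cfsg.compLabel μ b = Cfsg.compLabel μ a := by
          have e1 := congrArg Fin.val hb
          have e2 := congrArg Fin.val ha
          simp only [lab] at e1 e2
          omega
        omega
      · exact compLabel_mono μ h3
    refine ⟨sG a a', ?_, ?_⟩
    · rw [glBN_S]
      exact ⟨a, a', rfl, rfl⟩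
    · rw [← permGL_swap, permGL_mem_parabolicGL_iff]
      intro x
      by_cases hxa : x = a
      · rw [hxa, Equiv.swap_apply_left, h5]
      · by_cases hxa' : x = a'
        · rw [hxa', Equiv.swap_apply_right, h5]
        · rw [Equiv.swap_apply_of_ne_of_ne hxa hxa']
  rcases lt_or_gt_of_ne hab' with h | h
  · exact key a b ha hb h
  · exact key b a hb ha h

variable [Fintype F] [DecidableEq F]

/-- for `κ ≠ 1` below the staircase, the composition has a part at least `2` -/
theorem exists_part_two {κ : Equiv.Perm (Fin n)} (hκ : ∀ i : Fin n, (κ i).val ≤ 1 + i.val)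
    (hne : κ ≠ 1) : ∃ i, 2 ≤ GLUni.cmp (fun _ : Fin n => 1) κ i := by
  by_contra hcon
  simp only [not_exists, not_le] at hcon
  have hn : ∑ _i : Fin n, 1 = n := by simp
  have hsum := cmp_sum (ν := fun _ : Fin n => 1) hn (κ := κ) hκ
  -- all parts are exactly one
  have hall : ∀ i, GLUni.cmp (fun _ : Fin n => 1) κ i = 1 := by
    by_contra h
    simp only [not_forall] at h
    obtain ⟨j, hj⟩ := h
    have hlt : ∑ i, GLUni.cmp (fun _ : Fin n => 1) κ i < ∑ _i : Fin n, 1 := by
      apply Finset.sum_lt_sum
      · intro i _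
        have := hcon i
        omega
      · exact ⟨j, Finset.mem_univ j, by have := hcon j; omega⟩
    rw [hsum, hn] at hlt
    exact lt_irrefl _ hlt
  apply hne
  ext i
  have h1 := hall i
  have h2 := hκ i
  unfold GLUni.cmp at h1
  simp only [Equiv.Perm.coe_one, id_eq]
  have h1' : 1 + i.val - (κ i).val = 1 := h1
  omega

theorem classInner_unipotent_stGL :
    classInner (Cfsg.unipotentCharacterGL n F (fun _ => 1)) (stGL n F) = 1 := by
  classical
  have hn : ∑ _i : Fin n, 1 = n := by simp
  have hfun : Cfsg.unipotentCharacterGL n F (fun _ => 1) =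
      fun g => ∑ κ : Equiv.Perm (Fin n),
        if ∀ i : Fin n, (κ i).val ≤ 1 + i.val then
          ((Equiv.Perm.sign κ : ℤ) : ℂ) *
            fixedPointCharacter (Cfsg.parabolicGL n F (GLUni.cmp (fun _ => 1) κ)) g
        else 0 := by
    funext g
    exact unipotent_apply _ g
  rw [hfun]
  unfold classInner
  have h1 : ∀ g : GL (Fin n) F, (∑ κ : Equiv.Perm (Fin n),
        if ∀ i : Fin n, (κ i).val ≤ 1 + i.val then
          ((Equiv.Perm.sign κ : ℤ) : ℂ) *
            fixedPointCharacter (Cfsg.parabolicGL n F (GLUni.cmp (fun _ => 1) κ)) g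
        else 0) * conj (stGL n F g) =
      ∑ κ : Equiv.Perm (Fin n),
        if ∀ i : Fin n, (κ i).val ≤ 1 + i.val then
          ((Equiv.Perm.sign κ : ℤ) : ℂ) *
            (fixedPointCharacter (Cfsg.parabolicGL n F (GLUni.cmp (fun _ => 1) κ)) g *
              conj (stGL n F g))
        else 0 := by
    intro g
    rw [Finset.sum_mul]
    apply Finset.sum_congr rfl
    intro κ _
    split_ifs
    · ring
    · rw [zero_mul]
  rw [Finset.sum_congr rfl (fun g _ => h1 g), Finset.sum_comm, Finset.mul_sum]
  have h2 : ∀ κ : Equiv.Perm (Fin n), (Nat.card (GL (Fin n) F) : ℂ)⁻¹ *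
      (∑ g : GL (Fin n) F, if ∀ i : Fin n, (κ i).val ≤ 1 + i.val then
          ((Equiv.Perm.sign κ : ℤ) : ℂ) *
            (fixedPointCharacter (Cfsg.parabolicGL n F (GLUni.cmp (fun _ => 1) κ)) g *
              conj (stGL n F g))
        else 0) = if κ = 1 then 1 else 0 := by
    intro κ
    by_cases hκ : ∀ i : Fin n, (κ i).val ≤ 1 + i.val
    · simp only [if_pos hκ]
      rw [← Finset.mul_sum, mul_left_comm]
      have hμ := cmp_sum (ν := fun _ : Fin n => 1) hn (κ := κ) hκ
      have hJfin : (Jset F (GLUni.cmp (fun _ : Fin n => 1) κ)).Finite := Set.toFinite _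
      have hJsub : hJfin.toFinset ⊆ SfinGL n F := by
        intro s hs
        rw [Set.Finite.mem_toFinset] at hs
        have : s ∈ ((SfinGL n F : Finset _) : Set (GL (Fin n) F)) := by
          rw [coe_SfinGL]; exact hs.1
        exact this
      by_cases h1 : κ = 1
      · rw [if_pos h1]
        have hc : GLUni.cmp (fun _ : Fin n => 1) κ = fun _ => 1 := by
          funext i
          unfold GLUni.cmp
          rw [h1]
          simp
        have hemp : hJfin.toFinset = ∅ := by
          rw [← Finset.coe_eq_empty, Set.Finite.coe_toFinset, hc]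
          exact Jset_ones hn
        have h3 := classInner_fixedPoint_stFun_empty (glBN n F) (SfinGL n F) coe_SfinGL
        rw [← hemp, Set.Finite.coe_toFinset, ← parabolicGL_eq] at h3
        unfold classInner at h3
        have h3' : (Nat.card (GL (Fin n) F) : ℂ)⁻¹ *
            ∑ g : GL (Fin n) F,
              fixedPointCharacter (Cfsg.parabolicGL n F (GLUni.cmp (fun _ => 1) κ)) g *
              conj (stGL n F g) = 1 := h3
        rw [h3', h1]
        simp
      · rw [if_neg h1]
        obtain ⟨i, hi⟩ := exists_part_two hκ h1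
        have hne : hJfin.toFinset.Nonempty := by
          rw [Set.Finite.toFinset_nonempty]
          exact Jset_nonempty _ hμ i hi
        have h3 := classInner_fixedPoint_stFun_nonempty (glBN n F) (SfinGL n F) coe_SfinGL
          hJfin.toFinset hJsub hne
        rw [Set.Finite.coe_toFinset, ← parabolicGL_eq] at h3
        unfold classInner at h3
        have h3' : (Nat.card (GL (Fin n) F) : ℂ)⁻¹ *
            ∑ g : GL (Fin n) F,
              fixedPointCharacter (Cfsg.parabolicGL n F (GLUni.cmp (fun _ => 1) κ)) g *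
              conj (stGL n F g) = 0 := h3
        rw [h3', mul_zero]
    · simp only [if_neg hκ]
      rw [Finset.sum_const_zero, mul_zero]
      rw [if_neg]
      rintro rfl
      apply hκ
      intro i
      simp
  rw [Finset.sum_congr rfl (fun κ _ => h2 κ)]
  simp

/-- the alternating sum for the partition `(1,…,1)` is the Steinberg function -/
theorem unipotent_ones_eq_stGL :
    Cfsg.unipotentCharacterGL n F (fun _ => 1) = stGL n F := by
  classical
  have hn : ∑ _i : Fin n, 1 = n := by simp
  have h1 : IsIrrCharacter (GL (Fin n) F) (Cfsg.unipotentCharacterGL n F (fun _ => 1)) :=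
    Cfsg.Agent.S2421.result (fun _ => 1) (fun _ _ _ => le_refl _) hn
  have h2 : IsIrrCharacter (GL (Fin n) F) (stGL n F) :=
    isIrrCharacter_stFun (glBN n F) (SfinGL n F) coe_SfinGL
  have h3 := Cfsg.Agent.CharLib.classInner_irr h1 h2
  rw [classInner_unipotent_stGL] at h3
  by_contra hne
  rw [if_neg hne] at h3
  exact one_ne_zero h3

end Cfsg.Agent.Lib.Helper6.GLStV
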