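/-
helper6: products of Galois conjugate characters, part A. For a character `χ` put
`sq χ = χ χ̄` and `tw k f = f ∘ (· ^ k)`. The norm of `g ↦ χ(g) χ(g^k)` is `[sq χ, tw k (sq χ)]`;
two characters with a common part `1 + β` have inner product at least `2`.
-/
import Mathlib
import Cfsg.Agent.Lib.Helper6.CliffordCorrGen
import Cfsg.Agent.Lib.Helper6.Gallagher
import Cfsg.Agent.Lib.Helper6.Gallagher2
import Cfsg.Agent.Lib.Helper6.LinChar
import Cfsg.Agent.Lib.Helper23.GaloisChar
import Cfsg.Agent.Lib.Lead.CharEquiv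

set_option autoImplicit false

namespace Cfsg.Agent.Lib.Helper6.GalProd

open Cfsg Cfsg.Agent.CharLib Cfsg.Agent.Lib.Helper6 Cfsg.Agent.Lib.Helper23
open scoped ComplexConjugate

universe u

variable {G : Type u} [Group G] [Fintype G]

/-- `χ χ̄`. -/
noncomputable def sq (χ : G → ℂ) : G → ℂ := fun g => χ g * conj (χ g)

/-- The power twist `g ↦ f (g ^ k)`. -/
def tw (k : ℕ) (f : G → ℂ) : G → ℂ := fun g => f (g ^ k)

theorem sq_apply (χ : G → ℂ) (g : G) : sq χ g = χ g * conj (χ g) := rfl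

theorem tw_apply (k : ℕ) (f : G → ℂ) (g : G) : tw k f g = f (g ^ k) := rfl

theorem isCharacter_sq {χ : G → ℂ} (hχ : IsCharacter G χ) : IsCharacter G (sq χ) :=
  IsCharacter.mul hχ (IsCharacter.conj hχ)

theorem isCharacter_tw {f : G → ℂ} (hf : IsCharacter G f) (k : ℕ) (hk : k.Coprime (Nat.card G)) :
    IsCharacter G (tw k f) :=
  isCharacter_comp_pow hf k hk

/-- The norm of the product of `χ` with its power twist. -/
theorem classInner_prod_eq (χ : G → ℂ) (k : ℕ) :
    classInner (fun g => χ g * χ (g ^ k)) (fun g => χ g * χ (g ^ k)) =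
      classInner (sq χ) (tw k (sq χ)) := by
  unfold classInner sq tw
  congr 1
  apply Finset.sum_congr rfl
  intro g _
  simp only [map_mul, Complex.conj_conj]
  ring

theorem classInner_sq_one (χ : G → ℂ) : classInner (sq χ) (1 : G → ℂ) = classInner χ χ := by
  unfold classInner sq
  congr 1
  apply Finset.sum_congr rfl
  intro g _
  simp

theorem classInner_tw_one (f : G → ℂ) (k : ℕ) (hk : k.Coprime (Nat.card G)) :
    classInner (tw k f) (1 : G → ℂ) = classInner f (1 : G → ℂ) := by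
  unfold classInner tw
  congr 1
  have h2 := Equiv.sum_comp (powCoprime hk.symm) (fun g => f g * conj ((1 : G → ℂ) g))
  rw [← h2]
  apply Finset.sum_congr rfl
  intro g _
  simp [powCoprime]

/-- Two characters both containing `1 + β` do not have inner product `1`. -/
theorem classInner_ne_one_of_common {ξ ξ' β : G → ℂ} (hξ : IsCharacter G ξ)
    (hξ' : IsCharacter G ξ') (hβ : IsIrrCharacter G β)
    (h1 : classInner ξ (1 : G → ℂ) ≠ 0) (h1' : classInner ξ' (1 : G → ℂ) ≠ 0)
    (h2 : classInner (ξ - 1) β ≠ 0) (h2' : classInner (ξ' - 1) β ≠ 0) :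
    classInner ξ ξ' ≠ 1 := by
  have hone : IsIrrCharacter G (1 : G → ℂ) := isIrrCharacter_one G
  have hA := IsCharacter.sub_constituent hξ hone h1
  have hA' := IsCharacter.sub_constituent hξ' hone h1'
  have hB := IsCharacter.sub_constituent hA hβ h2
  have hB' := IsCharacter.sub_constituent hA' hβ h2'
  have hα : IsCharacter G (1 + β) :=
    IsCharacter.add (IsIrrCharacter.isCharacter hone) (IsIrrCharacter.isCharacter hβ)
  obtain ⟨Ξ, hΞ, e1⟩ : ∃ Ξ : G → ℂ, IsCharacter G Ξ ∧ ξ = (1 + β) + Ξ :=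
    ⟨ξ - 1 - β, hB, by abel⟩
  obtain ⟨Ξ', hΞ', e1'⟩ : ∃ Ξ' : G → ℂ, IsCharacter G Ξ' ∧ ξ' = (1 + β) + Ξ' :=
    ⟨ξ' - 1 - β, hB', by abel⟩
  obtain ⟨n2, hn2⟩ := IsCharacter.classInner_nat hα hΞ'
  obtain ⟨n3, hn3⟩ := IsCharacter.classInner_nat hΞ hα
  obtain ⟨n4, hn4⟩ := IsCharacter.classInner_nat hΞ hΞ'
  have hαα : ∃ n1 : ℕ, 2 ≤ n1 ∧ classInner ((1 : G → ℂ) + β) (1 + β) = n1 := by
    rw [classInner_add_left, classInner_add_right, classInner_add_right, classInner_irr hone hone,
      classInner_irr hone hβ, classInner_irr hβ hone, classInner_irr hβ hβ, if_pos rfl, if_pos rfl]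
    by_cases h : (1 : G → ℂ) = β
    · rw [if_pos h, if_pos h.symm]
      exact ⟨4, by norm_num, by norm_num⟩
    · rw [if_neg h, if_neg (Ne.symm h)]
      exact ⟨2, le_refl _, by norm_num⟩
  obtain ⟨n1, hn1, hn1'⟩ := hαα
  have expand : ∀ a b c d : G → ℂ, classInner (a + b) (c + d) =
      classInner a c + classInner a d + (classInner b c + classInner b d) := by
    intro a b c d
    rw [classInner_add_left, classInner_add_right, classInner_add_right]
  intro h
  rw [e1, e1', expand, hn1', hn2, hn3, hn4] at h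
  have : n1 + n2 + (n3 + n4) = 1 := by exact_mod_cast h
  omega

end Cfsg.Agent.Lib.Helper6.GalProd
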