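/-
helper6: products of Galois conjugate characters, part B. If `g ↦ χ(g) χ(g^k)` is irreducible
(`χ ∈ Irr(G)`, `k` prime to `|G|`) then `χ` is not induced from a proper subgroup, and there is no
pair `(T, c)` of a subgroup with a nontrivial linear character `c` such that `χ` vanishes where
`c ≠ 1` and `c^G` is irreducible.
-/
import Mathlib
import Cfsg.Agent.Lib.Helper6.GalProdA

set_option autoImplicit false

namespace Cfsg.Agent.Lib.Helper6.GalProd

open Cfsg Cfsg.Agent.CharLib Cfsg.Agent.Lib.Helper6 Cfsg.Agent.Lib.Helper23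
open scoped ComplexConjugate

universe u

variable {G : Type u} [Group G] [Fintype G]

theorem indFun_add (H : Subgroup G) (θ φ : H → ℂ) :
    indFun H (θ + φ) = indFun H θ + indFun H φ := by
  classical
  funext g
  rw [Pi.add_apply, indFun_apply, indFun_apply, indFun_apply, ← mul_add, ← Finset.sum_add_distrib]
  congr 1
  apply Finset.sum_congr rfl
  intro x _
  by_cases hmem : x⁻¹ * g * x ∈ H
  · rw [extendByZero_mem H _ hmem, extendByZero_mem H _ hmem, extendByZero_mem H _ hmem,
      Pi.add_apply]
  · rw [extendByZero_not_mem H _ hmem, extendByZero_not_mem H _ hmem,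
      extendByZero_not_mem H _ hmem, add_zero]

theorem tw_add (k : ℕ) (a b : G → ℂ) : tw k (a + b) = tw k a + tw k b := rfl

/-- Membership of a power with exponent prime to the group order. -/
theorem pow_mem_iff (T : Subgroup G) (k : ℕ) (hk : k.Coprime (Nat.card G)) (y : G) :
    y ^ k ∈ T ↔ y ∈ T := by
  constructor
  · intro h
    have h1 : y = (powCoprime hk.symm).symm (y ^ k) :=
      ((powCoprime hk.symm).symm_apply_apply y).symm
    rw [h1]
    change (y ^ k) ^ ((Nat.card G).gcdB k) ∈ T
    exact T.zpow_mem h _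
  · intro h
    exact T.pow_mem h k

/-- The permutation character is invariant under power twists. -/
theorem tw_indFun_one (T : Subgroup G) (k : ℕ) (hk : k.Coprime (Nat.card G)) :
    tw k (indFun T (1 : T → ℂ)) = indFun T (1 : T → ℂ) := by
  classical
  funext g
  rw [tw_apply, indFun_apply, indFun_apply]
  congr 1
  apply Finset.sum_congr rfl
  intro x _
  have hconj : x⁻¹ * g ^ k * x = (x⁻¹ * g * x) ^ k := by
    have := conj_pow (a := x⁻¹) (b := g) (i := k)
    rw [inv_inv] at this
    exact this.symm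
  rw [hconj]
  by_cases hmem : x⁻¹ * g * x ∈ T
  · rw [extendByZero_mem T _ hmem, extendByZero_mem T _ ((pow_mem_iff T k hk _).mpr hmem)]
    rfl
  · rw [extendByZero_not_mem T _ hmem,
      extendByZero_not_mem T _ (fun h => hmem ((pow_mem_iff T k hk _).mp h))]

/-- A sum of values of `χ χ̄` containing the identity is nonzero. -/
theorem sum_sq_ne_zero {ι : Type*} [Fintype ι] (f : ι → ℂ) (i₀ : ι) (h0 : f i₀ ≠ 0) :
    ∑ i, f i * conj (f i) ≠ 0 := by
  have h1 : ∑ i, f i * conj (f i) = ((∑ i, Complex.normSq (f i) : ℝ) : ℂ) := by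
    push_cast
    apply Finset.sum_congr rfl
    intro i _
    exact Complex.mul_conj (f i)
  rw [h1]
  have h2 : 0 < ∑ i, Complex.normSq (f i) := by
    apply lt_of_lt_of_le (Complex.normSq_pos.mpr h0)
    exact Finset.single_le_sum (f := fun i => Complex.normSq (f i))
      (fun i _ => Complex.normSq_nonneg _) (Finset.mem_univ i₀)
  exact_mod_cast h2.ne'

/-- **Primitivity**: if `g ↦ χ(g) χ(g^k)` is irreducible then `χ` is not induced from a proper
subgroup. -/
theorem not_irr_of_induced {χ : G → ℂ} (hχ : IsIrrCharacter G χ) (k : ℕ)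
    (hk : k.Coprime (Nat.card G)) (T : Subgroup G) (hT : T ≠ ⊤) (ψ : T → ℂ)
    (hψ : IsIrrCharacter T ψ) (hind : indFun T ψ = χ) :
    ¬ IsIrrCharacter G (fun g => χ g * χ (g ^ k)) := by
  classical
  let _ : Fintype T := Fintype.ofFinite T
  intro hη
  have hnorm := classInner_irr hη hη
  rw [if_pos rfl, classInner_prod_eq] at hnorm
  have hχc : IsCharacter G χ := IsIrrCharacter.isCharacter hχ
  have hψc : IsCharacter T ψ := IsIrrCharacter.isCharacter hψ
  have hχcl : IsClassFunction G χ := IsCharacter.isClassFunction hχc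
  have hχχ : classInner χ χ = 1 := by rw [classInner_irr hχ hχ, if_pos rfl]
  have hψψ : classInner ψ ψ = 1 := by rw [classInner_irr hψ hψ, if_pos rfl]
  -- the restriction of `χ` to `T` contains `ψ`
  have hcon : classInner (resFun T χ) ψ ≠ 0 := by
    have h1 := frobenius_reciprocity T ψ hχcl
    rw [hind, hχχ] at h1
    have h2 : classInner (resFun T χ) ψ = conj (classInner ψ (fun h : T => χ h)) := by
      rw [classInner_conj_symm]
      rfl
    rw [h2, ← h1, map_one]
    exact one_ne_zero
  have hρ : IsCharacter T (resFun T χ - ψ) :=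
    IsCharacter.sub_constituent (isCharacter_resFun T hχc) hψ hcon
  have hδ : IsCharacter T (sq ψ - 1) := by
    apply IsCharacter.sub_constituent (isCharacter_sq hψc) (isIrrCharacter_one T)
    rw [classInner_sq_one, hψψ]
    exact one_ne_zero
  -- `χ χ̄ = 1_T^G + Ξ`
  have hχbar : IsClassFunction G (fun g => conj (χ g)) :=
    IsCharacter.isClassFunction (IsCharacter.conj hχc)
  have hΞc : IsCharacter T ((sq ψ - 1) + ψ * (fun t => conj ((resFun T χ - ψ) t))) :=
    IsCharacter.add hδ (IsCharacter.mul hψc (IsCharacter.conj hρ))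
  have hdecomp : sq χ = indFun T (1 : T → ℂ) +
      indFun T ((sq ψ - 1) + ψ * (fun t => conj ((resFun T χ - ψ) t))) := by
    rw [← indFun_add]
    have h1 : sq χ = indFun T ψ * (fun g => conj (χ g)) := by
      rw [hind]
      rfl
    rw [h1, ← indFun_mul_resFun T ψ hχbar]
    congr 1
    funext t
    simp only [Pi.add_apply, Pi.mul_apply, Pi.sub_apply, Pi.one_apply, sq_apply, resFun_apply,
      map_sub]
    ring
  set Ξ := indFun T ((sq ψ - 1) + ψ * (fun t => conj ((resFun T χ - ψ) t))) with hΞdef
  have hΞ : IsCharacter G Ξ := IsCharacter.indFun T hΞc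
  set π := indFun T (1 : T → ℂ) with hπdef
  have hπc : IsCharacter G π := IsCharacter.indFun T isCharacter_one
  -- `π = 1 + Δ`
  have hπ1 : classInner π (1 : G → ℂ) ≠ 0 := by
    have h1 := frobenius_reciprocity T (1 : T → ℂ)
      (IsCharacter.isClassFunction (isCharacter_one (G := G)))
    rw [hπdef, h1]
    have h2 : classInner (1 : T → ℂ) (fun h : T => (1 : G → ℂ) h) = 1 := by
      have := classInner_irr (isIrrCharacter_one T) (isIrrCharacter_one T)
      rw [if_pos rfl] at this
      exact this
    rw [h2]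
    exact one_ne_zero
  have hΔ : IsCharacter G (π - 1) := IsCharacter.sub_constituent hπc (isIrrCharacter_one G) hπ1
  have hΔne : π - 1 ≠ 0 := by
    intro h0
    have h1 := congrFun h0 1
    rw [Pi.sub_apply, Pi.one_apply, Pi.zero_apply, hπdef, indFun_apply_one, Pi.one_apply,
      mul_one, sub_eq_zero] at h1
    have hT0 : (Nat.card T : ℂ) ≠ 0 := Nat.cast_ne_zero.mpr Nat.card_pos.ne'
    have h2 : (Nat.card G : ℂ) = (Nat.card T : ℂ) := by
      field_simp at h1
      exact h1
    have h3 : Nat.card G = Nat.card T := by exact_mod_cast h2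
    exact hT (T.eq_top_of_card_eq h3.symm)
  obtain ⟨β, hβ, hβc⟩ := IsCharacter.exists_constituent hΔ hΔne
  obtain ⟨nβ, hnβ⟩ := IsCharacter.classInner_nat hΔ (IsIrrCharacter.isCharacter hβ)
  have hnβ0 : nβ ≠ 0 := by
    intro h0
    rw [h0, Nat.cast_zero] at hnβ
    exact hβc hnβ
  have hsq : IsCharacter G (sq χ) := isCharacter_sq hχc
  have hsq' : IsCharacter G (tw k (sq χ)) := isCharacter_tw hsq k hk
  have hΞ' : IsCharacter G (tw k Ξ) := isCharacter_tw hΞ k hk
  have key : ∀ X : G → ℂ, IsCharacter G X → classInner ((π + X) - 1) β ≠ 0 := by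
    intro X hX
    obtain ⟨m, hm⟩ := IsCharacter.classInner_nat hX (IsIrrCharacter.isCharacter hβ)
    have e : (π + X) - 1 = (π - 1) + X := by abel
    rw [e, classInner_add_left, hnβ, hm]
    have : nβ + m ≠ 0 := by omega
    exact_mod_cast this
  apply classInner_ne_one_of_common hsq hsq' hβ _ _ _ _ hnorm
  · rw [classInner_sq_one, hχχ]
    exact one_ne_zero
  · rw [classInner_tw_one _ k hk, classInner_sq_one, hχχ]
    exact one_ne_zero
  · rw [hdecomp]
    exact key Ξ hΞ
  · rw [hdecomp, tw_add, tw_indFun_one T k hk]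
    exact key (tw k Ξ) hΞ'

end Cfsg.Agent.Lib.Helper6.GalProd
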