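/-
helper6: products of Galois conjugate characters, part C: the linear witness. If `T ≤ G` carries a
nontrivial linear character `c` such that `χ` vanishes wherever `c ≠ 1` and `c^G` is irreducible,
then `g ↦ χ(g) χ(g^k)` is reducible.
-/
import Mathlib
import Cfsg.Agent.Lib.Helper6.GalProdB

set_option autoImplicit false

namespace Cfsg.Agent.Lib.Helper6.GalProd

open Cfsg Cfsg.Agent.CharLib Cfsg.Agent.Lib.Helper6 Cfsg.Agent.Lib.Helper23
open scoped ComplexConjugate

universe u

variable {G : Type u} [Group G] [Fintype G]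

theorem not_irr_of_witness {χ : G → ℂ} (hχ : IsIrrCharacter G χ) (k : ℕ)
    (hk : k.Coprime (Nat.card G)) (T : Subgroup G) (c : T →* ℂˣ)
    (hvan : ∀ t : T, c t ≠ 1 → χ t = 0) (hne : ∃ t : T, c t ≠ 1)
    (hirr : IsIrrCharacter G (indFun T (fun t => ((c t : ℂˣ) : ℂ)))) :
    ¬ IsIrrCharacter G (fun g => χ g * χ (g ^ k)) := by
  classical
  let _ : Fintype T := Fintype.ofFinite T
  intro hη
  have hnorm := classInner_irr hη hη
  rw [if_pos rfl, classInner_prod_eq] at hnorm
  have hχc : IsCharacter G χ := IsIrrCharacter.isCharacter hχ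
  have hχχ : classInner χ χ = 1 := by rw [classInner_irr hχ hχ, if_pos rfl]
  have hχ1 : χ 1 ≠ 0 := by
    obtain ⟨d, hd, hd'⟩ := IsIrrCharacter.apply_one_pos hχ
    rw [hd']
    exact Nat.cast_ne_zero.mpr hd.ne'
  have hsq : IsCharacter G (sq χ) := isCharacter_sq hχc
  have hsq' : IsCharacter G (tw k (sq χ)) := isCharacter_tw hsq k hk
  set β := indFun T (fun t => ((c t : ℂˣ) : ℂ)) with hβdef
  have hcirr : IsIrrCharacter T (fun t => ((c t : ℂˣ) : ℂ)) := isIrrCharacter_of_hom c
  -- `[1, β] = 0`
  have h1β : classInner (1 : G → ℂ) β = 0 := by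
    rw [← classInner_conj_symm, hβdef,
      frobenius_reciprocity T _ (IsCharacter.isClassFunction (isCharacter_one (G := G)))]
    have h2 : classInner (fun t => ((c t : ℂˣ) : ℂ)) (fun h : T => (1 : G → ℂ) h) = 0 := by
      have h3 := classInner_irr hcirr (isIrrCharacter_one T)
      rw [if_neg] at h3
      · exact h3
      · intro heq
        obtain ⟨t, ht⟩ := hne
        apply ht
        have := congrFun heq t
        rw [Pi.one_apply] at this
        exact Units.ext this
    rw [h2, map_zero]
  -- general computation of `[f, β]` for `f` real-valued vanishing where `c ≠ 1`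
  have hcomp : ∀ f : G → ℂ, IsClassFunction G f → (∀ t : T, c t ≠ 1 → f t = 0) →
      classInner f β = conj ((Nat.card T : ℂ)⁻¹ * ∑ t : T, conj (f t)) := by
    intro f hf hfv
    rw [← classInner_conj_symm, hβdef, frobenius_reciprocity T _ hf]
    congr 1
    unfold classInner
    congr 1
    apply Finset.sum_congr rfl
    intro t _
    change ((c t : ℂˣ) : ℂ) * conj (f t) = conj (f t)
    by_cases hct : c t = 1
    · rw [hct, Units.val_one, one_mul]
    · rw [hfv t hct, map_zero, mul_zero]
  have hT0 : (Nat.card T : ℂ) ≠ 0 := Nat.cast_ne_zero.mpr Nat.card_pos.ne'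
  have hpow : ∀ t : T, c t ≠ 1 → c (t ^ k) ≠ 1 := by
    intro t ht h
    apply ht
    rw [map_pow] at h
    have h2 : (c t) ^ (Nat.card G) = 1 := by
      rw [← map_pow]
      have : t ^ Nat.card G = 1 := by
        apply Subtype.ext
        rw [Subgroup.coe_pow, pow_card_eq_one', Subgroup.coe_one]
      rw [this, map_one]
    have h3 := pow_gcd_eq_one.mpr ⟨h, h2⟩
    rw [Nat.Coprime.gcd_eq_one hk, pow_one] at h3
    exact h3
  apply classInner_ne_one_of_common hsq hsq' hirr _ _ _ _ hnorm
  · rw [classInner_sq_one, hχχ]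
    exact one_ne_zero
  · rw [classInner_tw_one _ k hk, classInner_sq_one, hχχ]
    exact one_ne_zero
  · rw [classInner_sub_left, h1β, sub_zero, hcomp (sq χ) (IsCharacter.isClassFunction hsq)]
    · apply (map_ne_zero (starRingEnd ℂ)).mpr
      apply mul_ne_zero (inv_ne_zero hT0)
      have h5 : ∑ t : T, conj (sq χ t) = ∑ t : T, χ t * conj (χ t) := by
        apply Finset.sum_congr rfl
        intro t _
        rw [sq_apply, map_mul, Complex.conj_conj, mul_comm]
      rw [h5]
      exact sum_sq_ne_zero (fun t : T => χ t) 1 (by simpa using hχ1)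
    · intro t ht
      rw [sq_apply, hvan t ht, zero_mul]
  · rw [classInner_sub_left, h1β, sub_zero, hcomp (tw k (sq χ)) (IsCharacter.isClassFunction hsq')]
    · apply (map_ne_zero (starRingEnd ℂ)).mpr
      apply mul_ne_zero (inv_ne_zero hT0)
      have h5 : ∑ t : T, conj (tw k (sq χ) t) = ∑ t : T, χ ((t : G) ^ k) * conj (χ ((t : G) ^ k)) := by
        apply Finset.sum_congr rfl
        intro t _
        rw [tw_apply, sq_apply, map_mul, Complex.conj_conj, mul_comm]
      rw [h5]
      exact sum_sq_ne_zero (fun t : T => χ ((t : G) ^ k)) 1 (by simpa using hχ1)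
    · intro t ht
      have h6 := hvan (t ^ k) (hpow t ht)
      rw [Subgroup.coe_pow] at h6
      rw [tw_apply, sq_apply, h6, zero_mul]

end Cfsg.Agent.Lib.Helper6.GalProd
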