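/-
helper6: products of Galois conjugate characters, part D. The subgroup `Tx x` of elements commuting
with `x` modulo the centre, its linear character `cHom φ x : t ↦ φ(t x t⁻¹ x⁻¹)`, and the first
consequence of primitivity: for a faithful `χ` with `g ↦ χ(g) χ(g^k)` irreducible every abelian
normal subgroup is central.
-/
import Mathlib
import Cfsg.Agent.Lib.Helper6.GalProdC
import Cfsg.Agent.Lib.Helper6.Ramification2
import Cfsg.Agent.Lib.Helper6.CTripleA
import Cfsg.Agent.Lib.Lead.CharMore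

set_option autoImplicit false

namespace Cfsg.Agent.Lib.Helper6.GalProd

open Cfsg Cfsg.Agent.CharLib Cfsg.Agent.Lib.Helper6 Cfsg.Agent.Lib.Helper23
open scoped ComplexConjugate

universe u

section Tx

variable {G : Type u} [Group G]

/-- Elements commuting with `x` modulo the centre. -/
def Tx (x : G) : Subgroup G where
  carrier := {t | t * x * t⁻¹ * x⁻¹ ∈ Subgroup.center G}
  one_mem' := by
    change (1 : G) * x * 1⁻¹ * x⁻¹ ∈ Subgroup.center G
    have : (1 : G) * x * 1⁻¹ * x⁻¹ = 1 := by group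
    rw [this]
    exact Subgroup.one_mem _
  mul_mem' := by
    intro t s ht hs
    change t * x * t⁻¹ * x⁻¹ ∈ Subgroup.center G at ht
    change s * x * s⁻¹ * x⁻¹ ∈ Subgroup.center G at hs
    change (t * s) * x * (t * s)⁻¹ * x⁻¹ ∈ Subgroup.center G
    have hz := Subgroup.mem_center_iff.mp hs
    have e : (t * s) * x * (t * s)⁻¹ * x⁻¹ = (s * x * s⁻¹ * x⁻¹) * (t * x * t⁻¹ * x⁻¹) := by
      calc (t * s) * x * (t * s)⁻¹ * x⁻¹ = t * (s * x * s⁻¹ * x⁻¹) * (x * t⁻¹ * x⁻¹) := by group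
        _ = (s * x * s⁻¹ * x⁻¹) * t * (x * t⁻¹ * x⁻¹) := by rw [hz t]
        _ = (s * x * s⁻¹ * x⁻¹) * (t * x * t⁻¹ * x⁻¹) := by group
    rw [e]
    exact Subgroup.mul_mem _ hs ht
  inv_mem' := by
    intro t ht
    change t * x * t⁻¹ * x⁻¹ ∈ Subgroup.center G at ht
    change t⁻¹ * x * t⁻¹⁻¹ * x⁻¹ ∈ Subgroup.center G
    have e : t⁻¹ * x * t⁻¹⁻¹ * x⁻¹ = t⁻¹ * (t * x * t⁻¹ * x⁻¹)⁻¹ * t⁻¹⁻¹ := by group
    rw [e]
    exact (inferInstance : (Subgroup.center G).Normal).conj_mem _ (Subgroup.inv_mem _ ht) _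

theorem mem_Tx (x t : G) : t ∈ Tx x ↔ t * x * t⁻¹ * x⁻¹ ∈ Subgroup.center G := Iff.rfl

theorem comm_mul_eq (x : G) {t s : G} (hs : s * x * s⁻¹ * x⁻¹ ∈ Subgroup.center G) :
    (t * s) * x * (t * s)⁻¹ * x⁻¹ = (t * x * t⁻¹ * x⁻¹) * (s * x * s⁻¹ * x⁻¹) := by
  have hz := Subgroup.mem_center_iff.mp hs
  calc (t * s) * x * (t * s)⁻¹ * x⁻¹ = t * (s * x * s⁻¹ * x⁻¹) * (x * t⁻¹ * x⁻¹) := by group
    _ = (s * x * s⁻¹ * x⁻¹) * t * (x * t⁻¹ * x⁻¹) := by rw [hz t]
    _ = (s * x * s⁻¹ * x⁻¹) * (t * x * t⁻¹ * x⁻¹) := by group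
    _ = (t * x * t⁻¹ * x⁻¹) * (s * x * s⁻¹ * x⁻¹) := (hz _).symm

/-- The linear character `t ↦ φ(t x t⁻¹ x⁻¹)` of `Tx x`. -/
noncomputable def cHom (φ : Subgroup.center G →* ℂˣ) (x : G) : Tx x →* ℂˣ where
  toFun t := φ ⟨(t : G) * x * (t : G)⁻¹ * x⁻¹, t.2⟩
  map_one' := by
    have : (⟨((1 : Tx x) : G) * x * ((1 : Tx x) : G)⁻¹ * x⁻¹, (1 : Tx x).2⟩ : Subgroup.center G)
        = 1 := by
      apply Subtype.ext
      change (1 : G) * x * 1⁻¹ * x⁻¹ = 1
      group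
    rw [this, map_one]
  map_mul' := by
    intro t s
    rw [← map_mul]
    congr 1
    apply Subtype.ext
    exact comm_mul_eq x s.2

theorem cHom_apply (φ : Subgroup.center G →* ℂˣ) (x : G) (t : Tx x) :
    cHom φ x t = φ ⟨(t : G) * x * (t : G)⁻¹ * x⁻¹, t.2⟩ := rfl

/-- Bilinearity in the second variable. -/
theorem comm_mul_right_eq (a x y : G) (hy : a * y * a⁻¹ * y⁻¹ ∈ Subgroup.center G) :
    a * (x * y) * a⁻¹ * (x * y)⁻¹ = (a * x * a⁻¹ * x⁻¹) * (a * y * a⁻¹ * y⁻¹) := by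
  have hz := Subgroup.mem_center_iff.mp hy
  calc a * (x * y) * a⁻¹ * (x * y)⁻¹ = (a * x * a⁻¹) * (a * y * a⁻¹ * y⁻¹) * x⁻¹ := by group
    _ = (a * y * a⁻¹ * y⁻¹) * (a * x * a⁻¹) * x⁻¹ := by rw [hz (a * x * a⁻¹)]
    _ = (a * y * a⁻¹ * y⁻¹) * (a * x * a⁻¹ * x⁻¹) := by group
    _ = (a * x * a⁻¹ * x⁻¹) * (a * y * a⁻¹ * y⁻¹) := (hz _).symm

end Tx

section main

variable {G : Type u} [Group G] [Fintype G]

/-- **Abelian normal subgroups are central.** -/
theorem abelian_normal_le_center (χ : IrrCharacter G)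
    (hfaith : ∀ g : G, (χ : G → ℂ) g = (χ : G → ℂ) 1 → g = 1) (k : ℕ)
    (hk : Nat.Coprime k (Nat.card G))
    (hirr : IsIrrCharacter G (fun g => (χ : G → ℂ) g * (χ : G → ℂ) (g ^ k)))
    (B : Subgroup G) [hB : B.Normal] (hab : ∀ a ∈ B, ∀ b ∈ B, a * b = b * a) :
    B ≤ Subgroup.center G := by
  classical
  let _ : Fintype B := Fintype.ofFinite B
  have hχ := χ.2
  have hχc : IsCharacter G (χ : G → ℂ) := IsIrrCharacter.isCharacter hχ
  have hχ1 : (χ : G → ℂ) 1 ≠ 0 := by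
    obtain ⟨d, hd, hd'⟩ := IsIrrCharacter.apply_one_pos hχ
    rw [hd']
    exact Nat.cast_ne_zero.mpr hd.ne'
  have hres : IsCharacter B (resFun B (χ : G → ℂ)) := isCharacter_resFun B hχc
  have hresne : resFun B (χ : G → ℂ) ≠ 0 := by
    intro h0
    have := congrFun h0 1
    rw [resFun_apply, Pi.zero_apply] at this
    exact hχ1 this
  obtain ⟨lam, hlam, hlamc⟩ := IsCharacter.exists_constituent hres hresne
  have hlamc' : IsCharacter B lam := IsIrrCharacter.isCharacter hlam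
  let T := inertiaSubgroup B lam
  let _ : Fintype T := Fintype.ofFinite T
  have hTmem : ∀ g : G, g ∈ T ↔ conjFun B g lam = lam := fun g => Iff.rfl
  have hBT : B ≤ T := by
    intro b hb
    exact (hTmem b).mpr (conjFun_of_mem B (IsCharacter.isClassFunction hlamc') hb)
  obtain ⟨ψ, hψ, hind, _⟩ := exists_indFun_inertia_eq hBT hlam hTmem hχ hlamc
  by_cases hTtop : T = ⊤
  · -- `lam` is invariant
    have hinv : ∀ g : G, conjFun B g lam = lam := by
      intro g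
      apply (hTmem g).mp
      rw [hTtop]
      exact Subgroup.mem_top g
    have hcl := clifford_of_invariant B hχ hlam hlamc hinv
    have hBcomm : ∀ a b : B, a * b = b * a := by
      intro a b
      apply Subtype.ext
      exact hab a a.2 b b.2
    have hlam1 : lam 1 = 1 := (comm_iff_forall_irr_apply_one.mp hBcomm) ⟨lam, hlam⟩
    have hmul := IsCharacter.map_mul_of_apply_one hlamc' hlam1
    set e := classInner (resFun B (χ : G → ℂ)) lam with he
    have hχe : (χ : G → ℂ) 1 = e := by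
      have := congrFun hcl 1
      rw [resFun_apply, Pi.smul_apply, smul_eq_mul] at this
      change (χ : G → ℂ) 1 = e * lam 1 at this
      rw [this, hlam1, mul_one]
    intro b hb
    rw [Subgroup.mem_center_iff]
    intro g
    have hcm : g * b * g⁻¹ * b⁻¹ ∈ B := B.mul_mem (hB.conj_mem b hb g) (B.inv_mem hb)
    have h1 := congrFun hcl ⟨g * b * g⁻¹ * b⁻¹, hcm⟩
    rw [resFun_apply, Pi.smul_apply, smul_eq_mul] at h1
    have h2 : lam ⟨g * b * g⁻¹ * b⁻¹, hcm⟩ = 1 := by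
      have e1 : (⟨g * b * g⁻¹ * b⁻¹, hcm⟩ : B) =
          ⟨g * b * g⁻¹, hB.conj_mem b hb g⟩ * ⟨b⁻¹, B.inv_mem hb⟩ := rfl
      rw [e1, hmul]
      have e2 : lam ⟨g * b * g⁻¹, hB.conj_mem b hb g⟩ = lam ⟨b, hb⟩ := by
        have := congrFun (hinv g) ⟨b, hb⟩
        rw [conjFun_apply] at this
        exact this
      rw [e2, ← hmul]
      have e3 : (⟨b, hb⟩ : B) * ⟨b⁻¹, B.inv_mem hb⟩ = 1 := by
        apply Subtype.ext
        change b * b⁻¹ = 1
        exact mul_inv_cancel b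
      rw [e3, hlam1]
    rw [h2, mul_one, ← hχe] at h1
    have h3 : g * b * g⁻¹ * b⁻¹ = 1 := hfaith _ h1
    calc g * b = (g * b * g⁻¹ * b⁻¹) * b * g := by group
      _ = b * g := by rw [h3, one_mul]
  · exact absurd hirr (not_irr_of_induced hχ k hk T hTtop ψ hψ hind)

end main

end Cfsg.Agent.Lib.Helper6.GalProd
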