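/-
helper6: products of Galois conjugate characters, part E. For a faithful `χ ∈ Irr(G)` with
`g ↦ χ(g) χ(g^k)` irreducible (`k` prime to `|G|`) every nilpotent normal subgroup is central.
-/
import Mathlib
import Cfsg.Agent.Lib.Helper6.GalProdD

set_option autoImplicit false

namespace Cfsg.Agent.Lib.Helper6.GalProd

open Cfsg Cfsg.Agent.CharLib Cfsg.Agent.Lib.Helper6 Cfsg.Agent.Lib.Helper23
open scoped ComplexConjugate commutatorElement

universe u

variable {G : Type u} [Group G] [Fintype G]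

/-- A layer of the lower central series of a non-central nilpotent normal subgroup. -/
theorem exists_layer (N : Subgroup G) [hN : N.Normal] (hnil : Group.IsNilpotent N)
    (hNZ : ¬ N ≤ Subgroup.center G) :
    ∃ A : Subgroup G, A.Normal ∧ A ≤ N ∧ ¬ A ≤ Subgroup.center G ∧ ⁅A, N⁆ ≤ Subgroup.center G := by
  obtain ⟨n, hn⟩ := (Subgroup.isNilpotent_iff_lowerCentralSeries N).mp hnil
  have hnormal : ∀ i, (N.lowerCentralSeries i).Normal := by
    intro i
    induction i with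
    | zero => simpa using hN
    | succ d ih =>
      rw [Subgroup.lowerCentralSeries_succ]
      haveI := ih
      exact Subgroup.commutator_normal _ _
  have hle : ∀ i, N.lowerCentralSeries i ≤ N := by
    intro i
    induction i with
    | zero => simp
    | succ d _ =>
      rw [Subgroup.lowerCentralSeries_succ]
      exact Subgroup.commutator_le_right _ _
  by_contra hcon
  have hall : ∀ i, ¬ N.lowerCentralSeries i ≤ Subgroup.center G := by
    intro i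
    induction i with
    | zero => simpa using hNZ
    | succ d ih =>
      intro h
      apply hcon
      refine ⟨N.lowerCentralSeries d, hnormal d, hle d, ih, ?_⟩
      rw [← Subgroup.lowerCentralSeries_succ]
      exact h
  apply hall n
  rw [hn]
  exact bot_le

/-- **Nilpotent normal subgroups are central.** -/
theorem nilpotent_normal_le_center (χ : IrrCharacter G)
    (hfaith : ∀ g : G, (χ : G → ℂ) g = (χ : G → ℂ) 1 → g = 1) (k : ℕ)
    (hk : Nat.Coprime k (Nat.card G))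
    (hirr : IsIrrCharacter G (fun g => (χ : G → ℂ) g * (χ : G → ℂ) (g ^ k)))
    (N : Subgroup G) [hN : N.Normal] (hnil : Group.IsNilpotent N) :
    N ≤ Subgroup.center G := by
  classical
  by_contra hNZ
  have hH1 := fun (B : Subgroup G) (hB : B.Normal) =>
    @abelian_normal_le_center G _ _ χ hfaith k hk hirr B hB
  obtain ⟨A, hAn, hAN, hAZ, hcomm⟩ := exists_layer N hnil hNZ
  haveI := hAn
  have hχ := χ.2
  have hχcl : IsClassFunction G (χ : G → ℂ) :=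
    IsCharacter.isClassFunction (IsIrrCharacter.isCharacter hχ)
  -- commutators of `A` with `N` are central
  have hcm : ∀ a ∈ A, ∀ m ∈ N, a * m * a⁻¹ * m⁻¹ ∈ Subgroup.center G := by
    intro a ha m hm
    apply hcomm
    have := Subgroup.commutator_mem_commutator ha hm
    rwa [commutatorElement_def] at this
  have hcm' : ∀ m ∈ N, ∀ a ∈ A, m * a * m⁻¹ * a⁻¹ ∈ Subgroup.center G := by
    intro m hm a ha
    have h1 := Subgroup.inv_mem _ (hcm a ha m hm)
    have e : (a * m * a⁻¹ * m⁻¹)⁻¹ = m * a * m⁻¹ * a⁻¹ := by group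
    rwa [e] at h1
  -- `A` is not abelian
  have hnab : ¬ ∀ a ∈ A, ∀ b ∈ A, a * b = b * a := fun h => hAZ (hH1 A hAn h)
  push Not at hnab
  obtain ⟨x, hx, y, hy, hxy⟩ := hnab
  -- the centre of `A` is central
  have hZA : A ⊓ Subgroup.centralizer (A : Set G) ≤ Subgroup.center G := by
    apply hH1 _ inferInstance
    intro a ha b hb
    exact (Subgroup.mem_centralizer_iff.mp hb.2 a ha.1)
  -- the central character
  obtain ⟨φ, hφ⟩ := CTriple.exists_centralHom χ (Subgroup.center G) le_rfl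
  have hφfaith : ∀ z : Subgroup.center G, φ z = 1 → z = 1 := by
    intro z hz
    have h1 := hφ z 1
    rw [hz, Units.val_one, one_mul, mul_one] at h1
    apply Subtype.ext
    exact hfaith _ h1
  let T := Tx x
  let _ : Fintype T := Fintype.ofFinite T
  let c := cHom φ x
  have hNT : N ≤ T := fun m hm => (mem_Tx x m).mpr (hcm' m hm x hx)
  have hAT : A ≤ T := hAN.trans hNT
  -- vanishing
  have hvan : ∀ t : T, c t ≠ 1 → (χ : G → ℂ) t = 0 := by
    intro t ht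
    have hz := Subgroup.mem_center_iff.mp t.2
    have e1 : x⁻¹ * (t : G) * x = ((t : G) * x * (t : G)⁻¹ * x⁻¹) * (t : G) := by
      have h2 := hz x⁻¹
      calc x⁻¹ * (t : G) * x = x⁻¹ * ((t : G) * x * (t : G)⁻¹ * x⁻¹) * x * (t : G) := by group
        _ = ((t : G) * x * (t : G)⁻¹ * x⁻¹) * x⁻¹ * x * (t : G) := by rw [h2]
        _ = ((t : G) * x * (t : G)⁻¹ * x⁻¹) * (t : G) := by group
    have h3 : (χ : G → ℂ) (x⁻¹ * (t : G) * x) = (χ : G → ℂ) t := by
      have := hχcl (t : G) x⁻¹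
      rwa [inv_inv] at this
    have h4 := hφ ⟨(t : G) * x * (t : G)⁻¹ * x⁻¹, t.2⟩ (t : G)
    change (χ : G → ℂ) (((t : G) * x * (t : G)⁻¹ * x⁻¹) * (t : G)) = _ at h4
    rw [← e1, h3] at h4
    have h5 : ((c t : ℂˣ) : ℂ) ≠ 1 := by
      intro h
      apply ht
      exact Units.ext h
    have h6 : ((c t : ℂˣ) : ℂ) = ((φ ⟨(t : G) * x * (t : G)⁻¹ * x⁻¹, t.2⟩ : ℂˣ) : ℂ) := rfl
    rw [← h6] at h4
    have h7 : (1 - ((c t : ℂˣ) : ℂ)) * (χ : G → ℂ) t = 0 := by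
      rw [sub_mul, one_mul, ← h4, sub_self]
    rcases mul_eq_zero.mp h7 with h8 | h8
    · exact absurd (sub_eq_zero.mp h8).symm h5
    · exact h8
  -- nontriviality
  have hne : ∃ t : T, c t ≠ 1 := by
    refine ⟨⟨y, hAT hy⟩, ?_⟩
    intro h
    have h1 := hφfaith _ h
    have h2 : y * x * y⁻¹ * x⁻¹ = 1 := congrArg Subtype.val h1
    apply hxy
    calc x * y = (y * x * y⁻¹ * x⁻¹)⁻¹ * y * x := by group
      _ = y * x := by rw [h2, inv_one, one_mul]
  -- irreducibility of the induced character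
  have hcirr : IsIrrCharacter T (fun t => ((c t : ℂˣ) : ℂ)) := isIrrCharacter_of_hom c
  have hθirr : IsIrrCharacter A (fun a : A => ((c ⟨a, hAT a.2⟩ : ℂˣ) : ℂ)) :=
    isIrrCharacter_of_hom (c.comp (Subgroup.inclusion hAT))
  have hf : classInner (resLE hAT (fun t => ((c t : ℂˣ) : ℂ)))
      (fun a : A => ((c ⟨a, hAT a.2⟩ : ℂˣ) : ℂ)) ≠ 0 := by
    have h1 := classInner_irr hθirr hθirr
    rw [if_pos rfl] at h1
    change classInner (fun a : A => ((c ⟨a, hAT a.2⟩ : ℂˣ) : ℂ)) _ ≠ 0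
    rw [h1]
    exact one_ne_zero
  have hTin : ∀ g : G, conjFun A g (fun a : A => ((c ⟨a, hAT a.2⟩ : ℂˣ) : ℂ)) =
      (fun a : A => ((c ⟨a, hAT a.2⟩ : ℂˣ) : ℂ)) → g ∈ T := by
    intro g hg
    rw [← T.inv_mem_iff, mem_Tx, inv_inv]
    -- `w = g⁻¹ x g = x y'`
    have hw : g⁻¹ * x * g ∈ A := by
      have := hAn.conj_mem x hx g⁻¹
      rwa [inv_inv] at this
    have hy' : x⁻¹ * (g⁻¹ * x * g) ∈ A := A.mul_mem (A.inv_mem hx) hw
    have hcent : x⁻¹ * (g⁻¹ * x * g) ∈ Subgroup.centralizer (A : Set G) := by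
      rw [Subgroup.mem_centralizer_iff]
      intro a ha
      have hga : g * a * g⁻¹ ∈ A := hAn.conj_mem a ha g
      have h1 := congrFun hg ⟨a, ha⟩
      rw [conjFun_apply] at h1
      have h2 : c ⟨g * a * g⁻¹, hAT hga⟩ = c ⟨a, hAT ha⟩ := Units.ext h1
      rw [cHom_apply, cHom_apply] at h2
      -- the left commutator
      have hcw := hcm a ha (g⁻¹ * x * g) (hAN hw)
      have hcy := hcm a ha (x⁻¹ * (g⁻¹ * x * g)) (hAN hy')
      have e1 : (g * a * g⁻¹) * x * (g * a * g⁻¹)⁻¹ * x⁻¹ =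
          a * (g⁻¹ * x * g) * a⁻¹ * (g⁻¹ * x * g)⁻¹ := by
        have hz := Subgroup.mem_center_iff.mp hcw
        calc (g * a * g⁻¹) * x * (g * a * g⁻¹)⁻¹ * x⁻¹
            = g * (a * (g⁻¹ * x * g) * a⁻¹ * (g⁻¹ * x * g)⁻¹) * g⁻¹ := by group
          _ = (a * (g⁻¹ * x * g) * a⁻¹ * (g⁻¹ * x * g)⁻¹) * g * g⁻¹ := by rw [hz g]
          _ = a * (g⁻¹ * x * g) * a⁻¹ * (g⁻¹ * x * g)⁻¹ := by group
      have e2 : a * (g⁻¹ * x * g) * a⁻¹ * (g⁻¹ * x * g)⁻¹ =
          (a * x * a⁻¹ * x⁻¹) * (a * (x⁻¹ * (g⁻¹ * x * g)) * a⁻¹ * (x⁻¹ * (g⁻¹ * x * g))⁻¹) := by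
        have := comm_mul_right_eq a x (x⁻¹ * (g⁻¹ * x * g)) hcy
        rw [← this]
        group
      have e3 : (⟨(g * a * g⁻¹) * x * (g * a * g⁻¹)⁻¹ * x⁻¹, (hAT hga : g * a * g⁻¹ ∈ Tx x)⟩ :
          Subgroup.center G) = ⟨a * x * a⁻¹ * x⁻¹, (hAT ha : a ∈ Tx x)⟩ *
            ⟨a * (x⁻¹ * (g⁻¹ * x * g)) * a⁻¹ * (x⁻¹ * (g⁻¹ * x * g))⁻¹, hcy⟩ := by
        apply Subtype.ext
        change (g * a * g⁻¹) * x * (g * a * g⁻¹)⁻¹ * x⁻¹ = _
        rw [e1, e2]
        rfl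
      change φ ⟨(g * a * g⁻¹) * x * (g * a * g⁻¹)⁻¹ * x⁻¹, _⟩ = φ ⟨a * x * a⁻¹ * x⁻¹, _⟩ at h2
      rw [e3, map_mul] at h2
      have h3 : φ ⟨a * (x⁻¹ * (g⁻¹ * x * g)) * a⁻¹ * (x⁻¹ * (g⁻¹ * x * g))⁻¹, hcy⟩ = 1 :=
        mul_left_cancel (h2.trans (mul_one _).symm)
      have h4 := congrArg Subtype.val (hφfaith _ h3)
      change a * (x⁻¹ * (g⁻¹ * x * g)) * a⁻¹ * (x⁻¹ * (g⁻¹ * x * g))⁻¹ = 1 at h4
      calc a * (x⁻¹ * (g⁻¹ * x * g))
          = (a * (x⁻¹ * (g⁻¹ * x * g)) * a⁻¹ * (x⁻¹ * (g⁻¹ * x * g))⁻¹) *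
            ((x⁻¹ * (g⁻¹ * x * g)) * a) := by group
        _ = (x⁻¹ * (g⁻¹ * x * g)) * a := by rw [h4, one_mul]
    have hyZ : x⁻¹ * (g⁻¹ * x * g) ∈ Subgroup.center G := hZA ⟨hy', hcent⟩
    have hz := Subgroup.mem_center_iff.mp hyZ
    have e : g⁻¹ * x * g * x⁻¹ = x⁻¹ * (g⁻¹ * x * g) := by
      calc g⁻¹ * x * g * x⁻¹ = x * (x⁻¹ * (g⁻¹ * x * g)) * x⁻¹ := by group
        _ = (x⁻¹ * (g⁻¹ * x * g)) * x * x⁻¹ := by rw [hz x]
        _ = x⁻¹ * (g⁻¹ * x * g) := by group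
    rw [e]
    exact hyZ
  have hind := (isIrrCharacter_indFun_of_inertia_le hAT hθirr hTin hcirr hf).1
  exact not_irr_of_witness hχ k hk T c hvan hne hind hirr

end Cfsg.Agent.Lib.Helper6.GalProd
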