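/-
helper6: transport lemmas for the Harris–Knörr correspondence: the subgroup `H ∩ N` seen inside
`H` and inside `N`, central characters on invariant functions of `N`, and conjugation of relative
block induction.
-/
import Mathlib
import Cfsg.Agent.Lib.Helper24.BlockClimb
import Cfsg.Agent.Lib.Helper24.ConjBlock
import Cfsg.Agent.Lib.Helper23.Covering
import Cfsg.Agent.Lib.Helper6.BlockIso
import Cfsg.Agent.Lib.Lead.OddIndexBlock

set_option autoImplicit false
set_option linter.unusedSectionVars false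

namespace Cfsg.Agent.Lib.Helper6.HKBase

open Cfsg Cfsg.Agent.CharLib Cfsg.Agent.Lib.Helper24 Cfsg.Agent.Lib.Helper23
  Cfsg.Agent.Lib.Helper6
open scoped ComplexConjugate

universe u

section nested

variable {G : Type u} [Group G] (N : Subgroup G) [hN : N.Normal]

/-- `N ∩ H` inside `H`, identified with the subgroup `H ⊓ N` of `G`. -/
def kH (H : Subgroup G) : N.subgroupOf H ≃* ↥(H ⊓ N) :=
  nestedEquiv H (N.subgroupOf H) (H ⊓ N)
    (fun x => ⟨fun h => ⟨x.2, Subgroup.mem_subgroupOf.mp h⟩,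
      fun h => Subgroup.mem_subgroupOf.mpr h.2⟩) inf_le_left

theorem kH_coe (H : Subgroup G) (x : N.subgroupOf H) :
    ((kH N H x : ↥(H ⊓ N)) : G) = ((x : H) : G) := rfl

theorem kH_symm_coe (H : Subgroup G) (y : ↥(H ⊓ N)) :
    ((((kH N H).symm y : N.subgroupOf H) : H) : G) = (y : G) := rfl

theorem mem_normalizer_subgroupOf_iff (Q : Subgroup G) (hQN : Q ≤ N) (x : N) :
    x ∈ Subgroup.normalizer ((Q.subgroupOf N : Subgroup N) : Set N) ↔
      (x : G) ∈ Subgroup.normalizer (Q : Set G) ⊓ N := by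
  rw [← Subgroup.subgroupOf_normalizer_eq hQN, Subgroup.mem_subgroupOf, Subgroup.mem_inf]
  exact ⟨fun h => ⟨h, x.2⟩, fun h => h.1⟩

/-- `N_N(Q)` inside `N`, identified with the subgroup `N_G(Q) ⊓ N` of `G`. -/
def kN (Q : Subgroup G) (hQN : Q ≤ N) :
    Subgroup.normalizer ((Q.subgroupOf N : Subgroup N) : Set N) ≃*
      ↥(Subgroup.normalizer (Q : Set G) ⊓ N) :=
  nestedEquiv N (Subgroup.normalizer ((Q.subgroupOf N : Subgroup N) : Set N))
    (Subgroup.normalizer (Q : Set G) ⊓ N) (mem_normalizer_subgroupOf_iff N Q hQN) inf_le_right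

theorem kN_coe (Q : Subgroup G) (hQN : Q ≤ N)
    (x : Subgroup.normalizer ((Q.subgroupOf N : Subgroup N) : Set N)) :
    ((kN N Q hQN x : ↥(Subgroup.normalizer (Q : Set G) ⊓ N)) : G) = ((x : N) : G) := rfl

end nested

section omega

variable {G : Type u} [Group G] [Fintype G] (N : Subgroup G) [hN : N.Normal] [Fintype N]

/-- The restriction of a function on `N` to `H ⊓ N`. -/
def rLN (H : Subgroup G) (a₀ : N → ℂ) : ↥(H ⊓ N) → ℂ := fun l => a₀ ⟨(l : G), l.2.2⟩

/-- **Central characters on `G`-invariant functions of `N`, seen from `H`**. -/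
theorem omegaFun_resFun_extN (H : Subgroup G) [Fintype H] [Fintype (N.subgroupOf H)]
    [Fintype ↥(H ⊓ N)] (ξ : IrrCharacter H) (η : IrrCharacter (N.subgroupOf H))
    (hover : classInner (resFun (N.subgroupOf H) (ξ : H → ℂ)) (η : N.subgroupOf H → ℂ) ≠ 0)
    (a₀ : N → ℂ) (ha₀ : ∀ (g : G) (n : N), a₀ (conjN N g n) = a₀ n) :
    omegaFun (ξ : H → ℂ) (resFun H (extN N a₀)) =
      omegaFun ((irrCompIso (kH N H).symm η : IrrCharacter ↥(H ⊓ N)) : ↥(H ⊓ N) → ℂ)
        (rLN N H a₀) := by
  classical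
  set a₁ : N.subgroupOf H → ℂ := fun l => a₀ ⟨((l : H) : G), Subgroup.mem_subgroupOf.mp l.2⟩
    with ha₁
  have h1 : resFun H (extN N a₀) = extN (N.subgroupOf H) a₁ := by
    funext h
    rw [resFun_apply]
    by_cases hh : (h : G) ∈ N
    · have e1 := extN_apply_mem N a₀ ⟨(h : G), hh⟩
      have e2 := extN_apply_mem (N.subgroupOf H) a₁ ⟨h, Subgroup.mem_subgroupOf.mpr hh⟩
      change extN N a₀ (h : G) = _ at e1
      change extN (N.subgroupOf H) a₁ h = _ at e2
      rw [e1, e2]
    · rw [extN_apply_not_mem N a₀ hh, extN_apply_not_mem (N.subgroupOf H) a₁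
        (fun hc => hh (Subgroup.mem_subgroupOf.mp hc))]
  have ha₁inv : ∀ (g : H) (n : N.subgroupOf H), a₁ (conjN (N.subgroupOf H) g n) = a₁ n := by
    intro g n
    have := ha₀ (g : G) ⟨((n : H) : G), Subgroup.mem_subgroupOf.mp n.2⟩
    simp only [ha₁]
    convert this using 2
    apply Subtype.ext
    rfl
  rw [h1, omegaFun_extN, omega_restrict_eq (N.subgroupOf H) ξ.2 η.2 hover a₁ ha₁inv]
  unfold omegaFun
  have e1 : ((irrCompIso (kH N H).symm η : IrrCharacter ↥(H ⊓ N)) : ↥(H ⊓ N) → ℂ) 1 =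
      (η : N.subgroupOf H → ℂ) 1 := by
    rw [irrCompIso_apply, map_one]
  rw [e1]
  congr 1
  apply Fintype.sum_equiv (kH N H).toEquiv
  intro l
  rw [irrCompIso_apply]
  change a₁ l * _ = rLN N H a₀ (kH N H l) * (η : N.subgroupOf H → ℂ) ((kH N H).symm (kH N H l))
  rw [MulEquiv.symm_apply_apply]
  rfl

/-- Central characters of `N_N(Q)` on restrictions, seen from `N_G(Q) ⊓ N`. -/
theorem omegaFun_resFun_kN (Q : Subgroup G) (hQN : Q ≤ N)
    [Fintype (Subgroup.normalizer ((Q.subgroupOf N : Subgroup N) : Set N))]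
    [Fintype ↥(Subgroup.normalizer (Q : Set G) ⊓ N)]
    (ζ : IrrCharacter ↥(Subgroup.normalizer (Q : Set G) ⊓ N)) (a₀ : N → ℂ) :
    omegaFun ((irrCompIso (kN N Q hQN) ζ :
        IrrCharacter (Subgroup.normalizer ((Q.subgroupOf N : Subgroup N) : Set N))) :
          Subgroup.normalizer ((Q.subgroupOf N : Subgroup N) : Set N) → ℂ)
        (resFun (Subgroup.normalizer ((Q.subgroupOf N : Subgroup N) : Set N)) a₀) =
      omegaFun (ζ : ↥(Subgroup.normalizer (Q : Set G) ⊓ N) → ℂ)
        (rLN N (Subgroup.normalizer (Q : Set G)) a₀) := by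
  unfold omegaFun
  rw [irrCompIso_apply, map_one]
  congr 1
  apply Fintype.sum_equiv (kN N Q hQN).toEquiv
  intro l
  rw [irrCompIso_apply, resFun_apply]
  rfl

end omega

section conjInd

variable {G : Type u} [Group G] (N : Subgroup G) [hN : N.Normal] {M : Ideal AlgInt}

/-- **Conjugation of relative block induction**: if `e` induces `d` inside `N` from `K ≤ N`, and
`h` normalises `K`, then the `h`-conjugate of `e` induces the `h`-conjugate of `d`. -/
theorem isInducedBlockIn_conj (K : Subgroup G) (h : G)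
    (hh : h ∈ Subgroup.normalizer (K : Set G)) (e : Set (IrrCharacter K))
    (d : Set (IrrCharacter N)) (hind : IsInducedBlockIn M N K e d) :
    IsInducedBlockIn M N K (BlockIso.pullBlock (cjE K h hh) e)
      (BlockIso.pullBlock (MulAut.conjNormal h : N ≃* N) d) := by
  obtain ⟨he, hd, hcond⟩ := hind
  refine ⟨BlockIso.isPBlock_pullBlock _ he, BlockIso.isPBlock_pullBlock _ hd, ?_⟩
  intro ξ' hξ' χ' hχ' n
  set ξ : IrrCharacter K := irrCompIso (cjE K h hh).symm ξ' with hξdef
  set χ : IrrCharacter N := irrCompIso (MulAut.conjNormal h : N ≃* N).symm χ' with hχdef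
  have hξ : ξ ∈ e := hξ'
  have hχ : χ ∈ d := hχ'
  have key := hcond ξ hξ χ hχ ((MulAut.conjNormal h : N ≃* N) n)
  have e1 : (ξ' : K → ℂ) = (ξ : K → ℂ) ∘ (cjE K h hh) :=
    (congrArg Subtype.val (BlockIso.irrCompIso_irrCompIso_symm (cjE K h hh) ξ')).symm
  have e2 : (χ' : N → ℂ) = (χ : N → ℂ) ∘ (MulAut.conjNormal h : N ≃* N) :=
    (congrArg Subtype.val
      (BlockIso.irrCompIso_irrCompIso_symm (MulAut.conjNormal h : N ≃* N) χ')).symm
  have h1 : centralChar (χ' : N → ℂ) n =
      centralChar (χ : N → ℂ) ((MulAut.conjNormal h : N ≃* N) n) := by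
    rw [e2, centralChar_compIso]
  have h2 : inducedCentralCharIn N K (ξ' : K → ℂ) (n : G) =
      inducedCentralCharIn N K (ξ : K → ℂ) (((MulAut.conjNormal h : N ≃* N) n : N) : G) := by
    unfold inducedCentralCharIn
    rw [e1]
    apply finsum_mem_eq_of_bijOn (fun k : K => cjE K h hh k)
    · refine ⟨?_, ?_, ?_⟩
      · rintro k ⟨x, hx⟩
        refine ⟨(MulAut.conjNormal h : N ≃* N) x, ?_⟩
        rw [MulAut.conjNormal_apply, MulAut.conjNormal_apply, cjE_coe, ← hx]
        group
      · intro a _ b _ hab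
        exact (cjE K h hh).injective hab
      · rintro k ⟨x, hx⟩
        refine ⟨(cjE K h hh).symm k, ⟨(MulAut.conjNormal h : N ≃* N).symm x, ?_⟩, ?_⟩
        · rw [MulAut.conjNormal_symm_apply, cjE_symm_coe]
          rw [MulAut.conjNormal_apply] at hx
          have : (n : G) = h⁻¹ * (h * (n : G) * h⁻¹) * h := by group
          rw [this, ← hx]
          group
        · exact (cjE K h hh).apply_symm_apply k
    · intro k _
      simp only [Function.comp_apply, map_one]
  rw [h1, h2]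
  exact key

end conjInd

end Cfsg.Agent.Lib.Helper6.HKBase
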