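/-
helper6: stabilisers of covered blocks in a normal subgroup of `p`-power index over `N`.
If `N ≤ L` are normal in `G` with `L / N` a `p`-group, the block `B` of `G` covers the block `c` of
`N`, and `N` contains a defect group of `B`, then the stabiliser of `c` meets `L` in `N`.
-/
import Mathlib
import Cfsg.Agent.Lib.Helper6.FongGen
import Cfsg.Agent.Lib.Helper6.KnoerrInv
import Cfsg.Agent.Lib.Helper6.BlockIso
import Cfsg.Agent.Lib.Helper6.CharExtra
import Cfsg.Agent.Lib.Helper6.CliffordCorr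

set_option autoImplicit false
set_option linter.unusedSectionVars false

namespace Cfsg.Agent.Lib.Helper6.StabPQuot

open Cfsg Cfsg.Agent.CharLib Cfsg.Agent.Lib.Helper24 Cfsg.Agent.Lib.Helper23
  Cfsg.Agent.Lib.Helper6 Cfsg.Agent.Lib.Helper6.Fong Cfsg.Agent.Lib.Helper6.CoverDefect
  Cfsg.Agent.Lib.Helper6.FongReynolds Cfsg.Agent.Lib.Helper6.KnoerrInv
open scoped ComplexConjugate

universe u

section iso

variable {A A' : Type u} [Group A] [Group A'] {M : Ideal AlgInt}

/-- The defect of a block is preserved by transport along an isomorphism. -/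
theorem blockDefect_pullBlock (p : ℕ) (ψ : A ≃* A') (b : Set (IrrCharacter A')) :
    blockDefect p (BlockIso.pullBlock ψ b) = blockDefect p b := by
  unfold blockDefect
  rw [Nat.card_congr ψ.toEquiv]
  congr 2
  ext m
  constructor
  · rintro ⟨θ, hθ, rfl⟩
    refine ⟨irrCompIso ψ.symm θ, hθ, ?_⟩
    change (charDegree ((θ : A → ℂ) ∘ ψ.symm)).factorization p = _
    unfold charDegree
    simp
  · rintro ⟨θ', hθ', rfl⟩
    refine ⟨irrCompIso ψ θ', BlockIso.irrCompIso_mem_pullBlock ψ hθ', ?_⟩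
    change (charDegree ((θ' : A' → ℂ) ∘ ψ)).factorization p = _
    unfold charDegree
    simp

end iso

section stab

variable {G : Type u} [Group G] (N : Subgroup G) [hN : N.Normal]

/-- The stabiliser condition of the statements in terms of `conjIrr`. -/
theorem stabilizesBlock_iff (c : Set (IrrCharacter N)) (g : G) :
    StabilizesBlock N c g ↔ ∀ θ ∈ c, conjIrr g⁻¹ θ ∈ c := by
  constructor
  · intro h θ hθ
    obtain ⟨χ', hχ', hconj⟩ := h.2 θ hθ
    have : χ' = conjIrr g⁻¹ θ := by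
      apply Subtype.ext
      funext k'
      change (χ' : N → ℂ) k' = conjFun N g⁻¹ (θ : N → ℂ) k'
      rw [conjFun_apply]
      apply hconj
      simp only [inv_inv]
      group
    rw [← this]
    exact hχ'
  · intro h
    refine ⟨by rw [Subgroup.normalizer_eq_top]; exact Subgroup.mem_top g, ?_⟩
    intro χ hχ
    refine ⟨conjIrr g⁻¹ χ, h χ hχ, ?_⟩
    intro k k' hk
    change conjFun N g⁻¹ (χ : N → ℂ) k' = _
    rw [conjFun_apply]
    refine congrArg (χ : N → ℂ) ?_
    apply Subtype.ext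
    change g⁻¹ * (k' : G) * g⁻¹⁻¹ = k
    rw [hk]
    group

end stab

section interm

variable {G : Type u} [Group G] [Fintype G]

/-- A constituent of the restriction to `N` lies under a constituent of the restriction to an
intermediate subgroup `L`. -/
theorem exists_intermediate (N L : Subgroup G) [Fintype N] [Fintype L] (hNL : N ≤ L)
    (χ : IrrCharacter G) (θ : IrrCharacter N)
    (h : classInner (resFun N (χ : G → ℂ)) (θ : N → ℂ) ≠ 0) :
    ∃ ψ : IrrCharacter L, classInner (resFun L (χ : G → ℂ)) (ψ : L → ℂ) ≠ 0 ∧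
      classInner (resLE hNL (ψ : L → ℂ)) (θ : N → ℂ) ≠ 0 := by
  classical
  let _ := fintypeIrr L
  have hχc : IsCharacter L (resFun L (χ : G → ℂ)) :=
    IsCharacter.comp_hom (IsIrrCharacter.isCharacter χ.2) L.subtype
  obtain ⟨m, hm, hcoef⟩ := IsCharacter.exists_decomp_sum hχc
  by_contra hcon
  push Not at hcon
  apply h
  have h1 : resFun N (χ : G → ℂ) = resLE hNL (resFun L (χ : G → ℂ)) := rfl
  rw [h1, hm, map_sum, classInner_sum_left]
  apply Finset.sum_eq_zero
  intro ψ _
  rw [← Nat.cast_smul_eq_nsmul ℂ, map_smul, classInner_smul_left]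
  by_cases hψ : classInner (resFun L (χ : G → ℂ)) (ψ : L → ℂ) = 0
  · rw [hcoef ψ] at hψ
    rw [hψ, zero_mul]
  · rw [hcon ψ hψ, mul_zero]

end interm

section main

variable {G : Type u} [Group G] [Fintype G] {M : Ideal AlgInt} {p : ℕ} [hpp : Fact p.Prime]

/-- Two-sided Knörr bound: if a defect group `D` of `B` lies in the normal subgroup `N` and `B`
covers the block `b` of `N`, then `d(b) = d(B)`. -/
theorem blockDefect_eq_of_defectGroup_le (N : Subgroup G) [hN : N.Normal] [Fintype N]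
    (hM : IsPModular p M) {b : Set (IrrCharacter N)} (hb : IsPBlock M b)
    (B : Set (IrrCharacter G)) (hB : IsPBlock M B)
    (hcov : ∃ χ ∈ B, ∃ θ ∈ b, classInner (fun n : N => (χ : G → ℂ) n) (θ : N → ℂ) ≠ 0)
    (D : Subgroup G) (hD : IsDefectGroup p M B D) (hDN : D ≤ N) :
    blockDefect p b = blockDefect p B := by
  have hp : p.Prime := hpp.out
  have hBS : ∀ χ ∈ B, χ ∈ coverSet N b := by
    obtain ⟨χ₀, hχ₀, θ, hθ, hc⟩ := hcov
    intro χ hχ
    exact coverSet_closed' N hM hb ⟨θ, hθ, hc⟩ (sameBlock_of_mem hM hB hχ₀ hχ)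
  have h1 := pow_blockDefect_le_card_inf N hM hb B hB hBS D hD
  have h2 := card_inf_le N hM hb B hB (by
    obtain ⟨χ₀, hχ₀, θ, hθ, hc⟩ := hcov
    exact ⟨χ₀, hχ₀, θ, hθ, hc⟩) D hD
  have h3 : (D ⊓ N : Subgroup G) = D := inf_eq_left.mpr hDN
  rw [h3] at h1 h2
  have h4 := card_defectGroup_eq hM B hB D hD
  rw [h4] at h1 h2
  exact Nat.pow_right_injective hp.two_le (le_antisymm h1 h2)

/-- **Stabilisers in `p`-power layers**: `T ∩ L = N`. -/
theorem stab_inf_eq (hM : IsPModular p M) (N L : Subgroup G) [hN : N.Normal] [hL : L.Normal]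
    [Fintype N] (hNL : N ≤ L) (hLN : ∃ k : ℕ, (N.subgroupOf L).index = p ^ k)
    (B : Set (IrrCharacter G)) (hB : IsPBlock M B) (c : Set (IrrCharacter N))
    (hc : IsPBlock M c)
    (hcov : ∃ χ ∈ B, ∃ θ ∈ c, classInner (fun n : N => (χ : G → ℂ) n) (θ : N → ℂ) ≠ 0)
    (hD : ∃ D : Subgroup G, IsDefectGroup p M B D ∧ D ≤ N) (T : Subgroup G)
    (hT : ∀ x : G, x ∈ T ↔ StabilizesBlock N c x) : T ⊓ L = N := by
  classical
  have hprime : M.IsPrime := isPrime_of_isPModular hM
  have hp : p.Prime := hpp.out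
  let _ : Fintype L := Fintype.ofFinite L
  let _ : Fintype (N.subgroupOf L) := Fintype.ofFinite _
  obtain ⟨D, hDB, hDN⟩ := hD
  -- the stabiliser in terms of `conjIrr`
  have hstab : ∀ t ∈ T, ∀ θ ∈ c, conjIrr t θ ∈ c := by
    intro t ht θ hθ
    have h1 := (stabilizesBlock_iff N c t⁻¹).mp ((hT _).mp (T.inv_mem ht)) θ hθ
    rwa [inv_inv] at h1
  have hTb : ∀ g : G, ∀ θ ∈ c, conjIrr g θ ∈ c → g ∈ T := by
    intro g θ hθ hg
    have h1 : StabilizesBlock N c g⁻¹ := by
      rw [stabilizesBlock_iff, inv_inv]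
      intro θ₂ hθ₂
      exact conjIrr_mem_of_conjIrr_mem hc hθ hg hθ₂
    have := T.inv_mem ((hT _).mpr h1)
    rwa [inv_inv] at this
  obtain ⟨χ₀, hχ₀, θ₀, hθ₀, hχθ⟩ := hcov
  apply le_antisymm
  swap
  · -- `N ≤ T ∩ L`
    intro x hx
    refine ⟨?_, hNL hx⟩
    apply hTb x θ₀ hθ₀
    have : conjIrr x θ₀ = θ₀ := by
      apply Subtype.ext
      exact conjFun_of_mem N (IsCharacter.isClassFunction (IsIrrCharacter.isCharacter θ₀.2)) hx
    rw [this]
    exact hθ₀
  -- the intermediate block of `L`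
  obtain ⟨ψ, hψχ, hψθ⟩ := exists_intermediate N L hNL χ₀ θ₀ hχθ
  set C : Set (IrrCharacter L) := blockOf M (ψ : L → ℂ) with hCdef
  have hC : IsPBlock M C := ⟨ψ, rfl⟩
  have hdC : blockDefect p C = blockDefect p B :=
    blockDefect_eq_of_defectGroup_le L hM hC B hB ⟨χ₀, hχ₀, ψ, mem_blockOf_self ψ, hψχ⟩ D hDB
      (hDN.trans hNL)
  have hdc : blockDefect p c = blockDefect p B :=
    blockDefect_eq_of_defectGroup_le N hM hc B hB ⟨χ₀, hχ₀, θ₀, hθ₀, hχθ⟩ D hDB hDN
  -- transport to the ambient group `L`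
  set N' : Subgroup L := N.subgroupOf L with hN'
  set e : N' ≃* N := Subgroup.subgroupOfEquivOfLe hNL with he
  set c' : Set (IrrCharacter N') := BlockIso.pullBlock e c with hc'
  have hc'blk : IsPBlock M c' := BlockIso.isPBlock_pullBlock e hc
  set T' : Subgroup L := (T ⊓ L).subgroupOf L with hT'
  have hconj : ∀ (g : L) (θ' : IrrCharacter N'),
      irrCompIso e.symm (conjIrr g θ') = conjIrr (g : G) (irrCompIso e.symm θ') := by
    intro g θ'
    apply Subtype.ext
    funext n
    change conjFun N' g (θ' : N' → ℂ) (e.symm n) =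
      conjFun N (g : G) ((irrCompIso e.symm θ' : IrrCharacter N) : N → ℂ) n
    rw [conjFun_apply, conjFun_apply, irrCompIso_apply]
    refine congrArg (θ' : N' → ℂ) ?_
    apply Subtype.ext
    apply Subtype.ext
    rfl
  have hstab' : ∀ t ∈ T', ∀ θ' ∈ c', conjIrr t θ' ∈ c' := by
    intro t ht θ' hθ'
    change irrCompIso e.symm (conjIrr t θ') ∈ c
    rw [hconj]
    exact hstab _ (Subgroup.mem_subgroupOf.mp ht).1 _ hθ'
  have hTb' : ∀ g : L, ∀ θ' ∈ c', conjIrr g θ' ∈ c' → g ∈ T' := by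
    intro g θ' hθ' hg
    have hg' : irrCompIso e.symm (conjIrr g θ') ∈ c := hg
    rw [hconj] at hg'
    exact Subgroup.mem_subgroupOf.mpr ⟨hTb _ _ hθ' hg', g.2⟩
  have hcov' : ∃ χ ∈ C, ∃ θ' ∈ c',
      classInner (fun n : N' => (χ : L → ℂ) n) (θ' : N' → ℂ) ≠ 0 := by
    refine ⟨ψ, mem_blockOf_self ψ, irrCompIso e θ₀, BlockIso.irrCompIso_mem_pullBlock e hθ₀, ?_⟩
    have h1 : (fun n : N' => (ψ : L → ℂ) n) = (resLE hNL (ψ : L → ℂ)) ∘ e := by
      funext n
      rfl
    have h2 : ((irrCompIso e θ₀ : IrrCharacter N') : N' → ℂ) = (θ₀ : N → ℂ) ∘ e := rfl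
    rw [h1, h2, classInner_comp_mulEquiv]
    exact hψθ
  have hkey := FongGen.defect_lower_bound_pgroup N' hM hLN hc'blk T' hstab' hTb' C hC hcov'
  rw [hc', blockDefect_pullBlock, hdC, hdc] at hkey
  have hcN' : Nat.card N' = Nat.card N := Nat.card_congr e.toEquiv
  have hcT' : Nat.card T' = Nat.card (T ⊓ L : Subgroup G) :=
    Nat.card_congr (Subgroup.subgroupOfEquivOfLe inf_le_right).toEquiv
  rw [hcN', hcT'] at hkey
  have hle : (Nat.card (T ⊓ L : Subgroup G)).factorization p ≤ (Nat.card N).factorization p := by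
    omega
  -- index bookkeeping
  set K : Subgroup G := T ⊓ L with hK
  have hNK : N ≤ K := by
    intro x hx
    refine ⟨?_, hNL hx⟩
    apply hTb x θ₀ hθ₀
    have : conjIrr x θ₀ = θ₀ := by
      apply Subtype.ext
      exact conjFun_of_mem N (IsCharacter.isClassFunction (IsIrrCharacter.isCharacter θ₀.2)) hx
    rw [this]
    exact hθ₀
  have hKL : K ≤ L := inf_le_right
  obtain ⟨k, hk⟩ := hLN
  have hrel : N.relIndex K * K.relIndex L = p ^ k := by
    rw [Subgroup.relIndex_mul_relIndex N K L hNK hKL]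
    exact hk
  have hdvd : N.relIndex K ∣ p ^ k := Dvd.intro _ hrel
  obtain ⟨j, -, hj⟩ := (Nat.dvd_prime_pow hp).mp hdvd
  have hcard : Nat.card N * N.relIndex K = Nat.card K := by
    have h1 := Subgroup.card_mul_index (N.subgroupOf K)
    have h2 : Nat.card (N.subgroupOf K) = Nat.card N :=
      Nat.card_congr (Subgroup.subgroupOfEquivOfLe hNK).toEquiv
    rw [h2] at h1
    exact h1
  have hfac : (Nat.card K).factorization p = (Nat.card N).factorization p + j := by
    rw [← hcard, hj, Nat.factorization_mul Nat.card_pos.ne' (pow_ne_zero _ hp.ne_zero)]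
    simp [hp.factorization_self]
  have hj0 : j = 0 := by omega
  rw [hj0, pow_zero] at hj
  exact Subgroup.relIndex_eq_one.mp hj

end main

end Cfsg.Agent.Lib.Helper6.StabPQuot
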