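/-
helper6: covering and induction for the Harris–Knörr correspondence.  With `H = N_G(Q)`, a block
`d` of `N ⊴ G` with defect group `Q` and its Brauer correspondent `e` in `H ∩ N = N_N(Q)`:
if the block `c` of `H` induces `B`, then `c` covers `e` if and only if `B` covers `d`.
-/
import Mathlib
import Cfsg.Agent.Lib.Helper6.HKBase
import Cfsg.Agent.Lib.Helper6.KnoerrGen
import Cfsg.Agent.Lib.Helper6.StabPQuot
import Cfsg.Agent.Lib.Helper6.BrauerMap
import Cfsg.Agent.Lib.Helper6.InducedDefect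
import Cfsg.Agent.Lib.Helper6.FirstMain

set_option autoImplicit false
set_option linter.unusedSectionVars false

namespace Cfsg.Agent.Lib.Helper6.HKCover

open Cfsg Cfsg.Agent.CharLib Cfsg.Agent.Lib.Helper24 Cfsg.Agent.Lib.Helper23
  Cfsg.Agent.Lib.Helper6 Cfsg.Agent.Lib.Helper6.Fong Cfsg.Agent.Lib.Helper6.CoverDefect
  Cfsg.Agent.Lib.Helper6.HKBase Cfsg.Agent.Lib.Helper6.KnoerrGen
open scoped ComplexConjugate

universe u

variable {G : Type u} [Group G] [Fintype G] (N : Subgroup G) [hN : N.Normal] [Fintype N]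
  {M : Ideal AlgInt} {p : ℕ} [hpp : Fact p.Prime]

/-- The covering hypothesis of the statement, read in the ambient group `H`. -/
theorem cov_iff (H : Subgroup G) [Fintype ↥(H ⊓ N)] [Fintype (N.subgroupOf H)]
    (c : Set (IrrCharacter H)) (e : Set (IrrCharacter ↥(H ⊓ N))) :
    (∃ ψ ∈ c, ∃ ξ ∈ e, classInner (fun l : ↥(H ⊓ N) => (ψ : H → ℂ)
      (Subgroup.inclusion inf_le_left l)) (ξ : ↥(H ⊓ N) → ℂ) ≠ 0) ↔
    ∃ ψ ∈ c, ∃ η ∈ BlockIso.pullBlock (kH N H) e,
      classInner (fun l : N.subgroupOf H => (ψ : H → ℂ) l) (η : N.subgroupOf H → ℂ) ≠ 0 := by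
  have key : ∀ (ψ : IrrCharacter H) (ξ : IrrCharacter ↥(H ⊓ N)),
      classInner (fun l : N.subgroupOf H => (ψ : H → ℂ) l)
        ((irrCompIso (kH N H) ξ : IrrCharacter (N.subgroupOf H)) : N.subgroupOf H → ℂ) =
      classInner (fun l : ↥(H ⊓ N) => (ψ : H → ℂ) (Subgroup.inclusion inf_le_left l))
        (ξ : ↥(H ⊓ N) → ℂ) := by
    intro ψ ξ
    have h1 : (fun l : N.subgroupOf H => (ψ : H → ℂ) l) =
        (fun l : ↥(H ⊓ N) => (ψ : H → ℂ) (Subgroup.inclusion inf_le_left l)) ∘ (kH N H) := by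
      funext l
      rfl
    have h2 : ((irrCompIso (kH N H) ξ : IrrCharacter (N.subgroupOf H)) : N.subgroupOf H → ℂ) =
        (ξ : ↥(H ⊓ N) → ℂ) ∘ (kH N H) := rfl
    rw [h1, h2, classInner_comp_mulEquiv]
  constructor
  · rintro ⟨ψ, hψ, ξ, hξ, h⟩
    refine ⟨ψ, hψ, irrCompIso (kH N H) ξ, BlockIso.irrCompIso_mem_pullBlock _ hξ, ?_⟩
    rw [key]
    exact h
  · rintro ⟨ψ, hψ, η, hη, h⟩
    refine ⟨ψ, hψ, irrCompIso (kH N H).symm η, hη, ?_⟩
    rw [← key, BlockIso.irrCompIso_irrCompIso_symm]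
    exact h

/-- **Induction preserves covering**: if `c` covers `e`, `c` induces `B` and `e` induces `d`
inside `N`, then `B` covers `d`. -/
theorem covers_of_induced (hM : IsPModular p M) (Q : Subgroup G) (hQN : Q ≤ N)
    (H : Subgroup G) (hHdef : H = Subgroup.normalizer (Q : Set G)) [Fintype H]
    [Fintype (N.subgroupOf H)] [Fintype ↥(H ⊓ N)]
    (d : Set (IrrCharacter N)) (e : Set (IrrCharacter ↥(H ⊓ N)))
    (hed : IsInducedBlockIn M N (H ⊓ N) e d)
    (c : Set (IrrCharacter H)) (B : Set (IrrCharacter G)) (hcB : IsInducedBlock M H c B)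
    (hcov : ∃ ψ ∈ c, ∃ η ∈ BlockIso.pullBlock (kH N H) e,
      classInner (fun l : N.subgroupOf H => (ψ : H → ℂ) l) (η : N.subgroupOf H → ℂ) ≠ 0) :
    ∃ χ ∈ B, ∃ θ ∈ d, classInner (fun n : N => (χ : G → ℂ) n) (θ : N → ℂ) ≠ 0 := by
  classical
  subst hHdef
  have hprime : M.IsPrime := isPrime_of_isPModular hM
  let _ : Fintype (Subgroup.normalizer ((Q.subgroupOf N : Subgroup N) : Set N)) :=
    Fintype.ofFinite _
  have hd : IsPBlock M d := hed.2.1
  obtain ⟨ψ, hψ, η, hη, hover⟩ := hcov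
  obtain ⟨χ, hχ⟩ : ∃ χ, χ ∈ B := by
    obtain ⟨χ₀, h⟩ := hcB.2.1
    exact ⟨χ₀, by rw [h]; exact mem_blockOf_self χ₀⟩
  obtain ⟨θ, hθ⟩ : ∃ θ, θ ∈ d := by
    obtain ⟨θ₀, h⟩ := hd
    exact ⟨θ₀, by rw [h]; exact mem_blockOf_self θ₀⟩
  set a₀ : N → ℂ := blockCoeff (conjUnion N d) with ha₀def
  have ha₀ : ∀ (g : G) (n : N), a₀ (conjN N g n) = a₀ n := blockCoeff_conjUnion_conjN N d
  have hacls : IsClassFunction G (extN N a₀) := extN_conjUnion_isClassFunction N d
  have haR : ∀ g, MemLocalRing M (extN N a₀ g) := extN_conjUnion_memLocalRing N hd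
  have h1 := memLocalIdeal_omegaFun_resFun_sub_of_induced _ hcB hψ hχ hacls haR
  have h2 := omegaFun_resFun_extN N _ ψ η hover a₀ ha₀
  set η' : IrrCharacter ↥(Subgroup.normalizer (Q : Set G) ⊓ N) :=
    irrCompIso (kH N (Subgroup.normalizer (Q : Set G))).symm η with hη'
  have hη'e : η' ∈ e := hη
  have hedN := (isInducedBlockIn_iff_nested (M := M) N (Subgroup.normalizer (Q : Set G) ⊓ N)
    (Subgroup.normalizer ((Q.subgroupOf N : Subgroup N) : Set N)) (kN N Q hQN)
    (fun k' => kN_coe N Q hQN k') e d).mp hed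
  have hζ : irrCompIso (kN N Q hQN) η' ∈ BlockIso.pullBlock (kN N Q hQN) e :=
    BlockIso.irrCompIso_mem_pullBlock _ hη'e
  have h3 := memLocalIdeal_omegaFun_resFun_sub_of_induced
    (Subgroup.normalizer ((Q.subgroupOf N : Subgroup N) : Set N)) hedN hζ hθ
    (blockCoeff_isClassFunction (conjUnion N d))
    (fun x => memLocalRing_blockCoeff_of_closed _ (conjUnion_closed N hd) x)
  have h4 := omegaFun_resFun_kN N Q hQN η' a₀
  have h5 : omegaFun (θ : N → ℂ) a₀ = 1 := by
    rw [ha₀def, omegaFun_blockCoeff, if_pos (subset_conjUnion N d hθ)]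
  have h6 : omegaFun (χ : G → ℂ) (extN N a₀) = if χ ∈ coverSet N d then 1 else 0 := by
    rw [ha₀def, extN_blockCoeff_conjUnion_eq N hM hd, omegaFun_blockCoeff]
  by_cases hχS : χ ∈ coverSet N d
  · obtain ⟨θ₁, hθ₁, hc⟩ := hχS
    exact ⟨χ, hχ, θ₁, hθ₁, hc⟩
  · exfalso
    rw [h6, if_neg hχS, sub_zero, h2, ← h4] at h1
    rw [h5] at h3
    have := memLocalIdeal_sub h1 h3
    rw [sub_sub_cancel] at this
    exact not_memLocalIdeal_one this


/-- **Induction reflects covering**: if `c` induces `B` and `B` covers `d`, then `c` covers the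
Brauer correspondent `e` of `d`. -/
theorem covers_e_of_induced (hM : IsPModular p M) (Q : Subgroup G) (hQ : IsPGroup p Q)
    (hQN : Q ≤ N) (H : Subgroup G) (hHdef : H = Subgroup.normalizer (Q : Set G)) [Fintype H]
    [Fintype (N.subgroupOf H)] [Fintype ↥(H ⊓ N)]
    (d : Set (IrrCharacter N)) (hdQ : IsDefectGroup p M d (Q.subgroupOf N))
    (e : Set (IrrCharacter ↥(H ⊓ N))) (heQ : IsDefectGroup p M e (Q.subgroupOf (H ⊓ N)))
    (hed : IsInducedBlockIn M N (H ⊓ N) e d)
    (c : Set (IrrCharacter H)) (B : Set (IrrCharacter G)) (hcB : IsInducedBlock M H c B)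
    (hBd : ∀ χ ∈ B, χ ∈ coverSet N d) :
    ∃ ψ ∈ c, ∃ η ∈ BlockIso.pullBlock (kH N H) e,
      classInner (fun l : N.subgroupOf H => (ψ : H → ℂ) l) (η : N.subgroupOf H → ℂ) ≠ 0 := by
  classical
  subst hHdef
  have hprime : M.IsPrime := isPrime_of_isPModular hM
  let _ : Fintype (Subgroup.normalizer ((Q.subgroupOf N : Subgroup N) : Set N)) :=
    Fintype.ofFinite _
  have hd : IsPBlock M d := hed.2.1
  have he : IsPBlock M e := hed.1
  obtain ⟨ψ, hψ⟩ : ∃ ψ, ψ ∈ c := by
    obtain ⟨ψ₀, h⟩ := hcB.1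
    exact ⟨ψ₀, by rw [h]; exact mem_blockOf_self ψ₀⟩
  obtain ⟨χ, hχ⟩ : ∃ χ, χ ∈ B := by
    obtain ⟨χ₀, h⟩ := hcB.2.1
    exact ⟨χ₀, by rw [h]; exact mem_blockOf_self χ₀⟩
  obtain ⟨η, hover⟩ := exists_constituent_res (N.subgroupOf (Subgroup.normalizer (Q : Set G))) ψ
  set a₀ : N → ℂ := blockCoeff (conjUnion N d) with ha₀def
  have ha₀ : ∀ (g : G) (n : N), a₀ (conjN N g n) = a₀ n := blockCoeff_conjUnion_conjN N d
  have ha₀cls : IsClassFunction N a₀ := blockCoeff_isClassFunction (conjUnion N d)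
  have ha₀R : ∀ x, MemLocalRing M (a₀ x) :=
    fun x => memLocalRing_blockCoeff_of_closed _ (conjUnion_closed N hd) x
  have hacls : IsClassFunction G (extN N a₀) := extN_conjUnion_isClassFunction N d
  have haR : ∀ g, MemLocalRing M (extN N a₀ g) := extN_conjUnion_memLocalRing N hd
  have hBcls : IsClassFunction G (blockCoeff B) := blockCoeff_isClassFunction B
  have hBR : ∀ g, MemLocalRing M (blockCoeff B g) := by
    obtain ⟨χ₀, h⟩ := hcB.2.1
    rw [h]
    exact memLocalRing_blockCoeff_blockOf χ₀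
  have hconv : conv (blockCoeff B) (extN N a₀) = blockCoeff B := by
    rw [ha₀def, extN_blockCoeff_conjUnion_eq N hM hd]
    exact GradedNil.conv_blockCoeff_of_subset hBd
  have k1 := memLocalIdeal_omegaFun_resFun_conv Q (Subgroup.normalizer (Q : Set G)) hM hQ
    Subgroup.le_normalizer (Subgroup.centralizer_le_normalizer _) le_rfl hBcls hBR hacls haR ψ
  rw [hconv] at k1
  have k2 := memLocalIdeal_omegaFun_resFun_sub_of_induced _ hcB hψ hχ hBcls hBR
  have k3 : omegaFun (χ : G → ℂ) (blockCoeff B) = 1 := by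
    rw [omegaFun_blockCoeff, if_pos hχ]
  rw [k3] at k2
  have huR := memLocalRing_omegaFun (M := M) ψ
    (resFun_isClassFunction (Subgroup.normalizer (Q : Set G)) hBcls) (fun x => hBR x)
  have hvR := memLocalRing_omegaFun (M := M) ψ
    (resFun_isClassFunction (Subgroup.normalizer (Q : Set G)) hacls) (fun x => haR x)
  have h2 := omegaFun_resFun_extN N _ ψ η hover a₀ ha₀
  set η' : IrrCharacter ↥(Subgroup.normalizer (Q : Set G) ⊓ N) :=
    irrCompIso (kH N (Subgroup.normalizer (Q : Set G))).symm η with hη'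
  have hv1 : MemLocalIdeal M (1 - omegaFun (η' : ↥(Subgroup.normalizer (Q : Set G) ⊓ N) → ℂ)
      (rLN N (Subgroup.normalizer (Q : Set G)) a₀)) := by
    rw [← h2]
    revert k1 k2 huR hvR
    generalize omegaFun (ψ : Subgroup.normalizer (Q : Set G) → ℂ)
      (resFun (Subgroup.normalizer (Q : Set G)) (blockCoeff B)) = u
    generalize omegaFun (ψ : Subgroup.normalizer (Q : Set G) → ℂ)
      (resFun (Subgroup.normalizer (Q : Set G)) (extN N a₀)) = v
    intro k1 k2 huR hvR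
    have e1 : u - u * v = u * (1 - v) := by ring
    rw [e1] at k1
    rcases memLocalIdeal_or_of_mul huR (memLocalRing_sub memLocalRing_one hvR) k1 with h | h
    · exfalso
      have := memLocalIdeal_sub h k2
      rw [sub_sub_cancel] at this
      exact not_memLocalIdeal_one this
    · exact h
  -- the block of `η'` and the block it induces
  set f : Set (IrrCharacter ↥(Subgroup.normalizer (Q : Set G) ⊓ N)) :=
    blockOf M (η' : ↥(Subgroup.normalizer (Q : Set G) ⊓ N) → ℂ) with hfdef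
  set fN := BlockIso.pullBlock (kN N Q hQN) f with hfNdef
  have hfN : IsPBlock M fN := BlockIso.isPBlock_pullBlock _ ⟨η', rfl⟩
  have hQNp : IsPGroup p (Q.subgroupOf N) := hQ.comap_subtype
  obtain ⟨d', hfd'⟩ := inducedBlockDefined_of_le_normalizer hM (Q.subgroupOf N)
    (Subgroup.normalizer ((Q.subgroupOf N : Subgroup N) : Set N)) hQNp
    Subgroup.le_normalizer (Subgroup.centralizer_le_normalizer _) le_rfl fN hfN
  obtain ⟨θ', hθ'⟩ : ∃ θ', θ' ∈ d' := by
    obtain ⟨θ₀, h⟩ := hfd'.2.1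
    exact ⟨θ₀, by rw [h]; exact mem_blockOf_self θ₀⟩
  have hζ : irrCompIso (kN N Q hQN) η' ∈ fN :=
    BlockIso.irrCompIso_mem_pullBlock _ (mem_blockOf_self η')
  have h3 := memLocalIdeal_omegaFun_resFun_sub_of_induced
    (Subgroup.normalizer ((Q.subgroupOf N : Subgroup N) : Set N)) hfd' hζ hθ' ha₀cls ha₀R
  have h4 := omegaFun_resFun_kN N Q hQN η' a₀
  have h5 : omegaFun (θ' : N → ℂ) a₀ = if θ' ∈ conjUnion N d then 1 else 0 :=
    omegaFun_blockCoeff _ _
  have hθ'U : θ' ∈ conjUnion N d := by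
    by_contra hcon
    rw [h5, if_neg hcon, sub_zero, h4] at h3
    have := memLocalIdeal_add hv1 h3
    rw [sub_add_cancel] at this
    exact not_memLocalIdeal_one this
  obtain ⟨g, θ₁, hθ₁, hg⟩ := hθ'U
  have hd'blk : d' = blockOf M (θ' : N → ℂ) := (blockOf_eq_of_mem hfd'.2.1 hθ').symm
  have hd'eq : d' = BlockIso.pullBlock (MulAut.conjNormal g : N ≃* N) d := by
    rw [hd'blk, blockOf_conjFun_eq_pullBlock N g θ₁ θ' hg, blockOf_eq_of_mem hd hθ₁]
  -- `Q` is a defect group of `d'`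
  have hD₁ : IsDefectGroup p M d'
      ((Q.subgroupOf N).comap (MulAut.conjNormal g : N ≃* N).toMonoidHom) := by
    rw [hd'eq]
    exact BlockIso.isDefectGroup_pullBlock _ hdQ
  obtain ⟨R, hR⟩ := exists_isDefectGroup (p := p) hM fN hfN
  have hQR : (Q.subgroupOf N).subgroupOf
      (Subgroup.normalizer ((Q.subgroupOf N : Subgroup N) : Set N)) ≤ R :=
    le_of_isDefectGroup_of_normal hM ((Q.subgroupOf N).subgroupOf
      (Subgroup.normalizer ((Q.subgroupOf N : Subgroup N) : Set N))) hQNp.comap_subtype hfN hR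
  obtain ⟨E, hE, hRE⟩ := exists_defectGroup_ge_of_induced hM _ fN d' hfd' R hR
  have hQE : Q.subgroupOf N ≤ E := by
    intro q hq
    apply hRE
    refine ⟨⟨q, Subgroup.le_normalizer hq⟩, hQR ?_, rfl⟩
    exact Subgroup.mem_subgroupOf.mpr hq
  have hcardE : Nat.card E = Nat.card (Q.subgroupOf N) := by
    rw [card_defectGroup_eq hM d' hfd'.2.1 E hE, card_defectGroup_eq hM d hd _ hdQ, hd'eq,
      StabPQuot.blockDefect_pullBlock]
  have hEQ : Q.subgroupOf N = E := Subgroup.eq_of_le_of_card_ge hQE (le_of_eq hcardE)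
  have hQd' : IsDefectGroup p M d' (Q.subgroupOf N) := hEQ ▸ hE
  obtain ⟨n, hn⟩ := isDefectGroup_conj_of_isDefectGroup hM hfd'.2.1 hD₁ hQd'
  have hmem : ∀ x : N, x ∈ Q.subgroupOf N ↔ g * ((n : G)⁻¹ * (x : G) * (n : G)) * g⁻¹ ∈ Q := by
    intro x
    have h1 := SetLike.ext_iff.mp hn x
    rw [h1, Subgroup.mem_map]
    constructor
    · rintro ⟨w, hw, rfl⟩
      have hw' : ((MulAut.conjNormal g : N ≃* N) w : G) ∈ Q := Subgroup.mem_subgroupOf.mp hw
      rw [MulAut.conjNormal_apply] at hw'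
      simp only [MulEquiv.coe_toMonoidHom, MulAut.conj_apply, Subgroup.coe_mul,
        Subgroup.coe_inv]
      have e1 : (n : G)⁻¹ * ((n : G) * (w : G) * (n : G)⁻¹) * (n : G) = w := by group
      rw [e1]
      exact hw'
    · intro hx
      refine ⟨n⁻¹ * x * n, ?_, ?_⟩
      · change (MulAut.conjNormal g : N ≃* N) (n⁻¹ * x * n) ∈ Q.subgroupOf N
        rw [Subgroup.mem_subgroupOf, MulAut.conjNormal_apply]
        simpa using hx
      · simp only [MulEquiv.coe_toMonoidHom, MulAut.conj_apply]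
        group
  set h₀ : G := g * (n : G)⁻¹ with hh₀def
  have hh₀ : h₀ ∈ Subgroup.normalizer (Q : Set G) := by
    rw [Subgroup.mem_normalizer_iff]
    intro y
    have e1 : h₀ * y * h₀⁻¹ = g * ((n : G)⁻¹ * y * (n : G)) * g⁻¹ := by
      rw [hh₀def]; group
    rw [e1]
    by_cases hyN : y ∈ N
    · have := hmem ⟨y, hyN⟩
      rw [Subgroup.mem_subgroupOf] at this
      exact this
    · constructor
      · intro hy
        exact absurd (hQN hy) hyN
      · intro hy
        exfalso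
        apply hyN
        have h1 : g * ((n : G)⁻¹ * y * (n : G)) * g⁻¹ ∈ N := hQN hy
        have h2 := hN.conj_mem _ h1 g⁻¹
        have h3 : g⁻¹ * (g * ((n : G)⁻¹ * y * (n : G)) * g⁻¹) * g⁻¹⁻¹ = (n : G)⁻¹ * y * (n : G) := by
          group
        rw [h3] at h2
        have h4 := N.mul_mem (N.mul_mem n.2 h2) (N.inv_mem n.2)
        have h5 : (n : G) * ((n : G)⁻¹ * y * (n : G)) * (n : G)⁻¹ = y := by group
        rwa [h5] at h4
  have hg' : (θ' : N → ℂ) = conjFun N h₀ (θ₁ : N → ℂ) := by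
    have e1 : g = h₀ * (n : G) := by rw [hh₀def]; group
    rw [hg, e1, conjFun_mul]
    exact conjFun_of_mem N (IsCharacter.isClassFunction
      (IsIrrCharacter.isCharacter (isIrrCharacter_conjFun N θ₁.2 h₀))) n.2
  have hd'eq' : d' = BlockIso.pullBlock (MulAut.conjNormal h₀ : N ≃* N) d := by
    rw [hd'blk, blockOf_conjFun_eq_pullBlock N h₀ θ₁ θ' hg', blockOf_eq_of_mem hd hθ₁]
  -- conjugate `e` by `h₀`
  have hh₀L : h₀ ∈ Subgroup.normalizer
      ((Subgroup.normalizer (Q : Set G) ⊓ N : Subgroup G) : Set G) := by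
    rw [Subgroup.mem_normalizer_iff]
    intro y
    constructor
    · rintro ⟨hy1, hy2⟩
      exact ⟨(Subgroup.normalizer (Q : Set G)).mul_mem
        ((Subgroup.normalizer (Q : Set G)).mul_mem hh₀ hy1)
        ((Subgroup.normalizer (Q : Set G)).inv_mem hh₀), hN.conj_mem y hy2 h₀⟩
    · rintro ⟨hy1, hy2⟩
      have e1 : y = h₀⁻¹ * (h₀ * y * h₀⁻¹) * h₀ := by group
      rw [e1]
      refine ⟨(Subgroup.normalizer (Q : Set G)).mul_mem
        ((Subgroup.normalizer (Q : Set G)).mul_mem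
          ((Subgroup.normalizer (Q : Set G)).inv_mem hh₀) hy1) hh₀, ?_⟩
      have := hN.conj_mem _ hy2 h₀⁻¹
      simpa using this
  set α := cjE (Subgroup.normalizer (Q : Set G) ⊓ N) h₀ hh₀L with hα
  set e' := BlockIso.pullBlock α e with he'def
  have he'd' : IsInducedBlockIn M N (Subgroup.normalizer (Q : Set G) ⊓ N) e' d' := by
    rw [hd'eq']
    exact isInducedBlockIn_conj N _ h₀ hh₀L e d hed
  have he'N := (isInducedBlockIn_iff_nested (M := M) N (Subgroup.normalizer (Q : Set G) ⊓ N)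
    (Subgroup.normalizer ((Q.subgroupOf N : Subgroup N) : Set N)) (kN N Q hQN)
    (fun k' => kN_coe N Q hQN k') e' d').mp he'd'
  have he'D : IsDefectGroup p M (BlockIso.pullBlock (kN N Q hQN) e')
      ((Q.subgroupOf N).subgroupOf
        (Subgroup.normalizer ((Q.subgroupOf N : Subgroup N) : Set N))) := by
    have h1 := BlockIso.isDefectGroup_pullBlock α heQ
    have h2 := BlockIso.isDefectGroup_pullBlock (kN N Q hQN) h1
    convert h2 using 1
    ext x
    rw [Subgroup.mem_subgroupOf, Subgroup.mem_subgroupOf, Subgroup.mem_comap, Subgroup.mem_comap,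
      Subgroup.mem_subgroupOf]
    change ((x : N) : G) ∈ Q ↔ ((α (kN N Q hQN x) : ↥(Subgroup.normalizer (Q : Set G) ⊓ N)) : G) ∈ Q
    rw [hα, cjE_coe, kN_coe]
    exact Subgroup.mem_normalizer_iff.mp hh₀ _
  have hfe : fN = BlockIso.pullBlock (kN N Q hQN) e' :=
    block_normalizer_unique hM (Q.subgroupOf N) hQNp d' fN _ hfd' he'N he'D
  have hfe' : f = e' := by
    have := congrArg (BlockIso.pullBlock (kN N Q hQN).symm) hfe
    rwa [hfNdef, BlockIso.pullBlock_symm_pullBlock, BlockIso.pullBlock_symm_pullBlock] at this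
  have hη'e' : η' ∈ e' := by
    rw [← hfe']
    exact mem_blockOf_self η'
  set ξ₀ : IrrCharacter ↥(Subgroup.normalizer (Q : Set G) ⊓ N) := irrCompIso α.symm η' with hξ₀def
  have hξ₀ : ξ₀ ∈ e := hη'e'
  refine ⟨ψ, hψ, irrCompIso (kH N (Subgroup.normalizer (Q : Set G))) ξ₀,
    BlockIso.irrCompIso_mem_pullBlock _ hξ₀, ?_⟩
  have e1 : ((irrCompIso (kH N (Subgroup.normalizer (Q : Set G))) ξ₀ :
      IrrCharacter (N.subgroupOf (Subgroup.normalizer (Q : Set G)))) :
        N.subgroupOf (Subgroup.normalizer (Q : Set G)) → ℂ) =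
      conjFun (N.subgroupOf (Subgroup.normalizer (Q : Set G)))
        (⟨h₀, hh₀⟩ : Subgroup.normalizer (Q : Set G))⁻¹
        (η : N.subgroupOf (Subgroup.normalizer (Q : Set G)) → ℂ) := by
    funext l
    rw [conjFun_apply]
    change (η : N.subgroupOf (Subgroup.normalizer (Q : Set G)) → ℂ)
      ((kH N (Subgroup.normalizer (Q : Set G))).symm
        (α.symm (kH N (Subgroup.normalizer (Q : Set G)) l))) = _
    refine congrArg (η : N.subgroupOf (Subgroup.normalizer (Q : Set G)) → ℂ) ?_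
    apply Subtype.ext
    apply Subtype.ext
    rw [kH_symm_coe, hα, cjE_symm_coe, kH_coe]
    simp
  rw [e1]
  have hψcls : IsClassFunction (Subgroup.normalizer (Q : Set G))
      (ψ : Subgroup.normalizer (Q : Set G) → ℂ) :=
    IsCharacter.isClassFunction (IsIrrCharacter.isCharacter ψ.2)
  have := classInner_resFun_conjFun (N.subgroupOf (Subgroup.normalizer (Q : Set G))) hψcls
    (⟨h₀, hh₀⟩ : Subgroup.normalizer (Q : Set G))⁻¹
    (η : N.subgroupOf (Subgroup.normalizer (Q : Set G)) → ℂ)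
  change classInner (resFun (N.subgroupOf (Subgroup.normalizer (Q : Set G)))
    (ψ : Subgroup.normalizer (Q : Set G) → ℂ)) _ ≠ 0
  rw [this]
  exact hover

end Cfsg.Agent.Lib.Helper6.HKCover
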