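/-
helper6: the Harris–Knörr correspondence.  Let `N ⊴ G`, `Q ≤ N` a `p`-subgroup, `H = N_G(Q)`,
`d` a block of `N` with defect group `Q` and `e` its Brauer correspondent in `H ∩ N`.  Then block
induction is a bijection from the blocks of `H` covering `e` onto the blocks of `G` covering `d`.
-/
import Mathlib
import Cfsg.Agent.Lib.Helper6.HKCover
import Cfsg.Agent.Lib.Helper6.HKFirstMain

set_option autoImplicit false
set_option linter.unusedSectionVars false

namespace Cfsg.Agent.Lib.Helper6.HKMain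

open Cfsg Cfsg.Agent.CharLib Cfsg.Agent.Lib.Helper24 Cfsg.Agent.Lib.Helper23
  Cfsg.Agent.Lib.Helper6 Cfsg.Agent.Lib.Helper6.Fong Cfsg.Agent.Lib.Helper6.CoverDefect
  Cfsg.Agent.Lib.Helper6.HKBase Cfsg.Agent.Lib.Helper6.KnoerrGen Cfsg.Agent.Lib.Helper6.HKCover
  Cfsg.Agent.Lib.Helper6.HKFirstMain
open scoped ComplexConjugate

universe u

variable {G : Type u} [Group G] [Fintype G] (N : Subgroup G) [hN : N.Normal] [Fintype N]
  {M : Ideal AlgInt} {p : ℕ} [hpp : Fact p.Prime]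

omit [Fintype G] [Fintype N] in
/-- A subgroup meeting `N` in `Q` has its normaliser inside `N_G(Q)`. -/
theorem normalizer_le_of_inf_eq {P Q : Subgroup G} (h : P ⊓ N = Q) :
    Subgroup.normalizer (P : Set G) ≤ Subgroup.normalizer (Q : Set G) := by
  intro g hg
  rw [Subgroup.mem_normalizer_iff] at hg ⊢
  intro y
  rw [← h, Subgroup.mem_inf, Subgroup.mem_inf]
  constructor
  · rintro ⟨h1, h2⟩
    exact ⟨(hg y).mp h1, hN.conj_mem y h2 g⟩
  · rintro ⟨h1, h2⟩
    refine ⟨(hg y).mpr h1, ?_⟩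
    have := hN.conj_mem _ h2 g⁻¹
    simpa [mul_assoc] using this

/-- **Knörr's theorem in `H`**: a block of `H = N_G(Q)` covering `e` has a defect group meeting
`N` in `Q`. -/
theorem exists_defectGroup_H (hM : IsPModular p M) (Q : Subgroup G) (hQN : Q ≤ N)
    (H : Subgroup G) (hQH : Q ≤ H) [Fintype H] [Fintype (N.subgroupOf H)] [Fintype ↥(H ⊓ N)]
    (e : Set (IrrCharacter ↥(H ⊓ N))) (he : IsPBlock M e)
    (heQ : IsDefectGroup p M e (Q.subgroupOf (H ⊓ N)))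
    (c : Set (IrrCharacter H)) (hc : IsPBlock M c)
    (hcov : ∃ ψ ∈ c, ∃ η ∈ BlockIso.pullBlock (kH N H) e,
      classInner (fun l : N.subgroupOf H => (ψ : H → ℂ) l) (η : N.subgroupOf H → ℂ) ≠ 0) :
    ∃ P : Subgroup G, P ≤ H ∧ IsDefectGroup p M c (P.subgroupOf H) ∧ P ⊓ N = Q := by
  classical
  have hprime : M.IsPrime := isPrime_of_isPModular hM
  have heH : IsPBlock M (BlockIso.pullBlock (kH N H) e) := BlockIso.isPBlock_pullBlock _ he
  have hcS : ∀ χ ∈ c, χ ∈ coverSet (N.subgroupOf H) (BlockIso.pullBlock (kH N H) e) := by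
    obtain ⟨ψ, hψ, η, hη, hover⟩ := hcov
    intro χ hχ
    exact coverSet_closed' (N.subgroupOf H) hM heH ⟨η, hη, hover⟩ (sameBlock_of_mem hM hc hψ hχ)
  have hQle : Q.subgroupOf H ≤ N.subgroupOf H := by
    intro x hx
    exact Subgroup.mem_subgroupOf.mpr (hQN (Subgroup.mem_subgroupOf.mp hx))
  have hQdef : IsDefectGroup p M (BlockIso.pullBlock (kH N H) e)
      ((Q.subgroupOf H).subgroupOf (N.subgroupOf H)) := by
    have h1 := BlockIso.isDefectGroup_pullBlock (kH N H) heQ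
    convert h1 using 1
    ext x
    rfl
  obtain ⟨P, hP, hPN⟩ := exists_defectGroup_inf_eq (N.subgroupOf H) hM heH c hc hcS
    (Q.subgroupOf H) hQle hQdef
  refine ⟨P.map H.subtype, ?_, ?_, ?_⟩
  · rintro _ ⟨x, _, rfl⟩
    exact x.2
  · have : (P.map H.subtype).subgroupOf H = P :=
      Subgroup.comap_map_eq_self_of_injective H.subtype_injective P
    rw [this]
    exact hP
  · ext y
    rw [Subgroup.mem_inf]
    constructor
    · rintro ⟨⟨x, hx, rfl⟩, hyN⟩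
      have h1 : x ∈ P ⊓ N.subgroupOf H := ⟨hx, Subgroup.mem_subgroupOf.mpr hyN⟩
      rw [hPN] at h1
      exact Subgroup.mem_subgroupOf.mp h1
    · intro hy
      have h1 : (⟨y, hQH hy⟩ : H) ∈ Q.subgroupOf H := Subgroup.mem_subgroupOf.mpr hy
      rw [← hPN] at h1
      exact ⟨⟨⟨y, hQH hy⟩, h1.1, rfl⟩, hQN hy⟩

/-- **Injectivity of the Harris–Knörr map**. -/
theorem unique_block (hM : IsPModular p M) (Q : Subgroup G) (hQN : Q ≤ N)
    (H : Subgroup G) (hHdef : H = Subgroup.normalizer (Q : Set G)) [Fintype H]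
    [Fintype (N.subgroupOf H)] [Fintype ↥(H ⊓ N)]
    (e : Set (IrrCharacter ↥(H ⊓ N))) (he : IsPBlock M e)
    (heQ : IsDefectGroup p M e (Q.subgroupOf (H ⊓ N)))
    (c₁ c₂ : Set (IrrCharacter H)) (B : Set (IrrCharacter G))
    (h₁ : IsInducedBlock M H c₁ B) (h₂ : IsInducedBlock M H c₂ B)
    (hcov₁ : ∃ ψ ∈ c₁, ∃ η ∈ BlockIso.pullBlock (kH N H) e,
      classInner (fun l : N.subgroupOf H => (ψ : H → ℂ) l) (η : N.subgroupOf H → ℂ) ≠ 0)
    (hcov₂ : ∃ ψ ∈ c₂, ∃ η ∈ BlockIso.pullBlock (kH N H) e,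
      classInner (fun l : N.subgroupOf H => (ψ : H → ℂ) l) (η : N.subgroupOf H → ℂ) ≠ 0) :
    c₁ = c₂ := by
  classical
  have hprime : M.IsPrime := isPrime_of_isPModular hM
  have hQH : Q ≤ H := by rw [hHdef]; exact Subgroup.le_normalizer
  obtain ⟨P₁, hP₁H, hP₁c, hP₁N⟩ := exists_defectGroup_H N hM Q hQN H hQH e he heQ c₁ h₁.1 hcov₁
  obtain ⟨P₂, hP₂H, hP₂c, hP₂N⟩ := exists_defectGroup_H N hM Q hQN H hQH e he heQ c₂ h₂.1 hcov₂
  have hN₁ : Subgroup.normalizer (P₁ : Set G) ≤ H := by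
    rw [hHdef]; exact normalizer_le_of_inf_eq N hP₁N
  have hN₂ : Subgroup.normalizer (P₂ : Set G) ≤ H := by
    rw [hHdef]; exact normalizer_le_of_inf_eq N hP₂N
  have hP₁p : IsPGroup p P₁ := by
    have := ExtFirstMain.isPGroup_of_isDefectGroup hP₁c
    have h2 := this.map H.subtype
    rwa [Subgroup.map_subgroupOf_eq_of_le hP₁H] at h2
  have hP₂p : IsPGroup p P₂ := by
    have := ExtFirstMain.isPGroup_of_isDefectGroup hP₂c
    have h2 := this.map H.subtype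
    rwa [Subgroup.map_subgroupOf_eq_of_le hP₂H] at h2
  have hP₁B := isDefectGroup_of_induced_H hM P₁ H hP₁p hN₁ c₁ hP₁c B h₁
  have hP₂B := isDefectGroup_of_induced_H hM P₂ H hP₂p hN₂ c₂ hP₂c B h₂
  obtain ⟨g, hg⟩ := isDefectGroup_conj_of_isDefectGroup hM h₁.2.1 hP₁B hP₂B
  have hmemP : ∀ y : G, y ∈ P₁ ↔ g * y * g⁻¹ ∈ P₂ := by
    intro y
    rw [hg, Subgroup.mem_map]
    constructor
    · intro hy
      exact ⟨y, hy, rfl⟩
    · rintro ⟨w, hw, hwy⟩
      simp only [MulEquiv.coe_toMonoidHom, MulAut.conj_apply] at hwy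
      have : w = y := by
        have := congrArg (fun z => g⁻¹ * z * g) hwy
        simpa [mul_assoc] using this
      rw [← this]
      exact hw
  have hgH : g ∈ H := by
    rw [hHdef, Subgroup.mem_normalizer_iff]
    intro y
    have e1 : y ∈ Q ↔ y ∈ P₁ ⊓ N := by rw [hP₁N]
    have e2 : g * y * g⁻¹ ∈ Q ↔ g * y * g⁻¹ ∈ P₂ ⊓ N := by rw [hP₂N]
    rw [e1, e2, Subgroup.mem_inf, Subgroup.mem_inf, hmemP y]
    constructor
    · rintro ⟨h1, h2⟩
      exact ⟨h1, hN.conj_mem y h2 g⟩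
    · rintro ⟨h1, h2⟩
      refine ⟨h1, ?_⟩
      have := hN.conj_mem _ h2 g⁻¹
      simpa [mul_assoc] using this
  have hc₁D' : IsDefectGroup p M c₁ (P₂.subgroupOf H) := by
    have h1 := isDefectGroup_conj hM h₁.1 hP₁c (⟨g, hgH⟩ : H)
    convert h1 using 1
    ext x
    rw [Subgroup.mem_subgroupOf, Subgroup.mem_map]
    constructor
    · intro hx
      refine ⟨(⟨g, hgH⟩ : H)⁻¹ * x * ⟨g, hgH⟩, ?_, ?_⟩
      · rw [Subgroup.mem_subgroupOf, hmemP]
        simp only [Subgroup.coe_mul, Subgroup.coe_inv]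
        have e1 : g * (g⁻¹ * (x : G) * g) * g⁻¹ = x := by group
        rw [e1]
        exact hx
      · simp only [MulEquiv.coe_toMonoidHom, MulAut.conj_apply]
        group
    · rintro ⟨w, hw, rfl⟩
      rw [Subgroup.mem_subgroupOf, hmemP] at hw
      simpa using hw
  exact block_H_unique hM P₂ H hP₂p hN₂ c₁ c₂ hc₁D' hP₂c B h₁ h₂

/-- **The Harris–Knörr correspondence**. -/
theorem harris_knoerr (hM : IsPModular p M) (Q : Subgroup G) (hQ : IsPGroup p Q) (hQN : Q ≤ N)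
    [Fintype ↥(Subgroup.normalizer (Q : Set G) ⊓ N)] (d : Set (IrrCharacter N))
    (hd : IsPBlock M d) (hdQ : IsDefectGroup p M d (Q.subgroupOf N))
    (e : Set (IrrCharacter ↥(Subgroup.normalizer (Q : Set G) ⊓ N))) (he : IsPBlock M e)
    (heQ : IsDefectGroup p M e (Q.subgroupOf (Subgroup.normalizer (Q : Set G) ⊓ N)))
    (hed : IsInducedBlockIn M N (Subgroup.normalizer (Q : Set G) ⊓ N) e d) :
    (∀ c : Set (IrrCharacter ↥(Subgroup.normalizer (Q : Set G))), IsPBlock M c →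
      (∃ ψ ∈ c, ∃ ξ ∈ e, classInner (fun l : ↥(Subgroup.normalizer (Q : Set G) ⊓ N) =>
        (ψ : ↥(Subgroup.normalizer (Q : Set G)) → ℂ) (Subgroup.inclusion inf_le_left l))
        (ξ : ↥(Subgroup.normalizer (Q : Set G) ⊓ N) → ℂ) ≠ 0) →
      ∃! B : Set (IrrCharacter G), IsInducedBlock M (Subgroup.normalizer (Q : Set G)) c B ∧
        (∃ χ ∈ B, ∃ θ ∈ d, classInner (fun n : N => (χ : G → ℂ) n) (θ : N → ℂ) ≠ 0)) ∧
    (∀ B : Set (IrrCharacter G), IsPBlock M B →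
      (∃ χ ∈ B, ∃ θ ∈ d, classInner (fun n : N => (χ : G → ℂ) n) (θ : N → ℂ) ≠ 0) →
      ∃! c : Set (IrrCharacter ↥(Subgroup.normalizer (Q : Set G))),
        (IsPBlock M c ∧ ∃ ψ ∈ c, ∃ ξ ∈ e,
          classInner (fun l : ↥(Subgroup.normalizer (Q : Set G) ⊓ N) =>
            (ψ : ↥(Subgroup.normalizer (Q : Set G)) → ℂ) (Subgroup.inclusion inf_le_left l))
            (ξ : ↥(Subgroup.normalizer (Q : Set G) ⊓ N) → ℂ) ≠ 0) ∧
        IsInducedBlock M (Subgroup.normalizer (Q : Set G)) c B) := by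
  classical
  have hprime : M.IsPrime := isPrime_of_isPModular hM
  let _ : Fintype (Subgroup.normalizer (Q : Set G)) := Fintype.ofFinite _
  let _ : Fintype (N.subgroupOf (Subgroup.normalizer (Q : Set G))) := Fintype.ofFinite _
  refine ⟨?_, ?_⟩
  · intro c hc hcov
    obtain ⟨B, hcB⟩ := inducedBlockDefined_of_le_normalizer hM Q
      (Subgroup.normalizer (Q : Set G)) hQ Subgroup.le_normalizer
      (Subgroup.centralizer_le_normalizer _) le_rfl c hc
    have hcovH := (cov_iff N (Subgroup.normalizer (Q : Set G)) c e).mp hcov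
    refine ⟨B, ⟨hcB, covers_of_induced N hM Q hQN _ rfl d e hed c B hcB hcovH⟩, ?_⟩
    rintro B' ⟨hcB', -⟩
    exact isInducedBlock_unique hcB' hcB
  · intro B hB hcov
    have hBS : ∀ χ ∈ B, χ ∈ coverSet N d := by
      obtain ⟨χ₀, hχ₀, θ, hθ, hc⟩ := hcov
      intro χ hχ
      exact coverSet_closed' N hM hd ⟨θ, hθ, hc⟩ (sameBlock_of_mem hM hB hχ₀ hχ)
    obtain ⟨P, hP, hPN⟩ := exists_defectGroup_inf_eq N hM hd B hB hBS Q hQN hdQ
    have hPp : IsPGroup p P := ExtFirstMain.isPGroup_of_isDefectGroup hP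
    have hNH : Subgroup.normalizer (P : Set G) ≤ Subgroup.normalizer (Q : Set G) :=
      normalizer_le_of_inf_eq N hPN
    obtain ⟨c, hc, hcD, hcB⟩ := exists_block_H_induced hM P _ hPp hNH B hB hP
    have hcovH := covers_e_of_induced N hM Q hQ hQN _ rfl d hdQ e heQ hed c B hcB hBS
    refine ⟨c, ⟨⟨hc, (cov_iff N (Subgroup.normalizer (Q : Set G)) c e).mpr hcovH⟩, hcB⟩, ?_⟩
    rintro c' ⟨⟨hc', hcov'⟩, hc'B⟩
    have hcovH' := (cov_iff N (Subgroup.normalizer (Q : Set G)) c' e).mp hcov'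
    exact unique_block N hM Q hQN _ rfl e he heQ c' c B hc'B hcB hcovH' hcovH

end Cfsg.Agent.Lib.Helper6.HKMain
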