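/-
helper6: Hall parts of elements via power maps, and Isaacs Lemma 8.19: the class function equal to
`n` on the elements whose `n`-part is conjugate to a fixed element has algebraic integer
coefficients (`|G| = m n`, `m`, `n` coprime).
-/
import Mathlib
import Cfsg.Agent.Lib.Helper6.BrauerLocal
import Cfsg.Agent.Lib.Helper24.IrrFacts

set_option autoImplicit false

namespace Cfsg.Agent.Lib.Helper6

open Cfsg Cfsg.Agent.CharLib Cfsg.Agent.Lib.Helper2 Cfsg.Agent.Lib.Helper24
open scoped ComplexConjugate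

universe u

section hallPart

variable {G : Type u} [Group G] [Finite G]

omit [Finite G] in
theorem pow_eq_one_of_coprime_of_dvd {m n c : ℕ} (hmn : Nat.card G = m * n) (hcm : m ∣ c)
    {u : G} (hu : Nat.Coprime (orderOf u) n) : u ^ c = 1 := by
  have h1 : orderOf u ∣ m * n := hmn ▸ orderOf_dvd_natCard u
  have h2 : orderOf u ∣ m := hu.dvd_of_dvd_mul_right h1
  exact orderOf_dvd_iff_pow_eq_one.mp (h2.trans hcm)

omit [Finite G] in
theorem pow_eq_self_of_coprime_of_modEq {m n c : ℕ} (hmn : Nat.card G = m * n)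
    (hcn : c ≡ 1 [MOD n]) {v : G} (hv : Nat.Coprime (orderOf v) m) : v ^ c = v := by
  have h1 : orderOf v ∣ m * n := hmn ▸ orderOf_dvd_natCard v
  have h2 : orderOf v ∣ n := hv.dvd_of_dvd_mul_left h1
  have h3 : c ≡ 1 [MOD orderOf v] := Nat.ModEq.of_dvd h2 hcn
  have h4 := pow_eq_pow_iff_modEq.mpr h3
  rw [h4, pow_one]

/-- The factorization of an element into commuting parts of orders dividing `m` and `n` is given
by a power map. -/
theorem hallPart_iff {m n c : ℕ} (hmn : Nat.card G = m * n) (hcop : Nat.Coprime m n)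
    (hcm : m ∣ c) (hcn : c ≡ 1 [MOD n]) (x v : G) :
    (∃ u : G, x = u * v ∧ Commute u v ∧ Nat.Coprime (orderOf u) n ∧ Nat.Coprime (orderOf v) m) ↔
      v = x ^ c := by
  constructor
  · rintro ⟨u, rfl, hcomm, hu, hv⟩
    rw [hcomm.mul_pow, pow_eq_one_of_coprime_of_dvd hmn hcm hu,
      pow_eq_self_of_coprime_of_modEq hmn hcn hv, one_mul]
  · rintro rfl
    obtain ⟨d, hd1, hd2⟩ := Nat.chineseRemainder hcop 1 0
    have hnd : n ∣ d := (Nat.modEq_zero_iff_dvd).mp hd2
    have hcm' : c ≡ 0 [MOD m] := (Nat.modEq_zero_iff_dvd).mpr hcm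
    have h1 : d + c ≡ 1 [MOD m] := by simpa using hd1.add hcm'
    have h2 : d + c ≡ 1 [MOD n] := by simpa using hd2.add hcn
    have h3 : d + c ≡ 1 [MOD m * n] := (Nat.modEq_and_modEq_iff_modEq_mul hcop).mp ⟨h1, h2⟩
    have hx : orderOf x ∣ m * n := hmn ▸ orderOf_dvd_natCard x
    have h4 : x ^ (d + c) = x ^ 1 := pow_eq_pow_iff_modEq.mpr (Nat.ModEq.of_dvd hx h3)
    refine ⟨x ^ d, ?_, ?_, ?_, ?_⟩
    · rw [← pow_add, h4, pow_one]
    · exact (Commute.refl x).pow_pow d c
    · have h5 : (x ^ d) ^ m = 1 := by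
        obtain ⟨e, he⟩ := hnd
        rw [← pow_mul, he, mul_right_comm, mul_comm n m, ← hmn, pow_mul, pow_card_eq_one', one_pow]
      exact Nat.Coprime.coprime_dvd_left (orderOf_dvd_of_pow_eq_one h5) hcop
    · have h5 : (x ^ c) ^ n = 1 := by
        obtain ⟨e, he⟩ := hcm
        rw [← pow_mul, he, mul_right_comm, ← hmn, pow_mul, pow_card_eq_one', one_pow]
      exact Nat.Coprime.coprime_dvd_left (orderOf_dvd_of_pow_eq_one h5) hcop.symm

end hallPart

section hall

variable {G : Type u} [Group G]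

/-- The function taking the value `n` at the elements `x` with `x ^ c` conjugate to `g`. -/
noncomputable def hallFun (c n : ℕ) (g : G) : G → ℂ :=
  fun x => by classical exact if IsConj (x ^ c) g then (n : ℂ) else 0

theorem hallFun_isClassFunction (c n : ℕ) (g : G) : IsClassFunction G (hallFun c n g) := by
  intro x h
  unfold hallFun
  have h1 : IsConj ((h * x * h⁻¹) ^ c) g ↔ IsConj (x ^ c) g := by
    rw [conj_pow]
    constructor
    · intro h2
      exact (isConj_iff.mpr ⟨h, rfl⟩ : IsConj (x ^ c) (h * x ^ c * h⁻¹)).trans h2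
    · intro h2
      exact (isConj_iff.mpr ⟨h, rfl⟩ : IsConj (x ^ c) (h * x ^ c * h⁻¹)).symm.trans h2
  by_cases h2 : IsConj (x ^ c) g
  · rw [if_pos h2, if_pos (h1.mpr h2)]
  · rw [if_neg h2, if_neg (fun h3 => h2 (h1.mp h3))]

/-- The algebraic integers as an additive subgroup of `ℂ`. -/
def algIntAddSubgroup : AddSubgroup ℂ := (integralClosure ℤ ℂ).toSubring.toAddSubgroup

theorem mem_algIntAddSubgroup (z : ℂ) : z ∈ algIntAddSubgroup ↔ IsIntegral ℤ z := Iff.rfl

/-- **Isaacs, Lemma 8.19**: for `|G| = m n` with `m`, `n` coprime and `c ≡ 0 mod m`, `c ≡ 1 mod n`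
(so that `x ^ c` is the `n`-part of `x`), the class function equal to `n` where `x ^ c` is conjugate
to `g` has algebraic integer coefficients. -/
theorem isIntegral_classInner_hallFun [Fintype G] {m n c : ℕ} (hmn : Nat.card G = m * n)
    (hcop : Nat.Coprime m n) (hcm : m ∣ c) (hcn : c ≡ 1 [MOD n]) (g : G) {χ : G → ℂ}
    (hχ : IsCharacter G χ) : IsIntegral ℤ (classInner (hallFun c n g) χ) := by
  classical
  rw [← mem_algIntAddSubgroup]
  apply classInner_mem_of_elementary algIntAddSubgroup (hallFun_isClassFunction c n g) _ hχ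
  intro E _ q hq hE ψ hψ
  have hcardE : Nat.card E ∣ m * n := by
    rw [← hmn]
    exact Subgroup.card_subgroup_dvd_card E
  let f : E →* E :=
    { toFun := fun x => x ^ c
      map_one' := one_pow c
      map_mul' := elementary_pow_mul hq hE hcop hcardE hcm hcn }
  let B : Subgroup E := f.range
  let f' : E →* B := f.rangeRestrict
  let _ : Fintype B := Fintype.ofFinite B
  let β : B → ℂ := fun b => if IsConj (((b : E) : G)) g then (n : ℂ) else 0
  have hβf : (fun e : E => hallFun c n g e) = β ∘ f' := by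
    funext e
    have h1 : (((f' e : B) : E) : G) = (e : G) ^ c := by
      change ((e ^ c : E) : G) = _
      rw [Subgroup.coe_pow]
    change hallFun c n g (e : G) = β (f' e)
    unfold hallFun
    simp only [β, h1]
    split_ifs <;> rfl
  have hβc : IsClassFunction B β := by
    intro b h
    have h1 : IsConj ((((h * b * h⁻¹ : B) : E) : G)) g ↔ IsConj (((b : E) : G)) g := by
      have h2 : ((((h * b * h⁻¹ : B) : E) : G)) = ((h : E) : G) * ((b : E) : G) * ((h : E) : G)⁻¹ := by
        simp
      rw [h2]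
      constructor
      · intro h3
        exact (isConj_iff.mpr ⟨_, rfl⟩ : IsConj (((b : E) : G)) (((h : E) : G) * ((b : E) : G) * ((h : E) : G)⁻¹)).trans h3
      · intro h3
        exact (isConj_iff.mpr ⟨_, rfl⟩ : IsConj (((b : E) : G)) (((h : E) : G) * ((b : E) : G) * ((h : E) : G)⁻¹)).symm.trans h3
    simp only [β, h1]
  -- the order of `B` divides `n`
  have hBn : Nat.card B ∣ n := by
    have h1 : Nat.card B ∣ m * n := (Subgroup.card_subgroup_dvd_card B).trans hcardE
    have h2 : Monoid.exponent B ∣ n := by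
      apply Monoid.exponent_dvd_of_forall_pow_eq_one
      intro b
      obtain ⟨e, he⟩ := b.2
      apply Subtype.ext
      rw [Subgroup.coe_pow, ← he]
      change (e ^ c) ^ n = 1
      rw [← pow_mul]
      obtain ⟨d, hd⟩ := hcm
      obtain ⟨d', hd'⟩ := hcardE
      rw [hd, mul_right_comm, hd', mul_right_comm, pow_mul, pow_mul, pow_card_eq_one', one_pow,
        one_pow]
    have h4 : Nat.Coprime (Nat.card B) m := by
      by_contra hnc
      obtain ⟨r, hr, hr1, hr2⟩ := Nat.Prime.not_coprime_iff_dvd.mp hnc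
      have : Fact r.Prime := ⟨hr⟩
      obtain ⟨b, hb⟩ := exists_prime_orderOf_dvd_card' r hr1
      have h5 : r ∣ n := by
        rw [← hb]
        exact (Monoid.order_dvd_exponent b).trans h2
      have h6 : r ∣ Nat.gcd m n := Nat.dvd_gcd hr2 h5
      rw [hcop] at h6
      exact hr.one_lt.ne' (Nat.dvd_one.mp h6)
    exact h4.dvd_of_dvd_mul_left h1
  rw [hβf]
  apply classInner_comp_hom_mem algIntAddSubgroup f' hβc _ hψ
  intro μ
  rw [mem_algIntAddSubgroup]
  obtain ⟨k, hk⟩ := hBn
  have hB0 : (Nat.card B : ℂ) ≠ 0 := Nat.cast_ne_zero.mpr Nat.card_pos.ne'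
  have h1 : classInner β (μ : B → ℂ) =
      (k : ℂ) * ∑ b : B, if IsConj (((b : E) : G)) g then conj ((μ : B → ℂ) b) else 0 := by
    unfold classInner
    rw [Finset.mul_sum, Finset.mul_sum]
    apply Finset.sum_congr rfl
    intro b _
    simp only [β]
    split_ifs
    · rw [hk]
      push_cast
      field_simp
    · simp
  rw [h1]
  apply IsIntegral.mul (isIntegral_natCast k)
  apply IsIntegral.sum
  intro b _
  split_ifs
  · exact (irr_isIntegral μ b).map (starRingEnd ℂ).toIntAlgHom
  · exact isIntegral_zero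

end hall

end Cfsg.Agent.Lib.Helper6
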