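/-
helper6: S4715 leaf (FT), `_of` form over (EX), (FD), (FI): a conjugating element in `N_G(D)` between
two major subsections `(z, majBlock z)`, `(z', majBlock z')` with `z, z' ∈ Z(D)` can be corrected to one in
the stabilizer `T` of `b`.
-/
import Mathlib
import Cfsg.Agent.Lib.Helper6.HtBoundDefs
import Cfsg.Agent.Lib.Helper6.ExtFirstMain
import Cfsg.Agent.Lib.Helper6.BlockIso
import Cfsg.Agent.Lib.Helper24.BlockClimb

set_option autoImplicit false
set_option linter.unusedSectionVars false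
set_option linter.unusedVariables false

namespace Cfsg.Agent.Lib.Helper6.HtBoundFT

open Cfsg Cfsg.Agent.CharLib Cfsg.Agent.Lib.Helper24 Cfsg.Agent.Lib.Helper6 Cfsg.Agent.Lib.Helper23
open Cfsg.Agent.Lib.Helper6.HtBound Cfsg.Agent.Lib.Helper6.BlockIso
open scoped ComplexConjugate

universe u

variable {G : Type u} [Group G] [Fintype G] {M : Ideal AlgInt} {p : ℕ} [hpp : Fact p.Prime]

theorem le_Cz (D H : Subgroup G) (hH : H = D ⊔ Subgroup.centralizer (D : Set G)) (w : G)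
    (hwD : w ∈ D) (hwc : ∀ x ∈ D, x * w = w * x) : H ≤ Cz w := by
  rw [hH]
  apply sup_le
  · intro x hx
    exact Subgroup.mem_centralizer_singleton_iff.mpr (hwc x hx)
  · intro x hx
    rw [Subgroup.mem_centralizer_iff] at hx
    exact Subgroup.mem_centralizer_singleton_iff.mpr (hx w hwD).symm

theorem mem_Cz_conj_iff (z z' n : G) (hzz' : z' = n * z * n⁻¹) (x : G) :
    x ∈ Cz z ↔ n * x * n⁻¹ ∈ Cz z' := by
  simp only [Subgroup.mem_centralizer_singleton_iff]
  rw [hzz']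
  constructor
  · intro h
    calc n * x * n⁻¹ * (n * z * n⁻¹) = n * (x * z) * n⁻¹ := by group
      _ = n * (z * x) * n⁻¹ := by rw [h]
      _ = n * z * n⁻¹ * (n * x * n⁻¹) := by group
  · intro h
    calc x * z = n⁻¹ * (n * x * n⁻¹ * (n * z * n⁻¹)) * n := by group
      _ = n⁻¹ * (n * z * n⁻¹ * (n * x * n⁻¹)) * n := by rw [h]
      _ = z * x := by group

/-- (FT), over the leaves (EX), (FD), (FI). -/
theorem exists_mem_T_of_normalizer_of (hM : IsPModular p M) (B : Set (IrrCharacter G))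
    (hB : IsPBlock M B) (D : Subgroup G) (hBD : IsDefectGroup p M B D) (H : Subgroup G)
    (hH : H = D ⊔ Subgroup.centralizer (D : Set G)) (b : Set (IrrCharacter H))
    (hind : IsInducedBlock M H b B) (T : Subgroup G)
    (hT : ∀ g : G, g ∈ T ↔ (g ∈ Subgroup.normalizer (D : Set G) ∧ ∀ θ ∈ b,
      ∀ θ' : IrrCharacter H, (∀ h h' : H, (h' : G) = g * h * g⁻¹ →
        (θ' : H → ℂ) h' = (θ : H → ℂ) h) → θ' ∈ b))
    (hEX : ∀ z ∈ D, (∀ x ∈ D, x * z = z * x) →
      ∃ β : Set (IrrCharacter (Cz z)), IsInducedBlockIn M (Cz z) H b β)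
    (hFD : ∀ z ∈ D, (∀ x ∈ D, x * z = z * x) →
      IsDefectGroup p M (majBlock M H b z) (D.subgroupOf (Cz z)))
    (hFI : ∀ {A A' : Type u} [Group A] [Group A'] [Finite A] (ψ : A ≃* A') (K : Subgroup A)
      (K' : Subgroup A') (κ : K ≃* K') (hκ : ∀ k : K, ((κ k : K') : A') = ψ (k : A))
      (b' : Set (IrrCharacter K')) (β' : Set (IrrCharacter A')),
      IsInducedBlock M K' b' β' →
        IsInducedBlock M K (BlockIso.pullBlock κ b') (BlockIso.pullBlock ψ β'))
    (z z' n : G) (hzD : z ∈ D) (hzc : ∀ x ∈ D, x * z = z * x)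
    (hzD' : z' ∈ D) (hzc' : ∀ x ∈ D, x * z' = z' * x)
    (hn : n ∈ Subgroup.normalizer (D : Set G)) (hzz' : z' = n * z * n⁻¹)
    (hconj : BlockConjTo n (majBlock M H b z) (majBlock M H b z')) :
    ∃ t ∈ T, z' = t * z * t⁻¹ := by
  classical
  have hprime : M.IsPrime := isPrime_of_isPModular hM
  set X := Cz z with hXdef
  set X' := Cz z' with hX'def
  have hHX : H ≤ X := le_Cz D H hH z hzD hzc
  have hHX' : H ≤ X' := le_Cz D H hH z' hzD' hzc'
  have hDH : D ≤ H := by rw [hH]; exact le_sup_left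
  have hDX' : D ≤ X' := hDH.trans hHX'
  have hXX' : ∀ x : G, x ∈ X ↔ n * x * n⁻¹ ∈ X' := mem_Cz_conj_iff z z' n hzz'
  have hnH : n ∈ Subgroup.normalizer (H : Set G) := by
    rw [hH]; exact ExtFirstMain.normalizer_le_normalizer_sup_centralizer D hn
  have hHH : ∀ x : G, x ∈ H ↔ n * x * n⁻¹ ∈ H := Subgroup.mem_normalizer_iff.mp hnH
  -- the blocks
  set β := majBlock M H b z with hβdef
  set β' := majBlock M H b z' with hβ'def
  have hβ : IsInducedBlockIn M X H b β := majBlock_spec (hEX z hzD hzc)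
  have hβ' : IsInducedBlockIn M X' H b β' := majBlock_spec (hEX z' hzD' hzc')
  -- nested forms
  set K : Subgroup X := H.subgroupOf X with hKdef
  set K' : Subgroup X' := H.subgroupOf X' with hK'def
  set κ : K ≃* H := Subgroup.subgroupOfEquivOfLe hHX with hκdef
  set κ' : K' ≃* H := Subgroup.subgroupOfEquivOfLe hHX' with hκ'def
  have hκ : ∀ k : K, ((κ k : H) : G) = ((k : X) : G) := fun k => rfl
  have hκ' : ∀ k : K', ((κ' k : H) : G) = ((k : X') : G) := fun k => rfl
  have hβn : IsInducedBlock M K (pullBlock κ b) β :=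
    (isInducedBlockIn_iff_nested X H K κ hκ b β).mp hβ
  have hβ'n : IsInducedBlock M K' (pullBlock κ' b) β' :=
    (isInducedBlockIn_iff_nested X' H K' κ' hκ' b β').mp hβ'
  -- the isomorphism
  set ψ : X ≃* X' := cjX n X X' hXX' with hψdef
  have hββ' : pullBlock ψ.symm β = β' := by
    obtain ⟨ζ₀, hζ₀⟩ := hβ.2.1
    have hζ : ζ₀ ∈ β := by rw [hζ₀]; exact mem_blockOf_self ζ₀
    obtain ⟨ζ', hζ', hrel⟩ := hconj ζ₀ hζ
    apply isPBlock_eq_of_mem (isPBlock_pullBlock ψ.symm hβ.2.1) hβ'.2.1 (χ := ζ') ?_ hζ'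
    rw [mem_pullBlock_iff]
    have : irrCompIso ψ.symm.symm ζ' = ζ₀ := by
      apply Subtype.ext
      funext c
      show (ζ' : X' → ℂ) (ψ c) = (ζ₀ : X → ℂ) c
      exact hrel c (ψ c) rfl
    rw [this]
    exact hζ
  -- the transported subgroup
  have hKK' : ∀ x : X', x ∈ K' ↔ ψ.symm x ∈ K := by
    intro x
    show (x : G) ∈ H ↔ ((ψ.symm x : X) : G) ∈ H
    rw [cjX_symm_coe, hHH (n⁻¹ * (x : G) * n)]
    have : n * (n⁻¹ * (x : G) * n) * n⁻¹ = (x : G) := by group
    rw [this]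
  let κ₁ : K' ≃* K :=
    { toFun := fun k => ⟨ψ.symm k, (hKK' k).mp k.2⟩
      invFun := fun k => ⟨ψ k, (hKK' _).mpr (by rw [ψ.symm_apply_apply]; exact k.2)⟩
      left_inv := fun k => by apply Subtype.ext; exact ψ.apply_symm_apply _
      right_inv := fun k => by apply Subtype.ext; exact ψ.symm_apply_apply _
      map_mul' := fun a b => by apply Subtype.ext; exact map_mul ψ.symm _ _ }
  have hκ₁ : ∀ k : K', ((κ₁ k : K) : X) = ψ.symm (k : X') := fun k => rfl
  have hb₁ := hFI ψ.symm K' K κ₁ hκ₁ (pullBlock κ b) β hβn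
  rw [hββ'] at hb₁
  -- the first main theorem in `X'`
  set P : Subgroup X' := D.subgroupOf X' with hPdef
  have hP : IsDefectGroup p M β' P := hFD z' hzD' hzc'
  have hPK : P ≤ K' := fun x hx => hDH hx
  have hCK : Subgroup.centralizer (P : Set X') ≤ K' := by
    intro y hy
    show (y : G) ∈ H
    rw [hH]
    apply Subgroup.mem_sup_right
    rw [Subgroup.mem_centralizer_iff]
    intro d hd
    have h1 := Subgroup.mem_centralizer_iff.mp hy ⟨d, hDX' hd⟩ hd
    exact congrArg Subtype.val h1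
  have hND : ∀ y : X', y ∈ Subgroup.normalizer (P : Set X') ↔
      (y : G) ∈ Subgroup.normalizer (D : Set G) := by
    intro y
    rw [hPdef, ← Subgroup.subgroupOf_normalizer_eq hDX']
    exact Subgroup.mem_subgroupOf
  have hKN : K' ≤ Subgroup.normalizer (P : Set X') := by
    intro y hy
    rw [hND]
    have h1 : (y : G) ∈ H := hy
    rw [hH] at h1
    exact (sup_le Subgroup.le_normalizer (Subgroup.centralizer_le_normalizer _)) h1
  have hNK : Subgroup.normalizer (P : Set X') ≤ Subgroup.normalizer (K' : Set X') := by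
    intro y hy
    rw [hND] at hy
    have hyH : (y : G) ∈ Subgroup.normalizer (H : Set G) := by
      rw [hH]; exact ExtFirstMain.normalizer_le_normalizer_sup_centralizer D hy
    rw [Subgroup.mem_normalizer_iff]
    intro k
    show (k : G) ∈ H ↔ ((y * k * y⁻¹ : X') : G) ∈ H
    have h1 := Subgroup.mem_normalizer_iff.mp hyH (k : G)
    simpa using h1
  obtain ⟨y, hy, hyb⟩ := ExtFirstMain.conj_of_induced_gen hM β' hβ'.2.1 P hP K' hPK hCK hKN hNK
    (pullBlock κ₁ (pullBlock κ b)) (pullBlock κ' b) hb₁ hβ'n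
  refine ⟨(y : G)⁻¹ * n, ?_, ?_⟩
  · rw [hT]
    have hyN : (y : G) ∈ Subgroup.normalizer (D : Set G) := (hND y).mp hy
    refine ⟨Subgroup.mul_mem _ (Subgroup.inv_mem _ hyN) hn, ?_⟩
    intro θ₀ hθ₀ θ₀' hrel
    have hθ : irrCompIso κ₁ (irrCompIso κ θ₀) ∈ pullBlock κ₁ (pullBlock κ b) :=
      irrCompIso_mem_pullBlock κ₁ (irrCompIso_mem_pullBlock κ hθ₀)
    obtain ⟨θ', hθ', hval⟩ := hyb _ hθ
    have hθ₀' : θ₀' = irrCompIso κ'.symm θ' := by
      apply Subtype.ext
      funext h'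
      have hx : y * ((κ'.symm h' : K') : X') * y⁻¹ ∈ K' :=
        (Subgroup.mem_normalizer_iff.mp (hNK hy) _).mp (κ'.symm h').2
      have h1 := hval (κ'.symm h') hx
      show (θ₀' : H → ℂ) h' = (θ' : K' → ℂ) (κ'.symm h')
      rw [h1]
      set hh : H := κ (κ₁ ⟨y * ((κ'.symm h' : K') : X') * y⁻¹, hx⟩) with hhdef
      have hhcoe : (hh : G) = n⁻¹ * ((y : G) * (h' : G) * (y : G)⁻¹) * n := rfl
      have h2 := hrel hh h' (by rw [hhcoe]; group)
      rw [h2]
      rfl
    rw [hθ₀']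
    exact hθ'
  · have hyz : (y : G) * z' = z' * (y : G) := Subgroup.mem_centralizer_singleton_iff.mp y.2
    have h1 : z' = (y : G)⁻¹ * z' * (y : G) := by
      rw [mul_assoc, ← hyz]; group
    calc z' = (y : G)⁻¹ * z' * (y : G) := h1
      _ = (y : G)⁻¹ * (n * z * n⁻¹) * (y : G) := by rw [← hzz']
      _ = (y : G)⁻¹ * n * z * ((y : G)⁻¹ * n)⁻¹ := by group

end Cfsg.Agent.Lib.Helper6.HtBoundFT
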