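/-
helper6: S4715 leaf (GS), `_of` form over the leaves (EX), (UQ), (LB):
`|Z(D)| p^{ht χ} ≤ ∑_{z ∈ Z(D)} p^d kap z`.
-/
import Mathlib
import Cfsg.Agent.Lib.Helper6.HtBoundDefs
import Cfsg.Agent.Lib.Helper23.MajSubLI

set_option autoImplicit false
set_option linter.unusedSectionVars false
set_option linter.unusedVariables false

namespace Cfsg.Agent.Lib.Helper6.HtBoundGS

open Cfsg Cfsg.Agent.CharLib Cfsg.Agent.Lib.Helper24 Cfsg.Agent.Lib.Helper6 Cfsg.Agent.Lib.Helper23
open Cfsg.Agent.Lib.Helper23.Subsec Cfsg.Agent.Lib.Helper27.MajSub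
open Cfsg.Agent.Lib.Helper23.MajSubOM Cfsg.Agent.Lib.Helper23.MajSubH5
open Cfsg.Agent.Lib.Helper6.HtBound
open scoped ComplexConjugate

universe u

variable {G : Type u} [Group G] [Fintype G] {M : Ideal AlgInt} {p : ℕ} [hpp : Fact p.Prime]

/-- The contribution does not depend on how the centralizer and the induced block are presented. -/
theorem contrib_congr (H : Subgroup G) (b : Set (IrrCharacter H))
    (hUQ : ∀ (X : Subgroup G) (β β' : Set (IrrCharacter X)),
      IsInducedBlockIn M X H b β → IsInducedBlockIn M X H b β' → β = β')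
    (C C' : Subgroup G) (h : C = C') [i1 : Fintype C] [i2 : Fintype C']
    (β : Set (IrrCharacter C)) (β' : Set (IrrCharacter C'))
    (hβ : IsInducedBlockIn M C H b β) (hβ' : IsInducedBlockIn M C' H b β') (w : G)
    (χ : IrrCharacter G) : contrib p C β w χ χ = contrib p C' β' w χ χ := by
  subst h
  have := hUQ C β β' hβ hβ'
  subst this
  have : i1 = i2 := Subsingleton.elim _ _
  subst this
  rfl

/-- (GS), over the leaves (EX), (UQ), (LB). -/
theorem card_center_mul_pow_le_sum_kap_of (hM : IsPModular p M) (B : Set (IrrCharacter G))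
    (D : Subgroup G) (H : Subgroup G) (b : Set (IrrCharacter H))
    (hEX : ∀ z ∈ D, (∀ x ∈ D, x * z = z * x) →
      ∃ β : Set (IrrCharacter (Cz z)), IsInducedBlockIn M (Cz z) H b β ∧
        IsInducedBlock M (Cz z) β B ∧ blockDefect p β = blockDefect p B)
    (hUQ : ∀ (X : Subgroup G) (β β' : Set (IrrCharacter X)),
      IsInducedBlockIn M X H b β → IsInducedBlockIn M X H b β' → β = β')
    (hDp : IsPGroup p D)
    (hLB : ∀ (N : ℕ) [NeZero N] (K : Type) [Field K] [Algebra ℚ K]
      [IsCyclotomicExtension {N} ℚ K] [FiniteDimensional ℚ K] [IsGalois ℚ K] (φ : K →+* ℂ)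
      (z : G) (hz : ∃ k : ℕ, orderOf z = p ^ k) (hzN : z ^ N = 1)
      (C : Subgroup G) [Fintype C] (hC : C = Subgroup.centralizer ({z} : Set G))
      (e : Set (IrrCharacter C)) (hind : IsInducedBlock M C e B)
      (hdef : blockDefect p e = blockDefect p B) (ψ : IrrCharacter G) (hψ : ψ ∈ B),
      (Fintype.card (K ≃ₐ[ℚ] K) : ℝ) * (p : ℝ) ^ blockHeight p B (ψ : G → ℂ) ≤
        ∑ σ : K ≃ₐ[ℚ] K,
          (p : ℝ) ^ blockDefect p B * (contrib p C e (z ^ galExp N K σ) ψ ψ).re)
    [Fintype (Subgroup.center D)] (χ : IrrCharacter G) (hχ : χ ∈ B) :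
    (Nat.card (Subgroup.center D) : ℝ) * (p : ℝ) ^ blockHeight p B (χ : G → ℂ) ≤
      ∑ z : Subgroup.center D,
        (p : ℝ) ^ blockDefect p B * kap p M H b χ (((z : D) : G)) := by
  classical
  set N := Nat.card G with hN
  have : NeZero N := ⟨Nat.card_pos.ne'⟩
  obtain ⟨K, _, _, _, ⟨φ⟩⟩ := exists_cyclotomic_field N
  have : FiniteDimensional ℚ K := IsCyclotomicExtension.finiteDimensional {N} ℚ K
  have : IsGalois ℚ K := IsCyclotomicExtension.isGalois {N} ℚ K
  set zG : Subgroup.center D → G := fun i => ((i : D) : G) with hzG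
  have hzD : ∀ i, zG i ∈ D := fun i => (i : D).2
  have hzc : ∀ i, ∀ x ∈ D, x * zG i = zG i * x := by
    intro i x hx
    have h1 := Subgroup.mem_center_iff.mp i.2 ⟨x, hx⟩
    have h2 := congrArg (Subtype.val : D → G) h1
    simpa using h2
  have hzord : ∀ i, ∃ k : ℕ, orderOf (zG i) = p ^ k := by
    intro i
    obtain ⟨k, hk⟩ := IsPGroup.iff_orderOf.mp hDp (i : D)
    exact ⟨k, by rw [← hk]; exact Subgroup.orderOf_coe _⟩
  have hzN : ∀ i, zG i ^ N = 1 := fun i => by rw [hN]; exact pow_card_eq_one'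
  have hzpow : ∀ (i : Subgroup.center D) (k : ℕ), zG (i ^ k) = zG i ^ k := by
    intro i k
    simp [hzG]
  have hex : ∀ i, ∃ β : Set (IrrCharacter (Cz (zG i))), IsInducedBlockIn M (Cz (zG i)) H b β :=
    fun i => by
      obtain ⟨β, h1, -, -⟩ := hEX (zG i) (hzD i) (hzc i)
      exact ⟨β, h1⟩
  -- the contribution at a power
  have hkpow : ∀ (i : Subgroup.center D) (k : ℕ), k.Coprime N →
      kap p M H b χ (zG (i ^ k)) =
        (@contrib G _ _ p (Cz (zG i)) (Fintype.ofFinite _) (majBlock M H b (zG i))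
          (zG i ^ k) χ χ).re := by
    intro i k hk
    have hcop : k.Coprime (orderOf (zG i)) :=
      Nat.Coprime.coprime_dvd_right (orderOf_dvd_of_pow_eq_one (hzN i)) hk
    have hCC : Cz (zG (i ^ k)) = Cz (zG i) := by
      rw [hzpow]
      exact centralizer_pow_eq (zG i) k hcop
    unfold kap
    rw [← hzpow]
    congr 1
    exact @contrib_congr G _ _ M p _ H b hUQ (Cz (zG (i ^ k))) (Cz (zG i)) hCC
      (Fintype.ofFinite _) (Fintype.ofFinite _) _ _ (majBlock_spec (hex (i ^ k)))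
      (majBlock_spec (hex i)) (zG (i ^ k)) χ
  -- the card of the center divides `N`
  have hcard : Nat.card (Subgroup.center D) ∣ N := by
    have h1 : Nat.card (Subgroup.center D) ∣ Nat.card D := Subgroup.card_subgroup_dvd_card _
    have h2 : Nat.card D ∣ Nat.card G := Subgroup.card_subgroup_dvd_card _
    exact h1.trans h2
  -- the sum is invariant under `z ↦ z^k`
  have hperm : ∀ σ : K ≃ₐ[ℚ] K,
      ∑ i : Subgroup.center D, (p : ℝ) ^ blockDefect p B * kap p M H b χ (zG i) =
        ∑ i : Subgroup.center D, (p : ℝ) ^ blockDefect p B *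
          (@contrib G _ _ p (Cz (zG i)) (Fintype.ofFinite _) (majBlock M H b (zG i))
            (zG i ^ galExp N K σ) χ χ).re := by
    intro σ
    have hk : (galExp N K σ).Coprime N := galExp_coprime N K σ
    have hk' : (Nat.card (Subgroup.center D)).Coprime (galExp N K σ) :=
      (Nat.Coprime.coprime_dvd_right hcard hk).symm
    rw [← Equiv.sum_comp (powCoprime hk')]
    apply Finset.sum_congr rfl
    intro i _
    rw [powCoprime_apply, hkpow i _ hk]
  -- the Galois lower bound for every `z`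
  have hlb : ∀ i : Subgroup.center D,
      (Fintype.card (K ≃ₐ[ℚ] K) : ℝ) * (p : ℝ) ^ blockHeight p B (χ : G → ℂ) ≤
        ∑ σ : K ≃ₐ[ℚ] K, (p : ℝ) ^ blockDefect p B *
          (@contrib G _ _ p (Cz (zG i)) (Fintype.ofFinite _) (majBlock M H b (zG i))
            (zG i ^ galExp N K σ) χ χ).re := by
    intro i
    obtain ⟨β, h1, h2, h3⟩ := hEX (zG i) (hzD i) (hzc i)
    have hβ : majBlock M H b (zG i) = β := hUQ _ _ _ (majBlock_spec (hex i)) h1
    rw [hβ]
    exact @hLB N _ K _ _ _ _ _ φ (zG i) (hzord i) (hzN i) (Cz (zG i)) (Fintype.ofFinite _) rfl β h2 h3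
      χ hχ
  -- sum up
  have hgal : (0 : ℝ) < (Fintype.card (K ≃ₐ[ℚ] K) : ℝ) := by
    exact_mod_cast Fintype.card_pos
  have hsum : (Fintype.card (K ≃ₐ[ℚ] K) : ℝ) *
      ((Nat.card (Subgroup.center D) : ℝ) * (p : ℝ) ^ blockHeight p B (χ : G → ℂ)) ≤
      (Fintype.card (K ≃ₐ[ℚ] K) : ℝ) *
        ∑ i : Subgroup.center D, (p : ℝ) ^ blockDefect p B * kap p M H b χ (zG i) := by
    have h1 : (Fintype.card (K ≃ₐ[ℚ] K) : ℝ) *
        ∑ i : Subgroup.center D, (p : ℝ) ^ blockDefect p B * kap p M H b χ (zG i) =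
        ∑ i : Subgroup.center D, ∑ σ : K ≃ₐ[ℚ] K, (p : ℝ) ^ blockDefect p B *
          (@contrib G _ _ p (Cz (zG i)) (Fintype.ofFinite _) (majBlock M H b (zG i))
            (zG i ^ galExp N K σ) χ χ).re := by
      rw [Finset.sum_comm, ← Finset.sum_congr rfl (fun σ _ => hperm σ), Finset.sum_const,
        Finset.card_univ, nsmul_eq_mul]
    rw [h1]
    have h2 : (Fintype.card (K ≃ₐ[ℚ] K) : ℝ) *
        ((Nat.card (Subgroup.center D) : ℝ) * (p : ℝ) ^ blockHeight p B (χ : G → ℂ)) =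
        ∑ _i : Subgroup.center D,
          (Fintype.card (K ≃ₐ[ℚ] K) : ℝ) * (p : ℝ) ^ blockHeight p B (χ : G → ℂ) := by
      rw [Finset.sum_const, Finset.card_univ, nsmul_eq_mul, Nat.card_eq_fintype_card]
      ring
    rw [h2]
    exact Finset.sum_le_sum (fun i _ => hlb i)
  exact le_of_mul_le_mul_left hsum hgal

end Cfsg.Agent.Lib.Helper6.HtBoundGS
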