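/-
helper6: S4715 (heights and the inertial index: `ht χ + c ≤ n + d`), assembly of the leaves of
`notes/S4715_leaves.lean`.
-/
import Cfsg.Agent.Lib.Helper6.HtBoundDefs
import Cfsg.Agent.Lib.Helper6.HtBoundFT
import Cfsg.Agent.Lib.Helper6.HtBoundGS
import Cfsg.Agent.Lib.Helper26.HtBoundRP
import Cfsg.Agent.Lib.Helper26.HtBoundBS
import Cfsg.Agent.Lib.Helper9.HtBoundUQ
import Cfsg.Agent.Lib.Helper9.HtBoundCT
import Cfsg.Agent.Lib.Helper16.HtBoundOC
import Cfsg.Agent.Lib.Helper23.HtBoundNM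
import Cfsg.Agent.Lib.Helper9.HtBoundFI
import Cfsg.Agent.Lib.Helper23.HtBoundLB
import Cfsg.Agent.Lib.Helper16.HtBoundON
import Cfsg.Agent.Lib.Helper14.HtBoundFRof
import Cfsg.Agent.Lib.Helper8.HtBoundEX
import Cfsg.Agent.Lib.Helper8.HtBoundFD

set_option autoImplicit false
set_option linter.unusedSectionVars false

namespace Cfsg.Agent.Lib.Helper6.HtBoundMain

open Cfsg Cfsg.Agent.CharLib Cfsg.Agent.Lib.Helper24 Cfsg.Agent.Lib.Helper6 Cfsg.Agent.Lib.Helper23
open Cfsg.Agent.Lib.Helper23.Subsec Cfsg.Agent.Lib.Helper27.MajSub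
open Cfsg.Agent.Lib.Helper23.MajSubOM Cfsg.Agent.Lib.Helper23.MajSubH5
open Cfsg.Agent.Lib.Helper6.HtBound
open scoped ComplexConjugate
open Cfsg.Agent.Lib.Helper26.HtBoundRP Cfsg.Agent.Lib.Helper26.HtBoundBS
open Cfsg.Agent.Lib.Helper9.HtBoundUQ Cfsg.Agent.Lib.Helper9.HtBoundCT
open Cfsg.Agent.Lib.Helper9.HtBoundFI
open Cfsg.Agent.Lib.Helper16.HtBoundOC Cfsg.Agent.Lib.Helper23.HtBoundNM
open Cfsg.Agent.Lib.Helper16.HtBoundON Cfsg.Agent.Lib.Helper23.HtBoundLB
open Cfsg.Agent.Lib.Helper8.HtBoundEX Cfsg.Agent.Lib.Helper8.HtBoundFD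
open Cfsg.Agent.Lib.Helper14.HtBoundFRof

universe u

section glue

variable {G : Type u} [Group G] [Fintype G] {M : Ideal AlgInt} {p : ℕ} [hpp : Fact p.Prime]

/-- (FB) the fibre lemma = (FR) + (FT). -/
theorem exists_mem_T_of_blockConjTo (hM : IsPModular p M) (B : Set (IrrCharacter G))
    (hB : IsPBlock M B) (D : Subgroup G) (hBD : IsDefectGroup p M B D) (H : Subgroup G)
    (hH : H = D ⊔ Subgroup.centralizer (D : Set G)) (b : Set (IrrCharacter H))
    (hind : IsInducedBlock M H b B) (T : Subgroup G)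
    (hT : ∀ g : G, g ∈ T ↔ (g ∈ Subgroup.normalizer (D : Set G) ∧ ∀ θ ∈ b,
      ∀ θ' : IrrCharacter H, (∀ h h' : H, (h' : G) = g * h * g⁻¹ →
        (θ' : H → ℂ) h' = (θ : H → ℂ) h) → θ' ∈ b))
    (z z' g : G) (hzD : z ∈ D) (hzc : ∀ x ∈ D, x * z = z * x)
    (hzD' : z' ∈ D) (hzc' : ∀ x ∈ D, x * z' = z' * x) (hzz' : z' = g * z * g⁻¹)
    (hconj : BlockConjTo g (majBlock M H b z) (majBlock M H b z')) :
    ∃ t ∈ T, z' = t * z * t⁻¹ := by
  have hEX1 : ∀ w ∈ D, (∀ x ∈ D, x * w = w * x) →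
      ∃ β : Set (IrrCharacter (Cz w)), IsInducedBlockIn M (Cz w) H b β := by
    intro w hwD hwc
    obtain ⟨β, h1, -, -⟩ := exists_majBlock hM B D hBD H hH b hind w hwD hwc
    exact ⟨β, h1⟩
  have hFD1 : ∀ w ∈ D, (∀ x ∈ D, x * w = w * x) →
      IsDefectGroup p M (majBlock M H b w) (D.subgroupOf (Cz w)) :=
    fun w hwD hwc => isDefectGroup_majBlock hM B hB D hBD H hH b hind w hwD hwc
  obtain ⟨n, hn, hzn, hcn⟩ := exists_normalizer_conj_of hM D H b hEX1 hFD1 z z' g hzD hzc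
    hzD' hzc' hzz' hconj
  refine HtBoundFT.exists_mem_T_of_normalizer_of hM B hB D hBD H hH b hind T hT ?_ ?_ ?_ z z' n
    hzD hzc hzD' hzc' hn hzn hcn
  · exact hEX1
  · exact hFD1
  · intro A A' _ _ _ ψ K K' κ hκ b' β' h
    exact isInducedBlock_pullBlock_iso hM ψ K K' κ hκ b' β' h

/-- (GS) from its `_of` form. -/
theorem card_center_mul_pow_le_sum_kap (hM : IsPModular p M) (B : Set (IrrCharacter G))
    (hB : IsPBlock M B) (D : Subgroup G) (hBD : IsDefectGroup p M B D) (H : Subgroup G)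
    (hH : H = D ⊔ Subgroup.centralizer (D : Set G)) (b : Set (IrrCharacter H))
    (hind : IsInducedBlock M H b B) [Fintype (Subgroup.center D)] (χ : IrrCharacter G)
    (hχ : χ ∈ B) :
    (Nat.card (Subgroup.center D) : ℝ) * (p : ℝ) ^ blockHeight p B (χ : G → ℂ) ≤
      ∑ z : Subgroup.center D,
        (p : ℝ) ^ blockDefect p B * kap p M H b χ (((z : D) : G)) := by
  refine HtBoundGS.card_center_mul_pow_le_sum_kap_of hM B D H b ?_ ?_
    (ExtFirstMain.isPGroup_of_isDefectGroup hBD) ?_ χ hχ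
  · intro w hwD hwc
    exact exists_majBlock hM B D hBD H hH b hind w hwD hwc
  · intro X β β' h h'
    exact isInducedBlockIn_unique hM X H b β β' h h'
  · intro N _ K _ _ _ _ _ φ z hz hzN C _ hC e hind' hdef ψ hψ
    exact card_gal_mul_pow_le_sum_contrib_diag hM N K φ z hz hzN C hC B e hind' hdef ψ hψ

end glue

theorem sum_irr_mul_conj_self' {X : Type u} [Group X] [Fintype X] (χ : IrrCharacter X) :
    ∑ g : X, (χ : X → ℂ) g * conj ((χ : X → ℂ) g) = (Nat.card X : ℂ) := by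
  have h1 : classInner (χ : X → ℂ) (χ : X → ℂ) = 1 := by
    rw [classInner_irr', if_pos rfl]
  unfold classInner at h1
  have hne : (Nat.card X : ℂ) ≠ 0 := card_ne_zero_complex
  field_simp at h1
  exact h1

theorem height_add_le {G : Type u} [Group G] [Fintype G] (p : ℕ) [Fact p.Prime]
    (M : Ideal AlgInt) (hM : IsPModular p M) (B : Set (IrrCharacter G)) (hB : IsPBlock M B)
    (D : Subgroup G) (hBD : IsDefectGroup p M B D) (d : ℕ) (hDd : Nat.card D = p ^ d)
    (H : Subgroup G) (hH : H = D ⊔ Subgroup.centralizer (D : Set G))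
    (b : Set (IrrCharacter H)) (hind : IsInducedBlock M H b B) (T : Subgroup G)
    (hT : ∀ g : G, g ∈ T ↔ (g ∈ Subgroup.normalizer (D : Set G) ∧ ∀ θ ∈ b,
      ∀ θ' : IrrCharacter H, (∀ h h' : H, (h' : G) = g * h * g⁻¹ →
        (θ' : H → ℂ) h' = (θ : H → ℂ) h) → θ' ∈ b))
    (e : ℕ) (he : H.relIndex T = e) (n : ℕ) (hn : p ^ n ≤ e ∧ e < p ^ (n + 1)) (c : ℕ)
    (hc : Nat.card (Subgroup.center D) = p ^ c) :
    ∀ χ ∈ B, blockHeight p B (χ : G → ℂ) + c ≤ n + d := by
  classical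
  intro χ hχ
  have hp : p.Prime := Fact.out
  have hp1 : 1 < p := hp.one_lt
  let _ : Fintype (Subgroup.center D) := Fintype.ofFinite _
  -- the defect
  have hd : d = blockDefect p B := by
    have h1 := card_defectGroup_eq hM B hB D hBD
    rw [hDd] at h1
    exact Nat.pow_right_injective hp1 h1
  have hDp : IsPGroup p D := ExtFirstMain.isPGroup_of_isDefectGroup hBD
  -- the elements of `Z(D)`
  set zG : Subgroup.center D → G := fun i => ((i : D) : G) with hzG
  have hzD : ∀ i, zG i ∈ D := fun i => (i : D).2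
  have hzc : ∀ i, ∀ x ∈ D, x * zG i = zG i * x := by
    intro i x hx
    have h1 := Subgroup.mem_center_iff.mp i.2 ⟨x, hx⟩
    have h2 := congrArg (Subtype.val : D → G) h1
    simpa using h2
  have hzord : ∀ i, ∃ k : ℕ, orderOf (zG i) = p ^ k := by
    intro i
    obtain ⟨k, hk⟩ := IsPGroup.iff_orderOf.mp hDp (i : D)
    exact ⟨k, by rw [← hk]; exact Subgroup.orderOf_coe _⟩
  have hzinj : Function.Injective zG := fun i j h => Subtype.ext (Subtype.ext h)
  -- the major subsections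
  have hex : ∀ i, ∃ β : Set (IrrCharacter (Cz (zG i))), IsInducedBlockIn M (Cz (zG i)) H b β :=
    fun i => by
      obtain ⟨β, h1, -, -⟩ := exists_majBlock hM B D hBD H hH b hind (zG i) (hzD i) (hzc i)
      exact ⟨β, h1⟩
  have hblk : ∀ i, IsPBlock M (majBlock M H b (zG i)) := fun i => (majBlock_spec (hex i)).2.1
  -- the relation
  let s : Setoid (Subgroup.center D) :=
    { r := fun i j => ∃ t ∈ T, zG j = t * zG i * t⁻¹
      iseqv :=
        { refl := fun i => ⟨1, T.one_mem, by simp⟩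
          symm := by
            rintro i j ⟨t, ht, h⟩
            exact ⟨t⁻¹, T.inv_mem ht, by rw [h]; group⟩
          trans := by
            rintro i j k ⟨t, ht, h⟩ ⟨t', ht', h'⟩
            exact ⟨t' * t, T.mul_mem ht' ht, by rw [h', h]; group⟩ } }
  have hcls : ∀ i, Nat.card {j // s.r i j} ≤ e := by
    intro i
    rw [← he]
    refine le_trans ?_ (card_conj_le D H T hH (zG i) (hzD i) (hzc i))
    apply Nat.card_le_card_of_injective
      (fun j : {j // s.r i j} => (⟨zG j.1, j.2⟩ : {z' : G // ∃ t ∈ T, z' = t * zG i * t⁻¹}))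
    intro j j' h
    apply Subtype.ext
    apply hzinj
    exact congrArg (fun w : {z' : G // ∃ t ∈ T, z' = t * zG i * t⁻¹} => (w : G)) h
  -- the weights
  set κ : Subgroup.center D → ℝ := fun i => kap p M H b χ (zG i) with hκdef
  have hκc : ∀ i, ((κ i : ℝ) : ℂ) = @contrib G _ _ p (Cz (zG i)) (Fintype.ofFinite _)
      (majBlock M H b (zG i)) (zG i) χ χ := by
    intro i
    have h1 := @contrib_diag_nonneg G _ _ p _ (zG i) (Cz (zG i)) (Fintype.ofFinite _)
      (majBlock M H b (zG i)) χ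
    apply Complex.ext
    · simp [hκdef, kap]
    · simp [h1.2]
  have hκ0 : ∀ i, 0 ≤ κ i := by
    intro i
    exact (@contrib_diag_nonneg G _ _ p _ (zG i) (Cz (zG i)) (Fintype.ofFinite _)
      (majBlock M H b (zG i)) χ).1
  obtain ⟨R, hR, hsum⟩ := exists_reps s e hcls κ hκ0
  -- Bessel
  have hN : (0 : ℝ) < (Nat.card G : ℝ) := by exact_mod_cast Nat.card_pos
  have hbes : ∑ i ∈ R, κ i ≤ 1 := by
    apply bessel_le_one R (χ : G → ℂ) (fun i => theta p M H b χ (zG i)) κ (Nat.card G : ℝ) hN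
    · rw [sum_irr_mul_conj_self']; simp
    · intro i _
      rw [hκc i]
      have := @sum_irr_conj_secFun G _ _ M p _ hM (zG i) (hzord i) (Cz (zG i)) (Fintype.ofFinite _)
        rfl (majBlock M H b (zG i)) (hblk i) χ
      simpa [theta] using this
    · intro i _
      rw [hκc i]
      have := @sum_secFun_conj_secFun G _ _ M p _ hM (zG i) (hzord i) (Cz (zG i))
        (Fintype.ofFinite _) rfl (majBlock M H b (zG i)) (hblk i) χ
      simpa [theta] using this
    · intro i hi j hj hij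
      have hnr : ¬ s.r i j := fun h => hij (hR i hi j hj h)
      by_cases hg : ∃ g : G, zG j = g * zG i * g⁻¹
      · obtain ⟨g, hg⟩ := hg
        have hnc : ¬ BlockConjTo g (majBlock M H b (zG i)) (majBlock M H b (zG j)) := by
          intro hcj
          exact hnr (exists_mem_T_of_blockConjTo hM B hB D hBD H hH b hind T hT (zG i) (zG j) g
            (hzD i) (hzc i) (hzD j) (hzc j) hg hcj)
        exact @sum_secFun_conj_secFun_of_conj G _ _ M p _ hM (zG i) (zG j) g (hzord i) hg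
          (Cz (zG i)) (Cz (zG j)) (Fintype.ofFinite _) (Fintype.ofFinite _) rfl rfl
          (majBlock M H b (zG i)) (hblk i) (majBlock M H b (zG j)) (hblk j) hnc χ
      · simp only [not_exists] at hg
        exact @sum_secFun_conj_secFun_of_not_conj G _ _ p _ (zG i) (zG j) (hzord i) (hzord j)
          (Cz (zG i)) (Cz (zG j)) (Fintype.ofFinite _) (Fintype.ofFinite _) rfl rfl _ _ hg
  -- the lower bound
  have hgs := card_center_mul_pow_le_sum_kap hM B hB D hBD H hH b hind χ hχ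
  rw [hc, ← Finset.mul_sum] at hgs
  -- arithmetic
  have hpR : (0 : ℝ) < (p : ℝ) := by exact_mod_cast hp.pos
  have hp1R : (1 : ℝ) < (p : ℝ) := by exact_mod_cast hp1
  have hκsum : ∑ i, κ i ≤ (e : ℝ) := by
    have hR0 : 0 ≤ ∑ i ∈ R, κ i := Finset.sum_nonneg (fun i _ => hκ0 i)
    calc ∑ i, κ i ≤ (e : ℝ) * ∑ i ∈ R, κ i := hsum
      _ ≤ (e : ℝ) * 1 := by
          apply mul_le_mul_of_nonneg_left hbes
          exact_mod_cast Nat.zero_le e
      _ = e := mul_one _
  have helt : (e : ℝ) < (p : ℝ) ^ (n + 1) := by exact_mod_cast hn.2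
  have hlt : (p : ℝ) ^ (c + blockHeight p B (χ : G → ℂ)) < (p : ℝ) ^ (blockDefect p B + (n + 1)) := by
    rw [pow_add, pow_add]
    have hpd : (0 : ℝ) < (p : ℝ) ^ blockDefect p B := pow_pos hpR _
    calc (p : ℝ) ^ c * (p : ℝ) ^ blockHeight p B (χ : G → ℂ)
        = ((p ^ c : ℕ) : ℝ) * (p : ℝ) ^ blockHeight p B (χ : G → ℂ) := by push_cast; ring
      _ ≤ (p : ℝ) ^ blockDefect p B * ∑ i, κ i := hgs
      _ ≤ (p : ℝ) ^ blockDefect p B * (e : ℝ) := mul_le_mul_of_nonneg_left hκsum hpd.le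
      _ < (p : ℝ) ^ blockDefect p B * (p : ℝ) ^ (n + 1) := mul_lt_mul_of_pos_left helt hpd
  have h3 := (pow_lt_pow_iff_right₀ hp1R).mp hlt
  omega

end Cfsg.Agent.Lib.Helper6.HtBoundMain
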