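/-
Helper6 library (induced-character certificates): the inner product of two induced class
functions as a sum over double coset representatives (Mackey's formula in counting form).
-/
import Mathlib
import Cfsg.Prelude.Def_Characters
import Cfsg.Agent.Lib.Helper10.IndFun
import Cfsg.Agent.Lib.Helper5.IndIrr
import Cfsg.Agent.Lib.Lead.CharInd

set_option autoImplicit false

namespace Cfsg.Agent.Lib.Helper6.ICDC

open Cfsg
open scoped ComplexConjugate

variable {G : Type*} [Group G] [Fintype G]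

section count

variable (A C : Subgroup G)

/-- the double coset `C t A` as a finset -/
noncomputable def dcos (t : G) : Finset G := by
  classical
  exact (Finset.univ : Finset (C × A)).image (fun p => (p.1 : G) * t * (p.2 : G))

/-- the number of `c ∈ C` with `t⁻¹ c t ∈ A` -/
noncomputable def nfix (t : G) : ℕ := Nat.card {c : C // t⁻¹ * (c : G) * t ∈ A}

theorem nfix_pos (t : G) : 0 < nfix A C t := by
  unfold nfix
  haveI : Nonempty {c : C // t⁻¹ * (c : G) * t ∈ A} :=
    ⟨⟨1, by simp [A.one_mem]⟩⟩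
  exact Nat.card_pos

theorem mem_dcos (t x : G) : x ∈ dcos A C t ↔ ∃ c ∈ C, ∃ a ∈ A, x = c * t * a := by
  classical
  unfold dcos
  rw [Finset.mem_image]
  constructor
  · rintro ⟨⟨c, a⟩, _, rfl⟩
    exact ⟨c, c.2, a, a.2, rfl⟩
  · rintro ⟨c, hc, a, ha, rfl⟩
    exact ⟨(⟨c, hc⟩, ⟨a, ha⟩), Finset.mem_univ _, rfl⟩

theorem card_dcos_mul (t : G) : (dcos A C t).card * nfix A C t = Nat.card C * Nat.card A := by
  classical
  have h1 := Finset.card_eq_sum_card_image (fun p : C × A => (p.1 : G) * t * (p.2 : G))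
    Finset.univ
  have hn : nfix A C t = (Finset.univ.filter (fun c : C => t⁻¹ * (c : G) * t ∈ A)).card := by
    unfold nfix
    rw [Nat.card_eq_fintype_card, Fintype.card_subtype]
  have h2 : ∀ x ∈ (Finset.univ : Finset (C × A)).image (fun p => (p.1 : G) * t * (p.2 : G)),
      (Finset.univ.filter (fun p : C × A => (p.1 : G) * t * (p.2 : G) = x)).card
        = nfix A C t := by
    intro x hx
    rw [Finset.mem_image] at hx
    obtain ⟨⟨c₁, a₁⟩, _, rfl⟩ := hx
    rw [hn]
    apply Finset.card_bij (fun p _ => c₁⁻¹ * p.1)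
    · intro p hp
      rw [Finset.mem_filter] at hp ⊢
      refine ⟨Finset.mem_univ _, ?_⟩
      have h3 : (p.1 : G) * t * (p.2 : G) = (c₁ : G) * t * (a₁ : G) := hp.2
      have h4 : t⁻¹ * ((c₁⁻¹ * p.1 : C) : G) * t = (a₁ : G) * (p.2 : G)⁻¹ := by
        have : ((c₁⁻¹ * p.1 : C) : G) = (c₁ : G)⁻¹ * (p.1 : G) := by simp
        rw [this]
        have h5 : (p.1 : G) * t = (c₁ : G) * t * a₁ * (p.2 : G)⁻¹ := by
          rw [← h3]; group
        calc t⁻¹ * ((c₁ : G)⁻¹ * (p.1 : G)) * t = t⁻¹ * (c₁ : G)⁻¹ * ((p.1 : G) * t) := by group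
          _ = t⁻¹ * (c₁ : G)⁻¹ * ((c₁ : G) * t * a₁ * (p.2 : G)⁻¹) := by rw [h5]
          _ = (a₁ : G) * (p.2 : G)⁻¹ := by group
      rw [h4]
      exact A.mul_mem a₁.2 (A.inv_mem p.2.2)
    · intro p hp p' hp' h
      rw [Finset.mem_filter] at hp hp'
      have h3 : p.1 = p'.1 := mul_left_cancel h
      have h4 : (p.2 : G) = (p'.2 : G) := by
        have h5 : (p.1 : G) * t * (p.2 : G) = (p'.1 : G) * t * (p'.2 : G) :=
          hp.2.trans hp'.2.symm
        rw [h3] at h5
        exact mul_left_cancel h5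
      exact Prod.ext h3 (Subtype.ext h4)
    · intro c' hc'
      rw [Finset.mem_filter] at hc'
      have hm : (t⁻¹ * (c' : G) * t)⁻¹ ∈ A := A.inv_mem hc'.2
      refine ⟨(c₁ * c', ⟨(t⁻¹ * (c' : G) * t)⁻¹, hm⟩ * a₁), ?_, ?_⟩
      · rw [Finset.mem_filter]
        refine ⟨Finset.mem_univ _, ?_⟩
        simp only [Subgroup.coe_mul]
        group
      · simp
  rw [Finset.sum_congr rfl h2, Finset.sum_const, smul_eq_mul] at h1
  unfold dcos
  rw [← h1, Finset.card_univ, Fintype.card_prod, Nat.card_eq_fintype_card,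
    Nat.card_eq_fintype_card]

theorem card_dcos (t : G) : (dcos A C t).card = Nat.card C * Nat.card A / nfix A C t :=
  (Nat.div_eq_of_eq_mul_left (nfix_pos A C t) (card_dcos_mul A C t).symm).symm

/-- the relation "different double cosets" -/
def Sep (t t' : G) : Prop := ∀ c ∈ C, t'⁻¹ * c * t ∉ A

omit [Fintype G] in
theorem sep_symm {t t' : G} (h : Sep A C t t') : Sep A C t' t := by
  intro c hc hm
  apply h c⁻¹ (C.inv_mem hc)
  have : t'⁻¹ * c⁻¹ * t = (t⁻¹ * c * t')⁻¹ := by group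
  rw [this]
  exact A.inv_mem hm

theorem disjoint_dcos {t t' : G} (h : Sep A C t t') : Disjoint (dcos A C t) (dcos A C t') := by
  rw [Finset.disjoint_left]
  intro x hx hx'
  rw [mem_dcos] at hx hx'
  obtain ⟨c, hc, a, ha, rfl⟩ := hx
  obtain ⟨c', hc', a', ha', h2⟩ := hx'
  apply h (c'⁻¹ * c) (C.mul_mem (C.inv_mem hc') hc)
  have : t'⁻¹ * (c'⁻¹ * c) * t = a' * a⁻¹ := by
    calc t'⁻¹ * (c'⁻¹ * c) * t = t'⁻¹ * c'⁻¹ * (c * t * a) * a⁻¹ := by group
      _ = t'⁻¹ * c'⁻¹ * (c' * t' * a') * a⁻¹ := by rw [h2]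
      _ = a' * a⁻¹ := by group
  rw [this]
  exact A.mul_mem ha' (A.inv_mem ha)

/-- a function invariant under `C` on the left and `A` on the right is summed over the group by
summing over a full set of double coset representatives. -/
theorem sum_eq_sum_reps (S : G → ℂ) (hS : ∀ c ∈ C, ∀ a ∈ A, ∀ x, S (c * x * a) = S x)
    (R : Finset G) (hsep : ∀ t ∈ R, ∀ t' ∈ R, t ≠ t' → Sep A C t t')
    (hcount : ∑ t ∈ R, Nat.card C * Nat.card A / nfix A C t = Nat.card G) :
    ∑ x : G, S x = ∑ t ∈ R, ((Nat.card C * Nat.card A / nfix A C t : ℕ) : ℂ) * S t := by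
  classical
  have hd : ∀ t ∈ R, ∀ t' ∈ R, t ≠ t' → Disjoint (dcos A C t) (dcos A C t') :=
    fun t ht t' ht' hne => disjoint_dcos A C (hsep t ht t' ht' hne)
  have hU : R.biUnion (dcos A C) = Finset.univ := by
    apply Finset.eq_univ_of_card
    rw [Finset.card_biUnion hd, ← Nat.card_eq_fintype_card, ← hcount]
    apply Finset.sum_congr rfl
    intro t _
    exact card_dcos A C t
  rw [← hU, Finset.sum_biUnion hd]
  apply Finset.sum_congr rfl
  intro t _
  have h1 : ∀ x ∈ dcos A C t, S x = S t := by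
    intro x hx
    rw [mem_dcos] at hx
    obtain ⟨c, hc, a, ha, rfl⟩ := hx
    exact hS c hc a ha t
  rw [Finset.sum_congr rfl h1, Finset.sum_const, nsmul_eq_mul, card_dcos]

end count

section gram

variable (A C : Subgroup G)

/-- Mackey's formula in counting form. -/
theorem classInner_indFun_indFun [Fintype C] (φ : A → ℂ) (ψ : C → ℂ) (hφ : IsClassFunction A φ)
    (hψ : IsClassFunction C ψ) (R : Finset G)
    (hsep : ∀ t ∈ R, ∀ t' ∈ R, t ≠ t' → Sep A C t t')
    (hcount : ∑ t ∈ R, Nat.card C * Nat.card A / nfix A C t = Nat.card G) :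
    classInner (indFun A φ) (indFun C ψ) =
      ((Nat.card C * Nat.card A : ℕ) : ℂ)⁻¹ *
        ∑ t ∈ R, ((Nat.card C * Nat.card A / nfix A C t : ℕ) : ℂ) *
          ∑ c : C, extendByZero A φ (t⁻¹ * (c : G) * t) * conj (ψ c) := by
  classical
  rw [Cfsg.Agent.Lib.Helper10.classInner_indFun_right C ψ (indFun A φ)
    (Cfsg.Agent.CharLib.indFun_isClassFunction A φ)]
  set S : G → ℂ := fun x => ∑ c : C, extendByZero A φ (x⁻¹ * (c : G) * x) * conj (ψ c) with hSdef
  have hS : ∀ c₀ ∈ C, ∀ a ∈ A, ∀ x, S (c₀ * x * a) = S x := by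
    intro c₀ hc₀ a ha x
    simp only [hSdef]
    have h1 : ∀ c : C, extendByZero A φ ((c₀ * x * a)⁻¹ * (c : G) * (c₀ * x * a))
        = extendByZero A φ (x⁻¹ * (c₀⁻¹ * (c : G) * c₀) * x) := by
      intro c
      have : (c₀ * x * a)⁻¹ * (c : G) * (c₀ * x * a)
          = a⁻¹ * (x⁻¹ * (c₀⁻¹ * (c : G) * c₀) * x) * a := by group
      rw [this, Cfsg.Agent.Lib.Helper5.IndIrr.extendByZero_conj_mem A φ hφ ha]
    simp only [h1]
    apply Fintype.sum_equiv (MulAut.conj (⟨c₀, hc₀⟩ : C)⁻¹).toEquiv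
    intro c
    have h2 : (((MulAut.conj (⟨c₀, hc₀⟩ : C)⁻¹).toEquiv c : C) : G) = c₀⁻¹ * (c : G) * c₀ := by
      simp
    rw [h2]
    congr 2
    have h3 := hψ c (⟨c₀, hc₀⟩ : C)⁻¹
    rw [← h3]
    congr 1
  have h4 : ∑ h : C, indFun A φ (h : G) * conj (ψ h)
      = (Nat.card A : ℂ)⁻¹ * ∑ x : G, S x := by
    unfold indFun
    simp only [hSdef]
    rw [Finset.sum_comm, Finset.mul_sum]
    apply Finset.sum_congr rfl
    intro c _
    rw [Finset.mul_sum, Finset.sum_mul, Finset.mul_sum]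
    apply Finset.sum_congr rfl
    intro x _
    ring
  rw [h4, sum_eq_sum_reps A C S hS R hsep hcount]
  push_cast
  rw [mul_inv]
  ring

end gram

end Cfsg.Agent.Lib.Helper6.ICDC
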