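/-
Helper6 library (induced-character certificates): the primitive 24-th root of unity `zeta`,
reduction modulo the 24-th cyclotomic polynomial, and evaluation of sums of powers of `zeta`
through packed histograms.
-/
import Mathlib

set_option autoImplicit false

namespace Cfsg.Agent.Lib.Helper6.ICCyc

open scoped ComplexConjugate

/-- the primitive 24-th root of unity -/
noncomputable def zeta : ℂ := Complex.exp (2 * Real.pi * Complex.I / (24 : ℕ))

theorem zeta_prim : IsPrimitiveRoot zeta 24 := Complex.isPrimitiveRoot_exp 24 (by norm_num)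

theorem zeta_pow24 : zeta ^ 24 = 1 := zeta_prim.pow_eq_one

theorem zeta_ne_zero : zeta ≠ 0 := zeta_prim.ne_zero (by norm_num)

theorem zeta_pow12 : zeta ^ 12 = -1 := by
  have h1 : (zeta ^ 12) ^ 2 = 1 := by rw [← pow_mul]; exact zeta_pow24
  have h2 : zeta ^ 12 ≠ 1 := by
    intro h
    have := (zeta_prim.pow_eq_one_iff_dvd 12).mp h
    omega
  have h3 : (zeta ^ 12 - 1) * (zeta ^ 12 + 1) = 0 := by ring_nf; ring_nf at h1; rw [h1]; ring
  rcases mul_eq_zero.mp h3 with h | h
  · exact absurd (sub_eq_zero.mp h) h2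
  · exact eq_neg_of_add_eq_zero_left h

theorem zeta_pow8 : zeta ^ 8 = zeta ^ 4 - 1 := by
  have h1 : (zeta ^ 4) ^ 3 = -1 := by rw [← pow_mul]; exact zeta_pow12
  have h2 : zeta ^ 4 ≠ -1 := by
    intro h
    have h3 : zeta ^ 8 = 1 := by
      have : zeta ^ 8 = (zeta ^ 4) ^ 2 := by rw [← pow_mul]
      rw [this, h]; norm_num
    have := (zeta_prim.pow_eq_one_iff_dvd 8).mp h3
    omega
  have h3 : (zeta ^ 4 + 1) * (zeta ^ 8 - zeta ^ 4 + 1) = 0 := by
    have : (zeta ^ 4 + 1) * (zeta ^ 8 - zeta ^ 4 + 1) = (zeta ^ 4) ^ 3 + 1 := by ring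
    rw [this, h1]; ring
  rcases mul_eq_zero.mp h3 with h | h
  · exact absurd (eq_neg_of_add_eq_zero_left h) h2
  · linear_combination h

theorem conj_zeta : conj zeta = zeta⁻¹ := by
  have h : ‖zeta‖ = 1 := zeta_prim.norm'_eq_one (by norm_num)
  exact (Complex.inv_eq_conj h).symm

/-- `zeta` as a unit -/
noncomputable def zetaU : ℂˣ := Units.mk0 zeta zeta_ne_zero

theorem zetaU_val : (zetaU : ℂ) = zeta := rfl

theorem zetaU_pow24 : zetaU ^ 24 = 1 := by
  apply Units.ext
  rw [Units.val_pow_eq_pow_val, zetaU_val, zeta_pow24]; rfl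

theorem zetaU_pow_mod (m : ℕ) : zetaU ^ (m % 24) = zetaU ^ m :=
  (pow_eq_pow_mod m zetaU_pow24).symm

theorem zeta_pow_mod (m : ℕ) : zeta ^ (m % 24) = zeta ^ m :=
  (pow_eq_pow_mod m zeta_pow24).symm

/-- `zeta ^ a * conj (zeta ^ b)` as a single power. -/
theorem zeta_pow_mul_conj (a b : ℕ) :
    zeta ^ a * conj (zeta ^ b) = zeta ^ ((a + (24 - b % 24)) % 24) := by
  rw [zeta_pow_mod, map_pow, conj_zeta, pow_add]
  congr 1
  have hb : b % 24 ≤ 24 := (Nat.mod_lt b (by norm_num)).le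
  have h1 : zeta ^ (24 - b % 24) * zeta ^ (b % 24) = 1 := by
    rw [← pow_add, Nat.sub_add_cancel hb, zeta_pow24]
  rw [inv_pow, ← zeta_pow_mod b]
  exact (eq_inv_of_mul_eq_one_left h1).symm

end Cfsg.Agent.Lib.Helper6.ICCyc
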