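/-
Helper6 library (induced-character certificates): packed histograms.  A weighted list of optional
exponents is evaluated at a weight function; evaluating at powers of a large base gives a natural
number whose digits determine the value at any other weight function, in particular at the powers
of the primitive 24-th root of unity, where the cyclotomic relations give a checkable criterion.
-/
import Mathlib
import Cfsg.Agent.Lib.Helper6.ICCyc

set_option autoImplicit false

namespace Cfsg.Agent.Lib.Helper6.ICCyc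

/-- the base of the packed histograms -/
def HB : ℕ := 4294967296

/-- weighted value of an optional exponent -/
def wval {A : Type*} [AddCommMonoid A] (w : ℕ → A) (p : ℕ × Option ℕ) : A :=
  match p.2 with
  | none => 0
  | some x => p.1 • w x

/-- total weight of the exponent `x` -/
def wcount (x : ℕ) : List (ℕ × Option ℕ) → ℕ
  | [] => 0
  | p :: L => (if p.2 = some x then p.1 else 0) + wcount x L

/-- total weight of the entries carrying an exponent -/
def wtotal : List (ℕ × Option ℕ) → ℕ
  | [] => 0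
  | p :: L => (if p.2 = none then 0 else p.1) + wtotal L

theorem wcount_le_wtotal (x : ℕ) (L : List (ℕ × Option ℕ)) : wcount x L ≤ wtotal L := by
  induction L with
  | nil => exact le_rfl
  | cons p L ih =>
    unfold wcount wtotal
    apply Nat.add_le_add _ ih
    by_cases h : p.2 = some x
    · rw [if_pos h, if_neg (by rw [h]; simp)]
    · rw [if_neg h]; exact Nat.zero_le _

theorem sum_wval {A : Type*} [AddCommMonoid A] (w : ℕ → A) (n : ℕ) (L : List (ℕ × Option ℕ))
    (h : ∀ p ∈ L, ∀ x, p.2 = some x → x < n) :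
    (L.map (wval w)).sum = ∑ x ∈ Finset.range n, wcount x L • w x := by
  induction L with
  | nil => simp [wcount]
  | cons p L ih =>
    rw [List.map_cons, List.sum_cons, ih (fun q hq => h q (List.mem_cons_of_mem _ hq))]
    have h1 : wval w p = ∑ x ∈ Finset.range n, (if p.2 = some x then p.1 else 0) • w x := by
      unfold wval
      rcases hp : p.2 with _ | x0
      · simp
      · have hx0 : x0 < n := h p List.mem_cons_self x0 hp
        rw [Finset.sum_eq_single x0]
        · simp
        · intro b _ hb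
          rw [if_neg (by intro hh; exact hb (Option.some.inj hh).symm), zero_smul]
        · intro hh
          exact absurd (Finset.mem_range.mpr hx0) hh
    rw [h1, ← Finset.sum_add_distrib]
    apply Finset.sum_congr rfl
    intro x _
    show _ = ((if p.2 = some x then p.1 else 0) + wcount x L) • w x
    rw [add_smul]

theorem digit_sum (B : ℕ) (hB : 0 < B) (n : ℕ) : ∀ (c : ℕ → ℕ), (∀ x, x < n → c x < B) →
    ∀ x, x < n → (∑ y ∈ Finset.range n, c y * B ^ y) / B ^ x % B = c x := by
  induction n with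
  | zero => intro c _ x hx; omega
  | succ n ih =>
    intro c hc x hx
    have h1 : ∑ y ∈ Finset.range (n + 1), c y * B ^ y
        = c 0 + B * ∑ y ∈ Finset.range n, c (y + 1) * B ^ y := by
      rw [Finset.sum_range_succ', Finset.mul_sum, pow_zero, mul_one, add_comm]
      congr 1
      apply Finset.sum_congr rfl
      intro y _
      rw [pow_succ]; ring
    rw [h1]
    rcases x with _ | x
    · rw [pow_zero, Nat.div_one, Nat.add_mul_mod_self_left, Nat.mod_eq_of_lt (hc 0 (by omega))]
    · rw [pow_succ, mul_comm (B ^ x) B, ← Nat.div_div_eq_div_mul, Nat.add_mul_div_left _ _ hB,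
        Nat.div_eq_of_lt (hc 0 (by omega)), zero_add]
      exact ih (fun y => c (y + 1)) (fun y hy => hc (y + 1) (by omega)) x (by omega)

/-- the packed histogram of a weighted list -/
def packed (L : List (ℕ × Option ℕ)) : ℕ := (L.map (wval (fun x => HB ^ x))).sum

/-- the digits of a packed histogram -/
def cdig (P x : ℕ) : ℕ := P / HB ^ x % HB

theorem wcount_eq_cdig (n : ℕ) (L : List (ℕ × Option ℕ))
    (h : ∀ p ∈ L, ∀ x, p.2 = some x → x < n) (hL : wtotal L < HB) (x : ℕ) (hx : x < n) :
    wcount x L = cdig (packed L) x := by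
  unfold cdig packed
  rw [sum_wval (fun x => HB ^ x) n L h]
  simp only [smul_eq_mul]
  rw [digit_sum HB (by unfold HB; norm_num) n (fun x => wcount x L)
    (fun y _ => lt_of_le_of_lt (wcount_le_wtotal y L) hL) x hx]

/-- evaluation of a weighted list through its packed histogram -/
theorem sum_wval_eq_cdig {A : Type*} [AddCommMonoid A] (w : ℕ → A) (n : ℕ)
    (L : List (ℕ × Option ℕ)) (h : ∀ p ∈ L, ∀ x, p.2 = some x → x < n) (hL : wtotal L < HB) :
    (L.map (wval w)).sum = ∑ x ∈ Finset.range n, cdig (packed L) x • w x := by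
  rw [sum_wval w n L h]
  apply Finset.sum_congr rfl
  intro x hx
  rw [wcount_eq_cdig n L h hL x (Finset.mem_range.mp hx)]

/-- the cyclotomic criterion: the histogram `P` evaluates to the natural number `N` at `zeta`. -/
def cycOK (P N : ℕ) : Bool :=
  (cdig P 0 + cdig P 20 == N + cdig P 12 + cdig P 8) &&
  (cdig P 1 + cdig P 21 == cdig P 13 + cdig P 9) &&
  (cdig P 2 + cdig P 22 == cdig P 14 + cdig P 10) &&
  (cdig P 3 + cdig P 23 == cdig P 15 + cdig P 11) &&
  (cdig P 4 + cdig P 8 == cdig P 16 + cdig P 20) &&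
  (cdig P 5 + cdig P 9 == cdig P 17 + cdig P 21) &&
  (cdig P 6 + cdig P 10 == cdig P 18 + cdig P 22) &&
  (cdig P 7 + cdig P 11 == cdig P 19 + cdig P 23)

theorem cyc_sound (c : ℕ → ℕ) (N : ℕ)
    (e0 : c 0 + c 20 = N + c 12 + c 8) (e1 : c 1 + c 21 = c 13 + c 9)
    (e2 : c 2 + c 22 = c 14 + c 10) (e3 : c 3 + c 23 = c 15 + c 11)
    (f0 : c 4 + c 8 = c 16 + c 20) (f1 : c 5 + c 9 = c 17 + c 21)
    (f2 : c 6 + c 10 = c 18 + c 22) (f3 : c 7 + c 11 = c 19 + c 23) :
    ∑ x ∈ Finset.range 24, c x • (zeta ^ x) = (N : ℂ) := by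
  have E0 : (c 0 : ℂ) + c 20 = N + c 12 + c 8 := by exact_mod_cast e0
  have E1 : (c 1 : ℂ) + c 21 = c 13 + c 9 := by exact_mod_cast e1
  have E2 : (c 2 : ℂ) + c 22 = c 14 + c 10 := by exact_mod_cast e2
  have E3 : (c 3 : ℂ) + c 23 = c 15 + c 11 := by exact_mod_cast e3
  have F0 : (c 4 : ℂ) + c 8 = c 16 + c 20 := by exact_mod_cast f0
  have F1 : (c 5 : ℂ) + c 9 = c 17 + c 21 := by exact_mod_cast f1
  have F2 : (c 6 : ℂ) + c 10 = c 18 + c 22 := by exact_mod_cast f2
  have F3 : (c 7 : ℂ) + c 11 = c 19 + c 23 := by exact_mod_cast f3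
  have H12 := zeta_pow12
  have H8 := zeta_pow8
  simp only [Finset.sum_range_succ, Finset.sum_range_zero, nsmul_eq_mul, zero_add, pow_zero,
    mul_one, pow_one]
  linear_combination E0 + zeta * E1 + zeta ^ 2 * E2 + zeta ^ 3 * E3 + zeta ^ 4 * F0 +
    zeta ^ 5 * F1 + zeta ^ 6 * F2 + zeta ^ 7 * F3 +
    ((c 12 : ℂ) + c 13 * zeta + c 14 * zeta ^ 2 + c 15 * zeta ^ 3 + c 16 * zeta ^ 4 +
      c 17 * zeta ^ 5 + c 18 * zeta ^ 6 + c 19 * zeta ^ 7 + c 20 * zeta ^ 8 + c 21 * zeta ^ 9 +
      c 22 * zeta ^ 10 + c 23 * zeta ^ 11) * H12 +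
    (((c 8 : ℂ) - c 20) + (c 9 - c 21) * zeta + (c 10 - c 22) * zeta ^ 2 +
      (c 11 - c 23) * zeta ^ 3) * H8

/-- a weighted list of exponents below 24 whose packed histogram passes the cyclotomic criterion
evaluates to `N` at `zeta`. -/
theorem sum_zeta_of_cycOK (L : List (ℕ × Option ℕ)) (N : ℕ)
    (h : ∀ p ∈ L, ∀ x, p.2 = some x → x < 24) (hL : wtotal L < HB)
    (hc : cycOK (packed L) N = true) :
    (L.map (wval (fun x => zeta ^ x))).sum = (N : ℂ) := by
  rw [sum_wval_eq_cdig (fun x => zeta ^ x) 24 L h hL]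
  unfold cycOK at hc
  simp only [Bool.and_eq_true, beq_iff_eq] at hc
  obtain ⟨⟨⟨⟨⟨⟨⟨e0, e1⟩, e2⟩, e3⟩, f0⟩, f1⟩, f2⟩, f3⟩ := hc
  exact cyc_sound (cdig (packed L)) N e0 e1 e2 e3 f0 f1 f2 f3

end Cfsg.Agent.Lib.Helper6.ICCyc
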