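/-
Helper6 library (induced-character certificates): computational models of finite groups by
natural-number codes, subgroups with a linear character given by a checked search tree of
(code, exponent) pairs, and the enumeration of such a subgroup.
-/
import Mathlib
import Cfsg.Agent.Lib.Helper6.ICCyc

set_option autoImplicit false

namespace Cfsg.Agent.Lib.Helper6.ICModel

open Cfsg.Agent.Lib.Helper6.ICCyc

/-- the computational part of a model: multiplication of codes, the code of one, validity -/
structure CM where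
  /-- multiplication of codes -/
  cmul : ℕ → ℕ → ℕ
  /-- the code of the identity -/
  one : ℕ
  /-- codes of group elements -/
  ok : ℕ → Bool

/-- a model of the group `G` by natural-number codes -/
structure Model (G : Type*) [Group G] (K : CM) where
  /-- the code of a group element -/
  enc : G → ℕ
  enc_inj : Function.Injective enc
  enc_mul : ∀ g h, enc (g * h) = K.cmul (enc g) (enc h)
  enc_one : enc 1 = K.one
  ok_surj : ∀ c, K.ok c = true → ∃ g, enc g = c

/-- binary search trees of (key, value) pairs -/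
inductive Tr where
  | leaf : Tr
  | node (l : Tr) (k v : ℕ) (r : Tr) : Tr

/-- search -/
def Tr.look : Tr → ℕ → Option ℕ
  | Tr.leaf, _ => none
  | Tr.node l k v r, c =>
    bif Nat.blt c k then l.look c else bif Nat.beq c k then some v else r.look c

/-- in-order list -/
def Tr.toList : Tr → List (ℕ × ℕ)
  | Tr.leaf => []
  | Tr.node l k v r => l.toList ++ (k, v) :: r.toList

theorem Tr.mem_of_look : ∀ {t : Tr} {c v : ℕ}, t.look c = some v → (c, v) ∈ t.toList
  | Tr.leaf, c, v, h => by simp [Tr.look] at h
  | Tr.node l k w r, c, v, h => by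
    unfold Tr.look at h
    unfold Tr.toList
    rw [List.mem_append, List.mem_cons]
    rcases hb : Nat.blt c k with _ | _
    · rw [hb, cond_false] at h
      rcases hb2 : Nat.beq c k with _ | _
      · rw [hb2, cond_false] at h
        exact Or.inr (Or.inr (Tr.mem_of_look h))
      · rw [hb2, cond_true] at h
        have h1 : c = k := Nat.eq_of_beq_eq_true hb2
        have h2 : w = v := Option.some.inj h
        exact Or.inr (Or.inl (by rw [h1, h2]))
    · rw [hb, cond_true] at h
      exact Or.inl (Tr.mem_of_look h)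

/-- strictly increasing lists -/
def sortedLt : List ℕ → Bool
  | [] => true
  | [_] => true
  | a :: b :: l => Nat.blt a b && sortedLt (b :: l)

theorem pairwise_of_sortedLt : ∀ (l : List ℕ), sortedLt l = true → l.Pairwise (· < ·)
  | [], _ => List.Pairwise.nil
  | [_], _ => List.pairwise_singleton _ _
  | a :: b :: l, h => by
    unfold sortedLt at h
    rw [Bool.and_eq_true] at h
    have h1 : a < b := by
      have := h.1
      simpa [Nat.blt_eq] using this
    have ih := pairwise_of_sortedLt (b :: l) h.2
    rw [List.pairwise_cons] at ih ⊢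
    refine ⟨?_, List.pairwise_cons.mpr ih⟩
    intro x hx
    rcases List.mem_cons.mp hx with rfl | hx
    · exact h1
    · exact lt_trans h1 (ih.1 x hx)

theorem nodup_of_sortedLt (l : List ℕ) (h : sortedLt l = true) : l.Nodup :=
  (pairwise_of_sortedLt l h).imp (fun h => Nat.ne_of_lt h)

/-- the data of a subgroup with a homomorphism to `ZMod 24`: a search tree of (code, exponent),
the list of (code, exponent, word in the generators), the generators with their exponents -/
structure SubD where
  /-- the search tree -/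
  tr : Tr
  /-- the elements -/
  ents : List (ℕ × ℕ × List ℕ)
  /-- the generators -/
  gens : List (ℕ × ℕ)

namespace SubD

/-- (code, exponent) pairs -/
def proj (D : SubD) : List (ℕ × ℕ) := D.ents.map (fun e => (e.1, e.2.1))

/-- the codes -/
def keys (D : SubD) : List ℕ := D.ents.map (fun e => e.1)

/-- the tree lists the elements -/
def v1 (D : SubD) : Bool := D.tr.toList == D.proj
/-- the codes increase -/
def v2 (D : SubD) : Bool := sortedLt D.keys
/-- the elements are found in the tree, and are codes of group elements -/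
def v3 (K : CM) (D : SubD) : Bool :=
  D.ents.all (fun e => K.ok e.1 && (D.tr.look e.1 == some e.2.1))
/-- the identity has exponent zero -/
def v4 (K : CM) (D : SubD) : Bool := D.tr.look K.one == some 0
/-- the generators are elements -/
def v5 (D : SubD) : Bool := D.gens.all (fun s => D.tr.look s.1 == some s.2)
/-- products with generators -/
def v6 (K : CM) (D : SubD) : Bool :=
  D.ents.all (fun e => D.gens.all (fun s =>
    D.tr.look (K.cmul e.1 s.1) == some ((e.2.1 + s.2) % 24)))
/-- the words -/
def v7 (K : CM) (D : SubD) : Bool :=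
  D.ents.all (fun e => e.2.2.all (fun s => D.gens.any (fun g => g.1 == s)) &&
    (e.2.2.foldl K.cmul K.one == e.1))

/-- validity of the data -/
structure Valid (K : CM) (D : SubD) : Prop where
  h1 : D.v1 = true
  h2 : D.v2 = true
  h3 : D.v3 K = true
  h4 : D.v4 K = true
  h5 : D.v5 = true
  h6 : D.v6 K = true
  h7 : D.v7 K = true

end SubD

section model

variable {G : Type*} [Group G] {K : CM} (M : Model G K)

/-- a group element with a given code -/
noncomputable def Model.dec (c : ℕ) : G :=
  if h : K.ok c = true then Classical.choose (M.ok_surj c h) else 1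

theorem Model.enc_dec {c : ℕ} (h : K.ok c = true) : M.enc (M.dec c) = c := by
  unfold Model.dec
  rw [dif_pos h]
  exact Classical.choose_spec (M.ok_surj c h)

theorem Model.foldl_enc (w : List ℕ) (hw : ∀ s ∈ w, K.ok s = true) (acc : G) :
    w.foldl K.cmul (M.enc acc) = M.enc (acc * (w.map M.dec).prod) := by
  induction w generalizing acc with
  | nil => simp
  | cons s w ih =>
    rw [List.foldl_cons, List.map_cons, List.prod_cons]
    have h1 : K.cmul (M.enc acc) s = M.enc (acc * M.dec s) := by
      rw [M.enc_mul, M.enc_dec (hw s List.mem_cons_self)]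
    rw [h1, ih (fun s' hs' => hw s' (List.mem_cons_of_mem _ hs')), mul_assoc]

variable (D : SubD) (hv : D.Valid K)

namespace SubD

/-- membership -/
def mem (g : G) : Prop := (D.tr.look (M.enc g)).isSome = true

/-- the exponent of an element -/
def ex (g : G) : ℕ := (D.tr.look (M.enc g)).getD 0

variable {M D}

theorem look_of_mem {g : G} (hg : D.mem M g) : D.tr.look (M.enc g) = some (D.ex M g) := by
  unfold mem at hg
  unfold ex
  rcases h : D.tr.look (M.enc g) with _ | v
  · rw [h] at hg; simp at hg
  · rfl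

theorem mem_of_look {g : G} {v : ℕ} (h : D.tr.look (M.enc g) = some v) :
    D.mem M g ∧ D.ex M g = v := by
  unfold mem ex
  rw [h]
  exact ⟨rfl, rfl⟩

include hv

theorem look_iff (c v : ℕ) : D.tr.look c = some v ↔ (c, v) ∈ D.proj := by
  constructor
  · intro h
    have h1 := Tr.mem_of_look h
    have h2 : D.tr.toList = D.proj := by simpa [v1] using hv.h1
    rwa [h2] at h1
  · intro h
    unfold proj at h
    rw [List.mem_map] at h
    obtain ⟨e, he, heq⟩ := h
    have h3 := hv.h3
    unfold v3 at h3
    rw [List.all_eq_true] at h3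
    have h4 := h3 e he
    rw [Bool.and_eq_true, beq_iff_eq] at h4
    have h5 : e.1 = c := (Prod.ext_iff.mp heq).1
    have h6 : e.2.1 = v := (Prod.ext_iff.mp heq).2
    rw [← h5, ← h6]
    exact h4.2

theorem exists_ent {c v : ℕ} (h : D.tr.look c = some v) :
    ∃ e ∈ D.ents, e.1 = c ∧ e.2.1 = v := by
  have h1 := (look_iff hv c v).mp h
  unfold proj at h1
  rw [List.mem_map] at h1
  obtain ⟨e, he, heq⟩ := h1
  exact ⟨e, he, (Prod.ext_iff.mp heq).1, (Prod.ext_iff.mp heq).2⟩

theorem ent_spec {e : ℕ × ℕ × List ℕ} (he : e ∈ D.ents) :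
    K.ok e.1 = true ∧ D.tr.look e.1 = some e.2.1 := by
  have h3 := hv.h3
  unfold v3 at h3
  rw [List.all_eq_true] at h3
  have h4 := h3 e he
  rw [Bool.and_eq_true, beq_iff_eq] at h4
  exact h4

theorem ok_of_look {c v : ℕ} (h : D.tr.look c = some v) : K.ok c = true := by
  obtain ⟨e, he, h1, _⟩ := exists_ent hv h
  rw [← h1]
  exact (ent_spec hv he).1

theorem gen_spec {s : ℕ × ℕ} (hs : s ∈ D.gens) : D.tr.look s.1 = some s.2 := by
  have h5 := hv.h5
  unfold v5 at h5
  rw [List.all_eq_true] at h5
  have := h5 s hs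
  rwa [beq_iff_eq] at this

theorem one_spec : D.tr.look K.one = some 0 := by
  have := hv.h4
  unfold v4 at this
  rwa [beq_iff_eq] at this

theorem mem_one : D.mem M 1 ∧ D.ex M (1 : G) = 0 := by
  apply mem_of_look
  rw [M.enc_one]
  exact one_spec hv

/-- multiplying by a generator -/
theorem step {a : G} (ha : D.mem M a) {s : ℕ × ℕ} (hs : s ∈ D.gens) :
    D.tr.look (M.enc (a * M.dec s.1)) = some ((D.ex M a + s.2) % 24) := by
  obtain ⟨e, he, h1, h2⟩ := exists_ent hv (look_of_mem ha)
  have h6 := hv.h6
  unfold v6 at h6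
  rw [List.all_eq_true] at h6
  have h7 := h6 e he
  rw [List.all_eq_true] at h7
  have h8 := h7 s hs
  rw [beq_iff_eq, h1, h2] at h8
  rw [M.enc_mul, M.enc_dec (ok_of_look hv (gen_spec hv hs))]
  exact h8

/-- the exponent of a generator code -/
def gexp (D : SubD) (s : ℕ) : ℕ := (D.tr.look s).getD 0

/-- multiplying by a word in the generators -/
theorem mul_word (w : List ℕ) (hw : ∀ s ∈ w, ∃ g ∈ D.gens, g.1 = s) (a : G) (ha : D.mem M a) :
    D.mem M (a * (w.map M.dec).prod) ∧
      D.ex M (a * (w.map M.dec).prod) ≡ D.ex M a + (w.map D.gexp).sum [MOD 24] := by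
  induction w generalizing a with
  | nil =>
    simp only [List.map_nil, List.prod_nil, mul_one, List.sum_nil, add_zero]
    exact ⟨ha, Nat.ModEq.refl _⟩
  | cons s w ih =>
    obtain ⟨g, hg, hgs⟩ := hw s List.mem_cons_self
    have h1 := step hv ha hg
    rw [hgs] at h1
    obtain ⟨h2, h3⟩ := mem_of_look h1
    have h4 := ih (fun s' hs' => hw s' (List.mem_cons_of_mem _ hs')) (a * M.dec s) h2
    rw [List.map_cons, List.prod_cons, ← mul_assoc, List.map_cons, List.sum_cons]
    refine ⟨h4.1, h4.2.trans ?_⟩
    rw [h3]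
    have h5 : D.gexp s = g.2 := by
      unfold gexp
      rw [← hgs, gen_spec hv hg]
      rfl
    rw [h5, ← add_assoc]
    exact Nat.ModEq.add_right _ (Nat.mod_modEq _ _)

/-- every element is a word in the generators -/
theorem exists_word {b : G} (hb : D.mem M b) :
    ∃ w : List ℕ, (∀ s ∈ w, ∃ g ∈ D.gens, g.1 = s) ∧ b = (w.map M.dec).prod := by
  obtain ⟨e, he, h1, _⟩ := exists_ent hv (look_of_mem hb)
  have h7 := hv.h7
  unfold v7 at h7
  rw [List.all_eq_true] at h7
  have h8 := h7 e he
  rw [Bool.and_eq_true, beq_iff_eq, List.all_eq_true] at h8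
  have hw : ∀ s ∈ e.2.2, ∃ g ∈ D.gens, g.1 = s := by
    intro s hs
    have h9 := h8.1 s hs
    rw [List.any_eq_true] at h9
    obtain ⟨g, hg, hgs⟩ := h9
    exact ⟨g, hg, by simpa using hgs⟩
  refine ⟨e.2.2, hw, ?_⟩
  apply M.enc_inj
  have hok : ∀ s ∈ e.2.2, K.ok s = true := by
    intro s hs
    obtain ⟨g, hg, hgs⟩ := hw s hs
    rw [← hgs]
    exact ok_of_look hv (gen_spec hv hg)
  have h10 := M.foldl_enc e.2.2 hok 1
  rw [M.enc_one, one_mul, h8.2] at h10
  rw [← h10, h1]

theorem mul_mem {a b : G} (ha : D.mem M a) (hb : D.mem M b) :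
    D.mem M (a * b) ∧ D.ex M (a * b) ≡ D.ex M a + D.ex M b [MOD 24] := by
  obtain ⟨w, hw, rfl⟩ := exists_word hv hb
  obtain ⟨h1, h2⟩ := mul_word hv w hw a ha
  have h0 := mem_one (M := M) hv
  obtain ⟨_, h4⟩ := mul_word hv w hw (1 : G) h0.1
  rw [one_mul, h0.2, zero_add] at h4
  exact ⟨h1, h2.trans (Nat.ModEq.add_left _ h4.symm)⟩

theorem pow_mem {a : G} (ha : D.mem M a) (n : ℕ) : D.mem M (a ^ n) := by
  induction n with
  | zero =>
    rw [pow_zero]
    have h0 := mem_one (M := M) hv
    exact h0.1
  | succ n ih => rw [pow_succ]; exact (mul_mem hv ih ha).1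

end SubD

/-- the subgroup given by valid data -/
def SubD.sub [Finite G] : Subgroup G where
  carrier := {g | D.mem M g}
  mul_mem' := fun ha hb => (SubD.mul_mem hv ha hb).1
  one_mem' := (SubD.mem_one hv).1
  inv_mem' := by
    intro g hg
    have hpos : 0 < orderOf g := orderOf_pos g
    have h1 : g * g ^ (orderOf g - 1) = 1 := by
      rw [← pow_succ', Nat.sub_add_cancel hpos, pow_orderOf_eq_one]
    rw [Set.mem_ofPred_eq, inv_eq_of_mul_eq_one_right h1]
    exact SubD.pow_mem hv hg _

variable [Finite G]

theorem SubD.mem_sub (g : G) : g ∈ D.sub M hv ↔ D.mem M g := Iff.rfl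

/-- the powers of the linear character given by valid data, as homomorphisms to the units -/
noncomputable def SubD.chr (k : ℕ) : ↥(D.sub M hv) →* ℂˣ where
  toFun h := zetaU ^ (k * D.ex M (h : G))
  map_one' := by
    rw [Subgroup.coe_one, (SubD.mem_one hv).2, mul_zero, pow_zero]
  map_mul' := by
    intro a b
    have h1 := (SubD.mul_mem hv a.2 b.2).2
    rw [Subgroup.coe_mul, mul_comm k, mul_comm k, mul_comm k, pow_mul, pow_mul, pow_mul,
      ← mul_pow, ← pow_add, ← zetaU_pow_mod, h1, zetaU_pow_mod]

/-- the powers of the linear character given by valid data -/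
noncomputable def SubD.phi (k : ℕ) : ↥(D.sub M hv) → ℂ :=
  fun h => ((D.chr M hv k h : ℂˣ) : ℂ)

theorem SubD.phi_apply (k : ℕ) (h : ↥(D.sub M hv)) :
    D.phi M hv k h = zeta ^ (k * D.ex M (h : G)) := by
  unfold SubD.phi SubD.chr
  simp only [MonoidHom.coe_mk, OneHom.coe_mk, Units.val_pow_eq_pow_val, zetaU_val]

theorem SubD.phi_one (k : ℕ) : D.phi M hv k 1 = 1 := by
  unfold SubD.phi
  rw [map_one, Units.val_one]

include hv in
theorem SubD.nodup_keys : D.keys.Nodup := nodup_of_sortedLt _ hv.h2

/-- summation over the subgroup given by valid data -/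
theorem SubD.sum_sub {B : Type*} [AddCommMonoid B] [Fintype ↥(D.sub M hv)] (F : ℕ → ℕ → B) :
    ∑ h : ↥(D.sub M hv), F (M.enc (h : G)) (D.ex M (h : G))
      = (D.ents.map (fun e => F e.1 e.2.1)).sum := by
  classical
  have h1 : ∑ h : ↥(D.sub M hv), F (M.enc (h : G)) (D.ex M (h : G))
      = ∑ c ∈ D.keys.toFinset, F c (D.gexp c) := by
    refine Finset.sum_nbij (s := Finset.univ) (t := D.keys.toFinset)
      (f := fun h : ↥(D.sub M hv) => F (M.enc (h : G)) (D.ex M (h : G)))
      (g := fun c => F c (D.gexp c)) (fun h : ↥(D.sub M hv) => M.enc (h : G)) ?_ ?_ ?_ ?_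
    · intro h _
      obtain ⟨e, he, h2, _⟩ := SubD.exists_ent hv (SubD.look_of_mem h.2)
      rw [List.mem_toFinset, ← h2]
      exact List.mem_map.mpr ⟨e, he, rfl⟩
    · intro a _ b _ hab
      exact Subtype.ext (M.enc_inj hab)
    · intro c hc
      have hc' : c ∈ D.keys := List.mem_toFinset.mp hc
      obtain ⟨e, he, rfl⟩ := List.mem_map.mp hc'
      obtain ⟨hok, hl⟩ := SubD.ent_spec hv he
      have h3 : D.tr.look (M.enc (M.dec e.1)) = some e.2.1 := by rw [M.enc_dec hok]; exact hl
      exact ⟨⟨M.dec e.1, (SubD.mem_of_look h3).1⟩, Finset.mem_coe.mpr (Finset.mem_univ _),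
        M.enc_dec hok⟩
    · intro h _
      rfl
  rw [h1, List.sum_toFinset _ (SubD.nodup_keys D hv)]
  unfold SubD.keys
  rw [List.map_map]
  congr 1
  apply List.map_congr_left
  intro e he
  show F e.1 (D.gexp e.1) = F e.1 e.2.1
  unfold SubD.gexp
  rw [(SubD.ent_spec hv he).2]
  rfl

theorem SubD.card_sub : Nat.card ↥(D.sub M hv) = D.ents.length := by
  classical
  let _ : Fintype ↥(D.sub M hv) := Fintype.ofFinite _
  have h1 := SubD.sum_sub M D hv (fun _ _ => (1 : ℕ))
  rw [Finset.sum_const, Finset.card_univ, smul_eq_mul, mul_one, List.map_const',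
    List.sum_replicate, smul_eq_mul, mul_one] at h1
  rw [Nat.card_eq_fintype_card, h1]

end model

end Cfsg.Agent.Lib.Helper6.ICModel
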