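/-
Helper6 library (induced-character certificates): the inner product of two characters induced
from linear characters of subgroups given by valid data is computed from double coset
representatives by a kernel-checkable criterion.
-/
import Mathlib
import Cfsg.Prelude.Def_Characters
import Cfsg.Agent.Lib.Helper6.ICHist
import Cfsg.Agent.Lib.Helper6.ICModel
import Cfsg.Agent.Lib.Helper6.ICDC
import Cfsg.Agent.Lib.Helper6.LinChar
import Cfsg.Agent.Lib.Helper10.IndFun
import Cfsg.Agent.Lib.Helper10.TIInd
import Cfsg.Agent.Lib.Lead.CharInd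

set_option autoImplicit false

namespace Cfsg.Agent.Lib.Helper6.ICGram

open Cfsg Cfsg.Agent.Lib.Helper6.ICCyc Cfsg.Agent.Lib.Helper6.ICModel Cfsg.Agent.Lib.Helper6.ICDC
open scoped ComplexConjugate

/-- double coset representative data: the codes of `t` and `t⁻¹`, and the number of `c ∈ C`
with `t⁻¹ c t ∈ A` -/
abbrev RepD := ℕ × ℕ × ℕ

/-- the code of `t⁻¹ c t` -/
def conjc (K : CM) (r : RepD) (c : ℕ) : ℕ := K.cmul r.2.1 (K.cmul c r.1)

/-- the exponents of `t⁻¹ c t` in `A` and of `c` in `C` -/
def hit (K : CM) (DA : SubD) (r : RepD) (e : ℕ × ℕ × List ℕ) : Option (ℕ × ℕ) :=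
  (DA.tr.look (conjc K r e.1)).map (fun ea => (ea, e.2.1))

/-- number of `some` -/
def countSome : List (Option (ℕ × ℕ)) → ℕ
  | [] => 0
  | none :: l => countSome l
  | some _ :: l => countSome l + 1

/-- a representative is valid -/
def repOK (K : CM) (DA DC : SubD) (r : RepD) : Bool :=
  K.ok r.1 && K.ok r.2.1 && (K.cmul r.2.1 r.1 == K.one) &&
    (countSome (DC.ents.map (hit K DA r)) == r.2.2)

/-- the representatives lie in different double cosets -/
def sepOK (K : CM) (DA DC : SubD) : List RepD → Bool
  | [] => true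
  | r :: l => l.all (fun r' => DC.ents.all (fun e =>
      (DA.tr.look (K.cmul r'.2.1 (K.cmul e.1 r.1))).isNone)) && sepOK K DA DC l

/-- the double cosets exhaust the group -/
def totalOK (DA DC : SubD) (reps : List RepD) (n : ℕ) : Bool :=
  (reps.map (fun r => DC.ents.length * DA.ents.length / r.2.2)).sum == n

/-- validity of a list of double coset representatives -/
structure PairValid (K : CM) (DA DC : SubD) (reps : List RepD) (n : ℕ) : Prop where
  h1 : reps.all (repOK K DA DC) = true
  h2 : sepOK K DA DC reps = true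
  h3 : totalOK DA DC reps n = true

/-- the exponent of `φ^k (t⁻¹ c t) * conj (ψ^k' c)` -/
def expo (k k' : ℕ) (o : Option (ℕ × ℕ)) : Option ℕ :=
  o.map (fun p => (k * p.1 + (24 - (k' * p.2) % 24)) % 24)

/-- value of an optional exponent -/
def oval {B : Type*} [AddCommMonoid B] (w : ℕ → B) : Option ℕ → B
  | none => 0
  | some x => w x

/-- the packed histogram of a Gram entry -/
def gramPacked (K : CM) (DA DC : SubD) (reps : List RepD) (k k' : ℕ) : ℕ :=
  (reps.map (fun r => (DC.ents.length * DA.ents.length / r.2.2) *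
    (DC.ents.map (fun e => oval (fun x => HB ^ x) (expo k k' (hit K DA r e)))).sum)).sum

/-- the criterion for a Gram entry -/
def gramOK (K : CM) (DA DC : SubD) (reps : List RepD) (k k' N : ℕ) : Bool :=
  cycOK (gramPacked K DA DC reps k k') (N * (DC.ents.length * DA.ents.length)) &&
    decide ((reps.map (fun r =>
      (DC.ents.length * DA.ents.length / r.2.2) * DC.ents.length)).sum < HB)

section lists

variable {B : Type*} [AddCommMonoid B] {α β : Type*}

theorem wval_mk (w : ℕ → B) (m : ℕ) (o : Option ℕ) : wval w (m, o) = m • oval w o := by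
  unfold wval oval
  rcases o with _ | x
  · simp
  · rfl

theorem sum_inner (w : ℕ → B) (ents : List β) (m : ℕ) (f : β → Option ℕ) :
    ((ents.map (fun e => (m, f e))).map (wval w)).sum
      = m • (ents.map (fun e => oval w (f e))).sum := by
  induction ents with
  | nil => simp
  | cons e ents ih =>
    rw [List.map_cons, List.map_cons, List.sum_cons, List.map_cons, List.sum_cons, smul_add, ← ih,
      wval_mk]

theorem sum_flat (w : ℕ → B) (reps : List α) (ents : List β) (m : α → ℕ)
    (f : α → β → Option ℕ) :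
    ((reps.flatMap (fun r => ents.map (fun e => (m r, f r e)))).map (wval w)).sum
      = (reps.map (fun r => m r • (ents.map (fun e => oval w (f r e))).sum)).sum := by
  induction reps with
  | nil => simp
  | cons r reps ih =>
    rw [List.flatMap_cons, List.map_append, List.sum_append, ih, List.map_cons, List.sum_cons,
      sum_inner]

theorem wtotal_cons (p : ℕ × Option ℕ) (L : List (ℕ × Option ℕ)) :
    wtotal (p :: L) = (if p.2 = none then 0 else p.1) + wtotal L := rfl

theorem wtotal_append (l1 l2 : List (ℕ × Option ℕ)) :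
    wtotal (l1 ++ l2) = wtotal l1 + wtotal l2 := by
  induction l1 with
  | nil => simp [wtotal]
  | cons p l1 ih => rw [List.cons_append, wtotal_cons, wtotal_cons, ih, add_assoc]

theorem wtotal_inner (ents : List β) (m : ℕ) (f : β → Option ℕ) :
    wtotal (ents.map (fun e => (m, f e))) ≤ m * ents.length := by
  induction ents with
  | nil => simp [wtotal]
  | cons e ents ih =>
    rw [List.map_cons, List.length_cons, wtotal_cons]
    have : (if (m, f e).2 = none then 0 else (m, f e).1) ≤ m := by
      split_ifs
      · exact Nat.zero_le _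
      · exact le_rfl
    calc _ ≤ m + m * ents.length := Nat.add_le_add this ih
      _ = m * (ents.length + 1) := by ring

theorem wtotal_flat (reps : List α) (ents : List β) (m : α → ℕ) (f : α → β → Option ℕ) :
    wtotal (reps.flatMap (fun r => ents.map (fun e => (m r, f r e))))
      ≤ (reps.map (fun r => m r * ents.length)).sum := by
  induction reps with
  | nil => simp [wtotal]
  | cons r reps ih =>
    rw [List.flatMap_cons, wtotal_append, List.map_cons, List.sum_cons]
    exact Nat.add_le_add (wtotal_inner ents (m r) (f r)) ih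

end lists

section main

variable {G : Type*} [Group G] [Fintype G] {K : CM} (M : Model G K)
variable (DA DC : SubD) (hA : DA.Valid K) (hC : DC.Valid K)

theorem isClassFunction_hom {H : Type*} [Group H] (f : H →* ℂˣ) :
    IsClassFunction H (fun g => ((f g : ℂˣ) : ℂ)) := by
  intro g h
  show ((f (h * g * h⁻¹) : ℂˣ) : ℂ) = ((f g : ℂˣ) : ℂ)
  rw [map_mul, map_mul, map_inv, mul_comm (f h), mul_assoc, mul_inv_cancel, mul_one]

theorem isClassFunction_phi (k : ℕ) : IsClassFunction ↥(DA.sub M hA) (DA.phi M hA k) :=
  isClassFunction_hom (DA.chr M hA k)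

theorem isCharacter_phi (k : ℕ) : IsCharacter ↥(DA.sub M hA) (DA.phi M hA k) :=
  Cfsg.Agent.Lib.Helper6.isCharacter_of_hom (DA.chr M hA k)

/-- the character induced from the `k`-th power of the linear character -/
noncomputable def ind (k : ℕ) : G → ℂ := indFun (DA.sub M hA) (DA.phi M hA k)

theorem isCharacter_ind (k : ℕ) : IsCharacter G (ind M DA hA k) :=
  Cfsg.Agent.CharLib.IsCharacter.indFun _ (isCharacter_phi M DA hA k)

theorem ind_one (k : ℕ) :
    ind M DA hA k 1 = (DA.ents.length : ℂ)⁻¹ * (Nat.card G : ℂ) := by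
  unfold ind
  rw [Cfsg.Agent.Lib.Helper10.indFun_apply_one, SubD.phi_one, mul_one, SubD.card_sub]

variable {M DA DC}

omit [Fintype G] in
/-- the group elements of a valid representative -/
theorem rep_spec {r : RepD} (hr : repOK K DA DC r = true) :
    M.enc (M.dec r.1) = r.1 ∧ M.enc (M.dec r.1)⁻¹ = r.2.1 ∧
      countSome (DC.ents.map (hit K DA r)) = r.2.2 := by
  unfold repOK at hr
  simp only [Bool.and_eq_true, beq_iff_eq] at hr
  obtain ⟨⟨⟨h1, h2⟩, h3⟩, h4⟩ := hr
  refine ⟨M.enc_dec h1, ?_, h4⟩
  have h5 : M.dec r.2.1 * M.dec r.1 = 1 := by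
    apply M.enc_inj
    rw [M.enc_mul, M.enc_dec h1, M.enc_dec h2, h3, M.enc_one]
  rw [← eq_inv_of_mul_eq_one_left h5]
  exact M.enc_dec h2

omit [Fintype G] in
theorem enc_conj {r : RepD} (hr : repOK K DA DC r = true) (c : G) :
    M.enc ((M.dec r.1)⁻¹ * c * M.dec r.1) = conjc K r (M.enc c) := by
  obtain ⟨h1, h2, _⟩ := rep_spec (M := M) hr
  unfold conjc
  rw [mul_assoc, M.enc_mul, M.enc_mul, h1, h2]

include hA hC in
/-- the number of fixed points of a valid representative -/
theorem nfix_rep {r : RepD} (hr : repOK K DA DC r = true) :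
    nfix (DA.sub M hA) (DC.sub M hC) (M.dec r.1) = r.2.2 := by
  classical
  letI : Fintype ↥(DC.sub M hC) := Fintype.ofFinite _
  unfold nfix
  rw [Nat.card_eq_fintype_card, Fintype.card_subtype, Finset.card_filter]
  have h1 : ∀ c : ↥(DC.sub M hC),
      (if (M.dec r.1)⁻¹ * (c : G) * M.dec r.1 ∈ DA.sub M hA then 1 else 0)
        = (fun y (_ : ℕ) => if (DA.tr.look (conjc K r y)).isSome = true then 1 else 0)
            (M.enc (c : G)) (DC.ex M (c : G)) := by
    intro c
    simp only
    rw [← enc_conj (M := M) hr]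
    exact if_congr Iff.rfl rfl rfl
  rw [Finset.sum_congr rfl (fun c _ => h1 c)]
  have h2 := SubD.sum_sub M DC hC
    (fun y (_ : ℕ) => if (DA.tr.look (conjc K r y)).isSome = true then 1 else 0)
  rw [h2, ← (rep_spec (M := M) hr).2.2]
  generalize DC.ents = l
  induction l with
  | nil => rfl
  | cons e l ih =>
    rw [List.map_cons, List.sum_cons, ih, List.map_cons]
    unfold hit
    rcases DA.tr.look (conjc K r e.1) with _ | v
    · simp [countSome]
    · simp [countSome, add_comm]

include hA hC in
/-- the inner sum of Mackey's formula for a valid representative -/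
theorem inner_sum {r : RepD} (hr : repOK K DA DC r = true) (k k' : ℕ)
    [Fintype ↥(DC.sub M hC)] :
    ∑ c : ↥(DC.sub M hC), extendByZero (DA.sub M hA) (DA.phi M hA k)
        ((M.dec r.1)⁻¹ * (c : G) * M.dec r.1) * conj (DC.phi M hC k' c)
      = (DC.ents.map (fun e => oval (fun x => zeta ^ x) (expo k k' (hit K DA r e)))).sum := by
  have h1 : ∀ c : ↥(DC.sub M hC), extendByZero (DA.sub M hA) (DA.phi M hA k)
        ((M.dec r.1)⁻¹ * (c : G) * M.dec r.1) * conj (DC.phi M hC k' c)
      = (fun y ec => oval (fun x => zeta ^ x) (expo k k'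
          ((DA.tr.look (conjc K r y)).map (fun ea => (ea, ec)))))
            (M.enc (c : G)) (DC.ex M (c : G)) := by
    intro c
    simp only
    rw [← enc_conj (M := M) hr, SubD.phi_apply]
    rcases hl : DA.tr.look (M.enc ((M.dec r.1)⁻¹ * (c : G) * M.dec r.1)) with _ | ea
    · have hn : (M.dec r.1)⁻¹ * (c : G) * M.dec r.1 ∉ DA.sub M hA := by
        intro hm
        have := SubD.look_of_mem ((SubD.mem_sub M DA hA _).mp hm)
        rw [hl] at this
        cases this
      rw [Cfsg.Agent.Lib.Helper10.extendByZero_apply_not_mem _ _ hn, zero_mul]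
      rfl
    · obtain ⟨hm, hex⟩ := SubD.mem_of_look hl
      have hm' : (M.dec r.1)⁻¹ * (c : G) * M.dec r.1 ∈ DA.sub M hA := hm
      rw [Cfsg.Agent.Lib.Helper10.extendByZero_apply_mem _ _ hm', SubD.phi_apply]
      show zeta ^ (k * DA.ex M ((M.dec r.1)⁻¹ * (c : G) * M.dec r.1)) * _ = _
      rw [hex, zeta_pow_mul_conj]
      rfl
  rw [Finset.sum_congr rfl (fun c _ => h1 c)]
  have h2 := SubD.sum_sub M DC hC (fun y ec => oval (fun x => zeta ^ x) (expo k k'
          ((DA.tr.look (conjc K r y)).map (fun ea => (ea, ec)))))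
  rw [h2]
  rfl

include hA hC in
/-- representatives passing the separation test lie in different double cosets -/
theorem sep_of_sepOK : ∀ (reps : List RepD), reps.all (repOK K DA DC) = true →
    sepOK K DA DC reps = true →
    (reps.map (fun r => M.dec r.1)).Pairwise (Sep (DA.sub M hA) (DC.sub M hC))
  | [], _, _ => List.Pairwise.nil
  | r :: l, h1, h2 => by
    rw [List.all_cons, Bool.and_eq_true] at h1
    unfold sepOK at h2
    rw [Bool.and_eq_true, List.all_eq_true] at h2
    rw [List.map_cons, List.pairwise_cons]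
    refine ⟨?_, sep_of_sepOK l h1.2 h2.2⟩
    intro t' ht'
    rw [List.mem_map] at ht'
    obtain ⟨r', hr', rfl⟩ := ht'
    have hr'ok : repOK K DA DC r' = true := (List.all_eq_true.mp h1.2) r' hr'
    have h3 := h2.1 r' hr'
    rw [List.all_eq_true] at h3
    intro c hc hm
    obtain ⟨e, he, h4, _⟩ := SubD.exists_ent hC (SubD.look_of_mem ((SubD.mem_sub M DC hC c).mp hc))
    have h5 := h3 e he
    have h6 : M.enc ((M.dec r'.1)⁻¹ * c * M.dec r.1)
        = K.cmul r'.2.1 (K.cmul e.1 r.1) := by
      rw [mul_assoc, M.enc_mul, M.enc_mul, (rep_spec (M := M) hr'ok).2.1,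
        (rep_spec (M := M) h1.1).1, h4]
    have h7 := SubD.look_of_mem ((SubD.mem_sub M DA hA _).mp hm)
    rw [h6] at h7
    rw [h7] at h5
    simp at h5

/-- the inner product of two induced characters from a checked criterion -/
theorem classInner_ind (reps : List RepD) (hp : PairValid K DA DC reps (Nat.card G))
    (k k' N : ℕ) (hg : gramOK K DA DC reps k k' N = true) :
    classInner (ind M DA hA k) (ind M DC hC k') = (N : ℂ) := by
  classical
  letI : Fintype ↥(DC.sub M hC) := Fintype.ofFinite _
  set A := DA.sub M hA with hAdef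
  set C := DC.sub M hC with hCdef
  have hcA : Nat.card A = DA.ents.length := SubD.card_sub M DA hA
  have hcC : Nat.card C = DC.ents.length := SubD.card_sub M DC hC
  have hrep : ∀ r ∈ reps, repOK K DA DC r = true := List.all_eq_true.mp hp.h1
  have hpw := sep_of_sepOK (M := M) hA hC reps hp.h1 hp.h2
  haveI : Std.Symm (Sep A C) := ⟨fun _ _ h => sep_symm A C h⟩
  have hnd : (reps.map (fun r => M.dec r.1)).Nodup := by
    apply hpw.imp
    intro a b h hab
    subst hab
    apply h 1 C.one_mem
    rw [mul_one, inv_mul_cancel]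
    exact A.one_mem
  set R : Finset G := (reps.map (fun r => M.dec r.1)).toFinset with hR
  have hsep : ∀ t ∈ R, ∀ t' ∈ R, t ≠ t' → Sep A C t t' := by
    intro t ht t' ht' hne
    exact hpw.forall (List.mem_toFinset.mp ht) (List.mem_toFinset.mp ht') hne
  have hsumR : ∀ f : G → ℂ, ∑ t ∈ R, f t = (reps.map (fun r => f (M.dec r.1))).sum := by
    intro f
    rw [hR, List.sum_toFinset _ hnd, List.map_map]
    rfl
  have hsumRN : ∀ f : G → ℕ, ∑ t ∈ R, f t = (reps.map (fun r => f (M.dec r.1))).sum := by
    intro f
    rw [hR, List.sum_toFinset _ hnd, List.map_map]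
    rfl
  have hcount : ∑ t ∈ R, Nat.card C * Nat.card A / nfix A C t = Nat.card G := by
    rw [hsumRN]
    have h3 := hp.h3
    unfold totalOK at h3
    rw [beq_iff_eq] at h3
    rw [← h3]
    congr 1
    apply List.map_congr_left
    intro r hr
    rw [nfix_rep (M := M) hA hC (hrep r hr), hcA, hcC]
  unfold ind
  rw [classInner_indFun_indFun A C (DA.phi M hA k) (DC.phi M hC k')
    (isClassFunction_phi M DA hA k) (isClassFunction_phi M DC hC k') R hsep hcount, hsumR]
  have h4 : (reps.map (fun r => ((Nat.card C * Nat.card A / nfix A C (M.dec r.1) : ℕ) : ℂ) *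
      ∑ c : C, extendByZero A (DA.phi M hA k) ((M.dec r.1)⁻¹ * (c : G) * M.dec r.1) *
        conj (DC.phi M hC k' c)))
      = (reps.map (fun r => (DC.ents.length * DA.ents.length / r.2.2) •
          (DC.ents.map (fun e => oval (fun x => zeta ^ x) (expo k k' (hit K DA r e)))).sum)) := by
    apply List.map_congr_left
    intro r hr
    rw [nfix_rep (M := M) hA hC (hrep r hr), inner_sum (M := M) hA hC (hrep r hr), hcA, hcC,
      nsmul_eq_mul]
  rw [h4, ← sum_flat (fun x => zeta ^ x) reps DC.ents
    (fun r => DC.ents.length * DA.ents.length / r.2.2) (fun r e => expo k k' (hit K DA r e))]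
  unfold gramOK at hg
  rw [Bool.and_eq_true, decide_eq_true_eq] at hg
  have h5 : packed (reps.flatMap (fun r => DC.ents.map (fun e =>
      (DC.ents.length * DA.ents.length / r.2.2, expo k k' (hit K DA r e)))))
      = gramPacked K DA DC reps k k' := by
    unfold packed gramPacked
    rw [sum_flat]
    rfl
  rw [sum_zeta_of_cycOK _ (N * (DC.ents.length * DA.ents.length)) ?_ ?_ (by rw [h5]; exact hg.1)]
  · have hpos : ((DC.ents.length * DA.ents.length : ℕ) : ℂ) ≠ 0 := by
      rw [← hcA, ← hcC]
      exact Nat.cast_ne_zero.mpr (Nat.mul_pos Nat.card_pos Nat.card_pos).ne'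
    rw [hcA, hcC]
    push_cast at hpos ⊢
    rw [mul_comm (N : ℂ), ← mul_assoc, inv_mul_cancel₀ hpos, one_mul]
  · intro p hp' x hx
    rw [List.mem_flatMap] at hp'
    obtain ⟨r, _, hp'⟩ := hp'
    rw [List.mem_map] at hp'
    obtain ⟨e, _, rfl⟩ := hp'
    simp only at hx
    unfold expo at hx
    rcases hq : hit K DA r e with _ | q
    · rw [hq] at hx
      simp at hx
    · rw [hq] at hx
      simp only [Option.map_some, Option.some.injEq] at hx
      rw [← hx]
      exact Nat.mod_lt _ (by norm_num)
  · exact lt_of_le_of_lt (wtotal_flat _ _ _ _) hg.2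

end main

end Cfsg.Agent.Lib.Helper6.ICGram
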