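/-
Helper6 library (induced-character certificates): combined kernel-checkable criteria for the
inner products of induced linear characters, and the inner product with the trivial character.
-/
import Mathlib
import Cfsg.Agent.Lib.Helper6.ICGram

set_option autoImplicit false

namespace Cfsg.Agent.Lib.Helper6.ICGram

open Cfsg Cfsg.Agent.Lib.Helper6.ICCyc Cfsg.Agent.Lib.Helper6.ICModel Cfsg.Agent.Lib.Helper6.ICDC
open scoped ComplexConjugate

/-- validity of the representatives together with a list of Gram entries `(k, k', N)` -/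
def allOK (K : CM) (DA DC : SubD) (reps : List RepD) (n : ℕ) (l : List (ℕ × ℕ × ℕ)) : Bool :=
  reps.all (repOK K DA DC) && sepOK K DA DC reps && totalOK DA DC reps n &&
    l.all (fun g => gramOK K DA DC reps g.1 g.2.1 g.2.2)

section main

variable {G : Type*} [Group G] [Fintype G] {K : CM} (M : Model G K)
variable {DA DC : SubD} (hA : DA.Valid K) (hC : DC.Valid K)

theorem classInner_of_allOK {reps : List RepD} {n : ℕ} {l : List (ℕ × ℕ × ℕ)}
    (hn : Nat.card G = n) (h : allOK K DA DC reps n l = true) {k k' N : ℕ}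
    (hm : (k, k', N) ∈ l) :
    classInner (ind M DA hA k) (ind M DC hC k') = (N : ℂ) := by
  unfold allOK at h
  simp only [Bool.and_eq_true] at h
  obtain ⟨⟨⟨h1, h2⟩, h3⟩, h4⟩ := h
  subst hn
  exact classInner_ind hA hC reps ⟨h1, h2, h3⟩ k k' N ((List.all_eq_true.mp h4) (k, k', N) hm)

/-- the trivial character -/
def triv (G : Type*) : G → ℂ := fun _ => 1

theorem isCharacter_triv : IsCharacter G (triv G) :=
  Cfsg.Agent.Lib.Helper6.isCharacter_of_hom (1 : G →* ℂˣ)

theorem classInner_triv_triv : classInner (triv G) (triv G) = 1 := by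
  unfold classInner triv
  simp only [map_one, mul_one, Finset.sum_const, Finset.card_univ, nsmul_eq_mul]
  rw [Nat.card_eq_fintype_card]
  have : (Fintype.card G : ℂ) ≠ 0 := Nat.cast_ne_zero.mpr Fintype.card_pos.ne'
  field_simp

/-- the packed histogram of the inner product with the trivial character -/
def trivPacked (DC : SubD) (k' : ℕ) : ℕ :=
  (DC.ents.map (fun e => HB ^ ((0 + (24 - (k' * e.2.1) % 24)) % 24))).sum

/-- the criterion for the inner product with the trivial character -/
def trivOK (DC : SubD) (k' N : ℕ) : Bool :=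
  cycOK (trivPacked DC k') (N * DC.ents.length) && decide (DC.ents.length < HB)

theorem classInner_triv_ind {k' N : ℕ} (h : trivOK DC k' N = true) :
    classInner (triv G) (ind M DC hC k') = (N : ℂ) := by
  classical
  letI : Fintype ↥(DC.sub M hC) := Fintype.ofFinite _
  unfold trivOK at h
  rw [Bool.and_eq_true, decide_eq_true_eq] at h
  unfold ind
  rw [Cfsg.Agent.Lib.Helper10.classInner_indFun_right (DC.sub M hC) (DC.phi M hC k') (triv G)
    (fun _ _ => rfl)]
  have h1 : ∀ c : ↥(DC.sub M hC), triv G (c : G) * conj (DC.phi M hC k' c)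
      = (fun (_ : ℕ) ec => zeta ^ ((0 + (24 - (k' * ec) % 24)) % 24))
          (M.enc (c : G)) (DC.ex M (c : G)) := by
    intro c
    simp only
    rw [← zeta_pow_mul_conj, pow_zero, SubD.phi_apply]
    rfl
  rw [Finset.sum_congr rfl (fun c _ => h1 c)]
  have h2 := SubD.sum_sub M DC hC (fun (_ : ℕ) ec => zeta ^ ((0 + (24 - (k' * ec) % 24)) % 24))
  rw [h2, SubD.card_sub]
  set L : List (ℕ × Option ℕ) :=
    DC.ents.map (fun e => (1, some ((0 + (24 - (k' * e.2.1) % 24)) % 24))) with hL
  have h3 : (DC.ents.map (fun e => zeta ^ ((0 + (24 - (k' * e.2.1) % 24)) % 24))).sum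
      = (L.map (wval (fun x => zeta ^ x))).sum := by
    rw [hL, List.map_map]
    congr 1
    apply List.map_congr_left
    intro e _
    simp [wval]
  have h4 : packed L = trivPacked DC k' := by
    unfold packed trivPacked
    rw [hL, List.map_map]
    congr 1
    apply List.map_congr_left
    intro e _
    simp [wval]
  have h5 : wtotal L ≤ 1 * DC.ents.length := by
    rw [hL]
    exact wtotal_inner DC.ents 1 (fun e => some ((0 + (24 - (k' * e.2.1) % 24)) % 24))
  rw [h3, sum_zeta_of_cycOK L (N * DC.ents.length) ?_ (by omega) (by rw [h4]; exact h.1)]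
  · have hpos : (DC.ents.length : ℂ) ≠ 0 := by
      rw [← SubD.card_sub M DC hC]
      exact Nat.cast_ne_zero.mpr Nat.card_pos.ne'
    push_cast
    rw [mul_comm (N : ℂ), ← mul_assoc, inv_mul_cancel₀ hpos, one_mul]
  · intro p hp x hx
    rw [hL, List.mem_map] at hp
    obtain ⟨e, _, rfl⟩ := hp
    simp only [Option.some.injEq] at hx
    rw [← hx]
    exact Nat.mod_lt _ (by norm_num)

/-- symmetry for natural-number valued inner products -/
theorem classInner_symm_nat {φ ψ : G → ℂ} {N : ℕ} (h : classInner φ ψ = (N : ℂ)) :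
    classInner ψ φ = (N : ℂ) := by
  rw [Cfsg.Agent.Lib.Helper10.classInner_conj_symm, h, Complex.conj_natCast]

end main

end Cfsg.Agent.Lib.Helper6.ICGram
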