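/-
Helper6 library: a concrete model `F9` of the field with nine elements (`a + b i` with `i² = -1`,
`a, b ∈ ZMod 3`, stored as the number `a + 3 b`), with decidable equality and kernel-friendly
arithmetic given by explicit formulas on natural numbers.
-/
import Mathlib

set_option autoImplicit false
set_option maxRecDepth 100000

namespace Cfsg.Agent.Lib.Helper6.ICF9

/-- the field with nine elements. -/
structure F9 where
  /-- `a + 3 b` for `a + b i`. -/
  v : Fin 9
  deriving DecidableEq, Fintype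

/-- addition on codes. -/
def f9add (x y : ℕ) : ℕ := (x % 3 + y % 3) % 3 + 3 * ((x / 3 + y / 3) % 3)

/-- multiplication on codes. -/
def f9mul (x y : ℕ) : ℕ :=
  (x % 3 * (y % 3) + 2 * (x / 3) * (y / 3)) % 3 + 3 * ((x % 3 * (y / 3) + x / 3 * (y % 3)) % 3)

/-- negation on codes. -/
def f9neg (x : ℕ) : ℕ := (3 - x % 3) % 3 + 3 * ((3 - x / 3) % 3)

/-- the Frobenius (cube) on codes: complex conjugation. -/
def f9conj (x : ℕ) : ℕ := x % 3 + 3 * ((3 - x / 3) % 3)

theorem f9add_lt (x y : ℕ) : f9add x y < 9 := by unfold f9add; omega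
theorem f9mul_lt (x y : ℕ) : f9mul x y < 9 := by unfold f9mul; omega
theorem f9neg_lt (x : ℕ) : f9neg x < 9 := by unfold f9neg; omega
theorem f9conj_lt (x : ℕ) : f9conj x < 9 := by unfold f9conj; omega

/-- from natural numbers. -/
def toF (n : ℕ) : F9 := ⟨Fin.ofNat 9 n⟩

theorem toF_v_val (n : ℕ) : (toF n).v.val = n % 9 := rfl

theorem toF_val (a : F9) : toF a.v.val = a := by
  cases a with
  | mk v =>
    show (⟨Fin.ofNat 9 v.val⟩ : F9) = ⟨v⟩
    congr 1
    apply Fin.ext
    show v.val % 9 = v.val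
    exact Nat.mod_eq_of_lt v.isLt

/-- addition. -/
def F9.add (a b : F9) : F9 := toF (f9add a.v.val b.v.val)

/-- multiplication. -/
def F9.mul (a b : F9) : F9 := toF (f9mul a.v.val b.v.val)

/-- negation. -/
def F9.neg (a : F9) : F9 := toF (f9neg a.v.val)

/-- inversion (the seventh power). -/
def F9.inv (a : F9) : F9 :=
  let a2 := F9.mul a a
  let a4 := F9.mul a2 a2
  F9.mul a4 (F9.mul a2 a)

instance : Zero F9 := ⟨toF 0⟩
instance : One F9 := ⟨toF 1⟩
instance : Add F9 := ⟨F9.add⟩
instance : Mul F9 := ⟨F9.mul⟩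
instance : Neg F9 := ⟨F9.neg⟩
instance : Inv F9 := ⟨F9.inv⟩

theorem add_assoc' : ∀ a b c : F9, a + b + c = a + (b + c) := by decide
theorem zero_add' : ∀ a : F9, 0 + a = a := by decide
theorem add_zero' : ∀ a : F9, a + 0 = a := by decide
theorem add_comm' : ∀ a b : F9, a + b = b + a := by decide
theorem neg_add' : ∀ a : F9, -a + a = 0 := by decide
theorem mul_assoc' : ∀ a b c : F9, a * b * c = a * (b * c) := by decide
theorem one_mul' : ∀ a : F9, 1 * a = a := by decide
theorem mul_one' : ∀ a : F9, a * 1 = a := by decide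
theorem mul_comm' : ∀ a b : F9, a * b = b * a := by decide
theorem left_distrib' : ∀ a b c : F9, a * (b + c) = a * b + a * c := by decide
theorem right_distrib' : ∀ a b c : F9, (a + b) * c = a * c + b * c := by decide
theorem zero_mul' : ∀ a : F9, 0 * a = 0 := by decide
theorem mul_zero' : ∀ a : F9, a * 0 = 0 := by decide
theorem mul_inv' : ∀ a : F9, a ≠ 0 → a * a⁻¹ = 1 := by decide
theorem inv_zero' : (0 : F9)⁻¹ = 0 := by decide

instance : Field F9 where
  add_assoc := add_assoc'
  zero_add := zero_add'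
  add_zero := add_zero'
  add_comm := add_comm'
  neg_add_cancel := neg_add'
  mul_assoc := mul_assoc'
  one_mul := one_mul'
  mul_one := mul_one'
  mul_comm := mul_comm'
  left_distrib := left_distrib'
  right_distrib := right_distrib'
  zero_mul := zero_mul'
  mul_zero := mul_zero'
  nsmul := nsmulRec
  zsmul := zsmulRec
  exists_pair_ne := ⟨0, 1, by decide⟩
  mul_inv_cancel := mul_inv'
  inv_zero := inv_zero'
  nnqsmul := _
  nnqsmul_def := fun _ _ => rfl
  qsmul := _
  qsmul_def := fun _ _ => rfl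

theorem card_F9 : Fintype.card F9 = 9 := by decide

theorem card_F9' : Fintype.card F9 = 3 ^ 2 := by decide

theorem add_v_val (a b : F9) : (a + b).v.val = f9add a.v.val b.v.val := by
  show (toF (f9add a.v.val b.v.val)).v.val = _
  rw [toF_v_val, Nat.mod_eq_of_lt (f9add_lt _ _)]

theorem mul_v_val (a b : F9) : (a * b).v.val = f9mul a.v.val b.v.val := by
  show (toF (f9mul a.v.val b.v.val)).v.val = _
  rw [toF_v_val, Nat.mod_eq_of_lt (f9mul_lt _ _)]

theorem neg_v_val (a : F9) : (-a).v.val = f9neg a.v.val := by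
  show (toF (f9neg a.v.val)).v.val = _
  rw [toF_v_val, Nat.mod_eq_of_lt (f9neg_lt _)]

theorem pow_three_v_val : ∀ a : F9, (a ^ 3).v.val = f9conj a.v.val := by decide

theorem zero_v_val : (0 : F9).v.val = 0 := rfl
theorem one_v_val : (1 : F9).v.val = 1 := rfl

theorem ext_val {a b : F9} (h : a.v.val = b.v.val) : a = b := by
  cases a; cases b
  congr 1
  exact Fin.ext h

end Cfsg.Agent.Lib.Helper6.ICF9
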