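/-
Helper6 library (induced-character certificates): natural-number codes for `3 × 3` matrices over
the nine-element field `F9`, with kernel-friendly multiplication, conjugate transpose and
determinant; the resulting computational model of `SU₃(3)`.
-/
import Mathlib
import Cfsg.Prelude.Def_Classical
import Cfsg.Agent.Lib.Helper6.ICF9
import Cfsg.Agent.Lib.Helper6.ICModel
import Cfsg.Agent.Lib.Helper9.SU3SpecD
import Cfsg.Agent.Lib.Helper18.SU3Sylow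

set_option autoImplicit false
set_option maxRecDepth 100000

namespace Cfsg.Agent.Lib.Helper6.ICCode

open Cfsg.Agent.Lib.Helper6.ICF9 Cfsg.Agent.Lib.Helper6.ICModel
open Cfsg.Agent.Lib.Helper9.SU3Local Cfsg.Agent.Lib.Helper14 Matrix

/-- the `k`-th digit in base nine -/
def dig (c k : ℕ) : ℕ := c / 9 ^ k % 9

/-- nine digits to a code -/
def pack9 (x0 x1 x2 x3 x4 x5 x6 x7 x8 : ℕ) : ℕ :=
  x0 + 9 * (x1 + 9 * (x2 + 9 * (x3 + 9 * (x4 + 9 * (x5 + 9 * (x6 + 9 * (x7 + 9 * x8)))))))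

theorem dig_lt (c k : ℕ) : dig c k < 9 := Nat.mod_lt _ (by norm_num)

section digits

variable {x0 x1 x2 x3 x4 x5 x6 x7 x8 : ℕ}
  (h0 : x0 < 9) (h1 : x1 < 9) (h2 : x2 < 9) (h3 : x3 < 9) (h4 : x4 < 9) (h5 : x5 < 9)
  (h6 : x6 < 9) (h7 : x7 < 9) (h8 : x8 < 9)

include h0 h1 h2 h3 h4 h5 h6 h7 h8

theorem pack9_lt : pack9 x0 x1 x2 x3 x4 x5 x6 x7 x8 < 9 ^ 9 := by
  unfold pack9; norm_num; omega

theorem dig_pack9_0 : dig (pack9 x0 x1 x2 x3 x4 x5 x6 x7 x8) 0 = x0 := by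
  unfold dig pack9; norm_num; omega
theorem dig_pack9_1 : dig (pack9 x0 x1 x2 x3 x4 x5 x6 x7 x8) 1 = x1 := by
  unfold dig pack9; norm_num; omega
theorem dig_pack9_2 : dig (pack9 x0 x1 x2 x3 x4 x5 x6 x7 x8) 2 = x2 := by
  unfold dig pack9; norm_num; omega
theorem dig_pack9_3 : dig (pack9 x0 x1 x2 x3 x4 x5 x6 x7 x8) 3 = x3 := by
  unfold dig pack9; norm_num; omega
theorem dig_pack9_4 : dig (pack9 x0 x1 x2 x3 x4 x5 x6 x7 x8) 4 = x4 := by
  unfold dig pack9; norm_num; omega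
theorem dig_pack9_5 : dig (pack9 x0 x1 x2 x3 x4 x5 x6 x7 x8) 5 = x5 := by
  unfold dig pack9; norm_num; omega
theorem dig_pack9_6 : dig (pack9 x0 x1 x2 x3 x4 x5 x6 x7 x8) 6 = x6 := by
  unfold dig pack9; norm_num; omega
theorem dig_pack9_7 : dig (pack9 x0 x1 x2 x3 x4 x5 x6 x7 x8) 7 = x7 := by
  unfold dig pack9; norm_num; omega
theorem dig_pack9_8 : dig (pack9 x0 x1 x2 x3 x4 x5 x6 x7 x8) 8 = x8 := by
  unfold dig pack9; norm_num; omega

end digits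

theorem pack9_dig (c : ℕ) (hc : c < 9 ^ 9) :
    pack9 (dig c 0) (dig c 1) (dig c 2) (dig c 3) (dig c 4) (dig c 5) (dig c 6) (dig c 7)
      (dig c 8) = c := by
  unfold pack9 dig
  norm_num at hc ⊢
  omega

/-- the entry `(i, j)` of the product -/
def ent (c d i j : ℕ) : ℕ :=
  f9add (f9add (f9mul (dig c (3 * i)) (dig d j)) (f9mul (dig c (3 * i + 1)) (dig d (3 + j))))
    (f9mul (dig c (3 * i + 2)) (dig d (6 + j)))

/-- multiplication of codes -/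
def cmul (c d : ℕ) : ℕ :=
  pack9 (ent c d 0 0) (ent c d 0 1) (ent c d 0 2) (ent c d 1 0) (ent c d 1 1) (ent c d 1 2)
    (ent c d 2 0) (ent c d 2 1) (ent c d 2 2)

/-- conjugate transpose of codes -/
def cadj (c : ℕ) : ℕ :=
  pack9 (f9conj (dig c 0)) (f9conj (dig c 3)) (f9conj (dig c 6)) (f9conj (dig c 1))
    (f9conj (dig c 4)) (f9conj (dig c 7)) (f9conj (dig c 2)) (f9conj (dig c 5)) (f9conj (dig c 8))

/-- triple products -/
def m3 (x y z : ℕ) : ℕ := f9mul (f9mul x y) z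

/-- determinant of codes -/
def cdet (c : ℕ) : ℕ :=
  f9add (f9add (f9add (f9add (f9add (m3 (dig c 0) (dig c 4) (dig c 8))
    (f9neg (m3 (dig c 0) (dig c 5) (dig c 7)))) (f9neg (m3 (dig c 1) (dig c 3) (dig c 8))))
    (m3 (dig c 1) (dig c 5) (dig c 6))) (m3 (dig c 2) (dig c 3) (dig c 7)))
    (f9neg (m3 (dig c 2) (dig c 4) (dig c 6)))

/-- the code of the identity -/
def cone : ℕ := 43053283

/-- codes of elements of the special unitary group -/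
def cok (c : ℕ) : Bool := Nat.blt c 387420489 && (cmul (cadj c) c == cone) && (cdet c == 1)

/-- the computational model -/
def cm : CM := ⟨cmul, cone, cok⟩

/-- the code of a matrix -/
def encM (A : Matrix (Fin 3) (Fin 3) F9) : ℕ :=
  pack9 (A 0 0).v.val (A 0 1).v.val (A 0 2).v.val (A 1 0).v.val (A 1 1).v.val (A 1 2).v.val
    (A 2 0).v.val (A 2 1).v.val (A 2 2).v.val

/-- the matrix of a code -/
def dec (c : ℕ) : Matrix (Fin 3) (Fin 3) F9 :=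
  Matrix.of fun i j => toF (dig c (3 * i.val + j.val))

theorem toF_val_of_lt {n : ℕ} (h : n < 9) : (toF n).v.val = n := by
  rw [toF_v_val, Nat.mod_eq_of_lt h]

theorem toF_f9add {x y : ℕ} (hx : x < 9) (hy : y < 9) : toF (f9add x y) = toF x + toF y := by
  apply ext_val
  rw [add_v_val, toF_val_of_lt hx, toF_val_of_lt hy, toF_val_of_lt (f9add_lt _ _)]

theorem toF_f9mul {x y : ℕ} (hx : x < 9) (hy : y < 9) : toF (f9mul x y) = toF x * toF y := by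
  apply ext_val
  rw [mul_v_val, toF_val_of_lt hx, toF_val_of_lt hy, toF_val_of_lt (f9mul_lt _ _)]

theorem toF_f9neg {x : ℕ} (hx : x < 9) : toF (f9neg x) = -toF x := by
  apply ext_val
  rw [neg_v_val, toF_val_of_lt hx, toF_val_of_lt (f9neg_lt _)]

theorem toF_f9conj {x : ℕ} (hx : x < 9) : toF (f9conj x) = toF x ^ 3 := by
  apply ext_val
  rw [pow_three_v_val, toF_val_of_lt hx, toF_val_of_lt (f9conj_lt _)]

theorem ent_lt (c d i j : ℕ) : ent c d i j < 9 := f9add_lt _ _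

theorem dec_encM (A : Matrix (Fin 3) (Fin 3) F9) : dec (encM A) = A := by
  ext i j
  unfold dec encM
  fin_cases i <;> fin_cases j <;>
    simp only [Matrix.of_apply, Fin.zero_eta, Fin.mk_one, Fin.reduceFinMk, Fin.val_zero,
      Fin.val_one, Fin.val_two, Fin.isValue, Nat.mul_zero, Nat.mul_one, Nat.zero_add,
      Nat.add_zero, Nat.reduceMul, Nat.reduceAdd]
  · rw [dig_pack9_0 (Fin.isLt _) (Fin.isLt _) (Fin.isLt _) (Fin.isLt _) (Fin.isLt _) (Fin.isLt _)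
      (Fin.isLt _) (Fin.isLt _) (Fin.isLt _), toF_val]
  · rw [dig_pack9_1 (Fin.isLt _) (Fin.isLt _) (Fin.isLt _) (Fin.isLt _) (Fin.isLt _) (Fin.isLt _)
      (Fin.isLt _) (Fin.isLt _) (Fin.isLt _), toF_val]
  · rw [dig_pack9_2 (Fin.isLt _) (Fin.isLt _) (Fin.isLt _) (Fin.isLt _) (Fin.isLt _) (Fin.isLt _)
      (Fin.isLt _) (Fin.isLt _) (Fin.isLt _), toF_val]
  · rw [dig_pack9_3 (Fin.isLt _) (Fin.isLt _) (Fin.isLt _) (Fin.isLt _) (Fin.isLt _) (Fin.isLt _)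
      (Fin.isLt _) (Fin.isLt _) (Fin.isLt _), toF_val]
  · rw [dig_pack9_4 (Fin.isLt _) (Fin.isLt _) (Fin.isLt _) (Fin.isLt _) (Fin.isLt _) (Fin.isLt _)
      (Fin.isLt _) (Fin.isLt _) (Fin.isLt _), toF_val]
  · rw [dig_pack9_5 (Fin.isLt _) (Fin.isLt _) (Fin.isLt _) (Fin.isLt _) (Fin.isLt _) (Fin.isLt _)
      (Fin.isLt _) (Fin.isLt _) (Fin.isLt _), toF_val]
  · rw [dig_pack9_6 (Fin.isLt _) (Fin.isLt _) (Fin.isLt _) (Fin.isLt _) (Fin.isLt _) (Fin.isLt _)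
      (Fin.isLt _) (Fin.isLt _) (Fin.isLt _), toF_val]
  · rw [dig_pack9_7 (Fin.isLt _) (Fin.isLt _) (Fin.isLt _) (Fin.isLt _) (Fin.isLt _) (Fin.isLt _)
      (Fin.isLt _) (Fin.isLt _) (Fin.isLt _), toF_val]
  · rw [dig_pack9_8 (Fin.isLt _) (Fin.isLt _) (Fin.isLt _) (Fin.isLt _) (Fin.isLt _) (Fin.isLt _)
      (Fin.isLt _) (Fin.isLt _) (Fin.isLt _), toF_val]

theorem encM_injective : Function.Injective encM := by
  intro A B h
  rw [← dec_encM A, ← dec_encM B, h]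

theorem encM_dec (c : ℕ) (hc : c < 9 ^ 9) : encM (dec c) = c := by
  unfold encM dec
  simp only [Matrix.of_apply, Fin.val_zero, Fin.val_one, Fin.val_two, Fin.isValue, Nat.mul_zero,
    Nat.mul_one, Nat.zero_add, Nat.add_zero, Nat.reduceMul, Nat.reduceAdd]
  rw [toF_val_of_lt (dig_lt _ _), toF_val_of_lt (dig_lt _ _), toF_val_of_lt (dig_lt _ _),
    toF_val_of_lt (dig_lt _ _), toF_val_of_lt (dig_lt _ _), toF_val_of_lt (dig_lt _ _),
    toF_val_of_lt (dig_lt _ _), toF_val_of_lt (dig_lt _ _), toF_val_of_lt (dig_lt _ _)]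
  exact pack9_dig c hc

theorem dec_apply (c : ℕ) (i j : Fin 3) : dec c i j = toF (dig c (3 * i.val + j.val)) := rfl

theorem dec_cmul (c d : ℕ) : dec (cmul c d) = dec c * dec d := by
  ext i j
  rw [Matrix.mul_apply, Fin.sum_univ_three, dec_apply, dec_apply, dec_apply, dec_apply, dec_apply,
    dec_apply, dec_apply]
  unfold cmul
  fin_cases i <;> fin_cases j <;>
    simp only [Fin.zero_eta, Fin.mk_one, Fin.reduceFinMk, Fin.val_zero,
      Fin.val_one, Fin.val_two, Fin.isValue, Nat.mul_zero, Nat.mul_one, Nat.zero_add,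
      Nat.add_zero, Nat.reduceMul, Nat.reduceAdd]
  · rw [dig_pack9_0 (ent_lt _ _ _ _) (ent_lt _ _ _ _) (ent_lt _ _ _ _) (ent_lt _ _ _ _)
      (ent_lt _ _ _ _) (ent_lt _ _ _ _) (ent_lt _ _ _ _) (ent_lt _ _ _ _) (ent_lt _ _ _ _)]
    unfold ent
    rw [toF_f9add (f9add_lt _ _) (f9mul_lt _ _), toF_f9add (f9mul_lt _ _) (f9mul_lt _ _),
      toF_f9mul (dig_lt _ _) (dig_lt _ _), toF_f9mul (dig_lt _ _) (dig_lt _ _),
      toF_f9mul (dig_lt _ _) (dig_lt _ _)]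
  · rw [dig_pack9_1 (ent_lt _ _ _ _) (ent_lt _ _ _ _) (ent_lt _ _ _ _) (ent_lt _ _ _ _)
      (ent_lt _ _ _ _) (ent_lt _ _ _ _) (ent_lt _ _ _ _) (ent_lt _ _ _ _) (ent_lt _ _ _ _)]
    unfold ent
    rw [toF_f9add (f9add_lt _ _) (f9mul_lt _ _), toF_f9add (f9mul_lt _ _) (f9mul_lt _ _),
      toF_f9mul (dig_lt _ _) (dig_lt _ _), toF_f9mul (dig_lt _ _) (dig_lt _ _),
      toF_f9mul (dig_lt _ _) (dig_lt _ _)]
  · rw [dig_pack9_2 (ent_lt _ _ _ _) (ent_lt _ _ _ _) (ent_lt _ _ _ _) (ent_lt _ _ _ _)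
      (ent_lt _ _ _ _) (ent_lt _ _ _ _) (ent_lt _ _ _ _) (ent_lt _ _ _ _) (ent_lt _ _ _ _)]
    unfold ent
    rw [toF_f9add (f9add_lt _ _) (f9mul_lt _ _), toF_f9add (f9mul_lt _ _) (f9mul_lt _ _),
      toF_f9mul (dig_lt _ _) (dig_lt _ _), toF_f9mul (dig_lt _ _) (dig_lt _ _),
      toF_f9mul (dig_lt _ _) (dig_lt _ _)]
  · rw [dig_pack9_3 (ent_lt _ _ _ _) (ent_lt _ _ _ _) (ent_lt _ _ _ _) (ent_lt _ _ _ _)
      (ent_lt _ _ _ _) (ent_lt _ _ _ _) (ent_lt _ _ _ _) (ent_lt _ _ _ _) (ent_lt _ _ _ _)]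
    unfold ent
    rw [toF_f9add (f9add_lt _ _) (f9mul_lt _ _), toF_f9add (f9mul_lt _ _) (f9mul_lt _ _),
      toF_f9mul (dig_lt _ _) (dig_lt _ _), toF_f9mul (dig_lt _ _) (dig_lt _ _),
      toF_f9mul (dig_lt _ _) (dig_lt _ _)]
  · rw [dig_pack9_4 (ent_lt _ _ _ _) (ent_lt _ _ _ _) (ent_lt _ _ _ _) (ent_lt _ _ _ _)
      (ent_lt _ _ _ _) (ent_lt _ _ _ _) (ent_lt _ _ _ _) (ent_lt _ _ _ _) (ent_lt _ _ _ _)]
    unfold ent
    rw [toF_f9add (f9add_lt _ _) (f9mul_lt _ _), toF_f9add (f9mul_lt _ _) (f9mul_lt _ _),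
      toF_f9mul (dig_lt _ _) (dig_lt _ _), toF_f9mul (dig_lt _ _) (dig_lt _ _),
      toF_f9mul (dig_lt _ _) (dig_lt _ _)]
  · rw [dig_pack9_5 (ent_lt _ _ _ _) (ent_lt _ _ _ _) (ent_lt _ _ _ _) (ent_lt _ _ _ _)
      (ent_lt _ _ _ _) (ent_lt _ _ _ _) (ent_lt _ _ _ _) (ent_lt _ _ _ _) (ent_lt _ _ _ _)]
    unfold ent
    rw [toF_f9add (f9add_lt _ _) (f9mul_lt _ _), toF_f9add (f9mul_lt _ _) (f9mul_lt _ _),
      toF_f9mul (dig_lt _ _) (dig_lt _ _), toF_f9mul (dig_lt _ _) (dig_lt _ _),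
      toF_f9mul (dig_lt _ _) (dig_lt _ _)]
  · rw [dig_pack9_6 (ent_lt _ _ _ _) (ent_lt _ _ _ _) (ent_lt _ _ _ _) (ent_lt _ _ _ _)
      (ent_lt _ _ _ _) (ent_lt _ _ _ _) (ent_lt _ _ _ _) (ent_lt _ _ _ _) (ent_lt _ _ _ _)]
    unfold ent
    rw [toF_f9add (f9add_lt _ _) (f9mul_lt _ _), toF_f9add (f9mul_lt _ _) (f9mul_lt _ _),
      toF_f9mul (dig_lt _ _) (dig_lt _ _), toF_f9mul (dig_lt _ _) (dig_lt _ _),
      toF_f9mul (dig_lt _ _) (dig_lt _ _)]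
  · rw [dig_pack9_7 (ent_lt _ _ _ _) (ent_lt _ _ _ _) (ent_lt _ _ _ _) (ent_lt _ _ _ _)
      (ent_lt _ _ _ _) (ent_lt _ _ _ _) (ent_lt _ _ _ _) (ent_lt _ _ _ _) (ent_lt _ _ _ _)]
    unfold ent
    rw [toF_f9add (f9add_lt _ _) (f9mul_lt _ _), toF_f9add (f9mul_lt _ _) (f9mul_lt _ _),
      toF_f9mul (dig_lt _ _) (dig_lt _ _), toF_f9mul (dig_lt _ _) (dig_lt _ _),
      toF_f9mul (dig_lt _ _) (dig_lt _ _)]
  · rw [dig_pack9_8 (ent_lt _ _ _ _) (ent_lt _ _ _ _) (ent_lt _ _ _ _) (ent_lt _ _ _ _)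
      (ent_lt _ _ _ _) (ent_lt _ _ _ _) (ent_lt _ _ _ _) (ent_lt _ _ _ _) (ent_lt _ _ _ _)]
    unfold ent
    rw [toF_f9add (f9add_lt _ _) (f9mul_lt _ _), toF_f9add (f9mul_lt _ _) (f9mul_lt _ _),
      toF_f9mul (dig_lt _ _) (dig_lt _ _), toF_f9mul (dig_lt _ _) (dig_lt _ _),
      toF_f9mul (dig_lt _ _) (dig_lt _ _)]

theorem cmul_lt (c d : ℕ) : cmul c d < 9 ^ 9 :=
  pack9_lt (ent_lt _ _ _ _) (ent_lt _ _ _ _) (ent_lt _ _ _ _) (ent_lt _ _ _ _)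
    (ent_lt _ _ _ _) (ent_lt _ _ _ _) (ent_lt _ _ _ _) (ent_lt _ _ _ _) (ent_lt _ _ _ _)

theorem encM_mul (A B : Matrix (Fin 3) (Fin 3) F9) : encM (A * B) = cmul (encM A) (encM B) := by
  rw [← encM_dec (cmul (encM A) (encM B)) (cmul_lt _ _), dec_cmul, dec_encM, dec_encM]

theorem dec_cone : dec cone = 1 := by decide

theorem encM_one : encM 1 = cone := by
  rw [← dec_cone, encM_dec cone (by unfold cone; norm_num)]

theorem dec_cadj (c : ℕ) : dec (cadj c) = (dec c)ᵀ.map (fun x => x ^ 3) := by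
  ext i j
  rw [Matrix.map_apply, Matrix.transpose_apply, dec_apply, dec_apply]
  unfold cadj
  fin_cases i <;> fin_cases j <;>
    simp only [Fin.zero_eta, Fin.mk_one, Fin.reduceFinMk, Fin.val_zero,
      Fin.val_one, Fin.val_two, Fin.isValue, Nat.mul_zero, Nat.mul_one, Nat.zero_add,
      Nat.add_zero, Nat.reduceMul, Nat.reduceAdd]
  · rw [dig_pack9_0 (f9conj_lt _) (f9conj_lt _) (f9conj_lt _) (f9conj_lt _) (f9conj_lt _)
      (f9conj_lt _) (f9conj_lt _) (f9conj_lt _) (f9conj_lt _), toF_f9conj (dig_lt _ _)]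
  · rw [dig_pack9_1 (f9conj_lt _) (f9conj_lt _) (f9conj_lt _) (f9conj_lt _) (f9conj_lt _)
      (f9conj_lt _) (f9conj_lt _) (f9conj_lt _) (f9conj_lt _), toF_f9conj (dig_lt _ _)]
  · rw [dig_pack9_2 (f9conj_lt _) (f9conj_lt _) (f9conj_lt _) (f9conj_lt _) (f9conj_lt _)
      (f9conj_lt _) (f9conj_lt _) (f9conj_lt _) (f9conj_lt _), toF_f9conj (dig_lt _ _)]
  · rw [dig_pack9_3 (f9conj_lt _) (f9conj_lt _) (f9conj_lt _) (f9conj_lt _) (f9conj_lt _)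
      (f9conj_lt _) (f9conj_lt _) (f9conj_lt _) (f9conj_lt _), toF_f9conj (dig_lt _ _)]
  · rw [dig_pack9_4 (f9conj_lt _) (f9conj_lt _) (f9conj_lt _) (f9conj_lt _) (f9conj_lt _)
      (f9conj_lt _) (f9conj_lt _) (f9conj_lt _) (f9conj_lt _), toF_f9conj (dig_lt _ _)]
  · rw [dig_pack9_5 (f9conj_lt _) (f9conj_lt _) (f9conj_lt _) (f9conj_lt _) (f9conj_lt _)
      (f9conj_lt _) (f9conj_lt _) (f9conj_lt _) (f9conj_lt _), toF_f9conj (dig_lt _ _)]
  · rw [dig_pack9_6 (f9conj_lt _) (f9conj_lt _) (f9conj_lt _) (f9conj_lt _) (f9conj_lt _)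
      (f9conj_lt _) (f9conj_lt _) (f9conj_lt _) (f9conj_lt _), toF_f9conj (dig_lt _ _)]
  · rw [dig_pack9_7 (f9conj_lt _) (f9conj_lt _) (f9conj_lt _) (f9conj_lt _) (f9conj_lt _)
      (f9conj_lt _) (f9conj_lt _) (f9conj_lt _) (f9conj_lt _), toF_f9conj (dig_lt _ _)]
  · rw [dig_pack9_8 (f9conj_lt _) (f9conj_lt _) (f9conj_lt _) (f9conj_lt _) (f9conj_lt _)
      (f9conj_lt _) (f9conj_lt _) (f9conj_lt _) (f9conj_lt _), toF_f9conj (dig_lt _ _)]

theorem m3_lt (x y z : ℕ) : m3 x y z < 9 := f9mul_lt _ _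

theorem toF_m3 {x y z : ℕ} (hx : x < 9) (hy : y < 9) (hz : z < 9) :
    toF (m3 x y z) = toF x * toF y * toF z := by
  unfold m3
  rw [toF_f9mul (f9mul_lt _ _) hz, toF_f9mul hx hy]

theorem toF_cdet (c : ℕ) : toF (cdet c) = (dec c).det := by
  rw [Matrix.det_fin_three]
  unfold cdet
  rw [toF_f9add (f9add_lt _ _) (f9neg_lt _), toF_f9add (f9add_lt _ _) (m3_lt _ _ _),
    toF_f9add (f9add_lt _ _) (m3_lt _ _ _), toF_f9add (f9add_lt _ _) (f9neg_lt _),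
    toF_f9add (m3_lt _ _ _) (f9neg_lt _), toF_f9neg (m3_lt _ _ _), toF_f9neg (m3_lt _ _ _),
    toF_f9neg (m3_lt _ _ _), toF_m3 (dig_lt _ _) (dig_lt _ _) (dig_lt _ _),
    toF_m3 (dig_lt _ _) (dig_lt _ _) (dig_lt _ _), toF_m3 (dig_lt _ _) (dig_lt _ _) (dig_lt _ _),
    toF_m3 (dig_lt _ _) (dig_lt _ _) (dig_lt _ _), toF_m3 (dig_lt _ _) (dig_lt _ _) (dig_lt _ _),
    toF_m3 (dig_lt _ _) (dig_lt _ _) (dig_lt _ _)]
  simp only [dec_apply, Fin.val_zero, Fin.val_one, Fin.val_two, Fin.isValue, Nat.mul_zero,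
    Nat.mul_one, Nat.zero_add, Nat.add_zero, Nat.reduceMul, Nat.reduceAdd]
  ring

/-- the special unitary group over the nine-element field -/
abbrev G33 : Type := ↥(Cfsg.SU 3 F9 3)

/-- the code of a group element -/
def enc (g : G33) : ℕ := encM (mat g)

theorem exists_of_cok (c : ℕ) (h : cok c = true) : ∃ g : G33, enc g = c := by
  unfold cok at h
  simp only [Bool.and_eq_true, beq_iff_eq] at h
  obtain ⟨⟨h1, h2⟩, h3⟩ := h
  have hc : c < 9 ^ 9 := by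
    have : c < 387420489 := by simpa [Nat.blt_eq] using h1
    norm_num; exact this
  have hU : ((dec c)ᵀ.map (fun x => x ^ 3)) * dec c = 1 := by
    rw [← dec_cadj, ← dec_cmul, h2, dec_cone]
  have hd : (dec c).det = 1 := by
    rw [← toF_cdet, h3]; rfl
  refine ⟨⟨⟨dec c, hd⟩, (mem_SU_iff _).mpr
    (Cfsg.Agent.Lib.Helper9.SU3SpecD.isUni_of_mul_eq_one card_F9' (dec c) hU)⟩, ?_⟩
  show encM (dec c) = c
  exact encM_dec c hc

/-- the model of `SU₃(3)` -/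
def model : Model G33 cm where
  enc := enc
  enc_inj := fun g h hgh => mat_injective (encM_injective hgh)
  enc_mul := fun g h => by
    show encM (mat (g * h)) = cmul (encM (mat g)) (encM (mat h))
    rw [mat_mul, encM_mul]
  enc_one := by
    show encM (mat (1 : G33)) = cone
    rw [mat_one, encM_one]
  ok_surj := exists_of_cok

theorem card_G33 : Nat.card G33 = 6048 := by
  rw [Cfsg.Agent.Lib.Helper18.SU3Model.card_SU3 card_F9']
  norm_num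

end Cfsg.Agent.Lib.Helper6.ICCode
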