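/-
Helper6 library: the character degree graph of a group of order 6048 having irreducible
characters of degrees divisible by 6, 14 and 21 is the complete graph on {2, 3, 7}.
-/
import Mathlib
import Cfsg.Prelude.Def_DegreeGraph
import Cfsg.Agent.Lib.Helper24.IrrFacts

set_option autoImplicit false

namespace Cfsg.Agent.Lib.Helper6.ICGraph

open Cfsg

variable {K : Type*} [Group K]

theorem mem_charDegrees_of_irr {χ : K → ℂ} (hχ : IsIrrCharacter K χ) {d : ℕ}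
    (hd : χ 1 = (d : ℂ)) : d ∈ charDegrees K := by
  refine ⟨⟨χ, hχ⟩, ?_⟩
  show ⌊(χ 1).re⌋₊ = d
  rw [hd, Complex.natCast_re, Nat.floor_natCast]

theorem prime_mem_of_dvd_6048 {p : ℕ} (hp : p.Prime) (h : p ∣ 6048) :
    p = 2 ∨ p = 3 ∨ p = 7 := by
  have h1 : (6048 : ℕ) = 2 ^ 5 * (3 ^ 3 * 7) := by norm_num
  rw [h1] at h
  rcases (Nat.Prime.dvd_mul hp).mp h with h | h
  · exact Or.inl ((Nat.prime_dvd_prime_iff_eq hp Nat.prime_two).mp (hp.dvd_of_dvd_pow h))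
  · rcases (Nat.Prime.dvd_mul hp).mp h with h | h
    · exact Or.inr (Or.inl
        ((Nat.prime_dvd_prime_iff_eq hp Nat.prime_three).mp (hp.dvd_of_dvd_pow h)))
    · exact Or.inr (Or.inr ((Nat.prime_dvd_prime_iff_eq hp (by norm_num)).mp h))

variable [Finite K]

theorem prime_of_dvd_degree (hK : Nat.card K = 6048) {p d : ℕ} (hp : p.Prime)
    (hd : d ∈ charDegrees K) (hpd : p ∣ d) : p = 2 ∨ p = 3 ∨ p = 7 := by
  obtain ⟨χ, rfl⟩ := hd
  have h1 := Cfsg.Agent.Lib.Helper24.irr_charDegree_dvd_card χ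
  rw [hK] at h1
  exact prime_mem_of_dvd_6048 hp (dvd_trans hpd h1)

theorem degreePrimes_eq (hK : Nat.card K = 6048) (h6 : ∃ d ∈ charDegrees K, 6 ∣ d)
    (h14 : ∃ d ∈ charDegrees K, 14 ∣ d) : degreePrimes K = {2, 3, 7} := by
  ext p
  constructor
  · rintro ⟨hp, d, hd, hpd⟩
    rcases prime_of_dvd_degree hK hp hd hpd with h | h | h <;> simp [h]
  · intro hp
    obtain ⟨d6, hd6, h6⟩ := h6
    obtain ⟨d14, hd14, h14⟩ := h14
    rcases hp with rfl | rfl | rfl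
    · exact ⟨Nat.prime_two, d6, hd6, dvd_trans (by norm_num) h6⟩
    · exact ⟨Nat.prime_three, d6, hd6, dvd_trans (by norm_num) h6⟩
    · exact ⟨by norm_num, d14, hd14, dvd_trans (by norm_num) h14⟩

theorem adj_iff (hK : Nat.card K = 6048) (h6 : ∃ d ∈ charDegrees K, 6 ∣ d)
    (h14 : ∃ d ∈ charDegrees K, 14 ∣ d) (h21 : ∃ d ∈ charDegrees K, 21 ∣ d) (p q : ℕ) :
    (degreeGraph K).Adj p q ↔
      p ≠ q ∧ (p = 2 ∨ p = 3 ∨ p = 7) ∧ (q = 2 ∨ q = 3 ∨ q = 7) := by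
  constructor
  · rintro ⟨hne, hp, hq, d, hd, hpq⟩
    exact ⟨hne, prime_of_dvd_degree hK hp hd (dvd_trans (dvd_mul_right p q) hpq),
      prime_of_dvd_degree hK hq hd (dvd_trans (dvd_mul_left q p) hpq)⟩
  · rintro ⟨hne, hp, hq⟩
    obtain ⟨d6, hd6, h6⟩ := h6
    obtain ⟨d14, hd14, h14⟩ := h14
    obtain ⟨d21, hd21, h21⟩ := h21
    have p2 := Nat.prime_two
    have p3 := Nat.prime_three
    have p7 : Nat.Prime 7 := by norm_num
    rcases hp with rfl | rfl | rfl <;> rcases hq with rfl | rfl | rfl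
    · exact absurd rfl hne
    · exact ⟨hne, p2, p3, d6, hd6, h6⟩
    · exact ⟨hne, p2, p7, d14, hd14, h14⟩
    · exact ⟨hne, p3, p2, d6, hd6, h6⟩
    · exact absurd rfl hne
    · exact ⟨hne, p3, p7, d21, hd21, h21⟩
    · exact ⟨hne, p7, p2, d14, hd14, h14⟩
    · exact ⟨hne, p7, p3, d21, hd21, h21⟩
    · exact absurd rfl hne

end Cfsg.Agent.Lib.Helper6.ICGraph
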