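/-
Helper6 library (induced-character certificates): generated data for `SU₃(3)`, double cosets F\\G/F and inner products.
-/
import Mathlib
import Cfsg.Agent.Lib.Helper6.ICCheck
import Cfsg.Agent.Lib.Helper6.ICDataF

set_option autoImplicit false
set_option maxRecDepth 1000000

namespace Cfsg.Agent.Lib.Helper6.ICData

open Cfsg.Agent.Lib.Helper6.ICModel Cfsg.Agent.Lib.Helper6.ICCode Cfsg.Agent.Lib.Helper6.ICGram

/-- representatives of the double cosets: code, code of the inverse, number of fixed points -/
def repsFF : List RepD := [
  (538164, 1069524, 96),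
  (794349, 37781235, 16),
  (21502455, 36031413, 4),
  (50042103, 50063196, 6),
  (50063196, 50042103, 6)]

/-- the inner products `(k, k', N)` -/
def gramsFF : List (ℕ × ℕ × ℕ) := [(0, 0, 5), (1, 1, 3)]

theorem okFF : allOK cm dF dF repsFF 6048 gramsFF = true := by decide +kernel

end Cfsg.Agent.Lib.Helper6.ICData
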