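/-
Helper6 library (induced-character certificates): generated data for `SU₃(3)`, double cosets X\\G/F and inner products.
-/
import Mathlib
import Cfsg.Agent.Lib.Helper6.ICCheck
import Cfsg.Agent.Lib.Helper6.ICDataF
import Cfsg.Agent.Lib.Helper6.ICDataX

set_option autoImplicit false
set_option maxRecDepth 1000000

namespace Cfsg.Agent.Lib.Helper6.ICData

open Cfsg.Agent.Lib.Helper6.ICModel Cfsg.Agent.Lib.Helper6.ICCode Cfsg.Agent.Lib.Helper6.ICGram

/-- representatives of the double cosets: code, code of the inverse, number of fixed points -/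
def repsFX : List RepD := [
  (538164, 1069524, 16),
  (21289959, 3648528, 4),
  (50027508, 50027508, 2),
  (50558292, 50558292, 2)]

/-- the inner products `(k, k', N)` -/
def gramsFX : List (ℕ × ℕ × ℕ) := [(0, 1, 0), (0, 2, 4)]

theorem okFX : allOK cm dF dX repsFX 6048 gramsFX = true := by decide +kernel

end Cfsg.Agent.Lib.Helper6.ICData
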