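/-
Helper6 library (induced-character certificates): generated data for `SU₃(3)`, double cosets X\\G/X and inner products.
-/
import Mathlib
import Cfsg.Agent.Lib.Helper6.ICCheck
import Cfsg.Agent.Lib.Helper6.ICDataX

set_option autoImplicit false
set_option maxRecDepth 1000000

namespace Cfsg.Agent.Lib.Helper6.ICData

open Cfsg.Agent.Lib.Helper6.ICModel Cfsg.Agent.Lib.Helper6.ICCode Cfsg.Agent.Lib.Helper6.ICGram

/-- representatives of the double cosets: code, code of the inverse, number of fixed points -/
def repsXX : List RepD := [
  (538164, 1069524, 4),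
  (43047468, 43048188, 48),
  (50027508, 50027508, 3),
  (50558292, 50558292, 3),
  (129140919, 258284709, 48),
  (136151325, 266868585, 3),
  (136685187, 265273587, 3),
  (174319621, 305585707, 2),
  (217366343, 348632429, 2)]

/-- the inner products `(k, k', N)` -/
def gramsXX : List (ℕ × ℕ × ℕ) := [(1, 1, 5), (1, 2, 2), (2, 2, 6)]

theorem okXX : allOK cm dX dX repsXX 6048 gramsXX = true := by decide +kernel

end Cfsg.Agent.Lib.Helper6.ICData
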