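/-
Helper6 library: a solvable group of order 6048 with an irreducible character of degree 42,
namely `(2³ × 3² × 2) ⋊ C₄₂` with the cyclic group acting through an automorphism of order 42;
a linear character of the normal subgroup with trivial inertia group induces irreducibly.
-/
import Mathlib
import Cfsg.Prelude.Def_Characters
import Cfsg.Agent.Lib.Helper6.ICCyc
import Cfsg.Agent.Lib.Helper6.LinChar
import Cfsg.Agent.Lib.Helper6.CliffordCorr
import Cfsg.Agent.Lib.Helper10.TIInd
import Cfsg.Agent.Lib.Lead.CharOrtho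

set_option autoImplicit false
set_option maxRecDepth 100000

namespace Cfsg.Agent.Lib.Helper6.ICSolv

open Cfsg Cfsg.Agent.CharLib Cfsg.Agent.Lib.Helper6.ICCyc Multiplicative

/-- the module `2³ × 3² × 2` -/
abbrev V : Type := ZMod 2 × ZMod 2 × ZMod 2 × ZMod 3 × ZMod 3 × ZMod 2

/-- an automorphism of order 42 -/
def sig (v : V) : V :=
  (v.2.2.1, v.1 + v.2.2.1, v.2.1, 2 * v.2.2.2.1 + 2 * v.2.2.2.2.1, 2 * v.2.2.2.2.1, v.2.2.2.2.2)

/-- its inverse -/
def sigInv (v : V) : V :=
  (v.1 + v.2.1, v.2.2.1, v.1, 2 * v.2.2.2.1 + v.2.2.2.2.1, 2 * v.2.2.2.2.1, v.2.2.2.2.2)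

theorem sig_left : ∀ v : V, sigInv (sig v) = v := by decide
theorem sig_right : ∀ v : V, sig (sigInv v) = v := by decide
theorem sig_add (v w : V) : sig (v + w) = sig v + sig w := by
  unfold sig
  simp only [Prod.fst_add, Prod.snd_add, Prod.mk_add_mk, Prod.mk.injEq]
  refine ⟨trivial, by ring, trivial, by ring, by ring, trivial⟩

/-- the automorphism as an additive equivalence -/
def sigE : V ≃+ V := ⟨⟨sig, sigInv, sig_left, sig_right⟩, sig_add⟩

/-- the normal subgroup -/
abbrev N : Type := Multiplicative V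

/-- the automorphism of the normal subgroup -/
def σ : MulAut N := AddEquiv.toMultiplicative sigE

theorem σ_apply (v : N) : σ v = ofAdd (sig (toAdd v)) := rfl

theorem σ_pow_apply (m : ℕ) (v : N) : (σ ^ m) v = ofAdd (sig^[m] (toAdd v)) := by
  induction m with
  | zero => rfl
  | succ m ih =>
    rw [pow_succ', MulAut.mul_apply, ih, σ_apply, Function.iterate_succ_apply']
    rfl

/-- the exponent of the linear character -/
def ex (v : V) : ℕ := (12 * v.1.val + 8 * v.2.2.2.1.val) % 24

theorem ex_add_aux : ∀ (a a' : ZMod 2) (d d' : ZMod 3),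
    (12 * (a + a').val + 8 * (d + d').val) % 24
      = ((12 * a.val + 8 * d.val) % 24 + (12 * a'.val + 8 * d'.val) % 24) % 24 := by decide

theorem ex_add (v w : V) : ex (v + w) = (ex v + ex w) % 24 := by
  unfold ex
  simp only [Prod.fst_add, Prod.snd_add]
  exact ex_add_aux _ _ _ _
theorem ex_zero : ex 0 = 0 := by decide
theorem ex_lt (v : V) : ex v < 24 := Nat.mod_lt _ (by norm_num)
theorem sig_pow42 : ∀ v : V, sig^[42] v = v := by decide +kernel
theorem witness : ∀ m : Fin 42, m.val ≠ 0 → ∃ v : V, ex (sig^[m.val] v) ≠ ex v := by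
  decide +kernel

theorem σ_pow42 : σ ^ 42 = 1 := by
  apply MulEquiv.ext
  intro v
  rw [σ_pow_apply, sig_pow42]
  rfl

/-- the linear character of the normal subgroup -/
noncomputable def lamN : N →* ℂˣ where
  toFun v := zetaU ^ ex (toAdd v)
  map_one' := by
    show zetaU ^ ex 0 = 1
    rw [ex_zero, pow_zero]
  map_mul' := fun v w => by
    show zetaU ^ ex (toAdd v + toAdd w) = _
    rw [ex_add, zetaU_pow_mod, pow_add]

theorem lamN_apply (v : N) : lamN v = zetaU ^ ex (toAdd v) := rfl

theorem zetaU_pow_inj {x y : ℕ} (hx : x < 24) (hy : y < 24) (h : zetaU ^ x = zetaU ^ y) :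
    x = y := by
  apply zeta_prim.pow_inj hx hy
  have := congrArg (fun u : ℂˣ => (u : ℂ)) h
  simpa [zetaU_val] using this

theorem lamN_pow_ne {m : ℕ} (hm : 0 < m) (hm' : m < 42) : ∃ v : N, lamN ((σ ^ m) v) ≠ lamN v := by
  obtain ⟨v, hv⟩ := witness ⟨m, hm'⟩ hm.ne'
  refine ⟨ofAdd v, ?_⟩
  rw [σ_pow_apply, lamN_apply, lamN_apply]
  intro h
  exact hv (zetaU_pow_inj (ex_lt _) (ex_lt _) h)

theorem orderOf_σ : orderOf σ = 42 := by
  rw [orderOf_eq_iff (by norm_num)]
  refine ⟨σ_pow42, ?_⟩
  intro m hm hpos h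
  obtain ⟨v, hv⟩ := lamN_pow_ne hpos hm
  rw [h] at hv
  exact hv rfl

/-- the cyclic group of order 42 -/
abbrev K : Subgroup (MulAut N) := Subgroup.zpowers σ

theorem card_K : Nat.card K = 42 := by
  rw [Nat.card_zpowers, orderOf_σ]

theorem exists_pow_of_mem {τ : MulAut N} (hτ : τ ∈ K) (hne : τ ≠ 1) :
    ∃ m : ℕ, 0 < m ∧ m < 42 ∧ τ = σ ^ m := by
  obtain ⟨j, rfl⟩ := Subgroup.mem_zpowers_iff.mp hτ
  have h1 : σ ^ (j % 42) = σ ^ j := by
    have := zpow_mod_orderOf σ j
    rwa [orderOf_σ] at this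
  have h2 : 0 ≤ j % 42 := Int.emod_nonneg j (by norm_num)
  have h3 : j % 42 < 42 := Int.emod_lt_of_pos j (by norm_num)
  obtain ⟨m, hm⟩ := Int.eq_ofNat_of_zero_le h2
  refine ⟨m, ?_, by omega, ?_⟩
  · rcases Nat.eq_zero_or_pos m with h0 | h0
    · exfalso
      apply hne
      rw [← h1, hm, h0]
      rfl
    · exact h0
  · rw [← h1, hm, zpow_natCast]

/-- the solvable group of order 6048 -/
abbrev H : Type := N ⋊[K.subtype] K

theorem card_H : Nat.card H = 6048 := by
  rw [SemidirectProduct.card, card_K]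
  have : Nat.card N = 144 := by
    rw [Nat.card_eq_fintype_card]
    decide
  rw [this]

instance : Finite H := Nat.finite_of_card_ne_zero (by rw [card_H]; norm_num)

instance : Group.IsSolvable H :=
  Group.isSolvable_of_ker_le_range (SemidirectProduct.inl : N →* H) SemidirectProduct.rightHom
    (le_of_eq SemidirectProduct.range_inl_eq_ker_rightHom.symm)

/-- the normal subgroup inside the semidirect product -/
abbrev NN : Subgroup H := (SemidirectProduct.inl : N →* H).range

instance : NN.Normal := by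
  unfold NN
  rw [SemidirectProduct.range_inl_eq_ker_rightHom]
  infer_instance

theorem right_of_mem {h : H} (hh : h ∈ NN) : h.right = 1 := by
  unfold NN at hh
  rw [SemidirectProduct.range_inl_eq_ker_rightHom, MonoidHom.mem_ker] at hh
  exact hh

theorem mem_NN_iff (h : H) : h ∈ NN ↔ h.right = 1 := by
  unfold NN
  rw [SemidirectProduct.range_inl_eq_ker_rightHom, MonoidHom.mem_ker]
  rfl

/-- the linear character of the normal subgroup inside the semidirect product -/
noncomputable def lamH : ↥NN →* ℂˣ where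
  toFun h := lamN (h : H).left
  map_one' := by
    show lamN (1 : H).left = 1
    rw [SemidirectProduct.one_left, map_one]
  map_mul' := fun a b => by
    show lamN ((a : H) * (b : H)).left = lamN (a : H).left * lamN (b : H).left
    rw [SemidirectProduct.mul_left, right_of_mem a.2, map_one, MulAut.one_apply, map_mul]

/-- the linear character as a function -/
noncomputable def θ : ↥NN → ℂ := fun h => ((lamH h : ℂˣ) : ℂ)

theorem isIrr_θ : IsIrrCharacter ↥NN θ := Cfsg.Agent.Lib.Helper6.isIrrCharacter_of_hom lamH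

theorem θ_apply (h : ↥NN) : θ h = ((lamN (h : H).left : ℂˣ) : ℂ) := rfl

theorem conj_left (g : H) (h : H) (hh : h ∈ NN) :
    (g * h * g⁻¹).left = (g.right : MulAut N) h.left := by
  rw [SemidirectProduct.mul_left, SemidirectProduct.mul_left, SemidirectProduct.mul_right,
    SemidirectProduct.inv_left, right_of_mem hh, mul_one]
  have h1 : (K.subtype g.right) ((K.subtype g.right⁻¹) g.left⁻¹) = g.left⁻¹ := by
    rw [← MulAut.mul_apply, ← map_mul, mul_inv_cancel, map_one]
    rfl
  rw [h1, mul_comm, ← mul_assoc, inv_mul_cancel, one_mul]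
  rfl

theorem inertia (g : H) : g ∈ NN ↔ Cfsg.Agent.Lib.Helper6.conjFun NN g θ = θ := by
  constructor
  · intro hg
    funext h
    rw [Cfsg.Agent.Lib.Helper6.conjFun_apply, θ_apply, θ_apply]
    show ((lamN (g * (h : H) * g⁻¹).left : ℂˣ) : ℂ) = _
    rw [conj_left g h h.2, right_of_mem hg]
    rfl
  · intro h
    by_contra hg
    rw [mem_NN_iff] at hg
    have hne : (g.right : MulAut N) ≠ 1 := fun h0 => hg (Subtype.ext h0)
    obtain ⟨m, hm, hm', hτ⟩ := exists_pow_of_mem g.right.2 hne
    obtain ⟨v, hv⟩ := lamN_pow_ne hm hm'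
    have hmem : (SemidirectProduct.inl v : H) ∈ NN := ⟨v, rfl⟩
    have h1 := congrFun h ⟨SemidirectProduct.inl v, hmem⟩
    rw [Cfsg.Agent.Lib.Helper6.conjFun_apply, θ_apply, θ_apply] at h1
    have h2 : (g * (SemidirectProduct.inl v : H) * g⁻¹).left = (σ ^ m) v := by
      rw [conj_left g _ hmem, hτ]
      rfl
    have h3 : ((lamN ((σ ^ m) v) : ℂˣ) : ℂ) = ((lamN v : ℂˣ) : ℂ) := by
      rw [← h2]
      exact h1
    exact hv (Units.ext h3)

theorem card_NN : Nat.card ↥NN = 144 := by
  have h1 : Nat.card ↥NN = Nat.card N :=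
    (Nat.card_congr (MonoidHom.ofInjective
      (SemidirectProduct.inl_injective : Function.Injective (SemidirectProduct.inl : N →* H))).toEquiv).symm
  rw [h1, Nat.card_eq_fintype_card]
  decide

/-- the solvable group has an irreducible character of degree 42 -/
theorem exists_irr42 : ∃ χ : H → ℂ, IsIrrCharacter H χ ∧ χ 1 = 42 := by
  classical
  let _ : Fintype H := Fintype.ofFinite _
  let _ : Fintype ↥NN := Fintype.ofFinite _
  have hf : classInner (Cfsg.Agent.Lib.Helper6.resLE (le_refl NN) θ) θ ≠ 0 := by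
    have : Cfsg.Agent.Lib.Helper6.resLE (le_refl NN) θ = θ := rfl
    rw [this, classInner_irr isIrr_θ isIrr_θ, if_pos rfl]
    exact one_ne_zero
  obtain ⟨h1, _⟩ := Cfsg.Agent.Lib.Helper6.isIrrCharacter_indFun_inertia (le_refl NN) isIrr_θ
    inertia isIrr_θ hf
  refine ⟨indFun NN θ, h1, ?_⟩
  rw [Cfsg.Agent.Lib.Helper10.indFun_apply_one, card_NN, card_H]
  have : θ 1 = 1 := by
    rw [θ_apply]
    show ((lamN (1 : H).left : ℂˣ) : ℂ) = 1
    rw [SemidirectProduct.one_left, map_one, Units.val_one]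
  rw [this]
  norm_num

end Cfsg.Agent.Lib.Helper6.ICSolv
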