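/-
Helper6 library (induced-character certificates): generated data for `SU₃(3)`, inner products with the trivial character.
-/
import Mathlib
import Cfsg.Agent.Lib.Helper6.ICDataB
import Cfsg.Agent.Lib.Helper6.ICDataF
import Cfsg.Agent.Lib.Helper6.ICDataX
import Cfsg.Agent.Lib.Helper6.ICCheck

set_option autoImplicit false
set_option maxRecDepth 1000000

namespace Cfsg.Agent.Lib.Helper6.ICData

open Cfsg.Agent.Lib.Helper6.ICModel Cfsg.Agent.Lib.Helper6.ICCode Cfsg.Agent.Lib.Helper6.ICGram

theorem trivX1 : trivOK dX 1 0 = true := by decide +kernel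

theorem trivX2 : trivOK dX 2 0 = true := by decide +kernel

theorem trivB1 : trivOK dB 1 0 = true := by decide +kernel

theorem trivB3 : trivOK dB 3 0 = true := by decide +kernel

theorem trivF0 : trivOK dF 0 1 = true := by decide +kernel

end Cfsg.Agent.Lib.Helper6.ICData
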