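/-
Helper6 library (induced-character certificates): the special unitary group `SU₃(3)` over the
nine-element model field has irreducible characters of degrees 6, 21 and 28.
-/
import Mathlib
import Cfsg.Agent.Lib.Helper6.ICPairBB
import Cfsg.Agent.Lib.Helper6.ICPairFF
import Cfsg.Agent.Lib.Helper6.ICPairXX
import Cfsg.Agent.Lib.Helper6.ICPairBX
import Cfsg.Agent.Lib.Helper6.ICPairFX
import Cfsg.Agent.Lib.Helper6.ICPairBF
import Cfsg.Agent.Lib.Helper6.ICTriv
import Cfsg.Agent.Lib.Helper10.GenChar
import Cfsg.Agent.Lib.Lead.CharDecomp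
import Cfsg.Agent.Lib.Lead.CharOrtho

set_option autoImplicit false

namespace Cfsg.Agent.Lib.Helper6.ICU33

open Cfsg Cfsg.Agent.CharLib Cfsg.Agent.Lib.Helper6.ICModel Cfsg.Agent.Lib.Helper6.ICCode
  Cfsg.Agent.Lib.Helper6.ICGram Cfsg.Agent.Lib.Helper6.ICData Cfsg.Agent.Lib.Helper10

/-- a generalized character of norm one and positive degree is irreducible -/
theorem irr_of_norm_one {G : Type*} [Group G] [Fintype G] {θ : G → ℂ}
    (hθ : IsGeneralizedCharacter G θ) (h1 : classInner θ θ = 1) {d : ℕ} (hd : θ 1 = (d : ℂ))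
    (hpos : 0 < d) : IsIrrCharacter G θ := by
  obtain ⟨ε, hε, hirr⟩ := genChar_norm_one hθ h1
  rcases hε with rfl | rfl
  · rwa [one_smul] at hirr
  · exfalso
    obtain ⟨n, _, hn⟩ := IsIrrCharacter.apply_one_pos hirr
    rw [Pi.smul_apply, hd, smul_eq_mul] at hn
    have h2 : ((d : ℂ) + (n : ℂ)) = 0 := by rw [← hn]; ring
    have h3 : ((d + n : ℕ) : ℂ) = 0 := by push_cast; exact h2
    have h4 : d + n = 0 := by exact_mod_cast h3
    omega

noncomputable instance fintypeG33 : Fintype G33 := Fintype.ofFinite _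

/-- the characters induced from the subgroup `B` -/
noncomputable def Bm (k : ℕ) : G33 → ℂ := ind model dB dB_valid k
/-- the characters induced from the subgroup `X` -/
noncomputable def Xl (k : ℕ) : G33 → ℂ := ind model dX dX_valid k
/-- the characters induced from the subgroup `F` -/
noncomputable def Fs (k : ℕ) : G33 → ℂ := ind model dF dF_valid k
/-- the trivial character -/
noncomputable def T1 : G33 → ℂ := triv G33

theorem gBB {k k' N : ℕ} (hm : (k, k', N) ∈ gramsBB) : classInner (Bm k) (Bm k') = (N : ℂ) :=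
  classInner_of_allOK model dB_valid dB_valid card_G33 okBB hm
theorem gFF {k k' N : ℕ} (hm : (k, k', N) ∈ gramsFF) : classInner (Fs k) (Fs k') = (N : ℂ) :=
  classInner_of_allOK model dF_valid dF_valid card_G33 okFF hm
theorem gXX {k k' N : ℕ} (hm : (k, k', N) ∈ gramsXX) : classInner (Xl k) (Xl k') = (N : ℂ) :=
  classInner_of_allOK model dX_valid dX_valid card_G33 okXX hm
theorem gBX {k k' N : ℕ} (hm : (k, k', N) ∈ gramsBX) : classInner (Bm k) (Xl k') = (N : ℂ) :=
  classInner_of_allOK model dB_valid dX_valid card_G33 okBX hm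
theorem gFX {k k' N : ℕ} (hm : (k, k', N) ∈ gramsFX) : classInner (Fs k) (Xl k') = (N : ℂ) :=
  classInner_of_allOK model dF_valid dX_valid card_G33 okFX hm
theorem gBF {k k' N : ℕ} (hm : (k, k', N) ∈ gramsBF) : classInner (Bm k) (Fs k') = (N : ℂ) :=
  classInner_of_allOK model dB_valid dF_valid card_G33 okBF hm

theorem lenB : dB.ents.length = 216 := by decide +kernel
theorem lenX : dX.ents.length = 48 := by decide +kernel
theorem lenF : dF.ents.length = 96 := by decide +kernel

theorem Bm_one (k : ℕ) : Bm k 1 = 28 := by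
  unfold Bm
  rw [ind_one, card_G33, lenB]; norm_num
theorem Xl_one (k : ℕ) : Xl k 1 = 126 := by
  unfold Xl
  rw [ind_one, card_G33, lenX]; norm_num
theorem Fs_one (k : ℕ) : Fs k 1 = 63 := by
  unfold Fs
  rw [ind_one, card_G33, lenF]; norm_num
theorem T1_one : T1 1 = 1 := rfl

theorem isChar_Bm (k : ℕ) : IsCharacter G33 (Bm k) := isCharacter_ind model dB dB_valid k
theorem isChar_Xl (k : ℕ) : IsCharacter G33 (Xl k) := isCharacter_ind model dX dX_valid k
theorem isChar_Fs (k : ℕ) : IsCharacter G33 (Fs k) := isCharacter_ind model dF dF_valid k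
theorem isChar_T1 : IsCharacter G33 T1 := isCharacter_triv

/-! ### degree 28 -/

theorem exists_irr28 : ∃ χ : G33 → ℂ, IsIrrCharacter G33 χ ∧ χ 1 = 28 := by
  refine ⟨Bm 1, ?_, Bm_one 1⟩
  apply Cfsg.Agent.Lib.Helper6.isIrrCharacter_of_classInner_self_eq_one (isChar_Bm 1)
  rw [gBB (k := 1) (k' := 1) (N := 1) (by decide)]
  norm_num

/-! ### degree 21 -/

theorem exists_irr21 : ∃ χ : G33 → ℂ, IsIrrCharacter G33 χ ∧ χ 1 = 21 := by
  have b11 := gBB (k := 1) (k' := 1) (N := 1) (by decide)
  have b13 := gBB (k := 1) (k' := 3) (N := 0) (by decide)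
  have b33 := gBB (k := 3) (k' := 3) (N := 1) (by decide)
  have b14 := gBB (k := 1) (k' := 4) (N := 0) (by decide)
  have b34 := gBB (k := 3) (k' := 4) (N := 0) (by decide)
  have b44 := gBB (k := 4) (k' := 4) (N := 2) (by decide)
  have f11 := gFF (k := 1) (k' := 1) (N := 3) (by decide)
  have bf1 := gBF (k := 1) (k' := 1) (N := 1) (by decide)
  have bf3 := gBF (k := 3) (k' := 1) (N := 1) (by decide)
  have bf4 := gBF (k := 4) (k' := 1) (N := 1) (by decide)
  have b31 := classInner_symm_nat b13
  have b41 := classInner_symm_nat b14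
  have b43 := classInner_symm_nat b34
  have fb1 := classInner_symm_nat bf1
  have fb3 := classInner_symm_nat bf3
  have fb4 := classInner_symm_nat bf4
  refine ⟨Bm 1 + Bm 3 + Bm 4 - Fs 1, ?_, ?_⟩
  · apply irr_of_norm_one (d := 21)
    · exact ⟨Bm 1 + Bm 3 + Bm 4, Fs 1, IsCharacter.add (IsCharacter.add (isChar_Bm 1) (isChar_Bm 3)) (isChar_Bm 4),
        isChar_Fs 1, rfl⟩
    · simp only [Helper10.classInner_add_left, Helper10.classInner_sub_left,
        Helper10.classInner_add_right, Helper10.classInner_sub_right]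
      rw [b11, b13, b33, b14, b34, b44, f11, bf1, bf3, bf4, b31, b41, b43, fb1, fb3, fb4]
      norm_num
    · simp only [Pi.add_apply, Pi.sub_apply, Bm_one, Fs_one]
      norm_num
    · norm_num
  · simp only [Pi.add_apply, Pi.sub_apply, Bm_one, Fs_one]
    norm_num

/-! ### degree 6 -/

theorem exists_irr6 : ∃ χ : G33 → ℂ, IsIrrCharacter G33 χ ∧ χ 1 = 6 := by
  have b11 := gBB (k := 1) (k' := 1) (N := 1) (by decide)
  have b13 := gBB (k := 1) (k' := 3) (N := 0) (by decide)
  have b33 := gBB (k := 3) (k' := 3) (N := 1) (by decide)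
  have b31 := classInner_symm_nat b13
  have f00 := gFF (k := 0) (k' := 0) (N := 5) (by decide)
  have x11 := gXX (k := 1) (k' := 1) (N := 5) (by decide)
  have x12 := gXX (k := 1) (k' := 2) (N := 2) (by decide)
  have x22 := gXX (k := 2) (k' := 2) (N := 6) (by decide)
  have x21 := classInner_symm_nat x12
  have bx11 := gBX (k := 1) (k' := 1) (N := 1) (by decide)
  have bx31 := gBX (k := 3) (k' := 1) (N := 1) (by decide)
  have bx12 := gBX (k := 1) (k' := 2) (N := 0) (by decide)
  have bx32 := gBX (k := 3) (k' := 2) (N := 0) (by decide)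
  have xb11 := classInner_symm_nat bx11
  have xb13 := classInner_symm_nat bx31
  have xb21 := classInner_symm_nat bx12
  have xb23 := classInner_symm_nat bx32
  have fx01 := gFX (k := 0) (k' := 1) (N := 0) (by decide)
  have fx02 := gFX (k := 0) (k' := 2) (N := 4) (by decide)
  have xf10 := classInner_symm_nat fx01
  have xf20 := classInner_symm_nat fx02
  have bf10 := gBF (k := 1) (k' := 0) (N := 0) (by decide)
  have bf30 := gBF (k := 3) (k' := 0) (N := 0) (by decide)
  have fb01 := classInner_symm_nat bf10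
  have fb03 := classInner_symm_nat bf30
  have tx1 : classInner T1 (Xl 1) = ((0 : ℕ) : ℂ) := classInner_triv_ind model dX_valid trivX1
  have tx2 : classInner T1 (Xl 2) = ((0 : ℕ) : ℂ) := classInner_triv_ind model dX_valid trivX2
  have tb1 : classInner T1 (Bm 1) = ((0 : ℕ) : ℂ) := classInner_triv_ind model dB_valid trivB1
  have tb3 : classInner T1 (Bm 3) = ((0 : ℕ) : ℂ) := classInner_triv_ind model dB_valid trivB3
  have tf0 : classInner T1 (Fs 0) = ((1 : ℕ) : ℂ) := classInner_triv_ind model dF_valid trivF0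
  have xt1 := classInner_symm_nat tx1
  have xt2 := classInner_symm_nat tx2
  have bt1 := classInner_symm_nat tb1
  have bt3 := classInner_symm_nat tb3
  have ft0 := classInner_symm_nat tf0
  have tt : classInner T1 T1 = 1 := classInner_triv_triv
  refine ⟨Xl 1 - Xl 2 - Bm 1 - Bm 3 + Fs 0 - T1, ?_, ?_⟩
  · apply irr_of_norm_one (d := 6)
    · refine ⟨Xl 1 + Fs 0, Xl 2 + Bm 1 + Bm 3 + T1, IsCharacter.add (isChar_Xl 1) (isChar_Fs 0),
        IsCharacter.add (IsCharacter.add (IsCharacter.add (isChar_Xl 2) (isChar_Bm 1))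
          (isChar_Bm 3)) isChar_T1, ?_⟩
      funext g
      simp only [Pi.add_apply, Pi.sub_apply]
      ring
    · simp only [Helper10.classInner_add_left, Helper10.classInner_sub_left,
        Helper10.classInner_add_right, Helper10.classInner_sub_right]
      rw [b11, b13, b33, b31, f00, x11, x12, x22, x21, bx11, bx31, bx12, bx32, xb11, xb13, xb21,
        xb23, fx01, fx02, xf10, xf20, bf10, bf30, fb01, fb03, tx1, tx2, tb1, tb3, tf0, xt1, xt2,
        bt1, bt3, ft0, tt]
      norm_num
    · simp only [Pi.add_apply, Pi.sub_apply, Bm_one, Fs_one, Xl_one, T1_one]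
      norm_num
    · norm_num
  · simp only [Pi.add_apply, Pi.sub_apply, Bm_one, Fs_one, Xl_one, T1_one]
    norm_num

end Cfsg.Agent.Lib.Helper6.ICU33
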