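import Mathlib
import Cfsg.Agent.Lib.Helper6.Fpf3J

set_option autoImplicit false

/-! A `2`-group with commuting automorphisms `ρ` (fixed-point-free, cube trivial) and `τ`
(square trivial) whose fixed points form a central subgroup of order four: basic facts. -/

namespace Cfsg.Agent.Lib.Helper6.TR

open Subgroup Cfsg.Agent.Lib.Helper6.Fpf3
open scoped commutatorElement

variable {T : Type*} [Group T]

/-- an automorphism of square one of a finite `2`-group has a nontrivial fixed point on every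
nontrivial invariant subgroup -/
theorem exists_fixed [Finite T] (h2 : IsPGroup 2 T) (τ : MulAut T) (hτ : ∀ y : T, τ (τ y) = y)
    (H : Subgroup T) (hH : ∀ y ∈ H, τ y ∈ H) (hne : H ≠ ⊥) : ∃ y ∈ H, y ≠ 1 ∧ τ y = y := by
  classical
  have : Fintype H := Fintype.ofFinite H
  have : Fact (Nat.Prime 2) := ⟨Nat.prime_two⟩
  let f : Function.End H := fun y => ⟨τ y, hH y y.2⟩
  have hf : f ^ 2 ^ 1 = 1 := by
    funext y
    apply Subtype.ext
    show ((f * f) y : T) = y
    exact hτ y
  have h1 := Equiv.Perm.card_fixedPoints_modEq (f := f) (p := 2) (n := 1) hf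
  have hHp : IsPGroup 2 H := h2.to_subgroup H
  obtain ⟨k, hk⟩ := IsPGroup.iff_card.mp hHp
  have hk0 : k ≠ 0 := by
    intro h0
    rw [h0, pow_zero] at hk
    exact hne ((Subgroup.card_eq_one).mp hk)
  have heven : 2 ∣ Fintype.card H := by
    rw [← Nat.card_eq_fintype_card, hk]
    exact dvd_pow_self 2 hk0
  have h3 : 2 ∣ Fintype.card (Function.fixedPoints f) := by
    have := (Nat.modEq_zero_iff_dvd.mpr heven).symm.trans h1
    exact (Nat.modEq_zero_iff_dvd.mp this.symm)
  have h4 : 1 < Fintype.card (Function.fixedPoints f) := by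
    have hpos : 0 < Fintype.card (Function.fixedPoints f) := by
      apply Fintype.card_pos_iff.mpr
      refine ⟨⟨1, ?_⟩⟩
      show f 1 = 1
      apply Subtype.ext
      show τ ((1 : H) : T) = ((1 : H) : T)
      simp
    obtain ⟨c, hc⟩ := h3
    omega
  obtain ⟨⟨a, ha⟩, ⟨b, hb⟩, hab⟩ := Fintype.one_lt_card_iff.mp h4
  have ha' : τ (a : T) = a := congrArg Subtype.val (show f a = a from ha)
  have hb' : τ (b : T) = b := congrArg Subtype.val (show f b = b from hb)
  by_cases h1a : (a : T) = 1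
  · refine ⟨b, b.2, ?_, hb'⟩
    intro h1b
    apply hab
    apply Subtype.ext
    apply Subtype.ext
    show (a : T) = b
    rw [h1a, h1b]
  · exact ⟨a, a.2, h1a, ha'⟩

/-- the four elements of an invariant subgroup of order four -/
theorem four_cases [Finite T] {ρ : MulAut T} (h : IsFpf3 ρ) (H : Subgroup T)
    (hH : ∀ y ∈ H, ρ y ∈ H) (h4 : Nat.card H = 4) {w z : T} (hw : w ∈ H) (hw1 : w ≠ 1)
    (hz : z ∈ H) : z = 1 ∨ z = w ∨ z = ρ w ∨ z = ρ (ρ w) := by
  classical
  by_contra hcon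
  push Not at hcon
  obtain ⟨h1, h2, h3, h4'⟩ := hcon
  have hsub : ∀ t ∈ ({z, 1, w, ρ w, ρ (ρ w)} : Finset T), t ∈ H := by
    intro t ht
    simp only [Finset.mem_insert, Finset.mem_singleton] at ht
    rcases ht with rfl | rfl | rfl | rfl | rfl
    · exact hz
    · exact Subgroup.one_mem _
    · exact hw
    · exact hH _ hw
    · exact hH _ (hH _ hw)
  have hcard : ({z, 1, w, ρ w, ρ (ρ w)} : Finset T).card = 5 := by
    have e1 : (1 : T) ≠ w := fun h => hw1 h.symm
    have e2 : (1 : T) ≠ ρ w := fun h' => IsFpf3.rho_ne_one hw1 h'.symm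
    have e3 : (1 : T) ≠ ρ (ρ w) := fun h' =>
      IsFpf3.rho_ne_one (IsFpf3.rho_ne_one hw1) h'.symm
    have e4 : w ≠ ρ w := fun h' => h.ne_of_ne_one hw1 h'.symm
    have e5 : w ≠ ρ (ρ w) := fun h' => h.rho_rho_ne hw1 h'.symm
    have e6 : ρ w ≠ ρ (ρ w) := fun h' => h.ne_of_ne_one (IsFpf3.rho_ne_one hw1) h'.symm
    rw [Finset.card_insert_of_notMem, Finset.card_insert_of_notMem, Finset.card_insert_of_notMem,
      Finset.card_insert_of_notMem, Finset.card_singleton]
    · simp [e6]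
    · simp [e4, e5]
    · simp [e1, e2, e3]
    · simp [h1, h2, h3, h4']
  have : Fintype H := Fintype.ofFinite _
  have h5 : ({z, 1, w, ρ w, ρ (ρ w)} : Finset T).card ≤ Nat.card H := by
    rw [Nat.card_eq_fintype_card, ← Finset.card_univ]
    apply Finset.card_le_card_of_injOn (fun t => if h : t ∈ H then ⟨t, h⟩ else 1)
    · intro t _; exact Finset.mem_univ _
    · intro a ha b hb hab
      have ha' := hsub a ha
      have hb' := hsub b hb
      simp only [dif_pos ha', dif_pos hb'] at hab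
      exact congrArg Subtype.val hab
  rw [hcard, h4] at h5
  omega

/-- an invariant subgroup of order four has exponent two -/
theorem sq_eq_one_of_card_four [Finite T] {ρ : MulAut T} (h : IsFpf3 ρ) (H : Subgroup T)
    (hH : ∀ y ∈ H, ρ y ∈ H) (h4 : Nat.card H = 4) {w : T} (hw : w ∈ H) : w * w = 1 := by
  by_cases hw1 : w = 1
  · rw [hw1, mul_one]
  have hp : w ^ 4 = 1 := by
    have := pow_card_eq_one' (G := H) (x := ⟨w, hw⟩)
    rw [h4] at this
    exact congrArg Subtype.val this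
  have hq : (w * w) * (w * w) = 1 := by
    rw [← hp, pow_succ, pow_succ, pow_succ, pow_one]; group
  rcases four_cases h H hH h4 hw hw1 (H.mul_mem hw hw) with h1 | h1 | h1 | h1
  · exact h1
  · exfalso
    apply hw1
    have := congrArg (fun t => w⁻¹ * t) h1
    simpa using this
  · rw [h1] at hq
    have : ρ (w * w) = 1 := by rw [map_mul]; exact hq
    have h2 : w * w = 1 := by
      have := congrArg ρ.symm this
      simpa using this
    exact h2
  · rw [h1] at hq
    have : ρ (ρ (w * w)) = 1 := by rw [map_mul, map_mul]; exact hq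
    have h2 : ρ (w * w) = 1 := by
      have := congrArg ρ.symm this
      simpa using this
    have h3 : w * w = 1 := by
      have := congrArg ρ.symm h2
      simpa using this
    exact h3

/-- invariant subgroups of an invariant subgroup of order four -/
theorem eq_bot_or_eq_of_card_four [Finite T] {ρ : MulAut T} (h : IsFpf3 ρ) (H K : Subgroup T)
    (hH : ∀ y ∈ H, ρ y ∈ H) (hHK : H ≤ K) (h4 : Nat.card K = 4) : H = ⊥ ∨ H = K := by
  have h1 := h.card_modEq H hH
  have h2 : Nat.card H ∣ 4 := h4 ▸ Subgroup.card_dvd_of_le hHK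
  rcases Fpf3.card_cases_of_dvd_4 h2 h1 with h3 | h3
  · left; exact (Subgroup.card_eq_one).mp h3
  · right
    apply Subgroup.eq_of_le_of_card_ge hHK
    rw [h3, h4]

/-- the hypotheses -/
structure Hyp (ρ τ : MulAut T) : Prop where
  fpf : IsFpf3 ρ
  tau2 : ∀ y : T, τ (τ y) = y
  comm : ∀ y : T, τ (ρ y) = ρ (τ y)
  cen : fixedSub τ ≤ center T
  card : Nat.card (fixedSub τ) = 4
  two : IsPGroup 2 T

namespace Hyp

variable {ρ τ : MulAut T}

theorem rho_mem (h : Hyp ρ τ) {y : T} (hy : y ∈ fixedSub τ) : ρ y ∈ fixedSub τ := by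
  rw [mem_fixedSub] at hy ⊢
  rw [h.comm, hy]

theorem normalV (h : Hyp ρ τ) : (fixedSub τ).Normal := by
  constructor
  intro n hn g
  have := (Subgroup.mem_center_iff.mp (h.cen hn)) g
  have e : g * n * g⁻¹ = n := by rw [this]; group
  rw [e]; exact hn

theorem sqV [Finite T] (h : Hyp ρ τ) {v : T} (hv : v ∈ fixedSub τ) : v * v = 1 :=
  sq_eq_one_of_card_four h.fpf _ (fun _ hy => h.rho_mem hy) h.card hv

theorem invV [Finite T] (h : Hyp ρ τ) {v : T} (hv : v ∈ fixedSub τ) : v⁻¹ = v :=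
  inv_eq_of_mul_eq_one_left (h.sqV hv)

theorem centralV (h : Hyp ρ τ) {v : T} (hv : v ∈ fixedSub τ) (g : T) : v * g = g * v :=
  ((Subgroup.mem_center_iff.mp (h.cen hv)) g).symm

/-- a nontrivial subgroup invariant under both automorphisms contains the fixed points of `τ` -/
theorem V_le_of_invariant [Finite T] (h : Hyp ρ τ) (H : Subgroup T) (hρ : ∀ y ∈ H, ρ y ∈ H)
    (hτ : ∀ y ∈ H, τ y ∈ H) (hne : H ≠ ⊥) : fixedSub τ ≤ H := by
  obtain ⟨y, hy, hy1, hyf⟩ := exists_fixed h.two τ h.tau2 H hτ hne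
  have h1 : ∀ t ∈ H ⊓ fixedSub τ, ρ t ∈ H ⊓ fixedSub τ := by
    intro t ht
    exact ⟨hρ t ht.1, h.rho_mem ht.2⟩
  rcases eq_bot_or_eq_of_card_four h.fpf (H ⊓ fixedSub τ) (fixedSub τ) h1 inf_le_right h.card
    with h2 | h2
  · exfalso
    have : y ∈ H ⊓ fixedSub τ := ⟨hy, hyf⟩
    rw [h2, Subgroup.mem_bot] at this
    exact hy1 this
  · rw [← h2]; exact inf_le_left

/-- the elements fixed by `τ` modulo its fixed points -/
def M (h : Hyp ρ τ) : Subgroup T where
  carrier := {y | y⁻¹ * τ y ∈ fixedSub τ}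
  one_mem' := by
    show (1 : T)⁻¹ * τ 1 ∈ fixedSub τ
    simp
  mul_mem' := by
    intro a b ha hb
    show (a * b)⁻¹ * τ (a * b) ∈ fixedSub τ
    have ha' : a⁻¹ * τ a ∈ fixedSub τ := ha
    have hb' : b⁻¹ * τ b ∈ fixedSub τ := hb
    have h1 : (a * b)⁻¹ * τ (a * b) = b⁻¹ * (a⁻¹ * τ a) * τ b := by
      rw [map_mul]; group
    rw [h1, mul_assoc, h.centralV ha' (τ b), ← mul_assoc]
    exact Subgroup.mul_mem _ hb' ha'
  inv_mem' := by
    intro a ha
    show (a⁻¹)⁻¹ * τ a⁻¹ ∈ fixedSub τ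
    have ha' : a⁻¹ * τ a ∈ fixedSub τ := ha
    have h1 : (a⁻¹)⁻¹ * τ a⁻¹ = a * (a⁻¹ * τ a)⁻¹ * a⁻¹ := by
      rw [map_inv]; group
    rw [h1, ← h.centralV (Subgroup.inv_mem _ ha') a, mul_assoc, mul_inv_cancel, mul_one]
    exact Subgroup.inv_mem _ ha'

theorem mem_M (h : Hyp ρ τ) {y : T} : y ∈ h.M ↔ y⁻¹ * τ y ∈ fixedSub τ := Iff.rfl

theorem V_le_M (h : Hyp ρ τ) : fixedSub τ ≤ h.M := by
  intro y hy
  rw [mem_M, mem_fixedSub.mp hy, inv_mul_cancel]
  exact Subgroup.one_mem _

theorem lang_mul (h : Hyp ρ τ) {a b : T} (ha : a ∈ h.M) :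
    (a * b)⁻¹ * τ (a * b) = (a⁻¹ * τ a) * (b⁻¹ * τ b) := by
  have h1 : (a * b)⁻¹ * τ (a * b) = b⁻¹ * (a⁻¹ * τ a) * τ b := by
    rw [map_mul]; group
  rw [h1, ← h.centralV ha b⁻¹, mul_assoc]

/-- the subgroup `M` has order at most sixteen -/
theorem card_M_le [Finite T] (h : Hyp ρ τ) : Nat.card h.M ≤ 16 := by
  let φ : h.M →* fixedSub τ :=
    { toFun := fun y => ⟨(y : T)⁻¹ * τ y, y.2⟩
      map_one' := by
        apply Subtype.ext
        show ((1 : h.M) : T)⁻¹ * τ ((1 : h.M) : T) = 1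
        simp
      map_mul' := by
        intro a b
        apply Subtype.ext
        show ((a * b : h.M) : T)⁻¹ * τ ((a * b : h.M) : T) = _
        rw [Subgroup.coe_mul, h.lang_mul a.2]
        rfl }
  have h1 : Nat.card φ.ker ≤ 4 := by
    rw [← h.card]
    apply Nat.card_le_card_of_injective
      (fun y : φ.ker => (⟨((y : h.M) : T), by
        have := y.2
        rw [MonoidHom.mem_ker] at this
        have h2 : (((y : h.M) : T))⁻¹ * τ ((y : h.M) : T) = 1 := congrArg Subtype.val this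
        rw [mem_fixedSub]
        have := congrArg (fun t => ((y : h.M) : T) * t) h2
        simpa using this⟩ : fixedSub τ))
    intro a b hab
    apply Subtype.ext
    apply Subtype.ext
    have := congrArg Subtype.val hab
    exact this
  have h2 : Nat.card φ.range ≤ 4 := by
    rw [← h.card]
    exact Nat.card_le_card_of_injective _ Subtype.val_injective
  have h3 := Subgroup.card_mul_index φ.ker
  rw [Subgroup.index_ker] at h3
  calc Nat.card h.M = Nat.card φ.ker * Nat.card φ.range := h3.symm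
    _ ≤ 4 * 4 := Nat.mul_le_mul h1 h2

end Hyp

end Cfsg.Agent.Lib.Helper6.TR
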