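import Mathlib
import Cfsg.Agent.Lib.Helper6.TRA
import Cfsg.Agent.Lib.Helper20.OrdFourB
import Cfsg.Agent.Lib.Helper20.OmegaBound

set_option autoImplicit false

/-! `2`-groups all of whose involutions are central, with at most four elements of square one,
admitting a fixed-point-free automorphism of order three: basic facts. -/

namespace Cfsg.Agent.Lib.Helper6.Inv3

open Subgroup Cfsg.Agent.Lib.Helper6.Fpf3
open scoped commutatorElement

/-- central elements of square one -/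
def omZ (T : Type*) [Group T] : Subgroup T where
  carrier := {x | x ∈ center T ∧ x * x = 1}
  one_mem' := ⟨one_mem _, mul_one 1⟩
  mul_mem' := by
    rintro a b ⟨ha, ha2⟩ ⟨hb, hb2⟩
    refine ⟨mul_mem ha hb, ?_⟩
    have h : b * a = a * b := mem_center_iff.mp ha b
    calc a * b * (a * b) = a * (b * a) * b := by group
      _ = a * (a * b) * b := by rw [h]
      _ = (a * a) * (b * b) := by group
      _ = 1 := by rw [ha2, hb2, mul_one]
  inv_mem' := by
    rintro a ⟨ha, ha2⟩
    refine ⟨inv_mem ha, ?_⟩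
    have h : a⁻¹ = a := inv_eq_of_mul_eq_one_left ha2
    show a⁻¹ * a⁻¹ = 1
    rw [h, ha2]

variable {T : Type*} [Group T]

theorem mem_omZ {x : T} : x ∈ omZ T ↔ x ∈ center T ∧ x * x = 1 := Iff.rfl

theorem omZ_le_center : omZ T ≤ center T := fun _ h => h.1

instance omZ_normal : (omZ T).Normal := by
  constructor
  intro n hn g
  have h : g * n * g⁻¹ = n := by
    have := mem_center_iff.mp hn.1 g
    rw [this]; group
  rw [h]
  exact hn

/-- the hypotheses -/
structure H3 (ρ : MulAut T) : Prop where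
  fpf : IsFpf3 ρ
  two : IsPGroup 2 T
  cen : ∀ x : T, x * x = 1 → x ∈ center T
  card : Nat.card (omZ T) ≤ 4

namespace H3

variable {ρ : MulAut T}

theorem mem_omZ_iff (h : H3 ρ) {x : T} : x ∈ omZ T ↔ x * x = 1 :=
  ⟨fun hx => hx.2, fun hx => ⟨h.cen x hx, hx⟩⟩

theorem rho_mem_omZ (ρ : MulAut T) {x : T} (hx : x ∈ omZ T) : ρ x ∈ omZ T := by
  refine ⟨IsFpf3.center_invariant ρ x hx.1, ?_⟩
  rw [← map_mul, hx.2, map_one]

variable [Finite T]

theorem coprime_three (h : H3 ρ) : (Nat.card T).Coprime 3 := by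
  obtain ⟨k, hk⟩ := IsPGroup.iff_card.mp h.two
  rw [hk]
  exact Nat.Coprime.pow_left k (by norm_num)

/-- commutators are central -/
theorem comm_mem (h : H3 ρ) (x y : T) : ⁅x, y⁆ ∈ center T := by
  rw [mem_center_iff]
  intro z
  have h1 := Cfsg.Agent.Lib.Helper20.OrdFour.triple_comm_eq_one ρ h.fpf.fpf h.fpf.cube
    h.coprime_three x y z
  have h2 := commutatorElement_eq_one_iff_mul_comm.mp h1
  exact h2.symm

theorem comm_mul_left (h : H3 ρ) (x x' y : T) : ⁅x * x', y⁆ = ⁅x, y⁆ * ⁅x', y⁆ :=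
  Cfsg.Agent.Lib.Helper20.OmegaBound.comm_mul_left h.comm_mem x x' y

theorem comm_mul_right (h : H3 ρ) (x y y' : T) : ⁅x, y * y'⁆ = ⁅x, y⁆ * ⁅x, y'⁆ :=
  Cfsg.Agent.Lib.Helper20.OmegaBound.comm_mul_right h.comm_mem x y y'

theorem comm_pow_left (h : H3 ρ) (x y : T) (n : ℕ) : ⁅x ^ n, y⁆ = ⁅x, y⁆ ^ n := by
  induction n with
  | zero => simp [commutatorElement_def]
  | succ n ih => rw [pow_succ, pow_succ, h.comm_mul_left, ih]

/-- if `T` is nontrivial the central involutions form a four-group -/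
theorem card_omZ (h : H3 ρ) (hne : ∃ x : T, x ≠ 1) : Nat.card (omZ T) = 4 := by
  have : Fact (Nat.Prime 2) := ⟨Nat.prime_two⟩
  have hmod := h.fpf.card_modEq (omZ T) (fun y hy => rho_mem_omZ ρ hy)
  have hne1 : Nat.card (omZ T) ≠ 1 := by
    intro h1
    have hbot := Subgroup.card_eq_one.mp h1
    obtain ⟨x, hx⟩ := hne
    have hnt : Nontrivial T := ⟨⟨x, 1, hx⟩⟩
    have hdvd : 2 ∣ Nat.card T := by
      obtain ⟨k, hk⟩ := IsPGroup.iff_card.mp h.two
      have hk0 : k ≠ 0 := by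
        intro h0
        rw [h0, pow_zero] at hk
        have := (Finite.one_lt_card_iff_nontrivial (α := T)).mpr hnt
        omega
      rw [hk]
      exact dvd_pow_self 2 hk0
    obtain ⟨s, hs⟩ := exists_prime_orderOf_dvd_card' 2 hdvd
    have hs2 : s * s = 1 := by
      have := pow_orderOf_eq_one s
      rwa [hs, pow_two] at this
    have hsm : s ∈ omZ T := h.mem_omZ_iff.mpr hs2
    rw [hbot, Subgroup.mem_bot] at hsm
    rw [hsm, orderOf_one] at hs
    norm_num at hs
  have hpos : 0 < Nat.card (omZ T) := Nat.card_pos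
  have hle := h.card
  unfold Nat.ModEq at hmod
  interval_cases hk : Nat.card (omZ T) <;> simp_all

theorem four_cases (h : H3 ρ) {v w : T} (hv : v * v = 1) (hv1 : v ≠ 1) (hw : w * w = 1) :
    w = 1 ∨ w = v ∨ w = ρ v ∨ w = ρ (ρ v) := by
  have h4 := h.card_omZ ⟨v, hv1⟩
  exact Cfsg.Agent.Lib.Helper6.TR.four_cases h.fpf (omZ T) (fun y hy => rho_mem_omZ ρ hy) h4
    (h.mem_omZ_iff.mpr hv) hv1 (h.mem_omZ_iff.mpr hw)

end H3

end Cfsg.Agent.Lib.Helper6.Inv3
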