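import Mathlib
import Cfsg.Agent.Lib.Helper6.Inv3A

set_option autoImplicit false

/-! Central elements of order four; the quotient by the central involutions; commutators have
square one. -/

namespace Cfsg.Agent.Lib.Helper6.Inv3

open Subgroup Cfsg.Agent.Lib.Helper6.Fpf3
open scoped commutatorElement

universe u

variable {T : Type u} [Group T]

/-- in a `2`-group an element whose square is not one has a power of order four -/
theorem exists_pow_order_four [Finite T] (h2 : IsPGroup 2 T) {c : T} (hc : c * c ≠ 1) :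
    ∃ m : ℕ, c ^ m * c ^ m ≠ 1 ∧ (c ^ m * c ^ m) * (c ^ m * c ^ m) = 1 := by
  obtain ⟨k, hk⟩ := (IsPGroup.iff_orderOf.mp h2) c
  have hk2 : 2 ≤ k := by
    by_contra hcon
    push Not at hcon
    have : orderOf c ∣ 2 := by
      rw [hk]
      interval_cases k
      · norm_num
      · norm_num
    have := orderOf_dvd_iff_pow_eq_one.mp this
    rw [pow_two] at this
    exact hc this
  obtain ⟨j, rfl⟩ : ∃ j, k = j + 2 := ⟨k - 2, by omega⟩
  refine ⟨2 ^ j, ?_, ?_⟩
  · intro hcon
    have h1 : c ^ (2 ^ j * 2) = 1 := by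
      rw [pow_mul, pow_two]; exact hcon
    have h2' := orderOf_dvd_of_pow_eq_one h1
    rw [hk] at h2'
    have h3 : 2 ^ j * 2 = 2 ^ (j + 1) := by ring
    rw [h3] at h2'
    have := (Nat.pow_dvd_pow_iff_le_right (by norm_num : 1 < 2)).mp h2'
    omega
  · have h1 : (c ^ 2 ^ j * c ^ 2 ^ j) * (c ^ 2 ^ j * c ^ 2 ^ j) = c ^ (2 ^ (j + 2)) := by
      rw [← pow_add, ← pow_add]
      congr 1
      ring
    rw [h1, ← hk]
    exact pow_orderOf_eq_one c

namespace H3

variable {ρ : MulAut T} [Finite T]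

/-- a central element of order four makes every involution the square of a central element -/
theorem exists_sqrt (h : H3 ρ) {c : T} (hc : c ∈ center T) (hc2 : c * c ≠ 1)
    (hc4 : (c * c) * (c * c) = 1) {v : T} (hv : v * v = 1) : ∃ z ∈ center T, z * z = v := by
  rcases h.four_cases hc4 hc2 hv with rfl | rfl | rfl | rfl
  · exact ⟨1, one_mem _, mul_one 1⟩
  · exact ⟨c, hc, rfl⟩
  · exact ⟨ρ c, IsFpf3.center_invariant ρ c hc, by rw [← map_mul]⟩
  · exact ⟨ρ (ρ c), IsFpf3.center_invariant ρ _ (IsFpf3.center_invariant ρ c hc),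
      by rw [← map_mul, ← map_mul]⟩

/-- then the elements of order at most four are central -/
theorem mem_center_of_pow_four (h : H3 ρ) {c : T} (hc : c ∈ center T) (hc2 : c * c ≠ 1)
    (hc4 : (c * c) * (c * c) = 1) {x : T} (hx : (x * x) * (x * x) = 1) : x ∈ center T := by
  obtain ⟨z, hz, hzx⟩ := h.exists_sqrt hc hc2 hc4 hx
  have hzi : ∀ g, g * z⁻¹ = z⁻¹ * g := mem_center_iff.mp (inv_mem hz)
  have h1 : (x * z⁻¹) * (x * z⁻¹) = 1 := by
    calc (x * z⁻¹) * (x * z⁻¹) = x * (z⁻¹ * x) * z⁻¹ := by group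
      _ = x * (x * z⁻¹) * z⁻¹ := by rw [hzi x]
      _ = (x * x) * (z * z)⁻¹ := by group
      _ = 1 := by rw [hzx, mul_inv_cancel]
  have h2 := h.cen _ h1
  have h3 : x = (x * z⁻¹) * z := by group
  rw [h3]
  exact mul_mem h2 hz

/-- the induced automorphism on the quotient by the central involutions -/
noncomputable def ρq (ρ : MulAut T) : MulAut (T ⧸ omZ T) :=
  IsFpf3.quot ρ (omZ T) (fun _ hn => rho_mem_omZ ρ hn)

theorem mk_mem_center {x : T} (hx : x ∈ center T) :
    (QuotientGroup.mk x : T ⧸ omZ T) ∈ center (T ⧸ omZ T) := by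
  rw [mem_center_iff]
  intro g
  induction g using QuotientGroup.induction_on with
  | H g => rw [← QuotientGroup.mk_mul, ← QuotientGroup.mk_mul, mem_center_iff.mp hx g]

/-- the quotient satisfies the hypotheses again -/
theorem quot (h : H3 ρ) {c : T} (hc : c ∈ center T) (hc2 : c * c ≠ 1)
    (hc4 : (c * c) * (c * c) = 1) : H3 (ρq ρ) where
  fpf := h.fpf.quot_isFpf3 _ _
  two := h.two.to_quotient _
  cen := by
    intro x hx
    induction x using QuotientGroup.induction_on with
    | H x =>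
      have h1 : x * x ∈ omZ T := by
        apply (QuotientGroup.eq_one_iff _).mp
        rw [QuotientGroup.mk_mul]
        exact hx
      exact mk_mem_center (h.mem_center_of_pow_four hc hc2 hc4 h1.2)
  card := by
    refine le_trans ?_ h.card
    have hout : ∀ x : omZ (T ⧸ omZ T),
        (Quotient.out (x : T ⧸ omZ T)) * (Quotient.out (x : T ⧸ omZ T)) ∈ omZ T := by
      intro x
      apply (QuotientGroup.eq_one_iff _).mp
      rw [QuotientGroup.mk_mul, QuotientGroup.out_eq']
      exact x.2.2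
    apply Nat.card_le_card_of_injective (fun x : omZ (T ⧸ omZ T) => (⟨_, hout x⟩ : omZ T))
    intro x y hxy
    have hxy' : (Quotient.out (x : T ⧸ omZ T)) * (Quotient.out (x : T ⧸ omZ T)) =
        (Quotient.out (y : T ⧸ omZ T)) * (Quotient.out (y : T ⧸ omZ T)) :=
      congrArg Subtype.val hxy
    set a := Quotient.out (x : T ⧸ omZ T) with ha
    set b := Quotient.out (y : T ⧸ omZ T) with hb
    have hac : a ∈ center T := h.mem_center_of_pow_four hc hc2 hc4 (hout x).2
    have hbc : b ∈ center T := h.mem_center_of_pow_four hc hc2 hc4 (hout y).2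
    have hbi : ∀ g, g * b⁻¹ = b⁻¹ * g := mem_center_iff.mp (inv_mem hbc)
    have h1 : (a * b⁻¹) * (a * b⁻¹) = 1 := by
      calc (a * b⁻¹) * (a * b⁻¹) = a * (b⁻¹ * a) * b⁻¹ := by group
        _ = a * (a * b⁻¹) * b⁻¹ := by rw [hbi a]
        _ = (a * a) * (b * b)⁻¹ := by group
        _ = 1 := by rw [hxy', mul_inv_cancel]
    have h2 : a * b⁻¹ ∈ omZ T := h.mem_omZ_iff.mpr h1
    have h3 : (QuotientGroup.mk a : T ⧸ omZ T) = QuotientGroup.mk b := by
      rw [QuotientGroup.eq]
      have hcomm : a⁻¹ * b = (a * b⁻¹)⁻¹ := by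
        have := hbi a
        calc a⁻¹ * b = (b⁻¹ * a)⁻¹ := by group
          _ = (a * b⁻¹)⁻¹ := by rw [this]
      rw [hcomm]
      exact inv_mem h2
    rw [ha, hb, QuotientGroup.out_eq', QuotientGroup.out_eq'] at h3
    exact Subtype.ext h3

/-- commutators have square one, given the alternative for the quotient -/
theorem comm_sq (h : H3 ρ)
    (ih : H3 (ρq ρ) → (∀ a b : T ⧸ omZ T, a * b = b * a) ∨ Nat.card (T ⧸ omZ T) = 64)
    (x y : T) : ⁅x, y⁆ * ⁅x, y⁆ = 1 := by
  by_contra hcon
  obtain ⟨m, hm2, hm4⟩ := exists_pow_order_four h.two hcon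
  have hcc : ⁅x, y⁆ ^ m ∈ center T := pow_mem (h.comm_mem x y) m
  have hq := h.quot hcc hm2 hm4
  -- squares are central
  have hsqc : ∀ t : T, t * t ∈ center T := by
    by_cases hcomm : ∀ a b : T ⧸ omZ T, a * b = b * a
    · -- then commutators lie in `omZ T`, contradiction
      exfalso
      have : ⁅x, y⁆ ∈ omZ T := by
        apply (QuotientGroup.eq_one_iff _).mp
        rw [commutatorElement_def, QuotientGroup.mk_mul, QuotientGroup.mk_mul, QuotientGroup.mk_mul,
          QuotientGroup.mk_inv, QuotientGroup.mk_inv, hcomm (x : T ⧸ omZ T) y]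
        group
      exact hcon this.2
    · rcases ih hq with h1 | h64
      · exact absurd h1 hcomm
      · have hs : IsSpecial64 (ρq ρ) :=
          isSpecial64 hq.fpf h64 (fun hc => hcomm (fun a b => hc.is_comm.comm a b))
        intro t
        have h1 : (QuotientGroup.mk t : T ⧸ omZ T) * QuotientGroup.mk t ∈ center (T ⧸ omZ T) :=
          hs.sq_mem _
        have h2 := hs.sqZ _ h1
        have h3 : (t * t) * (t * t) ∈ omZ T := by
          apply (QuotientGroup.eq_one_iff _).mp
          rw [QuotientGroup.mk_mul, QuotientGroup.mk_mul]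
          exact h2
        exact h.mem_center_of_pow_four hcc hm2 hm4 h3.2
  have h1 : ⁅x * x, y⁆ = ⁅x, y⁆ * ⁅x, y⁆ := h.comm_mul_left x x y
  have h2 : ⁅x * x, y⁆ = 1 := by
    apply commutatorElement_eq_one_iff_mul_comm.mpr
    exact (mem_center_iff.mp (hsqc x) y).symm
  rw [h2] at h1
  exact hcon h1.symm

end H3

end Cfsg.Agent.Lib.Helper6.Inv3
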