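import Mathlib
import Cfsg.Agent.Lib.Helper6.Inv3B
import Cfsg.Agent.Lib.Helper20.OmegaRank

set_option autoImplicit false

/-! The centre has exponent two; the order is at most `64`; the main alternative. -/

namespace Cfsg.Agent.Lib.Helper6.Inv3

open Subgroup Cfsg.Agent.Lib.Helper6.Fpf3
open scoped commutatorElement

universe u

namespace H3

variable {T : Type u} [Group T] {ρ : MulAut T} [Finite T]

theorem mem_center_of_sq_eq (h : H3 ρ) {x z : T} (hz : z ∈ center T) (hzx : z * z = x * x) :
    x ∈ center T := by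
  have hzi : ∀ g, g * z⁻¹ = z⁻¹ * g := mem_center_iff.mp (inv_mem hz)
  have h1 : (x * z⁻¹) * (x * z⁻¹) = 1 := by
    calc (x * z⁻¹) * (x * z⁻¹) = x * (z⁻¹ * x) * z⁻¹ := by group
      _ = x * (x * z⁻¹) * z⁻¹ := by rw [hzi x]
      _ = (x * x) * (z * z)⁻¹ := by group
      _ = 1 := by rw [hzx, mul_inv_cancel]
  have h2 := h.cen _ h1
  have h3 : x = (x * z⁻¹) * z := by group
  rw [h3]
  exact mul_mem h2 hz

theorem sq_mem_center (h : H3 ρ) (hcs : ∀ x y : T, ⁅x, y⁆ * ⁅x, y⁆ = 1) (t : T) :
    t * t ∈ center T := by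
  rw [mem_center_iff]
  intro y
  have h1 : ⁅t * t, y⁆ = ⁅t, y⁆ * ⁅t, y⁆ := h.comm_mul_left t t y
  rw [hcs] at h1
  exact (commutatorElement_eq_one_iff_mul_comm.mp h1).symm

theorem index_center_mod (h : H3 ρ) : (center T).index % 3 = 1 := by
  have h1 : Nat.card (center T) ≡ 1 [MOD 3] :=
    h.fpf.card_modEq (center T) (IsFpf3.center_invariant ρ)
  have h2 : Nat.card (⊤ : Subgroup T) ≡ 1 [MOD 3] :=
    h.fpf.card_modEq ⊤ (fun _ _ => Subgroup.mem_top _)
  rw [Subgroup.card_top] at h2
  have h3 := Subgroup.card_mul_index (center T)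
  unfold Nat.ModEq at h1 h2
  have h4 : (Nat.card (center T) * (center T).index) % 3 = 1 := by rw [h3]; exact h2
  rw [Nat.mul_mod, h1] at h4
  have h5 : (center T).index % 3 < 3 := Nat.mod_lt _ (by norm_num)
  interval_cases hk : (center T).index % 3 <;> simp_all

/-- the centre has exponent two if the group is not commutative -/
theorem center_sq (h : H3 ρ) (hcs : ∀ x y : T, ⁅x, y⁆ * ⁅x, y⁆ = 1)
    (hna : ¬ ∀ a b : T, a * b = b * a) : ∀ c ∈ center T, c * c = 1 := by
  intro c0 hc0
  by_contra hcon
  obtain ⟨m, hm2, hm4⟩ := exists_pow_order_four h.two hcon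
  have hcc : c0 ^ m ∈ center T := pow_mem hc0 m
  have hsqc : ∀ t : T, t * t ∈ center T := h.sq_mem_center hcs
  -- the squaring endomorphism of the centre
  let sqZ : ↥(center T) →* ↥(center T) := MonoidHom.mk' (fun z => z * z) (by
    intro a b
    apply Subtype.ext
    show ((a : T) * b) * ((a : T) * b) = ((a : T) * a) * ((b : T) * b)
    have hb := mem_center_iff.mp a.2 (b : T)
    calc ((a : T) * b) * ((a : T) * b) = (a : T) * ((b : T) * a) * b := by group
      _ = (a : T) * ((a : T) * b) * b := by rw [hb]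
      _ = ((a : T) * a) * ((b : T) * b) := by group)
  let R : Subgroup ↥(center T) := sqZ.range
  have hR : ∀ v : T, v * v = 1 → ∀ hv : v ∈ center T, (⟨v, hv⟩ : center T) ∈ R := by
    intro v hv2 hv
    obtain ⟨z, hz, hzv⟩ := h.exists_sqrt hcc hm2 hm4 hv2
    refine ⟨⟨z, hz⟩, ?_⟩
    apply Subtype.ext
    show z * z = v
    exact hzv
  let f : T →* ↥(center T) ⧸ R := MonoidHom.mk'
    (fun x => (QuotientGroup.mk (⟨x * x, hsqc x⟩ : center T) : ↥(center T) ⧸ R)) (by
    intro x y
    have hg : ⁅y⁻¹, x⁻¹⁆ ∈ center T := h.comm_mem _ _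
    have hab : (⟨(x * y) * (x * y), hsqc (x * y)⟩ : center T) =
        ⟨x * x, hsqc x⟩ * ⟨y * y, hsqc y⟩ * ⟨⁅y⁻¹, x⁻¹⁆, hg⟩ :=
      Subtype.ext (Cfsg.Agent.Lib.Helper20.OmegaBound.sq_mul h.comm_mem x y)
    show (QuotientGroup.mk (⟨(x * y) * (x * y), hsqc (x * y)⟩ : center T) : ↥(center T) ⧸ R) = _
    rw [hab, QuotientGroup.mk_mul, QuotientGroup.mk_mul,
      (QuotientGroup.eq_one_iff _).mpr (hR _ (hcs _ _) hg), mul_one])
  have hker : f.ker ≤ center T := by
    intro x hx
    have h1 : (⟨x * x, hsqc x⟩ : center T) ∈ R := (QuotientGroup.eq_one_iff _).mp hx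
    obtain ⟨z, hz⟩ := h1
    have h2 : (z : T) * z = x * x := congrArg Subtype.val hz
    exact h.mem_center_of_sq_eq z.2 h2
  -- counting
  have h1 : (center T).index ∣ f.ker.index := Subgroup.index_dvd_of_le hker
  have h2 : f.ker.index = Nat.card f.range := Subgroup.index_ker f
  have h3 : Nat.card f.range ≤ Nat.card (↥(center T) ⧸ R) :=
    Nat.card_le_card_of_injective Subtype.val Subtype.val_injective
  have h4 : Nat.card (↥(center T) ⧸ R) = R.index := rfl
  have h5 : R.index = Nat.card sqZ.ker := by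
    have e1 := Subgroup.card_mul_index sqZ.ker
    rw [Subgroup.index_ker] at e1
    have e2 := Subgroup.card_mul_index R
    have hpos : 0 < Nat.card R := Nat.card_pos
    have e3 : Nat.card R * R.index = Nat.card R * Nat.card sqZ.ker := by
      rw [e2, ← e1, mul_comm]
    exact Nat.eq_of_mul_eq_mul_left hpos e3
  have h6 : Nat.card sqZ.ker ≤ Nat.card (omZ T) := by
    apply Nat.card_le_card_of_injective (fun z : sqZ.ker => (⟨((z : center T) : T), by
      refine ⟨(z : center T).2, ?_⟩
      have hz : sqZ (z : center T) = 1 := z.2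
      exact congrArg Subtype.val hz⟩ : omZ T))
    intro a b hab
    apply Subtype.ext
    apply Subtype.ext
    have := congrArg Subtype.val hab
    exact this
  have h7 : (center T).index ≤ 4 := by
    have hpos : 0 < f.ker.index := Nat.pos_of_ne_zero (Subgroup.index_ne_zero_of_finite)
    have := Nat.le_of_dvd hpos h1
    calc (center T).index ≤ f.ker.index := this
      _ = Nat.card f.range := h2
      _ ≤ Nat.card (↥(center T) ⧸ R) := h3
      _ = R.index := h4
      _ = Nat.card sqZ.ker := h5
      _ ≤ Nat.card (omZ T) := h6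
      _ ≤ 4 := h.card
  have h8 := h.index_center_mod
  have h9 : (center T).index ≠ 0 := Subgroup.index_ne_zero_of_finite
  have h10 : (center T).index = 1 ∨ (center T).index = 4 := by
    interval_cases hk : (center T).index <;> simp_all
  rcases h10 with h10 | h10
  · apply hna
    have htop := Subgroup.index_eq_one.mp h10
    intro a b
    have : a ∈ center T := by rw [htop]; exact Subgroup.mem_top a
    exact (mem_center_iff.mp this b).symm
  · exact h.fpf.index_center_ne_four h10

/-- a noncommutative group with commutators of square one has order `64` -/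
theorem card_of_comm_sq (h : H3 ρ) (hcs : ∀ x y : T, ⁅x, y⁆ * ⁅x, y⁆ = 1)
    (hna : ¬ ∀ a b : T, a * b = b * a) : Nat.card T = 64 := by
  have hZ2 := h.center_sq hcs hna
  have hsq : ∀ x : T, x * x ∈ omZ T := fun x =>
    ⟨h.sq_mem_center hcs x, hZ2 _ (h.sq_mem_center hcs x)⟩
  obtain ⟨q, β, hA, hK, hq, hβ1, hβ2, hq1, -⟩ :=
    Cfsg.Agent.Lib.Helper20.OmegaBound.quad_data h.comm_mem (omZ T) omZ_le_center
      (fun k hk => hk.2) hsq
  have hq0 : ∀ a : T ⧸ omZ T, q a = 1 → a = 1 := by
    intro a
    induction a using QuotientGroup.induction_on with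
    | H x =>
      intro hx
      have := (hq1 x).mp hx
      exact (QuotientGroup.eq_one_iff _).mpr (h.mem_omZ_iff.mpr this)
  have hZ : ∀ a b, q a = 1 → q b = 1 → q (a * b) = 1 := by
    intro a b ha hb
    rw [hq0 a ha, hq0 b hb, mul_one]
    rw [hq0 a ha] at ha
    exact ha
  have hle := Cfsg.Agent.Lib.Helper20.QuadCW.card_le_of_quadratic hA hK q β hq hβ1 hβ2 hZ
  have hsub : Nat.card {a : T ⧸ omZ T // q a = 1} ≤ 1 := by
    have : Subsingleton {a : T ⧸ omZ T // q a = 1} := by
      constructor
      intro a b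
      apply Subtype.ext
      rw [hq0 a.1 a.2, hq0 b.1 b.2]
    exact le_of_eq (Nat.card_of_subsingleton (⟨1, by
      have := hq 1 1
      rw [mul_one] at this
      have hβ11 : β 1 1 = 1 := by
        have := hβ1 1 1 1
        rw [mul_one] at this
        exact left_eq_mul.mp this
      rw [hβ11, mul_one] at this
      exact left_eq_mul.mp this⟩ : {a : T ⧸ omZ T // q a = 1}))
  -- the centre is the four-group
  have hne : ∃ x : T, x ≠ 1 := by
    by_contra hcon
    push Not at hcon
    apply hna
    intro a b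
    rw [hcon a, hcon b]
  have hV4 := h.card_omZ hne
  have hZV : center T = omZ T := by
    apply le_antisymm
    · intro z hz
      exact ⟨hz, hZ2 z hz⟩
    · exact omZ_le_center
  have hq16 : Nat.card (T ⧸ omZ T) ≤ 16 := by
    calc Nat.card (T ⧸ omZ T) ≤ Nat.card {a : T ⧸ omZ T // q a = 1} * Nat.card (omZ T) ^ 2 := hle
      _ ≤ 1 * 4 ^ 2 := by
        rw [hV4]
        exact Nat.mul_le_mul_right _ hsub
      _ = 16 := by norm_num
  have hidx : (center T).index ≤ 16 := by
    rw [hZV]
    exact hq16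
  have hmod := h.index_center_mod
  have hcard := Subgroup.card_mul_index (center T)
  rw [hZV, hV4] at hcard
  rw [hZV] at hidx hmod
  -- the index is a power of two
  obtain ⟨k, hk⟩ := IsPGroup.iff_card.mp h.two
  have hdvd : (omZ T).index ∣ 2 ^ k := by
    rw [← hk, ← hcard]
    exact Dvd.intro_left _ rfl
  obtain ⟨j, -, hj⟩ := (Nat.dvd_prime_pow Nat.prime_two).mp hdvd
  have hj4 : j ≤ 4 := by
    by_contra hcon
    push Not at hcon
    have : 2 ^ 5 ≤ 2 ^ j := Nat.pow_le_pow_right (by norm_num) hcon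
    rw [← hj] at this
    omega
  have hcases : (omZ T).index = 1 ∨ (omZ T).index = 4 ∨ (omZ T).index = 16 := by
    rw [hj] at hmod ⊢
    interval_cases j <;> simp_all
  rcases hcases with h1 | h4 | h16
  · exfalso
    apply hna
    have htop := Subgroup.index_eq_one.mp h1
    intro a b
    have : a ∈ center T := by rw [hZV, htop]; exact Subgroup.mem_top a
    exact (mem_center_iff.mp this b).symm
  · exfalso
    apply h.fpf.index_center_ne_four
    rw [hZV]
    exact h4
  · rw [← hcard, h16]

end H3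

/-- **the main alternative**: such a group is commutative or has order `64` -/
theorem comm_or_card64 : ∀ (n : ℕ) (T : Type u) [Group T] [Finite T] (ρ : MulAut T),
    Nat.card T = n → H3 ρ → (∀ a b : T, a * b = b * a) ∨ Nat.card T = 64 := by
  intro n
  induction n using Nat.strong_induction_on with
  | _ n ih =>
    intro T _ _ ρ hn h
    by_cases hcomm : ∀ a b : T, a * b = b * a
    · exact Or.inl hcomm
    right
    have hne : ∃ x : T, x ≠ 1 := by
      by_contra hcon
      push Not at hcon
      apply hcomm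
      intro a b
      rw [hcon a, hcon b]
    have hV4 := h.card_omZ hne
    have hlt : Nat.card (T ⧸ omZ T) < n := by
      have := Subgroup.card_eq_card_quotient_mul_card_subgroup (omZ T)
      rw [hV4, hn] at this
      have hpos : 0 < Nat.card (T ⧸ omZ T) := Nat.card_pos
      omega
    have ih' : H3 (H3.ρq ρ) →
        (∀ a b : T ⧸ omZ T, a * b = b * a) ∨ Nat.card (T ⧸ omZ T) = 64 :=
      fun hq => ih _ hlt (T ⧸ omZ T) (H3.ρq ρ) rfl hq
    exact h.card_of_comm_sq (h.comm_sq ih') hcomm

end Cfsg.Agent.Lib.Helper6.Inv3
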