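import Mathlib
import Cfsg.Agent.Lib.Helper6.TRA

set_option autoImplicit false

/-! The hypotheses pass to the quotient by the fixed points of `τ`. -/

namespace Cfsg.Agent.Lib.Helper6.TR

open Subgroup Cfsg.Agent.Lib.Helper6.Fpf3
open scoped commutatorElement

variable {T : Type*} [Group T] [Finite T] {ρ τ : MulAut T}

theorem tau_mem_V {y : T} (hy : y ∈ fixedSub τ) : τ y ∈ fixedSub τ := by
  rw [mem_fixedSub.mp hy]; exact hy

namespace Hyp

/-- the automorphism induced by `ρ` on the quotient -/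
noncomputable def ρq (h : Hyp ρ τ) [(fixedSub τ).Normal] : MulAut (T ⧸ fixedSub τ) :=
  IsFpf3.quot ρ (fixedSub τ) (fun _ hy => h.rho_mem hy)

/-- the automorphism induced by `τ` on the quotient -/
noncomputable def τq (_h : Hyp ρ τ) [(fixedSub τ).Normal] : MulAut (T ⧸ fixedSub τ) :=
  IsFpf3.quot τ (fixedSub τ) (fun _ hy => tau_mem_V hy)

@[simp]
theorem ρq_mk (h : Hyp ρ τ) [(fixedSub τ).Normal] (y : T) :
    h.ρq (y : T ⧸ fixedSub τ) = ((ρ y : T) : T ⧸ fixedSub τ) := rfl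

@[simp]
theorem τq_mk (h : Hyp ρ τ) [(fixedSub τ).Normal] (y : T) :
    h.τq (y : T ⧸ fixedSub τ) = ((τ y : T) : T ⧸ fixedSub τ) := rfl

theorem mem_fixedSub_τq (h : Hyp ρ τ) [(fixedSub τ).Normal] (y : T) :
    (y : T ⧸ fixedSub τ) ∈ fixedSub h.τq ↔ y ∈ h.M := by
  rw [mem_fixedSub, τq_mk, h.mem_M, eq_comm, QuotientGroup.eq]

theorem τq_τq (h : Hyp ρ τ) [(fixedSub τ).Normal] (y : T ⧸ fixedSub τ) : h.τq (h.τq y) = y := by
  induction y using QuotientGroup.induction_on with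
  | H y => simp only [τq_mk, h.tau2]

theorem τq_ρq (h : Hyp ρ τ) [(fixedSub τ).Normal] (y : T ⧸ fixedSub τ) :
    h.τq (h.ρq y) = h.ρq (h.τq y) := by
  induction y using QuotientGroup.induction_on with
  | H y => simp only [τq_mk, ρq_mk, h.comm]

theorem ρq_fpf (h : Hyp ρ τ) [(fixedSub τ).Normal] : IsFpf3 h.ρq :=
  IsFpf3.quot_isFpf3 h.fpf _ _

theorem ρq_mem (h : Hyp ρ τ) [(fixedSub τ).Normal] {y : T ⧸ fixedSub τ}
    (hy : y ∈ fixedSub h.τq) : h.ρq y ∈ fixedSub h.τq := by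
  rw [mem_fixedSub] at hy ⊢
  rw [h.τq_ρq, hy]

theorem card_fixedSub_τq_le (h : Hyp ρ τ) [(fixedSub τ).Normal] :
    Nat.card (fixedSub h.τq) ≤ 4 := by
  rw [← h.card]
  have key : ∀ y : fixedSub h.τq, (Quotient.out (y : T ⧸ fixedSub τ) : T) ∈ h.M := by
    intro y
    rw [← h.mem_fixedSub_τq]
    have : ((Quotient.out (y : T ⧸ fixedSub τ) : T) : T ⧸ fixedSub τ) = y :=
      QuotientGroup.out_eq' _
    rw [this]
    exact y.2
  apply Nat.card_le_card_of_injective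
    (fun y : fixedSub h.τq => (⟨(Quotient.out (y : T ⧸ fixedSub τ) : T)⁻¹ *
      τ (Quotient.out (y : T ⧸ fixedSub τ) : T), key y⟩ : fixedSub τ))
  intro a b hab
  have h1 : (Quotient.out (a : T ⧸ fixedSub τ) : T)⁻¹ * τ (Quotient.out (a : T ⧸ fixedSub τ) : T)
      = (Quotient.out (b : T ⧸ fixedSub τ) : T)⁻¹ * τ (Quotient.out (b : T ⧸ fixedSub τ) : T) :=
    congrArg Subtype.val hab
  set x := (Quotient.out (a : T ⧸ fixedSub τ) : T) with hx
  set y := (Quotient.out (b : T ⧸ fixedSub τ) : T) with hy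
  have hxa : ((x : T) : T ⧸ fixedSub τ) = a := QuotientGroup.out_eq' _
  have hyb : ((y : T) : T ⧸ fixedSub τ) = b := QuotientGroup.out_eq' _
  have hv : x⁻¹ * τ x ∈ fixedSub τ := key a
  have h2 : τ (x⁻¹ * y) = x⁻¹ * y := by
    have e1 : τ x = x * (x⁻¹ * τ x) := by group
    have e2 : τ y = y * (x⁻¹ * τ x) := by rw [h1]; group
    rw [map_mul, map_inv, e1, e2]
    generalize x⁻¹ * τ x = v at hv ⊢
    have := h.centralV hv y
    calc (x * v)⁻¹ * (y * v) = v⁻¹ * x⁻¹ * (y * v) := by group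
      _ = v⁻¹ * x⁻¹ * (v * y) := by rw [this]
      _ = v⁻¹ * (x⁻¹ * v) * y := by group
      _ = v⁻¹ * (v * x⁻¹) * y := by rw [h.centralV hv x⁻¹]
      _ = x⁻¹ * y := by group
  apply Subtype.ext
  rw [← hxa, ← hyb, QuotientGroup.eq]
  exact h2

/-- **the quotient satisfies the hypotheses** -/
theorem quot (h : Hyp ρ τ) [(fixedSub τ).Normal] (hne : fixedSub τ ≠ ⊤) : Hyp h.ρq h.τq := by
  have h2 : IsPGroup 2 (T ⧸ fixedSub τ) := h.two.to_quotient _
  have hnt : Nontrivial (T ⧸ fixedSub τ) := by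
    obtain ⟨t, ht⟩ : ∃ t : T, t ∉ fixedSub τ := by
      by_contra hcon
      push Not at hcon
      exact hne (eq_top_iff.mpr fun g _ => hcon g)
    refine ⟨⟨(t : T ⧸ fixedSub τ), 1, ?_⟩⟩
    intro h1
    exact ht ((QuotientGroup.eq_one_iff t).mp h1)
  have hfix : ∀ y ∈ fixedSub h.τq, h.τq y ∈ fixedSub h.τq := fun y hy => tau_mem_V hy
  -- the order of the fixed points
  have hc4 : Nat.card (fixedSub h.τq) = 4 := by
    have hle := h.card_fixedSub_τq_le
    have hmod := h.ρq_fpf.card_modEq (fixedSub h.τq) (fun y hy => h.ρq_mem hy)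
    have hne1 : Nat.card (fixedSub h.τq) ≠ 1 := by
      intro h1
      have hbot : fixedSub h.τq = ⊥ := (Subgroup.card_eq_one).mp h1
      obtain ⟨y, -, hy1, hyf⟩ := exists_fixed h2 h.τq h.τq_τq ⊤ (fun _ _ => Subgroup.mem_top _)
        (by
          intro htb
          have : (⊤ : Subgroup (T ⧸ fixedSub τ)) ≠ ⊥ := top_ne_bot
          exact this htb)
      have : y ∈ fixedSub h.τq := hyf
      rw [hbot, Subgroup.mem_bot] at this
      exact hy1 this
    have hpos : 0 < Nat.card (fixedSub h.τq) := Nat.card_pos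
    unfold Nat.ModEq at hmod
    interval_cases (Nat.card (fixedSub h.τq)) <;> simp_all
  refine ⟨h.ρq_fpf, h.τq_τq, h.τq_ρq, ?_, hc4, h2⟩
  -- centrality
  have hcne : center (T ⧸ fixedSub τ) ≠ ⊥ := by
    have : Fact (Nat.Prime 2) := ⟨Nat.prime_two⟩
    have := h2.center_nontrivial
    intro hb
    rw [hb] at this
    exact not_nontrivial _ this
  obtain ⟨z, hz, hz1, hzf⟩ := exists_fixed h2 h.τq h.τq_τq (center (T ⧸ fixedSub τ))
    (IsFpf3.center_invariant h.τq) hcne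
  have hinv : ∀ t ∈ center (T ⧸ fixedSub τ) ⊓ fixedSub h.τq,
      h.ρq t ∈ center (T ⧸ fixedSub τ) ⊓ fixedSub h.τq := by
    intro t ht
    exact ⟨IsFpf3.center_invariant h.ρq t ht.1, h.ρq_mem ht.2⟩
  rcases eq_bot_or_eq_of_card_four h.ρq_fpf _ (fixedSub h.τq) hinv inf_le_right hc4 with h3 | h3
  · exfalso
    have : z ∈ center (T ⧸ fixedSub τ) ⊓ fixedSub h.τq := ⟨hz, hzf⟩
    rw [h3, Subgroup.mem_bot] at this
    exact hz1 this
  · rw [← h3]; exact inf_le_left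

theorem card_quot (h : Hyp ρ τ) [(fixedSub τ).Normal] :
    Nat.card (T ⧸ fixedSub τ) * 4 = Nat.card T := by
  rw [← h.card, ← Subgroup.index_eq_card, mul_comm]
  exact Subgroup.card_mul_index _

end Hyp

end Cfsg.Agent.Lib.Helper6.TR
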