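import Mathlib
import Cfsg.Agent.Lib.Helper6.TRB

set_option autoImplicit false

/-! The commutative case: the elements of order at most two number `4` or `16`, and in the
second case the group has exponent two. -/

namespace Cfsg.Agent.Lib.Helper6.TR

open Subgroup Cfsg.Agent.Lib.Helper6.Fpf3
open scoped commutatorElement

variable {T : Type*} [Group T]

/-- the elements of square one of a commutative group -/
def omega (hc : ∀ a b : T, a * b = b * a) : Subgroup T where
  carrier := {y | y * y = 1}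
  one_mem' := by simp
  mul_mem' := by
    intro a b ha hb
    show a * b * (a * b) = 1
    have ha' : a * a = 1 := ha
    have hb' : b * b = 1 := hb
    calc a * b * (a * b) = a * (b * a) * b := by group
      _ = a * (a * b) * b := by rw [hc b a]
      _ = (a * a) * (b * b) := by group
      _ = 1 := by rw [ha', hb', mul_one]
  inv_mem' := by
    intro a ha
    show a⁻¹ * a⁻¹ = 1
    have ha' : a * a = 1 := ha
    rw [← mul_inv_rev, ha', inv_one]

theorem mem_omega {hc : ∀ a b : T, a * b = b * a} {y : T} : y ∈ omega hc ↔ y * y = 1 := Iff.rfl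

/-- squaring in a commutative group -/
def sqHom (hc : ∀ a b : T, a * b = b * a) : T →* T where
  toFun y := y * y
  map_one' := by simp
  map_mul' := by
    intro a b
    show a * b * (a * b) = a * a * (b * b)
    calc a * b * (a * b) = a * (b * a) * b := by group
      _ = a * (a * b) * b := by rw [hc b a]
      _ = (a * a) * (b * b) := by group

theorem ker_sqHom (hc : ∀ a b : T, a * b = b * a) : (sqHom hc).ker = omega hc := by
  ext y
  rw [MonoidHom.mem_ker, mem_omega]
  rfl

variable [Finite T] {ρ τ : MulAut T}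

namespace Hyp

/-- elements whose square is fixed by `τ`, in the commutative case -/
def S (h : Hyp ρ τ) (hc : ∀ a b : T, a * b = b * a) : Subgroup T :=
  (fixedSub τ).comap (sqHom hc)

theorem mem_S (h : Hyp ρ τ) (hc : ∀ a b : T, a * b = b * a) {y : T} :
    y ∈ h.S hc ↔ y * y ∈ fixedSub τ := Iff.rfl

theorem S_le_M (h : Hyp ρ τ) (hc : ∀ a b : T, a * b = b * a) : h.S hc ≤ h.M := by
  intro y hy
  rw [mem_S, mem_fixedSub] at hy
  rw [mem_M, mem_fixedSub]
  -- `τ (y⁻¹ τ y) = (τ y)⁻¹ y`, and its quotient by `y⁻¹ τ y` is `y² (τ y²)⁻¹ = 1`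
  have h1 : τ (y⁻¹ * τ y) = (τ y)⁻¹ * y := by rw [map_mul, map_inv, h.tau2]
  rw [h1]
  have h2 : τ y * τ y = y * y := by rw [← map_mul, hy]
  calc (τ y)⁻¹ * y = (τ y)⁻¹ * (y * y) * y⁻¹ := by group
    _ = (τ y)⁻¹ * (τ y * τ y) * y⁻¹ := by rw [h2]
    _ = τ y * y⁻¹ := by group
    _ = y⁻¹ * τ y := hc _ _

theorem omega_le_S (h : Hyp ρ τ) (hc : ∀ a b : T, a * b = b * a) : omega hc ≤ h.S hc := by
  intro y hy
  rw [mem_S, mem_omega.mp hy]
  exact Subgroup.one_mem _

theorem V_le_omega (h : Hyp ρ τ) (hc : ∀ a b : T, a * b = b * a) : fixedSub τ ≤ omega hc :=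
  fun _ hv => h.sqV hv

theorem rho_mem_omega (hc : ∀ a b : T, a * b = b * a) {y : T} (hy : y ∈ omega hc) :
    ρ y ∈ omega hc := by
  rw [mem_omega] at hy ⊢
  rw [← map_mul, hy, map_one]

/-- the number of elements of square one -/
theorem card_omega (h : Hyp ρ τ) (hc : ∀ a b : T, a * b = b * a) :
    Nat.card (omega hc) = 4 ∨ Nat.card (omega hc) = 16 := by
  have h1 : Nat.card (omega hc) ≤ 16 :=
    (Subgroup.card_le_of_le ((h.omega_le_S hc).trans (h.S_le_M hc))).trans h.card_M_le
  have h2 : 4 ≤ Nat.card (omega hc) := by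
    rw [← h.card]; exact Subgroup.card_le_of_le (h.V_le_omega hc)
  have h3 := h.fpf.card_modEq (omega hc) (fun y hy => rho_mem_omega hc hy)
  obtain ⟨k, hk⟩ := IsPGroup.iff_card.mp (h.two.to_subgroup (omega hc))
  rw [hk] at h1 h2 h3 ⊢
  have hk4 : k ≤ 4 := by
    by_contra hcon
    push Not at hcon
    have : 2 ^ 5 ≤ 2 ^ k := Nat.pow_le_pow_right (by norm_num) hcon
    omega
  unfold Nat.ModEq at h3
  interval_cases k <;> simp_all

/-- with sixteen elements of square one, the group has exponent two -/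
theorem sq_eq_one_of_card_omega (h : Hyp ρ τ) (hc : ∀ a b : T, a * b = b * a)
    (h16 : Nat.card (omega hc) = 16) (x : T) : x * x = 1 := by
  -- `omega = S`
  have hle : omega hc ≤ h.S hc := h.omega_le_S hc
  have hSle : Nat.card (h.S hc) ≤ 16 :=
    (Subgroup.card_le_of_le (h.S_le_M hc)).trans h.card_M_le
  have hS : omega hc = h.S hc := Subgroup.eq_of_le_of_card_ge hle (by rw [h16]; exact hSle)
  by_contra hx
  -- an element of order four
  obtain ⟨x', hx'4, hx'2⟩ : ∃ x' : T, (x' * x') * (x' * x') = 1 ∧ x' * x' ≠ 1 := by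
    obtain ⟨k, hk⟩ := h.two x
    have hk2 : 2 ≤ k := by
      by_contra hcon
      push Not at hcon
      apply hx
      have : x ^ 2 = 1 := by
        have h2 : (2 : ℕ) ^ k ∣ 2 := by
          interval_cases k
          · norm_num
          · norm_num
        obtain ⟨c, hc'⟩ := h2
        rw [hc', pow_mul, hk, one_pow]
      rw [← this, pow_two]
    obtain ⟨j, rfl⟩ : ∃ j, k = j + 2 := ⟨k - 2, by omega⟩
    -- choose `j` minimal
    induction j generalizing x with
    | zero =>
      refine ⟨x, ?_, hx⟩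
      have : x ^ 2 ^ (0 + 2) = x * x * (x * x) := by
        norm_num [pow_succ]
        group
      rw [← this]; exact hk
    | succ j ih =>
      by_cases h2 : (x * x) * (x * x) = 1
      · exact ⟨x, h2, hx⟩
      · apply ih (x * x) h2
        · have : (x * x) ^ 2 ^ (j + 2) = x ^ 2 ^ (j + 1 + 2) := by
            rw [← pow_two, ← pow_mul]
            congr 1
            ring
          rw [this]; exact hk
        · omega
  -- the squares of the elements of order dividing four
  let U : Subgroup T :=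
    { carrier := {u | ∃ y : T, (y * y) * (y * y) = 1 ∧ y * y = u}
      one_mem' := ⟨1, by simp, by simp⟩
      mul_mem' := by
        rintro a b ⟨y, hy4, rfl⟩ ⟨z, hz4, rfl⟩
        refine ⟨y * z, ?_, (sqHom hc).map_mul y z⟩
        have e : y * z * (y * z) = (y * y) * (z * z) := (sqHom hc).map_mul y z
        rw [e]
        have e2 : (y * y) * (z * z) * ((y * y) * (z * z)) = ((y * y) * (y * y)) * ((z * z) * (z * z)) :=
          (sqHom hc).map_mul (y * y) (z * z)
        rw [e2, hy4, hz4, mul_one]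
      inv_mem' := by
        rintro a ⟨y, hy4, rfl⟩
        refine ⟨y⁻¹, ?_, ?_⟩
        · have : y⁻¹ * y⁻¹ * (y⁻¹ * y⁻¹) = ((y * y) * (y * y))⁻¹ := by group
          rw [this, hy4, inv_one]
        · group }
  have hUρ : ∀ u ∈ U, ρ u ∈ U := by
    rintro u ⟨y, hy4, rfl⟩
    refine ⟨ρ y, ?_, ?_⟩
    · rw [← map_mul, ← map_mul, hy4, map_one]
    · rw [map_mul]
  have hUτ : ∀ u ∈ U, τ u ∈ U := by
    rintro u ⟨y, hy4, rfl⟩
    refine ⟨τ y, ?_, ?_⟩
    · rw [← map_mul, ← map_mul, hy4, map_one]
    · rw [map_mul]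
  have hUne : U ≠ ⊥ := by
    intro hb
    have : x' * x' ∈ U := ⟨x', hx'4, rfl⟩
    rw [hb, Subgroup.mem_bot] at this
    exact hx'2 this
  have hVU := h.V_le_of_invariant U hUρ hUτ hUne
  -- a nontrivial element of `V`
  obtain ⟨v, hv, hv1⟩ : ∃ v ∈ fixedSub τ, v ≠ 1 := by
    have hne : fixedSub τ ≠ ⊥ := by
      intro hb
      have := h.card
      rw [hb, Subgroup.card_bot] at this
      norm_num at this
    obtain ⟨w, hw⟩ := (Subgroup.ne_bot_iff_exists_ne_one).mp hne
    exact ⟨w.1, w.2, fun h' => hw (Subtype.ext h')⟩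
  obtain ⟨y, -, hyv⟩ := hVU hv
  have hyS : y ∈ h.S hc := by rw [mem_S, hyv]; exact hv
  rw [← hS, mem_omega] at hyS
  exact hv1 (hyv ▸ hyS)

/-- in the second case the group has order sixteen -/
theorem card_of_card_omega (h : Hyp ρ τ) (hc : ∀ a b : T, a * b = b * a)
    (h16 : Nat.card (omega hc) = 16) : Nat.card T = 16 := by
  have : omega hc = ⊤ := eq_top_iff.mpr fun x _ => h.sq_eq_one_of_card_omega hc h16 x
  rw [← h16, this, Subgroup.card_top]

end Hyp

end Cfsg.Agent.Lib.Helper6.TR
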