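import Mathlib
import Cfsg.Agent.Lib.Helper6.TRC

set_option autoImplicit false

/-! If the quotient by the fixed points of `τ` is commutative with exactly four elements of
square one, the group is commutative. -/

namespace Cfsg.Agent.Lib.Helper6.TR

open Subgroup Cfsg.Agent.Lib.Helper6.Fpf3
open scoped commutatorElement

variable {T : Type*} [Group T] [Finite T] {ρ τ : MulAut T}

namespace Hyp

/-- commutators lie in the fixed points when the quotient is commutative -/
theorem comm_mem_V (h : Hyp ρ τ) [(fixedSub τ).Normal]
    (hc : ∀ a b : T ⧸ fixedSub τ, a * b = b * a) (x y : T) : ⁅x, y⁆ ∈ fixedSub τ := by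
  rw [← QuotientGroup.eq_one_iff, commutatorElement_def]
  simp only [QuotientGroup.mk_mul, QuotientGroup.mk_inv]
  rw [hc (x : T ⧸ fixedSub τ) y]
  group

/-- squares are central when the quotient is commutative -/
theorem sq_mem_center (h : Hyp ρ τ) [(fixedSub τ).Normal]
    (hc : ∀ a b : T ⧸ fixedSub τ, a * b = b * a) (x : T) : x * x ∈ center T := by
  rw [Subgroup.mem_center_iff]
  intro y
  have hcV := h.comm_mem_V hc x y
  set c := ⁅x, y⁆ with hcdef
  have h1 : x * y = c * y * x := by rw [hcdef, commutatorElement_def]; group
  have hcc : c * c = 1 := h.sqV hcV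
  have hcx : c * x = x * c := h.centralV hcV x
  symm
  calc x * x * y = x * (x * y) := by group
    _ = x * (c * y * x) := by rw [h1]
    _ = (x * c) * y * x := by group
    _ = (c * x) * y * x := by rw [hcx]
    _ = c * (x * y) * x := by group
    _ = c * (c * y * x) * x := by rw [h1]
    _ = (c * c) * y * x * x := by group
    _ = y * (x * x) := by rw [hcc]; group

/-- **the rank two case** -/
theorem comm_of_quot (h : Hyp ρ τ) [(fixedSub τ).Normal]
    (hc : ∀ a b : T ⧸ fixedSub τ, a * b = b * a) (h4 : Nat.card (omega hc) = 4) :
    ∀ a b : T, a * b = b * a := by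
  -- the squares of the quotient
  have hidx : (sqHom hc).range.index = 4 := by
    have h1 := Subgroup.card_mul_index (sqHom hc).ker
    rw [Subgroup.index_ker, ker_sqHom, h4] at h1
    have h2 := Subgroup.card_mul_index (sqHom hc).range
    have hpos : 0 < Nat.card (sqHom hc).range := Nat.card_pos
    have : Nat.card (sqHom hc).range * (sqHom hc).range.index = Nat.card (sqHom hc).range * 4 := by
      rw [h2, ← h1, mul_comm]
    exact Nat.eq_of_mul_eq_mul_left hpos this
  let P : Subgroup T := (sqHom hc).range.comap (QuotientGroup.mk' (fixedSub τ))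
  have hPidx : P.index = 4 := by
    rw [← hidx]
    exact Subgroup.index_comap_of_surjective _ (QuotientGroup.mk'_surjective _)
  have hPle : P ≤ center T := by
    intro t ht
    obtain ⟨yb, hyb⟩ : ∃ yb, sqHom hc yb = (t : T ⧸ fixedSub τ) := ht
    induction yb using QuotientGroup.induction_on with
    | H y =>
      have h1 : ((y * y : T) : T ⧸ fixedSub τ) = (t : T ⧸ fixedSub τ) := hyb
      rw [QuotientGroup.eq] at h1
      have h2 : t = (y * y) * ((y * y)⁻¹ * t) := by group
      rw [h2]
      exact Subgroup.mul_mem _ (h.sq_mem_center hc y) (h.cen h1)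
  have hdvd : (center T).index ∣ 4 := hPidx ▸ Subgroup.index_dvd_of_le hPle
  have hne4 := h.fpf.index_center_ne_four
  have hcases : (center T).index = 1 ∨ (center T).index = 2 ∨ (center T).index = 4 := by
    have hle : (center T).index ≤ 4 := Nat.le_of_dvd (by norm_num) hdvd
    interval_cases ((center T).index) <;> simp_all
  have h1 : (center T).index = 1 := by
    rcases hcases with h1 | h2 | h4'
    · exact h1
    · exfalso
      have hm := Subgroup.card_mul_index (center T)
      rw [h2] at hm
      have hZ := h.fpf.card_modEq (center T) (IsFpf3.center_invariant ρ)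
      have hT := h.fpf.card_modEq ⊤ (fun _ _ => Subgroup.mem_top _)
      rw [Subgroup.card_top] at hT
      unfold Nat.ModEq at hZ hT
      omega
    · exact absurd h4' hne4
  have htop : center T = ⊤ := Subgroup.index_eq_one.mp h1
  intro a b
  have : a ∈ center T := htop ▸ Subgroup.mem_top a
  exact ((Subgroup.mem_center_iff.mp this) b).symm

end Hyp

end Cfsg.Agent.Lib.Helper6.TR
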