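import Mathlib
import Cfsg.Agent.Lib.Helper6.TRD

set_option autoImplicit false

/-! The quotient by the fixed points of `τ` is not a nonabelian group of order `64`. -/

namespace Cfsg.Agent.Lib.Helper6.TR

open Subgroup Cfsg.Agent.Lib.Helper6.Fpf3
open scoped commutatorElement

section general

variable {T : Type*} [Group T]

/-- if `g` and `k` commute and the commutators `⁅g, h⁆`, `⁅k, h⁆` commute, then
`⁅g, ⁅k, h⁆⁆ = ⁅k, ⁅g, h⁆⁆` -/
theorem comm_swap_of_commute {g k h : T} (hgk : g * k = k * g)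
    (hab : ⁅g, h⁆ * ⁅k, h⁆ = ⁅k, h⁆ * ⁅g, h⁆) : ⁅g, ⁅k, h⁆⁆ = ⁅k, ⁅g, h⁆⁆ := by
  set a := ⁅g, h⁆ with ha
  set b := ⁅k, h⁆ with hb
  have e1 : g * h * g⁻¹ = a * h := by rw [ha, commutatorElement_def]; group
  have e2 : k * h * k⁻¹ = b * h := by rw [hb, commutatorElement_def]; group
  have e3 : (g * k) * h * (g * k)⁻¹ = (g * b * g⁻¹) * a * h := by
    calc (g * k) * h * (g * k)⁻¹ = g * (k * h * k⁻¹) * g⁻¹ := by group
      _ = g * (b * h) * g⁻¹ := by rw [e2]
      _ = (g * b * g⁻¹) * (g * h * g⁻¹) := by group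
      _ = (g * b * g⁻¹) * (a * h) := by rw [e1]
      _ = (g * b * g⁻¹) * a * h := by group
  have e4 : (k * g) * h * (k * g)⁻¹ = (k * a * k⁻¹) * b * h := by
    calc (k * g) * h * (k * g)⁻¹ = k * (g * h * g⁻¹) * k⁻¹ := by group
      _ = k * (a * h) * k⁻¹ := by rw [e1]
      _ = (k * a * k⁻¹) * (k * h * k⁻¹) := by group
      _ = (k * a * k⁻¹) * (b * h) := by rw [e2]
      _ = (k * a * k⁻¹) * b * h := by group
  rw [hgk, e4] at e3
  have e5 : (k * a * k⁻¹) * b = (g * b * g⁻¹) * a := mul_right_cancel e3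
  rw [commutatorElement_def, commutatorElement_def]
  calc g * b * g⁻¹ * b⁻¹ = ((g * b * g⁻¹) * a) * a⁻¹ * b⁻¹ := by group
    _ = ((k * a * k⁻¹) * b) * a⁻¹ * b⁻¹ := by rw [e5]
    _ = (k * a * k⁻¹) * (b * a⁻¹ * b⁻¹) := by group
    _ = (k * a * k⁻¹) * a⁻¹ := by
        have : b * a⁻¹ * b⁻¹ = a⁻¹ := by
          have h1 : b * a⁻¹ = a⁻¹ * b := by
            calc b * a⁻¹ = a⁻¹ * (a * b) * a⁻¹ := by group
              _ = a⁻¹ * (b * a) * a⁻¹ := by rw [hab]
              _ = a⁻¹ * b := by group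
          rw [h1]; group
        rw [this]
    _ = k * a * k⁻¹ * a⁻¹ := by group

/-- a central factor can be dropped from a commutator -/
theorem comm_mul_central {g n v : T} (hv : ∀ t : T, v * t = t * v) : ⁅g, n * v⁆ = ⁅g, n⁆ := by
  rw [commutatorElement_def, commutatorElement_def]
  calc g * (n * v) * g⁻¹ * (n * v)⁻¹ = g * n * (v * g⁻¹) * v⁻¹ * n⁻¹ := by group
    _ = g * n * (g⁻¹ * v) * v⁻¹ * n⁻¹ := by rw [hv]
    _ = g * n * g⁻¹ * n⁻¹ := by group

end general

variable {T : Type*} [Group T] [Finite T] {ρ τ : MulAut T}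

namespace Hyp

/-- **no quotient of order `64` that is not commutative** -/
theorem false_of_quot_special (h : Hyp ρ τ) [(fixedSub τ).Normal]
    (hq : Nat.card (T ⧸ fixedSub τ) = 64)
    (hna : ¬ ∀ a b : T ⧸ fixedSub τ, a * b = b * a) : False := by
  have hne : fixedSub τ ≠ ⊤ := by
    intro htop
    have h1 : Nat.card (T ⧸ fixedSub τ) = 1 := by
      rw [← Subgroup.index_eq_card, htop, Subgroup.index_top]
    omega
  have hq' : Hyp h.ρq h.τq := h.quot hne
  have hs : IsSpecial64 h.ρq :=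
    isSpecial64 h.ρq_fpf hq (fun hcomm => hna (fun a b => hcomm.is_comm.comm a b))
  -- the centre of the quotient is the set of fixed points of `τ`
  have hZ : fixedSub h.τq = center (T ⧸ fixedSub τ) :=
    Subgroup.eq_of_le_of_card_ge hq'.cen (by rw [hs.cardZ, hq'.card])
  have hM : ∀ y : T, y ∈ h.M ↔ (y : T ⧸ fixedSub τ) ∈ center (T ⧸ fixedSub τ) := by
    intro y
    rw [← hZ, h.mem_fixedSub_τq]
  have hmk_comm : ∀ x y : T, ((⁅x, y⁆ : T) : T ⧸ fixedSub τ) =
      ⁅(x : T ⧸ fixedSub τ), (y : T ⧸ fixedSub τ)⁆ := fun x y =>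
    map_commutatorElement (QuotientGroup.mk' (fixedSub τ)) x y
  have hcommM : ∀ x y : T, ⁅x, y⁆ ∈ h.M := by
    intro x y
    rw [hM, hmk_comm]
    exact hs.comm_mem _ _
  have hρM : ∀ y : T, y ∈ h.M ↔ ρ y ∈ h.M := by
    intro y
    rw [hM, hM]
    constructor
    · intro hy
      exact IsFpf3.center_invariant h.ρq _ hy
    · intro hy
      exact IsFpf3.mem_center_of_rho_mem h.ρq hy
  -- Step 1
  have step1 : ∀ g y : T, ⁅ρ g, ⁅g, y⁆⁆ = 1 := by
    intro g y
    set a := ⁅g, y⁆ with ha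
    set b := ⁅ρ g, y⁆ with hb
    have hgk : g * ρ g = ρ g * g := h.fpf.commute g
    -- `b = ρ (ρ a) * v`
    have hbv : (ρ (ρ a))⁻¹ * b ∈ fixedSub τ := by
      rw [← QuotientGroup.eq]
      have e1 : ((b : T) : T ⧸ fixedSub τ) = h.ρq (h.ρq ((a : T) : T ⧸ fixedSub τ)) := by
        rw [hb, ha, hmk_comm, hmk_comm, ← h.ρq_mk, hs.comm_rho_left, hs.comm_rho_right]
      rw [e1]
      rfl
    set v := (ρ (ρ a))⁻¹ * b with hv
    have hbeq : b = ρ (ρ a) * v := by rw [hv]; group
    have hvc : ∀ t : T, v * t = t * v := fun t => h.centralV hbv t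
    have haρ : a * ρ a = ρ a * a := h.fpf.commute a
    have hρρ : ρ (ρ a) = (a * ρ a)⁻¹ := h.fpf.rho_rho a
    have hab : a * b = b * a := by
      rw [hbeq, hρρ]
      calc a * ((a * ρ a)⁻¹ * v) = a * (ρ a)⁻¹ * a⁻¹ * v := by group
        _ = (ρ a)⁻¹ * (ρ a * a) * (ρ a)⁻¹ * a⁻¹ * v := by group
        _ = (ρ a)⁻¹ * (a * ρ a) * (ρ a)⁻¹ * a⁻¹ * v := by rw [haρ]
        _ = (ρ a)⁻¹ * (a⁻¹ * (a * v)) := by group
        _ = (ρ a)⁻¹ * (a⁻¹ * (v * a)) := by rw [hvc a]
        _ = (a * ρ a)⁻¹ * v * a := by group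
    have key := comm_swap_of_commute (g := g) (k := ρ g) (h := y) hgk hab
    rw [← hb, ← ha] at key
    -- `⁅g, b⁆ = ρ (ρ ⁅ρ g, a⁆)`
    have e3 : ρ (ρ ⁅ρ g, a⁆) = ⁅g, ρ (ρ a)⁆ := by
      rw [map_commutatorElement, map_commutatorElement, h.fpf.cube]
    have e2 : ⁅g, b⁆ = ρ (ρ ⁅ρ g, a⁆) := by
      rw [hbeq, comm_mul_central hvc, e3]
    rw [e2] at key
    set w := ⁅ρ g, a⁆ with hw
    have : ρ w = w := by
      have := congrArg ρ key
      rw [h.fpf.cube] at this
      exact this.symm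
    exact h.fpf.fpf w this
  -- every element of `M` is a commutator with a given element outside `M`, modulo `V`
  have hrep : ∀ g : T, g ∉ h.M → ∀ m ∈ h.M, ∃ y : T, (⁅g, y⁆)⁻¹ * m ∈ fixedSub τ := by
    intro g hg m hm
    rw [hM] at hg hm
    obtain ⟨c, hc⟩ : ∃ c : T ⧸ fixedSub τ, ⁅(g : T ⧸ fixedSub τ), c⁆ ≠ 1 := by
      by_contra hcon
      push Not at hcon
      exact hg (IsSpecial64.mem_center_of_comm hcon)
    have hwZ := hs.comm_mem (g : T ⧸ fixedSub τ) c
    have key : ∃ yb : T ⧸ fixedSub τ, ⁅(g : T ⧸ fixedSub τ), yb⁆ = (m : T ⧸ fixedSub τ) := by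
      rcases hs.center_cases hwZ hc hm with h1 | h1 | h1 | h1
      · exact ⟨1, by rw [h1, commutatorElement_one_right]⟩
      · exact ⟨c, h1.symm⟩
      · refine ⟨h.ρq (h.ρq c), ?_⟩
        rw [h1, hs.comm_rho_right, hs.comm_rho_right, h.ρq_fpf.cube]
      · exact ⟨h.ρq c, by rw [h1, hs.comm_rho_right]⟩
    obtain ⟨yb, hyb⟩ := key
    induction yb using QuotientGroup.induction_on with
    | H y =>
      refine ⟨y, ?_⟩
      rw [← QuotientGroup.eq, hmk_comm]
      exact hyb
  -- an element outside `M`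
  obtain ⟨g₀, hg₀⟩ : ∃ g₀ : T, g₀ ∉ h.M := by
    by_contra hcon
    push Not at hcon
    have htop : h.M = ⊤ := eq_top_iff.mpr fun g _ => hcon g
    have h1 := h.card_M_le
    rw [htop, Subgroup.card_top] at h1
    have h2 := h.card_quot
    omega
  -- elements outside `M` centralize `M`
  have hcent1 : ∀ g : T, g ∉ h.M → ∀ m ∈ h.M, g * m = m * g := by
    intro g hg m hm
    -- write `g = ρ g'`
    have hg' : ρ (ρ g) ∉ h.M := fun hcon => hg ((hρM _).mpr ((hρM _).mpr hcon))
    obtain ⟨y, hy⟩ := hrep (ρ (ρ g)) hg' m hm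
    have h1 := step1 (ρ (ρ g)) y
    rw [h.fpf.cube] at h1
    set a := ⁅ρ (ρ g), y⁆ with ha
    have hm' : m = a * (a⁻¹ * m) := by group
    have h2 : ⁅g, m⁆ = 1 := by
      rw [hm', comm_mul_central (fun t => h.centralV hy t), h1]
    rw [commutatorElement_def] at h2
    calc g * m = (g * m * g⁻¹ * m⁻¹) * m * g := by group
      _ = m * g := by rw [h2, one_mul]
  have hMcen : h.M ≤ center T := by
    intro m hm
    rw [Subgroup.mem_center_iff]
    intro t
    by_cases ht : t ∈ h.M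
    · have h1 : t * g₀ ∉ h.M := fun hcon => hg₀ (by
        have := h.M.mul_mem (h.M.inv_mem ht) hcon
        simpa using this)
      have h2 := hcent1 _ h1 m hm
      have h3 := hcent1 _ hg₀ m hm
      calc t * m = t * (m * g₀) * g₀⁻¹ := by group
        _ = t * (g₀ * m) * g₀⁻¹ := by rw [h3]
        _ = (t * g₀ * m) * g₀⁻¹ := by group
        _ = (m * (t * g₀)) * g₀⁻¹ := by rw [h2]
        _ = m * t := by group
    · exact hcent1 t ht m hm
  -- Step 2: commutators are involutions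
  have hsqM : ∀ x : T, x * x ∈ h.M := by
    intro x
    rw [hM]
    exact hs.sq_mem (x : T ⧸ fixedSub τ)
  have hcomm2 : ∀ x y : T, ⁅x, y⁆ * ⁅x, y⁆ = 1 := by
    intro x y
    set c := ⁅x, y⁆ with hc
    have hcZ : ∀ t : T, c * t = t * c := fun t =>
      ((Subgroup.mem_center_iff.mp (hMcen (hcommM x y))) t).symm
    have hxx : ∀ t : T, (x * x) * t = t * (x * x) := fun t =>
      ((Subgroup.mem_center_iff.mp (hMcen (hsqM x))) t).symm
    have h1 : x * y = c * y * x := by rw [hc, commutatorElement_def]; group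
    have h2 : (x * x) * y = c * c * (y * (x * x)) := by
      calc (x * x) * y = x * (x * y) := by group
        _ = x * (c * y * x) := by rw [h1]
        _ = (x * c) * y * x := by group
        _ = (c * x) * y * x := by rw [hcZ x]
        _ = c * (x * y) * x := by group
        _ = c * (c * y * x) * x := by rw [h1]
        _ = c * c * (y * (x * x)) := by group
    rw [hxx y] at h2
    have := mul_right_cancel (a := (1 : T)) (b := y * (x * x)) (c := c * c) (by rw [one_mul]; exact h2)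
    exact this.symm
  have hexpM : ∀ m ∈ h.M, m * m = 1 := by
    intro m hm
    obtain ⟨y, hy⟩ := hrep g₀ hg₀ m hm
    set a := ⁅g₀, y⁆ with ha
    have hm' : m = a * (a⁻¹ * m) := by group
    have hv2 := h.sqV hy
    have hvc := h.centralV hy a
    rw [hm']
    calc a * (a⁻¹ * m) * (a * (a⁻¹ * m)) = a * ((a⁻¹ * m) * a) * (a⁻¹ * m) := by group
      _ = a * (a * (a⁻¹ * m)) * (a⁻¹ * m) := by rw [hvc]
      _ = (a * a) * ((a⁻¹ * m) * (a⁻¹ * m)) := by group
      _ = 1 := by rw [hcomm2, hv2, mul_one]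
  -- a fixed point of `τ` outside the centre of the quotient, modulo the centre
  let E := (T ⧸ fixedSub τ) ⧸ center (T ⧸ fixedSub τ)
  let τE : MulAut E := IsFpf3.quot h.τq (center (T ⧸ fixedSub τ)) (IsFpf3.center_invariant h.τq)
  have hτE2 : ∀ e : E, τE (τE e) = e := by
    intro e
    induction e using QuotientGroup.induction_on with
    | H e =>
      show IsFpf3.quot h.τq _ _ (IsFpf3.quot h.τq _ _ (e : E)) = (e : E)
      rw [IsFpf3.quot_mk, IsFpf3.quot_mk, h.τq_τq]
  have hE2 : IsPGroup 2 E := hq'.two.to_quotient _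
  have hEne : (⊤ : Subgroup E) ≠ ⊥ := by
    intro hcon
    have h1 : Nat.card E = 1 := by
      rw [← Subgroup.card_top (G := E), hcon, Subgroup.card_bot]
    have h2 : Nat.card E * 4 = 64 := by
      rw [← hs.cardZ, ← hq, ← Subgroup.index_eq_card, mul_comm]
      exact Subgroup.card_mul_index _
    omega
  obtain ⟨e, -, he1, hef⟩ := exists_fixed hE2 τE hτE2 ⊤ (fun _ _ => Subgroup.mem_top _) hEne
  induction e using QuotientGroup.induction_on with
  | H xb =>
    induction xb using QuotientGroup.induction_on with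
    | H x =>
      have hxM : x ∉ h.M := by
        intro hcon
        rw [hM] at hcon
        exact he1 ((QuotientGroup.eq_one_iff _).mpr hcon)
      have h1 : ((x : T ⧸ fixedSub τ))⁻¹ * h.τq (x : T ⧸ fixedSub τ) ∈
          center (T ⧸ fixedSub τ) := by
        have : ((h.τq (x : T ⧸ fixedSub τ) : T ⧸ fixedSub τ) : E) =
            (((x : T ⧸ fixedSub τ)) : E) := hef
        rw [eq_comm, QuotientGroup.eq] at this
        exact this
      have h2 : x⁻¹ * τ x ∈ h.M := by
        rw [hM]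
        exact h1
      set m := x⁻¹ * τ x with hm
      have h3 : τ m = m⁻¹ := by
        rw [hm, map_mul, map_inv, h.tau2]; group
      have h4 : m⁻¹ = m := inv_eq_of_mul_eq_one_left (hexpM m h2)
      rw [h4] at h3
      exact hxM h3

end Hyp

end Cfsg.Agent.Lib.Helper6.TR
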