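import Mathlib
import Cfsg.Agent.Lib.Helper6.TRE
import Cfsg.Agent.Lib.Helper1.MetacyclicTwoAbelian

set_option autoImplicit false

/-! The group is commutative or of order `64`; the commutative groups are classified. -/

namespace Cfsg.Agent.Lib.Helper6.TR

open Subgroup Cfsg.Agent.Lib.Helper6.Fpf3
open scoped commutatorElement

universe u

/-- **commutative or of order `64`** -/
theorem comm_or_card : ∀ (n : ℕ) (T : Type u) [Group T] [Finite T] (ρ τ : MulAut T),
    Nat.card T = n → Hyp ρ τ → (∀ a b : T, a * b = b * a) ∨ Nat.card T = 64 := by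
  intro n
  induction n using Nat.strong_induction_on with
  | _ n ih =>
    intro T _ _ ρ τ hn h
    by_cases htop : fixedSub τ = ⊤
    · left
      intro a b
      have ha : a ∈ center T := h.cen (htop ▸ Subgroup.mem_top a)
      exact ((Subgroup.mem_center_iff.mp ha) b).symm
    · haveI := h.normalV
      have hq := h.quot htop
      have hcard := h.card_quot
      have hpos : 0 < Nat.card (T ⧸ fixedSub τ) := Nat.card_pos
      have hlt : Nat.card (T ⧸ fixedSub τ) < n := by omega
      have hcomm : (∀ a b : T ⧸ fixedSub τ, a * b = b * a) →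
          (∀ a b : T, a * b = b * a) ∨ Nat.card T = 64 := by
        intro hc
        rcases hq.card_omega hc with h4 | h16
        · left; exact h.comm_of_quot hc h4
        · right
          have := hq.card_of_card_omega hc h16
          omega
      rcases ih _ hlt (T ⧸ fixedSub τ) h.ρq h.τq rfl hq with hc | h64
      · exact hcomm hc
      · by_cases hc : ∀ a b : T ⧸ fixedSub τ, a * b = b * a
        · exact hcomm hc
        · exact (h.false_of_quot_special h64 hc).elim

/-- a commutative `2`-group with at most four elements of square one and exponent dividing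
`2 ^ k` has order at most `4 ^ k` -/
theorem card_le_four_pow : ∀ (k : ℕ) (A : Type u) [Group A] [Finite A]
    (hc : ∀ a b : A, a * b = b * a), Nat.card (omega hc) ≤ 4 → (∀ y : A, y ^ 2 ^ k = 1) →
    Nat.card A ≤ 4 ^ k := by
  intro k
  induction k with
  | zero =>
    intro A _ _ hc _ hexp
    have : Subsingleton A := by
      constructor
      intro a b
      have ha := hexp a
      have hb := hexp b
      rw [pow_zero, pow_one] at ha hb
      rw [ha, hb]
    rw [pow_zero]
    exact le_of_eq (Nat.card_of_subsingleton 1)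
  | succ k ih =>
    intro A _ _ hc hΩ hexp
    let R : Subgroup A := (sqHom hc).range
    have hcR : ∀ a b : R, a * b = b * a := fun a b => Subtype.ext (hc _ _)
    have hΩR : Nat.card (omega hcR) ≤ 4 := by
      refine le_trans ?_ hΩ
      apply Nat.card_le_card_of_injective
        (fun r : omega hcR => (⟨((r : R) : A), by
          have := r.2
          rw [mem_omega] at this
          rw [mem_omega]
          exact congrArg Subtype.val this⟩ : omega hc))
      intro a b hab
      apply Subtype.ext
      apply Subtype.ext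
      have := congrArg Subtype.val hab
      exact this
    have hexpR : ∀ r : R, r ^ 2 ^ k = 1 := by
      rintro ⟨r, y, rfl⟩
      apply Subtype.ext
      show (sqHom hc y) ^ 2 ^ k = 1
      have : sqHom hc y = y ^ 2 := by rw [pow_two]; rfl
      rw [this, ← pow_mul, ← pow_succ']
      exact hexp y
    have h1 := ih R hcR hΩR hexpR
    have h2 := Subgroup.card_mul_index (sqHom hc).ker
    rw [Subgroup.index_ker, ker_sqHom] at h2
    calc Nat.card A = Nat.card (omega hc) * Nat.card R := h2.symm
      _ ≤ 4 * 4 ^ k := Nat.mul_le_mul hΩ h1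
      _ = 4 ^ (k + 1) := by ring

variable {T : Type u} [Group T] [Finite T] {ρ τ : MulAut T}

/-- **the commutative groups** -/
theorem Hyp.comm_class (h : Hyp ρ τ) (hc : ∀ a b : T, a * b = b * a) :
    (Nat.card T = 16 ∧ ∀ x : T, x * x = 1) ∨
      ∃ n : ℕ, 1 ≤ n ∧
        Nonempty (T ≃* Multiplicative (ZMod (2 ^ n)) × Multiplicative (ZMod (2 ^ n))) := by
  rcases h.card_omega hc with h4 | h16
  swap
  · left
    exact ⟨h.card_of_card_omega hc h16, h.sq_eq_one_of_card_omega hc h16⟩
  right
  have : Fact (Nat.Prime 2) := ⟨Nat.prime_two⟩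
  haveI : IsMulCommutative T := ⟨⟨hc⟩⟩
  obtain ⟨x, hx⟩ := Finite.exists_max (fun y : T => orderOf y)
  obtain ⟨k, hk⟩ := (IsPGroup.iff_orderOf.mp h.two) x
  have hexp : ∀ y : T, y ^ 2 ^ k = 1 := by
    intro y
    obtain ⟨j, hj⟩ := (IsPGroup.iff_orderOf.mp h.two) y
    have hle := hx y
    rw [hj, hk] at hle
    have hjk : j ≤ k := (Nat.pow_le_pow_iff_right (by norm_num)).mp hle
    apply orderOf_dvd_iff_pow_eq_one.mp
    rw [hj]
    exact pow_dvd_pow 2 hjk
  -- a nontrivial element
  obtain ⟨v, hv, hv1⟩ : ∃ v ∈ fixedSub τ, v ≠ 1 := by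
    have hne : fixedSub τ ≠ ⊥ := by
      intro hb
      have := h.card
      rw [hb, Subgroup.card_bot] at this
      norm_num at this
    obtain ⟨w, hw⟩ := (Subgroup.ne_bot_iff_exists_ne_one).mp hne
    exact ⟨w.1, w.2, fun h' => hw (Subtype.ext h')⟩
  have hk1 : 1 ≤ k := by
    by_contra hcon
    push Not at hcon
    have hk0 : k = 0 := by omega
    have := hexp v
    rw [hk0, pow_zero, pow_one] at this
    exact hv1 this
  obtain ⟨n, rfl⟩ : ∃ n, k = n + 1 := ⟨k - 1, by omega⟩
  refine ⟨n + 1, hk1, ?_⟩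
  have hxn : x ^ 2 ^ n ≠ 1 := by
    intro hcon
    have := orderOf_dvd_of_pow_eq_one hcon
    rw [hk] at this
    have h2 := (Nat.pow_dvd_pow_iff_le_right (by norm_num : 1 < 2)).mp this
    omega
  have hρxn : (ρ x) ^ 2 ^ n ≠ 1 := by
    rw [← map_pow]
    exact IsFpf3.rho_ne_one hxn
  have hne : x ^ 2 ^ n ≠ (ρ x) ^ 2 ^ n := by
    rw [← map_pow]
    exact fun hcon => h.fpf.ne_of_ne_one hxn hcon.symm
  have hρexp : (ρ x) ^ 2 ^ (n + 1) = 1 := hexp _
  have hinj := Cfsg.Agent.Lib.Helper1.dvd_of_pow_mul_pow_eq_one n x (ρ x) (hexp x) hρexp hxn hρxn hne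
  have hcard : Nat.card T ≤ 2 ^ (n + 1) * 2 ^ (n + 1) := by
    have := card_le_four_pow (n + 1) T hc (le_of_eq h4) hexp
    calc Nat.card T ≤ 4 ^ (n + 1) := this
      _ = 2 ^ (n + 1) * 2 ^ (n + 1) := by
        rw [← mul_pow]; norm_num
  exact Cfsg.Agent.Lib.Helper1.nonempty_mulEquiv_zmod_prod (2 ^ (n + 1)) x (ρ x) (hexp x) hρexp
    hinj hcard

end Cfsg.Agent.Lib.Helper6.TR
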