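import Mathlib
import Cfsg.Agent.Lib.Helper6.Ext320A

set_option autoImplicit false

/-! Relations for the Sylow `2`-subgroup of `PSU(3, 4)`: an order bound and the uniqueness of a
group of order `64` generated by elements satisfying them. -/

namespace Cfsg.Agent.Lib.Helper6.TR

open Subgroup Cfsg.Agent.Lib.Helper6.Ext320

variable {H : Type*} [Group H]

/-- adjoining a generator normalizing the previous ones -/
theorem card_closure_insert_le [Finite H] (S : Set H) (x : H) (n : ℕ) (hn : 0 < n)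
    (hx : x ^ n ∈ closure S) (hnorm : ∀ s ∈ S, x * s * x⁻¹ ∈ closure S) :
    Nat.card (closure (insert x S)) ≤ n * Nat.card (closure S) := by
  have h1 : closure (insert x S) = closure S ⊔ zpowers x := by
    rw [Set.insert_eq, Subgroup.closure_union, Subgroup.zpowers_eq_closure, sup_comm]
  rw [h1]
  apply card_sup_zpowers_le (closure S) x n hn hx
  have hle : closure S ≤ (closure S).comap (MulAut.conj x).toMonoidHom := by
    rw [closure_le]
    intro s hs
    show (MulAut.conj x) s ∈ closure S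
    rw [MulAut.conj_apply]
    exact hnorm s hs
  intro k hk
  have := hle hk
  rw [Subgroup.mem_comap] at this
  simpa [MulAut.conj_apply] using this

/-- the relations -/
structure SRel (t₁ t₂ t₃ t₄ : H) : Prop where
  z1sq : (t₁ * t₁) * (t₁ * t₁) = 1
  z2sq : (t₂ * t₂) * (t₂ * t₂) = 1
  c21 : t₂ * t₁ * t₂⁻¹ = t₁
  c31 : t₃ * t₁ * t₃⁻¹ = (t₁ * t₁) * t₁
  c32 : t₃ * t₂ * t₃⁻¹ = (t₁ * t₁) * (t₂ * t₂) * t₂
  c41 : t₄ * t₁ * t₄⁻¹ = (t₁ * t₁) * (t₂ * t₂) * t₁
  c42 : t₄ * t₂ * t₄⁻¹ = (t₂ * t₂) * t₂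
  c43 : t₄ * t₃ * t₄⁻¹ = t₃
  sq3 : t₃ * t₃ = t₂ * t₂
  sq4 : t₄ * t₄ = (t₁ * t₁) * (t₂ * t₂)

namespace SRel

variable {t₁ t₂ t₃ t₄ : H}

/-- **the order bound** -/
theorem card_closure_le [Finite H] (h : SRel t₁ t₂ t₃ t₄) :
    Nat.card (closure ({t₄, t₃, t₂, t₁} : Set H)) ≤ 64 := by
  have m1 : t₁ ∈ closure ({t₁} : Set H) := subset_closure (Set.mem_singleton _)
  have m1' : t₁ ∈ closure ({t₂, t₁} : Set H) := subset_closure (by simp)
  have m2' : t₂ ∈ closure ({t₂, t₁} : Set H) := subset_closure (by simp)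
  have m1'' : t₁ ∈ closure ({t₃, t₂, t₁} : Set H) := subset_closure (by simp)
  have m2'' : t₂ ∈ closure ({t₃, t₂, t₁} : Set H) := subset_closure (by simp)
  have m3'' : t₃ ∈ closure ({t₃, t₂, t₁} : Set H) := subset_closure (by simp)
  -- first generator
  have h1 : Nat.card (closure ({t₁} : Set H)) ≤ 4 := by
    rw [← Subgroup.zpowers_eq_closure, Nat.card_zpowers]
    apply Nat.le_of_dvd (by norm_num)
    apply orderOf_dvd_of_pow_eq_one
    rw [← h.z1sq, pow_succ, pow_succ, pow_succ, pow_one]; group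
  -- second generator
  have h2 : Nat.card (closure ({t₂, t₁} : Set H)) ≤ 4 * Nat.card (closure ({t₁} : Set H)) := by
    apply card_closure_insert_le {t₁} t₂ 4 (by norm_num)
    · have : t₂ ^ 4 = 1 := by rw [← h.z2sq, pow_succ, pow_succ, pow_succ, pow_one]; group
      rw [this]; exact Subgroup.one_mem _
    · intro s hs
      rw [Set.mem_singleton_iff.mp hs, h.c21]
      exact m1
  -- third generator
  have h3 : Nat.card (closure ({t₃, t₂, t₁} : Set H)) ≤
      2 * Nat.card (closure ({t₂, t₁} : Set H)) := by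
    apply card_closure_insert_le {t₂, t₁} t₃ 2 (by norm_num)
    · rw [pow_two, h.sq3]
      exact Subgroup.mul_mem _ m2' m2'
    · intro s hs
      rcases hs with rfl | hs
      · rw [h.c32]
        exact Subgroup.mul_mem _ (Subgroup.mul_mem _ (Subgroup.mul_mem _ m1' m1')
          (Subgroup.mul_mem _ m2' m2')) m2'
      · rw [Set.mem_singleton_iff.mp hs, h.c31]
        exact Subgroup.mul_mem _ (Subgroup.mul_mem _ m1' m1') m1'
  -- fourth generator
  have h4 : Nat.card (closure ({t₄, t₃, t₂, t₁} : Set H)) ≤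
      2 * Nat.card (closure ({t₃, t₂, t₁} : Set H)) := by
    apply card_closure_insert_le {t₃, t₂, t₁} t₄ 2 (by norm_num)
    · rw [pow_two, h.sq4]
      exact Subgroup.mul_mem _ (Subgroup.mul_mem _ m1'' m1'') (Subgroup.mul_mem _ m2'' m2'')
    · intro s hs
      rcases hs with rfl | rfl | hs
      · rw [h.c43]; exact m3''
      · rw [h.c42]
        exact Subgroup.mul_mem _ (Subgroup.mul_mem _ m2'' m2'') m2''
      · rw [Set.mem_singleton_iff.mp hs, h.c41]
        exact Subgroup.mul_mem _ (Subgroup.mul_mem _ (Subgroup.mul_mem _ m1'' m1'')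
          (Subgroup.mul_mem _ m2'' m2'')) m1''
  omega

/-- the relations hold in a product when they hold in both factors -/
theorem prod {H₁ H₂ : Type*} [Group H₁] [Group H₂] {a₁ a₂ a₃ a₄ : H₁} {b₁ b₂ b₃ b₄ : H₂}
    (h₁ : SRel a₁ a₂ a₃ a₄) (h₂ : SRel b₁ b₂ b₃ b₄) :
    SRel ((a₁, b₁) : H₁ × H₂) (a₂, b₂) (a₃, b₃) (a₄, b₄) := by
  constructor
  · simp only [Prod.mk_mul_mk, h₁.z1sq, h₂.z1sq]; rfl
  · simp only [Prod.mk_mul_mk, h₁.z2sq, h₂.z2sq]; rfl
  · simp only [Prod.mk_mul_mk, Prod.inv_mk, h₁.c21, h₂.c21]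
  · simp only [Prod.mk_mul_mk, Prod.inv_mk, h₁.c31, h₂.c31]
  · simp only [Prod.mk_mul_mk, Prod.inv_mk, h₁.c32, h₂.c32]
  · simp only [Prod.mk_mul_mk, Prod.inv_mk, h₁.c41, h₂.c41]
  · simp only [Prod.mk_mul_mk, Prod.inv_mk, h₁.c42, h₂.c42]
  · simp only [Prod.mk_mul_mk, Prod.inv_mk, h₁.c43, h₂.c43]
  · simp only [Prod.mk_mul_mk, h₁.sq3, h₂.sq3]
  · simp only [Prod.mk_mul_mk, h₁.sq4, h₂.sq4]

end SRel

/-- **uniqueness**: two groups of order `64` generated by elements satisfying the relations are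
isomorphic -/
theorem nonempty_mulEquiv_of_srel {G₁ G₂ : Type*} [Group G₁] [Group G₂] [Finite G₁] [Finite G₂]
    {a₁ a₂ a₃ a₄ : G₁} {b₁ b₂ b₃ b₄ : G₂} (h₁ : SRel a₁ a₂ a₃ a₄) (h₂ : SRel b₁ b₂ b₃ b₄)
    (hc₁ : Nat.card G₁ = 64) (hc₂ : Nat.card G₂ = 64)
    (hg₁ : closure ({a₄, a₃, a₂, a₁} : Set G₁) = ⊤)
    (hg₂ : closure ({b₄, b₃, b₂, b₁} : Set G₂) = ⊤) : Nonempty (G₁ ≃* G₂) := by
  let D : Subgroup (G₁ × G₂) := closure {(a₄, b₄), (a₃, b₃), (a₂, b₂), (a₁, b₁)}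
  have hD : Nat.card D ≤ 64 := (h₁.prod h₂).card_closure_le
  have hp1 : D.map (MonoidHom.fst G₁ G₂) = ⊤ := by
    rw [MonoidHom.map_closure, ← hg₁]
    congr 1
    ext g
    simp [Set.image_insert_eq]
  have hp2 : D.map (MonoidHom.snd G₁ G₂) = ⊤ := by
    rw [MonoidHom.map_closure, ← hg₂]
    congr 1
    ext g
    simp [Set.image_insert_eq]
  let f₁ : D →* G₁ := (MonoidHom.fst G₁ G₂).comp D.subtype
  let f₂ : D →* G₂ := (MonoidHom.snd G₁ G₂).comp D.subtype
  have hs₁ : Function.Surjective f₁ := by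
    intro g
    have : g ∈ D.map (MonoidHom.fst G₁ G₂) := hp1 ▸ Subgroup.mem_top g
    obtain ⟨d, hd, rfl⟩ := this
    exact ⟨⟨d, hd⟩, rfl⟩
  have hs₂ : Function.Surjective f₂ := by
    intro g
    have : g ∈ D.map (MonoidHom.snd G₁ G₂) := hp2 ▸ Subgroup.mem_top g
    obtain ⟨d, hd, rfl⟩ := this
    exact ⟨⟨d, hd⟩, rfl⟩
  have hb₁ : Function.Bijective f₁ :=
    (Function.Surjective.bijective_of_nat_card_le hs₁ (by rw [hc₁]; exact hD))
  have hb₂ : Function.Bijective f₂ :=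
    (Function.Surjective.bijective_of_nat_card_le hs₂ (by rw [hc₂]; exact hD))
  exact ⟨(MulEquiv.ofBijective f₁ hb₁).symm.trans (MulEquiv.ofBijective f₂ hb₂)⟩

end Cfsg.Agent.Lib.Helper6.TR
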