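import Mathlib
import Cfsg.Agent.Lib.Helper6.TRG
import Cfsg.Agent.Lib.Helper6.TRA

set_option autoImplicit false

/-! A special group of order `64` with a fixed-point-free automorphism of order three all of
whose involutions are central is generated by four elements satisfying the relations `SRel`. -/

namespace Cfsg.Agent.Lib.Helper6.TR

open Subgroup Cfsg.Agent.Lib.Helper6.Fpf3
open scoped commutatorElement

variable {T : Type*} [Group T] [Finite T] {ρ : MulAut T}

/-- commutators with a noncentral element exhaust the centre -/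
theorem exists_comm_eq (hs : IsSpecial64 ρ) {a : T} (ha : a ∉ center T) {z : T}
    (hz : z ∈ center T) : ∃ y : T, ⁅a, y⁆ = z := by
  obtain ⟨c, hc⟩ : ∃ c : T, ⁅a, c⁆ ≠ 1 := by
    by_contra hcon
    push Not at hcon
    exact ha (IsSpecial64.mem_center_of_comm hcon)
  have hwZ := hs.comm_mem a c
  rcases hs.center_cases hwZ hc hz with h1 | h1 | h1 | h1
  · exact ⟨1, by rw [h1, commutatorElement_one_right]⟩
  · exact ⟨c, h1.symm⟩
  · refine ⟨ρ (ρ c), ?_⟩
    rw [h1, hs.comm_rho_right, hs.comm_rho_right, hs.fpf.cube]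
  · exact ⟨ρ c, by rw [h1, hs.comm_rho_right]⟩

/-- the normalized pair -/
theorem exists_normalized (hs : IsSpecial64 ρ) (hinv : ∀ x : T, x * x = 1 → x ∈ center T) :
    ∃ a b : T, a ∉ center T ∧ ⁅a, b⁆ = a * a ∧ b * b = ρ (a * a) ∧ a * a ≠ 1 := by
  obtain ⟨a, ha⟩ : ∃ a : T, a ∉ center T := by
    by_contra hcon
    push Not at hcon
    have htop : center T = ⊤ := eq_top_iff.mpr fun g _ => hcon g
    have h1 := hs.cardZ
    rw [htop, Subgroup.card_top, hs.card] at h1
    norm_num at h1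
  set z := a * a with hz
  have hzZ : z ∈ center T := hs.sq_mem a
  have hz1 : z ≠ 1 := fun h1 => ha (hinv a h1)
  obtain ⟨b₀, hb₀⟩ := exists_comm_eq hs ha hzZ
  have hρzZ : ρ z ∈ center T := IsSpecial64.rho_mem_center z hzZ
  have hzz : z * z = 1 := hs.sqZ z hzZ
  have hρzz : ρ z * ρ z = 1 := hs.sqZ _ hρzZ
  have hb₀Z : b₀ ∉ center T := by
    intro hcon
    rw [hs.comm_eq_one_of_mem_right hcon] at hb₀
    exact hz1 hb₀.symm
  have hb₀1 : b₀ * b₀ ≠ 1 := fun h1 => hb₀Z (hinv b₀ h1)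
  -- the second candidate
  have hb₁ : ⁅a, b₀ * ρ a⁆ = z := by
    rw [hs.comm_mul_right, hs.comm_self_rho, mul_one, hb₀]
  have hb₁Z : b₀ * ρ a ∉ center T := by
    intro hcon
    rw [hs.comm_eq_one_of_mem_right hcon] at hb₁
    exact hz1 hb₁.symm
  have hb₁1 : (b₀ * ρ a) * (b₀ * ρ a) ≠ 1 := fun h1 => hb₁Z (hinv _ h1)
  have hkey : ρ z * (z * ρ z) = z := by
    calc ρ z * (z * ρ z) = z * (ρ z * ρ z) := by
          rw [← mul_assoc, hs.central hρzZ z, mul_assoc]
      _ = z := by rw [hρzz, mul_one]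
  have hsq₁ : (b₀ * ρ a) * (b₀ * ρ a) = b₀ * b₀ * z := by
    rw [hs.mul_mul_self, ← map_mul, ← hz, hs.comm_symm b₀ (ρ a), hs.comm_rho_left,
      hs.comm_rho_right, hb₀, hs.rho_rho_Z hzZ, mul_assoc (b₀ * b₀), hkey]
  rcases hs.center_cases hzZ hz1 (hs.sq_mem b₀) with h1 | h1 | h1 | h1
  · exact absurd h1 hb₀1
  · exfalso
    apply hb₁1
    rw [hsq₁, h1, hzz]
  · exact ⟨a, b₀, ha, hb₀, h1, hz1⟩
  · refine ⟨a, b₀ * ρ a, ha, hb₁, ?_, hz1⟩
    rw [hsq₁, h1, hs.rho_rho_Z hzZ]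
    calc z * ρ z * z = ρ z * (z * z) := by rw [hs.central hzZ (ρ z), mul_assoc]
      _ = ρ z := by rw [hzz, mul_one]

/-- **the relations hold** -/
theorem srel_of_normalized (hs : IsSpecial64 ρ) {a b : T} (hab : ⁅a, b⁆ = a * a)
    (hbb : b * b = ρ (a * a)) : SRel a (ρ a) b (ρ b) := by
  set z := a * a with hz
  have hzZ : z ∈ center T := hs.sq_mem a
  have hρzZ : ρ z ∈ center T := IsSpecial64.rho_mem_center z hzZ
  have hzz : z * z = 1 := hs.sqZ z hzZ
  have hρzz : ρ z * ρ z = 1 := hs.sqZ _ hρzZ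
  have hρaa : ρ a * ρ a = ρ z := by rw [← map_mul]
  have hba : ⁅b, a⁆ = z := by rw [hs.comm_symm, hab]
  have conj_of_comm : ∀ x y w : T, ⁅x, y⁆ = w → x * y * x⁻¹ = w * y := by
    intro x y w h
    rw [← h, commutatorElement_def]; group
  refine ⟨hzz, ?_, ?_, ?_, ?_, ?_, ?_, ?_, ?_, ?_⟩
  · rw [hρaa]; exact hρzz
  · have := hs.fpf.commute a
    calc ρ a * a * (ρ a)⁻¹ = (a * ρ a) * (ρ a)⁻¹ := by rw [this]
      _ = a := by group
  · exact conj_of_comm _ _ _ hba
  · rw [hρaa]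
    apply conj_of_comm
    rw [hs.comm_rho_right, hba, hs.rho_rho_Z hzZ]
  · rw [hρaa]
    apply conj_of_comm
    rw [hs.comm_rho_left, hs.comm_rho_right, hba, hs.rho_rho_Z hzZ]
  · rw [hρaa]
    apply conj_of_comm
    rw [IsSpecial64.comm_rho, hba]
  · have := hs.fpf.commute b
    calc ρ b * b * (ρ b)⁻¹ = (b * ρ b) * (ρ b)⁻¹ := by rw [this]
      _ = b := by group
  · rw [hbb, hρaa]
  · rw [← map_mul, hbb, hρaa, hs.rho_rho_Z hzZ]

/-- **generation** -/
theorem closure_eq_top_of_normalized (hs : IsSpecial64 ρ) {a b : T} (ha : a ∉ center T)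
    (hab : ⁅a, b⁆ = a * a) (hz1 : a * a ≠ 1) :
    closure ({ρ b, b, ρ a, a} : Set T) = ⊤ := by
  set L := closure ({ρ b, b, ρ a, a} : Set T) with hL
  have ma : a ∈ L := subset_closure (by simp)
  have mρa : ρ a ∈ L := subset_closure (by simp)
  have mb : b ∈ L := subset_closure (by simp)
  have mρb : ρ b ∈ L := subset_closure (by simp)
  set z := a * a with hz
  have hzZ : z ∈ center T := hs.sq_mem a
  -- the centre lies in `L`
  have hZL : center T ≤ L := by
    intro w hw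
    rcases hs.center_cases hzZ hz1 hw with h1 | h1 | h1 | h1
    · rw [h1]; exact Subgroup.one_mem _
    · rw [h1]; exact Subgroup.mul_mem _ ma ma
    · rw [h1, hz, map_mul]; exact Subgroup.mul_mem _ mρa mρa
    · rw [h1, hs.rho_rho_Z hzZ, hz, map_mul]
      exact Subgroup.mul_mem _ (Subgroup.mul_mem _ ma ma) (Subgroup.mul_mem _ mρa mρa)
  -- `L` is invariant
  have hLρ : ∀ y ∈ L, ρ y ∈ L := by
    have hle : L ≤ L.comap (ρ : T →* T) := by
      rw [hL, closure_le]
      intro s hs'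
      show ρ s ∈ L
      rcases hs' with rfl | rfl | rfl | hs'
      · rw [hs.fpf.rho_rho b]
        exact Subgroup.inv_mem _ (Subgroup.mul_mem _ mb mρb)
      · exact mρb
      · rw [hs.fpf.rho_rho a]
        exact Subgroup.inv_mem _ (Subgroup.mul_mem _ ma mρa)
      · rw [Set.mem_singleton_iff.mp hs']; exact mρa
    intro y hy
    exact hle hy
  -- pass to the quotient by the centre
  let E := T ⧸ center T
  let ρE : MulAut E := IsFpf3.quot ρ (center T) (IsFpf3.center_invariant ρ)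
  have hρE : IsFpf3 ρE := IsFpf3.quot_isFpf3 hs.fpf _ _
  have hcardE : Nat.card E = 16 := by
    have h1 := Subgroup.card_mul_index (center T)
    rw [hs.cardZ, hs.card, Subgroup.index_eq_card] at h1
    show Nat.card (T ⧸ center T) = 16
    omega
  let Lb : Subgroup E := L.map (QuotientGroup.mk' (center T))
  have hLbρ : ∀ y ∈ Lb, ρE y ∈ Lb := by
    rintro _ ⟨y, hy, rfl⟩
    exact ⟨ρ y, hLρ y hy, rfl⟩
  have hmod := hρE.card_modEq Lb hLbρ
  have hdvd : Nat.card Lb ∣ 16 := hcardE ▸ Subgroup.card_subgroup_dvd_card Lb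
  have maE : ((a : T) : E) ∈ Lb := ⟨a, ma, rfl⟩
  have mbE : ((b : T) : E) ∈ Lb := ⟨b, mb, rfl⟩
  have haE : ((a : T) : E) ≠ 1 := fun h1 => ha ((QuotientGroup.eq_one_iff a).mp h1)
  have hnot : ∀ w : T, a * w = w * a → ((b : T) : E) ≠ ((w : T) : E) := by
    intro w hw hcon
    rw [eq_comm, QuotientGroup.eq] at hcon
    have hb : b = w * (w⁻¹ * b) := by group
    have h1 : ⁅a, b⁆ = 1 := by
      rw [hb, hs.comm_mul_right, hs.comm_eq_one_of_mem_right hcon, mul_one,
        commutatorElement_eq_one_iff_commute]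
      exact hw
    rw [hab] at h1
    exact hz1 h1
  rcases card_cases_of_dvd_16 hdvd hmod with h1 | h4 | h16
  · exfalso
    have hbot : Lb = ⊥ := (Subgroup.card_eq_one).mp h1
    rw [hbot, Subgroup.mem_bot] at maE
    exact haE maE
  · exfalso
    rcases four_cases hρE Lb hLbρ h4 maE haE mbE with h1 | h1 | h1 | h1
    · exact hnot 1 (by simp) h1
    · exact hnot a rfl h1
    · exact hnot (ρ a) (hs.fpf.commute a) h1
    · refine hnot (ρ (ρ a)) ?_ h1
      rw [hs.fpf.rho_rho a]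
      have := hs.fpf.commute a
      calc a * (a * ρ a)⁻¹ = a * (ρ a)⁻¹ * a⁻¹ := by group
        _ = (ρ a)⁻¹ * (ρ a * a) * (ρ a)⁻¹ * a⁻¹ := by group
        _ = (ρ a)⁻¹ * (a * ρ a) * (ρ a)⁻¹ * a⁻¹ := by rw [this]
        _ = (a * ρ a)⁻¹ * a := by group
  · have htop : Lb = ⊤ := Subgroup.eq_top_of_card_eq _ (by rw [h16, hcardE])
    rw [eq_top_iff]
    intro g _
    have hg : ((g : T) : E) ∈ Lb := htop ▸ Subgroup.mem_top _
    obtain ⟨l, hl, hlg⟩ := hg
    have h1 : l⁻¹ * g ∈ center T := by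
      rw [← QuotientGroup.eq]
      exact hlg
    have : g = l * (l⁻¹ * g) := by group
    rw [this]
    exact Subgroup.mul_mem _ hl (hZL h1)

/-- **the generating tuple** -/
theorem exists_srel (hs : IsSpecial64 ρ) (hinv : ∀ x : T, x * x = 1 → x ∈ center T) :
    ∃ a b : T, SRel a (ρ a) b (ρ b) ∧ closure ({ρ b, b, ρ a, a} : Set T) = ⊤ := by
  obtain ⟨a, b, ha, hab, hbb, hz1⟩ := exists_normalized hs hinv
  exact ⟨a, b, srel_of_normalized hs hab hbb, closure_eq_top_of_normalized hs ha hab hz1⟩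

end Cfsg.Agent.Lib.Helper6.TR
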