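import Mathlib
import Cfsg.Agent.Lib.Helper6.TRH
import Cfsg.Agent.Lib.Helper6.TRF
import Cfsg.Agent.Lib.Helper18.SU3Sylow

set_option autoImplicit false

/-! The nonabelian groups of order `64`: Sylow `2`-subgroups of `PSL(3, 4)` or `PSU(3, 4)`. -/

namespace Cfsg.Agent.Lib.Helper6.TR

open Subgroup Cfsg.Agent.Lib.Helper6.Fpf3 Cfsg.Agent.Lib.Helper18.SU3Model
open scoped commutatorElement

/-- the model group over the field with `16` elements is special with an automorphism of order
three, and its involutions are central -/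
theorem TG_facts {F : Type*} [Field F] [Fintype F] {σ : F →+* F} (hg : Good σ)
    (hσ4 : ∀ x, σ x = x ^ 4) (hk : Nat.card {c : F // σ c = c} = 4)
    (hF : Fintype.card F = 16) :
    ∃ r : MulAut (TG hg), IsSpecial64 r ∧ ∀ x : TG hg, x * x = 1 → x ∈ center (TG hg) := by
  classical
  -- a fixed element other than `0` and `1`
  obtain ⟨c, hcf, hc0, hc1⟩ : ∃ c : F, σ c = c ∧ c ≠ 0 ∧ c ≠ 1 := by
    by_contra hcon
    push Not at hcon
    have hle : Nat.card {c : F // σ c = c} ≤ 2 := by
      have : Nat.card (Fin 2) = 2 := by simp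
      rw [← this]
      apply Nat.card_le_card_of_injective
        (fun c : {c : F // σ c = c} => if (c : F) = 0 then (0 : Fin 2) else 1)
      intro a b hab
      apply Subtype.ext
      by_cases ha : (a : F) = 0 <;> by_cases hb : (b : F) = 0
      · rw [ha, hb]
      · simp [ha, hb] at hab
      · simp [ha, hb] at hab
      · rw [hcon a a.2 ha, hcon b b.2 hb]
    omega
  have hc3 : c * c * c = 1 := by
    have h1 : c ^ 4 = c := by rw [← hσ4, hcf]
    have h2 : c * (c * c * c - 1) = 0 := by linear_combination h1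
    rcases mul_eq_zero.mp h2 with h3 | h3
    · exact absurd h3 hc0
    · linear_combination h3
  have hcc1 : c * c ≠ 1 := by
    intro h1
    apply hc1
    rw [h1, one_mul] at hc3
    exact hc3
  let u : fixU σ := ⟨Units.mk0 c hc0, hcf⟩
  have hu : ((u : Fˣ) : F) = c := rfl
  refine ⟨scalAut hg u, ?_, ?_⟩
  · have hfpf : IsFpf3 (scalAut hg u) := by
      constructor
      · intro y
        apply Subtype.ext
        rw [scalAut_apply, scalAut_apply, scalAut_apply, scalFun_scalFun, scalFun_scalFun, hu,
          hc3, scalFun_one]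
      · intro y hy
        have h1 : scalFun c y.1 = y.1 := by
          have := congrArg Subtype.val hy
          rw [scalAut_apply, hu] at this
          exact this
        have ha : c * y.1.a = y.1.a := congrArg Pr.a h1
        have hb : c * c * y.1.b = y.1.b := congrArg Pr.b h1
        have ha0 : y.1.a = 0 := by
          have h2 : (c - 1) * y.1.a = 0 := by linear_combination ha
          rcases mul_eq_zero.mp h2 with h3 | h3
          · exact absurd (sub_eq_zero.mp h3) hc1
          · exact h3
        have hb0 : y.1.b = 0 := by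
          have h2 : (c * c - 1) * y.1.b = 0 := by linear_combination hb
          rcases mul_eq_zero.mp h2 with h3 | h3
          · exact absurd (sub_eq_zero.mp h3) hcc1
          · exact h3
        apply Subtype.ext
        ext
        · exact ha0
        · exact hb0
    have hcard : Nat.card (TG hg) = 64 := by
      have := card_TG hg 4 hk (by rw [Nat.card_eq_fintype_card, hF]; norm_num)
      rw [this]; norm_num
    apply isSpecial64 hfpf hcard
    intro hcomm
    obtain ⟨x, y, hxy⟩ := exists_not_comm hg
    exact hxy (hcomm.is_comm.comm x y)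
  · intro x hx
    rw [mem_center_iff hg]
    exact (coe_mul_self_eq_one_iff hg x).mp hx

/-- a special group of order `64` whose involutions are central is the model group -/
theorem nonempty_equiv_TG {T : Type*} [Group T] [Finite T] {ρ : MulAut T} (hs : IsSpecial64 ρ)
    (hinv : ∀ x : T, x * x = 1 → x ∈ center T)
    {F : Type*} [Field F] [Fintype F] {σ : F →+* F} (hg : Good σ)
    (hσ4 : ∀ x, σ x = x ^ 4) (hk : Nat.card {c : F // σ c = c} = 4)
    (hF : Fintype.card F = 16) : Nonempty (T ≃* TG hg) := by
  obtain ⟨r, hr, hrinv⟩ := TG_facts hg hσ4 hk hF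
  obtain ⟨a, b, hrel, hgen⟩ := exists_srel hs hinv
  obtain ⟨a', b', hrel', hgen'⟩ := exists_srel hr hrinv
  exact nonempty_mulEquiv_of_srel hrel hrel' hs.card hr.card hgen hgen'

/-- **the groups of order `64`** -/
theorem special_class {T : Type*} [Group T] [Finite T] {ρ : MulAut T} (hρ : IsFpf3 ρ)
    (h64 : Nat.card T = 64) (hna : ¬ ∀ a b : T, a * b = b * a) :
    (∃ (F : Type) (_ : Field F) (_ : Fintype F), Fintype.card F = 4 ∧
        ∀ P : Sylow 2 (Matrix.ProjectiveSpecialLinearGroup (Fin 3) F),
          Nonempty (T ≃* ↥(P : Subgroup (Matrix.ProjectiveSpecialLinearGroup (Fin 3) F)))) ∨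
      (∃ (F : Type) (_ : Field F) (_ : Fintype F), Fintype.card F = 16 ∧
        ∀ P : Sylow 2 (Cfsg.PSU 3 F 4),
          Nonempty (T ≃* ↥(P : Subgroup (Cfsg.PSU 3 F 4)))) := by
  have hs : IsSpecial64 ρ :=
    isSpecial64 hρ h64 (fun hcomm => hna (fun a b => hcomm.is_comm.comm a b))
  by_cases hinv : ∀ x : T, x * x = 1 → x ∈ center T
  · right
    have : Fact (Nat.Prime 2) := ⟨Nat.prime_two⟩
    let _ : Fintype (GaloisField 2 4) := Fintype.ofFinite _
    have hF : Fintype.card (GaloisField 2 4) = 16 := by
      rw [← Nat.card_eq_fintype_card, GaloisField.card 2 4 (by norm_num)]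
      norm_num
    refine ⟨GaloisField 2 4, inferInstance, inferInstance, hF, ?_⟩
    · intro P
      have hF' : Fintype.card (GaloisField 2 4) = (2 ^ 2) ^ 2 := by rw [hF]; norm_num
      obtain ⟨σ, hgood, hσq, hk⟩ := exists_good (n := 2) (by norm_num) hF'
      have hσq4 : ∀ x, σ x = x ^ 4 := fun x => by rw [hσq]; norm_num
      have hk4 : Nat.card {c : GaloisField 2 4 // σ c = c} = 4 := by rw [hk]; norm_num
      obtain ⟨e⟩ := nonempty_equiv_TG hs hinv hgood hσq4 hk4 hF
      obtain ⟨e'⟩ := sylow_PSU_equiv hgood (n := 2) (by norm_num) hσq hk hF' P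
      exact ⟨e.trans e'.symm⟩
  · left
    push Not at hinv
    obtain ⟨a, ha2, haZ⟩ := hinv
    obtain ⟨b, hb2, hab⟩ := hs.exists_partner haZ ha2
    have hp : HypPair ρ a b := ⟨ha2, hb2, hab⟩
    obtain ⟨e⟩ := HypPair.nonempty_equiv hs hp
    exact ⟨Cfsg.Agent.Lib.Helper10.M21.K4, inferInstance, inferInstance,
      Cfsg.Agent.Lib.Helper10.M21.K4.card, fun S => Heis.nonempty_sylow_equiv e S⟩

end Cfsg.Agent.Lib.Helper6.TR
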