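import Mathlib
import Cfsg.Agent.Lib.Helper6.Inv3C
import Cfsg.Agent.Lib.Helper6.TRF
import Cfsg.Agent.Lib.Helper6.TRI

set_option autoImplicit false

/-! The classification: homocyclic of rank two, or a Sylow `2`-subgroup of `PSU(3, 4)`. -/

namespace Cfsg.Agent.Lib.Helper6.Inv3

open Subgroup Cfsg.Agent.Lib.Helper6.Fpf3 Cfsg.Agent.Lib.Helper6.TR
  Cfsg.Agent.Lib.Helper18.SU3Model
open scoped commutatorElement

universe u

/-- a nonabelian group of order `64` with a fixed-point-free automorphism of order three whose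
involutions are central is a Sylow `2`-subgroup of `PSU(3, 4)` -/
theorem special_U {T : Type*} [Group T] [Finite T] {ρ : MulAut T} (hρ : IsFpf3 ρ)
    (h64 : Nat.card T = 64) (hna : ¬ ∀ a b : T, a * b = b * a)
    (hinv : ∀ x : T, x * x = 1 → x ∈ center T)
    {F : Type*} [Field F] [Fintype F] (hF : Fintype.card F = 16) (P : Sylow 2 (Cfsg.PSU 3 F 4)) :
    Nonempty (T ≃* ↥(P : Subgroup (Cfsg.PSU 3 F 4))) := by
  have hs : IsSpecial64 ρ :=
    isSpecial64 hρ h64 (fun hcomm => hna (fun a b => hcomm.is_comm.comm a b))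
  have hF' : Fintype.card F = (2 ^ 2) ^ 2 := by rw [hF]; norm_num
  obtain ⟨σ, hgood, hσq, hk⟩ := exists_good (n := 2) (by norm_num) hF'
  have hσq4 : ∀ x, σ x = x ^ 4 := fun x => by rw [hσq]; norm_num
  have hk4 : Nat.card {c : F // σ c = c} = 4 := by rw [hk]; norm_num
  obtain ⟨e⟩ := nonempty_equiv_TG hs hinv hgood hσq4 hk4 hF
  obtain ⟨e'⟩ := sylow_PSU_equiv hgood (n := 2) (by norm_num) hσq hk hF' P
  exact ⟨e.trans e'.symm⟩

namespace H3

variable {T : Type u} [Group T] [Finite T] {ρ : MulAut T}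

/-- **the commutative groups** -/
theorem comm_class (h : H3 ρ) (hc : ∀ a b : T, a * b = b * a) (hne : ∃ v : T, v ≠ 1) :
    ∃ n : ℕ, 1 ≤ n ∧
      Nonempty (T ≃* Multiplicative (ZMod (2 ^ n)) × Multiplicative (ZMod (2 ^ n))) := by
  have : Fact (Nat.Prime 2) := ⟨Nat.prime_two⟩
  have : IsMulCommutative T := ⟨⟨hc⟩⟩
  have h4 : Nat.card (omega hc) ≤ 4 := by
    refine le_trans ?_ h.card
    apply Nat.card_le_card_of_injective
      (fun y : omega hc => (⟨(y : T), h.mem_omZ_iff.mpr (mem_omega.mp y.2)⟩ : omZ T))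
    intro a b hab
    apply Subtype.ext
    have := congrArg Subtype.val hab
    exact this
  obtain ⟨x, hx⟩ := Finite.exists_max (fun y : T => orderOf y)
  obtain ⟨k, hk⟩ := (IsPGroup.iff_orderOf.mp h.two) x
  have hexp : ∀ y : T, y ^ 2 ^ k = 1 := by
    intro y
    obtain ⟨j, hj⟩ := (IsPGroup.iff_orderOf.mp h.two) y
    have hle := hx y
    rw [hj, hk] at hle
    have hjk : j ≤ k := (Nat.pow_le_pow_iff_right (by norm_num)).mp hle
    apply orderOf_dvd_iff_pow_eq_one.mp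
    rw [hj]
    exact pow_dvd_pow 2 hjk
  obtain ⟨v, hv1⟩ := hne
  have hk1 : 1 ≤ k := by
    by_contra hcon
    push Not at hcon
    have hk0 : k = 0 := by omega
    have := hexp v
    rw [hk0, pow_zero, pow_one] at this
    exact hv1 this
  obtain ⟨n, rfl⟩ : ∃ n, k = n + 1 := ⟨k - 1, by omega⟩
  refine ⟨n + 1, hk1, ?_⟩
  have hxn : x ^ 2 ^ n ≠ 1 := by
    intro hcon
    have := orderOf_dvd_of_pow_eq_one hcon
    rw [hk] at this
    have h2 := (Nat.pow_dvd_pow_iff_le_right (by norm_num : 1 < 2)).mp this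
    omega
  have hρxn : (ρ x) ^ 2 ^ n ≠ 1 := by
    rw [← map_pow]
    exact IsFpf3.rho_ne_one hxn
  have hne' : x ^ 2 ^ n ≠ (ρ x) ^ 2 ^ n := by
    rw [← map_pow]
    exact fun hcon => h.fpf.ne_of_ne_one hxn hcon.symm
  have hρexp : (ρ x) ^ 2 ^ (n + 1) = 1 := hexp _
  have hinj := Cfsg.Agent.Lib.Helper1.dvd_of_pow_mul_pow_eq_one n x (ρ x) (hexp x) hρexp hxn hρxn
    hne'
  have hcard : Nat.card T ≤ 2 ^ (n + 1) * 2 ^ (n + 1) := by
    have := card_le_four_pow (n + 1) T hc h4 hexp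
    calc Nat.card T ≤ 4 ^ (n + 1) := this
      _ = 2 ^ (n + 1) * 2 ^ (n + 1) := by
        rw [← mul_pow]; norm_num
  exact Cfsg.Agent.Lib.Helper1.nonempty_mulEquiv_zmod_prod (2 ^ (n + 1)) x (ρ x) (hexp x) hρexp
    hinj hcard

/-- **the classification** -/
theorem classification (h : H3 ρ) (hne : ∃ v : T, v ≠ 1)
    {F : Type*} [Field F] [Fintype F] (hF : Fintype.card F = 16) (P : Sylow 2 (Cfsg.PSU 3 F 4)) :
    (∃ n : ℕ, 1 ≤ n ∧ Nonempty (T ≃* Multiplicative (ZMod (2 ^ n) × ZMod (2 ^ n)))) ∨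
      Nonempty (T ≃* ↥(P : Subgroup (Cfsg.PSU 3 F 4))) := by
  by_cases hc : ∀ a b : T, a * b = b * a
  · left
    obtain ⟨n, hn, ⟨e⟩⟩ := h.comm_class hc hne
    exact ⟨n, hn, ⟨e.trans (MulEquiv.prodMultiplicative (G := ZMod (2 ^ n)) (H := ZMod (2 ^ n))).symm⟩⟩
  · right
    rcases comm_or_card64 (Nat.card T) T ρ rfl h with hc' | h64
    · exact absurd hc' hc
    · exact special_U h.fpf h64 hc h.cen hF P

end H3

end Cfsg.Agent.Lib.Helper6.Inv3
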