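import Mathlib
import Cfsg.Prelude.Def_CaseTheorems
import Cfsg.Agent.Lib.Helper6.Inv3D
import Cfsg.Agent.Lib.Helper20.Rank2Fpf

set_option autoImplicit false

/-! Reduction: a `2`-group of `2`-rank two with an automorphism whose powers permute the
involutions transitively admits a fixed-point-free automorphism of order three, and its involutions
are central. -/

namespace Cfsg.Agent.Lib.Helper6.Inv3

open Subgroup Cfsg.Agent.Lib.Helper6.Fpf3

variable {T : Type*} [Group T] [Finite T]

theorem mulAut_pow_apply (φ : MulAut T) (k : ℕ) (s : T) : (φ ^ k) s = (⇑φ)^[k] s := by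
  induction k with
  | zero => simp
  | succ k ih => rw [pow_succ', MulAut.mul_apply, ih, Function.iterate_succ_apply']

/-- the cube of a `3`-element acting fixed-point-freely on a `2`-group of rank at most two is
trivial (helper20's theorem, applied in the holomorph) -/
theorem cube_eq_one (hT : IsPGroup 2 T) (h2 : Cfsg.PRankLE 2 2 T) (ρ : MulAut T) (e : ℕ)
    (hρ : ρ ^ 3 ^ e = 1) (hfpf : ∀ x : T, ρ x = x → x = 1) : ∀ x : T, ρ (ρ (ρ x)) = x := by
  classical
  let X := T ⋊[MonoidHom.id (MulAut T)] MulAut T
  haveI : Finite X := Finite.of_equiv _ SemidirectProduct.equivProd.symm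
  let d : X := SemidirectProduct.inr ρ
  let Q : Subgroup X := (SemidirectProduct.inl : T →* X).range
  have hconj : ∀ (g : MulAut T) (t : T),
      (SemidirectProduct.inr g : X) * SemidirectProduct.inl t * (SemidirectProduct.inr g)⁻¹ =
        SemidirectProduct.inl (g t) := by
    intro g t
    have := SemidirectProduct.inl_aut (φ := MonoidHom.id (MulAut T)) g t
    rw [MonoidHom.id_apply] at this
    rw [this, map_inv]
  have hS : Cfsg.Agent.Lib.Helper20.Rank2Fpf.Setup d Q :=
    { pgrp := IsPGroup.of_surjective hT (SemidirectProduct.inl : T →* X).rangeRestrict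
        (MonoidHom.rangeRestrict_surjective _)
      norm := by
        rintro _ ⟨t, rfl⟩
        rw [hconj]
        exact ⟨ρ t, rfl⟩
      fpf := by
        rintro _ ⟨t, rfl⟩ h
        rw [hconj] at h
        have := SemidirectProduct.inl_injective h
        rw [hfpf t this, map_one]
      rank := by
        intro A hA hAe
        let A' : Subgroup T := A.comap (SemidirectProduct.inl : T →* X)
        have hmap : A'.map (SemidirectProduct.inl : T →* X) = A :=
          Subgroup.map_comap_eq_self hA
        have hcard : Nat.card A = Nat.card A' := by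
          rw [← hmap]
          exact Subgroup.card_map_of_injective SemidirectProduct.inl_injective
        have hc : IsMulCommutative A' := by
          refine ⟨⟨fun a b => ?_⟩⟩
          apply Subtype.ext
          apply SemidirectProduct.inl_injective (φ := MonoidHom.id (MulAut T))
          have ha : (SemidirectProduct.inl (a : T) : X) ∈ A := a.2
          have hb : (SemidirectProduct.inl (b : T) : X) ∈ A := b.2
          have := hAe.1.is_comm.comm ⟨_, ha⟩ ⟨_, hb⟩
          have h' := congrArg Subtype.val this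
          show (SemidirectProduct.inl ((a : T) * (b : T)) : X) =
            SemidirectProduct.inl ((b : T) * (a : T))
          rw [map_mul, map_mul]
          exact h'
        have he : ∀ a ∈ A', a ^ 2 = 1 := by
          intro a ha
          apply SemidirectProduct.inl_injective (φ := MonoidHom.id (MulAut T))
          rw [map_pow, map_one]
          exact hAe.2 _ ha
        have := h2 A' hc he
        rw [hcard]
        norm_num at this
        exact this }
  have hd : d ^ 3 ^ e = 1 := by
    show (SemidirectProduct.inr ρ : X) ^ 3 ^ e = 1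
    rw [← map_pow, hρ, map_one]
  have key := hS.cube_central e hd
  intro x
  have h1 := key (SemidirectProduct.inl x) ⟨x, rfl⟩
  have hd3 : d ^ 3 = SemidirectProduct.inr (ρ ^ 3) := (map_pow _ _ _).symm
  rw [hd3, hconj] at h1
  have h3 := SemidirectProduct.inl_injective h1
  have h4 : (ρ ^ 3) x = ρ (ρ (ρ x)) := by
    rw [pow_succ, pow_succ, pow_one, MulAut.mul_apply, MulAut.mul_apply]
  rw [← h4]
  exact h3

/-- with exactly three involutions permuted transitively by the powers of `φ`, a power of `φ`
fixing an involution has exponent divisible by three -/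
theorem three_dvd_of_fixed (φ : MulAut T) (h4 : Nat.card (omZ T) = 4)
    (hcen : ∀ x : T, x * x = 1 → x ∈ center T)
    (htrans : ∀ s t : T, orderOf s = 2 → orderOf t = 2 → ∃ k : ℕ, (φ ^ k) s = t)
    {s : T} (hs2 : orderOf s = 2) {k : ℕ} (hk : (φ ^ k) s = s) : 3 ∣ k := by
  classical
  have : Fact (Nat.Prime 2) := ⟨Nat.prime_two⟩
  set m := Function.minimalPeriod (⇑φ) s with hm
  have hperN : Function.IsPeriodicPt (⇑φ) (orderOf φ) s := by
    show (⇑φ)^[orderOf φ] s = s
    rw [← mulAut_pow_apply, pow_orderOf_eq_one]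
    rfl
  have hmpos : 0 < m := hperN.minimalPeriod_pos (orderOf_pos φ)
  have hmk : m ∣ k := by
    apply Function.isPeriodicPt_iff_minimalPeriod_dvd.mp
    show (⇑φ)^[k] s = s
    rw [← mulAut_pow_apply]
    exact hk
  have hInv : {t : T | orderOf t = 2} = (fun i => (⇑φ)^[i] s) '' Set.Iio m := by
    ext t
    constructor
    · intro ht
      obtain ⟨n, hn⟩ := htrans s t hs2 ht
      refine ⟨n % m, Nat.mod_lt _ hmpos, ?_⟩
      show (⇑φ)^[n % m] s = t
      rw [Function.iterate_mod_minimalPeriod_eq, ← mulAut_pow_apply]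
      exact hn
    · rintro ⟨i, -, rfl⟩
      show orderOf ((⇑φ)^[i] s) = 2
      rw [← mulAut_pow_apply, MulEquiv.orderOf_eq]
      exact hs2
  have hInv2 : {t : T | orderOf t = 2} = (omZ T : Set T) \ {1} := by
    ext t
    constructor
    · intro ht
      have ht2 : t * t = 1 := by
        have := pow_orderOf_eq_one t
        rwa [ht, pow_two] at this
      refine ⟨⟨hcen t ht2, ht2⟩, ?_⟩
      intro h1
      rw [Set.mem_singleton_iff] at h1
      have ht' : orderOf t = 2 := ht
      rw [h1, orderOf_one] at ht'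
      norm_num at ht'
    · rintro ⟨ht, ht1⟩
      exact orderOf_eq_prime (by rw [pow_two]; exact ht.2) ht1
  have hcardInv : {t : T | orderOf t = 2}.ncard = 3 := by
    rw [hInv2, Set.ncard_diff_singleton_of_mem (one_mem (omZ T))]
    have : (omZ T : Set T).ncard = 4 := by
      rw [← h4]
      exact (_root_.Nat.card_coe_set_eq _).symm
    rw [this]
  have hm3 : m = 3 := by
    have hinj := Function.iterate_injOn_Iio_minimalPeriod (f := ⇑φ) (x := s)
    have h' := hinj.ncard_image
    rw [← hm, ← hInv, hcardInv] at h'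
    have h'' : (Set.Iio m).ncard = m := by
      rw [← Finset.coe_range, Set.ncard_coe_finset, Finset.card_range]
    rw [h''] at h'
    exact h'.symm
  rw [← hm3]
  exact hmk

/-- **the reduction** -/
theorem exists_H3 (hT : IsPGroup 2 T) (h2 : Cfsg.PRankLE 2 2 T) (h1 : ¬ Cfsg.PRankLE 2 1 T)
    (φ : MulAut T)
    (htrans : ∀ s t : T, orderOf s = 2 → orderOf t = 2 → ∃ k : ℕ, (φ ^ k) s = t) :
    (∃ ρ : MulAut T, H3 ρ) ∧ ∃ v : T, v ≠ 1 := by
  classical
  have : Fact (Nat.Prime 2) := ⟨Nat.prime_two⟩
  unfold Cfsg.PRankLE at h1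
  push Not at h1
  obtain ⟨A, hAc, hAe, hAcard⟩ := h1
  have hnt : Nontrivial T := by
    have h' : 1 < Nat.card T :=
      lt_of_lt_of_le (by omega : 1 < Nat.card A) (Subgroup.card_le_card_group A)
    exact (Finite.one_lt_card_iff_nontrivial).mp h'
  have hZnt := hT.center_nontrivial
  obtain ⟨z, hzc, hz2⟩ : ∃ z : T, z ∈ center T ∧ orderOf z = 2 := by
    have hdvd : 2 ∣ Nat.card (center T) := by
      obtain ⟨k, hk⟩ := IsPGroup.iff_card.mp (hT.to_subgroup (center T))
      have hk0 : k ≠ 0 := by
        intro h0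
        rw [h0, pow_zero] at hk
        have := (Finite.one_lt_card_iff_nontrivial (α := center T)).mpr hZnt
        omega
      rw [hk]
      exact dvd_pow_self 2 hk0
    obtain ⟨z, hz⟩ := exists_prime_orderOf_dvd_card' 2 hdvd
    refine ⟨z.1, z.2, ?_⟩
    rw [← hz]
    exact Subgroup.orderOf_coe z
  have hinvc : ∀ s : T, orderOf s = 2 → s ∈ center T := by
    intro s hs
    obtain ⟨k, hk⟩ := htrans z s hz2 hs
    rw [← hk]
    exact IsFpf3.center_invariant (φ ^ k) z hzc
  have hcen : ∀ x : T, x * x = 1 → x ∈ center T := by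
    intro x hx
    by_cases hx1 : x = 1
    · rw [hx1]
      exact one_mem _
    · apply hinvc
      exact orderOf_eq_prime (by rw [pow_two]; exact hx) hx1
  have hcardle : Nat.card (omZ T) ≤ 4 := by
    have hc : IsMulCommutative (omZ T) :=
      ⟨⟨fun a b => Subtype.ext (mem_center_iff.mp b.2.1 a)⟩⟩
    have := h2 (omZ T) hc (fun a ha => by rw [pow_two]; exact ha.2)
    norm_num at this
    exact this
  have hcard4 : Nat.card (omZ T) = 4 := by
    have hle : A ≤ omZ T := by
      intro a ha
      have ha2 : a * a = 1 := by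
        have := hAe a ha
        rwa [pow_two] at this
      exact ⟨hcen a ha2, ha2⟩
    have h3 : Nat.card A ≤ Nat.card (omZ T) := Subgroup.card_le_of_le hle
    obtain ⟨j, hj⟩ := IsPGroup.iff_card.mp (hT.to_subgroup (omZ T))
    rw [hj] at h3 hcardle ⊢
    have hj2 : j ≤ 2 := by
      by_contra hcon
      push Not at hcon
      have : 2 ^ 3 ≤ 2 ^ j := Nat.pow_le_pow_right (by norm_num) hcon
      omega
    norm_num at hAcard
    interval_cases j <;> omega
  -- the `3`-part of `φ`
  have hN : orderOf φ ≠ 0 := (orderOf_pos φ).ne'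
  obtain ⟨e, k, hk3, hNk⟩ := Nat.exists_eq_pow_mul_and_not_dvd hN 3 (by norm_num)
  have hρe : (φ ^ k) ^ 3 ^ e = 1 := by
    rw [← pow_mul, mul_comm, ← hNk]
    exact pow_orderOf_eq_one φ
  have hfpf : ∀ x : T, (φ ^ k) x = x → x = 1 := by
    intro x hx
    by_contra hx1
    obtain ⟨j, hj⟩ := (IsPGroup.iff_orderOf.mp hT) x
    have hj1 : 1 ≤ j := by
      by_contra hcon
      push Not at hcon
      have hj0 : j = 0 := by omega
      rw [hj0, pow_zero, orderOf_eq_one_iff] at hj
      exact hx1 hj
    obtain ⟨i, rfl⟩ : ∃ i, j = i + 1 := ⟨j - 1, by omega⟩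
    have hs2 : orderOf (x ^ 2 ^ i) = 2 := by
      rw [orderOf_pow' x (by positivity), hj,
        Nat.gcd_eq_right (pow_dvd_pow 2 (Nat.le_succ i)), pow_succ]
      exact Nat.mul_div_cancel_left 2 (by positivity)
    have hρs : (φ ^ k) (x ^ 2 ^ i) = x ^ 2 ^ i := by rw [map_pow, hx]
    exact hk3 (three_dvd_of_fixed φ hcard4 hcen htrans hs2 hρs)
  have hcube := cube_eq_one hT h2 (φ ^ k) e hρe hfpf
  refine ⟨⟨φ ^ k, ⟨⟨hcube, hfpf⟩, hT, hcen, hcardle⟩⟩, ?_⟩
  exact ⟨z, fun h => by rw [h, orderOf_one] at hz2; norm_num at hz2⟩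

end Cfsg.Agent.Lib.Helper6.Inv3
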