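/-
helper6: invariant subspaces of an endomorphism `f`: invariance under polynomials in `f`, cyclic
subspaces, kernels of polynomials in `f`, restriction and the Cayley-Hamilton theorem on an
invariant subspace.
-/
import Mathlib
import Cfsg.Agent.Lib.Helper6.InvtA

set_option autoImplicit false

namespace Cfsg.Agent.Lib.Helper6.Invt

open Polynomial
open Module (finrank)

variable {F V : Type*} [Field F] [AddCommGroup V] [Module F V]

/-- an `f`-invariant subspace is invariant under the polynomials in `f` -/
theorem aeval_mem {f : Module.End F V} {U : Submodule F V} (hU : U ∈ f.invtSubmodule) (g : F[X])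
    {v : V} (hv : v ∈ U) : aeval f g v ∈ U := by
  induction g using Polynomial.induction_on generalizing v with
  | C a =>
    rw [aeval_C, Module.algebraMap_end_apply]
    exact U.smul_mem a hv
  | add p q hp hq =>
    rw [map_add, LinearMap.add_apply]
    exact U.add_mem (hp hv) (hq hv)
  | monomial k a ih =>
    rw [pow_succ, ← mul_assoc, map_mul, aeval_X, Module.End.mul_apply]
    exact ih (hU hv)

theorem aeval_comm (f : Module.End F V) (g : F[X]) (v : V) : aeval f g (f v) = f (aeval f g v) := by
  have h : aeval f (g * X) = aeval f (X * g) := by rw [mul_comm]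
  rw [map_mul, map_mul, aeval_X] at h
  have := congrArg (fun φ : Module.End F V => φ v) h
  simpa [Module.End.mul_apply] using this

/-- the kernel of a polynomial in `f` is `f`-invariant -/
theorem ker_aeval_mem (f : Module.End F V) (g : F[X]) :
    LinearMap.ker (aeval f g) ∈ f.invtSubmodule := by
  intro v hv
  rw [Submodule.mem_comap, LinearMap.mem_ker, aeval_comm]
  rw [LinearMap.mem_ker] at hv
  rw [hv, map_zero]

/-- the cyclic subspace generated by `w` -/
noncomputable def cyc (f : Module.End F V) (w : V) : Submodule F V :=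
  LinearMap.range ((LinearMap.applyₗ w : (V →ₗ[F] V) →ₗ[F] V) ∘ₗ (aeval f).toLinearMap)

theorem mem_cyc {f : Module.End F V} {w y : V} : y ∈ cyc f w ↔ ∃ g : F[X], aeval f g w = y := by
  unfold cyc
  rw [LinearMap.mem_range]
  rfl

theorem self_mem_cyc (f : Module.End F V) (w : V) : w ∈ cyc f w :=
  mem_cyc.mpr ⟨1, by simp⟩

theorem cyc_mem (f : Module.End F V) (w : V) : cyc f w ∈ f.invtSubmodule := by
  intro y hy
  rw [mem_cyc] at hy
  obtain ⟨g, rfl⟩ := hy
  rw [Submodule.mem_comap, mem_cyc]
  refine ⟨X * g, ?_⟩
  rw [map_mul, aeval_X, Module.End.mul_apply]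

theorem cyc_le {f : Module.End F V} {U : Submodule F V} (hU : U ∈ f.invtSubmodule) {w : V}
    (hw : w ∈ U) : cyc f w ≤ U := by
  intro y hy
  rw [mem_cyc] at hy
  obtain ⟨g, rfl⟩ := hy
  exact aeval_mem hU g hw

theorem cyc_ne_bot {f : Module.End F V} {w : V} (hw : w ≠ 0) : cyc f w ≠ ⊥ := by
  intro h
  have := self_mem_cyc f w
  rw [h, Submodule.mem_bot] at this
  exact hw this

/-- an element of the lattice of invariant subspaces is mapped to itself -/
theorem mapsTo {f : Module.End F V} (U : f.invtSubmodule) :
    ∀ x ∈ (U : Submodule F V), f x ∈ (U : Submodule F V) := U.2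

/-- polynomials in the restriction of `f` to an invariant subspace -/
theorem aeval_restrict {f : Module.End F V} {U : Submodule F V} (hU : ∀ x ∈ U, f x ∈ U)
    (g : F[X]) (v : U) : ((aeval (f.restrict hU) g) v : V) = aeval f g (v : V) := by
  induction g using Polynomial.induction_on generalizing v with
  | C a =>
    rw [aeval_C, aeval_C, Module.algebraMap_end_apply, Module.algebraMap_end_apply]
    rfl
  | add p q hp hq =>
    rw [map_add, map_add, LinearMap.add_apply, LinearMap.add_apply, Submodule.coe_add, hp, hq]
  | monomial k a ih =>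
    have e1 : aeval (f.restrict hU) (C a * X ^ (k + 1)) =
        aeval (f.restrict hU) (C a * X ^ k) * f.restrict hU := by
      rw [pow_succ, ← mul_assoc, map_mul, aeval_X]
    have e2 : aeval f (C a * X ^ (k + 1)) = aeval f (C a * X ^ k) * f := by
      rw [pow_succ, ← mul_assoc, map_mul, aeval_X]
    rw [e1, e2, Module.End.mul_apply, Module.End.mul_apply, ih]
    rfl

variable [Module.Finite F V]

/-- the characteristic polynomial of `f` on an invariant subspace -/
noncomputable def cp (f : Module.End F V) (U : f.invtSubmodule) : F[X] :=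
  (f.restrict (mapsTo U)).charpoly

theorem cp_monic (f : Module.End F V) (U : f.invtSubmodule) : (cp f U).Monic :=
  LinearMap.charpoly_monic _

theorem cp_natDegree (f : Module.End F V) (U : f.invtSubmodule) :
    (cp f U).natDegree = finrank F (U : Submodule F V) :=
  LinearMap.charpoly_natDegree _

/-- Cayley-Hamilton on an invariant subspace -/
theorem aeval_cp_apply (f : Module.End F V) (U : f.invtSubmodule) {v : V}
    (hv : v ∈ (U : Submodule F V)) : aeval f (cp f U) v = 0 := by
  have h := aeval_restrict (mapsTo U) (cp f U) ⟨v, hv⟩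
  rw [← h]
  unfold cp
  rw [LinearMap.aeval_self_charpoly]
  rfl

theorem cp_bot (f : Module.End F V) : cp f ⊥ = 1 := by
  have h1 := cp_natDegree f ⊥
  rw [coe_bot, finrank_bot] at h1
  exact eq_one_of_monic_natDegree_zero (cp_monic f ⊥) h1

end Cfsg.Agent.Lib.Helper6.Invt
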