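/-
helper6: invariant subspaces: multiplicativity of the characteristic polynomial on direct sums of
invariant subspaces; the characteristic polynomial on an atom of the lattice of invariant subspaces
is irreducible and is the annihilator of every non-zero vector of the atom; dimensions of kernels.
-/
import Mathlib
import Cfsg.Agent.Lib.Helper6.InvtB

set_option autoImplicit false
set_option linter.unusedSectionVars false

namespace Cfsg.Agent.Lib.Helper6.Invt

open Polynomial
open Module (finrank)

variable {F V : Type*} [Field F] [AddCommGroup V] [Module F V] [Module.Finite F V]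

/-- the characteristic polynomial is multiplicative on direct sums of invariant subspaces -/
theorem cp_sup (f : Module.End F V) (H A : f.invtSubmodule) (hd : H ⊓ A = ⊥) :
    cp f (H ⊔ A) = cp f H * cp f A := by
  have hd' : (H : Submodule F V) ⊓ A = ⊥ := by
    have := congrArg (fun z : f.invtSubmodule => (z : Submodule F V)) hd
    exact this
  set U : f.invtSubmodule := H ⊔ A with hU
  have hHU : (H : Submodule F V) ≤ U := le_sup_left
  have hAU : (A : Submodule F V) ≤ U := le_sup_right
  let φ : (↥H.1 × ↥A.1) →ₗ[F] ↥U.1 :=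
    (Submodule.inclusion hHU).coprod (Submodule.inclusion hAU)
  have hφ : ∀ x : ↥H.1 × ↥A.1, ((φ x : ↥U.1) : V) = (x.1 : V) + (x.2 : V) := by
    intro x
    rfl
  have hinj : Function.Injective φ := by
    rw [← LinearMap.ker_eq_bot, LinearMap.ker_eq_bot']
    rintro ⟨h, a⟩ hx
    have h1 : (h : V) + (a : V) = 0 := by
      have := congrArg Subtype.val hx
      rw [hφ] at this
      exact this
    have h2 : (h : V) ∈ (H : Submodule F V) ⊓ A := by
      refine Submodule.mem_inf.mpr ⟨h.2, ?_⟩
      have : (h : V) = -(a : V) := eq_neg_of_add_eq_zero_left h1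
      rw [this]
      exact Submodule.neg_mem _ a.2
    rw [hd', Submodule.mem_bot] at h2
    have h3 : (a : V) = 0 := by rw [h2, zero_add] at h1; exact h1
    exact Prod.ext (Subtype.ext h2) (Subtype.ext h3)
  have hsurj : Function.Surjective φ := by
    rintro ⟨u, hu⟩
    have hu' : u ∈ (H : Submodule F V) ⊔ A := hu
    rw [Submodule.mem_sup] at hu'
    obtain ⟨h, hh, a, ha, rfl⟩ := hu'
    exact ⟨(⟨h, hh⟩, ⟨a, ha⟩), Subtype.ext (hφ _)⟩
  let e : (↥H.1 × ↥A.1) ≃ₗ[F] ↥U.1 :=
    LinearEquiv.ofBijective φ ⟨hinj, hsurj⟩
  have he : ∀ x, e x = φ x := fun x => rfl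
  set ψ := (f.restrict (mapsTo H)).prodMap (f.restrict (mapsTo A)) with hψ
  have hcomm : ∀ x, e (ψ x) = (f.restrict (mapsTo U)) (e x) := by
    intro x
    apply Subtype.ext
    rw [he, he, hφ, LinearMap.restrict_coe_apply, hφ, map_add]
    rfl
  have hconj : e.conj ψ = f.restrict (mapsTo U) := by
    apply LinearMap.ext
    intro u
    rw [LinearEquiv.conj_apply_apply, hcomm, LinearEquiv.apply_symm_apply]
  unfold cp
  rw [← hconj, LinearEquiv.charpoly_conj, hψ, LinearMap.charpoly_prodMap]

/-- a polynomial in the restriction vanishes iff the polynomial in `f` kills the subspace -/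
theorem aeval_restrict_eq_zero_iff (f : Module.End F V) (U : f.invtSubmodule) (g : F[X]) :
    aeval (f.restrict (mapsTo U)) g = 0 ↔ ∀ v ∈ (U : Submodule F V), aeval f g v = 0 := by
  constructor
  · intro h v hv
    rw [← aeval_restrict (mapsTo U) g ⟨v, hv⟩, h]
    rfl
  · intro h
    apply LinearMap.ext
    intro v
    apply Subtype.ext
    rw [aeval_restrict (mapsTo U) g v, h v.1 v.2]
    rfl

/-- on an atom, the kernel of a polynomial in `f` is trivial or everything -/
theorem atom_ker_dichotomy {f : Module.End F V} {A : f.invtSubmodule} (hA : IsAtom A) (g : F[X]) :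
    LinearMap.ker (aeval f g) ⊓ (A : Submodule F V) = ⊥ ∨
      (A : Submodule F V) ≤ LinearMap.ker (aeval f g) := by
  set K : f.invtSubmodule := ⟨LinearMap.ker (aeval f g) ⊓ (A : Submodule F V),
    Module.End.invtSubmodule.inf_mem (ker_aeval_mem f g) A.2⟩ with hK
  have hle : K ≤ A := by
    show (K : Submodule F V) ≤ A
    exact inf_le_right
  rcases hA.le_iff.mp hle with h | h
  · left
    exact congrArg (fun z : f.invtSubmodule => (z : Submodule F V)) h
  · right
    have h' : LinearMap.ker (aeval f g) ⊓ (A : Submodule F V) = A :=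
      congrArg (fun z : f.invtSubmodule => (z : Submodule F V)) h
    rw [← h']
    exact inf_le_left

theorem atom_ne_bot {f : Module.End F V} {A : f.invtSubmodule} (hA : IsAtom A) :
    (A : Submodule F V) ≠ ⊥ := fun h => hA.1 (eq_bot_iff_coe.mpr h)

/-- the cyclic subspace of a non-zero vector of an atom is the atom -/
theorem cyc_eq_atom {f : Module.End F V} {A : f.invtSubmodule} (hA : IsAtom A) {v : V}
    (hv : v ∈ (A : Submodule F V)) (hv0 : v ≠ 0) : cyc f v = A := by
  have hle : (⟨cyc f v, cyc_mem f v⟩ : f.invtSubmodule) ≤ A := cyc_le A.2 hv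
  rcases hA.le_iff.mp hle with h | h
  · exact absurd (congrArg (fun z : f.invtSubmodule => (z : Submodule F V)) h) (cyc_ne_bot hv0)
  · exact congrArg (fun z : f.invtSubmodule => (z : Submodule F V)) h

theorem finrank_degreeLT (d : ℕ) : finrank F (degreeLT F d) = d := by
  rw [LinearEquiv.finrank_eq (degreeLTEquiv F d), Module.finrank_fin_fun]

/-- the characteristic polynomial on an atom is the minimal polynomial, and it is irreducible -/
theorem cp_atom {f : Module.End F V} {A : f.invtSubmodule} (hA : IsAtom A) :
    cp f A = minpoly F (f.restrict (mapsTo A)) ∧ Irreducible (cp f A) := by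
  set fA := f.restrict (mapsTo A) with hfA
  set m := minpoly F fA with hm
  have hint : IsIntegral F fA := Algebra.IsIntegral.isIntegral fA
  have hmonic : m.Monic := minpoly.monic hint
  have hm0 : m ≠ 0 := hmonic.ne_zero
  have hmA : ∀ v ∈ (A : Submodule F V), aeval f m v = 0 :=
    (aeval_restrict_eq_zero_iff f A m).mp (minpoly.aeval F fA)
  have hnt : Nontrivial (A : Submodule F V) := Submodule.nontrivial_iff_ne_bot.mpr (atom_ne_bot hA)
  -- irreducibility of the minimal polynomial
  have hirr : Irreducible m := by
    refine ⟨minpoly.not_isUnit F fA, ?_⟩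
    intro a b hab
    have ha0 : a ≠ 0 := by
      rintro rfl
      rw [zero_mul] at hab
      exact hm0 hab
    have hb0 : b ≠ 0 := by
      rintro rfl
      rw [mul_zero] at hab
      exact hm0 hab
    rcases atom_ker_dichotomy hA a with h | h
    · -- `a(f)` is injective on the atom, so `b(f)` kills it
      left
      have hb : aeval fA b = 0 := by
        rw [aeval_restrict_eq_zero_iff]
        intro v hv
        have h1 : aeval f b v ∈ LinearMap.ker (aeval f a) ⊓ (A : Submodule F V) := by
          refine Submodule.mem_inf.mpr ⟨?_, aeval_mem A.2 b hv⟩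
          rw [LinearMap.mem_ker, ← Module.End.mul_apply, ← map_mul, ← hab]
          exact hmA v hv
        rw [h, Submodule.mem_bot] at h1
        exact h1
      obtain ⟨c, hc⟩ := minpoly.dvd F fA hb
      -- `b = m c = a b c`
      have h2 : b * (1 - a * c) = 0 := by
        have : b = a * b * c := by rw [← hab]; exact hc
        calc b * (1 - a * c) = b - a * b * c := by ring
          _ = 0 := by rw [← this, sub_self]
      rcases mul_eq_zero.mp h2 with h3 | h3
      · exact absurd h3 hb0
      · exact IsUnit.of_mul_eq_one c (by rw [sub_eq_zero] at h3; exact h3.symm)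
    · right
      have ha : aeval fA a = 0 := by
        rw [aeval_restrict_eq_zero_iff]
        intro v hv
        exact LinearMap.mem_ker.mp (h hv)
      obtain ⟨c, hc⟩ := minpoly.dvd F fA ha
      have h2 : a * (1 - b * c) = 0 := by
        have : a = a * b * c := by rw [← hab]; exact hc
        calc a * (1 - b * c) = a - a * b * c := by ring
          _ = 0 := by rw [← this, sub_self]
      rcases mul_eq_zero.mp h2 with h3 | h3
      · exact absurd h3 ha0
      · exact IsUnit.of_mul_eq_one c (by rw [sub_eq_zero] at h3; exact h3.symm)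
  -- the dimension of the atom is at most the degree of the minimal polynomial
  have hdim : finrank F (A : Submodule F V) ≤ m.natDegree := by
    obtain ⟨v, hv, hv0⟩ := Submodule.exists_mem_ne_zero_of_ne_bot (atom_ne_bot hA)
    have hcyc := cyc_eq_atom hA hv hv0
    set T : degreeLT F m.natDegree →ₗ[F] V :=
      ((LinearMap.applyₗ v : (V →ₗ[F] V) →ₗ[F] V) ∘ₗ (aeval f).toLinearMap) ∘ₗ
        (degreeLT F m.natDegree).subtype with hT
    have hTapp : ∀ g : degreeLT F m.natDegree, T g = aeval f (g : F[X]) v := fun g => rfl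
    have hle : (A : Submodule F V) ≤ LinearMap.range T := by
      intro y hy
      rw [← hcyc, mem_cyc] at hy
      obtain ⟨g, rfl⟩ := hy
      have hmem : g %ₘ m ∈ degreeLT F m.natDegree := by
        rw [mem_degreeLT, ← degree_eq_natDegree hm0]
        exact degree_modByMonic_lt g hmonic
      refine ⟨⟨g %ₘ m, hmem⟩, ?_⟩
      rw [hTapp]
      show aeval f (g %ₘ m) v = aeval f g v
      conv_rhs => rw [← modByMonic_add_div g m]
      rw [map_add, LinearMap.add_apply, map_mul, Module.End.mul_apply,
        hmA _ (aeval_mem A.2 _ hv), add_zero]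
    have : Module.Finite F (degreeLT F m.natDegree) :=
      Module.Finite.equiv (degreeLTEquiv F m.natDegree).symm
    calc finrank F (A : Submodule F V) ≤ finrank F (LinearMap.range T) := Submodule.finrank_mono hle
      _ ≤ finrank F (degreeLT F m.natDegree) := LinearMap.finrank_range_le T
      _ = m.natDegree := finrank_degreeLT _
  have hdvd : m ∣ cp f A := LinearMap.minpoly_dvd_charpoly fA
  have heq : cp f A = m :=
    eq_of_monic_of_dvd_of_natDegree_le hmonic (cp_monic f A) hdvd (by rw [cp_natDegree]; exact hdim)
  exact ⟨heq, heq ▸ hirr⟩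

/-- the annihilator of a non-zero vector of an atom is generated by the characteristic polynomial -/
theorem cp_dvd_of_aeval_eq_zero {f : Module.End F V} {A : f.invtSubmodule} (hA : IsAtom A) {v : V}
    (hv : v ∈ (A : Submodule F V)) (hv0 : v ≠ 0) {g : F[X]} (hg : aeval f g v = 0) :
    cp f A ∣ g := by
  rcases atom_ker_dichotomy hA g with h | h
  · exfalso
    have : v ∈ LinearMap.ker (aeval f g) ⊓ (A : Submodule F V) :=
      Submodule.mem_inf.mpr ⟨LinearMap.mem_ker.mpr hg, hv⟩
    rw [h, Submodule.mem_bot] at this
    exact hv0 this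
  · rw [(cp_atom hA).1]
    apply minpoly.dvd
    rw [aeval_restrict_eq_zero_iff]
    intro w hw
    exact LinearMap.mem_ker.mp (h hw)

theorem aeval_eq_zero_of_cp_dvd (f : Module.End F V) (A : f.invtSubmodule) {v : V}
    (hv : v ∈ (A : Submodule F V)) {g : F[X]} (hg : cp f A ∣ g) : aeval f g v = 0 := by
  obtain ⟨c, rfl⟩ := hg
  rw [mul_comm, map_mul, Module.End.mul_apply, aeval_cp_apply f A hv, map_zero]

/-- the kernel of a different monic irreducible polynomial meets an atom trivially -/
theorem ker_inf_atom_of_ne {f : Module.End F V} {A : f.invtSubmodule} (hA : IsAtom A) {g : F[X]}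
    (hg : g.Monic) (hgi : Irreducible g) (hne : g ≠ cp f A) :
    LinearMap.ker (aeval f g) ⊓ (A : Submodule F V) = ⊥ := by
  rcases atom_ker_dichotomy hA g with h | h
  · exact h
  · exfalso
    obtain ⟨v, hv, hv0⟩ := Submodule.exists_mem_ne_zero_of_ne_bot (atom_ne_bot hA)
    have h1 := cp_dvd_of_aeval_eq_zero hA hv hv0 (LinearMap.mem_ker.mp (h hv))
    have h2 := (cp_atom hA).2.associated_of_dvd hgi h1
    exact hne (eq_of_monic_of_associated (cp_monic f A) hg h2).symm

theorem ker_inf_atom_self (f : Module.End F V) (A : f.invtSubmodule) :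
    LinearMap.ker (aeval f (cp f A)) ⊓ (A : Submodule F V) = A := by
  apply inf_eq_right.mpr
  intro v hv
  exact LinearMap.mem_ker.mpr (aeval_cp_apply f A hv)

/-- the kernel of a polynomial in `f` on a direct sum of invariant subspaces -/
theorem finrank_ker_inf_sup (f : Module.End F V) (H A : f.invtSubmodule) (hd : H ⊓ A = ⊥) (g : F[X]) :
    finrank F (LinearMap.ker (aeval f g) ⊓ ((H ⊔ A : f.invtSubmodule) : Submodule F V) :
        Submodule F V) =
      finrank F (LinearMap.ker (aeval f g) ⊓ (H : Submodule F V) : Submodule F V) +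
        finrank F (LinearMap.ker (aeval f g) ⊓ (A : Submodule F V) : Submodule F V) := by
  have hd' : (H : Submodule F V) ⊓ A = ⊥ :=
    congrArg (fun z : f.invtSubmodule => (z : Submodule F V)) hd
  set K := LinearMap.ker (aeval f g) with hK
  have h1 : K ⊓ ((H ⊔ A : f.invtSubmodule) : Submodule F V) =
      (K ⊓ (H : Submodule F V)) ⊔ (K ⊓ (A : Submodule F V)) := by
    apply le_antisymm
    · rintro u ⟨huK, huU⟩
      have huU' : u ∈ (H : Submodule F V) ⊔ A := huU
      rw [Submodule.mem_sup] at huU'
      obtain ⟨h, hh, a, ha, rfl⟩ := huU'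
      have h2 : aeval f g h + aeval f g a = 0 := by
        rw [← map_add]; exact LinearMap.mem_ker.mp huK
      have h3 : aeval f g h ∈ (H : Submodule F V) ⊓ A := by
        refine Submodule.mem_inf.mpr ⟨aeval_mem H.2 g hh, ?_⟩
        have : aeval f g h = -(aeval f g a) := eq_neg_of_add_eq_zero_left h2
        rw [this]
        exact Submodule.neg_mem _ (aeval_mem A.2 g ha)
      rw [hd', Submodule.mem_bot] at h3
      have h4 : aeval f g a = 0 := by rw [h3, zero_add] at h2; exact h2
      exact Submodule.add_mem_sup (Submodule.mem_inf.mpr ⟨LinearMap.mem_ker.mpr h3, hh⟩)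
        (Submodule.mem_inf.mpr ⟨LinearMap.mem_ker.mpr h4, ha⟩)
    · apply sup_le
      · exact inf_le_inf_left _ (show (H : Submodule F V) ≤ (H : Submodule F V) ⊔ A from le_sup_left)
      · exact inf_le_inf_left _ (show (A : Submodule F V) ≤ (H : Submodule F V) ⊔ A from le_sup_right)
  have h2 : (K ⊓ (H : Submodule F V)) ⊓ (K ⊓ (A : Submodule F V)) = ⊥ := by
    apply le_bot_iff.mp
    rw [← hd']
    exact inf_le_inf inf_le_right inf_le_right
  have h3 := Submodule.finrank_sup_add_finrank_inf_eq (K ⊓ (H : Submodule F V))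
    (K ⊓ (A : Submodule F V))
  rw [h2, finrank_bot, add_zero] at h3
  rw [h1, h3]

end Cfsg.Agent.Lib.Helper6.Invt
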