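/-
helper6: the lattice of invariant subspaces: the complements of `H` in `H ⊕ A` (`A` an atom) are
counted by the kernel of the characteristic polynomial of `A` on `H`; the Moebius function
satisfies `mu(0, H ⊕ A) = - #complements * mu(0, H)`.
-/
import Mathlib
import Cfsg.Agent.Lib.Helper6.InvtC
import Cfsg.Agent.Lib.Helper6.MobA

set_option autoImplicit false
set_option linter.unusedSectionVars false

namespace Cfsg.Agent.Lib.Helper6.Invt

open Polynomial Cfsg.Agent.Lib.Helper6.Mob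
open Module (finrank)
open IncidenceAlgebra

attribute [local instance] invtDecEq invtLFO invt_isModular

variable {F V : Type*} [Field F] [AddCommGroup V] [Module F V] [Finite V]

theorem inf_eq_bot_coe {f : Module.End F V} {a b : f.invtSubmodule} (h : a ⊓ b = ⊥) :
    (a : Submodule F V) ⊓ b = ⊥ :=
  congrArg (fun z : f.invtSubmodule => (z : Submodule F V)) h

/-- `H` is covered by `H ⊔ A` when `A` is an atom disjoint from `H` -/
theorem covBy_sup_atom {f : Module.End F V} {H A : f.invtSubmodule} (hA : IsAtom A)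
    (hd : H ⊓ A = ⊥) : H ⋖ H ⊔ A := by
  have h1 : A ⊓ H ⋖ A := by
    rw [inf_comm, hd]
    exact bot_covBy_iff.mpr hA
  have h2 := covBy_sup_of_inf_covBy_left h1
  rwa [sup_comm] at h2

/-- a non-zero invariant subspace of `H ⊔ A` meeting `H` trivially is a complement of `H` -/
theorem sup_eq_of_inf_eq_bot {f : Module.End F V} {H A z : f.invtSubmodule} (hA : IsAtom A)
    (hd : H ⊓ A = ⊥) (hz : z ≤ H ⊔ A) (hzH : z ⊓ H = ⊥) (hz0 : z ≠ ⊥) : z ⊔ H = H ⊔ A := by
  have hcov := covBy_sup_atom hA hd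
  rcases hcov.eq_or_eq (le_sup_right : H ≤ z ⊔ H) (sup_le hz le_sup_left) with h | h
  · exfalso
    have h1 : z ≤ H := by rw [← h]; exact le_sup_left
    have h2 : z ⊓ H = z := inf_eq_left.mpr h1
    rw [hzH] at h2
    exact hz0 h2.symm
  · exact h

section count

variable {f : Module.End F V} (H A : f.invtSubmodule) (hA : IsAtom A) (hd : H ⊓ A = ⊥)
  {v : V} (hv : v ∈ (A : Submodule F V)) (hv0 : v ≠ 0)

include hA hd hv hv0

/-- a polynomial in `f` divisible by the characteristic polynomial of `A` kills the kernel -/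
theorem aeval_ker_of_dvd {h : V} (hh : h ∈ LinearMap.ker (aeval f (cp f A))) {g : F[X]}
    (hg : cp f A ∣ g) : aeval f g h = 0 := by
  obtain ⟨c, rfl⟩ := hg
  rw [mul_comm, map_mul, Module.End.mul_apply, LinearMap.mem_ker.mp hh, map_zero]

theorem cyc_add_inf {h : V} (hh : h ∈ LinearMap.ker (aeval f (cp f A)) ⊓ (H : Submodule F V)) :
    cyc f (v + h) ⊓ (H : Submodule F V) = ⊥ := by
  have hd' := inf_eq_bot_coe hd
  rw [Submodule.mem_inf] at hh
  rw [eq_bot_iff]
  rintro y hy
  rw [Submodule.mem_inf, mem_cyc] at hy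
  obtain ⟨⟨g, rfl⟩, hyH⟩ := hy
  rw [map_add] at hyH ⊢
  have h1 : aeval f g v ∈ (H : Submodule F V) ⊓ A := by
    refine Submodule.mem_inf.mpr ⟨?_, aeval_mem A.2 g hv⟩
    have : aeval f g v = (aeval f g v + aeval f g h) - aeval f g h := by abel
    rw [this]
    exact Submodule.sub_mem _ hyH (aeval_mem H.2 g hh.2)
  rw [hd', Submodule.mem_bot] at h1
  have h2 := cp_dvd_of_aeval_eq_zero hA hv hv0 h1
  have h3 := aeval_ker_of_dvd H A hA hd hv hv0 hh.1 h2
  rw [h1, h3, add_zero, Submodule.mem_bot]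

theorem add_ne_zero_of_mem {h : V} (hh : h ∈ (H : Submodule F V)) : v + h ≠ 0 := by
  have hd' := inf_eq_bot_coe hd
  intro h0
  have h1 : v ∈ (H : Submodule F V) ⊓ A := by
    refine Submodule.mem_inf.mpr ⟨?_, hv⟩
    have : v = -h := eq_neg_of_add_eq_zero_left h0
    rw [this]
    exact Submodule.neg_mem _ hh
  rw [hd', Submodule.mem_bot] at h1
  exact hv0 h1

theorem cyc_add_le {h : V} (hh : h ∈ (H : Submodule F V)) :
    cyc f (v + h) ≤ ((H ⊔ A : f.invtSubmodule) : Submodule F V) := by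
  apply cyc_le (H ⊔ A : f.invtSubmodule).2
  show v + h ∈ (H : Submodule F V) ⊔ A
  rw [add_comm]
  exact Submodule.add_mem_sup hh hv

theorem cyc_add_injective {h h' : V}
    (hh : h ∈ LinearMap.ker (aeval f (cp f A)) ⊓ (H : Submodule F V))
    (hh' : h' ∈ LinearMap.ker (aeval f (cp f A)) ⊓ (H : Submodule F V))
    (he : cyc f (v + h) = cyc f (v + h')) : h = h' := by
  have hd' := inf_eq_bot_coe hd
  rw [Submodule.mem_inf] at hh hh'
  have h1 : v + h' ∈ cyc f (v + h) := by rw [he]; exact self_mem_cyc f _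
  rw [mem_cyc] at h1
  obtain ⟨g, hg⟩ := h1
  rw [map_add] at hg
  have h2 : aeval f (g - 1) v ∈ (H : Submodule F V) ⊓ A := by
    refine Submodule.mem_inf.mpr ⟨?_, aeval_mem A.2 _ hv⟩
    have : aeval f (g - 1) v = h' - aeval f g h := by
      rw [map_sub, LinearMap.sub_apply, map_one, Module.End.one_apply]
      have : aeval f g v = v + h' - aeval f g h := by rw [← hg]; abel
      rw [this]; abel
    rw [this]
    exact Submodule.sub_mem _ hh'.2 (aeval_mem H.2 g hh.2)
  rw [hd', Submodule.mem_bot] at h2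
  have h3 := cp_dvd_of_aeval_eq_zero hA hv hv0 h2
  have h4 := aeval_ker_of_dvd H A hA hd hv hv0 hh.1 h3
  rw [map_sub, LinearMap.sub_apply, map_one, Module.End.one_apply, sub_eq_zero] at h2 h4
  rw [h2, h4] at hg
  exact (add_left_cancel hg)

/-- the complements of `H` in `H ⊔ A` -/
theorem card_complements :
    ((Finset.Icc ⊥ (H ⊔ A)).filter (fun z => z ⊓ H = ⊥ ∧ z ≠ ⊥)).card =
      Nat.card F ^ finrank F (LinearMap.ker (aeval f (cp f A)) ⊓ (H : Submodule F V) :
        Submodule F V) := by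
  classical
  have hd' := inf_eq_bot_coe hd
  set W : Submodule F V := LinearMap.ker (aeval f (cp f A)) ⊓ (H : Submodule F V) with hW
  set Z := (Finset.Icc ⊥ (H ⊔ A)).filter (fun z => z ⊓ H = ⊥ ∧ z ≠ ⊥) with hZ
  have hmemZ : ∀ h : W, (⟨cyc f (v + h.1), cyc_mem f _⟩ : f.invtSubmodule) ∈ Z := by
    intro h
    have hh := h.2
    have hhH : h.1 ∈ (H : Submodule F V) := (Submodule.mem_inf.mp hh).2
    rw [hZ, Finset.mem_filter, Finset.mem_Icc]
    refine ⟨⟨bot_le, cyc_add_le H A hA hd hv hv0 hhH⟩, ?_, ?_⟩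
    · apply Subtype.ext
      exact cyc_add_inf H A hA hd hv hv0 hh
    · intro h0
      have := congrArg (fun z : f.invtSubmodule => (z : Submodule F V)) h0
      exact cyc_ne_bot (add_ne_zero_of_mem H A hA hd hv hv0 hhH) this
  have h1 : Nat.card W = Nat.card {z // z ∈ Z} := by
    apply Nat.card_congr
    apply Equiv.ofBijective (fun h : W => (⟨_, hmemZ h⟩ : {z // z ∈ Z}))
    constructor
    · intro h h' he
      have he' : cyc f (v + h.1) = cyc f (v + h'.1) :=
        congrArg (fun z : {z // z ∈ Z} => ((z : f.invtSubmodule) : Submodule F V)) he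
      exact Subtype.ext (cyc_add_injective H A hA hd hv hv0 h.2 h'.2 he')
    · rintro ⟨z, hz⟩
      rw [hZ, Finset.mem_filter, Finset.mem_Icc] at hz
      obtain ⟨⟨_, hzU⟩, hzH, hz0⟩ := hz
      have hsup := sup_eq_of_inf_eq_bot hA hd hzU hzH hz0
      have hzH' := inf_eq_bot_coe hzH
      -- decompose `v`
      have hvU : v ∈ (z : Submodule F V) ⊔ H := by
        have : v ∈ ((z ⊔ H : f.invtSubmodule) : Submodule F V) := by
          rw [hsup]
          show v ∈ (H : Submodule F V) ⊔ A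
          exact Submodule.mem_sup_right hv
        exact this
      rw [Submodule.mem_sup] at hvU
      obtain ⟨w, hw, h0, hh0, hwv⟩ := hvU
      have hwe : w = v + (-h0) := by rw [← hwv]; abel
      have hhH : -h0 ∈ (H : Submodule F V) := Submodule.neg_mem _ hh0
      have hker : -h0 ∈ LinearMap.ker (aeval f (cp f A)) := by
        rw [LinearMap.mem_ker]
        have h2 : aeval f (cp f A) w = aeval f (cp f A) (-h0) := by
          rw [hwe, map_add, aeval_cp_apply f A hv, zero_add]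
        have h3 : aeval f (cp f A) w ∈ (z : Submodule F V) ⊓ H := by
          refine Submodule.mem_inf.mpr ⟨aeval_mem z.2 _ hw, ?_⟩
          rw [h2]
          exact aeval_mem H.2 _ hhH
        rw [hzH', Submodule.mem_bot] at h3
        rw [← h2, h3]
      have hW' : -h0 ∈ W := Submodule.mem_inf.mpr ⟨hker, hhH⟩
      refine ⟨⟨-h0, hW'⟩, ?_⟩
      apply Subtype.ext
      -- the cyclic subspace of `w` is `z`
      set z' : f.invtSubmodule := ⟨cyc f (v + -h0), cyc_mem f _⟩ with hz'
      show z' = z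
      have hz'z : z' ≤ z := by
        show cyc f (v + -h0) ≤ (z : Submodule F V)
        rw [← hwe]
        exact cyc_le z.2 hw
      have hz'Z := hmemZ ⟨-h0, hW'⟩
      rw [hZ, Finset.mem_filter, Finset.mem_Icc] at hz'Z
      obtain ⟨⟨_, hz'U⟩, hz'H, hz'0⟩ := hz'Z
      have hsup' : z' ⊔ H = H ⊔ A := sup_eq_of_inf_eq_bot hA hd hz'U hz'H hz'0
      have h4 : (z' ⊔ H) ⊓ z = z' ⊔ H ⊓ z := sup_inf_assoc_of_le H hz'z
      rw [hsup', inf_comm H z, hzH, sup_bot_eq, inf_eq_right.mpr hzU] at h4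
      exact h4.symm
  have : Module.Finite F V := Module.Finite.of_finite
  rw [← Fintype.card_coe, ← Nat.card_eq_fintype_card, ← h1, Module.natCard_eq_pow_finrank (K := F)]

end count

/-- the Moebius recursion -/
theorem mu_sup_atom {f : Module.End F V} (H A : f.invtSubmodule) (hA : IsAtom A) (hd : H ⊓ A = ⊥) :
    mu ℤ ⊥ (H ⊔ A) = -(((Finset.Icc ⊥ (H ⊔ A)).filter (fun z => z ⊓ H = ⊥ ∧ z ≠ ⊥)).card : ℤ) *
      mu ℤ ⊥ H := by
  classical
  have hlt : H < H ⊔ A := (covBy_sup_atom hA hd).lt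
  have hw := weisner_dual (a := ⊥) (H := H) (U := H ⊔ A) bot_le hlt
  set Z := (Finset.Icc ⊥ (H ⊔ A)).filter (fun z => z ⊓ H = ⊥ ∧ z ≠ ⊥) with hZ
  have hsplit : (Finset.Icc ⊥ (H ⊔ A)).filter (fun z => z ⊓ H = ⊥) = insert ⊥ Z := by
    ext z
    rw [Finset.mem_insert, hZ, Finset.mem_filter, Finset.mem_filter, Finset.mem_Icc]
    constructor
    · rintro ⟨h1, h2⟩
      by_cases hz : z = ⊥
      · left; exact hz
      · right; exact ⟨h1, h2, hz⟩
    · rintro (rfl | ⟨h1, h2, _⟩)
      · exact ⟨⟨le_rfl, bot_le⟩, bot_inf_eq _⟩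
      · exact ⟨h1, h2⟩
  have hnot : (⊥ : f.invtSubmodule) ∉ Z := by
    rw [hZ, Finset.mem_filter]
    intro h
    exact h.2.2 rfl
  rw [hsplit, Finset.sum_insert hnot] at hw
  have hterm : ∀ z ∈ Z, mu ℤ z (H ⊔ A) = mu ℤ ⊥ H := by
    intro z hz
    rw [hZ, Finset.mem_filter, Finset.mem_Icc] at hz
    obtain ⟨⟨_, hzU⟩, hzH, hz0⟩ := hz
    have hsup := sup_eq_of_inf_eq_bot hA hd hzU hzH hz0
    symm
    apply mu_eq_of_iso (fun w => z ⊔ w)
    · intro w hw
      rw [Finset.mem_Icc] at hw ⊢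
      exact ⟨le_sup_left, sup_le hzU (le_trans hw.2 le_sup_left)⟩
    · intro w hw w' hw'
      rw [Finset.mem_Icc] at hw hw'
      constructor
      · intro hle
        have h1 : (w' ⊔ z) ⊓ H = w' ⊔ z ⊓ H := sup_inf_assoc_of_le z hw'.2
        rw [hzH, sup_bot_eq] at h1
        calc w ≤ (z ⊔ w) ⊓ H := le_inf le_sup_right hw.2
          _ ≤ (z ⊔ w') ⊓ H := inf_le_inf_right _ hle
          _ = w' := by rw [sup_comm]; exact h1
      · intro hle
        exact sup_le_sup_left hle _
    · intro y hy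
      rw [Finset.mem_Icc] at hy
      refine ⟨y ⊓ H, ?_, ?_⟩
      · rw [Finset.mem_Icc]
        exact ⟨bot_le, inf_le_right⟩
      · have h1 : (z ⊔ H) ⊓ y = z ⊔ H ⊓ y := sup_inf_assoc_of_le H hy.1
        rw [hsup, inf_eq_right.mpr hy.2] at h1
        show z ⊔ y ⊓ H = y
        rw [inf_comm y H]
        exact h1.symm
    · exact bot_le
  rw [Finset.sum_congr rfl hterm, Finset.sum_const, nsmul_eq_mul] at hw
  linarith

end Cfsg.Agent.Lib.Helper6.Invt
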