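/-
helper6: the Moebius number of the lattice of invariant subspaces of a semisimple endomorphism `f`
of a finite vector space: if the characteristic polynomial of `f` is `∏ g^(m_g)` then
`mu(0, V) = ∏ (-1)^(m_g) q^(deg g * m_g (m_g - 1) / 2)`.
-/
import Mathlib
import Cfsg.Agent.Lib.Helper6.InvtD

set_option autoImplicit false
set_option linter.unusedSectionVars false

namespace Cfsg.Agent.Lib.Helper6.Invt

open Polynomial Cfsg.Agent.Lib.Helper6.Mob UniqueFactorizationMonoid
open Module (finrank)
open IncidenceAlgebra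

attribute [local instance] invtDecEq invtLFO invt_isModular

variable {F : Type*} [Field F]

/-- the local factor -/
def phi (q : ℕ) (g : F[X]) (k : ℕ) : ℤ :=
  (-1) ^ k * (q : ℤ) ^ (g.natDegree * (k * (k - 1) / 2))

theorem phi_zero (q : ℕ) (g : F[X]) : phi q g 0 = 1 := by
  unfold phi
  simp

theorem phi_succ (q : ℕ) (g : F[X]) (k : ℕ) :
    phi q g (k + 1) = -((q : ℤ) ^ (g.natDegree * k)) * phi q g k := by
  unfold phi
  rw [Nat.triangle_succ, Nat.mul_add, pow_add, pow_succ]
  ring

variable [DecidableEq F] [DecidableEq F[X]]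

/-- the Moebius number attached to a multiset of irreducible polynomials -/
def Fm (q : ℕ) (s : Multiset F[X]) : ℤ :=
  ∏ g ∈ s.toFinset, phi q g (s.count g)

theorem Fm_zero (q : ℕ) : Fm q (0 : Multiset F[X]) = 1 := by
  unfold Fm
  rw [Multiset.toFinset_zero, Finset.prod_empty]

theorem Fm_eq_prod_of_subset (q : ℕ) (s : Multiset F[X]) (T : Finset F[X]) (hT : s.toFinset ⊆ T) :
    Fm q s = ∏ g ∈ T, phi q g (s.count g) := by
  unfold Fm
  apply Finset.prod_subset hT
  intro g _ hg
  rw [Multiset.mem_toFinset] at hg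
  rw [Multiset.count_eq_zero_of_notMem hg, phi_zero]

theorem Fm_cons (q : ℕ) (p : F[X]) (s : Multiset F[X]) :
    Fm q (p ::ₘ s) = -((q : ℤ) ^ (p.natDegree * s.count p)) * Fm q s := by
  have h0 : insert p (s.toFinset.erase p) = insert p s.toFinset := by
    ext x
    simp only [Finset.mem_insert, Finset.mem_erase]
    tauto
  have h1 : (p ::ₘ s).toFinset = insert p (s.toFinset.erase p) := by
    rw [Multiset.toFinset_cons, h0]
  have h2 : s.toFinset ⊆ insert p (s.toFinset.erase p) := by
    rw [h0]
    exact Finset.subset_insert _ _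
  have hp : p ∉ s.toFinset.erase p := Finset.notMem_erase _ _
  rw [Fm_eq_prod_of_subset q s _ h2, Fm_eq_prod_of_subset q (p ::ₘ s) _ (le_of_eq h1),
    Finset.prod_insert hp, Finset.prod_insert hp, Multiset.count_cons_self, phi_succ]
  have h3 : ∏ g ∈ s.toFinset.erase p, phi q g ((p ::ₘ s).count g) =
      ∏ g ∈ s.toFinset.erase p, phi q g (s.count g) := by
    apply Finset.prod_congr rfl
    intro g hg
    rw [Multiset.count_cons_of_ne (Finset.ne_of_mem_erase hg)]
  rw [h3]
  ring

variable {V : Type*} [AddCommGroup V] [Module F V] [Finite V]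

/-- the statement proved by induction -/
def Good (f : Module.End F V) (U : f.invtSubmodule) : Prop :=
  mu ℤ ⊥ U = Fm (Nat.card F) (normalizedFactors (cp f U)) ∧
    ∀ g : F[X], g.Monic → Irreducible g →
      finrank F (LinearMap.ker (aeval f g) ⊓ (U : Submodule F V) : Submodule F V) =
        g.natDegree * (normalizedFactors (cp f U)).count g

theorem good_bot (f : Module.End F V) : Good f ⊥ := by
  constructor
  · rw [mu_self, cp_bot, normalizedFactors_one, Fm_zero]
  · intro g _ _
    rw [cp_bot, normalizedFactors_one, Multiset.count_zero, mul_zero, coe_bot, inf_bot_eq, finrank_bot]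

theorem good_sup_atom (f : Module.End F V) (H A : f.invtSubmodule) (hA : IsAtom A)
    (hd : H ⊓ A = ⊥) (hH : Good f H) : Good f (H ⊔ A) := by
  have hirr := (cp_atom hA).2
  have hmonic := cp_monic f A
  have hnf : normalizedFactors (cp f (H ⊔ A)) = cp f A ::ₘ normalizedFactors (cp f H) := by
    rw [cp_sup f H A hd, normalizedFactors_mul (cp_monic f H).ne_zero hmonic.ne_zero,
      normalizedFactors_irreducible hirr, hmonic.normalize_eq_self, add_comm,
      Multiset.singleton_add]
  obtain ⟨v, hv, hv0⟩ := Submodule.exists_mem_ne_zero_of_ne_bot (atom_ne_bot hA)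
  constructor
  · rw [mu_sup_atom H A hA hd, card_complements H A hA hd hv hv0, hH.1, hnf, Fm_cons,
      hH.2 (cp f A) hmonic hirr]
    push_cast
    ring
  · intro g hg hgi
    rw [finrank_ker_inf_sup f H A hd g, hH.2 g hg hgi, hnf, Multiset.count_cons]
    by_cases he : g = cp f A
    · rw [if_pos he, he, ker_inf_atom_self, ← cp_natDegree, Nat.mul_add, mul_one]
    · rw [if_neg he, ker_inf_atom_of_ne hA hg hgi he, finrank_bot, add_zero, add_zero]

/-- in the lattice of invariant subspaces of a semisimple endomorphism, every non-zero element is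
the direct sum of an atom and something smaller -/
theorem exists_atom_compl {f : Module.End F V} (hf : f.IsSemisimple) (U : f.invtSubmodule)
    (hU : U ≠ ⊥) : ∃ H A : f.invtSubmodule, IsAtom A ∧ H ⊓ A = ⊥ ∧ H ⊔ A = U := by
  have : IsAtomic (f.invtSubmodule) := Finite.to_isAtomic
  rcases eq_bot_or_exists_atom_le U with h | ⟨A, hA, hAU⟩
  · exact absurd h hU
  · obtain ⟨A', hA'⟩ := Module.End.isSemisimple_iff'.mp hf A
    refine ⟨A' ⊓ U, A, hA, ?_, ?_⟩
    · apply le_bot_iff.mp
      calc A' ⊓ U ⊓ A ≤ A' ⊓ A := inf_le_inf_right _ inf_le_left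
        _ = ⊥ := by rw [inf_comm]; exact hA'.inf_eq_bot
    · have h1 : (A ⊔ A') ⊓ U = A ⊔ A' ⊓ U := sup_inf_assoc_of_le A' hAU
      rw [hA'.sup_eq_top, top_inf_eq] at h1
      rw [sup_comm]
      exact h1.symm

theorem good_of_semisimple {f : Module.End F V} (hf : f.IsSemisimple) :
    ∀ (k : ℕ) (U : f.invtSubmodule), finrank F (U : Submodule F V) = k → Good f U := by
  have : Module.Finite F V := Module.Finite.of_finite
  intro k
  induction k using Nat.strong_induction_on with
  | _ k ih =>
    intro U hk
    by_cases hU : U = ⊥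
    · rw [hU]; exact good_bot f
    · obtain ⟨H, A, hA, hd, hsup⟩ := exists_atom_compl hf U hU
      have h1 := Submodule.finrank_sup_add_finrank_inf_eq (H : Submodule F V) (A : Submodule F V)
      rw [inf_eq_bot_coe hd, finrank_bot, add_zero] at h1
      have h2 : finrank F ((H ⊔ A : f.invtSubmodule) : Submodule F V) = k := by rw [hsup]; exact hk
      have h3 : 1 ≤ finrank F (A : Submodule F V) :=
        Submodule.one_le_finrank_iff.mpr (atom_ne_bot hA)
      have h4 : finrank F (H : Submodule F V) < k := by
        have : finrank F ((H ⊔ A : f.invtSubmodule) : Submodule F V) =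
            finrank F ((H : Submodule F V) ⊔ (A : Submodule F V) : Submodule F V) := rfl
        omega
      rw [← hsup]
      exact good_sup_atom f H A hA hd (ih _ h4 H rfl)

/-- the Moebius number of the lattice of invariant subspaces of a semisimple endomorphism -/
theorem mu_semisimple {f : Module.End F V} (hf : f.IsSemisimple) :
    mu ℤ (⊥ : f.invtSubmodule) ⊤ = Fm (Nat.card F) (normalizedFactors (cp f ⊤)) :=
  (good_of_semisimple hf _ ⊤ rfl).1

end Cfsg.Agent.Lib.Helper6.Invt
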