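/-
helper6: the stable form of Knörr's theorem.  If `P` is a defect group of the block `B` of `G` and
`N` is a normal subgroup, then `B` covers a `P`-stable block `c` of `N` with defect group `P ∩ N`.
-/
import Mathlib
import Cfsg.Agent.Lib.Helper6.KnoerrGen
import Cfsg.Agent.Lib.Helper6.CoverOver
import Cfsg.Agent.Lib.Helper6.OneBlock
import Cfsg.Agent.Lib.Helper24.BlockAction

set_option autoImplicit false
set_option linter.unusedSectionVars false

namespace Cfsg.Agent.Lib.Helper6.KnoerrStable

open Cfsg Cfsg.Agent.CharLib Cfsg.Agent.Lib.Helper24 Cfsg.Agent.Lib.Helper23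
  Cfsg.Agent.Lib.Helper6 Cfsg.Agent.Lib.Helper6.GradedNil Cfsg.Agent.Lib.Helper6.Fong
  Cfsg.Agent.Lib.Helper6.CoverDefect Cfsg.Agent.Lib.Helper6.KnoerrInv
  Cfsg.Agent.Lib.Helper6.KnoerrGen

universe u

variable {G : Type u} [Group G] [Fintype G] (N : Subgroup G) [hN : N.Normal] [Fintype N]
  {M : Ideal AlgInt} {p : ℕ} [hpp : Fact p.Prime]

/-- If `B` covers `b` and `P` is a defect group of `B`, then the idempotent of the union of the
conjugates of `b` has a unit coefficient at an element of `N` centralising `P`. -/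
theorem exists_unit_coeff_centralizer (hM : IsPModular p M) {b : Set (IrrCharacter N)}
    (hb : IsPBlock M b) (B : Set (IrrCharacter G)) (hB : IsPBlock M B)
    (hBS : ∀ χ ∈ B, χ ∈ coverSet N b) (P : Subgroup G) (hP : IsDefectGroup p M B P) :
    ∃ n : N, (n : G) ∈ Subgroup.centralizer (P : Set G) ∧
      ¬ MemLocalIdeal M (blockCoeff (conjUnion N b) n) := by
  classical
  have hprime : M.IsPrime := isPrime_of_isPModular hM
  have hPp : IsPGroup p P := ExtFirstMain.isPGroup_of_isDefectGroup hP
  set E : G → ℂ := extN N (blockCoeff (conjUnion N b)) with hEdef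
  have hE : E = blockCoeff (coverSet N b) := extN_blockCoeff_conjUnion_eq N hM hb
  have hEcls : IsClassFunction G E := by
    rw [hE]; exact blockCoeff_isClassFunction _
  have hER : ∀ g, MemLocalRing M (E g) := extN_conjUnion_memLocalRing N hb
  have hecls : IsClassFunction G (blockCoeff B) := blockCoeff_isClassFunction B
  have heR : ∀ g, MemLocalRing M (blockCoeff B g) := by
    obtain ⟨χ₀, rfl⟩ := hB
    exact memLocalRing_blockCoeff_blockOf χ₀
  have hconv : conv (blockCoeff B) E = blockCoeff B := by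
    rw [hE]
    exact conv_blockCoeff_of_subset hBS
  obtain ⟨g, hgR, hgI, c, hgc, hcP⟩ := (brauer_unit_coeff_iff p hM B hB P hP P hPp).mpr
    ⟨1, by
      intro w hw
      obtain ⟨q, hq, rfl⟩ := hw
      simpa using hq⟩
  have hcg : blockCoeff B c = blockCoeff B g := by
    obtain ⟨k, hk⟩ := isConj_iff.mp hgc
    rw [← hk]
    exact hecls g k
  have hCH : Subgroup.centralizer (P : Set G) ≤ Subgroup.normalizer (P : Set G) :=
    Subgroup.centralizer_le_normalizer _
  obtain ⟨n, hn, hnE⟩ : ∃ n : G, n ∈ Subgroup.centralizer (P : Set G) ∧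
      ¬ MemLocalIdeal M (E n) := by
    by_contra hall
    push Not at hall
    have key := brFun_conv_sub P (Subgroup.normalizer (P : Set G)) hM hPp hCH hecls heR hEcls hER
      ⟨c, hCH hcP⟩
    rw [hconv, brFun_of_mem P _ _ (h := ⟨c, hCH hcP⟩) hcP] at key
    have hsum : MemLocalIdeal M (conv (brFun P (Subgroup.normalizer (P : Set G)) (blockCoeff B))
        (brFun P (Subgroup.normalizer (P : Set G)) E) ⟨c, hCH hcP⟩) := by
      unfold Cfsg.Agent.Lib.Helper6.conv
      apply Blau.memLocalIdeal_finset_sum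
      intro k _
      apply memLocalIdeal_mul_left (brFun_memLocalRing P _ heR k)
      by_cases hy : ((k⁻¹ * ⟨c, hCH hcP⟩ : Subgroup.normalizer (P : Set G)) : G) ∈
          Subgroup.centralizer (P : Set G)
      · rw [brFun_of_mem P _ _ hy]
        exact hall _ hy
      · rw [brFun_of_not_mem P _ _ hy]
        exact memLocalIdeal_zero hprime.one_notMem
    have := memLocalIdeal_add key hsum
    rw [sub_add_cancel] at this
    apply hgI
    rw [← hcg]
    exact this
  have hnN : n ∈ N := by
    by_contra hnN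
    apply hnE
    rw [hEdef, extN_apply_not_mem N _ hnN]
    exact memLocalIdeal_zero hprime.one_notMem
  have h1 : E n = blockCoeff (conjUnion N b) ⟨n, hnN⟩ :=
    extN_apply_mem N (blockCoeff (conjUnion N b)) ⟨n, hnN⟩
  rw [h1] at hnE
  exact ⟨⟨n, hnN⟩, hn, hnE⟩

/-- The idempotent of a union of blocks is the sum of the block idempotents of its blocks. -/
theorem blockCoeff_eq_sum_blocks [hprime : M.IsPrime] [Fintype (Quotient (blockSetoid M N))]
    (S : Set (IrrCharacter N)) [DecidablePred (· ∈ S)]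
    (hS : ∀ β ∈ S, ∀ β' : IrrCharacter N, SameBlock M (β : N → ℂ) (β' : N → ℂ) → β' ∈ S) (n : N) :
    blockCoeff S n = ∑ q : Quotient (blockSetoid M N),
      if (Quotient.out q : IrrCharacter N) ∈ S then
        blockCoeff (blockOf M ((Quotient.out q : IrrCharacter N) : N → ℂ)) n else 0 := by
  classical
  let _ : Fintype (IrrCharacter N) := fintypeIrr N
  have h1 : ∀ q : Quotient (blockSetoid M N),
      (if (Quotient.out q : IrrCharacter N) ∈ S then
        blockCoeff (blockOf M ((Quotient.out q : IrrCharacter N) : N → ℂ)) n else 0) =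
      (Nat.card N : ℂ)⁻¹ * ∑ χ : IrrCharacter N,
        if Quotient.mk (blockSetoid M N) χ = q ∧ χ ∈ S then
          (χ : N → ℂ) 1 * (starRingEnd ℂ) ((χ : N → ℂ) n) else 0 := by
    intro q
    by_cases hq : (Quotient.out q : IrrCharacter N) ∈ S
    · rw [if_pos hq, blockCoeff_eq_sum]
      congr 1
      apply Finset.sum_congr rfl
      intro χ _
      by_cases hχ : χ ∈ blockOf M ((Quotient.out q : IrrCharacter N) : N → ℂ)
      · rw [if_pos hχ, if_pos]
        refine ⟨(mem_blockOf_out_iff q χ).mp hχ, hS _ hq χ ?_⟩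
        exact hχ
      · rw [if_neg hχ, if_neg]
        rintro ⟨h, -⟩
        exact hχ ((mem_blockOf_out_iff q χ).mpr h)
    · rw [if_neg hq]
      symm
      apply mul_eq_zero_of_right
      apply Finset.sum_eq_zero
      intro χ _
      rw [if_neg]
      rintro ⟨h, hχS⟩
      apply hq
      have hχ : χ ∈ blockOf M ((Quotient.out q : IrrCharacter N) : N → ℂ) :=
        (mem_blockOf_out_iff q χ).mpr h
      have h2 : SameBlock M (χ : N → ℂ) ((Quotient.out q : IrrCharacter N) : N → ℂ) :=
        sameBlock_symm hχ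
      exact hS χ hχS _ h2
  rw [Finset.sum_congr rfl (fun q _ => h1 q), ← Finset.mul_sum, Finset.sum_comm, blockCoeff_eq_sum]
  congr 1
  apply Finset.sum_congr rfl
  intro χ _
  by_cases hχ : χ ∈ S
  · rw [if_pos hχ]
    simp only [hχ, and_true]
    rw [Finset.sum_ite_eq]
    simp
  · rw [if_neg hχ]
    simp only [hχ, and_false, if_false]
    simp

/-- A `G`-stable union of blocks of `N` whose idempotent has a unit coefficient at an element
centralising the `p`-subgroup `P` contains a `P`-stable block with a unit coefficient there. -/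
theorem exists_fixed_block_of_unit (hM : IsPModular p M) (P : Subgroup G) (hPp : IsPGroup p P)
    (S : Set (IrrCharacter N))
    (hS : ∀ β ∈ S, ∀ β' : IrrCharacter N, SameBlock M (β : N → ℂ) (β' : N → ℂ) → β' ∈ S)
    (hSconj : ∀ β : IrrCharacter N, β ∈ S → ∀ g : G,
      (⟨conjFun N g (β : N → ℂ), isIrrCharacter_conjFun N β.2 g⟩ : IrrCharacter N) ∈ S)
    (n : N) (hn : (n : G) ∈ Subgroup.centralizer (P : Set G))
    (hunit : ¬ MemLocalIdeal M (blockCoeff S n)) :
    ∃ β₀ ∈ S, (∀ x ∈ P, StabilizesBlock N (blockOf M (β₀ : N → ℂ)) x) ∧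
      ¬ MemLocalIdeal M (blockCoeff (blockOf M (β₀ : N → ℂ)) n) := by
  classical
  haveI hprime : M.IsPrime := isPrime_of_isPModular hM
  have hPK : P ≤ Subgroup.normalizer (N : Set G) := by
    rw [Subgroup.normalizer_eq_top]
    exact le_top
  let _ : Fintype (Quotient (blockSetoid M N)) := Fintype.ofFinite _
  letI act : MulAction P (Quotient (blockSetoid M N)) := blockMulAction N P hPK M
  have hsmul : ∀ (g : P) (q : Quotient (blockSetoid M N)),
      g • q = blockSmul N P hPK M g q := fun _ _ => rfl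
  set F : Quotient (blockSetoid M N) → ℂ := fun q =>
    if (Quotient.out q : IrrCharacter N) ∈ S then
      blockCoeff (blockOf M ((Quotient.out q : IrrCharacter N) : N → ℂ)) n else 0 with hF
  have hsum : blockCoeff S n = ∑ q, F q := blockCoeff_eq_sum_blocks N S hS n
  have hFR : ∀ q, MemLocalRing M (F q) := by
    intro q
    simp only [hF]
    split_ifs
    · exact memLocalRing_blockCoeff_blockOf _ _
    · exact memLocalRing_zero
  -- membership in `S` is invariant
  have hmemS : ∀ (g : P) (q : Quotient (blockSetoid M N)),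
      (Quotient.out q : IrrCharacter N) ∈ S → (Quotient.out (g • q) : IrrCharacter N) ∈ S := by
    intro g q hq
    have e0 : g • q = Quotient.mk (blockSetoid M N) (irrSmul N P hPK g (Quotient.out q)) := by
      rw [hsmul, ← blockSmul_mk, Quotient.out_eq]
    have h1 : irrSmul N P hPK g (Quotient.out q) ∈ S := by
      have h2 := hSconj _ hq (g : G)⁻¹
      convert h2 using 1
      apply Subtype.ext
      funext k
      change ((Quotient.out q : IrrCharacter N) : N → ℂ) ((cjE N (g : G) (hPK g.2)).symm k) =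
        conjFun N (g : G)⁻¹ ((Quotient.out q : IrrCharacter N) : N → ℂ) k
      rw [conjFun_apply]
      refine congrArg ((Quotient.out q : IrrCharacter N) : N → ℂ) ?_
      apply Subtype.ext
      rw [cjE_symm_coe]
      simp
    have h3 : (Quotient.out (g • q) : IrrCharacter N) ∈
        blockOf M ((Quotient.out (g • q) : IrrCharacter N) : N → ℂ) := mem_blockOf_self _
    have h4 : irrSmul N P hPK g (Quotient.out q) ∈
        blockOf M ((Quotient.out (g • q) : IrrCharacter N) : N → ℂ) :=
      (mem_blockOf_out_iff _ _).mpr e0.symm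
    exact hS _ h1 _ (sameBlock_symm h4)
  have hFinv : ∀ (g : P) (q : Quotient (blockSetoid M N)), F (g • q) = F q := by
    intro g q
    have hiff : (Quotient.out (g • q) : IrrCharacter N) ∈ S ↔
        (Quotient.out q : IrrCharacter N) ∈ S := by
      constructor
      · intro h
        have := hmemS g⁻¹ (g • q) h
        rwa [inv_smul_smul] at this
      · exact hmemS g q
    simp only [hF]
    by_cases hq : (Quotient.out q : IrrCharacter N) ∈ S
    · rw [if_pos hq, if_pos (hiff.mpr hq)]
      have h1 := subgroupBlockCoeff_blockSmul N P hPK M g q (n : G)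
      have h2 : (g : G)⁻¹ * (n : G) * (g : G) = n := by
        have := Subgroup.mem_centralizer_iff.mp hn (g : G) g.2
        rw [mul_assoc, ← this, inv_mul_cancel_left]
      rw [h2] at h1
      have e1 := subgroupBlockCoeff_coe N
        (blockOf M ((Quotient.out (blockSmul N P hPK M g q) : IrrCharacter N) : N → ℂ)) n
      have e2 := subgroupBlockCoeff_coe N
        (blockOf M ((Quotient.out q : IrrCharacter N) : N → ℂ)) n
      rw [hsmul, ← e1, ← e2]
      exact h1
    · rw [if_neg hq, if_neg (fun h => hq (hiff.mp h))]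
  obtain ⟨t, ht, hsumfix⟩ := sum_eq_sum_fixedPoints_add_nsmul p hPp
    (localSubring M).toAddSubgroup F hFR hFinv
  have hpM : MemLocalIdeal M (p : ℂ) := by
    have := memLocalIdeal_of_mem hM.2.2 hprime.one_notMem
    simpa using this
  have hpt : MemLocalIdeal M (p • t) := by
    rw [nsmul_eq_mul]
    exact memLocalIdeal_mul_right hpM ht
  have hex : ∃ q, q ∈ MulAction.fixedPoints P (Quotient (blockSetoid M N)) ∧
      ¬ MemLocalIdeal M (F q) := by
    by_contra hcon
    push Not at hcon
    have hall : MemLocalIdeal M (∑ x ∈ Finset.univ.filter (· ∈ MulAction.fixedPoints P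
        (Quotient (blockSetoid M N))), F x) := by
      apply sum_memLocalIdeal
      intro q hq
      exact hcon q (Finset.mem_filter.mp hq).2
    have := memLocalIdeal_add hall hpt
    rw [← hsumfix, ← hsum] at this
    exact hunit this
  obtain ⟨q₁, hq₁fix, hq₁F⟩ := hex
  have hq₁S : (Quotient.out q₁ : IrrCharacter N) ∈ S := by
    by_contra h
    apply hq₁F
    simp only [hF]
    rw [if_neg h]
    exact memLocalIdeal_zero hprime.one_notMem
  refine ⟨Quotient.out q₁, hq₁S, ?_, ?_⟩
  · intro x hx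
    have := hq₁fix ⟨x, hx⟩
    rw [hsmul] at this
    exact (blockSmul_eq_iff N P hPK M ⟨x, hx⟩ q₁).mp this
  · simp only [hF] at hq₁F
    rwa [if_pos hq₁S] at hq₁F

/-- **Stable Knörr theorem**: a defect group `P` of the block `B` of `G` stabilises a block `c` of
the normal subgroup `N` that is covered by `B` and has defect group `P ∩ N`. -/
theorem exists_stable_block (hM : IsPModular p M) (B : Set (IrrCharacter G)) (hB : IsPBlock M B)
    (P : Subgroup G) (hP : IsDefectGroup p M B P) :
    ∃ c : Set (IrrCharacter N), IsPBlock M c ∧ (∀ x ∈ P, StabilizesBlock N c x) ∧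
      (∃ χ ∈ B, ∃ θ ∈ c, classInner (fun n : N => (χ : G → ℂ) n) (θ : N → ℂ) ≠ 0) ∧
      IsDefectGroup p M c ((P ⊓ N).subgroupOf N) := by
  classical
  have hprime : M.IsPrime := isPrime_of_isPModular hM
  have hPp : IsPGroup p P := ExtFirstMain.isPGroup_of_isDefectGroup hP
  obtain ⟨χ₀, hχ₀B⟩ : ∃ χ₀, χ₀ ∈ B := by
    obtain ⟨χ₀, rfl⟩ := hB
    exact ⟨χ₀, mem_blockOf_self χ₀⟩
  obtain ⟨θ₀, hθ₀⟩ := exists_constituent_res N χ₀
  set b : Set (IrrCharacter N) := blockOf M (θ₀ : N → ℂ) with hbdef
  have hb : IsPBlock M b := ⟨θ₀, rfl⟩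
  have hBS : ∀ χ ∈ B, χ ∈ coverSet N b := by
    intro χ hχ
    exact CoverDefect.coverSet_closed' N hM hb ⟨θ₀, mem_blockOf_self θ₀, hθ₀⟩
      (sameBlock_of_mem hM hB hχ₀B hχ)
  obtain ⟨n, hnC, hnU⟩ := exists_unit_coeff_centralizer N hM hb B hB hBS P hP
  obtain ⟨β₀, hβ₀U, hstab, hβ₀⟩ := exists_fixed_block_of_unit N hM P hPp (conjUnion N b)
    (conjUnion_closed N hb) (fun β hβ g => conjFun_mem_conjUnion N hβ g) n hnC hnU
  refine ⟨blockOf M (β₀ : N → ℂ), ⟨β₀, rfl⟩, hstab, ?_, ?_⟩
  · -- covering
    obtain ⟨g₀, θ, hθ, hg₀⟩ := hβ₀U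
    obtain ⟨χ, hχB, hχθ⟩ := CoverOver.exists_over N hM hb B hB hBS θ hθ
    refine ⟨χ, hχB, β₀, mem_blockOf_self β₀, ?_⟩
    rw [hg₀]
    have := classInner_resFun_conjFun N (χ := (χ : G → ℂ))
      (IsCharacter.isClassFunction (IsIrrCharacter.isCharacter χ.2)) g₀ (θ : N → ℂ)
    change classInner (resFun N (χ : G → ℂ)) (conjFun N g₀ (θ : N → ℂ)) ≠ 0
    rw [this]
    exact hχθ
  · -- defect group
    obtain ⟨D₀, hD₀⟩ := exists_isDefectGroup (p := p) hM (blockOf M (β₀ : N → ℂ)) ⟨β₀, rfl⟩
    have hQp : IsPGroup p (P ⊓ N : Subgroup G) := hPp.to_le inf_le_left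
    obtain ⟨x, hx⟩ := (brauer_unit_coeff_iff p hM (blockOf M (β₀ : N → ℂ)) ⟨β₀, rfl⟩ D₀ hD₀
      ((P ⊓ N).subgroupOf N) hQp.comap_subtype).mp ⟨n, memLocalRing_blockCoeff_blockOf β₀ _, hβ₀,
        n, IsConj.refl _, by
          rw [Subgroup.mem_centralizer_iff]
          intro q hq
          apply Subtype.ext
          exact (Subgroup.mem_centralizer_iff.mp hnC) q (Subgroup.mem_subgroupOf.mp hq).1⟩
    have hlow := pow_blockDefect_le_card_inf N hM hb B hB hBS P hP
    have hcD₀ : Nat.card D₀ = p ^ blockDefect p (blockOf M (β₀ : N → ℂ)) :=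
      card_defectGroup_eq hM _ ⟨β₀, rfl⟩ D₀ hD₀
    have hdef : blockDefect p (blockOf M (β₀ : N → ℂ)) = blockDefect p b := by
      obtain ⟨g₀, θ, hθ, hg₀⟩ := hβ₀U
      rw [blockDefect_blockOf_conj N g₀ θ β₀ hg₀, blockOf_eq_of_mem hb hθ]
    have hcQN : Nat.card ((P ⊓ N).subgroupOf N) = Nat.card (P ⊓ N : Subgroup G) :=
      Nat.card_congr (Subgroup.subgroupOfEquivOfLe inf_le_right).toEquiv
    have heq : ((P ⊓ N).subgroupOf N).map (MulAut.conj x).toMonoidHom = D₀ := by
      apply Subgroup.eq_of_le_of_card_ge hx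
      rw [Subgroup.card_map_of_injective (MulAut.conj x).injective, hcQN, hcD₀, hdef]
      exact hlow
    have h1 := isDefectGroup_conj hM ⟨β₀, rfl⟩ hD₀ x⁻¹
    rw [← heq, Subgroup.map_map] at h1
    have h2 : (MulAut.conj x⁻¹).toMonoidHom.comp (MulAut.conj x).toMonoidHom = MonoidHom.id N := by
      ext n
      simp
      group
    rw [h2, Subgroup.map_id] at h1
    exact h1

end Cfsg.Agent.Lib.Helper6.KnoerrStable
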