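/-
helper6: Külshammer's formula for the principal block idempotent: for `p`-regular `g`,
`a_{B₀}(g) ≡ N(g) / R` modulo the local ideal, where `N(g)` counts the factorisations `g = x y`
with `x` a `p`-element and `y` `p`-regular, and `R` is the number of `p`-regular elements.
-/
import Mathlib
import Cfsg.Agent.Lib.Helper6.TraceOne
import Cfsg.Agent.Lib.Helper6.ThirdMain

set_option autoImplicit false

namespace Cfsg.Agent.Lib.Helper6

open Cfsg Cfsg.Agent.CharLib Cfsg.Agent.Lib.Helper24
open scoped ComplexConjugate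

universe u

section kuelshammer

variable {G : Type u} [Group G] [Fintype G] {M : Ideal AlgInt}

/-- The number of factorisations `g = x y` (`x` a `p`-element, `y` `p`-regular) as a sum. -/
theorem card_factorisations_eq (p : ℕ) (g : G) :
    (Nat.card {xy : G × G // (∃ k : ℕ, orderOf xy.1 = p ^ k) ∧ ¬ p ∣ orderOf xy.2 ∧
      xy.1 * xy.2 = g} : ℂ) =
      ∑ y : G, (by classical exact if ∃ k : ℕ, orderOf y = p ^ k then pRegInd p (y * g) else 0) := by
  classical
  let e : {xy : G × G // (∃ k : ℕ, orderOf xy.1 = p ^ k) ∧ ¬ p ∣ orderOf xy.2 ∧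
      xy.1 * xy.2 = g} ≃ {y : G // (∃ k : ℕ, orderOf y = p ^ k) ∧ ¬ p ∣ orderOf (y * g)} :=
    { toFun := fun xy => ⟨xy.1.1⁻¹, by
        obtain ⟨⟨x, y⟩, h1, h2, h3⟩ := xy
        simp only at h1 h2 h3 ⊢
        refine ⟨by rwa [orderOf_inv], ?_⟩
        rw [← h3, inv_mul_cancel_left]
        exact h2⟩
      invFun := fun y => ⟨(y.1⁻¹, y.1 * g), by
        obtain ⟨y, h1, h2⟩ := y
        simp only
        exact ⟨by rwa [orderOf_inv], h2, inv_mul_cancel_left y g⟩⟩
      left_inv := by
        rintro ⟨⟨x, y⟩, h1, h2, h3⟩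
        apply Subtype.ext
        simp only at h3 ⊢
        rw [inv_inv, ← h3, inv_mul_cancel_left]
      right_inv := by
        rintro ⟨y, h1, h2⟩
        apply Subtype.ext
        simp only
        rw [inv_inv] }
  rw [Nat.card_congr e, Nat.card_eq_fintype_card, Fintype.card_subtype, Finset.natCast_card_filter]
  apply Finset.sum_congr rfl
  intro y _
  unfold pRegInd
  by_cases h1 : ∃ k : ℕ, orderOf y = p ^ k
  · by_cases h2 : p ∣ orderOf (y * g)
    · rw [if_neg (fun h => h.2 h2), if_pos h1, if_neg (not_not.mpr h2)]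
    · rw [if_pos ⟨h1, h2⟩, if_pos h1, if_pos h2]
  · rw [if_neg (fun h => h1 h.1), if_neg h1]

/-- **Külshammer's formula** for the principal block idempotent. -/
theorem memLocalIdeal_blockCoeff_principal_sub {p : ℕ} [hpp : Fact p.Prime] (hM : IsPModular p M)
    (g : G) (hg : ¬ p ∣ orderOf g) :
    MemLocalIdeal M (blockCoeff (principalBlock M G) g -
      (Nat.card {xy : G × G // (∃ k : ℕ, orderOf xy.1 = p ^ k) ∧ ¬ p ∣ orderOf xy.2 ∧
        xy.1 * xy.2 = g} : ℂ) / (Nat.card {y : G // ¬ p ∣ orderOf y} : ℂ)) := by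
  classical
  have hprime : M.IsPrime := isPrime_of_isPModular hM
  set B₀ : Set (IrrCharacter G) := blockOf M ((trivIrr G : IrrCharacter G) : G → ℂ) with hB₀
  have hB₀' : principalBlock M G = B₀ := rfl
  rw [hB₀']
  set a : G → ℂ := blockCoeff B₀ with hadef
  set R : ℕ := Nat.card {y : G // ¬ p ∣ orderOf y} with hR
  have hRp : ¬ p ∣ R := not_dvd_card_pRegular p
  have ha : IsClassFunction G a := blockCoeff_isClassFunction _
  have haR : ∀ x, MemLocalRing M (a x) := memLocalRing_blockCoeff_blockOf _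
  have hidem : conv a a = a := conv_blockCoeff_self _
  -- the nilpotent part of the sum of the `p`-regular elements
  set u : G → ℂ := pRegInd p - (R : ℂ) • a with hudef
  have hu : IsClassFunction G u :=
    IsClassFunction.sub (pRegInd_isClassFunction p) (IsClassFunction.smul _ ha)
  have huR : ∀ x, MemLocalRing M (u x) := by
    intro x
    rw [hudef, Pi.sub_apply, Pi.smul_apply, smul_eq_mul]
    exact memLocalRing_sub (memLocalRing_pRegInd p x)
      (memLocalRing_mul (memLocalRing_natCast R) (haR x))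
  have hω : ∀ ξ : IrrCharacter G, MemLocalIdeal M (omegaFun (ξ : G → ℂ) u) := by
    intro ξ
    rw [hudef, omegaFun_sub, omegaFun_smul, omegaFun_blockCoeff]
    by_cases hξ : ξ ∈ B₀
    · rw [if_pos hξ, mul_one]
      have h1 := memLocalIdeal_omegaFun_sub (M := M) (trivIrr G) ξ hξ (pRegInd_isClassFunction p)
        (memLocalRing_pRegInd p)
      rw [omegaFun_trivIrr_pRegInd] at h1
      have h2 := memLocalIdeal_neg h1
      rwa [neg_sub] at h2
    · rw [if_neg hξ, mul_zero, sub_zero, omegaFun_pRegInd_eq_zero hM ξ hξ]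
      exact memLocalIdeal_zero hprime.one_notMem
  obtain ⟨k, hk⟩ := exists_convPow_memLocalIdeal hu huR hω
  -- the exponent
  have hcop : Nat.Coprime p (orderOf g) := (Nat.Prime.coprime_iff_not_dvd hpp.out).mpr hg
  have htot : 0 < Nat.totient (orderOf g) := Nat.totient_pos.mpr (orderOf_pos g)
  obtain ⟨n, hn⟩ : ∃ n, Nat.totient (orderOf g) * (Fintype.card G + k) = n + 1 :=
    ⟨Nat.totient (orderOf g) * (Fintype.card G + k) - 1, by
      have : 0 < Nat.totient (orderOf g) * (Fintype.card G + k) :=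
        Nat.mul_pos htot (Nat.add_pos_left Fintype.card_pos k)
      omega⟩
  have hn1 : Fintype.card G + k ≤ n + 1 := by
    rw [← hn]
    exact Nat.le_mul_of_pos_left _ htot
  have hnG : Fintype.card G ≤ n + 1 := by omega
  have hkq : k ≤ p ^ (n + 1) := by
    have := (Nat.lt_pow_self (n := n + 1) hpp.out.one_lt).le
    omega
  have hmod : p ^ (n + 1) ≡ 1 [MOD orderOf g] := by
    have h1 := (Nat.ModEq.pow_totient hcop).pow (Fintype.card G + k)
    rwa [← pow_mul, one_pow, hn] at h1
  have hgq : (g⁻¹) ^ (p ^ (n + 1)) = g⁻¹ := by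
    have := (pow_eq_pow_iff_modEq (x := g)).mpr hmod
    rw [pow_one] at this
    rw [inv_pow, this]
  -- claim 1: the `u`-part of the count lies in the local ideal
  have hzuR : ∀ x, MemLocalRing M (transl u g⁻¹ x) := fun x => huR _
  have hSuR : MemLocalRing M (∑ y : G, if ∃ k : ℕ, orderOf y = p ^ k then transl u g⁻¹ y else 0) := by
    apply sum_memLocalRing
    intro y _
    split_ifs
    · exact hzuR y
    · exact memLocalRing_zero
  have hclaim1 : MemLocalIdeal M
      (∑ y : G, if ∃ k : ℕ, orderOf y = p ^ k then transl u g⁻¹ y else 0) := by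
    have h1 := memLocalIdeal_wordSum_one_sub_pow hM hzuR hnG
    have h2 : MemLocalIdeal M (wordSum (transl u g⁻¹) (p ^ (n + 1)) 1) := by
      rw [wordSum_transl hu]
      exact memLocalIdeal_wordSum_of_le hu huR hk hkq _
    have h3 := memLocalIdeal_sub h2 h1
    rw [sub_sub_cancel] at h3
    exact memLocalIdeal_of_pow hSuR _ h3
  -- claim 2: the `a`-part is congruent to `a g`
  have hzaR : ∀ x, MemLocalRing M (transl a g⁻¹ x) := fun x => haR _
  have hclaim2 : MemLocalIdeal M
      ((∑ y : G, if ∃ k : ℕ, orderOf y = p ^ k then transl a g⁻¹ y else 0) - a g) := by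
    have h1 := memLocalIdeal_sum_pElements_wordSum_sub hM hzaR hnG
    have h2 : wordSum (transl a g⁻¹) (p ^ (n + 1)) = transl a g⁻¹ := by
      rw [wordSum_transl ha, hgq]
      obtain ⟨m, hm⟩ : ∃ m, p ^ (n + 1) = m + 1 :=
        ⟨p ^ (n + 1) - 1, by
          have := Nat.pow_pos (n := n + 1) hpp.out.pos
          omega⟩
      rw [hm, wordSum_of_idempotent ha hidem]
    rw [h2] at h1
    have h3 : transl a g⁻¹ 1 = a g := by
      unfold transl
      rw [inv_inv, one_mul]
    rwa [h3] at h1
  -- assemble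
  rw [card_factorisations_eq]
  have hsplit : (∑ y : G, if ∃ k : ℕ, orderOf y = p ^ k then pRegInd p (y * g) else 0) =
      (∑ y : G, if ∃ k : ℕ, orderOf y = p ^ k then transl u g⁻¹ y else 0) +
      (R : ℂ) * ∑ y : G, if ∃ k : ℕ, orderOf y = p ^ k then transl a g⁻¹ y else 0 := by
    rw [Finset.mul_sum, ← Finset.sum_add_distrib]
    apply Finset.sum_congr rfl
    intro y _
    by_cases hy : ∃ k : ℕ, orderOf y = p ^ k
    · simp only [if_pos hy]
      unfold transl
      rw [inv_inv, hudef, Pi.sub_apply, Pi.smul_apply, smul_eq_mul]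
      ring
    · simp only [if_neg hy]
      ring
  have hR0 : (R : ℂ) ≠ 0 := by
    intro h
    have : R = 0 := by exact_mod_cast h
    exact hRp (this ▸ dvd_zero p)
  have hfinal : a g - (∑ y : G, if ∃ k : ℕ, orderOf y = p ^ k then pRegInd p (y * g) else 0) /
      (R : ℂ) = -((∑ y : G, if ∃ k : ℕ, orderOf y = p ^ k then transl a g⁻¹ y else 0) - a g) -
        (∑ y : G, if ∃ k : ℕ, orderOf y = p ^ k then transl u g⁻¹ y else 0) * (R : ℂ)⁻¹ := by
    rw [hsplit]
    field_simp
    ring
  rw [hfinal]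
  exact memLocalIdeal_sub (memLocalIdeal_neg hclaim2)
    (memLocalIdeal_mul_right hclaim1 (memLocalRing_inv_natCast_of_not_dvd hM hRp))

end kuelshammer

end Cfsg.Agent.Lib.Helper6
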