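import Mathlib
import Cfsg.Agent.Lib.Helper14.Unitary3
import Cfsg.Agent.Lib.Helper12.ST64U
import Cfsg.Agent.S2643

/-!
helper6: leaf lemma U1 for S6001 (helper12): if `x` is a unitary `4 × 4` matrix of determinant
one over the field with `p ^ 2` elements, `p % 4 = 3`, and `x * x` is the scalar `lam`, then
`lam` is the square of an element of norm one.
-/

set_option autoImplicit false

namespace Cfsg.Agent.Lib.Helper6.Leaf6001

open Polynomial Cfsg.Agent.Lib.Helper14

section general

variable {F : Type*} [Field F]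

/-- an involution of trace `0` in dimension `4` fixes a plane -/
theorem fixd_eq_two (p : ℕ) [Fact p.Prime] [CharP F p] (h2 : (2 : F) ≠ 0)
    (y : Matrix (Fin 4) (Fin 4) F) (hy : y * y = 1) (ht : y.trace = 0) :
    Cfsg.Agent.Lib.Helper12.ST64.fixd y = 2 := by
  have hpp : p.Prime := Fact.out
  have hp2 : p ≠ 2 := by
    rintro rfl
    apply h2
    have := CharP.cast_eq_zero F 2
    exact_mod_cast this
  have hp3 : 3 ≤ p := by
    have := hpp.two_le
    omega
  have h1 := Cfsg.Agent.Lib.Helper12.ST64.fixd_two h2 y hy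
  rw [ht, add_zero] at h1
  have h3 : ((Cfsg.Agent.Lib.Helper12.ST64.fixd y : ℕ) : F) = 2 := by
    rw [h1]
    push_cast
    field_simp
    norm_num
  have hle := Cfsg.Agent.Lib.Helper12.ST64.fixd_le y
  have h4 : (((Cfsg.Agent.Lib.Helper12.ST64.fixd y : ℤ) - 2 : ℤ) : F) = 0 := by
    push_cast
    rw [h3]
    ring
  rw [CharP.intCast_eq_zero_iff F p] at h4
  have h5 := Int.eq_zero_of_abs_lt_dvd h4 (by
    rw [abs_lt]
    constructor <;> omega)
  omega

end general

variable {F : Type*} [Field F] [Fintype F] {p : ℕ} [Fact p.Prime] [CharP F p]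

omit [Fintype F] [Fact p.Prime] [CharP F p] in
theorem normA
    (x : Matrix (Fin 4) (Fin 4) F) (lam : F) (hu : IsUni F p 4 x)
    (hx : x * x = lam • (1 : Matrix (Fin 4) (Fin 4) F)) : lam * lam ^ p = 1 := by
  have h1 := (hu.mul hu) (Pi.single 0 1) (Pi.single 0 1)
  rw [hx] at h1
  simpa [Cfsg.hermForm, Matrix.smul_mulVec, Fin.sum_univ_four, Pi.single_apply] using h1

/-- an involution `y` of `GL_4` with `yᴴ y = -1` has determinant one -/
theorem det_of_skew (h2 : (2 : F) ≠ 0)
    (y : Matrix (Fin 4) (Fin 4) F) (hy : y * y = 1)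
    (hH : (y.transpose.map (fun a => a ^ p)) * y = -1) : y.det = 1 := by
  classical
  have hH' : y.transpose.map (fun a => a ^ p) = -y := by
    calc y.transpose.map (fun a => a ^ p) = y.transpose.map (fun a => a ^ p) * (y * y) := by
          rw [hy, mul_one]
      _ = -y := by rw [← mul_assoc, hH, neg_mul, one_mul]
  have ht1 : y.trace ^ p = -y.trace := by
    have := congrArg Matrix.trace hH'
    rw [Matrix.trace_neg] at this
    rw [← this]
    unfold Matrix.trace
    rw [sum_pow_char]
    rfl
  have hf2 := Cfsg.Agent.Lib.Helper12.ST64.fixd_two h2 y hy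
  have ht2 : y.trace = ((2 * (Cfsg.Agent.Lib.Helper12.ST64.fixd y : ℤ) - 4 : ℤ) : F) := by
    push_cast
    rw [hf2]
    push_cast
    field_simp
    ring
  have ht3 : y.trace ^ p = y.trace := by
    rw [ht2]
    have := map_intCast (frobenius F p) (2 * (Cfsg.Agent.Lib.Helper12.ST64.fixd y : ℤ) - 4)
    simpa [frobenius_def] using this
  have ht0 : y.trace = 0 := by
    have h : (2 : F) * y.trace = 0 := by
      have := ht1.symm.trans ht3
      linear_combination -this
    rcases mul_eq_zero.1 h with h | h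
    · exact absurd h h2
    · exact h
  have hfy := fixd_eq_two p h2 y hy ht0
  -- the standard involution
  let m : Matrix (Fin 4) (Fin 4) F := Matrix.diagonal ![1, 1, -1, -1]
  have hm : m * m = 1 := by
    show Matrix.diagonal _ * Matrix.diagonal _ = 1
    rw [Matrix.diagonal_mul_diagonal, ← Matrix.diagonal_one]
    congr 1
    ext i
    fin_cases i <;> simp
  have hmt : m.trace = 0 := by
    show (Matrix.diagonal _).trace = 0
    rw [Matrix.trace_diagonal, Fin.sum_univ_four]
    simp
  have hmd : m.det = 1 := by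
    show (Matrix.diagonal _).det = 1
    rw [Matrix.det_diagonal, Fin.prod_univ_four]
    simp
  have hfm := fixd_eq_two p h2 m hm hmt
  let yG : GL (Fin 4) F := ⟨y, y, hy, hy⟩
  let mG : GL (Fin 4) F := ⟨m, m, hm, hm⟩
  have hyG : yG ^ 2 = 1 := by
    apply Units.ext
    rw [Units.val_pow_eq_pow_val, pow_two]
    exact hy
  have hmG : mG ^ 2 = 1 := by
    apply Units.ext
    rw [Units.val_pow_eq_pow_val, pow_two]
    exact hm
  have hQi : Irreducible (X + 1 : F[X]) := by
    have := irreducible_X_sub_C (-1 : F)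
    simpa using this
  obtain ⟨g, -, hg⟩ := Cfsg.Agent.Lib.Helper12.ST64.sl_conj_of_fix (X + 1 : F[X])
    (monic_X_add_C 1) hQi (by simp; exact_mod_cast h2) 2 (by exact_mod_cast h2) (by ring) yG mG hyG hmG
    (hfy.trans hfm.symm)
  have h3 := congrArg (fun z : GL (Fin 4) F => (z : Matrix (Fin 4) (Fin 4) F).det) hg
  simp only [Units.val_mul, Matrix.det_mul] at h3
  have hgi : ((g⁻¹ : GL (Fin 4) F) : Matrix (Fin 4) (Fin 4) F).det * (g : Matrix (Fin 4) (Fin 4) F).det = 1 := by
    rw [← Matrix.det_mul, ← Units.val_mul, inv_mul_cancel, Units.val_one, Matrix.det_one]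
  have h4 : y.det = m.det := by
    have : (yG : Matrix (Fin 4) (Fin 4) F).det = (mG : Matrix (Fin 4) (Fin 4) F).det := by
      rw [← h3]
      linear_combination (-(yG : Matrix (Fin 4) (Fin 4) F).det) * hgi
    exact this
  rw [h4, hmd]

theorem U1 (hF : Fintype.card F = p ^ 2) (hp4 : p % 4 = 3)
    (x : Matrix (Fin 4) (Fin 4) F) (lam : F) (hu : IsUni F p 4 x)
    (hx : x * x = lam • (1 : Matrix (Fin 4) (Fin 4) F)) (hdet : x.det = 1) :
    ∃ μ : F, μ ^ (p + 1) = 1 ∧ μ * μ = lam := by
  classical
  have hpp : p.Prime := Fact.out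
  have h2 : (2 : F) ≠ 0 := by
    intro h
    have h' : ((2 : ℕ) : F) = 0 := by exact_mod_cast h
    rw [CharP.cast_eq_zero_iff F p] at h'
    have := Nat.le_of_dvd (by norm_num) h'
    have := hpp.two_le
    have : p = 2 := by omega
    omega
  have hA : lam * lam ^ p = 1 := normA x lam hu hx
  have hA' : lam ^ (p + 1) = 1 := by rw [pow_succ', hA]
  have hB : lam ^ 4 = 1 := by
    have := congrArg Matrix.det hx
    rw [Matrix.det_mul, hdet, Matrix.det_smul, Matrix.det_one, Fintype.card_fin] at this
    simpa using this.symm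
  have hlam0 : lam ≠ 0 := by
    rintro rfl
    simp at hB
  obtain ⟨k, hk⟩ : ∃ k, p + 1 = 4 * k := ⟨(p + 1) / 4, by omega⟩
  obtain ⟨j, hj⟩ : ∃ j, p = 2 * j + 1 := ⟨p / 2, by omega⟩
  have hjk : j + 1 = 2 * k := by omega
  have hcard : p ^ 2 = 8 * (j * k) + 1 := by
    have h1 : p ^ 2 = 4 * (j * (j + 1)) + 1 := by rw [hj]; ring
    rw [h1, hjk]; ring
  -- `-1` is a square
  have hsq : IsSquare (-1 : F) := by
    rw [FiniteField.isSquare_neg_one_iff, hF, hcard]
    omega
  obtain ⟨i, hi⟩ := hsq
  have hfac : (lam ^ 2 - 1) * (lam ^ 2 + 1) = 0 := by linear_combination hB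
  rcases mul_eq_zero.1 hfac with h | h
  · have hfac2 : (lam - 1) * (lam + 1) = 0 := by linear_combination h
    rcases mul_eq_zero.1 hfac2 with h' | h'
    · refine ⟨1, one_pow _, ?_⟩
      rw [one_mul]
      exact (sub_eq_zero.1 h').symm
    · refine ⟨i, ?_, ?_⟩
      · rw [hk, show 4 * k = 2 * (2 * k) by ring, pow_mul, pow_two, ← hi, pow_mul]
        norm_num
      · rw [← hi]
        linear_combination -h'
  · have hl2 : lam ^ 2 = -1 := by linear_combination h
    have hchar : ringChar F ≠ 2 := by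
      rw [ringChar.eq F p]
      omega
    have hsql : IsSquare lam := by
      rw [FiniteField.isSquare_iff hchar hlam0, hF, hcard]
      have : (8 * (j * k) + 1) / 2 = 4 * (j * k) := by omega
      rw [this, pow_mul, hB, one_pow]
    obtain ⟨ε, hε⟩ := hsql
    have hε0 : ε ≠ 0 := by
      rintro rfl
      apply hlam0
      rw [hε, mul_zero]
    have he2 : ε ^ (p + 1) * ε ^ (p + 1) = 1 := by
      rw [← mul_pow, ← hε, hA']
    have hfac3 : (ε ^ (p + 1) - 1) * (ε ^ (p + 1) + 1) = 0 := by linear_combination he2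
    rcases mul_eq_zero.1 hfac3 with h' | h'
    · exact ⟨ε, sub_eq_zero.1 h', hε.symm⟩
    · exfalso
      have he : ε ^ (p + 1) = -1 := by linear_combination h'
      have hxH := (Cfsg.Agent.S2643.isUni_iff hF x).1 hu
      let y : Matrix (Fin 4) (Fin 4) F := ε⁻¹ • x
      have hy : y * y = 1 := by
        show (ε⁻¹ • x) * (ε⁻¹ • x) = 1
        rw [Matrix.smul_mul, Matrix.mul_smul, hx, smul_smul, smul_smul, hε]
        have : ε⁻¹ * ε⁻¹ * (ε * ε) = 1 := by field_simp
        rw [this, one_smul]
      have hyT : y.transpose.map (fun a => a ^ p) = (ε⁻¹) ^ p • x.transpose.map (fun a => a ^ p) := by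
        ext a b
        simp [y, mul_pow]
      have hyH : (y.transpose.map (fun a => a ^ p)) * y = -1 := by
        rw [hyT]
        show ((ε⁻¹) ^ p • x.transpose.map (fun a => a ^ p)) * (ε⁻¹ • x) = -1
        rw [Matrix.smul_mul, Matrix.mul_smul, hxH, smul_smul]
        have : ε⁻¹ ^ p * ε⁻¹ = -1 := by
          rw [← pow_succ, inv_pow, he]
          norm_num
        rw [this, neg_smul, one_smul]
      have hdy : y.det = -1 := by
        show (ε⁻¹ • x).det = -1
        rw [Matrix.det_smul, hdet, Fintype.card_fin, mul_one, inv_pow]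
        have : ε ^ 4 = -1 := by
          rw [← hl2, hε]; ring
        rw [this]
        norm_num
      have := det_of_skew h2 y hy hyH
      rw [hdy] at this
      apply h2
      linear_combination -this

end Cfsg.Agent.Lib.Helper6.Leaf6001
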