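import Mathlib
import Cfsg.Agent.Lib.Helper14.Unitary3

/-!
helper6: leaf lemma U3 for S6001 (helper12): an element of order 5 in `SU_4(p)` with
`tr x = tr x⁻¹ = 2 + τ`, `τ ^ 2 + τ - 1 = 0`, `τ ^ p = τ`.
-/

set_option autoImplicit false

namespace Cfsg.Agent.Lib.Helper6.Leaf6001

open Polynomial Cfsg.Agent.Lib.Helper14

variable {F : Type*} [Field F] [Fintype F] {p : ℕ} [Fact p.Prime] [CharP F p]

/-- surjectivity of the norm onto the fixed field of Frobenius (including `0`) -/
theorem exists_norm_eq (hF : Fintype.card F = p ^ 2) (c : F) (hc : c ^ p = c) :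
    ∃ b : F, b * b ^ p = c := by
  classical
  by_cases hc0 : c = 0
  · exact ⟨0, by rw [hc0, zero_mul]⟩
  · have h1 := normFiber_of_mem hF c (mem_fixStar.2 ⟨hc0, hc⟩)
    unfold normFiber at h1
    have h2 : 0 < (Finset.univ.filter (fun w : F => w * w ^ p = c)).card := by rw [h1]; omega
    obtain ⟨w, hw⟩ := Finset.card_pos.1 h2
    rw [Finset.mem_filter] at hw
    exact ⟨w, hw.2⟩

/-- the matrix `s R + t` on the first block, identity on the second -/
def blk (a b c s t : F) : Matrix (Fin 4) (Fin 4) F :=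
  !![s * a + t, s * b, 0, 0; -(s * c), s * a + t, 0, 0; 0, 0, 1, 0; 0, 0, 0, 1]

omit [Fintype F] [Fact p.Prime] [CharP F p] in
theorem blk_mul (a b c s t : F) (hbc : b * c = 1 - a ^ 2) :
    blk a b c s t * blk a b c 1 0 = blk a b c (s * (2 * a) + t) (-s) := by
  unfold blk
  ext i j
  fin_cases i <;> fin_cases j <;>
    simp [Matrix.mul_apply, Fin.sum_univ_four] <;>
    first | linear_combination (-s) * hbc | linear_combination s * hbc | ring

omit [Fintype F] [Fact p.Prime] [CharP F p] in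
theorem blk_one (a b c : F) : blk a b c 0 1 = 1 := by
  unfold blk
  ext i j
  fin_cases i <;> fin_cases j <;> simp

omit [Fintype F] [Fact p.Prime] [CharP F p] in
theorem blk_pow_five (a b c : F) (hbc : b * c = 1 - a ^ 2) (ha : 4 * a ^ 2 + 2 * a - 1 = 0) :
    blk a b c 1 0 ^ 5 = 1 := by
  have e1 : blk a b c 1 0 ^ 2 = blk a b c (2 * a) (-1) := by
    rw [pow_two, blk_mul a b c 1 0 hbc]
    congr 1; ring
  have e2 : blk a b c 1 0 ^ 3 = blk a b c (4 * a ^ 2 - 1) (-(2 * a)) := by
    rw [pow_succ, e1, blk_mul a b c _ _ hbc]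
    congr 1; ring
  have e3 : blk a b c 1 0 ^ 4 = blk a b c (8 * a ^ 3 - 4 * a) (-(4 * a ^ 2 - 1)) := by
    rw [pow_succ, e2, blk_mul a b c _ _ hbc]
    congr 1; ring
  have e4 : blk a b c 1 0 ^ 5 = blk a b c (16 * a ^ 4 - 12 * a ^ 2 + 1)
      (-(8 * a ^ 3 - 4 * a)) := by
    rw [pow_succ, e3, blk_mul a b c _ _ hbc]
    congr 1; ring
  rw [e4, ← blk_one a b c]
  congr 1
  · linear_combination (4 * a ^ 2 - 2 * a - 1) * ha
  · linear_combination (-(2 * a) + 1) * ha

theorem U3 (hF : Fintype.card F = p ^ 2) (h2 : (2 : F) ≠ 0) (h5 : (5 : F) ≠ 0) (τ : F)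
    (hτ : τ ^ 2 + τ - 1 = 0) (hτp : τ ^ p = τ) :
    ∃ x : GL (Fin 4) F, IsUni F p 4 (x : Matrix (Fin 4) (Fin 4) F) ∧
      Matrix.det (x : Matrix (Fin 4) (Fin 4) F) = 1 ∧ x ^ 5 = 1 ∧
      (∀ z : F, (x : Matrix (Fin 4) (Fin 4) F) ≠ z • (1 : Matrix (Fin 4) (Fin 4) F)) ∧
      (x : Matrix (Fin 4) (Fin 4) F).trace = 2 + τ ∧
      ((x⁻¹ : GL (Fin 4) F) : Matrix (Fin 4) (Fin 4) F).trace = 2 + τ := by
  classical
  have hpp : p.Prime := Fact.out
  -- `p` is odd
  have hp2 : p ≠ 2 := by
    rintro rfl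
    apply h2
    have := CharP.cast_eq_zero F 2
    exact_mod_cast this
  have hodd : Odd p := hpp.odd_of_ne_two hp2
  -- the Frobenius fixes `2`
  have h2p : (2 : F) ^ p = 2 := by
    have := map_natCast (frobenius F p) 2
    simpa [frobenius_def] using this
  set a : F := τ / 2 with ha_def
  have hta : τ = 2 * a := by rw [ha_def]; field_simp
  have hap : a ^ p = a := by
    rw [ha_def, div_pow, hτp, h2p]
  have ha : 4 * a ^ 2 + 2 * a - 1 = 0 := by
    rw [hta] at hτ
    linear_combination hτ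
  have hcp : (1 - a ^ 2) ^ p = 1 - a ^ 2 := by
    rw [sub_pow_char, one_pow, ← pow_mul, mul_comm, pow_mul, hap]
  obtain ⟨b, hb⟩ := exists_norm_eq hF (1 - a ^ 2) hcp
  set c : F := b ^ p with hc_def
  have hbc : b * c = 1 - a ^ 2 := hb
  have hcpow : c ^ p = b := by
    rw [hc_def, ← pow_mul, ← pow_two, ← hF]
    exact FiniteField.pow_card b
  -- the matrix and its inverse
  let M : Matrix (Fin 4) (Fin 4) F := blk a b c 1 0
  let M' : Matrix (Fin 4) (Fin 4) F := !![a, -b, 0, 0; c, a, 0, 0; 0, 0, 1, 0; 0, 0, 0, 1]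
  have hM : M = !![a, b, 0, 0; -c, a, 0, 0; 0, 0, 1, 0; 0, 0, 0, 1] := by
    show blk a b c 1 0 = _
    unfold blk
    simp
  have hMM' : M * M' = 1 := by
    rw [hM]
    ext i j
    fin_cases i <;> fin_cases j <;>
      simp [M', Matrix.mul_apply, Fin.sum_univ_four] <;>
      first | linear_combination hbc | linear_combination (-1 : F) * hbc | ring
  have hM'M : M' * M = 1 := by
    rw [hM]
    ext i j
    fin_cases i <;> fin_cases j <;>
      simp [M', Matrix.mul_apply, Fin.sum_univ_four] <;>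
      first | linear_combination hbc | linear_combination (-1 : F) * hbc | ring
  let x : GL (Fin 4) F := ⟨M, M', hMM', hM'M⟩
  have hx : (x : Matrix (Fin 4) (Fin 4) F) = M := rfl
  have hxi : ((x⁻¹ : GL (Fin 4) F) : Matrix (Fin 4) (Fin 4) F) = M' := rfl
  refine ⟨x, ?_, ?_, ?_, ?_, ?_, ?_⟩
  · -- unitarity
    rw [hx, hM]
    intro u v
    unfold Cfsg.hermForm
    simp only [Fin.sum_univ_four, Matrix.mulVec, dotProduct]
    simp only [Matrix.of_apply, Matrix.cons_val', Matrix.cons_val_zero, Matrix.cons_val_one,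
      Matrix.empty_val', Matrix.cons_val_fin_one, Matrix.cons_val_two, Matrix.cons_val_three,
      Matrix.head_cons, Matrix.tail_cons, Matrix.head_fin_const]
    simp only [zero_mul, one_mul, add_zero, zero_add]
    rw [add_pow_char, add_pow_char, mul_pow, mul_pow, mul_pow, mul_pow, hap, hodd.neg_pow, hcpow]
    rw [← hc_def]
    linear_combination (u 0 * v 0 ^ p + u 1 * v 1 ^ p) * hbc
  · rw [hx, hM]
    rw [Matrix.det_succ_row_zero]
    simp [Fin.sum_univ_four, Matrix.det_fin_three, Fin.succAbove]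
    linear_combination hbc
  · apply Units.ext
    rw [Units.val_pow_eq_pow_val, hx, Units.val_one]
    exact blk_pow_five a b c hbc ha
  · intro z hz
    rw [hx, hM] at hz
    have h0 := congrFun (congrFun hz 0) 0
    have h3 := congrFun (congrFun hz 3) 3
    simp [Matrix.smul_apply] at h0 h3
    have ha1 : a = 1 := h0.trans h3.symm
    apply h5
    rw [ha1] at ha
    linear_combination ha
  · rw [hx, hM]
    simp [Matrix.trace, Fin.sum_univ_four]
    rw [hta]; ring
  · rw [hxi]
    simp [M', Matrix.trace, Fin.sum_univ_four]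
    rw [hta]; ring
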