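import Mathlib
import Cfsg.Agent.Lib.Helper14.Unitary3

/-!
helper6: leaf lemma U4 for S6001 (helper12): an element of order 3 in `SU_4(p)`, `p % 3 = 2`,
with `tr x * tr x⁻¹ = 7` (the diagonal matrix `diag(ω, ω, ω, 1)`).
-/

set_option autoImplicit false

namespace Cfsg.Agent.Lib.Helper6.Leaf6001

open Polynomial Cfsg.Agent.Lib.Helper14

variable {F : Type*} [Field F] [Fintype F] {p : ℕ} [Fact p.Prime] [CharP F p]

/-- a primitive cube root of unity in the field with `p ^ 2` elements, `p % 3 = 2` -/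
theorem exists_omega (hF : Fintype.card F = p ^ 2) (hp3 : p % 3 = 2) :
    ∃ ω : F, ω ^ 2 + ω + 1 = 0 ∧ ω ^ 3 = 1 ∧ ω ≠ 1 := by
  classical
  have hcard : Fintype.card Fˣ = p ^ 2 - 1 := by
    rw [Fintype.card_units, hF]
  have h3 : 3 ∣ Fintype.card Fˣ := by
    rw [hcard]
    have hp1 : 1 ≤ p ^ 2 := Nat.one_le_pow _ _ (Fact.out : p.Prime).pos
    have : (p ^ 2) % 3 = 1 := by
      rw [Nat.pow_mod, hp3]
    omega
  haveI : Fact (Nat.Prime 3) := ⟨Nat.prime_three⟩
  obtain ⟨u, hu⟩ := exists_prime_orderOf_dvd_card 3 h3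
  have hu3 : u ^ 3 = 1 := by rw [← hu]; exact pow_orderOf_eq_one u
  have hu1 : u ≠ 1 := by
    intro h
    rw [h, orderOf_one] at hu
    omega
  have hω3 : (u : F) ^ 3 = 1 := by
    have := congrArg (fun x : Fˣ => (x : F)) hu3
    simpa using this
  have hω1 : (u : F) ≠ 1 := by
    intro h
    exact hu1 (Units.ext h)
  refine ⟨(u : F), ?_, hω3, hω1⟩
  have hfac : ((u : F) - 1) * ((u : F) ^ 2 + (u : F) + 1) = 0 := by
    have : ((u : F) - 1) * ((u : F) ^ 2 + (u : F) + 1) = (u : F) ^ 3 - 1 := by ring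
    rw [this, hω3, sub_self]
  rcases mul_eq_zero.mp hfac with h | h
  · exact absurd (sub_eq_zero.mp h) hω1
  · exact h

theorem U4 (hF : Fintype.card F = p ^ 2) (hp3 : p % 3 = 2) :
    ∃ x : GL (Fin 4) F, IsUni F p 4 (x : Matrix (Fin 4) (Fin 4) F) ∧
      Matrix.det (x : Matrix (Fin 4) (Fin 4) F) = 1 ∧ x ^ 3 = 1 ∧
      (∀ z : F, (x : Matrix (Fin 4) (Fin 4) F) ≠ z • (1 : Matrix (Fin 4) (Fin 4) F)) ∧
      (x : Matrix (Fin 4) (Fin 4) F).trace *
        ((x⁻¹ : GL (Fin 4) F) : Matrix (Fin 4) (Fin 4) F).trace = 7 := by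
  classical
  obtain ⟨ω, hω, hω3, hω1⟩ := exists_omega (F := F) (p := p) hF hp3
  -- `ω ^ (p + 1) = 1`
  have hp1 : 3 ∣ p + 1 := by omega
  have hωp : ω ^ (p + 1) = 1 := by
    obtain ⟨k, hk⟩ := hp1
    rw [hk, pow_mul, hω3, one_pow]
  let d : Fin 4 → F := ![ω, ω, ω, 1]
  let d' : Fin 4 → F := ![ω ^ 2, ω ^ 2, ω ^ 2, 1]
  have hdd' : Matrix.diagonal d * Matrix.diagonal d' = 1 := by
    rw [Matrix.diagonal_mul_diagonal, ← Matrix.diagonal_one]
    congr 1
    funext i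
    fin_cases i <;> simp [d, d'] <;> rw [← hω3] <;> ring
  have hd'd : Matrix.diagonal d' * Matrix.diagonal d = 1 := by
    rw [Matrix.diagonal_mul_diagonal, ← Matrix.diagonal_one]
    congr 1
    funext i
    fin_cases i <;> simp [d, d'] <;> rw [← hω3] <;> ring
  let x : GL (Fin 4) F := ⟨Matrix.diagonal d, Matrix.diagonal d', hdd', hd'd⟩
  have hx : (x : Matrix (Fin 4) (Fin 4) F) = Matrix.diagonal d := rfl
  have hxi : ((x⁻¹ : GL (Fin 4) F) : Matrix (Fin 4) (Fin 4) F) = Matrix.diagonal d' := rfl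
  refine ⟨x, ?_, ?_, ?_, ?_, ?_⟩
  · rw [hx]
    apply isUni_diagonal
    intro i
    fin_cases i <;> simp [d] <;> rw [← pow_succ'] <;> exact hωp
  · rw [hx, Matrix.det_diagonal]
    simp [d, Fin.prod_univ_four]
    rw [← hω3]; ring
  · apply Units.ext
    rw [Units.val_pow_eq_pow_val, hx, Matrix.diagonal_pow, Units.val_one, ← Matrix.diagonal_one]
    congr 1
    funext i
    fin_cases i <;> simp [d, hω3]
  · intro z hz
    rw [hx] at hz
    have h0 := congrFun (congrFun hz 0) 0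
    have h3 := congrFun (congrFun hz 3) 3
    simp [d, Matrix.smul_apply] at h0 h3
    exact hω1 (h0.trans h3.symm)
  · rw [hx, hxi, Matrix.trace_diagonal, Matrix.trace_diagonal]
    simp [d, d', Fin.sum_univ_four]
    have h2 : ω ^ 2 = -ω - 1 := by linear_combination hω
    rw [h2]
    linear_combination (-9 : F) * hω
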