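import Mathlib
import Cfsg.Agent.Lib.Helper10.PGroupBasic

set_option autoImplicit false

namespace Cfsg.Agent.Lib.Helper6.Leaf


section aux

variable {G : Type*} [Group G]

/-- the class-two power formula for exponent four -/
theorem mul_pow_four_of_central (g u c : G) (hc : ∀ y, c * y = y * c) (h : g * u = c * (u * g)) :
    (g * u) ^ 4 = c ^ 10 * (u ^ 4 * g ^ 4) := by
  have hc1 : ∀ y, y * c = c * y := fun y => (hc y).symm
  have hc2 : ∀ y z, y * (c * z) = c * (y * z) := fun y z => by
    rw [← mul_assoc, hc1, mul_assoc]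
  have h2 : ∀ z, g * (u * z) = c * (u * (g * z)) := fun z => by
    rw [← mul_assoc, h, mul_assoc, mul_assoc]
  simp only [pow_succ, pow_zero, one_mul, mul_assoc, h, h2, hc2, hc1]

end aux

open scoped commutatorElement

/-- (L1) with the non-deprecated name -/
theorem L1_aux {G : Type*} [Group G] [Finite G] (h2 : IsPGroup 2 G)
    (hZ : Nat.card (Subgroup.center G) = 4) (hexp : Monoid.exponent G = 4)
    (hchar : ∀ A : Subgroup G, A.Characteristic → IsMulCommutative A → IsCyclic A) :
    (∀ u ∈ Subgroup.upperCentralSeries G 2, ∀ g : G, (g * u * g⁻¹ * u⁻¹) ^ 2 = 1) ∧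
      Subgroup.centralizer (Subgroup.upperCentralSeries G 2 : Set G) = Subgroup.center G := by
  have hpow4 : ∀ y : G, y ^ 4 = 1 := fun y => by
    rw [← hexp]; exact Monoid.pow_exponent_eq_one y
  have hcomm_mem : ∀ u ∈ Subgroup.upperCentralSeries G 2, ∀ g : G, g * u * g⁻¹ * u⁻¹ ∈ Subgroup.center G := by
    intro u hu g
    have h1 := (Subgroup.mem_upperCentralSeries_succ_iff (n := 1)).mp hu g⁻¹
    rw [Subgroup.upperCentralSeries_one] at h1
    -- ⁅u, g⁻¹⁆ = u g⁻¹ u⁻¹ g ; conjugate by g
    have h3 : g * ⁅u, g⁻¹⁆ * g⁻¹ ∈ Subgroup.center G := (inferInstance : (Subgroup.center G).Normal).conj_mem _ h1 g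
    have h4 : g * ⁅u, g⁻¹⁆ * g⁻¹ = (g * u * g⁻¹ * u⁻¹) := by
      rw [commutatorElement_def]; group
    rw [h4] at h3
    exact h3
  have hz4 : ∀ c ∈ Subgroup.center G, c ^ 4 = 1 := fun c _ => hpow4 c
  constructor
  · intro u hu g
    set c := g * u * g⁻¹ * u⁻¹ with hcdef
    have hcZ : c ∈ Subgroup.center G := hcomm_mem u hu g
    have hc : ∀ y, c * y = y * c := fun y => ((Subgroup.mem_center_iff.mp hcZ) y).symm
    have hgu : g * u = c * (u * g) := by rw [hcdef]; group
    have h10 := mul_pow_four_of_central g u c hc hgu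
    rw [hpow4, hpow4, hpow4, one_mul, mul_one] at h10
    have h4 : c ^ 4 = 1 := hpow4 c
    have : c ^ 10 = c ^ 2 := by
      calc c ^ 10 = (c ^ 4) ^ 2 * c ^ 2 := by rw [← pow_mul, ← pow_add]
        _ = c ^ 2 := by rw [h4, one_pow, one_mul]
    rw [← this]; exact h10.symm
  · set Z2 := Subgroup.upperCentralSeries G 2 with hZ2
    set C := Subgroup.centralizer (Z2 : Set G) with hC
    have hZle2 : Subgroup.center G ≤ Z2 := by
      rw [← Subgroup.upperCentralSeries_one]
      exact Subgroup.upperCentralSeries_mono G (by norm_num)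
    have hZleC : Subgroup.center G ≤ C := Subgroup.center_le_centralizer _
    set A : Subgroup G := Z2 ⊓ C with hA
    have hAchar : A.Characteristic := inferInstance
    have hAcomm : IsMulCommutative A := by
      refine ⟨⟨?_⟩⟩
      rintro ⟨a, ha⟩ ⟨b, hb⟩
      apply Subtype.ext
      show a * b = b * a
      have haC : a ∈ C := ha.2
      have hbZ : b ∈ Z2 := hb.1
      exact ((Subgroup.mem_centralizer_iff.mp haC) b hbZ).symm
    have hAcyc : IsCyclic A := hchar A hAchar hAcomm
    have hZleA : Subgroup.center G ≤ A := le_inf hZle2 hZleC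
    have hAcard : Nat.card A ≤ 4 := by
      obtain ⟨a, ha⟩ := hAcyc.exists_generator
      have h1 : orderOf a = Nat.card A := orderOf_eq_card_of_forall_mem_zpowers ha
      have h2 : a ^ 4 = 1 := by
        apply Subtype.ext
        rw [Subgroup.coe_pow]
        exact hpow4 _
      rw [← h1]
      exact Nat.le_of_dvd (by norm_num) (orderOf_dvd_of_pow_eq_one h2)
    have hAeq : A = Subgroup.center G := by
      symm
      apply Subgroup.eq_of_le_of_card_ge hZleA
      rw [hZ]; exact hAcard
    apply le_antisymm _ hZleC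
    by_contra hne
    -- image of C in G ⧸ center G
    have hCn : C.Normal := Subgroup.normal_centralizer
    let π := QuotientGroup.mk' (Subgroup.center G)
    have hπs : Function.Surjective π := QuotientGroup.mk'_surjective _
    have hCbar_n : (C.map π).Normal := Subgroup.Normal.map hCn π hπs
    have hCbar_ne : C.map π ≠ ⊥ := by
      intro h
      apply hne
      intro x hx
      have : π x ∈ C.map π := Subgroup.mem_map_of_mem π hx
      rw [h, Subgroup.mem_bot] at this
      exact (QuotientGroup.eq_one_iff x).mp this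
    have hQ : IsPGroup 2 (G ⧸ Subgroup.center G) := h2.to_quotient _
    have : Fact (Nat.Prime 2) := ⟨Nat.prime_two⟩
    obtain ⟨y, hyC, hyZ, hy1⟩ :=
      Cfsg.Agent.Lib.Helper10.exists_mem_center_of_normal_ne_bot 2 hQ (C.map π) hCbar_ne
    obtain ⟨x, hxC, rfl⟩ := Subgroup.mem_map.mp hyC
    -- x ∈ Z2
    have hxZ2 : x ∈ Z2 := by
      have h1 : x ∈ Subgroup.comap (QuotientGroup.mk' (Subgroup.center G)) (Subgroup.upperCentralSeries (G ⧸ Subgroup.center G) 1) := by
        rw [Subgroup.mem_comap, Subgroup.upperCentralSeries_one]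
        exact hyZ
      rw [Subgroup.comap_upperCentralSeries_quotient_center] at h1
      exact h1
    have hxA : x ∈ A := ⟨hxZ2, hxC⟩
    rw [hAeq] at hxA
    exact hy1 ((QuotientGroup.eq_one_iff x).mpr hxA)

/-- (L1) abstract group theory -/
theorem L1 {G : Type*} [Group G] [Finite G] (h2 : IsPGroup 2 G)
    (hZ : Nat.card (Subgroup.center G) = 4) (hexp : Monoid.exponent G = 4)
    (hchar : ∀ A : Subgroup G, A.Characteristic → IsMulCommutative A → IsCyclic A) :
    (∀ u ∈ upperCentralSeries G 2, ∀ g : G, (g * u * g⁻¹ * u⁻¹) ^ 2 = 1) ∧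
      Subgroup.centralizer (upperCentralSeries G 2 : Set G) = Subgroup.center G :=
  L1_aux h2 hZ hexp hchar

end Cfsg.Agent.Lib.Helper6.Leaf
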