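import Mathlib

set_option autoImplicit false

namespace Cfsg.Agent.Lib.Helper6.Leaf

/-- (L5) the golden ratio in `F_p`, `p = 1 mod 4`, `p = ±1 mod 5` -/
theorem L5 {F : Type*} [Field F] [Fintype F] {p : ℕ} [Fact p.Prime] [CharP F p]
    (hF : Fintype.card F = p) (hp4 : p % 4 = 1) (h5 : p % 5 = 1 ∨ p % 5 = 4) :
    ∃ τ : F, τ ^ 2 + τ - 1 = 0 := by
  have : Fact (Nat.Prime 5) := ⟨by norm_num⟩
  -- `p` is a square mod 5
  have h1 : IsSquare ((p : ℕ) : ZMod 5) := by
    have hmod : ((p : ℕ) : ZMod 5) = ((p % 5 : ℕ) : ZMod 5) := by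
      rw [ZMod.natCast_mod]
    rw [hmod]
    rcases h5 with h | h
    · rw [h]; exact ⟨1, by simp⟩
    · rw [h]; exact ⟨2, by norm_num⟩
  -- hence 5 is a square mod p
  have h2 : IsSquare ((5 : ℕ) : ZMod p) :=
    (ZMod.exists_sq_eq_prime_iff_of_mod_four_eq_one (p := 5) (q := p) (by norm_num)
      (by rintro rfl; omega)).mp h1
  obtain ⟨s, hs⟩ := h2
  -- transport to `F`
  let φ : ZMod p →+* F := ZMod.castHom (dvd_refl p) F
  have h2F : (2 : F) ≠ 0 := by
    intro h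
    have h2' : ((2 : ℕ) : F) = 0 := by exact_mod_cast h
    rw [CharP.cast_eq_zero_iff F p] at h2'
    have := Nat.le_of_dvd (by norm_num) h2'
    have hp2 : p = 2 := le_antisymm this (Fact.out : p.Prime).two_le
    omega
  have hs' : (φ s) * (φ s) = 5 := by
    rw [← map_mul, ← hs]
    exact map_natCast φ 5
  have hsq : φ s ^ 2 = 5 := by rw [pow_two, hs']
  refine ⟨(φ s - 1) / 2, ?_⟩
  field_simp
  linear_combination hsq

end Cfsg.Agent.Lib.Helper6.Leaf
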