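import Mathlib

/-!
helper6: S4575 (`p = 2`, major subsection `(z, b)`, `k(B) ≤ l(b) + 3` ⇒ `k(B) ≤ 2^d`), the abstract core:
the matrix `2^d (μ_{χψ})` of the contributions is `2^d` times an orthogonal projection of rank `l`, for all
Galois conjugates `σ`; `T χ` is the (integral) Galois average of `2^d μ_{χχ}`; one argues with the
complementary traces `T' χ = 2^d - T χ`, whose sum is `2^d (k - l) ≤ 3 · 2^d`.
-/

set_option autoImplicit false

namespace Cfsg.Agent.Lib.Helper6.MajSubK3Core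

theorem k3_core {ι Γ : Type*} [Fintype ι] [Fintype Γ] [Nonempty Γ]
    (d l : ℕ) (h : ι → ℕ) (μ : Γ → ι → ι → ℂ)
    (hdiag : ∀ σ χ, ‖μ σ χ χ‖ = ∑ ψ, ‖μ σ χ ψ‖ ^ 2)
    (htrace : ∀ σ, ∑ χ, ‖μ σ χ χ‖ = (l : ℝ))
    (T : ι → ℤ)
    (hT : ∀ χ, (2 : ℝ) ^ d * ∑ σ, ‖μ σ χ χ‖ = (Fintype.card Γ : ℝ) * (T χ : ℝ))
    (hodd : ∀ χ, h χ = 0 → Odd (T χ))
    (hdiv : ∀ χ, 1 ≤ h χ → (4 : ℤ) ∣ T χ)
    (hlb : ∀ χ₀, h χ₀ = 0 → ∀ ψ, (Fintype.card Γ : ℝ) * (4 : ℝ) ^ h ψ ≤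
        ((2 : ℝ) ^ d) ^ 2 * ∑ σ, ‖μ σ χ₀ ψ‖ ^ 2)
    (i₀ : ι) (hi₀ : h i₀ = 0)
    (hne : ∀ σ ψ, 1 ≤ h ψ → μ σ ψ i₀ ≠ 0)
    (hk : Fintype.card ι ≤ l + 3) : Fintype.card ι ≤ 2 ^ d := by
  classical
  set f : ℝ := (Fintype.card Γ : ℝ) with hf
  have hfpos : 0 < f := by
    rw [hf]
    exact_mod_cast (Fintype.card_pos : 0 < Fintype.card Γ)
  have h2d : (0 : ℝ) < (2 : ℝ) ^ d := by positivity
  set a : Γ → ι → ℝ := fun σ χ => ‖μ σ χ χ‖ with ha
  have hann : ∀ σ χ, 0 ≤ a σ χ := fun σ χ => norm_nonneg _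
  have hrow : ∀ σ χ, a σ χ = (a σ χ) ^ 2 + ∑ ψ ∈ Finset.univ.erase χ, ‖μ σ χ ψ‖ ^ 2 := by
    intro σ χ
    have h1 := hdiag σ χ
    rw [← Finset.add_sum_erase Finset.univ _ (Finset.mem_univ χ)] at h1
    exact h1
  have hoffnn : ∀ σ χ, 0 ≤ ∑ ψ ∈ Finset.univ.erase χ, ‖μ σ χ ψ‖ ^ 2 :=
    fun σ χ => Finset.sum_nonneg (fun _ _ => sq_nonneg _)
  have hale : ∀ σ χ, a σ χ ≤ 1 := by
    intro σ χ
    have h1 := hrow σ χ
    have h2 := hoffnn σ χ
    have h3 := hann σ χ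
    nlinarith
  set D : ι → ℝ := fun χ => ∑ σ, a σ χ with hD
  have hDnn : ∀ χ, 0 ≤ D χ := fun χ => Finset.sum_nonneg (fun σ _ => hann σ χ)
  have hDle : ∀ χ, D χ ≤ f := by
    intro χ
    calc D χ ≤ ∑ _σ : Γ, (1 : ℝ) := Finset.sum_le_sum (fun σ _ => hale σ χ)
      _ = f := by rw [Finset.sum_const, Finset.card_univ, nsmul_eq_mul, mul_one]
  have hTD : ∀ χ, (2 : ℝ) ^ d * D χ = f * (T χ : ℝ) := hT
  have hTnn : ∀ χ, 0 ≤ T χ := by
    intro χ
    have h1 : 0 ≤ f * (T χ : ℝ) := by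
      rw [← hTD]
      exact mul_nonneg h2d.le (hDnn χ)
    have h2 : (0 : ℝ) ≤ (T χ : ℝ) := by
      by_contra hneg
      push Not at hneg
      have := mul_neg_of_pos_of_neg hfpos hneg
      linarith
    exact_mod_cast h2
  have hTle : ∀ χ, T χ ≤ 2 ^ d := by
    intro χ
    have h1 : f * (T χ : ℝ) ≤ f * (2 : ℝ) ^ d := by
      rw [← hTD, mul_comm f]
      exact mul_le_mul_of_nonneg_left (hDle χ) h2d.le
    have h2 : (T χ : ℝ) ≤ (2 : ℝ) ^ d := le_of_mul_le_mul_left h1 hfpos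
    exact_mod_cast h2
  -- the trace
  have hsumT : ∑ χ, T χ = 2 ^ d * (l : ℤ) := by
    have h1 : f * ∑ χ, (T χ : ℝ) = f * ((2 : ℝ) ^ d * (l : ℝ)) := by
      rw [Finset.mul_sum]
      simp_rw [← hTD]
      rw [← Finset.mul_sum, hD]
      simp only []
      rw [Finset.sum_comm]
      simp_rw [ha, htrace]
      rw [Finset.sum_const, Finset.card_univ, nsmul_eq_mul, ← hf]
      ring
    have h2 : ∑ χ, (T χ : ℝ) = (2 : ℝ) ^ d * (l : ℝ) := mul_left_cancel₀ hfpos.ne' h1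
    exact_mod_cast h2
  -- the key inequality for a character of height zero
  have hstar : ∀ χ₀, h χ₀ = 0 → (Fintype.card ι : ℤ) - 1 ≤ T χ₀ * (2 ^ d - T χ₀) := by
    intro χ₀ hχ₀
    have h1 : ((Fintype.card ι : ℝ) - 1) * f ≤
        ((2 : ℝ) ^ d) ^ 2 * ∑ ψ ∈ Finset.univ.erase χ₀, ∑ σ, ‖μ σ χ₀ ψ‖ ^ 2 := by
      rw [Finset.mul_sum]
      have h4 : ((Fintype.card ι : ℝ) - 1) * f = ∑ _ψ ∈ Finset.univ.erase χ₀, f := by
        rw [Finset.sum_const, Finset.card_erase_of_mem (Finset.mem_univ χ₀), nsmul_eq_mul,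
          Finset.card_univ]
        have : 1 ≤ Fintype.card ι := Fintype.card_pos_iff.mpr ⟨χ₀⟩
        push_cast [Nat.cast_sub this]
        ring
      rw [h4]
      apply Finset.sum_le_sum
      intro ψ _
      refine le_trans ?_ (hlb χ₀ hχ₀ ψ)
      have : (1 : ℝ) ≤ (4 : ℝ) ^ h ψ := one_le_pow₀ (by norm_num)
      nlinarith
    have h2 : ∑ ψ ∈ Finset.univ.erase χ₀, ∑ σ, ‖μ σ χ₀ ψ‖ ^ 2 =
        D χ₀ - ∑ σ, (a σ χ₀) ^ 2 := by
      rw [Finset.sum_comm, hD]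
      simp only []
      rw [← Finset.sum_sub_distrib]
      apply Finset.sum_congr rfl
      intro σ _
      have := hrow σ χ₀
      linarith
    have h3 : (D χ₀) ^ 2 ≤ f * ∑ σ, (a σ χ₀) ^ 2 := by
      have := sq_sum_le_card_mul_sum_sq (s := (Finset.univ : Finset Γ)) (f := fun σ => a σ χ₀)
      simpa [Finset.card_univ, hf, hD] using this
    rw [h2] at h1
    have hx := hTD χ₀
    -- multiply through by `f`
    have h5 : f * (((Fintype.card ι : ℝ) - 1) * f) ≤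
        f * (f * ((T χ₀ : ℝ) * ((2 : ℝ) ^ d - (T χ₀ : ℝ)))) := by
      have h6 : f * (((2 : ℝ) ^ d) ^ 2 * (D χ₀ - ∑ σ, (a σ χ₀) ^ 2)) ≤
          ((2 : ℝ) ^ d) ^ 2 * (f * D χ₀) - ((2 : ℝ) ^ d) ^ 2 * (D χ₀) ^ 2 := by
        have := mul_le_mul_of_nonneg_left h3 (by positivity : (0 : ℝ) ≤ ((2 : ℝ) ^ d) ^ 2)
        nlinarith
      have h7 : ((2 : ℝ) ^ d) ^ 2 * (f * D χ₀) - ((2 : ℝ) ^ d) ^ 2 * (D χ₀) ^ 2 =
          f * (f * ((T χ₀ : ℝ) * ((2 : ℝ) ^ d - (T χ₀ : ℝ)))) := by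
        have e1 : ((2 : ℝ) ^ d) ^ 2 * (f * D χ₀) = (2 : ℝ) ^ d * f * ((2 : ℝ) ^ d * D χ₀) := by ring
        have e2 : ((2 : ℝ) ^ d) ^ 2 * (D χ₀) ^ 2 = ((2 : ℝ) ^ d * D χ₀) ^ 2 := by ring
        rw [e1, e2, hx]
        ring
      have h8 := mul_le_mul_of_nonneg_left h1 hfpos.le
      linarith
    have h9 := le_of_mul_le_mul_left h5 hfpos
    have h10 : ((Fintype.card ι : ℝ) - 1) * f ≤ ((T χ₀ : ℝ) * ((2 : ℝ) ^ d - (T χ₀ : ℝ))) * f := by
      linarith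
    have h11 := le_of_mul_le_mul_right h10 hfpos
    exact_mod_cast h11
  -- positivity of `T` and of the complementary trace on the characters of positive height
  have hpos : ∀ ψ, 1 ≤ h ψ → 0 < T ψ ∧ T ψ < 2 ^ d := by
    intro ψ hψ
    have hψne : ψ ≠ i₀ := by
      intro h0
      rw [h0, hi₀] at hψ
      exact absurd hψ (by norm_num)
    have hmem : i₀ ∈ Finset.univ.erase ψ := Finset.mem_erase.mpr ⟨hψne.symm, Finset.mem_univ _⟩
    have hoffpos : ∀ σ, 0 < ∑ χ ∈ Finset.univ.erase ψ, ‖μ σ ψ χ‖ ^ 2 := by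
      intro σ
      have h1 : 0 < ‖μ σ ψ i₀‖ ^ 2 := by
        have := norm_pos_iff.mpr (hne σ ψ hψ)
        positivity
      exact lt_of_lt_of_le h1
        (Finset.single_le_sum (f := fun χ => ‖μ σ ψ χ‖ ^ 2) (fun _ _ => sq_nonneg _) hmem)
    have hapos : ∀ σ, 0 < a σ ψ ∧ a σ ψ < 1 := by
      intro σ
      have h1 := hrow σ ψ
      have h2 := hoffpos σ
      have h3 := hann σ ψ
      constructor
      · nlinarith
      · nlinarith
    obtain ⟨σ₀⟩ := (inferInstance : Nonempty Γ)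
    have hDpos : 0 < D ψ :=
      Finset.sum_pos (fun σ _ => (hapos σ).1) ⟨σ₀, Finset.mem_univ _⟩
    have hDlt : D ψ < f := by
      calc D ψ < ∑ _σ : Γ, (1 : ℝ) :=
            Finset.sum_lt_sum_of_nonempty ⟨σ₀, Finset.mem_univ _⟩ (fun σ _ => (hapos σ).2)
        _ = f := by rw [Finset.sum_const, Finset.card_univ, nsmul_eq_mul, mul_one]
    constructor
    · have h1 : 0 < f * (T ψ : ℝ) := by
        rw [← hTD]
        exact mul_pos h2d hDpos
      have h2 : (0 : ℝ) < (T ψ : ℝ) := by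
        by_contra hneg
        push Not at hneg
        have := mul_nonpos_of_nonneg_of_nonpos hfpos.le hneg
        linarith
      exact_mod_cast h2
    · have h1 : f * (T ψ : ℝ) < f * (2 : ℝ) ^ d := by
        rw [← hTD, mul_comm f]
        exact mul_lt_mul_of_pos_left hDlt h2d
      have h2 : (T ψ : ℝ) < (2 : ℝ) ^ d := lt_of_mul_lt_mul_left h1 hfpos.le
      exact_mod_cast h2
  -- the endgame, in integers
  have hgoal : (Fintype.card ι : ℤ) ≤ 2 ^ d := by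
    by_cases hcase : ∃ χ₀, h χ₀ = 0 ∧ (2 ^ d - T χ₀ ≤ 1)
    · obtain ⟨χ₀, hχ₀, hle⟩ := hcase
      have h1 := hstar χ₀ hχ₀
      have h2 := hTnn χ₀
      have h3 := hTle χ₀
      have h4 : (2 : ℤ) ^ d - T χ₀ = 0 ∨ (2 : ℤ) ^ d - T χ₀ = 1 := by omega
      have h5 : (1 : ℤ) ≤ 2 ^ d := one_le_pow₀ (by norm_num)
      rcases h4 with h4 | h4
      · rw [h4, mul_zero] at h1
        linarith
      · rw [h4, mul_one] at h1
        linarith
    · push Not at hcase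
      -- every complementary trace is at least `3`
      have hT3 : ∀ χ, 3 ≤ 2 ^ d - T χ := by
        intro χ
        by_cases hχ : h χ = 0
        · have h1 := hcase χ hχ
          have h2 := hodd χ hχ
          -- `d ≥ 1`, so `2^d - T χ` is odd
          by_cases hd : d = 0
          · subst hd
            have h3 := hTle χ
            have h4 := hTnn χ
            simp only [pow_zero] at h1 h3
            obtain ⟨t, ht⟩ := h2
            omega
          · obtain ⟨d', rfl⟩ := Nat.exists_eq_succ_of_ne_zero hd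
            obtain ⟨t, ht⟩ := h2
            rw [pow_succ] at h1 ⊢
            omega
        · have hχ1 : 1 ≤ h χ := Nat.one_le_iff_ne_zero.mpr hχ
          obtain ⟨hp1, hp2⟩ := hpos χ hχ1
          obtain ⟨t, ht⟩ := hdiv χ hχ1
          -- `4 ≤ T χ < 2^d`, so `d ≥ 2` and `4 ∣ 2^d - T χ`
          have hd2 : 2 ≤ d := by
            by_contra hcon
            push Not at hcon
            have : (2 : ℤ) ^ d ≤ 2 ^ 1 := pow_le_pow_right₀ (by norm_num) (by omega)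
            omega
          obtain ⟨d', rfl⟩ := Nat.exists_eq_add_of_le hd2
          rw [pow_add] at hp2 ⊢
          norm_num at hp2 ⊢
          omega
      have h1 : ∑ _χ : ι, (3 : ℤ) ≤ ∑ χ, (2 ^ d - T χ) :=
        Finset.sum_le_sum (fun χ _ => hT3 χ)
      rw [Finset.sum_sub_distrib, hsumT, Finset.sum_const, Finset.sum_const, Finset.card_univ,
        nsmul_eq_mul, nsmul_eq_mul] at h1
      have h2 : (Fintype.card ι : ℤ) ≤ (l : ℤ) + 3 := by exact_mod_cast hk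
      have h3 : (0 : ℤ) < 2 ^ d := by positivity
      nlinarith
  exact_mod_cast hgoal

end Cfsg.Agent.Lib.Helper6.MajSubK3Core
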