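import Cfsg.Agent.Lib.Helper6.MajSubK3Core
import Cfsg.Agent.Lib.Helper1.TwoMajDefs
import Cfsg.Agent.Lib.Helper23.MajSubLI
import Cfsg.Agent.Lib.Helper23.MajSubH5
import Cfsg.Agent.Lib.Helper6.DefectOrder

/-!
helper6: S4575 (`p = 2`, major subsection `(z, b)`, `k(B) ≤ l(b) + 3` ⇒ `k(B) ≤ 2^d`), assembly against the
leaf (Z) of helper1's S4540 plan as an explicit hypothesis (`ZHyp`).
-/

set_option autoImplicit false
set_option linter.unusedSectionVars false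

namespace Cfsg.Agent.Lib.Helper6.MajSubK3Main

open Cfsg Cfsg.Agent.CharLib Cfsg.Agent.Lib.Helper24 Cfsg.Agent.Lib.Helper6 Cfsg.Agent.Lib.Helper23
open Cfsg.Agent.Lib.Helper23.Subsec Cfsg.Agent.Lib.Helper27.MajSub
open Cfsg.Agent.Lib.Helper1.TwoMaj
open scoped ComplexConjugate

universe u w

/-- The leaf (Z) of helper1's S4540 plan, for a fixed index type. -/
def ZHyp (M : Ideal AlgInt) (ι : Type u) [Fintype ι] : Prop :=
  ∀ (A : ι → ι → ℤ) (eps : ι → ι → ℂ), (∀ i j, A i j = A j i) →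
    (∀ i j, eps j i = conj (eps i j)) → ∀ t : ℕ, (∀ i j, eps i j ^ (2 ^ t) = 1) →
    ∀ h : ℕ, MemLocalIdeal M ((∑ i, ∑ j, (A i j : ℂ) * eps i j) / (2 : ℂ) ^ h) →
    (2 : ℤ) ^ (h + 1) ∣ ∑ i, ∑ j, A i j * rVal (eps i j)

section main

variable {G : Type u} [Group G] [Fintype G] {M : Ideal AlgInt}

theorem card_le_of_major_k3_of (hM : IsPModular 2 M) (z : G) (hz : ∃ k : ℕ, orderOf z = 2 ^ k)
    (B : Set (IrrCharacter G)) (hB : IsPBlock M B)
    (b : Set (IrrCharacter (Subgroup.centralizer ({z} : Set G))))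
    (hind : IsInducedBlock M (Subgroup.centralizer ({z} : Set G)) b B)
    (hdef : blockDefect 2 b = blockDefect 2 B)
    (hZ : ∀ [Fintype (IrrCharacter (Subgroup.centralizer ({z} : Set G)))],
      ZHyp M (IrrCharacter (Subgroup.centralizer ({z} : Set G))))
    (hk : Nat.card B ≤ blockRank 2 b + 3) :
    Nat.card B ≤ 2 ^ blockDefect 2 B := by
  classical
  have hprime : M.IsPrime := isPrime_of_isPModular hM
  have hp : (2 : ℕ).Prime := Nat.prime_two
  set C := Subgroup.centralizer ({z} : Set G) with hCdef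
  let _ : Fintype C := Fintype.ofFinite C
  let _ := fintypeIrr C
  let _ := fintypeIrr G
  have hZ' : ZHyp M (IrrCharacter C) := hZ
  obtain ⟨ψ₀, hb⟩ := hind.1
  subst hb
  set e := blockOf M (ψ₀ : C → ℂ) with he
  have he' : IsPBlock M e := ⟨ψ₀, rfl⟩
  set N := Nat.card G with hN
  have : NeZero N := ⟨Nat.card_pos.ne'⟩
  obtain ⟨K, _, _, _, ⟨φ⟩⟩ := exists_cyclotomic_field N
  have : FiniteDimensional ℚ K := IsCyclotomicExtension.finiteDimensional {N} ℚ K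
  have : IsGalois ℚ K := IsCyclotomicExtension.isGalois {N} ℚ K
  -- the central element
  have hzC : z ∈ C := Subgroup.mem_centralizer_singleton_iff.mpr rfl
  set zC : C := ⟨z, hzC⟩ with hzCdef
  have hcen : zC ∈ Subgroup.center C := by
    rw [Subgroup.mem_center_iff]
    intro g
    apply Subtype.ext
    have := Subgroup.mem_centralizer_singleton_iff.mp g.2
    exact this
  set w : Subgroup.center C := ⟨zC, hcen⟩ with hw
  have hwcoe : ∀ k : ℕ, ((((w ^ k : Subgroup.center C) : C) : G)) = z ^ k := by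
    intro k
    simp [hw, hzCdef]
  have hzN : z ^ N = 1 := by rw [hN]; exact pow_card_eq_one'
  have hwN : w ^ N = 1 := by
    apply Subtype.ext
    apply Subtype.ext
    rw [hwcoe]
    simp only [OneMemClass.coe_one]
    exact hzN
  obtain ⟨k₀, hk₀⟩ := hz
  have hwp : w ^ (2 ^ k₀) = 1 := by
    apply Subtype.ext
    apply Subtype.ext
    rw [hwcoe]
    simp only [OneMemClass.coe_one]
    rw [← hk₀, pow_orderOf_eq_one]
  set Bf := Finset.univ.filter (fun χ : IrrCharacter G => χ ∈ B) with hBf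
  set d := blockDefect 2 B with hd
  set l := blockRank 2 e with hl
  set f := Fintype.card (K ≃ₐ[ℚ] K) with hf
  have hfpos : (0 : ℝ) < (f : ℝ) := by exact_mod_cast (Fintype.card_pos : 0 < f)
  have hf0 : (f : ℂ) ≠ 0 := by
    have : f ≠ 0 := (Fintype.card_pos : 0 < f).ne'
    exact_mod_cast this
  set μ : (K ≃ₐ[ℚ] K) → IrrCharacter G → IrrCharacter G → ℂ := fun σ χ ψ =>
    contrib 2 C e (z ^ galExp N K σ) χ ψ with hμ
  set dd : (K ≃ₐ[ℚ] K) → IrrCharacter G → ℝ := fun σ χ => ∑ ψ ∈ Bf, ‖μ σ χ ψ‖ ^ 2 with hdd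
  have hddnn : ∀ σ χ, 0 ≤ dd σ χ := fun σ χ => Finset.sum_nonneg (fun ψ _ => by positivity)
  -- data for the powers of `z`
  have hzk : ∀ σ : K ≃ₐ[ℚ] K, ∃ j : ℕ, orderOf (z ^ galExp N K σ) = 2 ^ j := by
    intro σ
    have h1 : orderOf (z ^ galExp N K σ) ∣ 2 ^ k₀ := by rw [← hk₀]; exact orderOf_pow_dvd _
    obtain ⟨j, -, hj⟩ := (Nat.dvd_prime_pow hp).mp h1
    exact ⟨j, hj⟩
  have hCk : ∀ σ : K ≃ₐ[ℚ] K, C = Subgroup.centralizer ({z ^ galExp N K σ} : Set G) := by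
    intro σ
    have hcop : (galExp N K σ).Coprime (orderOf z) :=
      Nat.Coprime.coprime_dvd_right (orderOf_dvd_natCard z) (galExp_coprime N K σ)
    exact (centralizer_pow_eq z _ hcop).symm
  have hddc : ∀ σ χ, ((dd σ χ : ℝ) : ℂ) = μ σ χ χ := by
    intro σ χ
    exact sum_contrib_normSq hM (z ^ galExp N K σ) (hzk σ) C (hCk σ) B hB ψ₀ hind χ
  have hnorm : ∀ σ χ, ‖μ σ χ χ‖ = dd σ χ := by
    intro σ χ
    rw [← hddc, Complex.norm_real, Real.norm_eq_abs, abs_of_nonneg (hddnn σ χ)]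
  have htrace : ∀ σ, ∑ χ ∈ Bf, ‖μ σ χ χ‖ = (l : ℝ) := by
    intro σ
    have h1 := sum_contrib_diag hM (z ^ galExp N K σ) (hzk σ) C (hCk σ) B hB ψ₀ hind
    have h2 : ((∑ χ ∈ Bf, dd σ χ : ℝ) : ℂ) = ((l : ℝ) : ℂ) := by
      push_cast
      simp_rw [hddc]
      exact h1
    simp_rw [hnorm]
    exact_mod_cast h2
  -- the integer traces
  have hTr : ∀ χ : IrrCharacter G, (2 : ℝ) ^ d * ∑ σ : K ≃ₐ[ℚ] K, ‖μ σ χ χ‖ =
      (f : ℝ) * (rtrace C e w χ : ℝ) := by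
    intro χ
    have hx := sum_gal_contrib_eq hM N K C e he' w hwN ⟨k₀, hwp⟩ χ
    rw [hdef] at hx
    have h2 : (((2 : ℝ) ^ d * ∑ σ : K ≃ₐ[ℚ] K, dd σ χ : ℝ) : ℂ) =
        (((f : ℝ) * (rtrace C e w χ : ℝ) : ℝ) : ℂ) := by
      push_cast
      rw [← hx, Finset.mul_sum]
      apply Finset.sum_congr rfl
      intro σ _
      rw [hwcoe, hddc]
    simp_rw [hnorm]
    exact_mod_cast h2
  -- parity on the characters of height zero
  have hoddT : ∀ χ : IrrCharacter G, χ ∈ B → blockHeight 2 B (χ : G → ℂ) = 0 →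
      Odd (rtrace C e w χ) := by
    intro χ hχ hχ0
    obtain ⟨x, hxodd, hx⟩ := exists_odd_trace hM N K C e B hind w hwN ⟨k₀, hwp⟩ χ hχ hχ0
    have hx' := sum_gal_contrib_eq hM N K C e he' w hwN ⟨k₀, hwp⟩ χ
    rw [hx] at hx'
    have h1 : (x : ℂ) = (rtrace C e w χ : ℂ) := mul_left_cancel₀ hf0 hx'
    have h2 : x = rtrace C e w χ := by exact_mod_cast h1
    rw [← h2]
    exact hxodd
  -- divisibility on the characters of positive height
  have hdivT : ∀ χ : IrrCharacter G, χ ∈ B → 1 ≤ blockHeight 2 B (χ : G → ℂ) →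
      (4 : ℤ) ∣ rtrace C e w χ := by
    intro χ hχ hχ1
    have hLI := Cfsg.Agent.Lib.Helper23.MajSubLI.contrib_diag_memLocalIdeal hM z ⟨k₀, hk₀⟩ C rfl B e
      hind hdef χ hχ hχ1
    have hexp := two_pow_contrib_eq hM C e he' w χ 1
    rw [hwcoe, pow_one, hdef] at hexp
    simp only [pow_one] at hexp
    have hloc : MemLocalIdeal M ((∑ ζ : IrrCharacter C, ∑ ζ' : IrrCharacter C,
        (expA C e χ ζ ζ' : ℂ) * expEps C w ζ ζ') / (2 : ℂ) ^ blockHeight 2 B (χ : G → ℂ)) := by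
      rw [← hexp]
      exact_mod_cast hLI
    have h1 := hZ' (expA C e χ) (expEps C w) (expA_symm C e χ)
      (fun ζ ζ' => expEps_symm C w ζ ζ') k₀ (fun ζ ζ' => expEps_pow_eq_one C w _ hwp ζ ζ')
      (blockHeight 2 B (χ : G → ℂ)) hloc
    have h2 : (4 : ℤ) ∣ (2 : ℤ) ^ (blockHeight 2 B (χ : G → ℂ) + 1) := by
      have : (4 : ℤ) = 2 ^ 2 := by norm_num
      rw [this]
      exact pow_dvd_pow _ (by omega)
    exact dvd_trans h2 h1
  -- the lower bounds
  have hlbT : ∀ χ₀ : IrrCharacter G, χ₀ ∈ B → blockHeight 2 B (χ₀ : G → ℂ) = 0 →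
      ∀ ψ : IrrCharacter G, ψ ∈ B →
      (f : ℝ) * (4 : ℝ) ^ blockHeight 2 B (ψ : G → ℂ) ≤
        ((2 : ℝ) ^ d) ^ 2 * ∑ σ : K ≃ₐ[ℚ] K, ‖μ σ χ₀ ψ‖ ^ 2 := by
    intro χ₀ hχ₀ hχ₀0 ψ hψ
    have h1 := (Cfsg.Agent.Lib.Helper23.MajSubLI.card_gal_mul_pow_le_sum_contrib hM N K φ z
      ⟨k₀, hk₀⟩ hzN C rfl B e hind hdef χ₀ ψ hχ₀ hχ₀0 hψ).1
    have h2 : (4 : ℝ) ^ blockHeight 2 B (ψ : G → ℂ) =
        ((2 : ℕ) : ℝ) ^ (2 * blockHeight 2 B (ψ : G → ℂ)) := by
      rw [pow_mul]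
      norm_num
    rw [h2]
    refine le_trans h1 (le_of_eq ?_)
    rw [Finset.mul_sum]
    apply Finset.sum_congr rfl
    intro σ _
    rw [norm_mul, mul_pow, norm_pow]
    simp only [Nat.cast_ofNat, Complex.norm_ofNat]
    rfl
  -- nonvanishing
  have hneT : ∀ σ : K ≃ₐ[ℚ] K, ∀ χ₀ : IrrCharacter G, χ₀ ∈ B →
      blockHeight 2 B (χ₀ : G → ℂ) = 0 → ∀ ψ : IrrCharacter G, ψ ∈ B → μ σ ψ χ₀ ≠ 0 := by
    intro σ χ₀ hχ₀ hχ₀0 ψ hψ h0
    have h1 := (Cfsg.Agent.Lib.Helper23.MajSubH5.contrib_5H hM (z ^ galExp N K σ) (hzk σ) C (hCk σ)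
      B e hind hdef χ₀ ψ hχ₀ hχ₀0 hψ).2
    apply h1.2
    have h2 : contrib 2 C e (z ^ galExp N K σ) ψ χ₀ = 0 := h0
    rw [h2, mul_zero, zero_div]
    exact memLocalIdeal_zero hprime.one_notMem
  -- a character of height zero
  have hBne : B.Nonempty := by
    obtain ⟨χ₁, rfl⟩ := hB
    exact ⟨χ₁, mem_blockOf_self χ₁⟩
  obtain ⟨χ₀, hχ₀, hχ₀0⟩ := Cfsg.Agent.Lib.Helper23.MajSubLI.exists_heightZero (p := 2) B hBne
  -- the index type
  set ι := {χ : IrrCharacter G // χ ∈ B} with hι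
  have hcard : Nat.card B = Fintype.card ι := by
    rw [Nat.card_eq_fintype_card]
  have hsub : ∀ F : IrrCharacter G → ℝ, ∑ χ ∈ Bf, F χ = ∑ i : ι, F (i : IrrCharacter G) := by
    intro F
    rw [hBf]
    exact Finset.sum_subtype (Finset.univ.filter (· ∈ B)) (p := (· ∈ B)) (fun χ => by simp) F
  rw [hcard] at hk ⊢
  refine Cfsg.Agent.Lib.Helper6.MajSubK3Core.k3_core (ι := ι) (Γ := K ≃ₐ[ℚ] K) d l
    (fun i => blockHeight 2 B ((i : IrrCharacter G) : G → ℂ))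
    (fun σ i j => μ σ (i : IrrCharacter G) (j : IrrCharacter G)) ?_ ?_
    (fun i => rtrace C e w (i : IrrCharacter G)) ?_ ?_ ?_ ?_ ⟨χ₀, hχ₀⟩ hχ₀0 ?_ hk
  · intro σ i
    rw [hnorm, hdd]
    simp only []
    exact hsub (fun ψ => ‖μ σ (i : IrrCharacter G) ψ‖ ^ 2)
  · intro σ
    rw [← htrace σ]
    exact (hsub (fun χ => ‖μ σ χ χ‖)).symm
  · intro i
    exact hTr (i : IrrCharacter G)
  · intro i hi
    exact hoddT (i : IrrCharacter G) i.2 hi
  · intro i hi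
    exact hdivT (i : IrrCharacter G) i.2 hi
  · intro i hi j
    exact hlbT (i : IrrCharacter G) i.2 hi (j : IrrCharacter G) j.2
  · intro σ j _
    exact hneT σ χ₀ hχ₀ hχ₀0 (j : IrrCharacter G) j.2

/-- the frozen statement S4575 from `card_le_of_major_k3_of`, against (Z) -/
theorem result_S4575_of {G : Type u} [Group G] [Finite G] (M : Ideal Cfsg.AlgInt)
    (hM : Cfsg.IsPModular 2 M) (B : Set (Cfsg.IrrCharacter G)) (hB : Cfsg.IsPBlock M B)
    (D : Subgroup G) (hD : Cfsg.IsDefectGroup 2 M B D) (z : G) (hzD : z ∈ D)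
    (hzc : ∀ d ∈ D, d * z = z * d)
    (b : Set (Cfsg.IrrCharacter ↥(Subgroup.centralizer ({z} : Set G))))
    (hb : Cfsg.IsInducedBlock M (Subgroup.centralizer ({z} : Set G)) b B)
    (hbD : Cfsg.IsDefectGroup 2 M b (D.subgroupOf (Subgroup.centralizer ({z} : Set G))))
    (hZ : ∀ [Fintype (IrrCharacter (Subgroup.centralizer ({z} : Set G)))],
      ZHyp M (IrrCharacter (Subgroup.centralizer ({z} : Set G))))
    (h : Nat.card B ≤ Cfsg.blockRank 2 b + 3) : Nat.card B ≤ 2 ^ Cfsg.blockDefect 2 B := by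
  classical
  let _ : Fintype G := Fintype.ofFinite G
  have hp : (2 : ℕ).Prime := Nat.prime_two
  -- `z` is a `2`-element
  have hDp : IsPGroup 2 D := by
    obtain ⟨g, -, S, hS⟩ := hD
    rw [hS]
    exact S.isPGroup'.map _
  have hz : ∃ k : ℕ, orderOf z = 2 ^ k := by
    obtain ⟨k, hk⟩ := hDp ⟨z, hzD⟩
    have h1 : z ^ 2 ^ k = 1 := by
      have := congrArg Subtype.val hk
      simpa using this
    have h2 : orderOf z ∣ 2 ^ k := orderOf_dvd_of_pow_eq_one h1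
    obtain ⟨j, -, hj⟩ := (Nat.dvd_prime_pow hp).mp h2
    exact ⟨j, hj⟩
  -- equal defects
  have hDC : D ≤ Subgroup.centralizer ({z} : Set G) := by
    intro x hx
    rw [Subgroup.mem_centralizer_singleton_iff]
    exact hzc x hx
  have hc1 := card_defectGroup_eq hM B hB D hD
  have hc2 := card_defectGroup_eq hM b hb.1 _ hbD
  have hc3 : Nat.card (D.subgroupOf (Subgroup.centralizer ({z} : Set G))) = Nat.card D :=
    Nat.card_congr (Subgroup.subgroupOfEquivOfLe hDC).toEquiv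
  have hdef : blockDefect 2 b = blockDefect 2 B := by
    rw [hc3, hc1] at hc2
    exact (Nat.pow_right_injective hp.two_le hc2).symm
  exact card_le_of_major_k3_of hM z hz B hB b hb hdef hZ h

end main

end Cfsg.Agent.Lib.Helper6.MajSubK3Main
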