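import Mathlib

/-!
# S4539 leaf (LAT): a basic set from the range of an integer matrix `N` with `Nᵀ = N`,
`N² = c N` (planner: helper27).
-/

set_option autoImplicit false
set_option linter.unusedVariables false

namespace Cfsg.Agent.Lib.Helper6.MajSubLAT

open Matrix

/-- (LAT) basic set from the range of `N`. -/
theorem exists_basic {n : Type*} [Fintype n] [DecidableEq n] (N : Matrix n n ℤ)
    (hsymm : N.transpose = N) (c : ℤ) (hc : c ≠ 0) (hsq : N * N = c • N) :
    ∃ (r : ℕ) (D : Matrix n (Fin r) ℤ) (E : Matrix (Fin r) n ℤ) (C' : Matrix (Fin r) (Fin r) ℤ),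
      E * D = 1 ∧ N = D * C' * D.transpose ∧ C'.transpose = C' ∧
        (D.transpose * D) * C' = c • (1 : Matrix (Fin r) (Fin r) ℤ) ∧ N.trace = c * (r : ℤ) := by
  classical
  -- the range of `N` is free
  set Λ : Submodule ℤ (n → ℤ) := LinearMap.range N.mulVecLin with hΛ
  obtain ⟨r, bΛ⟩ := Submodule.basisOfPid (Pi.basisFun ℤ n) Λ
  -- the matrix of the basis
  set β : Matrix (Fin r) n ℤ := Matrix.of fun j ζ => ((bΛ j : Λ) : n → ℤ) ζ with hβ
  -- coordinates of the columns of `N`
  have hmem : ∀ ζ : n, N *ᵥ (Pi.single ζ 1) ∈ Λ := fun ζ => ⟨Pi.single ζ 1, rfl⟩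
  set D : Matrix n (Fin r) ℤ := Matrix.of fun ζ j => bΛ.repr ⟨N *ᵥ (Pi.single ζ 1), hmem ζ⟩ j with hD
  -- preimages of the basis vectors
  have hpre : ∀ j : Fin r, ∃ w : n → ℤ, N *ᵥ w = ((bΛ j : Λ) : n → ℤ) := by
    intro j
    obtain ⟨w, hw⟩ := (bΛ j).2
    exact ⟨w, hw⟩
  choose w hw using hpre
  set E : Matrix (Fin r) n ℤ := Matrix.of fun j ζ => w j ζ with hE
  -- (F1) `Nᵀ = D β`
  have hF1 : N = D * β := by
    rw [← hsymm]
    ext ζ η
    have h1 := bΛ.sum_repr ⟨N *ᵥ (Pi.single ζ 1), hmem ζ⟩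
    have h2 := congrArg (fun v : Λ => (v : n → ℤ) η) h1
    simp only [Submodule.coe_sum, Submodule.coe_smul, Finset.sum_apply, Pi.smul_apply,
      smul_eq_mul] at h2
    rw [Matrix.transpose_apply, Matrix.mul_apply]
    have h3 : (N *ᵥ (Pi.single ζ 1)) η = N η ζ := by
      rw [Matrix.mulVec_single_one]
      rfl
    rw [← h3, ← h2]
    rfl
  -- (F2) `β = E N`
  have hF2 : β = E * N := by
    ext j η
    have h1 := congrFun (hw j) η
    rw [Matrix.mul_apply]
    show ((bΛ j : Λ) : n → ℤ) η = _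
    rw [← h1, Matrix.mulVec, dotProduct]
    refine Finset.sum_congr rfl (fun ζ _ => ?_)
    have h2 : N η ζ = N ζ η := by
      conv_lhs => rw [← hsymm]
      rfl
    rw [h2, mul_comm]
    rfl
  -- (F3) right cancellation of `β`
  have hF3 : ∀ X : Matrix (Fin r) (Fin r) ℤ, X * β = 0 → X = 0 := by
    intro X hX
    ext j k
    have hli := bΛ.linearIndependent
    rw [Fintype.linearIndependent_iff] at hli
    have h1 : ∑ k, X j k • bΛ k = 0 := by
      apply Subtype.ext
      funext η
      have h2 := congrFun (congrFun hX j) η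
      rw [Matrix.mul_apply] at h2
      simp only [Submodule.coe_sum, Submodule.coe_smul, Finset.sum_apply, Pi.smul_apply,
        smul_eq_mul, Submodule.coe_zero, Pi.zero_apply]
      exact h2
    exact hli (fun k => X j k) h1 k
  -- `E D = 1`
  have hED : E * D = 1 := by
    have h1 : (E * D - 1) * β = 0 := by
      rw [Matrix.sub_mul, Matrix.one_mul, Matrix.mul_assoc, ← hF1, ← hF2, sub_self]
    exact sub_eq_zero.mp (hF3 _ h1)
  -- `β D = c`
  have hβD : β * D = c • (1 : Matrix (Fin r) (Fin r) ℤ) := by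
    have h1 : (β * D - c • (1 : Matrix (Fin r) (Fin r) ℤ)) * β = 0 := by
      rw [Matrix.sub_mul, Matrix.smul_mul, Matrix.one_mul, Matrix.mul_assoc, ← hF1]
      -- `β N = E N N = c E N = c β`
      rw [hF2, Matrix.mul_assoc, hsq, Matrix.mul_smul, sub_self]
    exact sub_eq_zero.mp (hF3 _ h1)
  -- `C' = E βᵀ`
  set C' : Matrix (Fin r) (Fin r) ℤ := E * β.transpose with hC'
  have hβC : β = C' * D.transpose := by
    rw [hC', Matrix.mul_assoc, ← Matrix.transpose_mul, ← hF1, hsymm]
    exact hF2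
  have hβT : β.transpose = D * C'.transpose := by
    conv_lhs => rw [hβC]
    rw [Matrix.transpose_mul, Matrix.transpose_transpose]
  have hC'symm : C'.transpose = C' := by
    have h1 : C' = E * D * C'.transpose := by
      rw [Matrix.mul_assoc, ← hβT]
    rw [hED, Matrix.one_mul] at h1
    exact h1.symm
  refine ⟨r, D, E, C', hED, ?_, hC'symm, ?_, ?_⟩
  · rw [Matrix.mul_assoc, ← hβC]
    exact hF1
  · have h1 : (β * D).transpose = D.transpose * D * C' := by
      rw [Matrix.transpose_mul, hβT, hC'symm, Matrix.mul_assoc]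
    rw [← h1, hβD, Matrix.transpose_smul, Matrix.transpose_one]
  · rw [hF1, Matrix.trace_mul_comm, hβD, Matrix.trace_smul, Matrix.trace_one, Fintype.card_fin,
      smul_eq_mul]

end Cfsg.Agent.Lib.Helper6.MajSubLAT
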