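/-
helper6: group-theoretic preliminaries for the non-adjacent primes theorem: the centre of a
subgroup as a subgroup of the ambient group, Sylow subgroups inside a supplement of a normal
`p'`-subgroup, uniqueness of subgroups of order `p` under a fixed-point-free action.
-/
import Mathlib
import Cfsg.Agent.Lib.Helper9.FpfUnique

set_option autoImplicit false

namespace Cfsg.Agent.Lib.Helper6.NonAdj

universe u

variable {G : Type u} [Group G]

/-- The centre of the subgroup `Q`, as a subgroup of `G`. -/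
def zsub (Q : Subgroup G) : Subgroup G := Q ⊓ Subgroup.centralizer (Q : Set G)

instance zsub_comm (Q : Subgroup G) : IsMulCommutative (zsub Q) := by
  refine ⟨⟨fun a b => Subtype.ext ?_⟩⟩
  have ha : (a : G) ∈ Q := (Subgroup.mem_inf.mp a.2).1
  have hb : (b : G) ∈ Subgroup.centralizer (Q : Set G) := (Subgroup.mem_inf.mp b.2).2
  exact Subgroup.mem_centralizer_iff.mp hb (a : G) ha

theorem zsub_ne_bot [Finite G] (q : ℕ) [Fact q.Prime] (Q : Subgroup G) (hQ : IsPGroup q Q)
    (hQ1 : Q ≠ ⊥) : zsub Q ≠ ⊥ := by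
  haveI : Nontrivial Q := (Subgroup.nontrivial_iff_ne_bot Q).mpr hQ1
  haveI := IsPGroup.center_nontrivial hQ
  obtain ⟨z, hz⟩ := exists_ne (1 : Subgroup.center Q)
  intro hbot
  apply hz
  apply Subtype.ext
  apply Subtype.ext
  have hmem : ((z : Q) : G) ∈ zsub Q := by
    refine Subgroup.mem_inf.mpr ⟨(z : Q).2, ?_⟩
    rw [Subgroup.mem_centralizer_iff]
    intro h hh
    have := Subgroup.mem_center_iff.mp z.2 ⟨h, hh⟩
    exact congrArg (fun w : Q => (w : G)) this
  rw [hbot] at hmem
  exact Subgroup.mem_bot.mp hmem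

theorem normalizer_le_normalizer_zsub (Q : Subgroup G) :
    Subgroup.normalizer (Q : Set G) ≤ Subgroup.normalizer ((zsub Q : Subgroup G) : Set G) := by
  have key : ∀ g : G, g ∈ Subgroup.normalizer (Q : Set G) → ∀ v : G, v ∈ zsub Q →
      g * v * g⁻¹ ∈ zsub Q := by
    intro g hg v hv
    have hvQ := (Subgroup.mem_inf.mp hv).1
    have hvC := (Subgroup.mem_inf.mp hv).2
    refine Subgroup.mem_inf.mpr ⟨(Subgroup.mem_normalizer_iff.mp hg v).mp hvQ, ?_⟩
    rw [Subgroup.mem_centralizer_iff]
    intro h hh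
    have h1 : g⁻¹ * h * g ∈ Q := (Subgroup.mem_normalizer_iff''.mp hg h).mp hh
    have h2 := Subgroup.mem_centralizer_iff.mp hvC _ h1
    calc h * (g * v * g⁻¹) = g * ((g⁻¹ * h * g) * v) * g⁻¹ := by group
      _ = g * (v * (g⁻¹ * h * g)) * g⁻¹ := by rw [h2]
      _ = g * v * g⁻¹ * h := by group
  intro g hg
  rw [Subgroup.mem_normalizer_iff]
  intro v
  constructor
  · exact key g hg v
  · intro hv
    have := key g⁻¹ (Subgroup.inv_mem _ hg) _ hv
    simpa [mul_assoc] using this

/-- A supplement of a normal subgroup of order prime to `p` contains a Sylow `p`-subgroup. -/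
theorem exists_sylow_le_of_sup_eq_top [Finite G] (p : ℕ) [hp : Fact p.Prime] (K : Subgroup G)
    [K.Normal] (hpK : ¬ p ∣ Nat.card K) (S : Subgroup G) (hS : S ⊔ K = ⊤) :
    ∃ P : Sylow p G, (P : Subgroup G) ≤ S := by
  have h1 : K.index ∣ Nat.card S := by
    have h2 : K.relIndex (S ⊔ K) = K.relIndex S := Subgroup.relIndex_sup_right S K
    rw [hS, Subgroup.relIndex_top_right] at h2
    rw [h2]
    exact Subgroup.relIndex_dvd_card K S
  have hGpos : Nat.card G ≠ 0 := Nat.card_pos.ne'
  have hSpos : Nat.card S ≠ 0 := Nat.card_pos.ne'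
  have hKpos : Nat.card K ≠ 0 := Nat.card_pos.ne'
  have hidxpos : K.index ≠ 0 := by
    intro h0
    have := K.card_mul_index
    rw [h0, mul_zero] at this
    exact hGpos this.symm
  have hfac : (Nat.card S).factorization p = (Nat.card G).factorization p := by
    apply le_antisymm
    · exact (Nat.factorization_le_iff_dvd hSpos hGpos).mpr (Subgroup.card_subgroup_dvd_card S) p
    · have h3 : (Nat.card G).factorization p = K.index.factorization p := by
        rw [← K.card_mul_index, Nat.factorization_mul hKpos hidxpos, Finsupp.add_apply,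
          Nat.factorization_eq_zero_of_not_dvd hpK, zero_add]
      rw [h3]
      exact (Nat.factorization_le_iff_dvd hidxpos hSpos).mpr h1 p
  let P' : Sylow p S := default
  have hcard : Nat.card ((P' : Subgroup S).map S.subtype) = p ^ (Nat.card G).factorization p := by
    rw [Subgroup.card_subtype, ← hfac]
    exact P'.card_eq_multiplicity
  refine ⟨Sylow.ofCard _ hcard, ?_⟩
  rw [Sylow.coe_ofCard]
  exact Subgroup.map_subtype_le _

open Cfsg.Agent.Lib.Helper9 in
open scoped IsMulCommutative in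
/-- If the `p`-subgroup `A` normalizes the nontrivial abelian subgroup `V` and acts on it
fixed-point-freely, then `A` has at most one subgroup of order `p`. -/
theorem mem_zpowers_of_fpf_on_subgroup [Finite G] (p : ℕ) [hp : Fact p.Prime] (A V : Subgroup G)
    [IsMulCommutative V] (hV : V ≠ ⊥) (hAV : A ≤ Subgroup.normalizer (V : Set G))
    (hfpf : ∀ a ∈ A, a ≠ 1 → ∀ v ∈ V, a * v = v * a → v = 1) (hA : IsPGroup p A)
    {a b : G} (ha : a ∈ A) (hb : b ∈ A) (hao : orderOf a = p) (hbo : orderOf b = p) :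
    a ∈ Subgroup.zpowers b := by
  letI := conjMulDistribMulAction A V hAV
  haveI : Nontrivial ↥V := (Subgroup.nontrivial_iff_ne_bot V).mpr hV
  have hf : IsFpfAction ↥A ↥V := by
    intro c hc v hv
    have hc1 : (c : G) ≠ 1 := fun h => hc (Subtype.ext h)
    have h1 : (c : G) * (v : G) * (c : G)⁻¹ = (v : G) := congrArg Subtype.val hv
    have h2 : (c : G) * (v : G) = (v : G) * (c : G) := by
      calc (c : G) * (v : G) = (c : G) * (v : G) * (c : G)⁻¹ * (c : G) := by group
        _ = (v : G) * (c : G) := by rw [h1]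
    exact Subtype.ext (hfpf c c.2 hc1 v v.2 h2)
  have hcard : ∀ (x : G) (hx : x ∈ A), orderOf x = p →
      Nat.card (Subgroup.zpowers (⟨x, hx⟩ : A)) = p := by
    intro x hx hxo
    rw [Nat.card_zpowers, ← hxo]
    exact (Subgroup.orderOf_mk x hx)
  have heq := hf.subgroup_eq_of_card_eq_prime p hA (Subgroup.zpowers (⟨a, ha⟩ : A))
    (Subgroup.zpowers (⟨b, hb⟩ : A)) (hcard a ha hao) (hcard b hb hbo)
  have hmem : (⟨a, ha⟩ : A) ∈ Subgroup.zpowers (⟨b, hb⟩ : A) := by
    rw [← heq]
    exact Subgroup.mem_zpowers _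
  obtain ⟨k, hk⟩ := Subgroup.mem_zpowers_iff.mp hmem
  rw [Subgroup.mem_zpowers_iff]
  refine ⟨k, ?_⟩
  have := congrArg (fun w : A => (w : G)) hk
  simpa using this

end Cfsg.Agent.Lib.Helper6.NonAdj
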