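/-
helper6: the case `q ∣ |K|` (K a normal `p'`-subgroup with `G/K` having a nontrivial normal
`p`-subgroup) of the non-adjacent primes theorem: an irreducible character of `p`-defect zero.
-/
import Mathlib
import Cfsg.Agent.Lib.Helper6.NonAdjC
import Cfsg.Agent.Lib.Helper6.NonAdjD

set_option autoImplicit false

namespace Cfsg.Agent.Lib.Helper6.NonAdj

open Cfsg Cfsg.Agent.CharLib Cfsg.Agent.Lib.Helper6 Cfsg.Agent.Lib.Helper24

universe u

variable {G : Type u} [Group G]

theorem isPElement_of_mem_sylow (p : ℕ) [hp : Fact p.Prime] (P : Sylow p G) {a : G}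
    (ha : a ∈ (P : Subgroup G)) : ∃ k : ℕ, orderOf a = p ^ k := by
  obtain ⟨k, hk⟩ := P.2 ⟨a, ha⟩
  have h1 : a ^ p ^ k = 1 := by
    have := congrArg (fun z : (P : Subgroup G) => (z : G)) hk
    simpa using this
  obtain ⟨j, _, hj⟩ := (Nat.dvd_prime_pow hp.out).mp (orderOf_dvd_of_pow_eq_one h1)
  exact ⟨j, hj⟩

theorem eq_one_of_mem_sylow_of_mem [Finite G] (p : ℕ) [hp : Fact p.Prime] (P : Sylow p G)
    (K : Subgroup G) (hpK : ¬ p ∣ Nat.card K) {u : G} (hu : u ∈ (P : Subgroup G)) (huK : u ∈ K) :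
    u = 1 := by
  obtain ⟨k, hk⟩ := isPElement_of_mem_sylow p P hu
  have h1 : orderOf u ∣ Nat.card K := Subgroup.orderOf_dvd_natCard K huK
  rw [hk] at h1
  rcases Nat.eq_zero_or_pos k with h0 | h0
  · rw [h0, pow_zero] at hk
    exact orderOf_eq_one_iff.mp hk
  · exfalso
    exact hpK ((dvd_pow_self p h0.ne').trans h1)

/-- **Case I.** -/
theorem hasDefectZero_of_dvd_normal [Finite G] (p q : ℕ) [hp : Fact p.Prime] [hq : Fact q.Prime]
    (hno : NoPQ p q G) (K : Subgroup G) [hK : K.Normal] (hpK : ¬ p ∣ Nat.card K)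
    (hqK : q ∣ Nat.card K) (Lb : Subgroup (G ⧸ K)) [hLn : Lb.Normal] (hLp : IsPGroup p Lb)
    (hL1 : Lb ≠ ⊥) : HasDefectZero p G := by
  classical
  -- a Sylow `q`-subgroup of `K` and Frattini
  let Q₁ : Sylow q K := default
  set Q : Subgroup G := (Q₁ : Subgroup K).map K.subtype with hQdef
  have hfr : Subgroup.normalizer (Q : Set G) ⊔ K = ⊤ := Sylow.normalizer_sup_eq_top Q₁
  have hQq : IsPGroup q Q := Q₁.2.map K.subtype
  have hQ1 : Q ≠ ⊥ := by
    rw [← Subgroup.one_lt_card_iff_ne_bot, hQdef, Subgroup.card_subtype, Q₁.card_eq_multiplicity]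
    apply Nat.one_lt_pow _ hq.out.one_lt
    exact (hq.out.factorization_pos_of_dvd Nat.card_pos.ne' hqK).ne'
  obtain ⟨P, hPN⟩ := exists_sylow_le_of_sup_eq_top p K hpK _ hfr
  have hV1 : zsub Q ≠ ⊥ := zsub_ne_bot q Q hQq hQ1
  have hPV : (P : Subgroup G) ≤ Subgroup.normalizer ((zsub Q : Subgroup G) : Set G) :=
    hPN.trans (normalizer_le_normalizer_zsub Q)
  have hfpf : ∀ a ∈ (P : Subgroup G), a ≠ 1 → ∀ v ∈ zsub Q, a * v = v * a → v = 1 := by
    intro a ha ha1 v hv hcomm
    by_contra hv1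
    have hvQ : v ∈ Q := (Subgroup.mem_inf.mp hv).1
    have hvord : ∃ k : ℕ, orderOf v = q ^ k := by
      obtain ⟨k, hk⟩ := hQq ⟨v, hvQ⟩
      have h1 : v ^ q ^ k = 1 := by
        have := congrArg (fun z : Q => (z : G)) hk
        simpa using this
      obtain ⟨j, _, hj⟩ := (Nat.dvd_prime_pow hq.out).mp (orderOf_dvd_of_pow_eq_one h1)
      exact ⟨j, hj⟩
    exact hno.general hp.out hq.out ha1 hv1 (isPElement_of_mem_sylow p P ha) hvord hcomm
  have huniq : ∀ a b : G, a ∈ (P : Subgroup G) → b ∈ (P : Subgroup G) → orderOf a = p →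
      orderOf b = p → a ∈ Subgroup.zpowers b := fun a b ha hb hao hbo =>
    mem_zpowers_of_fpf_on_subgroup p (P : Subgroup G) (zsub Q) hV1 hPV hfpf P.2 ha hb hao hbo
  -- the image of `P` in the quotient
  let Pb : Sylow p (G ⧸ K) := P.mapSurjective (QuotientGroup.mk'_surjective K)
  have hLP : Lb ≤ (Pb : Subgroup (G ⧸ K)) := hLp.le_sylow_of_normal Pb
  have hPbmem : ∀ w : G ⧸ K, w ∈ (Pb : Subgroup (G ⧸ K)) →
      ∃ u ∈ (P : Subgroup G), (QuotientGroup.mk' K) u = w := by
    intro w hw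
    have hw' : w ∈ (P : Subgroup G).map (QuotientGroup.mk' K) := hw
    exact Subgroup.mem_map.mp hw'
  -- an element of order `p` of `P` mapping into `Lb`
  have hLcard : p ∣ Nat.card Lb := by
    obtain ⟨k, hk⟩ := IsPGroup.iff_card.mp hLp
    rw [hk]
    apply dvd_pow_self
    intro h0
    rw [h0, pow_zero] at hk
    have := (Subgroup.one_lt_card_iff_ne_bot (H := Lb)).mpr hL1
    omega
  obtain ⟨xb, hxb⟩ := exists_prime_orderOf_dvd_card' p hLcard
  have hxb' : orderOf (xb : G ⧸ K) = p := by rw [Subgroup.orderOf_coe, hxb]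
  obtain ⟨x₀, hx₀P, hx₀⟩ := hPbmem (xb : G ⧸ K) (hLP xb.2)
  -- orders of lifts in `P`
  have hlift : ∀ u : G, u ∈ (P : Subgroup G) → orderOf ((QuotientGroup.mk' K) u) = p →
      orderOf u = p := by
    intro u hu huo
    have h1 : u ^ p ∈ K := by
      rw [← QuotientGroup.eq_one_iff, QuotientGroup.mk_pow]
      have : (QuotientGroup.mk' K) u ^ p = 1 := by rw [← huo]; exact pow_orderOf_eq_one _
      exact this
    have h2 : u ^ p = 1 :=
      eq_one_of_mem_sylow_of_mem p P K hpK (Subgroup.pow_mem _ hu p) h1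
    apply orderOf_eq_prime h2
    intro h3
    rw [h3, map_one, orderOf_one] at huo
    exact hp.out.one_lt.ne huo
  have hx₀ord : orderOf x₀ = p := hlift x₀ hx₀P (by rw [hx₀]; exact hxb')
  -- every element of order `p` has the form `u * k`
  have hall : ∀ x : G, orderOf x = p → ∃ u k : G, u ∈ (P : Subgroup G) ∧ orderOf u = p ∧
      k ∈ K ∧ x = u * k := by
    intro x hx
    have hzp : IsPGroup p (Subgroup.zpowers x) := by
      apply IsPGroup.of_card (n := 1)
      rw [Nat.card_zpowers, hx, pow_one]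
    obtain ⟨R, hR⟩ := hzp.exists_le_sylow
    obtain ⟨g, hg⟩ := MulAction.exists_smul_eq G R P
    have hx' : g * x * g⁻¹ ∈ (P : Subgroup G) := by
      rw [← hg, Sylow.coe_subgroup_smul]
      have h1 : x ∈ (R : Subgroup G) := hR (Subgroup.mem_zpowers x)
      have h2 := Subgroup.smul_mem_pointwise_smul x (MulAut.conj g) (R : Subgroup G) h1
      simpa [MulAut.smul_def, MulAut.conj_apply] using h2
    have hx'ord : orderOf (g * x * g⁻¹) = p := by
      have := orderOf_injective (MulAut.conj g).toMonoidHom (MulAut.conj g).injective x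
      rw [← hx, ← this]
      rfl
    have hx'z := huniq _ _ hx' hx₀P hx'ord hx₀ord
    obtain ⟨j, hj⟩ := Subgroup.mem_zpowers_iff.mp hx'z
    have hπx' : (QuotientGroup.mk' K) (g * x * g⁻¹) ∈ Lb := by
      rw [← hj, map_zpow, hx₀]
      exact Subgroup.zpow_mem _ xb.2 j
    have hπx : (QuotientGroup.mk' K) x ∈ Lb := by
      have h1 := hLn.conj_mem _ hπx' ((QuotientGroup.mk' K) g⁻¹)
      have h2 : (QuotientGroup.mk' K) g⁻¹ * (QuotientGroup.mk' K) (g * x * g⁻¹) *
          ((QuotientGroup.mk' K) g⁻¹)⁻¹ = (QuotientGroup.mk' K) x := by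
        rw [← map_inv, ← map_mul, ← map_mul]
        congr 1
        group
      rw [h2] at h1
      exact h1
    obtain ⟨u, huP, hu⟩ := hPbmem _ (hLP hπx)
    have hxK : x ∉ K := by
      intro hxK
      apply hpK
      rw [← hx]
      exact Subgroup.orderOf_dvd_natCard K hxK
    have hπxord : orderOf ((QuotientGroup.mk' K) x) = p := by
      have h1 : (QuotientGroup.mk' K) x ^ p = 1 := by
        rw [← map_pow, ← hx, pow_orderOf_eq_one, map_one]
      apply orderOf_eq_prime h1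
      intro h2
      apply hxK
      exact (QuotientGroup.eq_one_iff x).mp h2
    have huord : orderOf u = p := hlift u huP (by rw [hu]; exact hπxord)
    refine ⟨u, u⁻¹ * x, huP, huord, ?_, by group⟩
    rw [← QuotientGroup.eq_one_iff]
    have h3 : ((u⁻¹ * x : G) : G ⧸ K) = ((QuotientGroup.mk' K) u)⁻¹ * (QuotientGroup.mk' K) x := by
      rw [← map_inv, ← map_mul]
      rfl
    rw [h3, hu, inv_mul_cancel]
  -- a character of `K` moved by `x₀`
  obtain ⟨z, hz⟩ := exists_prime_orderOf_dvd_card' q hqK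
  have hx₀p : x₀ ^ p = 1 := by rw [← hx₀ord]; exact pow_orderOf_eq_one x₀
  have hzmoved : ∀ n : K, IsConj z n → x₀ * (n : G) ≠ (n : G) * x₀ := by
    intro n hn
    apply hno x₀ (n : G) hx₀ord
    rw [Subgroup.orderOf_coe, ← hz]
    obtain ⟨c, hc⟩ := isConj_iff.mp hn
    have := orderOf_injective (MulAut.conj c).toMonoidHom (MulAut.conj c).injective z
    rw [← this, ← hc]
    rfl
  obtain ⟨θ, hθ⟩ := exists_irr_moved K p hpK x₀ hx₀p z hzmoved
  apply hasDefectZero_of_not_fixed K p θ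
  intro x hx hfix
  obtain ⟨u, k, huP, huord, hkK, rfl⟩ := hall x hx
  have hθcls : IsClassFunction K (θ : K → ℂ) :=
    IsCharacter.isClassFunction (IsIrrCharacter.isCharacter θ.2)
  have hucls : IsClassFunction K (conjFun K u (θ : K → ℂ)) :=
    IsCharacter.isClassFunction (IsIrrCharacter.isCharacter (isIrrCharacter_conjFun K θ.2 u))
  rw [conjFun_mul, conjFun_of_mem K hucls hkK] at hfix
  have hu_in : u ∈ inertia K hθcls := (mem_inertia K hθcls u).mpr hfix
  have hx₀u := huniq _ _ hx₀P huP hx₀ord huord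
  have hx₀_in : x₀ ∈ inertia K hθcls :=
    (Subgroup.zpowers_le.mpr hu_in) hx₀u
  exact hθ ((mem_inertia K hθcls x₀).mp hx₀_in)

end Cfsg.Agent.Lib.Helper6.NonAdj
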