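/-
helper6: the non-adjacent primes theorem for `p`-solvable groups: if `p`, `q` divide `|G|`, no
element of order `p` commutes with an element of order `q`, and `G` is `p`-solvable, then `G` has an
irreducible character of `p`-defect zero or one of `q`-defect zero.
-/
import Mathlib
import Cfsg.Prelude.Def_Local
import Cfsg.Agent.Lib.Helper6.NonAdjE

set_option autoImplicit false

namespace Cfsg.Agent.Lib.Helper6.NonAdj

open Cfsg Cfsg.Agent.CharLib Cfsg.Agent.Lib.Helper6 Cfsg.Agent.Lib.Helper24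

universe u

variable {G : Type u} [Group G]

/-- From a `p`-series: a normal `p'`-subgroup `K` and a normal subgroup `L ≥ K` with `L/K` a
nontrivial `p`-group. -/
theorem exists_pair_of_isPSolvable [Finite G] (p : ℕ) [hp : Fact p.Prime]
    (hsolv : IsPSolvable p G) (hpG : p ∣ Nat.card G) :
    ∃ K L : Subgroup G, K.Normal ∧ L.Normal ∧ K ≤ L ∧ ¬ p ∣ Nat.card K ∧
      ∃ m : ℕ, m ≠ 0 ∧ K.relIndex L = p ^ m := by
  classical
  obtain ⟨n, H, h0, hlast, hmono, hnorm, hfac⟩ := hsolv
  have hex : ∃ j : ℕ, ∃ h : j < n + 1, p ∣ Nat.card (H ⟨j, h⟩) := by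
    refine ⟨n, Nat.lt_succ_self n, ?_⟩
    have : (⟨n, Nat.lt_succ_self n⟩ : Fin (n + 1)) = Fin.last n := rfl
    rw [this, hlast, Subgroup.card_top]
    exact hpG
  obtain ⟨hj, hjp⟩ := Nat.find_spec hex
  have hmin := fun i (hi : i < Nat.find hex) => Nat.find_min hex hi
  have hj0 : Nat.find hex ≠ 0 := by
    intro h0'
    have h1 : H ⟨Nat.find hex, hj⟩ = H 0 := congrArg H (Fin.ext h0')
    rw [h1, h0, Subgroup.card_bot] at hjp
    exact hp.out.one_lt.ne' (Nat.dvd_one.mp hjp)
  obtain ⟨i, hi⟩ := Nat.exists_eq_succ_of_ne_zero hj0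
  have hin : i < n := by omega
  let ii : Fin n := ⟨i, hin⟩
  have hsucc : ii.succ = ⟨Nat.find hex, hj⟩ := by
    apply Fin.ext
    show i + 1 = Nat.find hex
    omega
  have hKp : ¬ p ∣ Nat.card (H ii.castSucc) := by
    intro hd
    apply hmin i (by omega)
    exact ⟨by omega, hd⟩
  have hLp : p ∣ Nat.card (H ii.succ) := by rw [hsucc]; exact hjp
  have hle : H ii.castSucc ≤ H ii.succ := hmono (Fin.castSucc_lt_succ (i := ii)).le
  refine ⟨H ii.castSucc, H ii.succ, hnorm _, hnorm _, hle, hKp, ?_⟩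
  have hcard : Nat.card (H ii.castSucc) * (H ii.castSucc).relIndex (H ii.succ) =
      Nat.card (H ii.succ) := by
    have := Subgroup.relIndex_mul_relIndex (⊥ : Subgroup G) (H ii.castSucc) (H ii.succ) bot_le hle
    rwa [Subgroup.relIndex_bot_left, Subgroup.relIndex_bot_left] at this
  have hdvd : p ∣ (H ii.castSucc).relIndex (H ii.succ) := by
    rw [← hcard] at hLp
    exact (hp.out.dvd_mul.mp hLp).resolve_left hKp
  rcases hfac ii with ⟨m, hm⟩ | hcop
  · refine ⟨m, ?_, hm⟩
    intro hm0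
    rw [hm, hm0, pow_zero] at hdvd
    exact hp.out.one_lt.ne' (Nat.dvd_one.mp hdvd)
  · exfalso
    have := Nat.Coprime.eq_one_of_dvd hcop.symm hdvd
    exact hp.out.one_lt.ne' this

/-- **Non-adjacent primes, `p`-solvable case.** -/
theorem hasDefectZero_of_isPSolvable [Finite G] (p q : ℕ) [hp : Fact p.Prime] [hq : Fact q.Prime]
    (hpq : p ≠ q) (hpG : p ∣ Nat.card G) (hno : NoPQ p q G) (hsolv : IsPSolvable p G) :
    HasDefectZero p G ∨ HasDefectZero q G := by
  classical
  obtain ⟨K, L, hKn, hLn, hKL, hpK, m, hm0, hm⟩ := exists_pair_of_isPSolvable p hsolv hpG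
  haveI := hKn
  haveI := hLn
  set Lb : Subgroup (G ⧸ K) := L.map (QuotientGroup.mk' K) with hLb
  haveI hLbn : Lb.Normal :=
    Subgroup.Normal.map hLn (QuotientGroup.mk' K) (QuotientGroup.mk'_surjective K)
  have hLbcard : Nat.card Lb = p ^ m := by
    rw [← hm, hLb, ← Subgroup.relIndex_ker L (QuotientGroup.mk' K), QuotientGroup.ker_mk']
  have hLbp : IsPGroup p Lb := IsPGroup.of_card hLbcard
  have hLb1 : Lb ≠ ⊥ := by
    rw [← Subgroup.one_lt_card_iff_ne_bot, hLbcard]
    exact Nat.one_lt_pow hm0 hp.out.one_lt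
  by_cases hqK : q ∣ Nat.card K
  · left
    exact hasDefectZero_of_dvd_normal p q hno K hpK hqK Lb hLbp hLb1
  · right
    have hnoq : NoPQ p q (G ⧸ K) := hno.quotient hp.out hq.out hpq K
    obtain ⟨χb, hχb⟩ := hasDefectZero_of_normal_pgroup p q hpq hnoq Lb hLbp hLb1
    obtain ⟨χ, hχ⟩ := exists_inflation K χb
    refine ⟨χ, ?_⟩
    have h1 : charDegree (χ : G → ℂ) = charDegree (χb : G ⧸ K → ℂ) := by
      unfold charDegree
      rw [hχ 1]
      rfl
    rw [h1, hχb]
    have hKpos : Nat.card K ≠ 0 := Nat.card_pos.ne'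
    have hQpos : Nat.card (G ⧸ K) ≠ 0 := Nat.card_pos.ne'
    rw [← K.card_mul_index, ← Subgroup.index_eq_card, Nat.factorization_mul hKpos
      (by rw [Subgroup.index_eq_card]; exact hQpos), Finsupp.add_apply,
      Nat.factorization_eq_zero_of_not_dvd hqK, zero_add]

end Cfsg.Agent.Lib.Helper6.NonAdj
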