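import Cfsg.Agent.Lib.Helper17.OC2Defs
import Cfsg.Agent.Lib.Helper17.OC2Tool
import Cfsg.Agent.Lib.Helper17.OC2Move
import Cfsg.Agent.Lib.Helper25.SpinForms
import Cfsg.Agent.Lib.Helper14.OrthOdd

/-!
# S5677 leaf C3 (helper17 market): from a root element outside the block to one in another block
-/

set_option autoImplicit false
set_option linter.unusedSectionVars false
set_option linter.unusedVariables false

namespace Cfsg.Agent.Lib.Helper6.OC2Leaf

open Module QuadraticMap Matrix Cfsg.Agent.Lib.Helper25.CD Cfsg.Agent.Lib.Helper25.Spin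
  Cfsg.Agent.Lib.Helper15 Cfsg.Agent.Lib.Helper5.NSMax Cfsg.Agent.Lib.Helper5.PairMax
  Cfsg.Agent.Lib.Helper17.OC2 Cfsg.Agent.Lib.Helper17.OC2Leaf

variable {ι : Type} [Fintype ι] [DecidableEq ι] {F : Type*} [Field F] [Fintype F]
  {Q : QuadraticForm F (ι → F)} {t : ℕ} {D : Fin t → Submodule F (ι → F)} {k : ℕ}
  {M : Subgroup ↥(Cfsg.isometryGroup F ⇑Q)}

/-- a nonsingular vector of a nondegenerate space not orthogonal to a given nonzero vector -/
theorem exists_nonsing_not_perp {U : Submodule F (ι → F)} (hU : NdOn Q U) (h2 : (2 : F) ≠ 0)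
    {w : ι → F} (hw : w ∈ U) (hw0 : w ≠ 0) :
    ∃ d ∈ U, Q d ≠ 0 ∧ polar Q d w ≠ 0 := by
  by_cases hQw : Q w = 0
  · obtain ⟨u, hu, hwu⟩ : ∃ u ∈ U, polar Q w u ≠ 0 := by
      by_contra hcon
      push Not at hcon
      exact hw0 (hU w hw hcon)
    by_cases hQu : Q u = 0
    · refine ⟨w + u, U.add_mem hw hu, ?_, ?_⟩
      · rw [Cfsg.Agent.Lib.Helper25.MaxTS.Q_add, hQw, hQu, zero_add, zero_add]
        exact hwu
      · rw [polar_add_left, Cfsg.Agent.Lib.Helper25.MaxTS.polar_self, hQw, mul_zero, zero_add,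
          polar_comm]
        exact hwu
    · exact ⟨u, hu, hQu, by rw [polar_comm]; exact hwu⟩
  · refine ⟨w, hw, hQw, ?_⟩
    rw [Cfsg.Agent.Lib.Helper25.MaxTS.polar_self]
    exact mul_ne_zero h2 hQw

/-- C3 -/
theorem exists_block_vec (hS : MS Q M D k) {i : Fin t} {z y : ι → F} (hz : z ∈ D i) (hz0 : z ≠ 0)
    (hQz : Q z = 0) (hy0 : y ≠ 0) (hy : pr hS.toGeo i y = 0) (h : InA Q M z y) :
    ∃ l, l ≠ i ∧ ∃ v ∈ D l, v ≠ 0 ∧ InA Q M z v := by
  have hG := hS.toGeo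
  -- a block where `y` has a nonzero component
  obtain ⟨l, hl⟩ : ∃ l, pr hG l y ≠ 0 := by
    by_contra hcon
    push Not at hcon
    apply hy0
    rw [← sum_pr hG y]
    exact Finset.sum_eq_zero (fun j _ => hcon j)
  have hli : l ≠ i := by
    rintro rfl
    exact hl hy
  refine ⟨l, hli, ?_⟩
  have hyl : pr hG l y ∈ D l := pr_mem hG l y
  have hndl := ndOn hG l
  obtain ⟨d₁, hd₁, hQd₁, hd₁y⟩ := exists_nonsing_not_perp hndl hG.h2 hyl hl
  have hd₁y' : polar Q d₁ y ≠ 0 := by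
    rw [polar_pr' hG hd₁ y]; exact hd₁y
  -- a second vector of the same norm orthogonal to `d₁`
  have hPnd := perpVec_nd hG.h2 hndl hd₁ hQd₁
  have hPfr : 2 ≤ finrank F (perpVec Q (D l) d₁) := by
    have h1 := perpVec_finrank hG.nd (D l) d₁
    have h2 := hG.fr l
    have h3 := hG.k3
    omega
  obtain ⟨d₂, hd₂P, hQd₂⟩ := Cfsg.Agent.Lib.Helper25.OGeom.universal Q hPnd hPfr (Q d₁)
  rw [mem_perpVec] at hd₂P
  obtain ⟨hd₂, hd₁d₂⟩ := hd₂P
  have hQd₂0 : Q d₂ ≠ 0 := by rw [hQd₂]; exact hQd₁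
  -- the element `h = r_{d₁} r_{d₂}`
  have hΩ : reflM Q d₁ * reflM Q d₂ ∈ Cfsg.Omega F ⇑Q := by
    rw [pair_mem_omega_iff hG hQd₁ hQd₂0, hQd₂]
    exact ⟨Q d₁, rfl⟩
  have hfix : Fixes Q D (reflM Q d₁ * reflM Q d₂) :=
    (reflM_fixes hG hd₁).mul (reflM_fixes hG hd₂)
  have hM : reflM Q d₁ * reflM Q d₂ ∈ M := hS.stab _ hΩ hfix.isPerm
  have hzfix : toOG Q (reflM Q d₁ * reflM Q d₂) z = z := by
    rw [map_mul, LinearEquiv.mul_apply,
      toOG_reflM_of_perp (hG.orth l i hli d₂ hd₂ z hz),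
      toOG_reflM_of_perp (hG.orth l i hli d₁ hd₁ z hz)]
  have hconj := InA.conj hM h
  rw [hzfix] at hconj
  -- the image of `y`
  have himg : toOG Q (reflM Q d₁ * reflM Q d₂) y
      = y - (polar Q d₂ y / Q d₂) • d₂ - (polar Q d₁ y / Q d₁) • d₁ := by
    rw [map_mul, LinearEquiv.mul_apply, toOG_reflM, toOG_reflM, reflE_apply, reflE_apply,
      polar_sub_right, polar_smul_right, hd₁d₂, smul_zero, sub_zero]
    simp only [div_eq_mul_inv, mul_comm]
  have hzy : polar Q z y = 0 := by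
    rw [polar_pr' hG hz y, hy, polar_zero_right]
  have hzd₁ : polar Q z d₁ = 0 := hG.orth i l (Ne.symm hli) z hz d₁ hd₁
  have hzd₂ : polar Q z d₂ = 0 := hG.orth i l (Ne.symm hli) z hz d₂ hd₂
  obtain ⟨v, hv⟩ : ∃ v, v = -((polar Q d₂ y / Q d₂) • d₂) - (polar Q d₁ y / Q d₁) • d₁ := ⟨_, rfl⟩
  have hvmem : v ∈ D l := by
    rw [hv]
    exact (D l).sub_mem ((D l).neg_mem ((D l).smul_mem _ hd₂)) ((D l).smul_mem _ hd₁)
  have hvA : InA Q M z v := by
    have e : v = toOG Q (reflM Q d₁ * reflM Q d₂) y + (-1 : F) • y := by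
      rw [himg, hv]; module
    rw [e]
    refine InA.add hQz ?_ ?_ hconj (h.smul (-1))
    · rw [himg, polar_sub_right, polar_sub_right, polar_smul_right, polar_smul_right, hzy, hzd₁,
        hzd₂]
      simp
    · rw [polar_smul_right, hzy, smul_zero]
  refine ⟨v, hvmem, ?_, hvA⟩
  intro hv0
  have h1 : polar Q d₁ v = 0 := by rw [hv0, polar_zero_right]
  rw [hv, polar_sub_right, polar_neg_right, polar_smul_right, polar_smul_right, hd₁d₂, smul_zero,
    neg_zero, zero_sub, neg_eq_zero, Cfsg.Agent.Lib.Helper25.MaxTS.polar_self, smul_eq_mul] at h1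
  have h2' : polar Q d₁ y / Q d₁ ≠ 0 := div_ne_zero hd₁y' hQd₁
  exact (mul_ne_zero h2' (mul_ne_zero hG.h2 hQd₁)) h1

end Cfsg.Agent.Lib.Helper6.OC2Leaf
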