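import Mathlib
import Cfsg.Agent.Lib.Lead.OEDefs
import Cfsg.Agent.Lib.Helper4.AschA1
import Cfsg.Agent.Lib.Helper20.AschTS
import Cfsg.Agent.Lib.Helper29.AschKF2
import Cfsg.Agent.Lib.Helper29.AschS1K1
import Cfsg.Agent.Lib.Helper20.FCMain
import Cfsg.Agent.Lib.Helper17.OERed

/-!
OMEGA-EVEN (planner lead), block [E-CLF] (helper6): `egeo_of_not_homog` with the exact signature of `notes/OmEven_leaves.lean`.
Adapter on helper20's `fc_orthogonal_main`; the pair of subspaces totally singular for the polar form is made totally singular for `Q`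
uniformly in the characteristic: `Z i := D i ⊓ {Q = 0}` is a subspace, `Z 0 ⊔ Z 1` is `H`-invariant; `= ⊤` gives `.pair`,
`= ⊥` forces `dim D i ≤ 1`, i.e. `n ≤ 2`.
-/

set_option autoImplicit false
set_option linter.unusedSectionVars false
set_option linter.unusedVariables false

namespace Cfsg.Agent.Lib.Helper6.OELeaf
open Matrix Cfsg Cfsg.Geo Cfsg.Agent.Lib.Helper20.Asch Cfsg.Agent.Lib.Lead.OE
open scoped Kronecker

variable {F : Type*} [Field F] [Fintype F] {n : ℕ} {Q : (Fin n → F) → F}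
  {H N : Subgroup (GL (Fin n) F)}

/-- [E-CLF] -/
theorem egeo_of_not_homog (h : ECtx Q H) (hn : 3 ≤ n) (hirr : Irr H) (hN : N ≤ H) (hnorm : NormBy H N)
    (hnh : ¬ Homog N) : EGeo Q H := by
  classical
  have hQ := h.nd
  have hbil := hQ.polar_bilinear
  have hiso : ∀ g ∈ H, ∀ v : Fin n → F, Q ((g : Matrix (Fin n) (Fin n) F) *ᵥ v) = Q v := by
    intro g hg v
    exact h.le hg v v
  have hfix : FixesQuadForm (matrixSet H) Q := by
    rintro _ ⟨g, hg, rfl⟩ v
    exact hiso g hg v
  rcases Cfsg.Agent.Lib.Helper20.FCLeaf.fc_orthogonal_main hQ (by omega) hirr hN hnorm hfix with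
    hh | ⟨t, k, D, hD, hst⟩ | ⟨k, D, hk, hD, hts, hst⟩
  · exact absurd hh hnh
  · exact EGeo.dec k D hD hst
  -- the pair
  have hadd : ∀ i, ∀ a ∈ D i, ∀ b ∈ D i, Q (a + b) = Q a + Q b := by
    intro i a ha b hb
    rw [Cfsg.Agent.Lib.Helper17.OELeaf.red_Q_add Q, hts i a ha b hb, add_zero]
  have hZ : ∀ i, ∃ Z : Submodule F (Fin n → F), ∀ v, v ∈ Z ↔ v ∈ D i ∧ Q v = 0 := by
    intro i
    refine ⟨{ carrier := {v | v ∈ D i ∧ Q v = 0}
              add_mem' := ?_
              zero_mem' := ?_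
              smul_mem' := ?_ }, fun v => Iff.rfl⟩
    · rintro a b ⟨ha, ha'⟩ ⟨hb, hb'⟩
      refine ⟨(D i).add_mem ha hb, ?_⟩
      rw [hadd i a ha b hb, ha', hb', add_zero]
    · exact ⟨(D i).zero_mem, Cfsg.Agent.Lib.Helper17.OELeaf.red_Q_zero hQ⟩
    · rintro c v ⟨hv, hv'⟩
      refine ⟨(D i).smul_mem c hv, ?_⟩
      rw [hQ.smul, hv', mul_zero]
  choose Z hZm using hZ
  have hZle : ∀ j : Fin 2, Z j ≤ Z 0 ⊔ Z 1 := by
    intro j
    fin_cases j
    · exact le_sup_left
    · exact le_sup_right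
  have hWinv : ∀ s ∈ matrixSet H, (Z 0 ⊔ Z 1).map (Matrix.toLin' s) ≤ Z 0 ⊔ Z 1 := by
    rintro _ ⟨g, hg, rfl⟩
    obtain ⟨σ, hσ⟩ := hst hg
    have key : ∀ i, (Z i).map (Matrix.toLin' (g : Matrix (Fin n) (Fin n) F)) ≤ Z (σ i) := by
      intro i
      rintro _ ⟨v, hv, rfl⟩
      have hv' := (hZm i v).1 hv
      rw [hZm]
      refine ⟨?_, ?_⟩
      · rw [← hσ i]
        exact ⟨v, hv'.1, rfl⟩
      · rw [Matrix.toLin'_apply, hiso g hg]
        exact hv'.2
    rw [Submodule.map_sup]
    exact sup_le ((key 0).trans (hZle _)) ((key 1).trans (hZle _))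
  have hdisj : Disjoint (D 0) (D 1) := hD.indep.pairwiseDisjoint (by decide)
  rcases hirr _ hWinv with hW | hW
  · -- impossible: `dim D 0 ≤ 1`
    exfalso
    have hZ0 : Z 0 = ⊥ := by
      rw [eq_bot_iff, ← hW]
      exact le_sup_left
    have hk2 : 2 ≤ k := by omega
    have hfr := hD.finrank_eq 0
    have hD0 : D 0 ≠ ⊥ := by
      intro h0
      rw [h0, finrank_bot] at hfr
      omega
    obtain ⟨u, hu, hu0⟩ := Submodule.exists_mem_ne_zero_of_ne_bot hD0
    have hQu : Q u ≠ 0 := by
      intro hq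
      have : u ∈ Z 0 := (hZm 0 u).mpr ⟨hu, hq⟩
      rw [hZ0] at this
      exact hu0 ((Submodule.mem_bot F).mp this)
    have h2 : (2 : F) = 0 := by
      have h3 := Cfsg.Agent.Lib.Helper17.OELeaf.red_polar_self hQ u
      rw [hts 0 u hu u hu] at h3
      rcases mul_eq_zero.mp h3.symm with h4 | h4
      · exact h4
      · exact absurd h4 hQu
    have hchar : ringChar F = 2 := CharP.ringChar_of_prime_eq_zero Nat.prime_two (by exact_mod_cast h2)
    have hspan : D 0 ≤ Submodule.span F {u} := by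
      intro r hr
      obtain ⟨c, hc⟩ := FiniteField.isSquare_of_char_two hchar (Q r / Q u)
      have hmem : r + c • u ∈ Z 0 := by
        rw [hZm]
        refine ⟨(D 0).add_mem hr ((D 0).smul_mem c hu), ?_⟩
        rw [hadd 0 r hr _ ((D 0).smul_mem c hu), hQ.smul]
        have h5 : c ^ 2 * Q u = Q r := by
          rw [pow_two, ← hc]
          field_simp
        rw [h5]
        linear_combination Q r * h2
      rw [hZ0, Submodule.mem_bot] at hmem
      have h6 : r = (-c) • u := by
        rw [neg_smul]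
        exact eq_neg_of_add_eq_zero_left hmem
      rw [h6]
      exact Submodule.smul_mem _ _ (Submodule.mem_span_singleton_self u)
    have h1 := Submodule.finrank_mono hspan
    rw [hfr, finrank_span_singleton hu0] at h1
    omega
  · -- `.pair`
    refine EGeo.pair k D hD ?_ hst
    have hsplit : ∀ w : Fin n → F, ∃ a ∈ Z 0, ∃ b ∈ Z 1, a + b = w := by
      intro w
      have : w ∈ Z 0 ⊔ Z 1 := by rw [hW]; exact Submodule.mem_top
      exact Submodule.mem_sup.1 this
    intro i w hw
    obtain ⟨a, ha, b, hb, hab⟩ := hsplit w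
    have ha' := (hZm 0 a).1 ha
    have hb' := (hZm 1 b).1 hb
    fin_cases i
    · -- `w ∈ D 0`
      have hb0 : b = 0 := by
        have h1 : b ∈ D 0 := by
          have : b = w - a := by rw [← hab]; abel
          rw [this]
          exact (D 0).sub_mem hw ha'.1
        exact (Submodule.disjoint_def.1 hdisj) b h1 hb'.1
      have : w = a := by rw [← hab, hb0, add_zero]
      rw [this]
      exact ha'.2
    · have ha0 : a = 0 := by
        have h1 : a ∈ D 1 := by
          have : a = w - b := by rw [← hab]; abel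
          rw [this]
          exact (D 1).sub_mem hw hb'.1
        exact (Submodule.disjoint_def.1 hdisj) a ha'.1 h1
      have : w = b := by rw [← hab, ha0, zero_add]
      rw [this]
      exact hb'.2

end Cfsg.Agent.Lib.Helper6.OELeaf
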