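import Mathlib
import Cfsg.Prelude.Def_GeometricClasses
import Cfsg.Agent.Lib.Lead.OEQF
import Cfsg.Agent.Lib.Helper9.PlusPlane
import Cfsg.Agent.Lib.Helper25.OmegaNonMax
import Cfsg.Agent.Lib.Helper18.OAschTR
import Cfsg.Agent.Lib.Helper1.OmMN13
import Cfsg.Agent.Lib.Helper1.OmMP1

/-!
OMEGA-EVEN rows (planner lead), leaf OE-P1 `not_omega_le_subspace` (helper6): helper1's `Helper1.OmMP1.not_omega_le_subspace` never used
its hypothesis `h2`; this is his proof verbatim without it (all characteristics).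
-/

set_option autoImplicit false
set_option linter.unusedSectionVars false
set_option linter.unusedVariables false

namespace Cfsg.Agent.Lib.Helper6.OELeaf

open Cfsg Cfsg.Geo Matrix Module QuadraticMap Cfsg.Agent.Lib.Lead.OE

section generic
variable {ι : Type} [Fintype ι] [DecidableEq ι] {F : Type*} [Field F] [Fintype F]
  (Q : QuadraticForm F (ι → F))

/-- P1. -/
theorem not_omega_le_subspace (hQ : (polarBilin Q).Nondegenerate) (hι : 5 ≤ Fintype.card ι)
    {W : Submodule F (ι → F)} (h0 : W ≠ ⊥) (h1 : W ≠ ⊤) : ¬ omegaGL ⇑Q ≤ subspaceStabilizer W := by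
  intro hle
  by_cases hsing : ∃ u ∈ W, u ≠ 0 ∧ Q u = 0
  · obtain ⟨u, huW, hu0, hu⟩ := hsing
    exact h1 (Cfsg.Agent.Lib.Helper1.OmMLeaf.eq_top_of_invariant Q hQ hι hle huW hu0 hu)
  · -- `W` is anisotropic, of dimension at most two
    have hW2 : finrank F W ≤ 2 := by
      by_contra hcon
      exact hsing (Cfsg.Agent.Lib.Helper15.exists_singular_in Q W (by omega))
    set Wp := Cfsg.Agent.Lib.Helper25.MaxTS.perp Q W with hWp
    have hdim : finrank F Wp = Fintype.card ι - finrank F W := by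
      rw [hWp, Cfsg.Agent.Lib.Helper25.MaxTS.finrank_perp hQ, Module.finrank_fintype_fun_eq_card]
    have hle' : omegaGL ⇑Q ≤ subspaceStabilizer Wp := by
      intro g hg
      have hgW := hle hg
      have hginv := hle ((omegaGL ⇑Q).inv_mem hg)
      have hpolar : ∀ a b : ι → F, polar (⇑Q) ((g : Matrix ι ι F) *ᵥ a) ((g : Matrix ι ι F) *ᵥ b) = polar (⇑Q) a b := by
        intro a b
        unfold polar
        rw [← Matrix.mulVec_add, Cfsg.Agent.Lib.Helper1.OmMLeaf.isometry_of_mem_omegaGL (⇑Q) hg, Cfsg.Agent.Lib.Helper1.OmMLeaf.isometry_of_mem_omegaGL (⇑Q) hg,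
          Cfsg.Agent.Lib.Helper1.OmMLeaf.isometry_of_mem_omegaGL (⇑Q) hg]
      have hgg : ∀ a : ι → F, (g : Matrix ι ι F) *ᵥ (((g⁻¹ : GL ι F) : Matrix ι ι F) *ᵥ a) = a := by
        intro a
        rw [Matrix.mulVec_mulVec, ← Units.val_mul, mul_inv_cancel, Units.val_one, Matrix.one_mulVec]
      have hgg' : ∀ a : ι → F, ((g⁻¹ : GL ι F) : Matrix ι ι F) *ᵥ ((g : Matrix ι ι F) *ᵥ a) = a := by
        intro a
        rw [Matrix.mulVec_mulVec, ← Units.val_mul, inv_mul_cancel, Units.val_one, Matrix.one_mulVec]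
      intro v
      change v ∈ Wp ↔ (g : Matrix ι ι F) *ᵥ v ∈ Wp
      rw [hWp, Cfsg.Agent.Lib.Helper25.MaxTS.mem_perp, Cfsg.Agent.Lib.Helper25.MaxTS.mem_perp]
      constructor
      · intro hv w hw
        have hw' : ((g⁻¹ : GL ι F) : Matrix ι ι F) *ᵥ w ∈ W := (hginv w).mp hw
        rw [← hgg w, hpolar]
        exact hv _ hw'
      · intro hv w hw
        have hw' : (g : Matrix ι ι F) *ᵥ w ∈ W := (hgW w).mp hw
        rw [← hpolar]
        exact hv _ hw'
    have h3 : 3 ≤ finrank F Wp := by omega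
    obtain ⟨e, heW, he0, he⟩ := Cfsg.Agent.Lib.Helper15.exists_singular_in Q Wp h3
    have htop := Cfsg.Agent.Lib.Helper1.OmMLeaf.eq_top_of_invariant Q hQ hι hle' heW he0 he
    apply h0
    rw [eq_bot_iff]
    intro w hw
    rw [Submodule.mem_bot]
    apply hQ.1
    intro y
    rw [polarBilin_apply_apply]
    have hy : y ∈ Wp := by rw [htop]; exact Submodule.mem_top
    exact (Cfsg.Agent.Lib.Helper25.MaxTS.mem_perp.mp hy) w hw

end generic

end Cfsg.Agent.Lib.Helper6.OELeaf
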