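import Mathlib
import Cfsg.Prelude.Def_GeometricClasses
import Cfsg.Agent.Lib.Lead.OEQF
import Cfsg.Agent.Lib.Helper9.PlusPlane
import Cfsg.Agent.Lib.Helper25.OmegaNonMax
import Cfsg.Agent.Lib.Helper18.OAschTR
import Cfsg.Agent.Lib.Helper1.OmMN13
import Cfsg.Agent.Lib.Helper12.TWTS
import Cfsg.Agent.Lib.Helper6.TWQ1
import Cfsg.Agent.Lib.Helper20.AschA89F2J
import Cfsg.Agent.Lib.Helper25.DiscType

/-!
OMEGA-EVEN rows (planner lead), leaf OE-R6 `plus_of_c7_two` (helper6): a tensor power structure with 2-dimensional factors forces plus type.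
By-product: `det_ptens`.
-/

set_option autoImplicit false
set_option linter.unusedSectionVars false
set_option linter.unusedVariables false

namespace Cfsg.Agent.Lib.Helper6.OELeaf

open Cfsg Cfsg.Geo Matrix Module QuadraticMap Cfsg.Agent.Lib.Lead.OE
open Cfsg.Agent.Lib.Helper18.AschA89

/-- the determinant of a pure tensor -/
theorem det_ptens {F : Type*} [Field F] (m t : ℕ) (gs : Fin t → Matrix (Fin m) (Fin m) F) :
    (ptens m t gs).det = ∏ i, (gs i).det ^ (m ^ (t - 1)) := by
  classical
  have key : ∀ S : Finset (Fin t), (ptens m t (fun i => if i ∈ S then gs i else 1)).det =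
      ∏ i ∈ S, (gs i).det ^ (m ^ (t - 1)) := by
    intro S
    induction S using Finset.induction_on with
    | empty =>
      simp only [Finset.notMem_empty, if_false, Finset.prod_empty]
      rw [Cfsg.Agent.Lib.Helper20.AschLeaf.ptens_one, Matrix.det_one]
    | insert j S hj ih =>
      have : (fun i => if i ∈ insert j S then gs i else (1 : Matrix (Fin m) (Fin m) F)) =
          fun i => (if i ∈ S then gs i else 1) *
            (Function.update (fun _ => (1 : Matrix (Fin m) (Fin m) F)) j (gs j)) i := by
        funext i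
        by_cases hij : i = j
        · subst hij
          simp [hj]
        · simp [hij]
      rw [this, ← Cfsg.Agent.Lib.Helper20.AschLeaf.ptens_mul, Matrix.det_mul, ih,
        ← Cfsg.Agent.Lib.Helper6.TWQ.slot_eq_ptens, Cfsg.Agent.Lib.Helper12.TWLeaf.det_slot,
        Finset.prod_insert hj, mul_comm]
  have := key Finset.univ
  simpa using this

section generic
variable {F : Type*} [Field F] [Fintype F]

/-- the coordinate isomorphism `x ↦ P *ᵥ (x ∘ e)` -/
noncomputable def cvEquiv {n : ℕ} {κ : Type} [Fintype κ] [DecidableEq κ] (e : Fin n ≃ κ) (P : GL (Fin n) F) :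
    (κ → F) ≃ₗ[F] (Fin n → F) :=
  (LinearEquiv.funCongrLeft F F e).trans
    (Matrix.toLin'OfInv (M := ((P⁻¹ : GL (Fin n) F) : Matrix (Fin n) (Fin n) F))
      (M' := (P : Matrix (Fin n) (Fin n) F))
      (by rw [← Units.val_mul, inv_mul_cancel, Units.val_one])
      (by rw [← Units.val_mul, mul_inv_cancel, Units.val_one]))

lemma cvEquiv_apply {n : ℕ} {κ : Type} [Fintype κ] [DecidableEq κ] (e : Fin n ≃ κ) (P : GL (Fin n) F)
    (x : κ → F) : cvEquiv e P x = (P : Matrix (Fin n) (Fin n) F) *ᵥ (x ∘ e) := rfl

/-- the coordinate basis -/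
noncomputable def cvBasis {n : ℕ} {κ : Type} [Fintype κ] [DecidableEq κ] (e : Fin n ≃ κ) (P : GL (Fin n) F) :
    Basis κ F (Fin n → F) :=
  (Pi.basisFun F κ).map (cvEquiv e P)

lemma cvBasis_apply {n : ℕ} {κ : Type} [Fintype κ] [DecidableEq κ] (e : Fin n ≃ κ) (P : GL (Fin n) F)
    (a : κ) : cvBasis e P a = (P : Matrix (Fin n) (Fin n) F) *ᵥ ((Pi.single a (1 : F) : κ → F) ∘ e) := by
  unfold cvBasis
  rw [Basis.map_apply, Pi.basisFun_apply, cvEquiv_apply]

/-- the Gram matrix of the polar form in the coordinate basis of a tensor power structure -/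
lemma polar_cvBasis {n : ℕ} (Q : QuadraticForm F (Fin n → F)) {k t : ℕ} (e : Fin n ≃ (Fin t → Fin k))
    (P : GL (Fin n) F) (f₁ : (Fin k → F) → (Fin k → F) → F) (c : F)
    (hc : ∀ x y : (Fin t → Fin k) → F,
      polar ⇑Q ((P : Matrix (Fin n) (Fin n) F) *ᵥ (x ∘ e)) ((P : Matrix (Fin n) (Fin n) F) *ᵥ (y ∘ e)) =
        c * ∑ a, ∑ b, x a * (∏ i, gramMatrix f₁ (a i) (b i)) * id (y b))
    (a a' : Fin t → Fin k) :
    polar ⇑Q (cvBasis e P a) (cvBasis e P a') = c * ∏ i, gramMatrix f₁ (a i) (a' i) := by
  classical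
  rw [cvBasis_apply, cvBasis_apply, hc]
  congr 1
  rw [Finset.sum_eq_single a]
  · rw [Finset.sum_eq_single a']
    · simp
    · intro b _ hb
      simp [Pi.single_eq_of_ne hb]
    · intro h
      exact absurd (Finset.mem_univ _) h
  · intro b _ hb
    apply Finset.sum_eq_zero
    intro b' _
    simp [Pi.single_eq_of_ne hb]
  · intro h
    exact absurd (Finset.mem_univ _) h

/-- a span of pairwise orthogonal singular vectors is totally singular -/
lemma ts_span {V : Type*} [AddCommGroup V] [Module F V] (Q : QuadraticForm F V) (S : Set V)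
    (hS : ∀ s ∈ S, Q s = 0) (hSS : ∀ s ∈ S, ∀ s' ∈ S, polar ⇑Q s s' = 0) :
    ∀ x ∈ Submodule.span F S, Q x = 0 := by
  have h1 : ∀ x ∈ Submodule.span F S, ∀ s' ∈ S, polar ⇑Q x s' = 0 := by
    intro x hx s' hs'
    induction hx using Submodule.span_induction with
    | mem x h => exact hSS x h s' hs'
    | zero => simp
    | add x y _ _ hx hy => rw [polar_add_left, hx, hy, add_zero]
    | smul a x _ hx => rw [polar_smul_left, hx, smul_zero]
  have h2 : ∀ x ∈ Submodule.span F S, ∀ y ∈ Submodule.span F S, polar ⇑Q x y = 0 := by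
    intro x hx y hy
    induction hy using Submodule.span_induction with
    | mem y h => exact h1 x hx y h
    | zero => simp
    | add y z _ _ hy hz => rw [polar_add_right, hy, hz, add_zero]
    | smul a y _ hy => rw [polar_smul_right, hy, smul_zero]
  intro x hx
  induction hx using Submodule.span_induction with
  | mem x h => exact hS x h
  | zero => simp
  | add x y hx' hy' hx hy =>
    rw [QuadraticMap.map_add (⇑Q) x y, hx, hy, h2 x hx' y hy']
    simp
  | smul a x _ hx => rw [QuadraticMap.map_smul, hx, smul_zero]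

/-- the number of `0/1`-vectors with a prescribed coordinate -/
lemma card_first_zero (t : ℕ) (i₀ : Fin t) :
    Fintype.card {a : Fin t → Fin 2 // a i₀ = 0} = 2 ^ (t - 1) := by
  classical
  have e : {a : Fin t → Fin 2 // a i₀ = 0} ≃ ({j : Fin t // j ≠ i₀} → Fin 2) :=
    { toFun := fun a j => a.1 j.1
      invFun := fun w => ⟨fun j => if h : j = i₀ then 0 else w ⟨j, h⟩, by simp⟩
      left_inv := by
        intro a
        apply Subtype.ext
        funext j
        by_cases h : j = i₀
        · subst h
          simp [a.2]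
        · simp [h]
      right_inv := by
        intro w
        funext j
        simp [j.2] }
  rw [Fintype.card_congr e, Fintype.card_fun, Fintype.card_fin, Fintype.card_subtype_compl, Fintype.card_fin,
    Fintype.card_subtype_eq]

/-- R6. -/
theorem plus_of_c7_two {n : ℕ} (Q : QuadraticForm F (Fin n → F)) (hQ : (polarBilin Q).Nondegenerate)
    {t : ℕ} (ht : 2 ≤ t) (e : Fin n ≃ (Fin t → Fin 2)) (P : GL (Fin n) F)
    (f₁ : (Fin 2 → F) → (Fin 2 → F) → F)
    (hten : IsTensorPowerFormStructure id (polar ⇑Q) f₁ e P)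
    (hf₁ : (Odd (Fintype.card F) ∧ IsSymmetricForm f₁) ∨
      (IsSymplecticForm f₁ ∧ ∀ x : Fin t → Fin 2 → F, Q (pureP e P x) = 0)) :
    IsPlusTypeOn ⇑Q ⊤ := by
  classical
  obtain ⟨c, hc0, hc⟩ := hten
  obtain ⟨t', rfl⟩ : ∃ t', t = t' + 2 := ⟨t - 2, by omega⟩
  have hn : n = 2 ^ (t' + 2) := by
    have := Fintype.card_congr e
    rw [Fintype.card_fin, Fintype.card_fun, Fintype.card_fin, Fintype.card_fin] at this
    exact this
  have hdim : finrank F (Fin n → F) = 2 * 2 ^ (t' + 1) := by
    rw [Module.finrank_fintype_fun_eq_card, Fintype.card_fin, hn]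
    ring
  have hpol := polar_cvBasis Q e P f₁ c hc
  rcases hf₁ with ⟨hodd, -⟩ | ⟨hsymp, hpure⟩
  · -- symmetric factors, `q` odd: the discriminant is a square
    have h2 : (2 : F) ≠ 0 := by
      apply Ring.two_ne_zero
      intro hch
      have h1' := FiniteField.even_card_of_char_two hch
      have h2' := Nat.odd_iff.mp hodd
      omega
    have hsymm : LinearMap.BilinForm.IsSymm (polarBilin Q) := ⟨fun x y => by simp [polar_comm]⟩
    have hM : LinearMap.BilinForm.toMatrix (cvBasis e P) (polarBilin Q) =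
        c • ptens 2 (t' + 2) (fun _ => gramMatrix f₁) := by
      ext a a'
      rw [LinearMap.BilinForm.toMatrix_apply, polarBilin_apply_apply, hpol, Matrix.smul_apply, ptens_apply,
        smul_eq_mul]
    have hsq : IsSquare ((-1 : F) ^ (2 ^ (t' + 1)) *
        (LinearMap.BilinForm.toMatrix (cvBasis e P) (polarBilin Q)).det) := by
      rw [hM, Matrix.det_smul, det_ptens, Fintype.card_fun, Fintype.card_fin, Fintype.card_fin]
      have e1 : (-1 : F) ^ (2 ^ (t' + 1)) = 1 :=
        Even.neg_one_pow ((Nat.even_pow).2 ⟨even_two, by omega⟩)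
      rw [e1, one_mul]
      refine ⟨c ^ (2 ^ (t' + 1)) * ∏ _i : Fin (t' + 2), (gramMatrix f₁).det ^ (2 ^ t'), ?_⟩
      have e2 : c ^ (2 ^ (t' + 2)) = c ^ (2 ^ (t' + 1)) * c ^ (2 ^ (t' + 1)) := by
        rw [← pow_add]
        congr 1
        ring
      have e3 : ∏ _i : Fin (t' + 2), (gramMatrix f₁).det ^ (2 ^ (t' + 2 - 1)) =
          (∏ _i : Fin (t' + 2), (gramMatrix f₁).det ^ (2 ^ t')) *
            ∏ _i : Fin (t' + 2), (gramMatrix f₁).det ^ (2 ^ t') := by
        rw [← Finset.prod_mul_distrib]
        apply Finset.prod_congr rfl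
        intro i _
        rw [← pow_add]
        congr 1
        have : t' + 2 - 1 = t' + 1 := by omega
        rw [this]
        ring
      rw [e2, e3]
      ring
    obtain ⟨X, hX, hXB⟩ := Cfsg.Agent.Lib.Helper25.DiscType.exists_isotropic_of_isSquare h2 (cvBasis e P)
      (polarBilin Q) hsymm hQ (2 ^ (t' + 1)) hdim hsq
    refine ⟨X, le_top, ?_, ?_⟩
    · intro x hx
      have h3 := hXB x hx x hx
      rw [polarBilin_apply_apply, QuadraticMap.polar_self, two_nsmul, ← two_mul] at h3
      rcases mul_eq_zero.1 h3 with h4 | h4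
      · exact absurd h4 h2
      · exact h4
    · rw [hX, finrank_top, hdim]
  · -- symplectic factors: the pure tensors with first factor `e₀`
    set i₀ : Fin (t' + 2) := ⟨0, by omega⟩ with hi₀
    set S : Set (Fin n → F) := Set.range (fun a : {a : Fin (t' + 2) → Fin 2 // a i₀ = 0} => cvBasis e P a.1)
      with hS
    have hQb : ∀ a : Fin (t' + 2) → Fin 2, Q (cvBasis e P a) = 0 := by
      intro a
      have := hpure (fun i => Pi.single (a i) (1 : F))
      rw [cvBasis_apply]
      have h1 : (Pi.single a (1 : F) : (Fin (t' + 2) → Fin 2) → F) =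
          fun z => ∏ i, (Pi.single (a i) (1 : F) : Fin 2 → F) (z i) := by
        funext z
        by_cases h : z = a
        · subst h
          simp
        · rw [Pi.single_eq_of_ne h]
          have : ∃ i, z i ≠ a i := by
            by_contra hne
            push Not at hne
            exact h (funext hne)
          obtain ⟨i, hi⟩ := this
          symm
          apply Finset.prod_eq_zero (Finset.mem_univ i)
          rw [Pi.single_eq_of_ne hi]
      rw [h1]
      exact this
    have hU := ts_span Q S
      (by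
        rintro _ ⟨a, rfl⟩
        exact hQb a.1)
      (by
        rintro _ ⟨a, rfl⟩ _ ⟨a', rfl⟩
        rw [hpol]
        have : ∏ i, gramMatrix f₁ (a.1 i) (a'.1 i) = 0 := by
          apply Finset.prod_eq_zero (Finset.mem_univ i₀)
          rw [a.2, a'.2]
          exact hsymp.alternating _
        rw [this, mul_zero])
    refine ⟨Submodule.span F S, le_top, hU, ?_⟩
    have hli : LinearIndependent F (fun a : {a : Fin (t' + 2) → Fin 2 // a i₀ = 0} => cvBasis e P a.1) :=
      (cvBasis e P).linearIndependent.comp Subtype.val Subtype.val_injective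
    rw [hS, finrank_span_eq_card hli, card_first_zero, finrank_top, hdim]
    congr 1

end generic

end Cfsg.Agent.Lib.Helper6.OELeaf
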