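import Cfsg.Agent.Lib.Helper18.OrthAutK
import Cfsg.Agent.Lib.Helper25.SpinGL

set_option autoImplicit false

/-!
helper6: two generators for `Ω⁺_{2m}(q)`, part A.  Standard basis vectors of the hyperbolic
space, the root elements `X c d t = T_{E c, t • E d}` of `Ω`, their conjugation rules, and the
generation criterion (all root elements based at the last hyperbolic pair).
-/

namespace Cfsg.Agent.Lib.Helper6.OPlusGen

open Module QuadraticMap Matrix Cfsg.Agent.Lib.Helper25.CD Cfsg.Agent.Lib.Helper25.Spin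
  Cfsg.Agent.Lib.Helper18.OrthAut Cfsg.Agent.Lib.Helper14

variable {F : Type*} [Field F] [Fintype F] {n : ℕ}

/-- The index type of the standard basis. -/
abbrev Idx (n : ℕ) : Type := Fin (n + 1) ⊕ Fin (n + 1)

/-- The opposite index. -/
def op (c : Idx n) : Idx n := Sum.swap c

@[simp] theorem op_inl (i : Fin (n + 1)) : op (Sum.inl i : Idx n) = Sum.inr i := rfl

@[simp] theorem op_inr (i : Fin (n + 1)) : op (Sum.inr i : Idx n) = Sum.inl i := rfl

@[simp] theorem op_op (c : Idx n) : op (op c) = c := Sum.swap_swap c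

theorem op_ne (c : Idx n) : op c ≠ c := by
  rcases c with i | i <;> simp

/-- Standard basis vector. -/
noncomputable def E (c : Idx n) : Idx n → F := Pi.single c 1

theorem E_apply (c c' : Idx n) : (E c : Idx n → F) c' = if c' = c then 1 else 0 :=
  Pi.single_apply c 1 c'

theorem Q_E (c : Idx n) : Qp (n + 1) F (E c) = 0 := by
  rw [Qp_apply]
  unfold Cfsg.quadFormPlus
  apply Finset.sum_eq_zero
  intro i _
  rcases c with j | j
  · rw [E_apply (Sum.inl j) (Sum.inr i), if_neg (by simp), mul_zero]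
  · rw [E_apply (Sum.inr j) (Sum.inl i), if_neg (by simp), zero_mul]

theorem polar_E (c : Idx n) (x : Idx n → F) : polar (Qp (n + 1) F) (E c) x = x (op c) := by
  rw [polar_Qp]
  unfold plusPolar
  rcases c with j | j
  · rw [Finset.sum_eq_single j]
    · simp [E_apply]
    · intro i _ hi
      simp [E_apply, hi]
    · intro h; exact absurd (Finset.mem_univ j) h
  · rw [Finset.sum_eq_single j]
    · simp [E_apply]
    · intro i _ hi
      simp [E_apply, hi]
    · intro h; exact absurd (Finset.mem_univ j) h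

theorem hcard (hn3 : 3 ≤ n) : 7 ≤ Fintype.card (Idx n) := by
  simp only [Idx, Fintype.card_sum, Fintype.card_fin]
  omega

theorem polar_E_smul_E {c d : Idx n} (h : d ≠ op c) (t : F) :
    polar (Qp (n + 1) F) (E c) (t • E d) = 0 := by
  rw [polar_E, Pi.smul_apply, E_apply, if_neg (fun h' => h h'.symm), smul_zero]

theorem sum_smul_E (w : Idx n → F) : ∑ c, w c • (E c : Idx n → F) = w := by
  funext c'
  rw [Finset.sum_apply]
  simp only [Pi.smul_apply, E_apply, smul_eq_mul, mul_ite, mul_one, mul_zero]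
  rw [Finset.sum_ite_eq]
  simp

/-- Two elements of `Ω` with the same action are equal. -/
theorem omega_ext {g g' : ↥(Cfsg.Omega F ⇑(Qp (n + 1) F))}
    (h : ∀ x, toOG (Qp (n + 1) F) g.1 x = toOG (Qp (n + 1) F) g'.1 x) : g = g' :=
  Subtype.ext (toOG_injective (Qp (n + 1) F) (LinearEquiv.ext h))

/-- The root element `T_{E c, t • E d}` of `Ω` (trivial when `d` is opposite to `c`). -/
noncomputable def X (hn3 : 3 ≤ n) (c d : Idx n) (t : F) : ↥(Cfsg.Omega F ⇑(Qp (n + 1) F)) :=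
  if h : d ≠ op c then
    TO (Qp (n + 1) F) (qfOf_nondeg _) (hcard hn3) (E c) (t • E d) (Q_E c) (polar_E_smul_E h t)
  else 1

theorem X_eq_TO (hn3 : 3 ≤ n) {c d : Idx n} (h : d ≠ op c) (t : F) :
    X hn3 c d t =
      TO (Qp (n + 1) F) (qfOf_nondeg _) (hcard hn3) (E c) (t • E d) (Q_E c)
        (polar_E_smul_E h t) := by
  rw [X, dif_pos h]

theorem toOG_X (hn3 : 3 ≤ n) {c d : Idx n} (h : d ≠ op c) (t : F) (x : Idx n → F) :
    toOG (Qp (n + 1) F) (X hn3 c d t).1 x = siegT (Qp (n + 1) F) (E c) (t • E d) x := by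
  rw [X_eq_TO hn3 h, TO_val, toOG_TG]

theorem toOG_mul (g g' : ↥(Cfsg.Omega F ⇑(Qp (n + 1) F))) (x : Idx n → F) :
    toOG (Qp (n + 1) F) (g * g').1 x =
      toOG (Qp (n + 1) F) g.1 (toOG (Qp (n + 1) F) g'.1 x) := by
  rw [Subgroup.coe_mul, map_mul, LinearEquiv.mul_apply]

theorem toOG_one (x : Idx n → F) :
    toOG (Qp (n + 1) F) (1 : ↥(Cfsg.Omega F ⇑(Qp (n + 1) F))).1 x = x := by
  rw [Subgroup.coe_one, map_one]
  rfl

theorem toOG_inv_apply (g : ↥(Cfsg.Omega F ⇑(Qp (n + 1) F))) (x : Idx n → F) :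
    toOG (Qp (n + 1) F) (g⁻¹).1 (toOG (Qp (n + 1) F) g.1 x) = x := by
  rw [← toOG_mul, inv_mul_cancel, toOG_one]

theorem toOG_apply_inv (g : ↥(Cfsg.Omega F ⇑(Qp (n + 1) F))) (x : Idx n → F) :
    toOG (Qp (n + 1) F) g.1 (toOG (Qp (n + 1) F) (g⁻¹).1 x) = x := by
  rw [← toOG_mul, mul_inv_cancel, toOG_one]

theorem X_add (hn3 : 3 ≤ n) (c d : Idx n) (s t : F) :
    X hn3 c d s * X hn3 c d t = X hn3 c d (s + t) := by
  by_cases h : d ≠ op c
  · apply omega_ext
    intro x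
    rw [toOG_mul, toOG_X hn3 h, toOG_X hn3 h, toOG_X hn3 h,
      siegT_siegT (Qp (n + 1) F) (Q_E c) (polar_E_smul_E h s) (polar_E_smul_E h t), add_smul]
  · rw [X, dif_neg h, X, dif_neg h, X, dif_neg h, one_mul]

theorem X_zero (hn3 : 3 ≤ n) (c d : Idx n) : X hn3 c d (0 : F) = 1 := by
  by_cases h : d ≠ op c
  · apply omega_ext
    intro x
    rw [toOG_X hn3 h, zero_smul, siegT_zero, toOG_one]
  · rw [X, dif_neg h]

theorem X_neg (hn3 : 3 ≤ n) (c d : Idx n) (t : F) : (X hn3 c d t)⁻¹ = X hn3 c d (-t) := by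
  apply inv_eq_of_mul_eq_one_left
  rw [X_add, neg_add_cancel, X_zero]

theorem X_pow (hn3 : 3 ≤ n) (c d : Idx n) (t : F) (k : ℕ) :
    (X hn3 c d t) ^ k = X hn3 c d ((k : F) * t) := by
  induction k with
  | zero => rw [pow_zero, Nat.cast_zero, zero_mul, X_zero]
  | succ k ih =>
    rw [pow_succ, ih, X_add]
    congr 1
    push_cast
    ring

/-- Conjugation of a root element by an element of `Ω` acting monomially on the two
basis vectors involved. -/
theorem conj_X (hn3 : 3 ≤ n) (k : ↥(Cfsg.Omega F ⇑(Qp (n + 1) F))) {c d c' d' : Idx n}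
    (h : d ≠ op c) (h' : d' ≠ op c') {ε δ : F}
    (hc : toOG (Qp (n + 1) F) k.1 (E c) = ε • E c')
    (hd : toOG (Qp (n + 1) F) k.1 (E d) = δ • E d') (t : F) :
    k * X hn3 c d t * k⁻¹ = X hn3 c' d' (ε * δ * t) := by
  apply omega_ext
  intro x
  have e : ε • t • δ • (E d' : Idx n → F) = (ε * δ * t) • E d' := by
    rw [smul_smul, smul_smul]
    congr 1
    ring
  rw [Subgroup.coe_mul, Subgroup.coe_mul, Subgroup.coe_inv, map_mul, map_mul, map_inv,
    LinearEquiv.mul_apply, LinearEquiv.mul_apply, toOG_X hn3 h, toOG_X hn3 h',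
    conj_siegT (Qp (n + 1) F) (toOG_mem_OG (Qp (n + 1) F) k.1), hc, map_smul, hd,
    siegT_smul_left, e]

/-- Conjugation of a root element by an element fixing `E c` and mapping `E d` to a
combination of two basis vectors. -/
theorem conj_X_two (hn3 : 3 ≤ n) (k : ↥(Cfsg.Omega F ⇑(Qp (n + 1) F))) {c d d' : Idx n}
    (h : d ≠ op c) (h' : d' ≠ op c) {α β : F}
    (hc : toOG (Qp (n + 1) F) k.1 (E c) = E c)
    (hd : toOG (Qp (n + 1) F) k.1 (E d) = α • E d' + β • E d) (t : F) :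
    k * X hn3 c d t * k⁻¹ = X hn3 c d' (α * t) * X hn3 c d (β * t) := by
  apply omega_ext
  intro x
  have e : t • (α • (E d' : Idx n → F) + β • E d) = (α * t) • E d' + (β * t) • E d := by
    rw [smul_add, smul_smul, smul_smul, mul_comm t α, mul_comm t β]
  rw [toOG_mul (X hn3 c d' (α * t)), toOG_X hn3 h', toOG_X hn3 h,
    siegT_siegT (Qp (n + 1) F) (Q_E c) (polar_E_smul_E h' _) (polar_E_smul_E h _),
    Subgroup.coe_mul, Subgroup.coe_mul, Subgroup.coe_inv, map_mul, map_mul, map_inv,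
    LinearEquiv.mul_apply, LinearEquiv.mul_apply, toOG_X hn3 h,
    conj_siegT (Qp (n + 1) F) (toOG_mem_OG (Qp (n + 1) F) k.1), hc, map_smul, hd, e]

/-- All root elements `X c d t`, `t ∈ F`, lie in `M`. -/
def inM (hn3 : 3 ≤ n) (M : Subgroup ↥(Cfsg.Omega F ⇑(Qp (n + 1) F))) (c d : Idx n) : Prop :=
  ∀ t : F, X hn3 c d t ∈ M

theorem inM_conj (hn3 : 3 ≤ n) {M : Subgroup ↥(Cfsg.Omega F ⇑(Qp (n + 1) F))}
    {k : ↥(Cfsg.Omega F ⇑(Qp (n + 1) F))} (hk : k ∈ M) {c d c' d' : Idx n}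
    (h : d ≠ op c) (h' : d' ≠ op c') {ε δ : F} (hε : ε ≠ 0) (hδ : δ ≠ 0)
    (hc : toOG (Qp (n + 1) F) k.1 (E c) = ε • E c')
    (hd : toOG (Qp (n + 1) F) k.1 (E d) = δ • E d') (hin : inM hn3 M c d) :
    inM hn3 M c' d' := by
  intro t
  have h1 := conj_X hn3 k h h' hc hd (t / (ε * δ))
  have e : ε * δ * (t / (ε * δ)) = t := by field_simp
  rw [e] at h1
  rw [← h1]
  exact M.mul_mem (M.mul_mem hk (hin _)) (M.inv_mem hk)

theorem hyp_last (n : ℕ) (F : Type*) [Field F] [Fintype F] :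
    HypPair (Qp (n + 1) F) (E (Sum.inl (Fin.last n) : Idx n)) (E (Sum.inr (Fin.last n))) :=
  ⟨Q_E _, Q_E _, by rw [polar_E, op_inl, E_apply, if_pos rfl]⟩

/-- The root subgroup at `E p` lies in `M` as soon as the root elements `X p c t` do. -/
theorem RU_le (hn3 : 3 ≤ n) (M : Subgroup ↥(Cfsg.Omega F ⇑(Qp (n + 1) F))) (p : Idx n)
    (hp : ∀ c, c ≠ p → c ≠ op p → inM hn3 M p c) :
    RU (Qp (n + 1) F) (E p) (Q_E p) ≤ M := by
  rintro g ⟨w, hw, hg⟩
  have hw0 : w (op p) = 0 := by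
    have h0 := polar_E p w
    rw [hw] at h0
    exact h0.symm
  have key : ∃ h : polar (Qp (n + 1) F) (E p) (∑ c, w c • (E c : Idx n → F)) = 0,
      TO (Qp (n + 1) F) (qfOf_nondeg _) (hcard hn3) (E p) (∑ c, w c • (E c : Idx n → F))
        (Q_E p) h ∈ M := by
    apply Finset.sum_induction (fun c => w c • (E c : Idx n → F))
      (fun v => ∃ h : polar (Qp (n + 1) F) (E p) v = 0,
        TO (Qp (n + 1) F) (qfOf_nondeg _) (hcard hn3) (E p) v (Q_E p) h ∈ M)
    · rintro a b ⟨ha, hab⟩ ⟨hb, hbb⟩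
      refine ⟨by rw [polar_add_right, ha, hb, add_zero], ?_⟩
      rw [← TO_mul (Qp (n + 1) F) (qfOf_nondeg _) (hcard hn3) (Q_E p) ha hb]
      exact M.mul_mem hab hbb
    · refine ⟨by simp, ?_⟩
      rw [TO_zero]
      exact M.one_mem
    · intro c _
      by_cases hc1 : c = op p
      · have e0 : w c • (E c : Idx n → F) = 0 := by rw [hc1, hw0, zero_smul]
        refine ⟨by rw [e0]; simp, ?_⟩
        rw [TO_congr (Qp (n + 1) F) (qfOf_nondeg _) (hcard hn3) (Q_E p) _ e0, TO_zero]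
        exact M.one_mem
      · by_cases hc2 : c = p
        · subst hc2
          refine ⟨polar_E_smul_E hc1 _, ?_⟩
          have e1 : TO (Qp (n + 1) F) (qfOf_nondeg _) (hcard hn3) (E c) (w c • E c) (Q_E c)
              (polar_E_smul_E hc1 _) = 1 := by
            apply Subtype.ext
            rw [TO_val]
            exact TG_smul_self (Qp (n + 1) F) (Q_E c) _
          rw [e1]
          exact M.one_mem
        · refine ⟨polar_E_smul_E hc1 _, ?_⟩
          rw [← X_eq_TO hn3 hc1]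
          exact hp c hc2 hc1 _
  obtain ⟨h, hmem⟩ := key
  have e : g = TO (Qp (n + 1) F) (qfOf_nondeg _) (hcard hn3) (E p)
      (∑ c, w c • (E c : Idx n → F)) (Q_E p) h := by
    apply Subtype.ext
    have hg' : g.1 = TG (Qp (n + 1) F) (E p) w (Q_E p) hw := hg
    rw [hg', TO_val]
    exact TG_congr (Qp (n + 1) F) (Q_E p) hw (sum_smul_E w).symm
  rw [e]
  exact hmem

/-- Generation criterion: a subgroup containing all the root elements based at the last
hyperbolic pair is everything. -/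
theorem eq_top_of_inM (hn3 : 3 ≤ n) (M : Subgroup ↥(Cfsg.Omega F ⇑(Qp (n + 1) F)))
    (h1 : ∀ c : Idx n, c ≠ Sum.inl (Fin.last n) → c ≠ Sum.inr (Fin.last n) →
      inM hn3 M (Sum.inl (Fin.last n)) c)
    (h2 : ∀ c : Idx n, c ≠ Sum.inl (Fin.last n) → c ≠ Sum.inr (Fin.last n) →
      inM hn3 M (Sum.inr (Fin.last n)) c) : M = ⊤ := by
  apply gen_top (Qp (n + 1) F) (qfOf_nondeg _) (hcard hn3) (hyp_last n F) M
  · exact RU_le hn3 M _ (fun c hc1 hc2 => h1 c hc1 hc2)
  · exact RU_le hn3 M _ (fun c hc1 hc2 => h2 c hc2 hc1)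

end Cfsg.Agent.Lib.Helper6.OPlusGen
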