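import Cfsg.Agent.Lib.Helper6.OPlusGenA

set_option autoImplicit false

/-!
helper6: two generators for `Ω⁺_{2m}(q)`, part B.  Monomial matrices in the Levi factor
`GL_m`, the action of `diag(A, A⁻ᵀ)` on the standard basis, and the block embedding of
`GL_2` at the first two indices.
-/

namespace Cfsg.Agent.Lib.Helper6.OPlusGen

open Module QuadraticMap Matrix Cfsg.Agent.Lib.Helper25.CD Cfsg.Agent.Lib.Helper25.Spin
  Cfsg.Agent.Lib.Helper18.OrthAut Cfsg.Agent.Lib.Helper14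

section mono

variable {F : Type*} [Field F] {m : ℕ}

/-- The monomial matrix `e_j ↦ d j • e_{σ j}`. -/
def monoM (σ : Equiv.Perm (Fin m)) (d : Fin m → F) : Matrix (Fin m) (Fin m) F :=
  fun i j => if i = σ j then d j else 0

/-- The inverse of the monomial matrix. -/
def monoMInv (σ : Equiv.Perm (Fin m)) (d : Fin m → F) : Matrix (Fin m) (Fin m) F :=
  fun i j => if j = σ i then (d i)⁻¹ else 0

theorem monoM_mul_inv (σ : Equiv.Perm (Fin m)) (d : Fin m → F) (hd : ∀ j, d j ≠ 0) :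
    monoM σ d * monoMInv σ d = 1 := by
  ext i k
  rw [Matrix.mul_apply, Finset.sum_eq_single (σ.symm i)]
  · unfold monoM monoMInv
    rw [if_pos (σ.apply_symm_apply i).symm, Equiv.apply_symm_apply]
    by_cases hik : i = k
    · subst hik
      rw [if_pos rfl, mul_inv_cancel₀ (hd _), Matrix.one_apply_eq]
    · rw [if_neg (fun h => hik h.symm), mul_zero, Matrix.one_apply_ne hik]
  · intro j _ hj
    unfold monoM
    rw [if_neg, zero_mul]
    intro h
    apply hj
    rw [h, Equiv.symm_apply_apply]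
  · intro h; exact absurd (Finset.mem_univ _) h

theorem monoMInv_mul (σ : Equiv.Perm (Fin m)) (d : Fin m → F) (hd : ∀ j, d j ≠ 0) :
    monoMInv σ d * monoM σ d = 1 := by
  ext i k
  rw [Matrix.mul_apply, Finset.sum_eq_single (σ i)]
  · unfold monoM monoMInv
    rw [if_pos rfl]
    by_cases hik : i = k
    · subst hik
      rw [if_pos rfl, inv_mul_cancel₀ (hd _), Matrix.one_apply_eq]
    · rw [if_neg (fun h => hik (σ.injective h)), mul_zero, Matrix.one_apply_ne hik]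
  · intro j _ hj
    unfold monoMInv
    rw [if_neg hj, zero_mul]
  · intro h; exact absurd (Finset.mem_univ _) h

/-- The monomial matrix as an element of the general linear group. -/
def monoGL (σ : Equiv.Perm (Fin m)) (d : Fin m → F) (hd : ∀ j, d j ≠ 0) : GL (Fin m) F :=
  ⟨monoM σ d, monoMInv σ d, monoM_mul_inv σ d hd, monoMInv_mul σ d hd⟩

theorem monoGL_coe (σ : Equiv.Perm (Fin m)) (d : Fin m → F) (hd : ∀ j, d j ≠ 0) :
    ((monoGL σ d hd : GL (Fin m) F) : Matrix (Fin m) (Fin m) F) = monoM σ d := rfl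

theorem monoGL_inv_coe (σ : Equiv.Perm (Fin m)) (d : Fin m → F) (hd : ∀ j, d j ≠ 0) :
    (((monoGL σ d hd)⁻¹ : GL (Fin m) F) : Matrix (Fin m) (Fin m) F) = monoMInv σ d := rfl

theorem monoM_eq_mul_diagonal (σ : Equiv.Perm (Fin m)) (d : Fin m → F) :
    monoM σ d = monoM σ (fun _ => 1) * Matrix.diagonal d := by
  ext i j
  rw [Matrix.mul_diagonal]
  unfold monoM
  by_cases h : i = σ j
  · rw [if_pos h, if_pos h, one_mul]
  · rw [if_neg h, if_neg h, zero_mul]

theorem det_monoM_one_ne_zero (σ : Equiv.Perm (Fin m)) :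
    (monoM σ (fun _ => (1 : F))).det ≠ 0 := by
  have h := monoM_mul_inv σ (fun _ => (1 : F)) (fun _ => one_ne_zero)
  have h2 := congrArg Matrix.det h
  rw [Matrix.det_mul, Matrix.det_one] at h2
  intro h0
  rw [h0, zero_mul] at h2
  exact zero_ne_one h2

end mono

section phi

variable {F : Type*} [Field F] [Fintype F] {n : ℕ}

/-- `diag(A, A⁻ᵀ)` as an isometry of the quadratic form `Qp`. -/
noncomputable def phiQ (A : GL (Fin (n + 1)) F) : ↥(Cfsg.isometryGroup F ⇑(Qp (n + 1) F)) :=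
  phiGL A

theorem phiQ_coe (A : GL (Fin (n + 1)) F) :
    (((phiQ A : ↥(Cfsg.isometryGroup F ⇑(Qp (n + 1) F))) :
      GL (Fin (n + 1) ⊕ Fin (n + 1)) F) :
      Matrix (Fin (n + 1) ⊕ Fin (n + 1)) (Fin (n + 1) ⊕ Fin (n + 1)) F) =
      Matrix.fromBlocks (A : Matrix (Fin (n + 1)) (Fin (n + 1)) F) 0 0
        ((A⁻¹ : GL (Fin (n + 1)) F) : Matrix (Fin (n + 1)) (Fin (n + 1)) F)ᵀ := phiGL_coe A

/-- `phiQ` as a monoid homomorphism. -/
noncomputable def phiQHom : GL (Fin (n + 1)) F →* ↥(Cfsg.isometryGroup F ⇑(Qp (n + 1) F)) where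
  toFun := phiQ
  map_one' := phiGL_one
  map_mul' := phiGL_mul

theorem phiQHom_apply (A : GL (Fin (n + 1)) F) : phiQHom A = phiQ A := rfl

theorem phiQ_mem (A : GL (Fin (n + 1)) F)
    (hA : IsSquare (A : Matrix (Fin (n + 1)) (Fin (n + 1)) F).det) (hn3 : 3 ≤ n) :
    phiQ A ∈ Cfsg.Omega F ⇑(Qp (n + 1) F) :=
  (phiGL_mem_iff' (by omega) (Or.inr (by omega)) A).2 hA

theorem toOG_phiQ (A : GL (Fin (n + 1)) F) (x : Idx n → F) :
    toOG (Qp (n + 1) F) (phiQ A) x =
      Sum.elim ((A : Matrix (Fin (n + 1)) (Fin (n + 1)) F) *ᵥ (x ∘ Sum.inl))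
        (((A⁻¹ : GL (Fin (n + 1)) F) : Matrix (Fin (n + 1)) (Fin (n + 1)) F)ᵀ *ᵥ
          (x ∘ Sum.inr)) := by
  rw [toOG_apply, phiQ_coe, Matrix.fromBlocks_mulVec]
  simp only [Matrix.zero_mulVec, add_zero, zero_add]

theorem E_inl_comp (j : Fin (n + 1)) :
    ((E (Sum.inl j : Idx n) : Idx n → F) ∘ Sum.inl) = Pi.single j 1 ∧
      ((E (Sum.inl j : Idx n) : Idx n → F) ∘ Sum.inr) = 0 := by
  constructor
  · funext i
    simp [E_apply, Pi.single_apply]
  · funext i
    simp [E_apply]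

theorem E_inr_comp (j : Fin (n + 1)) :
    ((E (Sum.inr j : Idx n) : Idx n → F) ∘ Sum.inl) = 0 ∧
      ((E (Sum.inr j : Idx n) : Idx n → F) ∘ Sum.inr) = Pi.single j 1 := by
  constructor
  · funext i
    simp [E_apply]
  · funext i
    simp [E_apply, Pi.single_apply]

theorem toOG_phiQ_inl (A : GL (Fin (n + 1)) F) (j : Fin (n + 1)) :
    toOG (Qp (n + 1) F) (phiQ A) (E (Sum.inl j)) =
      Sum.elim (fun i => (A : Matrix (Fin (n + 1)) (Fin (n + 1)) F) i j)
        (0 : Fin (n + 1) → F) := by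
  rw [toOG_phiQ, (E_inl_comp j).1, (E_inl_comp j).2, Matrix.mulVec_zero,
    Matrix.mulVec_single_one]
  rfl

theorem toOG_phiQ_inr (A : GL (Fin (n + 1)) F) (j : Fin (n + 1)) :
    toOG (Qp (n + 1) F) (phiQ A) (E (Sum.inr j)) =
      Sum.elim (0 : Fin (n + 1) → F) (fun i => ((A⁻¹ : GL (Fin (n + 1)) F) :
        Matrix (Fin (n + 1)) (Fin (n + 1)) F) j i) := by
  rw [toOG_phiQ, (E_inr_comp j).1, (E_inr_comp j).2, Matrix.mulVec_zero,
    Matrix.mulVec_single_one]
  rfl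

theorem toOG_phiQ_mono_inl (σ : Equiv.Perm (Fin (n + 1))) (d : Fin (n + 1) → F)
    (hd : ∀ j, d j ≠ 0) (j : Fin (n + 1)) :
    toOG (Qp (n + 1) F) (phiQ (monoGL σ d hd)) (E (Sum.inl j)) =
      d j • E (Sum.inl (σ j)) := by
  rw [toOG_phiQ_inl, monoGL_coe]
  funext c
  rcases c with i | i
  · simp only [Sum.elim_inl, monoM, Pi.smul_apply, E_apply, smul_eq_mul, Sum.inl.injEq]
    by_cases h : i = σ j
    · rw [if_pos h, if_pos h, mul_one]
    · rw [if_neg h, if_neg h, mul_zero]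
  · simp [E_apply]

theorem toOG_phiQ_mono_inr (σ : Equiv.Perm (Fin (n + 1))) (d : Fin (n + 1) → F)
    (hd : ∀ j, d j ≠ 0) (j : Fin (n + 1)) :
    toOG (Qp (n + 1) F) (phiQ (monoGL σ d hd)) (E (Sum.inr j)) =
      (d j)⁻¹ • E (Sum.inr (σ j)) := by
  rw [toOG_phiQ_inr, monoGL_inv_coe]
  funext c
  rcases c with i | i
  · simp [E_apply]
  · simp only [Sum.elim_inr, monoMInv, Pi.smul_apply, E_apply, smul_eq_mul, Sum.inr.injEq]
    by_cases h : i = σ j
    · rw [if_pos h, if_pos h, mul_one]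
    · rw [if_neg h, if_neg h, mul_zero]

end phi

end Cfsg.Agent.Lib.Helper6.OPlusGen
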