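import Cfsg.Agent.Lib.Helper6.OPlusGenB

set_option autoImplicit false

/-!
helper6: two generators for `Ω⁺_{2m}(q)`, part C.  The Coxeter type monomial element `aO`
of `Ω⁺_{2(n+1)}(q)`: a negative `n`-cycle on the first `n` hyperbolic pairs times the flip of
the last pair.
-/

namespace Cfsg.Agent.Lib.Helper6.OPlusGen

open Module QuadraticMap Matrix Cfsg.Agent.Lib.Helper25.CD Cfsg.Agent.Lib.Helper25.Spin
  Cfsg.Agent.Lib.Helper18.OrthAut Cfsg.Agent.Lib.Helper14

/-- The cycle on natural numbers. -/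
def cycF (n j : ℕ) : ℕ := if j + 1 < n then j + 1 else if j + 1 = n then 0 else n

/-- The inverse cycle on natural numbers. -/
def cycI (n i : ℕ) : ℕ := if i = n then n else if i = 0 then n - 1 else i - 1

theorem cycF_le (n j : ℕ) : cycF n j < n + 1 := by
  unfold cycF; split_ifs <;> omega

theorem cycI_le (n i : ℕ) (hi : i < n + 1) : cycI n i < n + 1 := by
  unfold cycI; split_ifs <;> omega

theorem cycI_cycF (n j : ℕ) (hn : 1 ≤ n) (hj : j < n + 1) : cycI n (cycF n j) = j := by
  unfold cycI cycF; split_ifs <;> first | omega | contradiction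

theorem cycF_cycI (n i : ℕ) (hn : 1 ≤ n) (hi : i < n + 1) : cycF n (cycI n i) = i := by
  unfold cycI cycF; split_ifs <;> omega

/-- The cycle `0 → 1 → ⋯ → n-1 → 0` fixing `n`. -/
def cyc (n : ℕ) (hn : 1 ≤ n) : Equiv.Perm (Fin (n + 1)) where
  toFun j := ⟨cycF n j.1, cycF_le n j.1⟩
  invFun i := ⟨cycI n i.1, cycI_le n i.1 i.2⟩
  left_inv j := Fin.ext (cycI_cycF n j.1 hn j.2)
  right_inv i := Fin.ext (cycF_cycI n i.1 hn i.2)

theorem cyc_val (n : ℕ) (hn : 1 ≤ n) (j : Fin (n + 1)) : (cyc n hn j).1 = cycF n j.1 := rfl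

section refl

variable {F : Type*} [Field F] [Fintype F] {n : ℕ}

/-- The flip of the hyperbolic pair `a`. -/
def flipAt (a : Fin (n + 1)) (c : Idx n) : Idx n :=
  if c = Sum.inl a then Sum.inr a else if c = Sum.inr a then Sum.inl a else c

/-- The vector `e_a - f_a`. -/
noncomputable def vv (a : Fin (n + 1)) : Idx n → F :=
  Pi.single (Sum.inl a) 1 - (1 : F) • Pi.single (Sum.inr a) 1

omit [Fintype F] in
theorem vv_eq (a : Fin (n + 1)) :
    (vv a : Idx n → F) = E (Sum.inl a) - (1 : F) • E (Sum.inr a) := rfl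

/-- The reflection in `e_a - f_a`. -/
noncomputable def sR (a : Fin (n + 1)) : ↥(Cfsg.isometryGroup F ⇑(Qp (n + 1) F)) :=
  reflM (Qp (n + 1) F) (vv a)

theorem toOG_sR (a : Fin (n + 1)) (c : Idx n) :
    toOG (Qp (n + 1) F) (sR a) (E c) = E (flipAt a c) := by
  unfold sR
  rw [toOG_reflM]
  unfold vv
  rw [reflE_hyp a one_ne_zero]
  funext c'
  rcases c with j | j <;> rcases c' with i | i
  · simp only [Sum.elim_inl, E_apply, flipAt, Sum.inl.injEq]
    by_cases hja : j = a
    · subst hja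
      by_cases hi : i = j
      · subst hi; simp
      · simp [hi]
    · by_cases hi : i = a
      · subst hi
        simp [hja, Ne.symm hja]
      · simp [hi, hja]
  · simp only [Sum.elim_inr, E_apply, flipAt, Sum.inl.injEq]
    by_cases hja : j = a
    · subst hja
      by_cases hi : i = j
      · subst hi; simp
      · simp [hi]
    · by_cases hi : i = a
      · subst hi
        simp [hja, Ne.symm hja]
      · simp [hi, hja]
  · simp only [Sum.elim_inl, E_apply, flipAt, Sum.inr.injEq]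
    by_cases hja : j = a
    · subst hja
      by_cases hi : i = j
      · subst hi; simp
      · simp [hi]
    · by_cases hi : i = a
      · subst hi
        simp [hja, Ne.symm hja]
      · simp [hi, hja]
  · simp only [Sum.elim_inr, E_apply, flipAt, Sum.inr.injEq]
    by_cases hja : j = a
    · subst hja
      by_cases hi : i = j
      · subst hi; simp
      · simp [hi]
    · by_cases hi : i = a
      · subst hi
        simp [hja, Ne.symm hja]
      · simp [hi, hja]

end refl

section cox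

open scoped commutatorElement

variable {F : Type*} [Field F] [Fintype F] {n : ℕ}

theorem flipAt_inl_ne {a i : Fin (n + 1)} (h : i ≠ a) :
    flipAt a (Sum.inl i : Idx n) = Sum.inl i := by
  unfold flipAt
  rw [if_neg (by simpa using h), if_neg (by simp)]

theorem flipAt_inr_ne {a i : Fin (n + 1)} (h : i ≠ a) :
    flipAt a (Sum.inr i : Idx n) = Sum.inr i := by
  unfold flipAt
  rw [if_neg (by simp), if_neg (by simpa using h)]

theorem flipAt_inl_self (a : Fin (n + 1)) : flipAt a (Sum.inl a : Idx n) = Sum.inr a := by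
  unfold flipAt
  rw [if_pos rfl]

theorem flipAt_inr_self (a : Fin (n + 1)) : flipAt a (Sum.inr a : Idx n) = Sum.inl a := by
  unfold flipAt
  rw [if_neg (by simp), if_pos rfl]

/-- The swap of the hyperbolic pairs `0` and `n`, in the Levi factor. -/
noncomputable def tauQ (n : ℕ) (F : Type*) [Field F] [Fintype F] :
    ↥(Cfsg.isometryGroup F ⇑(Qp (n + 1) F)) :=
  phiQ (monoGL (Equiv.swap 0 (Fin.last n)) (fun _ => (1 : F)) (fun _ => one_ne_zero))

theorem tauQ_vv (n : ℕ) :
    (((tauQ n F : ↥(Cfsg.isometryGroup F ⇑(Qp (n + 1) F))) :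
      GL (Fin (n + 1) ⊕ Fin (n + 1)) F) :
      Matrix (Fin (n + 1) ⊕ Fin (n + 1)) (Fin (n + 1) ⊕ Fin (n + 1)) F) *ᵥ
        (vv 0 : Idx n → F) = vv (Fin.last n) := by
  rw [← toOG_apply (Qp (n + 1) F), vv_eq, vv_eq, map_sub, map_smul]
  unfold tauQ
  rw [toOG_phiQ_mono_inl, toOG_phiQ_mono_inr, Equiv.swap_apply_left, inv_one, one_smul,
    one_smul]

/-- The flip of the hyperbolic pairs `0` and `n`. -/
noncomputable def wQ (n : ℕ) (F : Type*) [Field F] [Fintype F] :
    ↥(Cfsg.isometryGroup F ⇑(Qp (n + 1) F)) :=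
  sR 0 * sR (Fin.last n)

theorem wQ_eq_comm (n : ℕ) : wQ n F = ⁅(sR 0 : ↥(Cfsg.isometryGroup F ⇑(Qp (n + 1) F))), tauQ n F⁆ := by
  have hs : (sR 0 : ↥(Cfsg.isometryGroup F ⇑(Qp (n + 1) F)))⁻¹ = sR 0 :=
    inv_eq_of_mul_eq_one_left (reflM_mul_self _ _)
  have h1 : tauQ n F * (sR 0 : ↥(Cfsg.isometryGroup F ⇑(Qp (n + 1) F))) * (tauQ n F)⁻¹ =
      sR (Fin.last n) := by
    unfold sR
    rw [conj_reflM, tauQ_vv]
  rw [commutatorElement_def, hs, mul_assoc, mul_assoc, ← mul_assoc (tauQ n F), h1]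
  rfl

theorem wQ_mem (n : ℕ) : wQ n F ∈ Cfsg.Omega F ⇑(Qp (n + 1) F) := by
  rw [wQ_eq_comm]
  exact Subgroup.commutator_mem_commutator (Subgroup.mem_top _) (Subgroup.mem_top _)

theorem toOG_wQ (c : Idx n) :
    toOG (Qp (n + 1) F) (wQ n F) (E c) = E (flipAt 0 (flipAt (Fin.last n) c)) := by
  unfold wQ
  rw [map_mul, LinearEquiv.mul_apply, toOG_sR, toOG_sR]

/-- The scalars of the monomial element: the determinant of the cycle matrix at `n - 1`. -/
noncomputable def dA (n : ℕ) (hn : 1 ≤ n) (F : Type*) [Field F] : Fin (n + 1) → F :=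
  fun j => if j.1 + 1 = n then (monoM (cyc n hn) (fun _ => (1 : F))).det else 1

omit [Fintype F] in
theorem dA_ne (hn : 1 ≤ n) (j : Fin (n + 1)) : dA n hn F j ≠ 0 := by
  unfold dA
  split_ifs
  · exact det_monoM_one_ne_zero _
  · exact one_ne_zero

/-- The signed cycle in the Levi factor. -/
noncomputable def PA (n : ℕ) (hn : 1 ≤ n) (F : Type*) [Field F] : GL (Fin (n + 1)) F :=
  monoGL (cyc n hn) (dA n hn F) (dA_ne hn)

omit [Fintype F] in
theorem det_PA (hn : 1 ≤ n) :
    IsSquare ((PA n hn F : GL (Fin (n + 1)) F) : Matrix (Fin (n + 1)) (Fin (n + 1)) F).det := by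
  unfold PA
  rw [monoGL_coe, monoM_eq_mul_diagonal, Matrix.det_mul, Matrix.det_diagonal,
    Finset.prod_eq_single (⟨n - 1, by omega⟩ : Fin (n + 1))]
  · refine ⟨(monoM (cyc n hn) (fun _ => (1 : F))).det, ?_⟩
    congr 1
    unfold dA
    rw [if_pos (by simp; omega)]
  · intro j _ hj
    unfold dA
    rw [if_neg]
    intro h
    apply hj
    apply Fin.ext
    simp
    omega
  · intro h; exact absurd (Finset.mem_univ _) h

/-- The Coxeter type element of the isometry group. -/
noncomputable def aQ (n : ℕ) (hn : 1 ≤ n) (F : Type*) [Field F] [Fintype F] :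
    ↥(Cfsg.isometryGroup F ⇑(Qp (n + 1) F)) :=
  wQ n F * phiQ (PA n hn F)

/-- The Coxeter type element of `Ω`. -/
noncomputable def aO (hn3 : 3 ≤ n) (F : Type*) [Field F] [Fintype F] :
    ↥(Cfsg.Omega F ⇑(Qp (n + 1) F)) :=
  ⟨aQ n (by omega) F, mul_mem (wQ_mem n) (phiQ_mem _ (det_PA _) hn3)⟩

/-- The permutation of the basis induced by `aO`. -/
def piA (n : ℕ) (hn : 1 ≤ n) (c : Idx n) : Idx n :=
  match c with
  | Sum.inl j => flipAt 0 (flipAt (Fin.last n) (Sum.inl (cyc n hn j)))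
  | Sum.inr j => flipAt 0 (flipAt (Fin.last n) (Sum.inr (cyc n hn j)))

/-- The scalars of `aO`. -/
noncomputable def epsA (n : ℕ) (hn : 1 ≤ n) (F : Type*) [Field F] (c : Idx n) : F :=
  match c with
  | Sum.inl j => dA n hn F j
  | Sum.inr j => (dA n hn F j)⁻¹

omit [Fintype F] in
theorem epsA_ne (hn : 1 ≤ n) (c : Idx n) : epsA n hn F c ≠ 0 := by
  rcases c with j | j
  · exact dA_ne hn j
  · exact inv_ne_zero (dA_ne hn j)

theorem toOG_aO (hn3 : 3 ≤ n) (c : Idx n) :
    toOG (Qp (n + 1) F) (aO hn3 F).1 (E c) =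
      epsA n (by omega) F c • E (piA n (by omega) c) := by
  show toOG (Qp (n + 1) F) (wQ n F * phiQ (PA n _ F)) (E c) = _
  rw [map_mul, LinearEquiv.mul_apply]
  rcases c with j | j
  · unfold PA
    rw [toOG_phiQ_mono_inl, map_smul, toOG_wQ]
    rfl
  · unfold PA
    rw [toOG_phiQ_mono_inr, map_smul, toOG_wQ]
    rfl

end cox

section orbit

variable {n : ℕ}

theorem cyc_lt (hn : 1 ≤ n) (j : ℕ) (h : j + 1 < n) :
    cyc n hn ⟨j, by omega⟩ = ⟨j + 1, by omega⟩ := by
  apply Fin.ext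
  rw [cyc_val]
  unfold cycF
  rw [if_pos h]

theorem cyc_pred (hn : 1 ≤ n) : cyc n hn ⟨n - 1, by omega⟩ = 0 := by
  apply Fin.ext
  rw [cyc_val]
  unfold cycF
  have h1 : ¬ (n - 1 + 1 < n) := by omega
  have h2 : n - 1 + 1 = n := by omega
  simp only
  rw [if_neg h1, if_pos h2]
  rfl

theorem cyc_last (hn : 1 ≤ n) : cyc n hn (Fin.last n) = Fin.last n := by
  apply Fin.ext
  rw [cyc_val]
  unfold cycF
  rw [if_neg (by simp), if_neg (by simp)]
  rfl

theorem piA_inl_lt (hn : 1 ≤ n) (j : ℕ) (h : j + 1 < n) :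
    piA n hn (Sum.inl ⟨j, by omega⟩) = Sum.inl ⟨j + 1, by omega⟩ := by
  unfold piA
  simp only
  rw [cyc_lt hn j h, flipAt_inl_ne, flipAt_inl_ne]
  · intro h0
    have := congrArg Fin.val h0
    simp at this
  · intro h0
    have := congrArg Fin.val h0
    simp at this
    omega

theorem piA_inr_lt (hn : 1 ≤ n) (j : ℕ) (h : j + 1 < n) :
    piA n hn (Sum.inr ⟨j, by omega⟩) = Sum.inr ⟨j + 1, by omega⟩ := by
  unfold piA
  simp only
  rw [cyc_lt hn j h, flipAt_inr_ne, flipAt_inr_ne]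
  · intro h0
    have := congrArg Fin.val h0
    simp at this
  · intro h0
    have := congrArg Fin.val h0
    simp at this
    omega

theorem zero_ne_last (hn : 1 ≤ n) : (0 : Fin (n + 1)) ≠ Fin.last n := by
  intro h0
  have := congrArg Fin.val h0
  simp at this
  omega

theorem piA_inl_pred (hn : 1 ≤ n) :
    piA n hn (Sum.inl ⟨n - 1, by omega⟩) = Sum.inr 0 := by
  unfold piA
  simp only
  rw [cyc_pred hn, flipAt_inl_ne (zero_ne_last hn), flipAt_inl_self]

theorem piA_inr_pred (hn : 1 ≤ n) :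
    piA n hn (Sum.inr ⟨n - 1, by omega⟩) = Sum.inl 0 := by
  unfold piA
  simp only
  rw [cyc_pred hn, flipAt_inr_ne (zero_ne_last hn), flipAt_inr_self]

theorem piA_inl_last (hn : 1 ≤ n) :
    piA n hn (Sum.inl (Fin.last n)) = Sum.inr (Fin.last n) := by
  unfold piA
  simp only
  rw [cyc_last hn, flipAt_inl_self, flipAt_inr_ne (zero_ne_last hn).symm]

theorem piA_inr_last (hn : 1 ≤ n) :
    piA n hn (Sum.inr (Fin.last n)) = Sum.inl (Fin.last n) := by
  unfold piA
  simp only
  rw [cyc_last hn, flipAt_inr_self, flipAt_inl_ne (zero_ne_last hn).symm]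

theorem iter_inl (hn : 1 ≤ n) (j : ℕ) (hj : j < n) :
    (piA n hn)^[j] (Sum.inl 0) = Sum.inl ⟨j, by omega⟩ := by
  induction j with
  | zero => rfl
  | succ j ih =>
    rw [Function.iterate_succ_apply', ih (by omega), piA_inl_lt hn j hj]

theorem iter_inr (hn : 1 ≤ n) (j : ℕ) (hj : j < n) :
    (piA n hn)^[n + j] (Sum.inl 0) = Sum.inr ⟨j, by omega⟩ := by
  induction j with
  | zero =>
    obtain ⟨k, rfl⟩ : ∃ k, n = k + 1 := ⟨n - 1, by omega⟩
    rw [add_zero, Function.iterate_succ_apply', iter_inl hn k (by omega)]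
    exact piA_inl_pred hn
  | succ j ih =>
    rw [← add_assoc, Function.iterate_succ_apply', ih (by omega), piA_inr_lt hn j hj]

theorem exists_iter (hn : 1 ≤ n) (c : Idx n) (hc1 : c ≠ Sum.inl (Fin.last n))
    (hc2 : c ≠ Sum.inr (Fin.last n)) : ∃ k, (piA n hn)^[k] (Sum.inl 0) = c := by
  rcases c with j | j
  · have hj : j.1 < n := by
      have h1 := j.2
      have h2 : j.1 ≠ n := by
        intro h
        apply hc1
        congr 1
        exact Fin.ext h
      omega
    exact ⟨j.1, iter_inl hn j.1 hj⟩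
  · have hj : j.1 < n := by
      have h1 := j.2
      have h2 : j.1 ≠ n := by
        intro h
        apply hc2
        congr 1
        exact Fin.ext h
      omega
    exact ⟨n + j.1, iter_inr hn j.1 hj⟩

end orbit

end Cfsg.Agent.Lib.Helper6.OPlusGen
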