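import Cfsg.Agent.Lib.Helper6.OPlusGenC

set_option autoImplicit false

/-!
helper6: two generators for `Ω⁺_{2m}(q)`, part D.  The block embedding of `GL_2` at the
first two indices of the Levi factor `GL_{n+1}`, and the resulting elements `gO G` of `Ω`.
-/

namespace Cfsg.Agent.Lib.Helper6.OPlusGen

open Module QuadraticMap Matrix Cfsg.Agent.Lib.Helper25.CD Cfsg.Agent.Lib.Helper25.Spin
  Cfsg.Agent.Lib.Helper18.OrthAut Cfsg.Agent.Lib.Helper14

section blk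

variable {F : Type*} [Field F] {n : ℕ}

/-- The first two indices versus the rest: forward map. -/
def blkTo (n : ℕ) (hn : 1 ≤ n) : Fin 2 ⊕ {j : Fin (n + 1) // 2 ≤ j.1} → Fin (n + 1) :=
  Sum.elim (fun a => ⟨a.1, by have := a.2; omega⟩) (fun j => j.1)

/-- The first two indices versus the rest: backward map. -/
def blkInv (n : ℕ) (i : Fin (n + 1)) : Fin 2 ⊕ {j : Fin (n + 1) // 2 ≤ j.1} :=
  if h : i.1 < 2 then Sum.inl ⟨i.1, h⟩ else Sum.inr ⟨i, by omega⟩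

theorem blkInv_lt (n : ℕ) (i : Fin (n + 1)) (h : i.1 < 2) : blkInv n i = Sum.inl ⟨i.1, h⟩ := by
  unfold blkInv
  rw [dif_pos h]

theorem blkInv_ge (n : ℕ) (i : Fin (n + 1)) (h : 2 ≤ i.1) : blkInv n i = Sum.inr ⟨i, h⟩ := by
  unfold blkInv
  rw [dif_neg (by omega)]

/-- The first two indices versus the rest. -/
def blkEquiv (n : ℕ) (hn : 1 ≤ n) : Fin 2 ⊕ {j : Fin (n + 1) // 2 ≤ j.1} ≃ Fin (n + 1) where
  toFun := blkTo n hn
  invFun := blkInv n
  left_inv := by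
    rintro (a | j)
    · exact blkInv_lt n _ a.2
    · exact blkInv_ge n _ j.2
  right_inv := by
    intro i
    by_cases h : i.1 < 2
    · rw [blkInv_lt n i h]
      rfl
    · rw [blkInv_ge n i (by omega)]
      rfl

theorem blkEquiv_symm_lt (hn : 1 ≤ n) (i : Fin (n + 1)) (h : i.1 < 2) :
    (blkEquiv n hn).symm i = Sum.inl ⟨i.1, h⟩ := blkInv_lt n i h

theorem blkEquiv_symm_ge (hn : 1 ≤ n) (i : Fin (n + 1)) (h : 2 ≤ i.1) :
    (blkEquiv n hn).symm i = Sum.inr ⟨i, h⟩ := blkInv_ge n i h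

/-- The block embedding of `2 × 2` matrices, as a monoid homomorphism. -/
def blkHom (n : ℕ) (hn : 1 ≤ n) (F : Type*) [Field F] :
    Matrix (Fin 2) (Fin 2) F →* Matrix (Fin (n + 1)) (Fin (n + 1)) F where
  toFun G := (Matrix.fromBlocks G 0 0 (1 : Matrix {j : Fin (n + 1) // 2 ≤ j.1}
    {j : Fin (n + 1) // 2 ≤ j.1} F)).submatrix (blkEquiv n hn).symm (blkEquiv n hn).symm
  map_one' := by
    rw [Matrix.fromBlocks_one, Matrix.submatrix_one_equiv]
  map_mul' G H := by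
    rw [Matrix.submatrix_mul_equiv, Matrix.fromBlocks_multiply]
    simp

theorem blkHom_apply (hn : 1 ≤ n) (G : Matrix (Fin 2) (Fin 2) F) (i j : Fin (n + 1)) :
    blkHom n hn F G i j =
      Matrix.fromBlocks G 0 0 (1 : Matrix {j : Fin (n + 1) // 2 ≤ j.1}
        {j : Fin (n + 1) // 2 ≤ j.1} F) ((blkEquiv n hn).symm i) ((blkEquiv n hn).symm j) :=
  rfl

theorem det_blkHom (hn : 1 ≤ n) (G : Matrix (Fin 2) (Fin 2) F) :
    (blkHom n hn F G).det = G.det := by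
  show ((Matrix.fromBlocks G 0 0 (1 : Matrix {j : Fin (n + 1) // 2 ≤ j.1}
    {j : Fin (n + 1) // 2 ≤ j.1} F)).submatrix (blkEquiv n hn).symm (blkEquiv n hn).symm).det = _
  rw [Matrix.det_submatrix_equiv_self, Matrix.det_fromBlocks_zero₂₁, Matrix.det_one, mul_one]

/-- The block embedding of `GL_2`. -/
def gG (n : ℕ) (hn : 1 ≤ n) (G : GL (Fin 2) F) : GL (Fin (n + 1)) F :=
  Units.map (blkHom n hn F) G

theorem gG_coe (hn : 1 ≤ n) (G : GL (Fin 2) F) :
    ((gG n hn G : GL (Fin (n + 1)) F) : Matrix (Fin (n + 1)) (Fin (n + 1)) F) =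
      blkHom n hn F (G : Matrix (Fin 2) (Fin 2) F) := rfl

theorem gG_inv_coe (hn : 1 ≤ n) (G : GL (Fin 2) F) :
    (((gG n hn G)⁻¹ : GL (Fin (n + 1)) F) : Matrix (Fin (n + 1)) (Fin (n + 1)) F) =
      blkHom n hn F ((G⁻¹ : GL (Fin 2) F) : Matrix (Fin 2) (Fin 2) F) := rfl

/-- columns outside the block -/
theorem blkHom_col_ge (hn : 1 ≤ n) (G : Matrix (Fin 2) (Fin 2) F) (i j : Fin (n + 1))
    (hj : 2 ≤ j.1) : blkHom n hn F G i j = if i = j then 1 else 0 := by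
  rw [blkHom_apply, blkEquiv_symm_ge hn j hj]
  by_cases hi : i.1 < 2
  · rw [blkEquiv_symm_lt hn i hi, Matrix.fromBlocks_apply₁₂, if_neg]
    · rfl
    · intro h
      rw [h] at hi
      omega
  · rw [blkEquiv_symm_ge hn i (by omega), Matrix.fromBlocks_apply₂₂, Matrix.one_apply]
    simp only [Subtype.mk.injEq]

/-- rows outside the block -/
theorem blkHom_row_ge (hn : 1 ≤ n) (G : Matrix (Fin 2) (Fin 2) F) (i j : Fin (n + 1))
    (hi : 2 ≤ i.1) : blkHom n hn F G i j = if j = i then 1 else 0 := by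
  rw [blkHom_apply, blkEquiv_symm_ge hn i hi]
  by_cases hj : j.1 < 2
  · rw [blkEquiv_symm_lt hn j hj, Matrix.fromBlocks_apply₂₁, if_neg]
    · rfl
    · intro h
      rw [h] at hj
      omega
  · rw [blkEquiv_symm_ge hn j (by omega), Matrix.fromBlocks_apply₂₂, Matrix.one_apply]
    simp only [Subtype.mk.injEq]
    by_cases h : i = j
    · rw [if_pos h, if_pos h.symm]
    · rw [if_neg h, if_neg (fun h' => h h'.symm)]

/-- columns in the block -/
theorem blkHom_col_lt (hn : 1 ≤ n) (G : Matrix (Fin 2) (Fin 2) F) (i : Fin (n + 1))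
    (b : Fin 2) :
    blkHom n hn F G i ⟨b.1, by have := b.2; omega⟩ =
      if h : i.1 < 2 then G ⟨i.1, h⟩ b else 0 := by
  rw [blkHom_apply, blkEquiv_symm_lt hn ⟨b.1, _⟩ b.2]
  by_cases hi : i.1 < 2
  · rw [blkEquiv_symm_lt hn i hi, Matrix.fromBlocks_apply₁₁, dif_pos hi]
  · rw [blkEquiv_symm_ge hn i (by omega), Matrix.fromBlocks_apply₂₁, dif_neg hi]
    rfl

end blk

section gO

variable {F : Type*} [Field F] [Fintype F] {n : ℕ}

theorem toOG_g_inl_ge (hn : 1 ≤ n) (G : GL (Fin 2) F) (j : Fin (n + 1)) (hj : 2 ≤ j.1) :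
    toOG (Qp (n + 1) F) (phiQ (gG n hn G)) (E (Sum.inl j)) = E (Sum.inl j) := by
  rw [toOG_phiQ_inl, gG_coe]
  funext c
  rcases c with i | i
  · simp only [Sum.elim_inl, blkHom_col_ge hn _ i j hj, E_apply, Sum.inl.injEq]
  · simp [E_apply]

theorem toOG_g_inr_ge (hn : 1 ≤ n) (G : GL (Fin 2) F) (j : Fin (n + 1)) (hj : 2 ≤ j.1) :
    toOG (Qp (n + 1) F) (phiQ (gG n hn G)) (E (Sum.inr j)) = E (Sum.inr j) := by
  rw [toOG_phiQ_inr, gG_inv_coe]
  funext c
  rcases c with i | i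
  · simp [E_apply]
  · simp only [Sum.elim_inr, blkHom_row_ge hn _ j i hj, E_apply, Sum.inr.injEq]

theorem toOG_g_inl_lt (hn : 1 ≤ n) (G : GL (Fin 2) F) (b : Fin 2) :
    toOG (Qp (n + 1) F) (phiQ (gG n hn G)) (E (Sum.inl ⟨b.1, by have := b.2; omega⟩)) =
      (G : Matrix (Fin 2) (Fin 2) F) 0 b • E (Sum.inl ⟨0, by omega⟩) +
        (G : Matrix (Fin 2) (Fin 2) F) 1 b • E (Sum.inl ⟨1, by omega⟩) := by
  rw [toOG_phiQ_inl, gG_coe]
  funext c
  rcases c with i | i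
  · simp only [Sum.elim_inl, blkHom_col_lt hn _ i b, Pi.add_apply, Pi.smul_apply, E_apply,
      Sum.inl.injEq, smul_eq_mul, mul_ite, mul_one, mul_zero]
    obtain ⟨iv, hi⟩ := i
    by_cases h0 : iv = 0
    · subst h0
      simp
    · by_cases h1 : iv = 1
      · subst h1
        simp
      · have h2 : ¬ iv < 2 := by omega
        simp [h0, h1, h2]
  · simp [E_apply]

/-- The element of `Ω` acting as `G` on `⟨e_0, e_1⟩`. -/
noncomputable def gO (hn3 : 3 ≤ n) (G : GL (Fin 2) F)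
    (hG : (G : Matrix (Fin 2) (Fin 2) F).det = 1) : ↥(Cfsg.Omega F ⇑(Qp (n + 1) F)) :=
  ⟨phiQ (gG n (by omega) G), phiQ_mem _ (by
    rw [gG_coe, det_blkHom, hG]
    exact ⟨1, (mul_one 1).symm⟩) hn3⟩

theorem gO_val (hn3 : 3 ≤ n) (G : GL (Fin 2) F)
    (hG : (G : Matrix (Fin 2) (Fin 2) F).det = 1) :
    (gO hn3 G hG).1 = phiQ (gG n (by omega) G) := rfl

theorem gO_pow (hn3 : 3 ≤ n) (G : GL (Fin 2) F)
    (hG : (G : Matrix (Fin 2) (Fin 2) F).det = 1) (N : ℕ) (hN : G ^ N = 1) :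
    (gO hn3 G hG) ^ N = 1 := by
  apply Subtype.ext
  rw [Subgroup.coe_pow, gO_val]
  show (phiQHom (Units.map (blkHom n _ F) G)) ^ N = 1
  rw [← map_pow, ← map_pow, hN, map_one, map_one]

end gO

end Cfsg.Agent.Lib.Helper6.OPlusGen
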