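import Cfsg.Agent.Lib.Helper6.OPlusGenD

set_option autoImplicit false

/-!
helper6: two generators for `Ω⁺_{2m}(q)`, part E.  The generation theorem: the Coxeter type
element `aO` and `bO = X(e_n, f_{n-1})(1) * gO G` generate `Ω⁺_{2(n+1)}(q)`, for a suitable
`G ∈ SL_2(q)` of order prime to the characteristic.
-/

namespace Cfsg.Agent.Lib.Helper6.OPlusGen

open Module QuadraticMap Matrix Cfsg.Agent.Lib.Helper25.CD Cfsg.Agent.Lib.Helper25.Spin
  Cfsg.Agent.Lib.Helper18.OrthAut Cfsg.Agent.Lib.Helper14 Cfsg.Agent.Lib.Helper25.PS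

variable {F : Type*} [Field F] [Fintype F] {n : ℕ}

/-- Conjugation transports membership of root groups (no side conditions). -/
theorem inM_conj' (hn3 : 3 ≤ n) {M : Subgroup ↥(Cfsg.Omega F ⇑(Qp (n + 1) F))}
    {k : ↥(Cfsg.Omega F ⇑(Qp (n + 1) F))} (hk : k ∈ M) {c d c' d' : Idx n}
    {ε δ : F} (hε : ε ≠ 0) (hδ : δ ≠ 0)
    (hc : toOG (Qp (n + 1) F) k.1 (E c) = ε • E c')
    (hd : toOG (Qp (n + 1) F) k.1 (E d) = δ • E d') (hin : inM hn3 M c d) :
    inM hn3 M c' d' := by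
  by_cases h' : d' ≠ op c'
  · by_cases h : d ≠ op c
    · exact inM_conj hn3 hk h h' hε hδ hc hd hin
    · exfalso
      rw [not_not] at h
      have h1 := polar_toOG (Qp (n + 1) F) k.1 (E c) (E d)
      rw [hc, hd, polar_smul_left, polar_smul_right, polar_E, polar_E, E_apply, E_apply,
        if_neg (fun h2 => h' h2.symm), h, if_pos rfl] at h1
      simp at h1
  · intro t
    rw [X, dif_neg h']
    exact M.one_mem

/-- The second generator. -/
noncomputable def bO (hn3 : 3 ≤ n) (G : GL (Fin 2) F)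
    (hG : (G : Matrix (Fin 2) (Fin 2) F).det = 1) : ↥(Cfsg.Omega F ⇑(Qp (n + 1) F)) :=
  X hn3 (Sum.inl (Fin.last n)) (Sum.inr ⟨n - 1, by omega⟩) 1 * gO hn3 G hG

theorem closure_eq_top (hn3 : 3 ≤ n) (G : GL (Fin 2) F)
    (hG : (G : Matrix (Fin 2) (Fin 2) F).det = 1) (N : ℕ) (hN : G ^ N = 1)
    (hNF : (N : F) = -1) (h01 : (G : Matrix (Fin 2) (Fin 2) F) 0 1 ≠ 0)
    (hsc : ∀ (A : AddSubgroup F) (ε : F), ε ≠ 0 → ε ∈ A →
      ((G : Matrix (Fin 2) (Fin 2) F) 1 0 = 0 →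
        ∀ t ∈ A, (G : Matrix (Fin 2) (Fin 2) F) 0 0 * t ∈ A) → A = ⊤) :
    Subgroup.closure ({aO hn3 F, bO hn3 G hG} : Set ↥(Cfsg.Omega F ⇑(Qp (n + 1) F))) = ⊤ := by
  have hn1 : 1 ≤ n := by omega
  obtain ⟨M, hM⟩ : ∃ M, M = Subgroup.closure
    ({aO hn3 F, bO hn3 G hG} : Set ↥(Cfsg.Omega F ⇑(Qp (n + 1) F))) := ⟨_, rfl⟩
  rw [← hM]
  have ha : aO hn3 F ∈ M := by
    rw [hM]
    exact Subgroup.subset_closure (by simp)
  have hb : bO hn3 G hG ∈ M := by
    rw [hM]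
    exact Subgroup.subset_closure (by simp)
  -- notation
  obtain ⟨zl, hzl⟩ : ∃ zl : Idx n, zl = Sum.inl (Fin.last n) := ⟨_, rfl⟩
  obtain ⟨zr, hzr⟩ : ∃ zr : Idx n, zr = Sum.inr (Fin.last n) := ⟨_, rfl⟩
  obtain ⟨pr, hpr⟩ : ∃ pr : Idx n, pr = Sum.inr ⟨n - 1, by omega⟩ := ⟨_, rfl⟩
  obtain ⟨e0, he0⟩ : ∃ e0 : Idx n, e0 = Sum.inl ⟨0, by omega⟩ := ⟨_, rfl⟩
  obtain ⟨e1, he1⟩ : ∃ e1 : Idx n, e1 = Sum.inl ⟨1, by omega⟩ := ⟨_, rfl⟩
  obtain ⟨g, hgdef⟩ : ∃ g, g = gO hn3 G hG := ⟨_, rfl⟩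
  obtain ⟨u0, hu0def⟩ : ∃ u0, u0 = X hn3 zl pr (1 : F) := ⟨_, rfl⟩
  have hbdef : bO hn3 G hG = u0 * g := by
    rw [hu0def, hgdef, hzl, hpr]
    rfl
  -- the action of `g`
  have hg_zl : toOG (Qp (n + 1) F) g.1 (E zl) = E zl := by
    rw [hgdef, gO_val, hzl]
    exact toOG_g_inl_ge _ G _ (by simp; omega)
  have hg_zr : toOG (Qp (n + 1) F) g.1 (E zr) = E zr := by
    rw [hgdef, gO_val, hzr]
    exact toOG_g_inr_ge _ G _ (by simp; omega)
  have hg_pr : toOG (Qp (n + 1) F) g.1 (E pr) = E pr := by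
    rw [hgdef, gO_val, hpr]
    exact toOG_g_inr_ge _ G _ (by simp; omega)
  have hg_e0 : toOG (Qp (n + 1) F) g.1 (E e0) =
      (G : Matrix (Fin 2) (Fin 2) F) 0 0 • E e0 + (G : Matrix (Fin 2) (Fin 2) F) 1 0 • E e1 := by
    rw [hgdef, gO_val, he0, he1]
    exact toOG_g_inl_lt _ G 0
  have hg_e1 : toOG (Qp (n + 1) F) g.1 (E e1) =
      (G : Matrix (Fin 2) (Fin 2) F) 0 1 • E e0 + (G : Matrix (Fin 2) (Fin 2) F) 1 1 • E e1 := by
    rw [hgdef, gO_val, he0, he1]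
    exact toOG_g_inl_lt _ G 1
  -- the action of `a`
  have ha_zl : toOG (Qp (n + 1) F) (aO hn3 F).1 (E zl) = epsA n hn1 F zl • E zr := by
    rw [toOG_aO, hzl, piA_inl_last, hzr]
  have ha_zr : toOG (Qp (n + 1) F) (aO hn3 F).1 (E zr) = epsA n hn1 F zr • E zl := by
    rw [toOG_aO, hzr, piA_inr_last, hzl]
  have ha_pr : toOG (Qp (n + 1) F) (aO hn3 F).1 (E pr) = epsA n hn1 F pr • E e0 := by
    rw [toOG_aO, hpr, piA_inr_pred, he0]
    rfl
  have ha_e0 : toOG (Qp (n + 1) F) (aO hn3 F).1 (E e0) = epsA n hn1 F e0 • E e1 := by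
    rw [toOG_aO, he0, piA_inl_lt hn1 0 (by omega), he1]
  -- side conditions
  have hpr_zl : pr ≠ op zl := by
    rw [hpr, hzl, op_inl]
    intro h
    have h1 := congrArg Fin.val (Sum.inr.inj h)
    simp only [Fin.val_last] at h1
    omega
  have he0_zr : e0 ≠ op zr := by rw [he0, hzr]; simp; omega
  have he0_zl : e0 ≠ op zl := by rw [he0, hzl]; simp
  have he1_zl : e1 ≠ op zl := by rw [he1, hzl]; simp
  -- `g` commutes with `u0`
  have hconj : g * u0 * g⁻¹ = u0 := by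
    rw [hu0def]
    have h1 := conj_X hn3 g hpr_zl hpr_zl (ε := 1) (δ := 1) (by rw [hg_zl, one_smul])
      (by rw [hg_pr, one_smul]) 1
    rw [h1]
    congr 1
    ring
  have hcomm : Commute u0 g := by
    have h1 : g * u0 = u0 * g := by
      calc g * u0 = g * u0 * g⁻¹ * g := by group
        _ = u0 * g := by rw [hconj]
    exact h1.symm
  have hpow : (bO hn3 G hG) ^ N = u0⁻¹ := by
    rw [hbdef, hcomm.mul_pow, hgdef, gO_pow hn3 G hG N hN, mul_one, hu0def, X_pow, hNF, X_neg]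
    congr 1
    ring
  have hu0 : u0 ∈ M := by
    have h1 := M.pow_mem hb N
    rw [hpow] at h1
    exact M.inv_mem_iff.1 h1
  have hg : g ∈ M := by
    have h1 : g = u0⁻¹ * bO hn3 G hG := by
      rw [hbdef]
      group
    rw [h1]
    exact M.mul_mem (M.inv_mem hu0) hb
  -- the additive group of parameters of `X zr e0`
  have hA := hsc
    { carrier := {t | X hn3 zr e0 t ∈ M}
      zero_mem' := by
        show X hn3 zr e0 0 ∈ M
        rw [X_zero]
        exact M.one_mem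
      add_mem' := by
        intro s t hs ht
        show X hn3 zr e0 (s + t) ∈ M
        rw [← X_add]
        exact M.mul_mem hs ht
      neg_mem' := by
        intro t ht
        show X hn3 zr e0 (-t) ∈ M
        rw [← X_neg]
        exact M.inv_mem ht }
    (epsA n hn1 F zl * epsA n hn1 F pr * 1)
    (by
      rw [mul_one]
      exact mul_ne_zero (epsA_ne hn1 _) (epsA_ne hn1 _))
    (by
      show X hn3 zr e0 _ ∈ M
      rw [← conj_X hn3 (aO hn3 F) hpr_zl he0_zr ha_zl ha_pr 1, ← hu0def]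
      exact M.mul_mem (M.mul_mem ha hu0) (M.inv_mem ha))
    (by
      intro h10 t ht
      show X hn3 zr e0 _ ∈ M
      have h1 := conj_X hn3 g he0_zr he0_zr (ε := 1)
        (δ := (G : Matrix (Fin 2) (Fin 2) F) 0 0) (by rw [hg_zr, one_smul])
        (by rw [hg_e0, h10, zero_smul, add_zero]) t
      rw [one_mul] at h1
      rw [← h1]
      exact M.mul_mem (M.mul_mem hg ht) (M.inv_mem hg))
  have seed2 : inM hn3 M zr e0 := by
    intro t
    have h1 : t ∈ (⊤ : AddSubgroup F) := AddSubgroup.mem_top t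
    rw [← hA] at h1
    exact h1
  have seed1' : inM hn3 M zl e1 :=
    inM_conj' hn3 ha (epsA_ne hn1 _) (epsA_ne hn1 _) ha_zr ha_e0 seed2
  have seed1 : inM hn3 M zl e0 := by
    intro t
    have h1 := conj_X_two hn3 g he1_zl he0_zl hg_zl hg_e1
      (t / (G : Matrix (Fin 2) (Fin 2) F) 0 1)
    have e : (G : Matrix (Fin 2) (Fin 2) F) 0 1 * (t / (G : Matrix (Fin 2) (Fin 2) F) 0 1) = t := by
      field_simp
    rw [e] at h1
    have h2 : X hn3 zl e0 t = g * X hn3 zl e1 (t / (G : Matrix (Fin 2) (Fin 2) F) 0 1) * g⁻¹ *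
        (X hn3 zl e1 ((G : Matrix (Fin 2) (Fin 2) F) 1 1 *
          (t / (G : Matrix (Fin 2) (Fin 2) F) 0 1)))⁻¹ := by
      rw [h1]
      group
    rw [h2]
    exact M.mul_mem (M.mul_mem (M.mul_mem hg (seed1' _)) (M.inv_mem hg)) (M.inv_mem (seed1' _))
  -- the orbit of the two seeds
  have orbit : ∀ k : ℕ, inM hn3 M zl ((piA n hn1)^[k] e0) ∧ inM hn3 M zr ((piA n hn1)^[k] e0) := by
    intro k
    induction k with
    | zero => exact ⟨seed1, seed2⟩
    | succ k ih =>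
      rw [Function.iterate_succ_apply']
      exact ⟨inM_conj' hn3 ha (epsA_ne hn1 _) (epsA_ne hn1 _) ha_zr (toOG_aO hn3 _) ih.2,
        inM_conj' hn3 ha (epsA_ne hn1 _) (epsA_ne hn1 _) ha_zl (toOG_aO hn3 _) ih.1⟩
  apply eq_top_of_inM hn3 M
  · intro c hc1 hc2
    obtain ⟨k, hk⟩ := exists_iter hn1 c hc1 hc2
    have h1 := (orbit k).1
    rw [he0] at h1
    rw [← hk, ← hzl]
    exact h1
  · intro c hc1 hc2
    obtain ⟨k, hk⟩ := exists_iter hn1 c hc1 hc2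
    have h1 := (orbit k).2
    rw [he0] at h1
    rw [← hk, ← hzr]
    exact h1

end Cfsg.Agent.Lib.Helper6.OPlusGen
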