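import Cfsg.Agent.Lib.Helper6.OPlusGenE

set_option autoImplicit false

/-!
helper6: two generators for `Ω⁺_{2m}(q)`, part F.  The three choices of the `SL_2` element
(`q ≥ 4`, `q = 3`, `q = 2`) and the final statement for `Ω`.
-/

namespace Cfsg.Agent.Lib.Helper6.OPlusGen

open Module QuadraticMap Matrix Cfsg.Agent.Lib.Helper25.CD Cfsg.Agent.Lib.Helper25.Spin
  Cfsg.Agent.Lib.Helper18.OrthAut Cfsg.Agent.Lib.Helper14

section gl2

variable {F : Type*} [Field F]

theorem mat2_ext {a b c d a' b' c' d' : F} (ha : a = a') (hb : b = b') (hc : c = c')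
    (hd : d = d') : !![a, b; c, d] = !![a', b'; c', d'] := by
  subst ha hb hc hd
  rfl

/-- A `2 × 2` matrix of determinant one as an element of `GL_2`. -/
def gl2 (a b c d : F) (h : a * d - b * c = 1) : GL (Fin 2) F :=
  ⟨!![a, b; c, d], !![d, -b; -c, a], by
    rw [Matrix.mul_fin_two, Matrix.one_fin_two]
    apply mat2_ext
    · linear_combination h
    · ring
    · ring
    · linear_combination h, by
    rw [Matrix.mul_fin_two, Matrix.one_fin_two]
    apply mat2_ext
    · linear_combination h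
    · ring
    · ring
    · linear_combination h⟩

theorem gl2_coe (a b c d : F) (h : a * d - b * c = 1) :
    ((gl2 a b c d h : GL (Fin 2) F) : Matrix (Fin 2) (Fin 2) F) = !![a, b; c, d] := rfl

theorem gl2_det (a b c d : F) (h : a * d - b * c = 1) :
    ((gl2 a b c d h : GL (Fin 2) F) : Matrix (Fin 2) (Fin 2) F).det = 1 := by
  rw [gl2_coe, Matrix.det_fin_two_of, h]

end gl2

section scal

variable {F : Type*} [Field F] [Fintype F]

omit [Fintype F] in
theorem scal_gen (A : AddSubgroup F) (ε : F) (hε : ε ≠ 0) (hεA : ε ∈ A) (lam : Fˣ)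
    (hgen : ∀ x : Fˣ, x ∈ Submonoid.powers lam) (hcl : ∀ t ∈ A, (lam : F) * t ∈ A) :
    A = ⊤ := by
  rw [eq_top_iff]
  intro t _
  by_cases ht : t = 0
  · rw [ht]
    exact A.zero_mem
  · have hpow : ∀ k : ℕ, ((lam ^ k : Fˣ) : F) * ε ∈ A := by
      intro k
      induction k with
      | zero => simpa using hεA
      | succ k ih =>
        have h1 := hcl _ ih
        have e : ((lam ^ (k + 1) : Fˣ) : F) * ε = (lam : F) * (((lam ^ k : Fˣ) : F) * ε) := by
          rw [pow_succ, Units.val_mul]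
          ring
        rw [e]
        exact h1
    obtain ⟨k, hk⟩ := hgen (Units.mk0 (t / ε) (div_ne_zero ht hε))
    have h1 := hpow k
    have hk' : ((lam ^ k : Fˣ) : F) = t / ε := by
      have := congrArg (fun x : Fˣ => (x : F)) hk
      simpa using this
    rw [hk', div_mul_cancel₀ _ hε] at h1
    exact h1

theorem scal_prime (hp : (Fintype.card F).Prime) (A : AddSubgroup F) (ε : F) (hε : ε ≠ 0)
    (hεA : ε ∈ A) : A = ⊤ := by
  have h1 := AddSubgroup.card_addSubgroup_dvd_card A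
  rw [Nat.card_eq_fintype_card (α := F)] at h1
  rcases (Nat.dvd_prime hp).1 h1 with h2 | h2
  · exfalso
    have h3 := (AddSubgroup.card_eq_one (H := A)).1 h2
    rw [h3, AddSubgroup.mem_bot] at hεA
    exact hε hεA
  · apply AddSubgroup.eq_top_of_card_eq
    rw [h2, Nat.card_eq_fintype_card]

end scal

section cases

variable {F : Type*} [Field F] [Fintype F] {n : ℕ}

theorem gen_big (hn3 : 3 ≤ n) (hq : 4 ≤ Fintype.card F) :
    ∃ a b : ↥(Cfsg.Omega F ⇑(Qp (n + 1) F)),
      Subgroup.closure ({a, b} : Set ↥(Cfsg.Omega F ⇑(Qp (n + 1) F))) = ⊤ := by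
  obtain ⟨lam, hlam⟩ := IsCyclic.exists_monoid_generator (α := Fˣ)
  have h0 : (lam : F) ≠ 0 := lam.ne_zero
  have hord : orderOf lam = Fintype.card F - 1 := by
    rw [orderOf_eq_card_of_forall_mem_zpowers, Nat.card_units, Nat.card_eq_fintype_card]
    intro x
    obtain ⟨k, hk⟩ := hlam x
    exact ⟨k, by simpa using hk⟩
  have hl2 : (lam : F)⁻¹ - lam ≠ 0 := by
    intro h
    have h2 : (lam : F)⁻¹ = lam := sub_eq_zero.1 h
    have h3 : (lam : F) * lam = 1 := by
      calc (lam : F) * lam = lam * (lam : F)⁻¹ := by rw [h2]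
        _ = 1 := mul_inv_cancel₀ h0
    have h4 : lam ^ 2 = 1 := by
      apply Units.ext
      rw [pow_two, Units.val_mul, h3, Units.val_one]
    have h5 := orderOf_dvd_of_pow_eq_one h4
    rw [hord] at h5
    have h6 := Nat.le_of_dvd (by norm_num) h5
    omega
  have hdet : (lam : F) * (lam : F)⁻¹ - ((lam : F)⁻¹ - lam) * 0 = 1 := by
    rw [mul_zero, sub_zero, mul_inv_cancel₀ h0]
  have hpowG : ∀ k : ℕ,
      (((gl2 (lam : F) ((lam : F)⁻¹ - lam) 0 (lam : F)⁻¹ hdet) ^ k : GL (Fin 2) F) :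
        Matrix (Fin 2) (Fin 2) F) =
        !![(lam : F) ^ k, ((lam : F)⁻¹) ^ k - (lam : F) ^ k; 0, ((lam : F)⁻¹) ^ k] := by
    intro k
    induction k with
    | zero =>
      rw [pow_zero, Units.val_one, Matrix.one_fin_two]
      apply mat2_ext <;> simp
    | succ k ih =>
      rw [pow_succ, Units.val_mul, ih, gl2_coe, Matrix.mul_fin_two]
      apply mat2_ext <;> ring
  have hN : (gl2 (lam : F) ((lam : F)⁻¹ - lam) 0 (lam : F)⁻¹ hdet) ^ (Fintype.card F - 1) = 1 := by
    apply Units.ext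
    rw [hpowG, Units.val_one, Matrix.one_fin_two, inv_pow,
      FiniteField.pow_card_sub_one_eq_one _ h0]
    apply mat2_ext <;> simp
  have hNF : ((Fintype.card F - 1 : ℕ) : F) = -1 := by
    rw [Nat.cast_sub (by omega), Nat.cast_card_eq_zero, Nat.cast_one, zero_sub]
  refine ⟨aO hn3 F, bO hn3 (gl2 (lam : F) ((lam : F)⁻¹ - lam) 0 (lam : F)⁻¹ hdet) (gl2_det _ _ _ _ _),
    closure_eq_top hn3 _ (gl2_det _ _ _ _ _) (Fintype.card F - 1) hN hNF hl2 ?_⟩
  intro A ε hε hεA hcl
  exact scal_gen A ε hε hεA lam hlam (hcl rfl)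

theorem gen_three (hn3 : 3 ≤ n) (hq : Fintype.card F = 3) :
    ∃ a b : ↥(Cfsg.Omega F ⇑(Qp (n + 1) F)),
      Subgroup.closure ({a, b} : Set ↥(Cfsg.Omega F ⇑(Qp (n + 1) F))) = ⊤ := by
  have h3 : (3 : F) = 0 := by
    have h := Nat.cast_card_eq_zero F
    rw [hq] at h
    exact_mod_cast h
  have hdet : (0 : F) * 0 - (-1) * 1 = 1 := by ring
  have h4 : (gl2 (0 : F) (-1) 1 0 hdet) ^ 4 = 1 := by
    apply Units.ext
    rw [Units.val_pow_eq_pow_val, gl2_coe, show (4 : ℕ) = 2 * 2 from rfl, pow_mul, pow_two,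
      pow_two, Matrix.mul_fin_two, Matrix.mul_fin_two, Units.val_one, Matrix.one_fin_two]
    apply mat2_ext <;> ring
  have hN : (gl2 (0 : F) (-1) 1 0 hdet) ^ 8 = 1 := by
    rw [show (8 : ℕ) = 4 * 2 from rfl, pow_mul, h4, one_pow]
  have hNF : ((8 : ℕ) : F) = -1 := by
    push_cast
    linear_combination (3 : F) * h3
  refine ⟨aO hn3 F, bO hn3 (gl2 (0 : F) (-1) 1 0 hdet) (gl2_det _ _ _ _ _),
    closure_eq_top hn3 _ (gl2_det _ _ _ _ _) 8 hN hNF
      (show (-1 : F) ≠ 0 from neg_ne_zero.2 one_ne_zero) ?_⟩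
  intro A ε hε hεA _
  exact scal_prime (by rw [hq]; norm_num) A ε hε hεA

theorem gen_two (hn3 : 3 ≤ n) (hq : Fintype.card F = 2) :
    ∃ a b : ↥(Cfsg.Omega F ⇑(Qp (n + 1) F)),
      Subgroup.closure ({a, b} : Set ↥(Cfsg.Omega F ⇑(Qp (n + 1) F))) = ⊤ := by
  have h2 : (2 : F) = 0 := by
    have h := Nat.cast_card_eq_zero F
    rw [hq] at h
    exact_mod_cast h
  have hdet : (0 : F) * 1 - 1 * 1 = 1 := by linear_combination (-1 : F) * h2
  have hN : (gl2 (0 : F) 1 1 1 hdet) ^ 3 = 1 := by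
    apply Units.ext
    rw [Units.val_pow_eq_pow_val, gl2_coe, show (3 : ℕ) = 2 + 1 from rfl, pow_succ, pow_two,
      Matrix.mul_fin_two, Matrix.mul_fin_two, Units.val_one, Matrix.one_fin_two]
    apply mat2_ext
    · ring
    · linear_combination h2
    · linear_combination h2
    · linear_combination h2
  have hNF : ((3 : ℕ) : F) = -1 := by
    push_cast
    linear_combination (2 : F) * h2
  refine ⟨aO hn3 F, bO hn3 (gl2 (0 : F) 1 1 1 hdet) (gl2_det _ _ _ _ _),
    closure_eq_top hn3 _ (gl2_det _ _ _ _ _) 3 hN hNF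
      (show (1 : F) ≠ 0 from one_ne_zero) ?_⟩
  intro A ε hε hεA _
  exact scal_prime (by rw [hq]; exact Nat.prime_two) A ε hε hεA

/-- `Ω⁺_{2(n+1)}(q)`, `n ≥ 3`, is generated by two elements. -/
theorem omega_two_generated (hn3 : 3 ≤ n) :
    ∃ a b : ↥(Cfsg.Omega F ⇑(Qp (n + 1) F)),
      Subgroup.closure ({a, b} : Set ↥(Cfsg.Omega F ⇑(Qp (n + 1) F))) = ⊤ := by
  have h1 : 1 < Fintype.card F := Fintype.one_lt_card
  by_cases h2 : Fintype.card F = 2
  · exact gen_two hn3 h2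
  · by_cases h3 : Fintype.card F = 3
    · exact gen_three hn3 h3
    · exact gen_big hn3 (by omega)

end cases

end Cfsg.Agent.Lib.Helper6.OPlusGen
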