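import Cfsg.Agent.Lib.Helper17.OSubMain
import Cfsg.Agent.Lib.Helper16.SUgOTB1
import Cfsg.Agent.Lib.Helper16.SUgOTC2core
import Cfsg.Agent.Lib.Helper8.OSubC34

/-!
S5801 conjunct (11) (helper6): orthogonal-type subfield subgroup of `SU_n(q)`, `q` odd, from
`n = 6` on.  The leaves of the S5659 argument that survive with at most three rational
conditions on a rational isotropic vector: C1 and F (no dimension hypothesis), B1 with two
rational conditions, the separation leaf B5 and the transitivity leaf C2 (`5 ≤ n`).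
-/

set_option autoImplicit false
set_option linter.unusedSectionVars false
set_option linter.unusedVariables false
set_option linter.unusedSimpArgs false

namespace Cfsg.Agent.Lib.Helper6.OSix
open Cfsg.Agent.Lib.Helper17.OSubLeaf Cfsg.Agent.Lib.Helper24.OSubLeaf
  Cfsg.Agent.Lib.Helper9.OSubLeaf Cfsg.Agent.Lib.Helper8.OSubLeaf
open Cfsg Matrix Cfsg.Agent.Lib.Helper5.SpMax
  Cfsg.Agent.Lib.Helper5.UForm Cfsg.Agent.Lib.Helper5.HermBridge
  Cfsg.Agent.Lib.Helper5.SUGen Cfsg.Agent.Lib.Helper5.SUMax Cfsg.Agent.Lib.Helper5.USub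
  Cfsg.Agent.Lib.Helper17.OSub

variable {F : Type*} [Field F] [Fintype F] {q n : ℕ}

section Rat
variable {hF : Fintype.card F = q ^ 2} {F₀ : Subfield F} {P : GL (Fin n) F}
  (S : Setup hF F₀ P)
include S

variable {M : Subgroup (GL (Fin n) F)}

/-- LEAF C1 (scaling). -/
theorem sset_of_tv_six (hn : 1 ≤ n)
    (hHM : Cfsg.Geo.subfieldSubgroup F₀ P ⊓
      (Cfsg.GU n F q ⊓ Cfsg.Geo.specialLinear (Fin n) F) ≤ M)
    {z : Fin n → F} (hz : RS q F₀ P z) {c : F} (hc : frobQ hF c = -c) (hc0 : c ≠ 0)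
    {t : GL (Fin n) F} (ht : IsTv q t z c) (htM : t ∈ M) : z ∈ Sset hF M := by
  have hf := herm_unitary (n := n) hF
  obtain ⟨z', hz', hzz'⟩ := partner' S hz
  obtain ⟨hzr, hz0, hzz⟩ := hz
  obtain ⟨hz'r, hz'0, hz'z'⟩ := hz'
  -- for every s in F₀ an element of M acting as t_{z, c s²}
  have key : ∀ s : F, s ∈ F₀ → ∃ t' : GL (Fin n) F, t' ∈ M ∧ IsTv q t' z (c * (s * s)) := by
    intro s hs
    by_cases hs0 : s = 0
    · refine ⟨1, M.one_mem, fun x => ?_⟩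
      rw [hs0, mul_zero, mul_zero, zero_mul, zero_smul, add_zero, Units.val_one,
        Matrix.one_mulVec]
    have hsf : frobQ hF s = s := (S.fix_iff s).mp hs
    obtain ⟨D, hDG, hD⟩ := exists_dil hF hzz hz'z' hzz' hs0 hsf
    have hDH : D ∈ Cfsg.Geo.subfieldSubgroup F₀ P ⊓
        (Cfsg.GU n F q ⊓ Cfsg.Geo.specialLinear (Fin n) F) := by
      apply S.mem_H_of_maps (by omega) hDG
      intro x hx
      rw [hD]
      refine isRat_add (isRat_add hx (isRat_smul ?_ hzr)) (isRat_smul ?_ hz'r)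
      · exact F₀.mul_mem (F₀.sub_mem hs F₀.one_mem) (S.form x z' hx hz'r)
      · exact F₀.mul_mem (F₀.sub_mem (F₀.inv_mem hs) F₀.one_mem) (S.form x z hx hzr)
    have hDM : D ∈ M := hHM hDH
    have hDz : (D : Matrix (Fin n) (Fin n) F) *ᵥ z = s • z := by
      rw [hD, hzz', hzz]
      module
    have h1 := tv_conj hF hDG.1 ht
    rw [hDz] at h1
    have h2 := tv_smul hF h1
    rw [hsf] at h2
    exact ⟨D * t * D⁻¹, M.mul_mem (M.mul_mem hDM htM) (M.inv_mem hDM), h2⟩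
  intro c' hc' g hg
  have hr : c' / c ∈ F₀ := by
    rw [S.fix_iff, map_div₀, hc, hc', neg_div_neg_eq]
  have h2m : (2 : F)⁻¹ ∈ F₀ := two_inv_mem F₀
  obtain ⟨t₁, ht₁M, ht₁⟩ := key ((c' / c + 1) * 2⁻¹)
    (F₀.mul_mem (F₀.add_mem hr F₀.one_mem) h2m)
  obtain ⟨t₂, ht₂M, ht₂⟩ := key ((c' / c - 1) * 2⁻¹)
    (F₀.mul_mem (F₀.sub_mem hr F₀.one_mem) h2m)
  have h3 := tv_mul' hF hzz ht₁ (tv_inv' hF hzz ht₂)
  have hcc : c * ((c' / c + 1) * 2⁻¹ * ((c' / c + 1) * 2⁻¹)) +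
      -(c * ((c' / c - 1) * 2⁻¹ * ((c' / c - 1) * 2⁻¹))) = c' := by
    have h22 : (2 : F) * 2⁻¹ = 1 := mul_inv_cancel₀ S.two_ne_zero
    have hcd : c * (c' / c) = c' := mul_div_cancel₀ _ hc0
    linear_combination (4 * 2⁻¹ * 2⁻¹) * hcd + (c' * (2 * 2⁻¹ + 1)) * h22
  rw [hcc] at h3
  have hg' : IsTv q g z c' := hg
  rw [tv_unique' hg' h3]
  exact M.mul_mem ht₁M (M.inv_mem ht₂M)


/-- LEAF F. -/
theorem tv_not_mem_six (hn : 1 ≤ n) {z : Fin n → F} (hz : RS q F₀ P z) {c : F}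
    (hc : frobQ hF c = -c) (hc0 : c ≠ 0) {t : GL (Fin n) F} (ht : IsTv q t z c) :
    t ∉ Cfsg.Geo.subfieldSubgroup F₀ P := by
  have hf := herm_unitary (n := n) hF
  intro hmem
  obtain ⟨hzr, hz0, hzz⟩ := hz
  obtain ⟨μ, hμ0, hμ⟩ := rat_of_mem_subfield t hmem
  -- μ is rational
  have hμF : μ ∈ F₀ := by
    obtain ⟨r, hr, htr⟩ := hμ z hzr
    rw [ht, hzz, mul_zero, zero_smul, add_zero] at htr
    have hr0 : r ≠ 0 := by
      intro h0
      apply hz0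
      rw [htr, h0, smul_zero]
    apply smul_rat_mem hr hr0
    rw [← htr]
    exact hzr
  obtain ⟨p, hp, hzp⟩ := S.nd hzr hz0
  have hpz : Cfsg.hermForm n F q p z ≠ 0 := u_symm_ne hf hzp
  obtain ⟨r, hr, htr⟩ := hμ p hp
  rw [ht] at htr
  have h1 : IsRat F₀ P ((c * Cfsg.hermForm n F q p z) • z) := by
    have : (c * Cfsg.hermForm n F q p z) • z = μ • r - p := by
      rw [← htr]; abel
    rw [this]
    exact isRat_sub (isRat_smul hμF hr) hp
  have h2 := smul_rat_mem hzr hz0 h1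
  have h3 : c ∈ F₀ := by
    have : c = c * Cfsg.hermForm n F q p z / Cfsg.hermForm n F q p z := by
      rw [mul_div_cancel_right₀ _ hpz]
    rw [this]
    exact F₀.div_mem h2 (S.form p z hp hzr)
  have h4 := (S.fix_iff c).mp h3
  rw [hc] at h4
  have h5 : (2 : F) * c = 0 := by linear_combination -h4
  rcases mul_eq_zero.mp h5 with h | h
  · exact S.two_ne_zero h
  · exact hc0 h


/-- B1 with `k` rational conditions (`k + 3 ≤ n`). -/
theorem exists_sing_perpk (k : ℕ) (hn : k + 3 ≤ n) (y : Fin k → (Fin n → F))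
    (hy : ∀ i, IsRat F₀ P (y i)) :
    ∃ z, RS q F₀ P z ∧ ∀ i, Cfsg.hermForm n F q z (y i) = 0 := by
  set f : Fin k → (Fin n → F₀) := fun i j =>
    ⟨(((P⁻¹ : GL (Fin n) F) : Matrix (Fin n) (Fin n) F) *ᵥ (y i)) j, hy i j⟩ with hf
  have hpf : ∀ i, pm F₀ P (f i) = y i := by
    intro i
    rw [pm_apply]
    exact mul_inv_mulVec P (y i)
  set L4 : (Fin n → F₀) →ₗ[F₀] (Fin k → F₀) :=
    LinearMap.pi (fun i => (ratForm S).flip (f i)) with hL4
  obtain ⟨e, heK, he⟩ := Cfsg.Agent.Lib.Helper16.SUgOT.exists_sing_ker S L4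
    (by rw [Module.finrank_fin_fun]; omega)
  refine ⟨pm F₀ P e, he, fun i => ?_⟩
  have h1 : ratForm S e (f i) = 0 := congrFun heK i
  have h2 := congrArg (fun t : F₀ => (t : F)) h1
  simp only [ratForm_apply, hpf] at h2
  simpa using h2

/-- B1 with two rational conditions (`5 ≤ n`). -/
theorem exists_sing_perp2 (hn : 5 ≤ n) {y0 y1 : Fin n → F} (hy0 : IsRat F₀ P y0)
    (hy1 : IsRat F₀ P y1) :
    ∃ z, RS q F₀ P z ∧ Cfsg.hermForm n F q z y0 = 0 ∧ Cfsg.hermForm n F q z y1 = 0 := by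
  obtain ⟨z, hz, h⟩ := exists_sing_perpk S 2 (by omega) ![y0, y1]
    (by intro i; fin_cases i <;> simpa)
  exact ⟨z, hz, by simpa using h 0, by simpa using h 1⟩

/-- a rational isotropic vector exists (`3 ≤ n`) -/
theorem exists_rs (hn : 3 ≤ n) : ∃ z, RS q F₀ P z := by
  obtain ⟨z, hz, -⟩ := exists_sing_perpk S 0 (by omega) (fun i => Fin.elim0 i)
    (fun i => Fin.elim0 i)
  exact ⟨z, hz⟩

/-- LEAF B5 from `n = 5` on: a rational isotropic vector separating an independent rational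
pair. -/
theorem exists_sing_sep_six (hn : 5 ≤ n) {a b : Fin n → F} (ha : IsRat F₀ P a)
    (hb : IsRat F₀ P b) (hind : Ind F₀ a b) :
    ∃ z, RS q F₀ P z ∧ Cfsg.hermForm n F q b z = 0 ∧ Cfsg.hermForm n F q a z = 1 := by
  have hf := herm_unitary (n := n) hF
  have h2 := S.two_ne_zero
  have hfix : ∀ {x y : Fin n → F}, IsRat F₀ P x → IsRat F₀ P y →
      frobQ hF (Cfsg.hermForm n F q x y) = Cfsg.hermForm n F q x y :=
    fun hx hy => (S.fix_iff _).mp (S.form _ _ hx hy)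
  have hb0 : b ≠ 0 := by
    intro h0
    have := (hind 0 1 F₀.zero_mem F₀.one_mem (by rw [h0, smul_zero, zero_smul, add_zero])).2
    exact one_ne_zero this
  -- it is enough to find a rational isotropic `z'` with `h b z' = 0` and `h a z' ≠ 0`
  suffices hsuff : ∃ z', IsRat F₀ P z' ∧ Cfsg.hermForm n F q z' z' = 0 ∧
      Cfsg.hermForm n F q b z' = 0 ∧ Cfsg.hermForm n F q a z' ≠ 0 by
    obtain ⟨z', hz', hz'z', hbz', haz'⟩ := hsuff
    have hlm : Cfsg.hermForm n F q a z' ∈ F₀ := S.form a z' ha hz'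
    have hli : (Cfsg.hermForm n F q a z')⁻¹ ∈ F₀ := F₀.inv_mem hlm
    refine ⟨(Cfsg.hermForm n F q a z')⁻¹ • z', ⟨isRat_smul hli hz', ?_, ?_⟩, ?_, ?_⟩
    · intro h0
      rcases smul_eq_zero.mp h0 with h | h
      · exact haz' (inv_eq_zero.mp h)
      · apply haz'
        rw [h, u_zero_right hf]
    · rw [hf.smul_left, u_smul_right hf, hz'z', mul_zero, mul_zero]
    · rw [u_smul_right hf, hbz', mul_zero]
    · rw [u_smul_right hf, (S.fix_iff _).mp hli, inv_mul_cancel₀ haz']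
  obtain ⟨b', hb', hbb'⟩ := S.nd hb hb0
  obtain ⟨z₁, hz₁, hz₁b, hz₁b'⟩ := exists_sing_perp2 S hn hb hb'
  have hbz₁ : Cfsg.hermForm n F q b z₁ = 0 := by rw [S.sym hz₁.1 hb]; exact hz₁b
  by_cases haz₁ : Cfsg.hermForm n F q a z₁ = 0
  swap
  · exact ⟨z₁, hz₁.1, hz₁.2.2, hbz₁, haz₁⟩
  -- `u₁ ⊥ b` with `h z₁ u₁ ≠ 0`
  obtain ⟨u₁, hu₁, hu₁b, hz₁u₁⟩ : ∃ u, IsRat F₀ P u ∧ Cfsg.hermForm n F q u b = 0 ∧
      Cfsg.hermForm n F q z₁ u ≠ 0 := by
    by_contra hcon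
    push Not at hcon
    obtain ⟨s, hs, hzs⟩ := Cfsg.Agent.Lib.Helper6.OSubLeaf.eq_smul_of_perp S hb hb0 hz₁.1
      (fun r hr hrb => hcon r hr hrb)
    rw [hzs, hf.smul_left] at hz₁b'
    rcases mul_eq_zero.mp hz₁b' with h | h
    · apply hz₁.2.1
      rw [hzs, h, zero_smul]
    · exact hbb' h
  -- `u₂ ⊥ b` with `h a u₂ ≠ 0`
  obtain ⟨u₂, hu₂, hu₂b, hau₂⟩ : ∃ u, IsRat F₀ P u ∧ Cfsg.hermForm n F q u b = 0 ∧
      Cfsg.hermForm n F q a u ≠ 0 := by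
    by_contra hcon
    push Not at hcon
    obtain ⟨s, hs, has⟩ := Cfsg.Agent.Lib.Helper6.OSubLeaf.eq_smul_of_perp S hb hb0 ha
      (fun r hr hrb => hcon r hr hrb)
    have := (hind 1 (-s) F₀.one_mem (F₀.neg_mem hs) (by rw [has]; module)).1
    exact one_ne_zero this
  -- `u ⊥ b` with both
  obtain ⟨u, hu, hub, hau, hz₁u⟩ : ∃ u, IsRat F₀ P u ∧ Cfsg.hermForm n F q u b = 0 ∧
      Cfsg.hermForm n F q a u ≠ 0 ∧ Cfsg.hermForm n F q z₁ u ≠ 0 := by
    by_cases h1 : Cfsg.hermForm n F q a u₁ = 0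
    · by_cases h3 : Cfsg.hermForm n F q z₁ u₂ = 0
      · refine ⟨u₁ + u₂, isRat_add hu₁ hu₂, ?_, ?_, ?_⟩
        · rw [hf.add_left, hu₁b, hu₂b, add_zero]
        · rw [u_add_right hf, h1, zero_add]; exact hau₂
        · rw [u_add_right hf, h3, add_zero]; exact hz₁u₁
      · exact ⟨u₂, hu₂, hu₂b, hau₂, h3⟩
    · exact ⟨u₁, hu₁, hu₁b, h1, hz₁u₁⟩
  have huz₁ : Cfsg.hermForm n F q u z₁ = Cfsg.hermForm n F q z₁ u := S.sym hz₁.1 hu
  have hbu : Cfsg.hermForm n F q b u = 0 := by rw [S.sym hu hb]; exact hub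
  obtain ⟨c, hc⟩ : ∃ c, c = Cfsg.hermForm n F q u u / (2 * Cfsg.hermForm n F q z₁ u) := ⟨_, rfl⟩
  have hcm : c ∈ F₀ := by
    rw [hc]
    have h2m : (2 : F) ∈ F₀ := by
      have : (2 : F) = 1 + 1 := by norm_num
      rw [this]; exact F₀.add_mem F₀.one_mem F₀.one_mem
    exact F₀.div_mem (S.form u u hu hu) (F₀.mul_mem h2m (S.form z₁ u hz₁.1 hu))
  have hσc : frobQ hF c = c := (S.fix_iff c).mp hcm
  refine ⟨u - c • z₁, isRat_sub hu (isRat_smul hcm hz₁.1), ?_, ?_, ?_⟩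
  · simp only [u_sub_left hf, u_sub_right hf, hf.smul_left, u_smul_right hf]
    rw [hσc, hz₁.2.2, huz₁, hc]
    field_simp
    ring
  · rw [u_sub_right hf, u_smul_right hf, hbz₁, hbu]; ring
  · rw [u_sub_right hf, u_smul_right hf, haz₁, mul_zero, sub_zero]; exact hau

/-- LEAF C4 (closure) from `n = 5` on: all isotropic vectors are centres. -/
theorem sset_all_six (hn : 5 ≤ n) (hR : ∀ z, RS q F₀ P z → z ∈ Sset hF M)
    (x : Fin n → F) (hx : Cfsg.hermForm n F q x x = 0) : x ∈ Sset hF M :=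
  sset_all_of S (fun ha hb hind => exists_sing_sep_six S hn ha hb hind) hR x hx

/-- LEAF C2 (transitivity) from `n = 5` on. -/
theorem sset_trans_six (hn : 5 ≤ n)
    (hHM : Cfsg.Geo.subfieldSubgroup F₀ P ⊓
      (Cfsg.GU n F q ⊓ Cfsg.Geo.specialLinear (Fin n) F) ≤ M)
    {z₀ z₁ : Fin n → F} (h₀ : RS q F₀ P z₀) (h₁ : RS q F₀ P z₁) (hm : z₀ ∈ Sset hF M) :
    z₁ ∈ Sset hF M := by
  have hA1 : ∀ {z w : Fin n → F}, Cfsg.hermForm n F q z z = 0 → Cfsg.hermForm n F q w z = 0 →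
      ∃ g : GL (Fin n) F, g ∈ Cfsg.GU n F q ⊓ Cfsg.Geo.specialLinear (Fin n) F ∧
        IsSiegel q g z w :=
    fun hzz hwz => Cfsg.Agent.Lib.Helper17.OSubLeaf.exists_siegel hF S.two_ne_zero hzz hwz
  have hB4 : ∀ {g : GL (Fin n) F} {z w : Fin n → F}, IsRat F₀ P z → IsRat F₀ P w →
      g ∈ Cfsg.GU n F q ⊓ Cfsg.Geo.specialLinear (Fin n) F → IsSiegel q g z w →
      g ∈ Cfsg.Geo.subfieldSubgroup F₀ P ⊓
        (Cfsg.GU n F q ⊓ Cfsg.Geo.specialLinear (Fin n) F) :=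
    fun hz hw hg hs => Cfsg.Agent.Lib.Helper17.OSubLeaf.siegel_mem_H S (by omega) hz hw hg hs
  obtain ⟨z₄, h₄, h40, h41⟩ := exists_sing_perp2 S hn h₀.1 h₁.1
  have h14 : Cfsg.hermForm n F q z₁ z₄ = 0 := by rw [S.sym h₄.1 h₁.1]; exact h41
  have hm4 : z₄ ∈ Sset hF M := sset_step S hA1 hB4 hHM h₀ h₄ h40 hm
  exact sset_step S hA1 hB4 hHM h₄ h₁ h14 hm4

end Rat

end Cfsg.Agent.Lib.Helper6.OSix
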