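import Cfsg.Agent.Lib.Helper6.OSixB
import Cfsg.Agent.Lib.Helper6.OSixD
import Cfsg.Agent.Lib.Helper16.SUgOTE12core

/-!
S5801 conjunct (11) (helper6): orthogonal-type subfield subgroup of `SU_n(q)`, `q` odd, from
`n = 6` on.  The "no rational transvection" half: under `NT` every element of `M` lies in the
subfield group.

New argument replacing the leaves E1, E2 of the S5659 tower (which need a rational isotropic
vector subject to four conditions, i.e. `7 ≤ n`): fix a rational isotropic `z₂`, write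
`g⁻¹ z₂ = a' + ζ b'`, pick a rational isotropic `z ⊥ a', b'` and rational `w, w' ⊥ z, z*, a', b'`
(`z*` a partner of `z`; the kernel of four rational conditions has dimension `≥ n - 4 ≥ 2`; `w`,
`w'` need not be isotropic).  The rational Siegel elements `E_{z,w}` fix `g⁻¹ z₂`, so
`g E_{z,w} g⁻¹ ∈ M` fixes `z₂` and lies in the subfield group by D2; as in E1 this puts the
rational components of `g z` into `⟨g z, g w⟩`, and into `⟨g z, g w'⟩`, hence into `⟨g z⟩`.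
-/

set_option autoImplicit false
set_option linter.unusedSectionVars false
set_option linter.unusedVariables false
set_option linter.unusedSimpArgs false

namespace Cfsg.Agent.Lib.Helper6.OSix
open Cfsg.Agent.Lib.Helper17.OSubLeaf Cfsg.Agent.Lib.Helper24.OSubLeaf
open Cfsg Matrix Cfsg.Agent.Lib.Helper5.SpMax
  Cfsg.Agent.Lib.Helper5.UForm Cfsg.Agent.Lib.Helper5.HermBridge
  Cfsg.Agent.Lib.Helper5.SUGen Cfsg.Agent.Lib.Helper5.SUMax Cfsg.Agent.Lib.Helper5.USub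
  Cfsg.Agent.Lib.Helper17.OSub

variable {F : Type*} [Field F] [Fintype F] {q n : ℕ}

section Rat
variable {hF : Fintype.card F = q ^ 2} {F₀ : Subfield F} {P : GL (Fin n) F}
  (S : Setup hF F₀ P)
include S

variable {M : Subgroup (GL (Fin n) F)}

/-- two `F`-independent rational vectors subject to four rational conditions (`6 ≤ n`) -/
theorem exists_pair_perp4 (hn : 6 ≤ n) (y : Fin 4 → (Fin n → F))
    (hy : ∀ i, IsRat F₀ P (y i)) :
    ∃ w w' : Fin n → F, IsRat F₀ P w ∧ IsRat F₀ P w' ∧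
      (∀ i, Cfsg.hermForm n F q w (y i) = 0) ∧ (∀ i, Cfsg.hermForm n F q w' (y i) = 0) ∧
      ∀ t u : F, t • w + u • w' = 0 → t = 0 ∧ u = 0 := by
  obtain ⟨ζ, hζ0, hζ⟩ := S.exists_zeta
  have hω := S.zeta_moved hζ0 hζ
  set f : Fin 4 → (Fin n → F₀) := fun i j =>
    ⟨(((P⁻¹ : GL (Fin n) F) : Matrix (Fin n) (Fin n) F) *ᵥ (y i)) j, hy i j⟩ with hf
  have hpf : ∀ i, pm F₀ P (f i) = y i := by
    intro i
    rw [pm_apply]
    exact mul_inv_mulVec P (y i)
  set L4 : (Fin n → F₀) →ₗ[F₀] (Fin 4 → F₀) :=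
    LinearMap.pi (fun i => (ratForm S).flip (f i)) with hL4
  have hrn := LinearMap.finrank_range_add_finrank_ker L4
  rw [Module.finrank_fin_fun] at hrn
  have hle : Module.finrank F₀ (LinearMap.range L4) ≤ 4 := by
    have := Submodule.finrank_le (LinearMap.range L4)
    rwa [Module.finrank_fin_fun] at this
  have h2k : 1 < Module.finrank F₀ (LinearMap.ker L4) := by omega
  obtain ⟨x, hx0⟩ := Module.finrank_pos_iff_exists_ne_zero.mp (by omega :
    0 < Module.finrank F₀ (LinearMap.ker L4))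
  obtain ⟨x', hli⟩ := exists_linearIndependent_pair_of_one_lt_finrank h2k hx0
  rw [LinearIndependent.pair_iff] at hli
  have hperp : ∀ e : LinearMap.ker L4, ∀ i,
      Cfsg.hermForm n F q (pm F₀ P (e : Fin n → F₀)) (y i) = 0 := by
    intro e i
    have h1 : ratForm S (e : Fin n → F₀) (f i) = 0 := congrFun (LinearMap.mem_ker.1 e.2) i
    have h2 := congrArg (fun t : F₀ => (t : F)) h1
    simp only [ratForm_apply, hpf] at h2
    simpa using h2
  have hrel : ∀ t u : F, t ∈ F₀ → u ∈ F₀ →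
      t • pm F₀ P (x : Fin n → F₀) + u • pm F₀ P (x' : Fin n → F₀) = 0 → t = 0 ∧ u = 0 := by
    intro t u ht hu h
    have h1 : pm F₀ P ((⟨t, ht⟩ : F₀) • (x : Fin n → F₀) + (⟨u, hu⟩ : F₀) • (x' : Fin n → F₀)) =
        0 := by
      rw [map_add, map_smul, map_smul]
      exact h
    have h2 : (⟨t, ht⟩ : F₀) • (x : Fin n → F₀) + (⟨u, hu⟩ : F₀) • (x' : Fin n → F₀) = 0 := by
      apply pm_injective F₀ P
      rw [h1, map_zero]
    have h3 : (⟨t, ht⟩ : F₀) • x + (⟨u, hu⟩ : F₀) • x' = 0 := by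
      apply Subtype.ext
      simpa using h2
    obtain ⟨e1, e2⟩ := hli _ _ h3
    exact ⟨congrArg Subtype.val e1, congrArg Subtype.val e2⟩
  refine ⟨pm F₀ P (x : Fin n → F₀), pm F₀ P (x' : Fin n → F₀), isRat_pm _ _ _, isRat_pm _ _ _,
    hperp x, hperp x', ?_⟩
  intro t u h
  obtain ⟨t₁, t₂, ht₁, ht₂, htd⟩ := decomp_field hF F₀ S.card hω t
  obtain ⟨u₁, u₂, hu₁, hu₂, hud⟩ := decomp_field hF F₀ S.card hω u
  have h0 : (t₁ • pm F₀ P (x : Fin n → F₀) + u₁ • pm F₀ P (x' : Fin n → F₀)) +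
      ζ • (t₂ • pm F₀ P (x : Fin n → F₀) + u₂ • pm F₀ P (x' : Fin n → F₀)) = 0 := by
    rw [← h, htd, hud]
    module
  obtain ⟨d1, d2⟩ := S.decomp_unique hω
    (isRat_add (isRat_smul ht₁ (isRat_pm _ _ _)) (isRat_smul hu₁ (isRat_pm _ _ _)))
    (isRat_add (isRat_smul ht₂ (isRat_pm _ _ _)) (isRat_smul hu₂ (isRat_pm _ _ _))) h0
  obtain ⟨a1, a2⟩ := hrel t₁ u₁ ht₁ hu₁ d1
  obtain ⟨b1, b2⟩ := hrel t₂ u₂ ht₂ hu₂ d2
  refine ⟨?_, ?_⟩
  · rw [htd, a1, b1]; ring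
  · rw [hud, a2, b2]; ring

/-- LEAF E1, with a general rational `w ⊥ z` and a given rational isotropic vector orthogonal to
`g z, g w`: the rational components of `g z` lie in the plane spanned by `g z, g w`. -/
theorem pair_rat_six (hn : 1 ≤ n)
    (hHM : Cfsg.Geo.subfieldSubgroup F₀ P ⊓
      (Cfsg.GU n F q ⊓ Cfsg.Geo.specialLinear (Fin n) F) ≤ M)
    (hMG : M ≤ Cfsg.GU n F q ⊓ Cfsg.Geo.specialLinear (Fin n) F) (hNT : NT hF F₀ P M)
    {g : GL (Fin n) F} (hg : g ∈ M) {z w z₁ : Fin n → F} (hz : RS q F₀ P z)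
    (hw : IsRat F₀ P w) (hzw : Cfsg.hermForm n F q w z = 0)
    (hli : ∀ s t : F, s • z + t • w = 0 → s = 0 ∧ t = 0)
    (hz₁ : RS q F₀ P z₁)
    (hz₁z : Cfsg.hermForm n F q z₁ ((g : Matrix (Fin n) (Fin n) F) *ᵥ z) = 0)
    (hz₁w : Cfsg.hermForm n F q z₁ ((g : Matrix (Fin n) (Fin n) F) *ᵥ w) = 0)
    {ζ : F} (hζ0 : ζ ≠ 0) (hζ : frobQ hF ζ = -ζ) {a b : Fin n → F} (ha : IsRat F₀ P a)
    (hb : IsRat F₀ P b) (hab : (g : Matrix (Fin n) (Fin n) F) *ᵥ z = a + ζ • b) :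
    (∃ α β : F, a = α • ((g : Matrix (Fin n) (Fin n) F) *ᵥ z) +
        β • ((g : Matrix (Fin n) (Fin n) F) *ᵥ w)) ∧
    (∃ α β : F, b = α • ((g : Matrix (Fin n) (Fin n) F) *ᵥ z) +
        β • ((g : Matrix (Fin n) (Fin n) F) *ᵥ w)) := by
  have hf := herm_unitary (n := n) hF
  have hgGU : g ∈ Cfsg.GU n F q := (hMG hg).1
  have hn0 : 0 < n := by omega
  obtain ⟨E, hEG, hE⟩ :=
    Cfsg.Agent.Lib.Helper17.OSubLeaf.exists_siegel hF S.two_ne_zero hz.2.2 hzw
  have hEM : E ∈ M :=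
    hHM (Cfsg.Agent.Lib.Helper17.OSubLeaf.siegel_mem_H S hn0 hz.1 hw hEG hE)
  have hE1M : g * E * g⁻¹ ∈ M := M.mul_mem (M.mul_mem hg hEM) (M.inv_mem hg)
  have hE1 := Cfsg.Agent.Lib.Helper17.OSubLeaf.siegel_conj hF hgGU hE
  generalize hgz : (g : Matrix (Fin n) (Fin n) F) *ᵥ z = gz at *
  generalize hgw : (g : Matrix (Fin n) (Fin n) F) *ᵥ w = gw at *
  obtain ⟨K, hK⟩ : ∃ K : F, K = 2⁻¹ * Cfsg.hermForm n F q gw gw := ⟨_, rfl⟩
  -- the formula for the conjugated Siegel element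
  have hform : ∀ x, ((g * E * g⁻¹ : GL (Fin n) F) : Matrix (Fin n) (Fin n) F) *ᵥ x =
      x + Cfsg.hermForm n F q x gz • gw -
        (Cfsg.hermForm n F q x gw + K * Cfsg.hermForm n F q x gz) • gz := by
    intro x
    rw [hE1 x, hK]
  -- the rational isotropic vector `z₁` is fixed by it
  have hfix : ((g * E * g⁻¹ : GL (Fin n) F) : Matrix (Fin n) (Fin n) F) *ᵥ z₁ = (1 : F) • z₁ := by
    rw [hform, hz₁z, hz₁w, mul_zero, add_zero, zero_smul, zero_smul, add_zero, sub_zero,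
      one_smul]
  have hsub := mem_of_maps_sing_six S hn hHM hMG hNT hE1M hz₁ hz₁.1 hfix
  obtain ⟨μ, hμ0, hμ⟩ := rat_of_mem_subfield (g * E * g⁻¹) hsub
  have hμmem : μ ∈ F₀ := by
    obtain ⟨r, hr, hr'⟩ := hμ z₁ hz₁.1
    rw [hfix, one_smul] at hr'
    have hr2 : r = μ⁻¹ • z₁ := by rw [hr', smul_smul, inv_mul_cancel₀ hμ0, one_smul]
    have h1 := Cfsg.Agent.Lib.Helper6.OSubLeaf.mem_of_smul_rat S hz₁.1 hz₁.2.1 (μ := μ⁻¹)
      (by rw [← hr2]; exact hr)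
    have h2 := F₀.inv_mem h1
    rwa [inv_inv] at h2
  have hmaps : ∀ x, IsRat F₀ P x →
      IsRat F₀ P (Cfsg.hermForm n F q x gz • gw -
        (Cfsg.hermForm n F q x gw + K * Cfsg.hermForm n F q x gz) • gz) := by
    intro x hx
    obtain ⟨r, hr, hr'⟩ := hμ x hx
    have h1 : Cfsg.hermForm n F q x gz • gw -
        (Cfsg.hermForm n F q x gw + K * Cfsg.hermForm n F q x gz) • gz =
        ((g * E * g⁻¹ : GL (Fin n) F) : Matrix (Fin n) (Fin n) F) *ᵥ x - x := by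
      rw [hform]; abel
    rw [h1, hr']
    exact isRat_sub (isRat_smul hμmem hr) hx
  -- a vector x with D x = g z
  have hwspan : w ∉ Submodule.span F {z} := by
    intro hmem
    obtain ⟨s, hs⟩ := Submodule.mem_span_singleton.mp hmem
    have h1 := (hli s (-1) (by rw [hs, neg_one_smul, add_neg_cancel])).2
    exact one_ne_zero (neg_eq_zero.mp h1)
  obtain ⟨p, hp1, hp2⟩ := exists_sep hf hz.2.1 hwspan
  have hσne : frobQ hF (Cfsg.hermForm n F q w p) ≠ 0 := by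
    intro h0
    apply hp2
    have h1 := congrArg (frobQ hF) h0
    rwa [hf.involutive, map_zero] at h1
  obtain ⟨c, hc⟩ : ∃ c : F, c = -(frobQ hF (Cfsg.hermForm n F q w p))⁻¹ := ⟨_, rfl⟩
  -- x := g (c • p)
  have hx1 : Cfsg.hermForm n F q ((g : Matrix (Fin n) (Fin n) F) *ᵥ (c • p)) gz = 0 := by
    rw [← hgz, mem_GU.mp hgGU, hf.smul_left, hf.herm p z, hp1, map_zero, mul_zero]
  have hx2 : Cfsg.hermForm n F q ((g : Matrix (Fin n) (Fin n) F) *ᵥ (c • p)) gw = -1 := by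
    rw [← hgw, mem_GU.mp hgGU, hf.smul_left, hf.herm p w, hc, neg_mul, inv_mul_cancel₀ hσne]
  obtain ⟨x1, x2, hx1r, hx2r, hx⟩ :=
    S.decomp_vec (S.zeta_moved hζ0 hζ) ((g : Matrix (Fin n) (Fin n) F) *ᵥ (c • p))
  have hD : gz = (Cfsg.hermForm n F q x1 gz • gw -
        (Cfsg.hermForm n F q x1 gw + K * Cfsg.hermForm n F q x1 gz) • gz) +
      ζ • (Cfsg.hermForm n F q x2 gz • gw -
        (Cfsg.hermForm n F q x2 gw + K * Cfsg.hermForm n F q x2 gz) • gz) := by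
    have e1 : Cfsg.hermForm n F q x1 gz + ζ * Cfsg.hermForm n F q x2 gz = 0 := by
      rw [← hf.smul_left, ← hf.add_left, ← hx, hx1]
    have e2 : Cfsg.hermForm n F q x1 gw + ζ * Cfsg.hermForm n F q x2 gw = -1 := by
      rw [← hf.smul_left, ← hf.add_left, ← hx, hx2]
    have e1' : Cfsg.hermForm n F q x1 gz = -(ζ * Cfsg.hermForm n F q x2 gz) :=
      eq_neg_of_add_eq_zero_left e1
    have e2' : Cfsg.hermForm n F q x1 gw = -1 - ζ * Cfsg.hermForm n F q x2 gw := by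
      rw [← e2]; ring
    rw [e1', e2']
    module
  have hzero : (a - (Cfsg.hermForm n F q x1 gz • gw -
        (Cfsg.hermForm n F q x1 gw + K * Cfsg.hermForm n F q x1 gz) • gz)) +
      ζ • (b - (Cfsg.hermForm n F q x2 gz • gw -
        (Cfsg.hermForm n F q x2 gw + K * Cfsg.hermForm n F q x2 gz) • gz)) = 0 := by
    have h1 : a + ζ • b = (Cfsg.hermForm n F q x1 gz • gw -
        (Cfsg.hermForm n F q x1 gw + K * Cfsg.hermForm n F q x1 gz) • gz) +
        ζ • (Cfsg.hermForm n F q x2 gz • gw -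
          (Cfsg.hermForm n F q x2 gw + K * Cfsg.hermForm n F q x2 gz) • gz) := by
      rw [← hab]; exact hD
    rw [smul_sub, ← sub_eq_zero.mpr h1]
    abel
  obtain ⟨ea, eb⟩ := S.decomp_unique (S.zeta_moved hζ0 hζ) (isRat_sub ha (hmaps x1 hx1r))
    (isRat_sub hb (hmaps x2 hx2r)) hzero
  refine ⟨⟨-(Cfsg.hermForm n F q x1 gw + K * Cfsg.hermForm n F q x1 gz),
      Cfsg.hermForm n F q x1 gz, ?_⟩,
    ⟨-(Cfsg.hermForm n F q x2 gw + K * Cfsg.hermForm n F q x2 gz),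
      Cfsg.hermForm n F q x2 gz, ?_⟩⟩
  · rw [sub_eq_zero.mp ea]; module
  · rw [sub_eq_zero.mp eb]; module

/-- the "no rational transvection" half from `n = 6` on: under `NT`, `M` lies in the subfield
group -/
theorem mem_of_NT_six (hn : 6 ≤ n)
    (hHM : Cfsg.Geo.subfieldSubgroup F₀ P ⊓
      (Cfsg.GU n F q ⊓ Cfsg.Geo.specialLinear (Fin n) F) ≤ M)
    (hMG : M ≤ Cfsg.GU n F q ⊓ Cfsg.Geo.specialLinear (Fin n) F) (hNT : NT hF F₀ P M)
    {g : GL (Fin n) F} (hg : g ∈ M) : g ∈ Cfsg.Geo.subfieldSubgroup F₀ P := by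
  have hf := herm_unitary (n := n) hF
  obtain ⟨ζ, hζ0, hζ⟩ := S.exists_zeta
  have hω := S.zeta_moved hζ0 hζ
  have hgGU : g ∈ Cfsg.GU n F q := (hMG hg).1
  obtain ⟨z₂, hz₂⟩ := exists_rs S (by omega : 3 ≤ n)
  obtain ⟨a', b', ha', hb', hab'⟩ := S.decomp_vec hω
    (((g⁻¹ : GL (Fin n) F) : Matrix (Fin n) (Fin n) F) *ᵥ z₂)
  obtain ⟨z, hz, hza', hzb'⟩ := exists_sing_perp2 S (by omega : 5 ≤ n) ha' hb'
  obtain ⟨zs, hzs, hzzs⟩ := Cfsg.Agent.Lib.Helper6.OSubLeaf.exists_partner S hz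
  obtain ⟨w, w', hw, hw', hwp, hw'p, hww'⟩ := exists_pair_perp4 S hn ![z, zs, a', b']
    (by intro i; fin_cases i <;> simp [hz.1, hzs.1, ha', hb'])
  have hwz : Cfsg.hermForm n F q w z = 0 := by simpa using hwp 0
  have hwzs : Cfsg.hermForm n F q w zs = 0 := by simpa using hwp 1
  have hwa' : Cfsg.hermForm n F q w a' = 0 := by simpa using hwp 2
  have hwb' : Cfsg.hermForm n F q w b' = 0 := by simpa using hwp 3
  have hw'z : Cfsg.hermForm n F q w' z = 0 := by simpa using hw'p 0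
  have hw'zs : Cfsg.hermForm n F q w' zs = 0 := by simpa using hw'p 1
  have hw'a' : Cfsg.hermForm n F q w' a' = 0 := by simpa using hw'p 2
  have hw'b' : Cfsg.hermForm n F q w' b' = 0 := by simpa using hw'p 3
  -- `z₂ ⊥ g x` for rational `x ⊥ a', b'`
  have hperp : ∀ x, IsRat F₀ P x → Cfsg.hermForm n F q x a' = 0 →
      Cfsg.hermForm n F q x b' = 0 →
      Cfsg.hermForm n F q z₂ ((g : Matrix (Fin n) (Fin n) F) *ᵥ x) = 0 := by
    intro x hx hxa hxb
    rw [← form_inv hgGU, hab', hf.add_left, hf.smul_left, S.sym hx ha', S.sym hx hb', hxa, hxb,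
      mul_zero, add_zero]
  -- independence of z, w, w'
  have hind : ∀ s t u : F, s • z + t • w + u • w' = 0 → s = 0 ∧ t = 0 ∧ u = 0 := by
    intro s t u h
    have h1 := congrArg (fun v => Cfsg.hermForm n F q v zs) h
    simp only [hf.add_left, hf.smul_left, hzzs, hwzs, hw'zs, mul_zero, add_zero, mul_one,
      u_zero_left hf] at h1
    subst h1
    rw [zero_smul, zero_add] at h
    obtain ⟨e1, e2⟩ := hww' t u h
    exact ⟨rfl, e1, e2⟩
  obtain ⟨a, b, ha, hb, hab⟩ :=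
    S.decomp_vec hω ((g : Matrix (Fin n) (Fin n) F) *ᵥ z)
  have hli1 : ∀ s t : F, s • z + t • w = 0 → s = 0 ∧ t = 0 := by
    intro s t h
    have := hind s t 0 (by rw [zero_smul, add_zero]; exact h)
    exact ⟨this.1, this.2.1⟩
  have hli2 : ∀ s t : F, s • z + t • w' = 0 → s = 0 ∧ t = 0 := by
    intro s t h
    have := hind s 0 t (by rw [zero_smul, add_zero]; exact h)
    exact ⟨this.1, this.2.2⟩
  obtain ⟨⟨α₁, β₁, ha1⟩, ⟨γ₁, δ₁, hb1⟩⟩ :=
    pair_rat_six S (by omega) hHM hMG hNT hg hz hw hwz hli1 hz₂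
      (hperp z hz.1 hza' hzb') (hperp w hw hwa' hwb') hζ0 hζ ha hb hab
  obtain ⟨⟨α₂, β₂, ha2⟩, ⟨γ₂, δ₂, hb2⟩⟩ :=
    pair_rat_six S (by omega) hHM hMG hNT hg hz hw' hw'z hli2 hz₂
      (hperp z hz.1 hza' hzb') (hperp w' hw' hw'a' hw'b') hζ0 hζ ha hb hab
  -- compare
  have key : ∀ α β α' β' : F,
      α • ((g : Matrix (Fin n) (Fin n) F) *ᵥ z) + β • ((g : Matrix (Fin n) (Fin n) F) *ᵥ w) =
      α' • ((g : Matrix (Fin n) (Fin n) F) *ᵥ z) + β' • ((g : Matrix (Fin n) (Fin n) F) *ᵥ w') →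
      β = 0 := by
    intro α β α' β' h
    have h1 : (g : Matrix (Fin n) (Fin n) F) *ᵥ ((α - α') • z + β • w + (-β') • w') =
        (g : Matrix (Fin n) (Fin n) F) *ᵥ 0 := by
      rw [Matrix.mulVec_add, Matrix.mulVec_add, Matrix.mulVec_smul, Matrix.mulVec_smul,
        Matrix.mulVec_smul, Matrix.mulVec_zero, sub_smul, neg_smul]
      rw [← sub_eq_zero] at h
      rw [← h]
      abel
    exact (hind _ _ _ (mulVec_inj g h1)).2.1
  have hβ : β₁ = 0 := key α₁ β₁ α₂ β₂ (by rw [← ha1, ← ha2])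
  have hδ : δ₁ = 0 := key γ₁ δ₁ γ₂ δ₂ (by rw [← hb1, ← hb2])
  rw [hβ, zero_smul, add_zero] at ha1
  rw [hδ, zero_smul, add_zero] at hb1
  -- `g z` is a multiple of a rational vector
  obtain ⟨l, z', hz', hgz⟩ : ∃ (l : F) (z' : Fin n → F), IsRat F₀ P z' ∧
      (g : Matrix (Fin n) (Fin n) F) *ᵥ z = l • z' := by
    by_cases ha0 : a = 0
    · refine ⟨ζ, b, hb, ?_⟩
      rw [hab, ha0, zero_add]
    · have hα : α₁ ≠ 0 := by
        intro h0
        apply ha0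
        rw [ha1, h0, zero_smul]
      refine ⟨α₁⁻¹, a, ha, ?_⟩
      rw [ha1, smul_smul, inv_mul_cancel₀ hα, one_smul]
  exact mem_of_maps_sing_six S (by omega) hHM hMG hNT hg hz hz' hgz

end Rat

end Cfsg.Agent.Lib.Helper6.OSix
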