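import Cfsg.Agent.Lib.Helper6.OSixE

/-!
S5801 conjunct (11) (helper6): the normaliser of the orthogonal-type subfield subgroup
(`q` odd) is maximal in `SU_n(q)` from `n = 6` on (helper17's S5659 tower with the leaves B5, C2
redone with three rational conditions and E1, E2 replaced by `mem_of_NT_six`).
-/

set_option autoImplicit false
set_option linter.unusedSectionVars false
set_option linter.unusedVariables false

namespace Cfsg.Agent.Lib.Helper6.OSix
open Cfsg.Agent.Lib.Helper17.OSubLeaf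
open Cfsg Matrix Cfsg.Agent.Lib.Helper5.SpMax
  Cfsg.Agent.Lib.Helper5.UForm Cfsg.Agent.Lib.Helper5.HermBridge
  Cfsg.Agent.Lib.Helper5.SUGen Cfsg.Agent.Lib.Helper5.SUMax Cfsg.Agent.Lib.Helper5.USub
  Cfsg.Agent.Lib.Helper17.OSub

variable {F : Type*} [Field F] [Fintype F] {q n : ℕ}
variable {hF : Fintype.card F = q ^ 2} {F₀ : Subfield F} {P : GL (Fin n) F}
  (S : Setup hF F₀ P)
include S

theorem maximal_six (hn : 6 ≤ n) :
    Cfsg.Geo.IsMaximalIn (Cfsg.GU n F q ⊓ Cfsg.Geo.specialLinear (Fin n) F)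
      (Cfsg.Geo.subfieldSubgroup F₀ P ⊓
        (Cfsg.GU n F q ⊓ Cfsg.Geo.specialLinear (Fin n) F)) := by
  obtain ⟨ζ, hζ0, hζ⟩ := S.exists_zeta
  obtain ⟨z₀, hz₀⟩ := exists_rs S (by omega : 3 ≤ n)
  refine ⟨lt_of_le_of_ne inf_le_right ?_, ?_⟩
  · intro heq
    obtain ⟨t, htG, ht⟩ := exists_tvg hF hz₀.2.2 hζ
    rw [← heq] at htG
    exact tv_not_mem_six S (by omega) hz₀ hζ hζ0 ht htG.1
  · intro M hHM hMG
    by_cases hNT : NT hF F₀ P M
    · left
      exact le_antisymm (fun g hg => ⟨mem_of_NT_six S hn hHM hMG hNT hg, hMG hg⟩) hHM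
    · right
      apply le_antisymm hMG
      unfold NT at hNT
      push Not at hNT
      obtain ⟨z, c, t, hz, hc, ht, htM, hc0⟩ := hNT
      have hzS := sset_of_tv_six S (by omega) hHM hz hc hc0 ht htM
      exact le_of_forall_mem_Sset hF (by omega) (by omega) M
        (sset_all_six S (by omega)
          (fun z₁ hz₁ => sset_trans_six S (by omega) hHM hz hz₁ hzS))

omit S in
/-- S5801 conjunct (11) in the shape of the frozen statements, `6 ≤ n`
(S5659 with the threshold lowered from 13 to 6). -/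
theorem osub_maximal_six {F : Type*} [Field F] [Fintype F] (n q : ℕ)
    (hF : Fintype.card F = q ^ 2) (hn : 6 ≤ n) (hodd : Odd q) (F₀ : Subfield F)
    (hcard : Fintype.card F = Nat.card F₀ ^ 2) (P : Matrix.GeneralLinearGroup (Fin n) F)
    (hP : Cfsg.Geo.IsFormRationalStructure (Cfsg.hermForm n F q) F₀ 1 P) :
    Cfsg.Geo.IsMaximalIn (Cfsg.GU n F q ⊓ Cfsg.Geo.specialLinear (Fin n) F)
      (Cfsg.Geo.subfieldSubgroup F₀ P ⊓
        (Cfsg.GU n F q ⊓ Cfsg.Geo.specialLinear (Fin n) F)) := by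
  have hS : Cfsg.Agent.Lib.Helper17.OSub.Setup hF F₀ P := by
    refine ⟨Cfsg.Agent.Lib.Helper5.USub.card_sub hF F₀ hcard, hodd, ?_⟩
    intro x y hx hy
    have h1 := hP _ _ hx hy
    rwa [Cfsg.Agent.Lib.Helper5.SpMax.mul_inv_mulVec,
      Cfsg.Agent.Lib.Helper5.SpMax.mul_inv_mulVec, one_mul] at h1
  exact maximal_six hS hn

end Cfsg.Agent.Lib.Helper6.OSix
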