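import Mathlib
import Cfsg.Agent.Lib.Helper17.OSubDefs
import Cfsg.Agent.Lib.Helper15.QuadClass
import Cfsg.Agent.Lib.Helper24.OSubB1
import Cfsg.Agent.Lib.Helper6.OSubB

/-!
S5659 leaf B5 (owner helper17; notes/S5659_leaves.lean): a rational isotropic vector separating an
independent rational pair.
-/

set_option autoImplicit false
set_option linter.unusedSectionVars false
set_option linter.unusedVariables false

namespace Cfsg.Agent.Lib.Helper6.OSubLeaf
open Cfsg Matrix Cfsg.Agent.Lib.Helper5.SpMax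
  Cfsg.Agent.Lib.Helper5.UForm Cfsg.Agent.Lib.Helper5.HermBridge
  Cfsg.Agent.Lib.Helper5.SUGen Cfsg.Agent.Lib.Helper5.SUMax Cfsg.Agent.Lib.Helper5.USub
  Cfsg.Agent.Lib.Helper17.OSub

variable {F : Type*} [Field F] [Fintype F] {q n : ℕ}

section Rat
variable {hF : Fintype.card F = q ^ 2} {F₀ : Subfield F} {P : GL (Fin n) F}
  (S : Setup hF F₀ P)
include S

/-- LEAF B5: a rational isotropic vector separating an independent rational pair. -/
theorem exists_sing_sep (hn : 13 ≤ n) {a b : Fin n → F} (ha : IsRat F₀ P a)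
    (hb : IsRat F₀ P b) (hind : Ind F₀ a b) :
    ∃ z, RS q F₀ P z ∧ Cfsg.hermForm n F q b z = 0 ∧ Cfsg.hermForm n F q a z = 1 := by
  have hf := herm_unitary (n := n) hF
  have hind' : Ind F₀ b a := fun s t hs ht h => by
    have := hind t s ht hs (by rw [add_comm]; exact h)
    exact ⟨this.2, this.1⟩
  obtain ⟨as, has, haas, hbas⟩ := exists_dual S ha hb hind
  obtain ⟨bs, hbs, hbbs, habs⟩ := exists_dual S hb ha hind'
  obtain ⟨z5, hz5, hperp⟩ :=
    Cfsg.Agent.Lib.Helper24.OSubLeaf.exists_sing_perp S hn ![a, b, as, bs, 0]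
  have hz5a : Cfsg.hermForm n F q z5 a = 0 := by simpa using hperp 0
  have hz5b : Cfsg.hermForm n F q z5 b = 0 := by simpa using hperp 1
  have hz5as : Cfsg.hermForm n F q z5 as = 0 := by simpa using hperp 2
  have hz5bs : Cfsg.hermForm n F q z5 bs = 0 := by simpa using hperp 3
  obtain ⟨z5', hz5', h55'⟩ := exists_partner S hz5
  obtain ⟨hz5r, hz50, hz5z5⟩ := hz5
  obtain ⟨hz5'r, hz5'0, hz5'z5'⟩ := hz5'
  have haz5 : Cfsg.hermForm n F q a z5 = 0 := by rw [S.sym hz5r ha, hz5a]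
  have hbz5 : Cfsg.hermForm n F q b z5 = 0 := by rw [S.sym hz5r hb, hz5b]
  have hasz5 : Cfsg.hermForm n F q as z5 = 0 := by rw [S.sym hz5r has, hz5as]
  have hbsz5 : Cfsg.hermForm n F q bs z5 = 0 := by rw [S.sym hz5r hbs, hz5bs]
  have h5'5 : Cfsg.hermForm n F q z5' z5 = 1 := by rw [S.sym hz5r hz5'r, h55']
  -- the corrected dual vectors
  obtain ⟨r1, hr1⟩ : ∃ r1 : F, r1 = Cfsg.hermForm n F q as z5' := ⟨_, rfl⟩
  obtain ⟨r2, hr2⟩ : ∃ r2 : F, r2 = Cfsg.hermForm n F q bs z5' := ⟨_, rfl⟩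
  have hr1m : r1 ∈ F₀ := by rw [hr1]; exact S.form as z5' has hz5'r
  have hr2m : r2 ∈ F₀ := by rw [hr2]; exact S.form bs z5' hbs hz5'r
  obtain ⟨as', has'd⟩ : ∃ as' : Fin n → F, as' = as - r1 • z5 := ⟨_, rfl⟩
  obtain ⟨bs', hbs'd⟩ : ∃ bs' : Fin n → F, bs' = bs - r2 • z5 := ⟨_, rfl⟩
  have has'r : IsRat F₀ P as' := by rw [has'd]; exact isRat_sub has (isRat_smul hr1m hz5r)
  have hbs'r : IsRat F₀ P bs' := by rw [hbs'd]; exact isRat_sub hbs (isRat_smul hr2m hz5r)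
  have e_as'_z5' : Cfsg.hermForm n F q as' z5' = 0 := by
    rw [has'd, u_sub_left hf, hf.smul_left, h55', ← hr1]; ring
  have e_bs'_z5' : Cfsg.hermForm n F q bs' z5' = 0 := by
    rw [hbs'd, u_sub_left hf, hf.smul_left, h55', ← hr2]; ring
  have e_as'_z5 : Cfsg.hermForm n F q as' z5 = 0 := by
    rw [has'd, u_sub_left hf, hf.smul_left, hz5z5, hasz5]; ring
  have e_bs'_z5 : Cfsg.hermForm n F q bs' z5 = 0 := by
    rw [hbs'd, u_sub_left hf, hf.smul_left, hz5z5, hbsz5]; ring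
  have e_a_as' : Cfsg.hermForm n F q a as' = 1 := by
    rw [has'd, u_sub_right hf, smul_right_rat S hr1m, haz5, haas]; ring
  have e_a_bs' : Cfsg.hermForm n F q a bs' = 0 := by
    rw [hbs'd, u_sub_right hf, smul_right_rat S hr2m, haz5, habs]; ring
  have e_b_as' : Cfsg.hermForm n F q b as' = 0 := by
    rw [has'd, u_sub_right hf, smul_right_rat S hr1m, hbz5, hbas]; ring
  have e_b_bs' : Cfsg.hermForm n F q b bs' = 1 := by
    rw [hbs'd, u_sub_right hf, smul_right_rat S hr2m, hbz5, hbbs]; ring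
  -- the vector u
  obtain ⟨c1, hc1⟩ : ∃ c1 : F, c1 = 1 - Cfsg.hermForm n F q a z5' := ⟨_, rfl⟩
  obtain ⟨c2, hc2⟩ : ∃ c2 : F, c2 = -Cfsg.hermForm n F q b z5' := ⟨_, rfl⟩
  have hc1m : c1 ∈ F₀ := by
    rw [hc1]; exact F₀.sub_mem F₀.one_mem (S.form a z5' ha hz5'r)
  have hc2m : c2 ∈ F₀ := by
    rw [hc2]; exact F₀.neg_mem (S.form b z5' hb hz5'r)
  obtain ⟨u, hud⟩ : ∃ u : Fin n → F, u = c1 • as' + c2 • bs' := ⟨_, rfl⟩
  have hur : IsRat F₀ P u := by
    rw [hud]; exact isRat_add (isRat_smul hc1m has'r) (isRat_smul hc2m hbs'r)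
  have e_u_z5' : Cfsg.hermForm n F q u z5' = 0 := by
    rw [hud, hf.add_left, hf.smul_left, hf.smul_left, e_as'_z5', e_bs'_z5']; ring
  have e_u_z5 : Cfsg.hermForm n F q u z5 = 0 := by
    rw [hud, hf.add_left, hf.smul_left, hf.smul_left, e_as'_z5, e_bs'_z5]; ring
  have e_z5'_u : Cfsg.hermForm n F q z5' u = 0 := by rw [S.sym hur hz5'r, e_u_z5']
  have e_z5_u : Cfsg.hermForm n F q z5 u = 0 := by rw [S.sym hur hz5r, e_u_z5]
  have e_a_u : Cfsg.hermForm n F q a u = c1 := by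
    rw [hud, u_add_right hf, smul_right_rat S hc1m, smul_right_rat S hc2m, e_a_as', e_a_bs']; ring
  have e_b_u : Cfsg.hermForm n F q b u = c2 := by
    rw [hud, u_add_right hf, smul_right_rat S hc1m, smul_right_rat S hc2m, e_b_as', e_b_bs']; ring
  -- the vector z
  obtain ⟨k, hk⟩ : ∃ k : F, k = 2⁻¹ * Cfsg.hermForm n F q u u := ⟨_, rfl⟩
  have h2m : (2 : F) ∈ F₀ := by
    have : (2 : F) = 1 + 1 := by norm_num
    rw [this]; exact F₀.add_mem F₀.one_mem F₀.one_mem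
  have hkm : k ∈ F₀ := by
    rw [hk]; exact F₀.mul_mem (F₀.inv_mem h2m) (S.form u u hur hur)
  have h2 := S.two_ne_zero
  have expand : ∀ x, Cfsg.hermForm n F q x (z5' + u - k • z5) =
      Cfsg.hermForm n F q x z5' + Cfsg.hermForm n F q x u - k * Cfsg.hermForm n F q x z5 := by
    intro x
    rw [u_sub_right hf, u_add_right hf, smul_right_rat S hkm]
  have hzr : IsRat F₀ P (z5' + u - k • z5) :=
    isRat_sub (isRat_add hz5'r hur) (isRat_smul hkm hz5r)
  have haz : Cfsg.hermForm n F q a (z5' + u - k • z5) = 1 := by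
    rw [expand, e_a_u, haz5, hc1]; ring
  have hbz : Cfsg.hermForm n F q b (z5' + u - k • z5) = 0 := by
    rw [expand, e_b_u, hbz5, hc2]; ring
  refine ⟨z5' + u - k • z5, ⟨hzr, ?_, ?_⟩, hbz, haz⟩
  · intro h0
    rw [h0, u_zero_right hf] at haz
    exact zero_ne_one haz
  · have e1 : Cfsg.hermForm n F q z5' (z5' + u - k • z5) = -k := by
      rw [expand, hz5'z5', e_z5'_u, h5'5]; ring
    have e2 : Cfsg.hermForm n F q u (z5' + u - k • z5) = Cfsg.hermForm n F q u u := by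
      rw [expand, e_u_z5', e_u_z5]; ring
    have e3 : Cfsg.hermForm n F q z5 (z5' + u - k • z5) = 1 := by
      rw [expand, h55', e_z5_u, hz5z5]; ring
    rw [u_sub_left hf, hf.add_left, hf.smul_left, e1, e2, e3, hk]
    field_simp
    ring

end Rat

end Cfsg.Agent.Lib.Helper6.OSubLeaf
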