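import Mathlib
import Cfsg.Agent.Lib.Helper9.OqTools

/-!
helper6: OQ A2 (S2143 market "OQ", planner helper9): `(H ∩ P_x) Q_x = P_x` and `l² ≠ 1`: some `hh x x'' l ∈ H`.
-/

set_option autoImplicit false

open Cfsg.Agent.Lib.Helper9.Oq

namespace Cfsg.Agent.Lib.Helper6.OqLeaf

variable {F V G : Type*} [Field F] [AddCommGroup V] [Module F V] [Group G] [DistribMulAction G V]
  (S : Setting F V G)

/-- conjugation of `Q_x` by the torus element `hh x x' l`: multiplication by `l²` -/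
theorem hh_conj_sg {x x' : V} (hx : S.Q x = 0) (hx' : S.Q x' = 0) (hxx' : S.B x x' = 1) (l : Fˣ)
    {w : V} (hw : S.B x w = 0) :
    S.hh x x' l * S.sg x w * (S.hh x x' l)⁻¹ = S.sg x (((l : F) * l) • w) := by
  have hwx : S.B w x = 0 := by rw [S.B_symm]; exact hw
  rw [S.conj_sg_of_smul_eq _ hx hw (S.hh_smul_left l hx hx' hxx'),
    S.hh_smul_of_perp_left l hx hx' hxx' hwx, smul_add, smul_smul]
  exact S.sg_add_smul_self hx (by rw [S.Bsmul_right, hw, mul_zero]) _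

/-- A2.  `(H ∩ P_x) Q_x = P_x` and `l² ≠ 1`: some `hh x x'' l ∈ H`. -/
theorem exists_hh_mem (H : Subgroup G) {x x' : V} (hx : S.Q x = 0) (hx' : S.Q x' = 0)
    (hxx' : S.B x x' = 1)
    (hA1 : ∀ p ∈ S.PP x, ∃ w, S.B x w = 0 ∧ p * S.sg x w ∈ H) (l : Fˣ)
    (hl : (l : F) * l ≠ 1) :
    ∃ x'', S.Q x'' = 0 ∧ S.B x x'' = 1 ∧ S.hh x x'' l ∈ H := by
  obtain ⟨w₀, hw₀, hH⟩ := hA1 _ (S.hh_mem_PP l hx hx' hxx')
  obtain ⟨lam, hlam⟩ : ∃ lam : F, lam = (l : F) * l := ⟨_, rfl⟩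
  rw [← hlam] at hl
  have hl1 : lam - 1 ≠ 0 := sub_ne_zero.2 hl
  obtain ⟨c, hc⟩ : ∃ c : F, c = lam / (lam - 1) := ⟨_, rfl⟩
  have hcl : c + lam = lam * c := by
    rw [hc]; field_simp; ring
  obtain ⟨z, hz⟩ : ∃ z : G, z = S.hh x x' l := ⟨_, rfl⟩
  have hcw : S.B x (c • w₀) = 0 := by rw [S.Bsmul_right, hw₀, mul_zero]
  have hlw : S.B x (lam • w₀) = 0 := by rw [S.Bsmul_right, hw₀, mul_zero]
  obtain ⟨u, hu⟩ : ∃ u : G, u = S.sg x (c • w₀) := ⟨_, rfl⟩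
  have h1 : z * u * z⁻¹ = S.sg x (lam • (c • w₀)) := by
    rw [hz, hu, hlam]; exact hh_conj_sg S hx hx' hxx' l hcw
  have h2 : z * S.sg x w₀ * z⁻¹ = S.sg x (lam • w₀) := by
    rw [hz, hlam]; exact hh_conj_sg S hx hx' hxx' l hw₀
  have h3 : u * (z * S.sg x w₀ * z⁻¹) = z * u * z⁻¹ := by
    rw [h1, h2, hu, S.sg_mul hx hcw hlw, ← add_smul, hcl, smul_smul]
  have key : z * S.sg x w₀ = u⁻¹ * z * (u⁻¹)⁻¹ := by
    have : u * (z * S.sg x w₀ * z⁻¹) * z = z * u * z⁻¹ * z := by rw [h3]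
    have e1 : u * (z * S.sg x w₀ * z⁻¹) * z = u * (z * S.sg x w₀) := by group
    have e2 : z * u * z⁻¹ * z = z * u := by group
    rw [e1, e2] at this
    rw [inv_inv, mul_assoc, ← this]; group
  have hux : u • x = x := by rw [hu]; exact S.sg_smul_self hx hcw
  have huix : u⁻¹ • x = x := by rw [inv_smul_eq_iff, hux]
  refine ⟨u⁻¹ • x', ?_, ?_, ?_⟩
  · rw [S.isoQ, hx']
  · rw [S.B_smul_right, inv_inv, hux, hxx']
  · have h4 := S.conj_hh u⁻¹ l hx hx' hxx'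
    rw [huix] at h4
    rw [← h4, ← hz, ← key, hz]
    exact hH

end Cfsg.Agent.Lib.Helper6.OqLeaf
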