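import Mathlib
import Cfsg.Agent.Lib.Helper9.OqTools

/-!
helper6: OQ PDEC (S2143 market "OQ", planner helper9): `P_x = Q_x L`, `L` the stabiliser of the two points
`F x`, `F x'`.
-/

set_option autoImplicit false

open Cfsg.Agent.Lib.Helper9.Oq

namespace Cfsg.Agent.Lib.Helper6.OqLeaf

variable {F V G : Type*} [Field F] [AddCommGroup V] [Module F V] [Group G] [DistribMulAction G V]
  (S : Setting F V G)

/-- PDEC: `P_x = Q_x L`, `L` the stabiliser of the two points `F x`, `F x'`.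
[`p • x = a • x`; `z := p⁻¹ • (a⁻¹ • x')` is singular with `B x z = 1`, and `sg x (x' - z) • x' = z`.] -/
theorem exists_sg_mul_fix_pair {x x' : V} (hx : S.Q x = 0) (hx' : S.Q x' = 0)
    (hxx' : S.B x x' = 1) {p : G} (hp : p ∈ S.PP x) :
    ∃ w, S.B x w = 0 ∧ ∃ a : Fˣ, (p * S.sg x w) • x = (a : F) • x ∧
      (p * S.sg x w) • x' = ((a⁻¹ : Fˣ) : F) • x' := by
  obtain ⟨a, ha⟩ := (S.mem_PP).1 hp
  obtain ⟨z, hz⟩ : ∃ z : V, z = p⁻¹ • (((a⁻¹ : Fˣ) : F) • x') := ⟨_, rfl⟩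
  have haa : (a : F) * ((a⁻¹ : Fˣ) : F) = 1 := by
    rw [← Units.val_mul, mul_inv_cancel, Units.val_one]
  have hQz : S.Q z = 0 := by rw [hz, S.isoQ, S.Q_smul_of_sing hx']
  have hBxz : S.B x z = 1 := by
    rw [hz, S.B_smul_right, inv_inv, ha, S.Bsmul_left, S.Bsmul_right, hxx', mul_one]
    exact haa
  have hx'x : S.B x' x = 1 := by rw [S.B_symm]; exact hxx'
  have hw : S.B x (x' - z) = 0 := by rw [S.Bsub_right, hxx', hBxz, sub_self]
  refine ⟨x' - z, hw, a, ?_, ?_⟩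
  · rw [mul_smul, S.sg_smul_self hx hw, ha]
  · have h1 : S.sg x (x' - z) • x' = z := by
      rw [S.sg_smul' hx hw, hx'x, S.Q_sub, hx', hQz, S.Bsub_right, S.B_self_of_sing hx']
      module
    rw [mul_smul, h1, hz, smul_inv_smul]

end Cfsg.Agent.Lib.Helper6.OqLeaf
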