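/-
Helper6 library: for a finite group `L` acting on a finite abelian group `N` of prime exponent `p`,
the semidirect product `N ⋊ L` has the prime graph of `L` provided the elements of prime order with
nontrivial fixed points are accounted for; fixed-point-freeness transfers along Sylow conjugacy.
-/
import Mathlib
import Cfsg.Agent.Lib.Helper6.PGSemi

set_option autoImplicit false

namespace Cfsg.Agent.Lib.Helper6.PGAct

open SemidirectProduct Cfsg.Agent.Lib.Helper6.PGSemi

universe u v

theorem fixed_zpowers {L : Type*} [Group L] {N : Type*} [Group N] (φ : L →* MulAut N) (g : L)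
    (n : N) (h : φ g n = n) : ∀ y ∈ Subgroup.zpowers g, φ y n = n := by
  have hinv : φ g⁻¹ n = n := by
    rw [map_inv]
    exact (MulEquiv.symm_apply_eq (φ g)).mpr h.symm
  have key : ∀ k : ℤ, φ (g ^ k) n = n := by
    intro k
    induction k using Int.induction_on with
    | zero => rw [zpow_zero, map_one]; rfl
    | succ i ih => rw [zpow_add_one, map_mul, MulAut.mul_apply, h, ih]
    | pred i ih => rw [zpow_sub_one, map_mul, MulAut.mul_apply, hinv, ih]
  rintro y ⟨k, rfl⟩
  exact key k

/-- fixed-point-freeness of one element of prime order `r`, where `r` divides the group order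
exactly once, gives it for all elements of order `r`. -/
theorem fpf_of_sylow {L : Type*} [Group L] [Finite L] {N : Type*} [Group N] (φ : L →* MulAut N)
    (r : ℕ) [hr : Fact r.Prime] (hfac : (Nat.card L).factorization r = 1)
    (g₀ : L) (hg₀ : orderOf g₀ = r) (h₀ : ∀ n : N, φ g₀ n = n → n = 1) :
    ∀ g : L, orderOf g = r → ∀ n : N, φ g n = n → n = 1 := by
  intro g hg n hn
  have hcard : ∀ z : L, orderOf z = r →
      Nat.card (Subgroup.zpowers z) = r ^ (Nat.card L).factorization r := by
    intro z hz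
    rw [hfac, pow_one, Nat.card_zpowers, hz]
  let P : Sylow r L := Sylow.ofCard (Subgroup.zpowers g) (hcard g hg)
  let Q : Sylow r L := Sylow.ofCard (Subgroup.zpowers g₀) (hcard g₀ hg₀)
  obtain ⟨c, hc⟩ := MulAction.exists_smul_eq L P Q
  have hmem : g₀ ∈ (Q : Subgroup L) := by
    show g₀ ∈ Subgroup.zpowers g₀
    exact Subgroup.mem_zpowers g₀
  rw [← hc, Sylow.coe_subgroup_smul, Subgroup.mem_pointwise_smul_iff_inv_smul_mem] at hmem
  have hmem' : c⁻¹ * g₀ * c ∈ Subgroup.zpowers g := by
    have : (MulAut.conj c)⁻¹ • g₀ = c⁻¹ * g₀ * c := by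
      rw [MulAut.smul_def, MulAut.conj_inv_apply]
    rw [this] at hmem
    exact hmem
  have h1 := fixed_zpowers φ g n hn _ hmem'
  rw [map_mul, map_mul, MulAut.mul_apply, MulAut.mul_apply, map_inv] at h1
  have h2 : φ g₀ (φ c n) = φ c n := (MulEquiv.symm_apply_eq (φ c)).mp h1
  have h3 := h₀ _ h2
  have h4 : φ c n = φ c 1 := by rw [h3, map_one]
  exact (φ c).injective h4

theorem exists_group_of_action {L : Type u} [Group L] [Finite L] {N : Type v} [CommGroup N]
    [Finite N] (φ : L →* MulAut N) {p : ℕ} (hp : p.Prime) (hpL : p ∣ Nat.card L)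
    (hexp : ∀ n : N, n ^ p = 1) (hne : ∃ n : N, n ≠ 1)
    (hH : ∀ a : ℕ, a.Prime → a ≠ p → ∀ l : L, orderOf l = a →
      (∃ n : N, n ≠ 1 ∧ φ l n = n) → ∃ y : L, orderOf y = p * a) :
    ∃ (G₀ : Type (max u v)) (_ : Group G₀) (_ : Finite G₀) (V : Subgroup G₀),
      V.Normal ∧ V ≠ ⊥ ∧ (∀ x ∈ V, x ^ p = 1) ∧
      (∀ q : ℕ, q.Prime → (q ∣ Nat.card L ↔ q ∣ Nat.card G₀)) ∧
      (∀ a b : ℕ, a.Prime → b.Prime → a ≠ b →
        ((∃ l : L, orderOf l = a * b) ↔ ∃ x : G₀, orderOf x = a * b)) := by
  classical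
  haveI : Finite (N ⋊[φ] L) := Finite.of_equiv _ SemidirectProduct.equivProd.symm
  refine ⟨N ⋊[φ] L, inferInstance, inferInstance, (inl : N →* N ⋊[φ] L).range,
    ?_, ?_, ?_, ?_, ?_⟩
  · rw [SemidirectProduct.range_inl_eq_ker_rightHom]
    infer_instance
  · obtain ⟨n, hn⟩ := hne
    intro h
    have hmem : (inl n : N ⋊[φ] L) ∈ (inl : N →* N ⋊[φ] L).range := ⟨_, rfl⟩
    rw [h, Subgroup.mem_bot] at hmem
    exact hn (inl_injective (by rw [hmem, map_one]))
  · rintro _ ⟨n, rfl⟩
    rw [← map_pow, hexp, map_one]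
  · intro q hq
    rw [SemidirectProduct.card]
    constructor
    · intro h
      exact Dvd.dvd.mul_left h _
    · intro h
      rcases (Nat.Prime.dvd_mul hq).mp h with h1 | h1
      · haveI : Fact q.Prime := ⟨hq⟩
        obtain ⟨n, hn⟩ := exists_prime_orderOf_dvd_card' (G := N) q h1
        have h2 : q ∣ p := by
          rw [← hn]
          exact orderOf_dvd_of_pow_eq_one (hexp n)
        rw [(Nat.prime_dvd_prime_iff_eq hq hp).mp h2]
        exact hpL
      · exact h1
  · intro a b ha hb hab
    constructor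
    · rintro ⟨l, hl⟩
      refine ⟨inr l, ?_⟩
      rw [orderOf_injective (inr : L →* N ⋊[φ] L) inr_injective, hl]
    · rintro ⟨x, hx⟩
      by_cases hap : a = p
      · have hbp : b ≠ p := fun h => hab (hap.trans h.symm)
        rw [hap] at hx ⊢
        rcases order_mul_cases φ hexp hp hb hbp x hx with h | ⟨h1, n, hn, hfx⟩
        · exact ⟨x.right, h⟩
        · exact hH b hb hbp x.right h1 ⟨n, hn, hfx⟩
      · by_cases hbp : b = p
        · rw [hbp, mul_comm] at hx
          rw [hbp, mul_comm]
          rcases order_mul_cases φ hexp hp ha hap x hx with h | ⟨h1, n, hn, hfx⟩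
          · exact ⟨x.right, h⟩
          · exact hH a ha hap x.right h1 ⟨n, hn, hfx⟩
        · refine ⟨x.right, ?_⟩
          rw [← hx]
          apply orderOf_right_of_coprime φ hexp
          rw [hx]
          exact Nat.Coprime.mul_left ((Nat.coprime_primes ha hp).mpr hap)
            ((Nat.coprime_primes hb hp).mpr hbp)

end Cfsg.Agent.Lib.Helper6.PGAct
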