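/-
Helper6 library: a concrete model `F16` of the field with sixteen elements (polynomials over `ZMod 2`
modulo `x⁴ + x + 1`, coefficients stored as the binary digits of an element of `Fin 16`), with
decidable equality and kernel-friendly arithmetic.
-/
import Mathlib

set_option autoImplicit false
set_option maxRecDepth 100000

namespace Cfsg.Agent.Lib.Helper6.PGF16

/-- the field with sixteen elements. -/
structure F16 where
  /-- the coefficients as binary digits. -/
  v : Fin 16
  deriving DecidableEq, Fintype

/-- carry-less multiplication followed by reduction modulo `x⁴ + x + 1`. -/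
def mulN (a b : ℕ) : ℕ :=
  let r := (if a.testBit 0 then b else 0) ^^^ (if a.testBit 1 then 2 * b else 0) ^^^
    (if a.testBit 2 then 4 * b else 0) ^^^ (if a.testBit 3 then 8 * b else 0)
  let r1 := if r.testBit 6 then r ^^^ 76 else r
  let r2 := if r1.testBit 5 then r1 ^^^ 38 else r1
  if r2.testBit 4 then r2 ^^^ 19 else r2

/-- from natural numbers. -/
def toF (n : ℕ) : F16 := ⟨Fin.ofNat 16 n⟩

/-- addition. -/
def F16.add (a b : F16) : F16 := toF (a.v.val ^^^ b.v.val)

/-- multiplication. -/
def F16.mul (a b : F16) : F16 := toF (mulN a.v.val b.v.val)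

/-- the fourth power (the involution of the field). -/
def F16.frob (a : F16) : F16 := F16.mul (F16.mul a a) (F16.mul a a)

/-- inversion (the fourteenth power). -/
def F16.inv (a : F16) : F16 :=
  let a2 := F16.mul a a
  let a4 := F16.mul a2 a2
  let a8 := F16.mul a4 a4
  F16.mul a8 (F16.mul a4 a2)

instance : Zero F16 := ⟨toF 0⟩
instance : One F16 := ⟨toF 1⟩
instance : Add F16 := ⟨F16.add⟩
instance : Mul F16 := ⟨F16.mul⟩
instance : Neg F16 := ⟨id⟩
instance : Inv F16 := ⟨F16.inv⟩

theorem add_assoc' : ∀ a b c : F16, a + b + c = a + (b + c) := by decide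
theorem zero_add' : ∀ a : F16, 0 + a = a := by decide
theorem add_zero' : ∀ a : F16, a + 0 = a := by decide
theorem add_comm' : ∀ a b : F16, a + b = b + a := by decide
theorem neg_add' : ∀ a : F16, -a + a = 0 := by decide
theorem mul_assoc' : ∀ a b c : F16, a * b * c = a * (b * c) := by decide
theorem one_mul' : ∀ a : F16, 1 * a = a := by decide
theorem mul_one' : ∀ a : F16, a * 1 = a := by decide
theorem mul_comm' : ∀ a b : F16, a * b = b * a := by decide
theorem left_distrib' : ∀ a b c : F16, a * (b + c) = a * b + a * c := by decide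
theorem right_distrib' : ∀ a b c : F16, (a + b) * c = a * c + b * c := by decide
theorem zero_mul' : ∀ a : F16, 0 * a = 0 := by decide
theorem mul_zero' : ∀ a : F16, a * 0 = 0 := by decide
theorem mul_inv' : ∀ a : F16, a ≠ 0 → a * a⁻¹ = 1 := by decide
theorem inv_zero' : (0 : F16)⁻¹ = 0 := by decide

instance : Field F16 where
  add_assoc := add_assoc'
  zero_add := zero_add'
  add_zero := add_zero'
  add_comm := add_comm'
  neg_add_cancel := neg_add'
  mul_assoc := mul_assoc'
  one_mul := one_mul'
  mul_one := mul_one'
  mul_comm := mul_comm'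
  left_distrib := left_distrib'
  right_distrib := right_distrib'
  zero_mul := zero_mul'
  mul_zero := mul_zero'
  nsmul := nsmulRec
  zsmul := zsmulRec
  exists_pair_ne := ⟨0, 1, by decide⟩
  mul_inv_cancel := mul_inv'
  inv_zero := inv_zero'
  nnqsmul := _
  nnqsmul_def := fun _ _ => rfl
  qsmul := _
  qsmul_def := fun _ _ => rfl

theorem card_F16 : Fintype.card F16 = 16 := by decide

theorem pow_four_eq : ∀ a : F16, a ^ 4 = F16.frob a := by
  intro a
  show a ^ 4 = (a * a) * (a * a)
  ring

theorem add_def (a b : F16) : a + b = F16.add a b := rfl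
theorem mul_def (a b : F16) : a * b = F16.mul a b := rfl

end Cfsg.Agent.Lib.Helper6.PGF16
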