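/-
Helper6 library: the action of a group on the additive group of column vectors through a
homomorphism to invertible matrices, as automorphisms of the multiplicative copy.
-/
import Mathlib

set_option autoImplicit false

namespace Cfsg.Agent.Lib.Helper6.PGMat

open Matrix

variable {n : Type*} [Fintype n] [DecidableEq n] {K : Type*} [CommRing K]

/-- multiplication by an invertible matrix as an additive automorphism -/
def mulVecEquiv (u : (Matrix n n K)ˣ) : (n → K) ≃+ (n → K) where
  toFun v := u.val *ᵥ v
  invFun v := u.inv *ᵥ v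
  left_inv v := by
    show u.inv *ᵥ (u.val *ᵥ v) = v
    rw [Matrix.mulVec_mulVec, u.inv_val, Matrix.one_mulVec]
  right_inv v := by
    show u.val *ᵥ (u.inv *ᵥ v) = v
    rw [Matrix.mulVec_mulVec, u.val_inv, Matrix.one_mulVec]
  map_add' v w := Matrix.mulVec_add _ v w

variable {P : Type*} [Group P]

/-- the action on the multiplicative copy of the column vectors -/
def actHom (ρ : P →* (Matrix n n K)ˣ) : P →* MulAut (Multiplicative (n → K)) where
  toFun g := AddEquiv.toMultiplicative (mulVecEquiv (ρ g))
  map_one' := by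
    ext v i
    show ((ρ 1).val *ᵥ Multiplicative.toAdd v) i = (Multiplicative.toAdd v) i
    rw [map_one, Units.val_one, Matrix.one_mulVec]
  map_mul' g h := by
    ext v i
    show ((ρ (g * h)).val *ᵥ Multiplicative.toAdd v) i =
      ((ρ g).val *ᵥ ((ρ h).val *ᵥ Multiplicative.toAdd v)) i
    rw [map_mul, Units.val_mul, Matrix.mulVec_mulVec]

theorem actHom_apply (ρ : P →* (Matrix n n K)ˣ) (g : P) (v : Multiplicative (n → K)) :
    Multiplicative.toAdd (actHom ρ g v) = (ρ g).val *ᵥ Multiplicative.toAdd v := rfl

/-- a matrix `M` with `M - 1` invertible has no nonzero fixed vector -/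
theorem eq_one_of_fixed (ρ : P →* (Matrix n n K)ˣ) (g : P) (Kinv : Matrix n n K)
    (hK : Kinv * ((ρ g).val - 1) = 1) (v : Multiplicative (n → K)) (h : actHom ρ g v = v) :
    v = 1 := by
  have h1 : (ρ g).val *ᵥ Multiplicative.toAdd v = Multiplicative.toAdd v := by
    rw [← actHom_apply, h]
  have h2 : ((ρ g).val - 1) *ᵥ Multiplicative.toAdd v = 0 := by
    rw [Matrix.sub_mulVec, h1, Matrix.one_mulVec, sub_self]
  have h3 : Multiplicative.toAdd v = 0 := by
    have := congrArg (fun w => Kinv *ᵥ w) h2
    simp only [Matrix.mulVec_mulVec, hK, Matrix.one_mulVec, Matrix.mulVec_zero] at this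
    exact this
  apply Multiplicative.toAdd.injective
  rw [h3]
  rfl

theorem pow_char_eq_one (p : ℕ) [CharP K p] (v : Multiplicative (n → K)) : v ^ p = 1 := by
  apply Multiplicative.toAdd.injective
  rw [toAdd_pow, toAdd_one]
  funext i
  rw [Pi.smul_apply, nsmul_eq_mul, CharP.cast_eq_zero, zero_mul]
  rfl

end Cfsg.Agent.Lib.Helper6.PGMat
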