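/-
Helper6 library: the 6-dimensional module of `G₂(4)` (as the group presented on a, …, f by
helper28) over the field with four elements: matrices of the generators, relators, and explicit
elements of orders 6, 7, 10, 13.
-/
import Cfsg.Agent.Lib.Helper28.G24Iso
import Cfsg.Agent.Lib.Helper6.PGMat

set_option autoImplicit false
set_option maxRecDepth 100000

namespace Cfsg.Agent.Lib.Helper6.PGG24

open Cfsg.Agent.Lib.Helper28.U6F4 Cfsg.Agent.Lib.Helper28.G24Iso Cfsg.Agent.Lib.Helper28.TC2Subst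
open Cfsg.Agent.Lib.Helper28.TCG24W0Link (relWords rels link)

/-- matrices of degree 6 over the field with four elements -/
abbrev M6 := Matrix (Fin 6) (Fin 6) F4

/-- matrices from lists of codes -/
def mk6 (l : List ℕ) : M6 := Matrix.of fun i j => toF4 (l.getD (6 * i.val + j.val) 0)

/-- the matrices of the generators on the 6-dimensional module -/
def gmat : GenP → M6
  | .a => mk6 [1, 0, 0, 0, 0, 0, 0, 1, 1, 0, 0, 0, 0, 0, 1, 0, 0, 0, 0, 0, 0, 1, 0, 0, 0, 0, 0, 0, 1, 0, 0, 0, 0, 0, 1, 1]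
  | .b => mk6 [3, 3, 1, 0, 1, 2, 2, 3, 1, 1, 0, 2, 0, 2, 1, 2, 2, 0, 0, 2, 0, 3, 2, 0, 2, 0, 1, 3, 3, 2, 0, 1, 0, 1, 1, 1]
  | .c => mk6 [1, 0, 0, 0, 0, 0, 1, 1, 1, 0, 0, 0, 0, 0, 1, 0, 0, 0, 0, 0, 0, 1, 1, 0, 0, 0, 0, 0, 1, 0, 0, 0, 0, 0, 1, 1]
  | .d => mk6 [1, 0, 0, 1, 0, 0, 0, 1, 1, 0, 0, 0, 0, 0, 1, 0, 0, 0, 0, 0, 0, 1, 0, 0, 0, 0, 1, 0, 1, 0, 0, 1, 1, 0, 1, 1]
  | .e => mk6 [1, 0, 0, 0, 2, 0, 0, 1, 1, 2, 1, 1, 0, 0, 1, 0, 1, 0, 1, 0, 2, 1, 0, 0, 0, 0, 0, 0, 1, 0, 2, 0, 3, 0, 1, 1]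
  | .f => mk6 [1, 0, 0, 0, 0, 0, 0, 1, 3, 0, 0, 0, 0, 0, 1, 0, 0, 0, 0, 0, 0, 1, 0, 0, 0, 0, 0, 0, 1, 0, 0, 0, 0, 0, 3, 1]

theorem gmat_sq : ∀ x : GenP, gmat x * gmat x = 1 := by
  intro x
  cases x <;> decide +kernel

/-- the generators as invertible matrices -/
def gunit (x : GenP) : M6ˣ := ⟨gmat x, gmat x, gmat_sq x, gmat_sq x⟩

theorem gunit_sq (x : GenP) : gunit x * gunit x = 1 := Units.ext (gmat_sq x)

theorem val_list_prod (l : List M6ˣ) : (l.prod : M6ˣ).val = (l.map Units.val).prod := by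
  induction l with
  | nil => rfl
  | cons g l ih => rw [List.prod_cons, Units.val_mul, ih, List.map_cons, List.prod_cons]

theorem rel_ok : ∀ L ∈ relWords, (L.map fun t => gmat t.1).prod = 1 := by decide +kernel

theorem lift_rel6 (L : List (GenP × Bool)) (hL : L ∈ relWords) :
    FreeGroup.lift gunit (FreeGroup.mk L) = 1 := by
  rw [lift_mk_invol gunit gunit_sq]
  apply Units.ext
  rw [val_list_prod, List.map_map, Units.val_one]
  exact rel_ok L hL

theorem exists_rho : ∃ ρ : P →* M6ˣ, ∀ x, ρ (PresentedGroup.of x) = gunit x :=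
  exists_hom_of_words rels gunit relWords (fun r hr => (link.hrels r).mp hr) lift_rel6

/-- the representation on the 6-dimensional module -/
noncomputable def rho : P →* M6ˣ := Classical.choose exists_rho

theorem rho_of (x : GenP) : rho (PresentedGroup.of x) = gunit x := Classical.choose_spec exists_rho x

/-- the element of the presented group given by a word in the generators -/
def wd (w : List GenP) : P := (w.map (PresentedGroup.of (rels := rels))).prod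

theorem rho_wd (w : List GenP) : (rho (wd w)).val = (w.map gmat).prod := by
  unfold wd
  rw [map_list_prod, val_list_prod, List.map_map, List.map_map]
  congr 1
  apply List.map_congr_left
  intro x _
  show (rho (PresentedGroup.of x)).val = gmat x
  rw [rho_of]
  rfl

theorem gmat_a_ne : gmat .a ≠ 1 := by decide +kernel

instance : IsSimpleGroup P := Cfsg.Agent.Lib.Helper28.TCG24Simple.main.1

theorem card_P : Nat.card P = 251596800 := Cfsg.Agent.Lib.Helper28.TCG24Simple.main.2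

instance : Finite P := Nat.finite_of_card_ne_zero (by rw [card_P]; norm_num)

theorem rho_injective : Function.Injective rho := by
  rw [← MonoidHom.ker_eq_bot_iff]
  rcases (inferInstance : rho.ker.Normal).eq_bot_or_eq_top with h | h
  · exact h
  · exfalso
    have ha : (PresentedGroup.of .a : P) ∈ rho.ker := by rw [h]; exact Subgroup.mem_top _
    rw [MonoidHom.mem_ker, rho_of] at ha
    exact gmat_a_ne (congrArg Units.val ha)

theorem wd_pow_eq_one_iff (w : List GenP) (k : ℕ) :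
    wd w ^ k = 1 ↔ (w.map gmat).prod ^ k = 1 := by
  rw [← rho_wd, ← Units.val_pow_eq_pow_val, ← map_pow]
  constructor
  · intro h
    rw [h, map_one, Units.val_one]
  · intro h
    apply rho_injective
    rw [map_one]
    exact Units.ext h

/-- the words -/
def w6 : List GenP := [.a, .d, .e]
/-- the words -/
def w10 : List GenP := [.a, .b, .d]
/-- the words -/
def w7 : List GenP := [.a, .b, .c, .b, .d, .e, .f, .b]
/-- the words -/
def w13 : List GenP := [.a, .b, .c, .b, .d, .e, .f]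

/-- the matrix of `w6` -/
def m6 : M6 := mk6 [0, 0, 2, 1, 2, 0, 0, 1, 1, 2, 1, 1, 0, 0, 1, 0, 1, 0, 1, 0, 2, 1, 0, 0, 0, 0, 1, 0, 0, 0, 2, 1, 2, 2, 0, 0]
/-- the matrix of `w10` -/
def m10 : M6 := mk6 [3, 1, 1, 3, 3, 2, 2, 3, 1, 1, 0, 2, 0, 2, 1, 2, 2, 0, 0, 2, 0, 3, 2, 0, 2, 2, 0, 1, 1, 2, 2, 2, 1, 0, 1, 3]
/-- the matrix of `w7` -/
def m7 : M6 := mk6 [0, 0, 1, 2, 2, 0, 0, 3, 3, 1, 0, 1, 0, 0, 3, 2, 1, 0, 1, 2, 0, 1, 2, 0, 0, 0, 1, 0, 0, 0, 2, 2, 0, 0, 3, 0]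
/-- the matrix of `w13` -/
def m13 : M6 := mk6 [3, 1, 3, 2, 0, 3, 1, 0, 0, 0, 2, 0, 2, 2, 2, 3, 1, 2, 3, 0, 1, 0, 2, 2, 0, 2, 1, 2, 2, 0, 3, 0, 3, 0, 0, 1]
/-- the inverse of `m7 - 1` -/
def k7 : M6 := mk6 [1, 0, 1, 0, 3, 0, 2, 3, 0, 3, 0, 3, 1, 3, 3, 0, 3, 3, 2, 1, 2, 0, 2, 1, 1, 3, 3, 0, 2, 3, 2, 3, 0, 1, 0, 2]
/-- the inverse of `m13 - 1` -/
def k13 : M6 := mk6 [0, 0, 3, 3, 3, 3, 2, 3, 0, 3, 0, 3, 0, 0, 3, 3, 3, 1, 0, 1, 1, 1, 2, 0, 1, 1, 2, 0, 2, 0, 1, 2, 2, 3, 0, 2]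

theorem m6_eq : (w6.map gmat).prod = m6 := by decide +kernel
theorem m10_eq : (w10.map gmat).prod = m10 := by decide +kernel
theorem m7_eq : (w7.map gmat).prod = m7 := by decide +kernel
theorem m13_eq : (w13.map gmat).prod = m13 := by decide +kernel

theorem m6_pow : m6 ^ 6 = 1 ∧ m6 ^ 3 ≠ 1 ∧ m6 ^ 2 ≠ 1 := by decide +kernel
theorem m10_pow : m10 ^ 10 = 1 ∧ m10 ^ 5 ≠ 1 ∧ m10 ^ 2 ≠ 1 := by decide +kernel
theorem m7_pow : m7 ^ 7 = 1 ∧ m7 ≠ 1 := by decide +kernel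
theorem m13_pow : m13 ^ 13 = 1 ∧ m13 ≠ 1 := by decide +kernel
theorem k7_mul : k7 * (m7 - 1) = 1 := by decide +kernel
theorem k13_mul : k13 * (m13 - 1) = 1 := by decide +kernel

theorem orderOf_w6 : orderOf (wd w6) = 6 := by
  apply orderOf_eq_of_pow_and_pow_div_prime (by norm_num)
  · rw [wd_pow_eq_one_iff, m6_eq]; exact m6_pow.1
  · intro p hp hd
    rw [Ne, wd_pow_eq_one_iff, m6_eq]
    rcases (Nat.Prime.dvd_mul hp).mp (show p ∣ 2 * 3 from hd) with h | h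
    · rw [(Nat.prime_dvd_prime_iff_eq hp Nat.prime_two).mp h]
      exact m6_pow.2.1
    · rw [(Nat.prime_dvd_prime_iff_eq hp Nat.prime_three).mp h]
      exact m6_pow.2.2

theorem orderOf_w10 : orderOf (wd w10) = 10 := by
  apply orderOf_eq_of_pow_and_pow_div_prime (by norm_num)
  · rw [wd_pow_eq_one_iff, m10_eq]; exact m10_pow.1
  · intro p hp hd
    rw [Ne, wd_pow_eq_one_iff, m10_eq]
    rcases (Nat.Prime.dvd_mul hp).mp (show p ∣ 2 * 5 from hd) with h | h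
    · rw [(Nat.prime_dvd_prime_iff_eq hp Nat.prime_two).mp h]
      exact m10_pow.2.1
    · rw [(Nat.prime_dvd_prime_iff_eq hp Nat.prime_five).mp h]
      exact m10_pow.2.2

theorem orderOf_w7 : orderOf (wd w7) = 7 := by
  haveI : Fact (Nat.Prime 7) := ⟨by norm_num⟩
  apply orderOf_eq_prime
  · rw [wd_pow_eq_one_iff, m7_eq]; exact m7_pow.1
  · intro h
    have := (wd_pow_eq_one_iff w7 1).mp (by rw [pow_one, h])
    rw [pow_one, m7_eq] at this
    exact m7_pow.2 this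

theorem orderOf_w13 : orderOf (wd w13) = 13 := by
  haveI : Fact (Nat.Prime 13) := ⟨by norm_num⟩
  apply orderOf_eq_prime
  · rw [wd_pow_eq_one_iff, m13_eq]; exact m13_pow.1
  · intro h
    have := (wd_pow_eq_one_iff w13 1).mp (by rw [pow_one, h])
    rw [pow_one, m13_eq] at this
    exact m13_pow.2 this

end Cfsg.Agent.Lib.Helper6.PGG24
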