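/-
Helper6 library: from one group with the prime graph of `L` and a nontrivial normal subgroup of
prime exponent to arbitrarily large ones (in `Type`).
-/
import Mathlib
import Cfsg.Agent.Lib.Helper19.Semidirect

set_option autoImplicit false

namespace Cfsg.Agent.Lib.Helper6.PGLarge

open Cfsg.Agent.Lib.Helper19

universe u v

theorem prime_dvd_card_iff {X : Type*} [Group X] [Finite X] (q : ℕ) (hq : q.Prime) :
    q ∣ Nat.card X ↔ ∃ x : X, orderOf x = q := by
  constructor
  · intro h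
    haveI : Fact q.Prime := ⟨hq⟩
    exact exists_prime_orderOf_dvd_card' q h
  · rintro ⟨x, rfl⟩
    exact orderOf_dvd_natCard x

theorem exists_large {L : Type u} [Group L] [Finite L] {G₀ : Type v} [Group G₀] [Finite G₀]
    (p : ℕ) (hp : p.Prime) (V : Subgroup G₀) [V.Normal] (hV : V ≠ ⊥) (hexp : ∀ x ∈ V, x ^ p = 1)
    (hpr : ∀ q : ℕ, q.Prime → (q ∣ Nat.card L ↔ q ∣ Nat.card G₀))
    (hed : ∀ a b : ℕ, a.Prime → b.Prime → a ≠ b →
      ((∃ l : L, orderOf l = a * b) ↔ ∃ x : G₀, orderOf x = a * b)) (N : ℕ) :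
    ∃ (H : Type) (_ : Group H) (_ : Finite H), N < Nat.card H ∧
      (∀ q : ℕ, q.Prime → (q ∣ Nat.card L ↔ q ∣ Nat.card H)) ∧
      (∀ a b : ℕ, a.Prime → b.Prime → a ≠ b →
        ((∃ l : L, orderOf l = a * b) ↔ ∃ x : H, orderOf x = a * b)) := by
  classical
  obtain ⟨H, hg, hf, hcard, hsp⟩ := exists_large_same_spec p hp (N + 1) V hV hexp
  obtain ⟨H', hg', hf', hcard', ⟨e⟩⟩ := exists_type0_copy H
  have hsp' : Set.range (orderOf : H' → ℕ) = Set.range (orderOf : G₀ → ℕ) := by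
    rw [spec_eq_of_mulEquiv e, hsp]
  have hH : ∀ n, (∃ h : H', orderOf h = n) ↔ (∃ g : G₀, orderOf g = n) := by
    intro n
    have := Set.ext_iff.mp hsp' n
    simpa [Set.mem_range] using this
  refine ⟨H', hg', Finite.of_fintype H', ?_, ?_, ?_⟩
  · rw [Nat.card_eq_fintype_card, hcard']
    omega
  · intro q hq
    rw [hpr q hq, prime_dvd_card_iff q hq, prime_dvd_card_iff q hq, hH]
  · intro a b ha hb hab
    rw [hed a b ha hb hab, hH]

end Cfsg.Agent.Lib.Helper6.PGLarge
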