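/-
Helper6 library: arbitrarily large groups with the prime graph of `G₂(4)`.
-/
import Cfsg.Agent.Lib.Helper6.PGG24A
import Cfsg.Agent.Lib.Helper6.PGAct
import Cfsg.Agent.Lib.Helper6.PGLarge

set_option autoImplicit false
set_option maxRecDepth 100000

namespace Cfsg.Agent.Lib.Helper6.PGG24

open Cfsg.Agent.Lib.Helper28.U6F4 Cfsg.Agent.Lib.Helper28.G24Iso

/-- the module as a multiplicative group -/
abbrev N6 := Multiplicative (Fin 6 → F4)

/-- the action on the module -/
noncomputable def phi6 : P →* MulAut N6 := PGMat.actHom rho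

theorem add_self_F4 : ∀ a : F4, a + a = 0 := by decide

theorem N6_exp (v : N6) : v ^ 2 = 1 := by
  apply Multiplicative.toAdd.injective
  rw [toAdd_pow, toAdd_one]
  funext i
  rw [Pi.smul_apply, two_nsmul]
  exact add_self_F4 _

theorem N6_ne : ∃ v : N6, v ≠ 1 := by
  refine ⟨Multiplicative.ofAdd (fun _ => 1), ?_⟩
  intro h
  have h1 : (fun _ : Fin 6 => (1 : F4)) = 0 := h
  have := congrFun h1 0
  revert this
  decide

theorem fpf7_base (v : N6) (h : phi6 (wd w7) v = v) : v = 1 := by
  apply PGMat.eq_one_of_fixed rho (wd w7) k7 _ v h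
  rw [rho_wd, m7_eq]
  exact k7_mul

theorem fpf13_base (v : N6) (h : phi6 (wd w13) v = v) : v = 1 := by
  apply PGMat.eq_one_of_fixed rho (wd w13) k13 _ v h
  rw [rho_wd, m13_eq]
  exact k13_mul

theorem prime_dvd_card {a : ℕ} (ha : a.Prime) (h : a ∣ 251596800) :
    a = 2 ∨ a = 3 ∨ a = 5 ∨ a = 7 ∨ a = 13 := by
  have e : 251596800 = 2 ^ 12 * 3 ^ 3 * 5 ^ 2 * 7 * 13 := by norm_num
  rw [e] at h
  rcases (Nat.Prime.dvd_mul ha).mp h with h | h
  · rcases (Nat.Prime.dvd_mul ha).mp h with h | h
    · rcases (Nat.Prime.dvd_mul ha).mp h with h | h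
      · rcases (Nat.Prime.dvd_mul ha).mp h with h | h
        · left
          exact (Nat.prime_dvd_prime_iff_eq ha Nat.prime_two).mp (ha.dvd_of_dvd_pow h)
        · right; left
          exact (Nat.prime_dvd_prime_iff_eq ha Nat.prime_three).mp (ha.dvd_of_dvd_pow h)
      · right; right; left
        exact (Nat.prime_dvd_prime_iff_eq ha Nat.prime_five).mp (ha.dvd_of_dvd_pow h)
    · right; right; right; left
      exact (Nat.prime_dvd_prime_iff_eq ha (by norm_num)).mp h
  · right; right; right; right
    exact (Nat.prime_dvd_prime_iff_eq ha (by norm_num)).mp h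

theorem factorization_7 : (Nat.card P).factorization 7 = 1 := by
  rw [card_P]
  have e : 251596800 = 7 * 35942400 := by norm_num
  have h7 : Nat.Prime 7 := by norm_num
  rw [e, Nat.factorization_mul (by norm_num) (by norm_num), Finsupp.add_apply,
    h7.factorization_self, Nat.factorization_eq_zero_of_not_dvd (by norm_num)]

theorem factorization_13 : (Nat.card P).factorization 13 = 1 := by
  rw [card_P]
  have e : 251596800 = 13 * 19353600 := by norm_num
  have h13 : Nat.Prime 13 := by norm_num
  rw [e, Nat.factorization_mul (by norm_num) (by norm_num), Finsupp.add_apply,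
    h13.factorization_self, Nat.factorization_eq_zero_of_not_dvd (by norm_num)]

theorem model_large (N : ℕ) :
    ∃ (H : Type) (_ : Group H) (_ : Finite H), N < Nat.card H ∧
      (∀ q : ℕ, q.Prime → (q ∣ Nat.card P ↔ q ∣ Nat.card H)) ∧
      (∀ a b : ℕ, a.Prime → b.Prime → a ≠ b →
        ((∃ l : P, orderOf l = a * b) ↔ ∃ x : H, orderOf x = a * b)) := by
  haveI : Finite N6 := Finite.of_equiv (Fin 6 → F4) Multiplicative.ofAdd
  obtain ⟨G₀, hG, hfin, V, hVn, hV, hexp, hpr, hed⟩ :=
    PGAct.exists_group_of_action (L := P) (N := N6) phi6 Nat.prime_two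
      (by rw [card_P]; norm_num) N6_exp N6_ne
      (by
        intro a ha ha2 l hl hex
        have hd : a ∣ 251596800 := by
          rw [← card_P, ← hl]
          exact orderOf_dvd_natCard l
        rcases prime_dvd_card ha hd with rfl | rfl | rfl | rfl | rfl
        · exact absurd rfl ha2
        · exact ⟨wd w6, orderOf_w6⟩
        · exact ⟨wd w10, orderOf_w10⟩
        · exfalso
          obtain ⟨v, hv, hfix⟩ := hex
          haveI : Fact (Nat.Prime 7) := ⟨by norm_num⟩
          exact hv (PGAct.fpf_of_sylow phi6 7 factorization_7 (wd w7) orderOf_w7 fpf7_base l hl v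
            hfix)
        · exfalso
          obtain ⟨v, hv, hfix⟩ := hex
          haveI : Fact (Nat.Prime 13) := ⟨by norm_num⟩
          exact hv (PGAct.fpf_of_sylow phi6 13 factorization_13 (wd w13) orderOf_w13 fpf13_base l
            hl v hfix))
  exact PGLarge.exists_large 2 Nat.prime_two V hV hexp hpr hed N

end Cfsg.Agent.Lib.Helper6.PGG24
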