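/-
Helper6 library: the dual code of an invariant block family modulo the constants, as a module for
the group, and the semidirect product with the group.
-/
import Mathlib
import Cfsg.Agent.Lib.Helper6.PGSemi

set_option autoImplicit false

namespace Cfsg.Agent.Lib.Helper6.PGMod

open SemidirectProduct

variable {L : Type*} [Group L] {X : Type*} [DecidableEq X] [MulAction L X]
variable (p : ℕ)
variable {ι : Type*} (blk : ι → Finset X)

/-- functions all of whose block sums vanish -/
def dualCode : AddSubgroup (X → ZMod p) where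
  carrier := {f | ∀ j, ∑ x ∈ blk j, f x = 0}
  zero_mem' := by intro j; simp
  add_mem' := by
    intro f g hf hg j
    have hf' := hf j
    have hg' := hg j
    simp only [Pi.add_apply, Finset.sum_add_distrib, hf', hg', add_zero]
  neg_mem' := by
    intro f hf j
    have hf' := hf j
    simp only [Pi.neg_apply, Finset.sum_neg_distrib, hf', neg_zero]

theorem mem_dualCode {f : X → ZMod p} : f ∈ dualCode p blk ↔ ∀ j, ∑ x ∈ blk j, f x = 0 := Iff.rfl

/-- invariance of the block family -/
def BlkInv (L : Type*) [Group L] [MulAction L X] (blk : ι → Finset X) : Prop :=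
  ∀ (g : L) (j : ι), ∃ j', ∀ x, g • x ∈ blk j ↔ x ∈ blk j'

variable {p blk}

theorem translate_mem (hinv : BlkInv L blk) (g : L) {f : X → ZMod p} (hf : f ∈ dualCode p blk) :
    (fun x => f (g⁻¹ • x)) ∈ dualCode p blk := by
  intro j
  obtain ⟨j', hj'⟩ := hinv g j
  rw [← hf j']
  refine Finset.sum_equiv (MulAction.toPerm g⁻¹) ?_ ?_
  · intro x
    rw [← hj']
    simp
  · intro x _
    rfl

theorem const_mem (hconst : ∀ j, ((blk j).card : ZMod p) = 0) (c : ZMod p) :
    (fun _ : X => c) ∈ dualCode p blk := by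
  intro j
  rw [Finset.sum_const, nsmul_eq_mul, hconst j, zero_mul]

variable (p blk)

/-- the members of the dual code vanishing at the base point -/
def W0 (x₀ : X) : AddSubgroup (X → ZMod p) where
  carrier := {f | f ∈ dualCode p blk ∧ f x₀ = 0}
  zero_mem' := ⟨(dualCode p blk).zero_mem, rfl⟩
  add_mem' := by
    rintro f g ⟨hf, hf0⟩ ⟨hg, hg0⟩
    exact ⟨(dualCode p blk).add_mem hf hg, by simp [hf0, hg0]⟩
  neg_mem' := by
    rintro f ⟨hf, hf0⟩
    exact ⟨(dualCode p blk).neg_mem hf, by simp [hf0]⟩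

/-- the action of the group on functions modulo constants, normalised at the base point -/
def tw (x₀ : X) (g : L) (f : X → ZMod p) : X → ZMod p :=
  fun x => f (g⁻¹ • x) - f (g⁻¹ • x₀)

variable {p blk}
variable (x₀ : X)

theorem tw_mem (hinv : BlkInv L blk) (hconst : ∀ j, ((blk j).card : ZMod p) = 0) (g : L)
    {f : X → ZMod p} (hf : f ∈ W0 p blk x₀) : tw p x₀ g f ∈ W0 p blk x₀ := by
  refine ⟨?_, ?_⟩
  · have h1 := translate_mem hinv g hf.1
    have h2 := const_mem hconst (f (g⁻¹ • x₀))
    exact (dualCode p blk).sub_mem h1 h2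
  · simp [tw]

theorem tw_mul (g h : L) (f : X → ZMod p) : tw p x₀ (g * h) f = tw p x₀ g (tw p x₀ h f) := by
  funext x
  simp only [tw, mul_inv_rev, mul_smul]
  ring

theorem tw_one {f : X → ZMod p} (hf : f x₀ = 0) : tw p x₀ (1 : L) f = f := by
  funext x
  simp [tw, hf]

theorem tw_add (g : L) (f₁ f₂ : X → ZMod p) :
    tw p x₀ g (f₁ + f₂) = tw p x₀ g f₁ + tw p x₀ g f₂ := by
  funext x
  simp only [tw, Pi.add_apply]
  ring

/-- the action on `W0` as additive automorphisms -/
def twEquiv (hinv : BlkInv L blk) (hconst : ∀ j, ((blk j).card : ZMod p) = 0) (g : L) :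
    ↥(W0 p blk x₀) ≃+ ↥(W0 p blk x₀) where
  toFun f := ⟨tw p x₀ g f.1, tw_mem x₀ hinv hconst g f.2⟩
  invFun f := ⟨tw p x₀ g⁻¹ f.1, tw_mem x₀ hinv hconst g⁻¹ f.2⟩
  left_inv f := by
    apply Subtype.ext
    show tw p x₀ g⁻¹ (tw p x₀ g f.1) = f.1
    rw [← tw_mul, inv_mul_cancel, tw_one x₀ f.2.2]
  right_inv f := by
    apply Subtype.ext
    show tw p x₀ g (tw p x₀ g⁻¹ f.1) = f.1
    rw [← tw_mul, mul_inv_cancel, tw_one x₀ f.2.2]
  map_add' f₁ f₂ := by
    apply Subtype.ext
    exact tw_add x₀ g f₁.1 f₂.1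

/-- the action as a homomorphism to the automorphism group of the multiplicative copy -/
def phi (hinv : BlkInv L blk) (hconst : ∀ j, ((blk j).card : ZMod p) = 0) :
    L →* MulAut (Multiplicative ↥(W0 p blk x₀)) where
  toFun g := AddEquiv.toMultiplicative (twEquiv x₀ hinv hconst g)
  map_one' := by
    ext f x
    exact congrFun (tw_one (L := L) x₀ (Multiplicative.toAdd f).2.2) x
  map_mul' g h := by
    ext f x
    exact congrFun (tw_mul x₀ g h (Multiplicative.toAdd f).1) x

theorem phi_apply (hinv : BlkInv L blk) (hconst : ∀ j, ((blk j).card : ZMod p) = 0) (g : L)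
    (f : Multiplicative ↥(W0 p blk x₀)) :
    (Multiplicative.toAdd (phi x₀ hinv hconst g f)).1 = tw p x₀ g (Multiplicative.toAdd f).1 := rfl

/-- if an element of order prime to `p` fixes `f` under the twisted action, then `f` is invariant
under it. -/
theorem invariant_of_tw_eq {r : ℕ} (hp : p.Prime) (hr : ¬ p ∣ r) (l : L) (hl : l ^ r = 1)
    (f : X → ZMod p) (h : tw p x₀ l f = f) : ∀ x, f (l • x) = f x := by
  set c := f (l⁻¹ • x₀) with hc
  have h1 : ∀ x, f (l⁻¹ • x) = f x + c := by
    intro x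
    have := congrFun h x
    simp only [tw] at this
    rw [← this, hc]
    ring
  have h2 : ∀ k : ℕ, ∀ x, f ((l⁻¹) ^ k • x) = f x + k * c := by
    intro k
    induction k with
    | zero => intro x; simp
    | succ k ih =>
      intro x
      rw [pow_succ', mul_smul, h1, ih]
      push_cast
      ring
  have h3 := h2 r x₀
  rw [inv_pow, hl, inv_one, one_smul] at h3
  have h4 : (r : ZMod p) * c = 0 := by
    have : f x₀ + (r : ZMod p) * c = f x₀ + 0 := by rw [← h3, add_zero]
    exact add_left_cancel this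
  haveI : Fact p.Prime := ⟨hp⟩
  have h5 : (r : ZMod p) ≠ 0 := by
    rw [Ne, ZMod.natCast_eq_zero_iff]
    exact hr
  have hc0 : c = 0 := (mul_eq_zero.mp h4).resolve_left h5
  intro x
  have := h1 (l • x)
  rw [inv_smul_smul, hc0, add_zero] at this
  exact this.symm

end Cfsg.Agent.Lib.Helper6.PGMod
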