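/-
Helper6 library: the group `W ⋊ L` built from the dual code of an invariant block family has the
prime graph of `L`, provided the elements of prime order with fixed points on `W` are accounted for.
-/
import Mathlib
import Cfsg.Agent.Lib.Helper6.PGMod

set_option autoImplicit false

namespace Cfsg.Agent.Lib.Helper6.PGMod

open SemidirectProduct Cfsg.Agent.Lib.Helper6.PGSemi

universe u v w

variable {L : Type u} [Group L] {X : Type v} [DecidableEq X] [MulAction L X]
variable {p : ℕ}
variable {ι : Type w} {blk : ι → Finset X}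
variable (x₀ : X)

theorem exists_group [Finite L] [Finite X] (hp : p.Prime) (hpL : p ∣ Nat.card L)
    (hinv : BlkInv L blk) (hconst : ∀ j, ((blk j).card : ZMod p) = 0)
    (hne : ∃ f ∈ W0 p blk x₀, f ≠ 0)
    (hH : ∀ a : ℕ, a.Prime → a ≠ p → ∀ l : L, orderOf l = a →
      (∃ f ∈ W0 p blk x₀, f ≠ 0 ∧ tw p x₀ l f = f) → ∃ y : L, orderOf y = p * a) :
    ∃ (G₀ : Type (max u v)) (_ : Group G₀) (_ : Finite G₀) (V : Subgroup G₀),
      V.Normal ∧ V ≠ ⊥ ∧ (∀ x ∈ V, x ^ p = 1) ∧
      (∀ q : ℕ, q.Prime → (q ∣ Nat.card L ↔ q ∣ Nat.card G₀)) ∧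
      (∀ a b : ℕ, a.Prime → b.Prime → a ≠ b →
        ((∃ l : L, orderOf l = a * b) ↔ ∃ x : G₀, orderOf x = a * b)) := by
  classical
  haveI : Fact p.Prime := ⟨hp⟩
  haveI : Finite (X → ZMod p) := Pi.finite
  haveI hfinN : Finite (Multiplicative ↥(W0 p blk x₀)) :=
    Finite.of_equiv ↥(W0 p blk x₀) Multiplicative.ofAdd
  have hexp : ∀ n : Multiplicative ↥(W0 p blk x₀), n ^ p = 1 := by
    intro n
    apply Multiplicative.toAdd.injective
    rw [toAdd_pow, toAdd_one]
    apply Subtype.ext
    funext x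
    rw [AddSubgroup.coe_nsmul, Pi.smul_apply, nsmul_eq_mul, ZMod.natCast_self, zero_mul]
    rfl
  let φ := phi x₀ hinv hconst
  haveI : Finite (Multiplicative ↥(W0 p blk x₀) ⋊[φ] L) :=
    Finite.of_equiv _ SemidirectProduct.equivProd.symm
  have hfix : ∀ (l : L) (n : Multiplicative ↥(W0 p blk x₀)), n ≠ 1 → φ l n = n →
      ∃ f ∈ W0 p blk x₀, f ≠ 0 ∧ tw p x₀ l f = f := by
    intro l n hn hfx
    refine ⟨(Multiplicative.toAdd n).1, (Multiplicative.toAdd n).2, ?_, ?_⟩
    · intro h0
      apply hn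
      apply Multiplicative.toAdd.injective
      rw [toAdd_one]
      exact Subtype.ext h0
    · rw [← phi_apply x₀ hinv hconst l n]
      show (Multiplicative.toAdd (φ l n)).1 = (Multiplicative.toAdd n).1
      rw [hfx]
  refine ⟨Multiplicative ↥(W0 p blk x₀) ⋊[φ] L, inferInstance, inferInstance,
    (inl : Multiplicative ↥(W0 p blk x₀) →* Multiplicative ↥(W0 p blk x₀) ⋊[φ] L).range,
    ?_, ?_, ?_, ?_, ?_⟩
  · rw [SemidirectProduct.range_inl_eq_ker_rightHom]
    infer_instance
  · obtain ⟨f, hf, hf0⟩ := hne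
    intro h
    have hmem : (inl (Multiplicative.ofAdd (⟨f, hf⟩ : ↥(W0 p blk x₀))) :
        Multiplicative ↥(W0 p blk x₀) ⋊[φ] L) ∈
        (inl : Multiplicative ↥(W0 p blk x₀) →* Multiplicative ↥(W0 p blk x₀) ⋊[φ] L).range :=
      ⟨_, rfl⟩
    rw [h, Subgroup.mem_bot] at hmem
    have h2 : Multiplicative.ofAdd (⟨f, hf⟩ : ↥(W0 p blk x₀)) = 1 :=
      inl_injective (by rw [hmem, map_one])
    have h3 : (⟨f, hf⟩ : ↥(W0 p blk x₀)) = 0 := h2
    exact hf0 (congrArg Subtype.val h3)
  · rintro _ ⟨n, rfl⟩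
    rw [← map_pow, hexp, map_one]
  · intro q hq
    rw [SemidirectProduct.card]
    constructor
    · intro h
      exact Dvd.dvd.mul_left h _
    · intro h
      rcases (Nat.Prime.dvd_mul hq).mp h with h1 | h1
      · haveI : Fact q.Prime := ⟨hq⟩
        obtain ⟨n, hn⟩ := exists_prime_orderOf_dvd_card' (G := Multiplicative ↥(W0 p blk x₀)) q h1
        have h2 : q ∣ p := by
          rw [← hn]
          exact orderOf_dvd_of_pow_eq_one (hexp n)
        rw [(Nat.prime_dvd_prime_iff_eq hq hp).mp h2]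
        exact hpL
      · exact h1
  · intro a b ha hb hab
    constructor
    · rintro ⟨l, hl⟩
      refine ⟨inr l, ?_⟩
      rw [orderOf_injective (inr : L →* Multiplicative ↥(W0 p blk x₀) ⋊[φ] L) inr_injective, hl]
    · rintro ⟨x, hx⟩
      by_cases hap : a = p
      · have hbp : b ≠ p := fun h => hab (hap.trans h.symm)
        rw [hap] at hx ⊢
        rcases order_mul_cases φ hexp hp hb hbp x hx with h | ⟨h1, n, hn, hfx⟩
        · exact ⟨x.right, h⟩
        · exact hH b hb hbp x.right h1 (hfix x.right n hn hfx)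
      · by_cases hbp : b = p
        · rw [hbp, mul_comm] at hx
          rw [hbp, mul_comm]
          rcases order_mul_cases φ hexp hp ha hap x hx with h | ⟨h1, n, hn, hfx⟩
          · exact ⟨x.right, h⟩
          · exact hH a ha hap x.right h1 (hfix x.right n hn hfx)
        · refine ⟨x.right, ?_⟩
          rw [← hx]
          apply orderOf_right_of_coprime φ hexp
          rw [hx]
          exact Nat.Coprime.mul_left ((Nat.coprime_primes ha hp).mpr hap)
            ((Nat.coprime_primes hb hp).mpr hbp)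

end Cfsg.Agent.Lib.Helper6.PGMod
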