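/-
Helper6 library: a property of functions on a `G`-set checked on one element of prime order `r`
holds for all elements of order `r` when `r` divides the group order exactly once.
-/
import Mathlib

set_option autoImplicit false

namespace Cfsg.Agent.Lib.Helper6.PGSyl

variable {L : Type*} [Group L] [Finite L] {X : Type*} [MulAction L X] {A : Type*}

theorem invariant_zpowers (g : L) (f : X → A) (h : ∀ x, f (g • x) = f x) :
    ∀ y ∈ Subgroup.zpowers g, ∀ x, f (y • x) = f x := by
  have hinv : ∀ x, f (g⁻¹ • x) = f x := by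
    intro x
    have := h (g⁻¹ • x)
    rw [smul_inv_smul] at this
    exact this.symm
  have key : ∀ k : ℤ, ∀ x, f (g ^ k • x) = f x := by
    intro k
    induction k using Int.induction_on with
    | zero => intro x; rw [zpow_zero, one_smul]
    | succ i ih => intro x; rw [zpow_add_one, mul_smul, ih, h]
    | pred i ih => intro x; rw [zpow_sub_one, mul_smul, ih, hinv]
  rintro y ⟨k, rfl⟩
  exact key k

theorem const_of_sylow (r : ℕ) [hr : Fact r.Prime] (hfac : (Nat.card L).factorization r = 1)
    (g₀ : L) (hg₀ : orderOf g₀ = r) (C : Set (X → A))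
    (hC : ∀ g : L, ∀ f ∈ C, (fun x => f (g⁻¹ • x)) ∈ C)
    (h₀ : ∀ f ∈ C, (∀ x, f (g₀ • x) = f x) → ∀ x y, f x = f y) :
    ∀ g : L, orderOf g = r → ∀ f ∈ C, (∀ x, f (g • x) = f x) → ∀ x y, f x = f y := by
  intro g hg f hf hinv x y
  have hcard : ∀ z : L, orderOf z = r →
      Nat.card (Subgroup.zpowers z) = r ^ (Nat.card L).factorization r := by
    intro z hz
    rw [hfac, pow_one, Nat.card_zpowers, hz]
  let P : Sylow r L := Sylow.ofCard (Subgroup.zpowers g) (hcard g hg)
  let Q : Sylow r L := Sylow.ofCard (Subgroup.zpowers g₀) (hcard g₀ hg₀)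
  obtain ⟨c, hc⟩ := MulAction.exists_smul_eq L P Q
  have hmem : g₀ ∈ (Q : Subgroup L) := by
    show g₀ ∈ Subgroup.zpowers g₀
    exact Subgroup.mem_zpowers g₀
  rw [← hc, Sylow.coe_subgroup_smul, Subgroup.mem_pointwise_smul_iff_inv_smul_mem] at hmem
  have hmem' : c⁻¹ * g₀ * c ∈ Subgroup.zpowers g := by
    have : (MulAut.conj c)⁻¹ • g₀ = c⁻¹ * g₀ * c := by
      rw [MulAut.smul_def, MulAut.conj_inv_apply]
    rw [this] at hmem
    exact hmem
  have hinv' := invariant_zpowers g f hinv _ hmem'
  have hf' : (fun x => f (c⁻¹ • x)) ∈ C := hC c f hf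
  have hconst := h₀ _ hf' (by
    intro z
    show f (c⁻¹ • g₀ • z) = f (c⁻¹ • z)
    have := hinv' (c⁻¹ • z)
    rw [← this, mul_smul, mul_smul, smul_inv_smul])
  have := hconst (c • x) (c • y)
  simpa using this

end Cfsg.Agent.Lib.Helper6.PGSyl
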