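/-
Helper6 library: the 65 isotropic points of the Hermitian unital over `F16`, normalisation of
vectors, and the basic computational facts.
-/
import Mathlib
import Cfsg.Agent.Lib.Helper6.PGF16

set_option autoImplicit false
set_option maxRecDepth 100000

namespace Cfsg.Agent.Lib.Helper6.PGU34

open Cfsg.Agent.Lib.Helper6.PGF16

/-- vectors -/
abbrev V3 := Fin 3 → F16

/-- the Hermitian form `Σ uᵢ vᵢ⁴`, in computational form -/
def hermC (u v : V3) : F16 :=
  F16.add (F16.add (F16.mul (u 0) (F16.frob (v 0))) (F16.mul (u 1) (F16.frob (v 1))))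
    (F16.mul (u 2) (F16.frob (v 2)))

/-- the first nonzero coordinate -/
def lead (v : V3) : F16 := if v 0 ≠ 0 then v 0 else if v 1 ≠ 0 then v 1 else v 2

/-- normalisation: the first nonzero coordinate becomes one -/
def nrm (v : V3) : V3 := fun i => F16.mul (F16.inv (lead v)) (v i)

/-- decoding of vectors -/
def dec (c : ℕ) : V3 := ![toF (c % 16), toF (c / 16 % 16), toF (c / 256)]

/-- the codes of the 65 normalised isotropic vectors -/
def ptCode : List ℕ :=
  [272, 2064, 2576, 3088, 3856, 257, 2049, 2561, 3073, 3841, 17, 1057, 1313, 1569, 2337, 3617,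
   1073, 1329, 1585, 2353, 3633, 577, 833, 1857, 2881, 3393, 593, 849, 1873, 2897, 3409, 609, 865,
   1889, 2913, 3425, 1137, 1393, 1649, 2417, 3697, 129, 657, 913, 1937, 2961, 3473, 161, 1201,
   1457, 1713, 2481, 3761, 193, 1233, 1489, 1745, 2513, 3793, 737, 993, 2017, 3041, 3553, 241]

/-- the 65 points -/
def pt (i : Fin 65) : V3 := dec (ptCode.getD i.val 0)

/-- normalised isotropic vectors -/
def IsPt (v : V3) : Prop := lead v = 1 ∧ hermC v v = 0

instance (v : V3) : Decidable (IsPt v) := by unfold IsPt; infer_instance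

/-- the index of a point -/
def idx (v : V3) : Fin 65 := ((List.finRange 65).find? (fun i => decide (pt i = v))).getD 0

theorem idx_pt : ∀ i : Fin 65, idx (pt i) = i := by decide

theorem isPt_pt : ∀ i : Fin 65, IsPt (pt i) := by decide

theorem pt_idx_aux : ∀ a b c : F16, IsPt ![a, b, c] → pt (idx ![a, b, c]) = ![a, b, c] := by
  decide

theorem vec_eta (v : V3) : v = ![v 0, v 1, v 2] := by
  funext i
  fin_cases i <;> rfl

theorem pt_idx (v : V3) (hv : IsPt v) : pt (idx v) = v := by
  rw [vec_eta v] at hv ⊢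
  exact pt_idx_aux _ _ _ hv

end Cfsg.Agent.Lib.Helper6.PGU34
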