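/-
Helper6 library: blocks of the Hermitian unital over `F16`; every block has five points, and an
explicit nonconstant function with vanishing block sums.
-/
import Mathlib
import Cfsg.Agent.Lib.Helper6.PGU34A

set_option autoImplicit false
set_option maxRecDepth 100000

namespace Cfsg.Agent.Lib.Helper6.PGU34

open Cfsg.Agent.Lib.Helper6.PGF16

/-- the points orthogonal to `P` -/
def blkC (P : V3) : Finset (Fin 65) := Finset.univ.filter (fun i => hermC (pt i) P = 0)

theorem blk_card_aux : ∀ a b c : F16, lead ![a, b, c] = 1 → hermC ![a, b, c] ![a, b, c] ≠ 0 →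
    (blkC ![a, b, c]).card = 5 := by
  decide

/-- a nonconstant function with vanishing block sums -/
def fstarTab : List ℕ :=
  [0, 3, 3, 4, 0, 2, 1, 0, 2, 0, 0, 1, 4, 0, 2, 3, 1, 3, 0, 1, 0, 0, 0, 4, 3, 3, 0, 1, 3, 2, 4, 2,
   0, 4, 4, 0, 1, 1, 4, 2, 2, 0, 3, 4, 4, 1, 3, 0, 2, 2, 1, 0, 0, 0, 0, 0, 0, 0, 0, 0, 0, 0, 0, 0, 0]

/-- a nonconstant function with vanishing block sums -/
def fstar (i : Fin 65) : ZMod 5 := (Fin.ofNat 5 (fstarTab.getD i.val 0) : Fin 5)

theorem fstar_aux : ∀ a b c : F16, lead ![a, b, c] = 1 → hermC ![a, b, c] ![a, b, c] ≠ 0 →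
    ∑ i ∈ blkC ![a, b, c], fstar i = 0 := by
  decide

end Cfsg.Agent.Lib.Helper6.PGU34
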