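/-
Helper6 library: the action of `SU₃(4)` on the 65 isotropic points, invariance of the blocks.
-/
import Mathlib
import Cfsg.Agent.Lib.Helper6.PGU34B
import Cfsg.Agent.Lib.Helper6.PGMod
import Cfsg.Agent.Lib.Helper9.SU3Local

set_option autoImplicit false

namespace Cfsg.Agent.Lib.Helper6.PGU34

open Cfsg.Agent.Lib.Helper6.PGF16 Cfsg.Agent.Lib.Helper9.SU3Local Cfsg.Agent.Lib.Helper14 Matrix

theorem hermC_def (u v : V3) :
    hermC u v = u 0 * v 0 ^ 4 + u 1 * v 1 ^ 4 + u 2 * v 2 ^ 4 := by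
  rw [pow_four_eq, pow_four_eq, pow_four_eq]
  rfl

theorem hermC_eq (u v : V3) : hermC u v = Cfsg.hermForm 3 F16 4 u v := by
  rw [hermC_def]
  unfold Cfsg.hermForm
  rw [Fin.sum_univ_three]

theorem hermC_smul_left (c : F16) (u v : V3) : hermC (c • u) v = c * hermC u v := by
  simp only [hermC_def, Pi.smul_apply, smul_eq_mul]
  ring

theorem hermC_smul_right (c : F16) (u v : V3) : hermC u (c • v) = c ^ 4 * hermC u v := by
  simp only [hermC_def, Pi.smul_apply, smul_eq_mul, mul_pow]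
  ring

theorem nrm_eq (v : V3) : nrm v = (lead v)⁻¹ • v := rfl

theorem lead_eq_zero_iff (v : V3) : lead v = 0 ↔ v = 0 := by
  constructor
  · intro h
    unfold lead at h
    by_cases h0 : v 0 = 0
    · by_cases h1 : v 1 = 0
      · simp only [h0, h1, ne_eq, not_true_eq_false, if_false] at h
        funext i
        fin_cases i
        · exact h0
        · exact h1
        · exact h
      · simp only [h0, ne_eq, not_true_eq_false, if_false, h1, not_false_eq_true, if_true] at h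
    · simp only [ne_eq, h0, not_false_eq_true, if_true] at h
  · rintro rfl
    simp [lead]

theorem lead_smul (c : F16) (hc : c ≠ 0) (v : V3) : lead (c • v) = c * lead v := by
  unfold lead
  simp only [Pi.smul_apply, smul_eq_mul, ne_eq, mul_eq_zero, hc, false_or]
  by_cases h0 : v 0 = 0
  · by_cases h1 : v 1 = 0
    · simp [h0, h1]
    · simp [h0, h1]
  · simp [h0]

theorem nrm_smul (c : F16) (hc : c ≠ 0) (v : V3) : nrm (c • v) = nrm v := by
  rw [nrm_eq, nrm_eq, lead_smul c hc, smul_smul]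
  congr 1
  field_simp

theorem lead_nrm (v : V3) (hv : v ≠ 0) : lead (nrm v) = 1 := by
  have h : lead v ≠ 0 := fun h => hv ((lead_eq_zero_iff v).mp h)
  rw [nrm_eq, lead_smul _ (inv_ne_zero h), inv_mul_cancel₀ h]

theorem nrm_of_lead_eq_one (v : V3) (hv : lead v = 1) : nrm v = v := by
  rw [nrm_eq, hv, inv_one, one_smul]

theorem ne_zero_of_isPt {v : V3} (hv : IsPt v) : v ≠ 0 := by
  rintro rfl
  have := hv.1
  rw [(lead_eq_zero_iff 0).mpr rfl] at this
  exact zero_ne_one this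

/-- the group `SU₃(4)` over the model field -/
abbrev L34 := ↥(Cfsg.SU 3 F16 4)

theorem hermC_mulVec (g : L34) (u v : V3) : hermC (mat g *ᵥ u) (mat g *ᵥ v) = hermC u v := by
  rw [hermC_eq, hermC_eq]
  exact mat_isUni g u v

theorem mulVec_inv_mulVec (g : L34) (u : V3) : mat g⁻¹ *ᵥ (mat g *ᵥ u) = u := by
  rw [Matrix.mulVec_mulVec, mat_inv_mul, Matrix.one_mulVec]

theorem mulVec_mulVec_inv (g : L34) (u : V3) : mat g *ᵥ (mat g⁻¹ *ᵥ u) = u := by
  rw [Matrix.mulVec_mulVec, mat_mul_inv, Matrix.one_mulVec]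

theorem mulVec_ne_zero (g : L34) {u : V3} (hu : u ≠ 0) : mat g *ᵥ u ≠ 0 := by
  intro h
  apply hu
  rw [← mulVec_inv_mulVec g u, h, Matrix.mulVec_zero]

theorem isPt_nrm_mulVec (g : L34) {v : V3} (hv : IsPt v) : IsPt (nrm (mat g *ᵥ v)) := by
  have hne : mat g *ᵥ v ≠ 0 := mulVec_ne_zero g (ne_zero_of_isPt hv)
  refine ⟨lead_nrm _ hne, ?_⟩
  rw [nrm_eq, hermC_smul_left, hermC_smul_right, hermC_mulVec, hv.2, mul_zero, mul_zero]

/-- the action on point indices -/
def act (g : L34) (i : Fin 65) : Fin 65 := idx (nrm (mat g *ᵥ pt i))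

theorem pt_act (g : L34) (i : Fin 65) : pt (act g i) = nrm (mat g *ᵥ pt i) :=
  pt_idx _ (isPt_nrm_mulVec g (isPt_pt i))

instance : MulAction L34 (Fin 65) where
  smul := act
  one_smul i := by
    show act 1 i = i
    unfold act
    rw [mat_one, Matrix.one_mulVec, nrm_of_lead_eq_one _ (isPt_pt i).1, idx_pt]
  mul_smul g h i := by
    show act (g * h) i = act g (act h i)
    have hne : mat h *ᵥ pt i ≠ 0 := mulVec_ne_zero h (ne_zero_of_isPt (isPt_pt i))
    have hl : lead (mat h *ᵥ pt i) ≠ 0 := fun h0 => hne ((lead_eq_zero_iff _).mp h0)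
    unfold act
    rw [pt_idx _ (isPt_nrm_mulVec h (isPt_pt i)), nrm_eq (mat h *ᵥ pt i), Matrix.mulVec_smul,
      nrm_smul _ (inv_ne_zero hl), Matrix.mulVec_mulVec, mat_mul]

theorem smul_def (g : L34) (i : Fin 65) : g • i = act g i := rfl

/-- the coordinates of the image point -/
theorem pt_smul (g : L34) (i : Fin 65) :
    ∃ c : F16, c ≠ 0 ∧ pt (g • i) = c • (mat g *ᵥ pt i) := by
  have hne : mat g *ᵥ pt i ≠ 0 := mulVec_ne_zero g (ne_zero_of_isPt (isPt_pt i))
  have hl : lead (mat g *ᵥ pt i) ≠ 0 := fun h0 => hne ((lead_eq_zero_iff _).mp h0)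
  exact ⟨_, inv_ne_zero hl, by rw [smul_def, pt_act, nrm_eq]⟩

/-- the index type of the blocks: nonisotropic vectors -/
abbrev NonIso := {P : V3 // hermC P P ≠ 0}

/-- the blocks -/
def blk (P : NonIso) : Finset (Fin 65) := blkC P.1

theorem mem_blk (P : NonIso) (i : Fin 65) : i ∈ blk P ↔ hermC (pt i) P.1 = 0 := by
  unfold blk blkC
  rw [Finset.mem_filter]
  simp

theorem blkInv : PGMod.BlkInv L34 blk := by
  intro g P
  refine ⟨⟨mat g⁻¹ *ᵥ P.1, ?_⟩, ?_⟩
  · rw [hermC_mulVec]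
    exact P.2
  · intro i
    rw [mem_blk, mem_blk]
    obtain ⟨c, hc, hpt⟩ := pt_smul g i
    rw [hpt, hermC_smul_left]
    show c * hermC (mat g *ᵥ pt i) P.1 = 0 ↔ hermC (pt i) (mat g⁻¹ *ᵥ P.1) = 0
    rw [← hermC_mulVec g (pt i) (mat g⁻¹ *ᵥ P.1), mulVec_mulVec_inv, mul_eq_zero]
    constructor
    · intro h
      exact h.resolve_left hc
    · intro h
      exact Or.inr h

/-- blocks only depend on the point -/
theorem blkC_nrm (P : V3) (hP : P ≠ 0) : blkC (nrm P) = blkC P := by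
  have hl : lead P ≠ 0 := fun h0 => hP ((lead_eq_zero_iff _).mp h0)
  unfold blkC
  apply Finset.filter_congr
  intro i _
  rw [nrm_eq, hermC_smul_right, mul_eq_zero]
  constructor
  · intro h
    exact h.resolve_left (pow_ne_zero _ (inv_ne_zero hl))
  · intro h
    exact Or.inr h

theorem nonIso_ne_zero (P : NonIso) : P.1 ≠ 0 := by
  intro h
  apply P.2
  rw [h, hermC_def]
  simp

theorem nrm_nonIso (P : NonIso) : lead (nrm P.1) = 1 ∧ hermC (nrm P.1) (nrm P.1) ≠ 0 := by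
  have hP := nonIso_ne_zero P
  have hl : lead P.1 ≠ 0 := fun h0 => hP ((lead_eq_zero_iff _).mp h0)
  refine ⟨lead_nrm _ hP, ?_⟩
  rw [nrm_eq, hermC_smul_left, hermC_smul_right]
  exact mul_ne_zero (inv_ne_zero hl) (mul_ne_zero (pow_ne_zero _ (inv_ne_zero hl)) P.2)

theorem blk_card (P : NonIso) : (blk P).card = 5 := by
  obtain ⟨h1, h2⟩ := nrm_nonIso P
  unfold blk
  rw [← blkC_nrm _ (nonIso_ne_zero P)]
  rw [vec_eta (nrm P.1)] at h1 h2 ⊢
  exact blk_card_aux _ _ _ h1 h2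

theorem blk_const (P : NonIso) : (((blk P).card : ℕ) : ZMod 5) = 0 := by
  rw [blk_card]
  rfl

theorem fstar_mem : fstar ∈ PGMod.dualCode 5 blk := by
  intro P
  obtain ⟨h1, h2⟩ := nrm_nonIso P
  unfold blk
  rw [← blkC_nrm _ (nonIso_ne_zero P)]
  rw [vec_eta (nrm P.1)] at h1 h2 ⊢
  exact fstar_aux _ _ _ h1 h2

theorem fstar_mem_W0 : fstar ∈ PGMod.W0 5 blk (0 : Fin 65) := ⟨fstar_mem, by decide⟩

theorem fstar_ne_zero : fstar ≠ 0 := by
  intro h
  have := congrFun h 1
  revert this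
  decide

end Cfsg.Agent.Lib.Helper6.PGU34
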