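/-
Helper6 library: explicit elements of `SU₃(4)` over the model field: an element of order 13 and its
action on the 65 points; invariant functions in the dual code are constant.
-/
import Mathlib
import Cfsg.Agent.Lib.Helper6.PGU34C
import Cfsg.Agent.Lib.Helper9.SU3SpecD

set_option autoImplicit false
set_option maxRecDepth 100000

namespace Cfsg.Agent.Lib.Helper6.PGU34

open Cfsg.Agent.Lib.Helper6.PGF16 Cfsg.Agent.Lib.Helper9.SU3Local Cfsg.Agent.Lib.Helper14 Matrix

theorem card16 : Fintype.card F16 = 4 ^ 2 := by decide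

/-- matrices from lists of codes -/
def mkM (l : List ℕ) : Matrix (Fin 3) (Fin 3) F16 :=
  Matrix.of fun i j => toF (l.getD (3 * i.val + j.val) 0)

/-- elements of `SU₃(4)` from matrices -/
def mkL (M : Matrix (Fin 3) (Fin 3) F16) (hU : (Mᵀ.map (fun x => x ^ 4)) * M = 1)
    (hd : M.det = 1) : L34 :=
  ⟨⟨M, hd⟩, (mem_SU_iff _).mpr (Cfsg.Agent.Lib.Helper9.SU3SpecD.isUni_of_mul_eq_one card16 M hU)⟩

theorem mat_mkL (M : Matrix (Fin 3) (Fin 3) F16) (hU : (Mᵀ.map (fun x => x ^ 4)) * M = 1)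
    (hd : M.det = 1) : mat (mkL M hU hd) = M := rfl

theorem mkL_pow_eq_one_iff (M : Matrix (Fin 3) (Fin 3) F16)
    (hU : (Mᵀ.map (fun x => x ^ 4)) * M = 1) (hd : M.det = 1) (n : ℕ) :
    (mkL M hU hd) ^ n = 1 ↔ M ^ n = 1 := by
  constructor
  · intro h
    have := congrArg mat h
    rwa [mat_pow, mat_mkL, mat_one] at this
  · intro h
    apply mat_injective
    rw [mat_pow, mat_mkL, mat_one, h]

/-- a matrix of order 13 -/
def M13 : Matrix (Fin 3) (Fin 3) F16 := mkM [0, 9, 11, 2, 10, 11, 9, 4, 1]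

theorem M13_uni : (M13ᵀ.map (fun x => x ^ 4)) * M13 = 1 := by decide

theorem M13_det : M13.det = 1 := by
  rw [Matrix.det_fin_three]
  decide

/-- an element of order 13 -/
def g13 : L34 := mkL M13 M13_uni M13_det

theorem M13_pow : M13 ^ 13 = 1 := by decide

theorem M13_ne : M13 ≠ 1 := by decide

theorem orderOf_g13 : orderOf g13 = 13 := by
  haveI : Fact (Nat.Prime 13) := ⟨by norm_num⟩
  apply orderOf_eq_prime
  · exact (mkL_pow_eq_one_iff _ _ _ _).mpr M13_pow
  · intro h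
    have := congrArg mat h
    rw [mat_one] at this
    exact M13_ne this

/-- the permutation of the points induced by `g13` -/
def sigTab : List ℕ :=
  [45, 23, 60, 26, 35, 52, 56, 6, 44, 59, 19, 31, 0, 57, 13, 46, 51, 64, 7, 22, 4, 17, 37, 55, 12,
   49, 28, 38, 16, 62, 8, 53, 36, 25, 50, 32, 2, 9, 41, 29, 54, 61, 58, 39, 34, 47, 30, 11, 18, 24,
   27, 1, 15, 42, 63, 48, 3, 20, 33, 43, 40, 5, 21, 14, 10]

/-- the permutation of the points induced by `g13` -/
def sig (i : Fin 65) : Fin 65 := Fin.ofNat 65 (sigTab.getD i.val 0)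

theorem act_g13 : ∀ i : Fin 65, act g13 i = sig i := by decide

/-- the orbit numbers -/
def orbTab : List ℕ :=
  [0, 1, 2, 1, 2, 3, 1, 1, 3, 4, 4, 0, 0, 2, 2, 3, 1, 4, 1, 4, 2, 4, 4, 1, 0, 0, 1, 3, 1, 4, 3, 0, 2,
   0, 3, 2, 2, 4, 3, 4, 2, 3, 0, 4, 3, 0, 3, 0, 1, 0, 3, 1, 3, 0, 2, 1, 1, 2, 0, 4, 2, 3, 4, 2, 4]

/-- the orbit numbers -/
def orb (i : Fin 65) : Fin 5 := Fin.ofNat 5 (orbTab.getD i.val 0)

/-- orbit representatives -/
def rep (k : Fin 5) : Fin 65 := Fin.ofNat 65 ([0, 1, 2, 5, 9].getD k.val 0)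

theorem orbit_cover : ∀ i : Fin 65, ∃ k : Fin 13, sig^[k.val] (rep (orb i)) = i := by decide

theorem blk1 : blkC (dec 256) = {10, 41, 47, 53, 64} := by decide
theorem blk2 : blkC (dec 528) = {25, 27, 31, 44, 62} := by decide
theorem blk3 : blkC (dec 1537) = {23, 28, 33, 44, 61} := by decide
theorem blk4 : blkC (dec 3600) = {11, 18, 40, 49, 57} := by decide

theorem nonIso1 : hermC (dec 256) (dec 256) ≠ 0 := by decide
theorem nonIso2 : hermC (dec 528) (dec 528) ≠ 0 := by decide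
theorem nonIso3 : hermC (dec 1537) (dec 1537) ≠ 0 := by decide
theorem nonIso4 : hermC (dec 3600) (dec 3600) ≠ 0 := by decide

theorem solve_aux : ∀ a0 a1 a2 a3 a4 : ZMod 5,
    a4 + (a3 + (a0 + (a0 + a4))) = 0 → a0 + (a3 + (a0 + (a3 + a4))) = 0 →
    a1 + (a1 + (a0 + (a3 + a3))) = 0 → a0 + (a1 + (a2 + (a0 + a2))) = 0 →
    a1 = a0 ∧ a2 = a0 ∧ a3 = a0 ∧ a4 = a0 := by decide

theorem sum_five (f : Fin 65 → ZMod 5) (a b c d e : Fin 65) (h1 : a ∉ ({b, c, d, e} : Finset (Fin 65)))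
    (h2 : b ∉ ({c, d, e} : Finset (Fin 65))) (h3 : c ∉ ({d, e} : Finset (Fin 65)))
    (h4 : d ∉ ({e} : Finset (Fin 65))) :
    ∑ i ∈ ({a, b, c, d, e} : Finset (Fin 65)), f i = f a + (f b + (f c + (f d + f e))) := by
  rw [Finset.sum_insert h1, Finset.sum_insert h2, Finset.sum_insert h3, Finset.sum_insert h4,
    Finset.sum_singleton]

/-- a function in the dual code invariant under `g13` is constant -/
theorem const_of_invariant (f : Fin 65 → ZMod 5) (hf : f ∈ PGMod.dualCode 5 blk)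
    (hinv : ∀ i : Fin 65, f (g13 • i) = f i) : ∀ i j : Fin 65, f i = f j := by
  have h1 : ∀ i, f (sig i) = f i := by
    intro i
    rw [← act_g13 i]
    exact hinv i
  have h2 : ∀ (k : ℕ) (i : Fin 65), f (sig^[k] i) = f i := by
    intro k
    induction k with
    | zero => intro i; rfl
    | succ k ih => intro i; rw [Function.iterate_succ_apply', h1, ih]
  have h3 : ∀ i, f i = f (rep (orb i)) := by
    intro i
    obtain ⟨k, hk⟩ := orbit_cover i
    rw [← h2 k.val (rep (orb i)), hk]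
  have e1 := hf ⟨dec 256, nonIso1⟩
  have e2 := hf ⟨dec 528, nonIso2⟩
  have e3 := hf ⟨dec 1537, nonIso3⟩
  have e4 := hf ⟨dec 3600, nonIso4⟩
  unfold blk at e1 e2 e3 e4
  simp only at e1 e2 e3 e4
  rw [blk1, sum_five f _ _ _ _ _ (by decide) (by decide) (by decide) (by decide)] at e1
  rw [blk2, sum_five f _ _ _ _ _ (by decide) (by decide) (by decide) (by decide)] at e2
  rw [blk3, sum_five f _ _ _ _ _ (by decide) (by decide) (by decide) (by decide)] at e3
  rw [blk4, sum_five f _ _ _ _ _ (by decide) (by decide) (by decide) (by decide)] at e4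
  rw [h3 10, h3 41, h3 47, h3 53, h3 64] at e1
  rw [h3 25, h3 27, h3 31, h3 44, h3 62] at e2
  rw [h3 23, h3 28, h3 33, h3 44, h3 61] at e3
  rw [h3 11, h3 18, h3 40, h3 49, h3 57] at e4
  have key := solve_aux (f (rep 0)) (f (rep 1)) (f (rep 2)) (f (rep 3)) (f (rep 4)) e1 e2 e3 e4
  have h4 : ∀ k : Fin 5, f (rep k) = f (rep 0) := by
    intro k
    fin_cases k
    · rfl
    · exact key.1
    · exact key.2.1
    · exact key.2.2.1
    · exact key.2.2.2
  intro i j
  rw [h3 i, h3 j, h4, h4 (orb j)]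

end Cfsg.Agent.Lib.Helper6.PGU34
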