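/-
Helper6 library: arbitrarily large groups with the prime graph of `SU₃(4)` (over the model field).
-/
import Mathlib
import Cfsg.Agent.Lib.Helper6.PGU34D
import Cfsg.Agent.Lib.Helper6.PGMain
import Cfsg.Agent.Lib.Helper6.PGSyl
import Cfsg.Agent.Lib.Helper6.PGLarge
import Cfsg.Agent.Lib.Helper18.SU3Sylow

set_option autoImplicit false
set_option maxRecDepth 100000

namespace Cfsg.Agent.Lib.Helper6.PGU34

open Cfsg.Agent.Lib.Helper6.PGF16 Cfsg.Agent.Lib.Helper9.SU3Local Cfsg.Agent.Lib.Helper14 Matrix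

/-- a matrix of order 10 -/
def M10 : Matrix (Fin 3) (Fin 3) F16 := mkM [0, 0, 1, 0, 8, 0, 15, 0, 0]

theorem M10_uni : (M10ᵀ.map (fun x => x ^ 4)) * M10 = 1 := by decide

theorem M10_det : M10.det = 1 := by
  rw [Matrix.det_fin_three]
  decide

/-- an element of order 10 -/
def g10 : L34 := mkL M10 M10_uni M10_det

theorem M10_pow : M10 ^ 10 = 1 := by decide
theorem M10_pow5 : M10 ^ 5 ≠ 1 := by decide
theorem M10_pow2 : M10 ^ 2 ≠ 1 := by decide

theorem orderOf_g10 : orderOf g10 = 10 := by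
  apply orderOf_eq_of_pow_and_pow_div_prime (by norm_num)
  · exact (mkL_pow_eq_one_iff _ _ _ _).mpr M10_pow
  · intro p hp hd
    unfold g10
    rw [Ne, mkL_pow_eq_one_iff]
    rcases (Nat.Prime.dvd_mul hp).mp (show p ∣ 2 * 5 from hd) with h | h
    · rw [(Nat.prime_dvd_prime_iff_eq hp Nat.prime_two).mp h]
      exact M10_pow5
    · rw [(Nat.prime_dvd_prime_iff_eq hp Nat.prime_five).mp h]
      exact M10_pow2

/-- a matrix of order 15 -/
def M15 : Matrix (Fin 3) (Fin 3) F16 := mkM [0, 0, 1, 2, 4, 0, 5, 3, 0]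

theorem M15_uni : (M15ᵀ.map (fun x => x ^ 4)) * M15 = 1 := by decide

theorem M15_det : M15.det = 1 := by
  rw [Matrix.det_fin_three]
  decide

/-- an element of order 15 -/
def g15 : L34 := mkL M15 M15_uni M15_det

theorem M15_pow : M15 ^ 15 = 1 := by decide
theorem M15_pow5 : M15 ^ 5 ≠ 1 := by decide
theorem M15_pow3 : M15 ^ 3 ≠ 1 := by decide

theorem orderOf_g15 : orderOf g15 = 15 := by
  apply orderOf_eq_of_pow_and_pow_div_prime (by norm_num)
  · exact (mkL_pow_eq_one_iff _ _ _ _).mpr M15_pow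
  · intro p hp hd
    unfold g15
    rw [Ne, mkL_pow_eq_one_iff]
    rcases (Nat.Prime.dvd_mul hp).mp (show p ∣ 3 * 5 from hd) with h | h
    · rw [(Nat.prime_dvd_prime_iff_eq hp Nat.prime_three).mp h]
      exact M15_pow5
    · rw [(Nat.prime_dvd_prime_iff_eq hp Nat.prime_five).mp h]
      exact M15_pow3

theorem card_L34 : Nat.card L34 = 62400 := by
  rw [Cfsg.Agent.Lib.Helper18.SU3Model.card_SU3 card16]
  norm_num

instance : Finite L34 := Nat.finite_of_card_ne_zero (by rw [card_L34]; norm_num)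

theorem prime_dvd_card {a : ℕ} (ha : a.Prime) (h : a ∣ 62400) : a = 2 ∨ a = 3 ∨ a = 5 ∨ a = 13 := by
  have e : 62400 = 2 ^ 6 * 3 * 5 ^ 2 * 13 := by norm_num
  rw [e] at h
  rcases (Nat.Prime.dvd_mul ha).mp h with h | h
  · rcases (Nat.Prime.dvd_mul ha).mp h with h | h
    · rcases (Nat.Prime.dvd_mul ha).mp h with h | h
      · left
        exact (Nat.prime_dvd_prime_iff_eq ha Nat.prime_two).mp (ha.dvd_of_dvd_pow h)
      · right; left
        exact (Nat.prime_dvd_prime_iff_eq ha Nat.prime_three).mp h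
    · right; right; left
      exact (Nat.prime_dvd_prime_iff_eq ha Nat.prime_five).mp (ha.dvd_of_dvd_pow h)
  · right; right; right
    exact (Nat.prime_dvd_prime_iff_eq ha (by norm_num)).mp h

theorem factorization_13 : (Nat.card L34).factorization 13 = 1 := by
  rw [card_L34]
  have e : 62400 = 13 * 4800 := by norm_num
  have h13 : Nat.Prime 13 := by norm_num
  rw [e, Nat.factorization_mul (by norm_num) (by norm_num), Finsupp.add_apply,
    h13.factorization_self, Nat.factorization_eq_zero_of_not_dvd (by norm_num)]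

/-- elements of order 13 have no nonzero fixed points -/
theorem fpf13 (l : L34) (hl : orderOf l = 13) (f : Fin 65 → ZMod 5)
    (hf : f ∈ PGMod.W0 5 blk (0 : Fin 65)) (hfix : PGMod.tw 5 (0 : Fin 65) l f = f) : f = 0 := by
  have : Fact (Nat.Prime 13) := ⟨by norm_num⟩
  have hl13 : l ^ 13 = 1 := by rw [← hl]; exact pow_orderOf_eq_one l
  have hinv := PGMod.invariant_of_tw_eq (0 : Fin 65) Nat.prime_five (r := 13) (by norm_num) l hl13
    f hfix
  have hconst := PGSyl.const_of_sylow (L := L34) (X := Fin 65) 13 factorization_13 g13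
    orderOf_g13 {f | f ∈ PGMod.dualCode 5 blk}
    (fun g f hf => PGMod.translate_mem blkInv g hf)
    (fun f hf hi => const_of_invariant f hf hi) l hl f hf.1 hinv
  funext i
  rw [hconst i 0, hf.2]
  rfl

theorem model_large (N : ℕ) :
    ∃ (H : Type) (_ : Group H) (_ : Finite H), N < Nat.card H ∧
      (∀ q : ℕ, q.Prime → (q ∣ Nat.card L34 ↔ q ∣ Nat.card H)) ∧
      (∀ a b : ℕ, a.Prime → b.Prime → a ≠ b →
        ((∃ l : L34, orderOf l = a * b) ↔ ∃ x : H, orderOf x = a * b)) := by
  obtain ⟨G₀, hG, hfin, V, hVn, hV, hexp, hpr, hed⟩ :=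
    PGMod.exists_group (L := L34) (X := Fin 65) (p := 5) (blk := blk) (0 : Fin 65) Nat.prime_five
      (by rw [card_L34]; norm_num) blkInv blk_const ⟨fstar, fstar_mem_W0, fstar_ne_zero⟩
      (by
        intro a ha ha5 l hl hex
        have hd : a ∣ 62400 := by
          rw [← card_L34, ← hl]
          exact orderOf_dvd_natCard l
        rcases prime_dvd_card ha hd with rfl | rfl | rfl | rfl
        · exact ⟨g10, orderOf_g10⟩
        · exact ⟨g15, orderOf_g15⟩
        · exact absurd rfl ha5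
        · obtain ⟨f, hf, hf0, hfix⟩ := hex
          exact absurd (fpf13 l hl f hf hfix) hf0)
  exact PGLarge.exists_large 5 Nat.prime_five V hV hexp hpr hed N

end Cfsg.Agent.Lib.Helper6.PGU34
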