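/-
helper6: S4711 support, part A.  The principal block over a normal subgroup `H` of a finite
group `G` that contains a Sylow `p`-subgroup `P` of `G` together with its centralizer: every
irreducible character of `G` lying over a member of the principal block of `H` lies in the
principal block of `G`.
-/
import Mathlib
import Cfsg.Agent.Lib.Lead.OddIndexBlock
import Cfsg.Agent.Lib.Helper6.ThirdMain
import Cfsg.Agent.Lib.Helper6.Osima
import Cfsg.Agent.Lib.Helper24.LocalRing
import Cfsg.Agent.S4438
import Cfsg.Agent.S0929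
import Cfsg.Agent.S4652

set_option autoImplicit false

namespace Cfsg.Agent.Lib.Helper6.PLenBlk

open Cfsg Cfsg.Agent.CharLib Cfsg.Agent.Lib.Helper24 Cfsg.Agent.Lib.Helper6
open scoped ComplexConjugate

universe u

section
variable {G : Type u} [Group G] [Fintype G]

/-- A defect group is a `p`-group. -/
theorem isPGroup_of_isDefectGroup {p : ℕ} {M : Ideal AlgInt} {B : Set (IrrCharacter G)}
    {D : Subgroup G} (hD : IsDefectGroup p M B D) : IsPGroup p D := by
  obtain ⟨g, -, S, rfl⟩ := hD
  have h1 : IsPGroup p (S : Subgroup (Subgroup.centralizer ({g} : Set G))) := S.isPGroup'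
  exact h1.map _

/-- **Unique covering of the principal block**: if the normal subgroup `H` contains a Sylow
`p`-subgroup `P` of `G` and its centralizer, every irreducible character of `G` lying over a
member of the principal block of `H` lies in the principal block of `G`. -/
theorem mem_principalBlock_of_over_of_centralizer_le {p : ℕ} [hpp : Fact p.Prime]
    {M : Ideal AlgInt} (hM : IsPModular p M) (H : Subgroup G) [hH : H.Normal] [Fintype H]
    (P : Sylow p G) (hPH : (P : Subgroup G) ≤ H)
    (hC : Subgroup.centralizer ((P : Subgroup G) : Set G) ≤ H)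
    (χ : IrrCharacter G) (θ : IrrCharacter H)
    (hover : classInner (fun n : H => (χ : G → ℂ) n) (θ : H → ℂ) ≠ 0)
    (hθ : θ ∈ principalBlock M H) : χ ∈ principalBlock M G := by
  classical
  have hprime : M.IsPrime := isPrime_of_isPModular hM
  have hM1 := one_not_mem_of_isPModular hM
  let _ : Fintype (ConjClasses G) := Fintype.ofFinite _
  -- the block of `χ` and its defect group
  set B : Set (IrrCharacter G) := blockOf M (χ : G → ℂ) with hBdef
  have hB : IsPBlock M B := ⟨χ, rfl⟩
  have hχB : χ ∈ B := by
    intro g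
    rw [sub_self]
    exact memLocalIdeal_zero hM1
  have hb : IsPBlock M (principalBlock M H) := ⟨Cfsg.Agent.CharLib.trivIrr H, rfl⟩
  have hQ : IsDefectGroup p M (principalBlock M H) ((P : Subgroup G).subgroupOf H) := by
    rw [Cfsg.Agent.S4652.result p M hM]
    exact ⟨P.subtype hPH, Sylow.coe_subtype P hPH⟩
  obtain ⟨D, hD, hDH⟩ := Cfsg.Agent.S4438.result p M hM H (principalBlock M H) hb
    (P : Subgroup G) hPH hQ B hB ⟨χ, hχB, θ, hθ, hover⟩
  have hPD : (P : Subgroup G) ≤ D := by
    rw [← hDH]
    exact inf_le_left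
  have hDP : D = (P : Subgroup G) := P.is_maximal' (isPGroup_of_isDefectGroup hD) hPD
  -- central characters vanish mod `M` outside `H`
  have hout : ∀ g : G, g ∉ H → MemLocalIdeal M (centralChar (χ : G → ℂ) g) := by
    intro g hg
    by_contra hne
    obtain ⟨x, hgx, hx, -⟩ := Cfsg.Agent.S0929.result p M hM B hB D hD g ⟨χ, hχB, hne⟩
    rw [hDP] at hx
    have hxH : x ∈ H := hC hx
    obtain ⟨c, hc⟩ := isConj_iff.mp hgx
    apply hg
    have h1 : g = c⁻¹ * x * c⁻¹⁻¹ := by
      rw [← hc]
      group
    rw [h1]
    exact hH.conj_mem x hxH c⁻¹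
  -- split the indicator of the `p`-regular elements
  rw [mem_principalBlock_iff hM χ]
  set aH : H → ℂ := pRegInd p with haH
  have hainv : ∀ (g : G) (n : H), aH (conjN H g n) = aH n := by
    intro g n
    rw [haH]
    unfold pRegInd
    have : orderOf (conjN H g n) = orderOf n := by
      rw [← Subgroup.orderOf_coe, ← Subgroup.orderOf_coe]
      exact orderOf_conj_eq g (n : G)
    rw [this]
  set a₁ : G → ℂ := extN H aH with ha₁
  set a₂ : G → ℂ := pRegInd p - a₁ with ha₂
  have hsplit : (pRegInd p : G → ℂ) = a₁ + a₂ := by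
    rw [ha₂]
    ring
  have ha₁cls : IsClassFunction G a₁ := extN_isClassFunction H hainv
  have ha₂cls : IsClassFunction G a₂ := by
    intro g h
    rw [ha₂]
    simp only [Pi.sub_apply]
    rw [pRegInd_isClassFunction p g h, ha₁cls g h]
  have h1 : omegaFun (χ : G → ℂ) a₁ = omegaFun (θ : H → ℂ) (pRegInd p) := by
    rw [ha₁, omegaFun_extN, omega_restrict_eq H χ.2 θ.2 hover aH hainv]
    rfl
  have h1' : ¬ MemLocalIdeal M (omegaFun (χ : G → ℂ) a₁) := by
    rw [h1]
    exact (mem_principalBlock_iff hM θ).mp hθ
  have h2 : MemLocalIdeal M (omegaFun (χ : G → ℂ) a₂) := by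
    rw [omegaFun_eq_sum_conjClasses χ ha₂cls]
    apply sum_memLocalIdeal
    intro C _
    by_cases hCH : Quotient.out C ∈ H
    · have h0 : a₂ (Quotient.out C) = 0 := by
        rw [ha₂]
        simp only [Pi.sub_apply]
        have h3 : a₁ (Quotient.out C) = aH ⟨Quotient.out C, hCH⟩ :=
          extN_apply_mem H aH ⟨Quotient.out C, hCH⟩
        rw [h3, haH]
        unfold pRegInd
        simp only [Subgroup.orderOf_mk]
        ring
      rw [h0, zero_mul]
      exact memLocalIdeal_zero hM1
    · apply memLocalIdeal_mul_left _ (hout _ hCH)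
      rw [ha₂]
      simp only [Pi.sub_apply]
      rw [ha₁, extN_apply_not_mem H aH hCH, sub_zero]
      exact memLocalRing_pRegInd p _
  rw [hsplit, omegaFun_add]
  intro hmem
  apply h1'
  have := memLocalIdeal_sub hmem h2
  rwa [add_sub_cancel_right] at this

end

end Cfsg.Agent.Lib.Helper6.PLenBlk
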