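/-
helper6: S4711 support, part B.  Counting in the principal block:
* a trivial constituent on a normal subgroup puts the subgroup into the kernel;
* if the members of the principal block restrict irreducibly to `N_G(P)`, then
  `λ(G) = |P| · Σ χ(1)²` over the members with `P` in the kernel;
* `λ(G) = |G : H| λ(H)` when the normal subgroup `H` contains `P C_G(P)`.
-/
import Mathlib
import Cfsg.Agent.Lib.Helper6.PLenBlkA
import Cfsg.Agent.Lib.Helper6.Osima2
import Cfsg.Agent.S4708

set_option autoImplicit false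

namespace Cfsg.Agent.Lib.Helper6.PLenBlk

open Cfsg Cfsg.Agent.CharLib Cfsg.Agent.Lib.Helper24 Cfsg.Agent.Lib.Helper6
open scoped ComplexConjugate

universe u

section
variable {G : Type u} [Group G] [Fintype G]

/-- If the values of an irreducible character on a normal subgroup do not sum to zero, the
subgroup lies in the kernel. -/
theorem apply_eq_of_sum_ne_zero (N : Subgroup G) [N.Normal] [Fintype N]
    {χ : G → ℂ} (hχ : IsIrrCharacter G χ) (h : ∑ n : N, χ n ≠ 0) : ∀ n ∈ N, χ n = χ 1 := by
  classical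
  have h1 : classInner (resFun N χ) (1 : N → ℂ) ≠ 0 := by
    unfold classInner
    apply mul_ne_zero
    · exact inv_ne_zero (Nat.cast_ne_zero.mpr Nat.card_pos.ne')
    · simpa [resFun_apply] using h
  have h3 := clifford_of_invariant N hχ (isIrrCharacter_one N) h1 (fun g => rfl)
  intro n hn
  have h4 := congrFun h3 ⟨n, hn⟩
  have h5 := congrFun h3 1
  rw [resFun_apply, Pi.smul_apply] at h4 h5
  change χ n = _ at h4
  change χ 1 = _ at h5
  rw [h4, h5]
  rfl

open Classical in
/-- The sum of the values over a Sylow subgroup of a character restricting irreducibly to the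
normalizer. -/
theorem sum_sylow_eq {p : ℕ} [Fact p.Prime] (P : Sylow p G) [Fintype (P : Subgroup G)]
    (χ : IrrCharacter G)
    (hirr : IsIrrCharacter ↥(Subgroup.normalizer ((P : Subgroup G) : Set G))
      (fun n : ↥(Subgroup.normalizer ((P : Subgroup G) : Set G)) => (χ : G → ℂ) n)) :
    ∑ x : (P : Subgroup G), (χ : G → ℂ) x =
      if (∀ x ∈ (P : Subgroup G), (χ : G → ℂ) x = (χ : G → ℂ) 1) then
        (Nat.card (P : Subgroup G) : ℂ) * (χ : G → ℂ) 1 else 0 := by
  classical
  split_ifs with hk
  · rw [Finset.sum_congr rfl (fun (x : (P : Subgroup G)) _ => hk (x : G) x.2), Finset.sum_const, Finset.card_univ,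
      nsmul_eq_mul, Nat.card_eq_fintype_card]
  · by_contra hne
    apply hk
    set NP := Subgroup.normalizer ((P : Subgroup G) : Set G) with hNP
    let _ : Fintype NP := Fintype.ofFinite _
    have hle : (P : Subgroup G) ≤ NP := Subgroup.le_normalizer
    set P' : Subgroup NP := (P : Subgroup G).subgroupOf NP with hP'
    have hP'n : P'.Normal := Subgroup.normal_in_normalizer
    let _ : Fintype P' := Fintype.ofFinite _
    have hsum : ∑ n : P', (fun n : NP => (χ : G → ℂ) n) n = ∑ x : (P : Subgroup G), (χ : G → ℂ) x := by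
      apply Fintype.sum_equiv (Subgroup.subgroupOfEquivOfLe hle).toEquiv
      intro n
      rfl
    have h1 := apply_eq_of_sum_ne_zero P' hirr (by rw [hsum]; exact hne)
    intro x hx
    have h2 := h1 ⟨x, hle hx⟩ (by rw [hP', Subgroup.mem_subgroupOf]; exact hx)
    exact h2

end

section lambda
variable {G : Type u} [Group G] [Fintype G]

/-- **The degree-square sum of the principal block under irreducible restriction to `N_G(P)`.** -/
theorem lambda_eq_card_mul {p : ℕ} [hpp : Fact p.Prime] {M : Ideal AlgInt} (hM : IsPModular p M)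
    (P : Sylow p G)
    (hirr : ∀ χ ∈ principalBlock M G,
      IsIrrCharacter ↥(Subgroup.normalizer ((P : Subgroup G) : Set G))
        (fun n : ↥(Subgroup.normalizer ((P : Subgroup G) : Set G)) => (χ : G → ℂ) n)) :
    ∑ᶠ χ ∈ principalBlock M G, charDegree (χ : G → ℂ) ^ 2 =
      Nat.card (P : Subgroup G) *
        ∑ᶠ χ ∈ {χ : IrrCharacter G | χ ∈ principalBlock M G ∧
            ∀ x ∈ (P : Subgroup G), (χ : G → ℂ) x = (χ : G → ℂ) 1},
          charDegree (χ : G → ℂ) ^ 2 := by
  classical
  let _ : Fintype (IrrCharacter G) := fintypeIrr G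
  let _ : Fintype (P : Subgroup G) := Fintype.ofFinite _
  set B := principalBlock M G with hBdef
  have hB : B = blockOf M ((Cfsg.Agent.CharLib.trivIrr G : IrrCharacter G) : G → ℂ) := rfl
  have hvan : ∀ x : (P : Subgroup G), x ≠ 1 → blockCoeff B (x : G) = 0 := by
    intro x hx
    rw [hB]
    apply blockCoeff_eq_zero_of_dvd_orderOf hM
    obtain ⟨k, hk⟩ := (IsPGroup.iff_orderOf.mp P.isPGroup') x
    rw [Subgroup.orderOf_coe, hk]
    have hk0 : k ≠ 0 := by
      intro h0
      rw [h0, pow_zero, orderOf_eq_one_iff] at hk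
      exact hx hk
    exact dvd_pow_self p hk0
  have hsum : ∑ x : (P : Subgroup G), blockCoeff B (x : G) = blockCoeff B 1 := by
    rw [Finset.sum_eq_single (1 : (P : Subgroup G))]
    · rfl
    · intro x _ hx
      exact hvan x hx
    · intro h
      exact absurd (Finset.mem_univ _) h
  have hG : (Nat.card G : ℂ)⁻¹ ≠ 0 := inv_ne_zero (Nat.cast_ne_zero.mpr Nat.card_pos.ne')
  have hexp : ∑ x : (P : Subgroup G), blockCoeff B (x : G) =
      (Nat.card G : ℂ)⁻¹ * ∑ χ : IrrCharacter G,
        if χ ∈ B then (χ : G → ℂ) 1 * conj (∑ x : (P : Subgroup G), (χ : G → ℂ) x) else 0 := by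
    simp_rw [blockCoeff_eq_sum B]
    rw [← Finset.mul_sum, Finset.sum_comm]
    congr 1
    apply Finset.sum_congr rfl
    intro χ _
    split_ifs
    · rw [map_sum, Finset.mul_sum]
    · simp
  rw [hexp, blockCoeff_eq_sum B 1] at hsum
  have hsum2 := mul_left_cancel₀ hG hsum
  -- rewrite both sides with degrees
  have hL : ∑ χ : IrrCharacter G,
      (if χ ∈ B then (χ : G → ℂ) 1 * conj (∑ x : (P : Subgroup G), (χ : G → ℂ) x) else 0) =
      ((Nat.card (P : Subgroup G) * ∑ χ : IrrCharacter G,
        (if (χ ∈ B ∧ ∀ x ∈ (P : Subgroup G), (χ : G → ℂ) x = (χ : G → ℂ) 1) then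
          charDegree (χ : G → ℂ) ^ 2 else 0) : ℕ) : ℂ) := by
    push_cast
    rw [Finset.mul_sum]
    apply Finset.sum_congr rfl
    intro χ _
    by_cases hχ : χ ∈ B
    · rw [if_pos hχ, sum_sylow_eq P χ (hirr χ hχ)]
      by_cases hk : ∀ x ∈ (P : Subgroup G), (χ : G → ℂ) x = (χ : G → ℂ) 1
      · rw [if_pos hk, if_pos ⟨hχ, hk⟩, irr_apply_one χ]
        simp only [map_mul, Complex.conj_natCast]
        ring
      · rw [if_neg hk, if_neg (fun h => hk h.2)]
        simp
    · rw [if_neg hχ, if_neg (fun h => hχ h.1)]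
      simp
  have hR : ∑ χ : IrrCharacter G,
      (if χ ∈ B then (χ : G → ℂ) 1 * conj ((χ : G → ℂ) 1) else 0) =
      ((∑ χ : IrrCharacter G, (if χ ∈ B then charDegree (χ : G → ℂ) ^ 2 else 0) : ℕ) : ℂ) := by
    push_cast
    apply Finset.sum_congr rfl
    intro χ _
    split_ifs
    · rw [irr_apply_one χ, Complex.conj_natCast]
      ring
    · rfl
  rw [hL, hR] at hsum2
  have hfin : (Nat.card (P : Subgroup G) * ∑ χ : IrrCharacter G,
        (if (χ ∈ B ∧ ∀ x ∈ (P : Subgroup G), (χ : G → ℂ) x = (χ : G → ℂ) 1) then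
          charDegree (χ : G → ℂ) ^ 2 else 0)) =
      ∑ χ : IrrCharacter G, (if χ ∈ B then charDegree (χ : G → ℂ) ^ 2 else 0) := by
    exact_mod_cast hsum2
  rw [finsum_mem_eq_sum_ite, finsum_mem_eq_sum_ite, ← hfin]
  rfl

end lambda

/-- A counting lemma: the reverse of the upper bound in `S4708.comb`. -/
theorem comb2 {A B : Type*} [Fintype A] [Fintype B] (D : A → ℕ) (d : B → ℕ)
    (c : A → B → ℕ) (sA : Finset A) (sB : Finset B) (n : ℕ)
    (F1 : ∀ a, D a = ∑ b, c a b * d b)
    (F2 : ∀ b, ∑ a, c a b * D a = n * d b)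
    (F5 : ∀ a, ∀ b ∈ sB, c a b ≠ 0 → a ∈ sA) :
    n * ∑ b ∈ sB, d b ^ 2 ≤ ∑ a ∈ sA, D a ^ 2 := by
  classical
  calc n * ∑ b ∈ sB, d b ^ 2 = ∑ b ∈ sB, d b * (n * d b) := by
        rw [Finset.mul_sum]
        apply Finset.sum_congr rfl
        intro b _
        ring
    _ = ∑ b ∈ sB, d b * ∑ a, c a b * D a := by
        apply Finset.sum_congr rfl
        intro b _
        rw [F2 b]
    _ = ∑ b ∈ sB, d b * ∑ a ∈ sA, c a b * D a := by
        apply Finset.sum_congr rfl
        intro b hb
        congr 1
        symm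
        apply Finset.sum_subset (Finset.subset_univ _)
        intro a _ ha
        have : c a b = 0 := by
          by_contra hc
          exact ha (F5 a b hb hc)
        rw [this, zero_mul]
    _ = ∑ a ∈ sA, D a * ∑ b ∈ sB, c a b * d b := by
        simp_rw [Finset.mul_sum]
        rw [Finset.sum_comm]
        apply Finset.sum_congr rfl
        intro a _
        apply Finset.sum_congr rfl
        intro b _
        ring
    _ ≤ ∑ a ∈ sA, D a * ∑ b, c a b * d b := by
        apply Finset.sum_le_sum
        intro a _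
        apply Nat.mul_le_mul_left
        exact Finset.sum_le_sum_of_subset (Finset.subset_univ _)
    _ = ∑ a ∈ sA, D a ^ 2 := by
        apply Finset.sum_congr rfl
        intro a _
        rw [← F1 a, sq]

section index
variable {G : Type u} [Group G] [Fintype G]

/-- **`λ(G) = |G : H| λ(H)`** for a normal subgroup `H` containing a Sylow `p`-subgroup of `G`
and its centralizer. -/
theorem lambda_eq_index_mul {p : ℕ} [hpp : Fact p.Prime] {M : Ideal AlgInt} (hM : IsPModular p M)
    (H : Subgroup G) [hH : H.Normal] (P : Sylow p G) (hPH : (P : Subgroup G) ≤ H)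
    (hC : Subgroup.centralizer ((P : Subgroup G) : Set G) ≤ H) :
    ∑ᶠ χ ∈ principalBlock M G, charDegree (χ : G → ℂ) ^ 2 =
      H.index * ∑ᶠ θ ∈ principalBlock M H, charDegree (θ : H → ℂ) ^ 2 := by
  classical
  apply le_antisymm (Cfsg.Agent.S4708.result p M hM H).2
  let _ : Fintype H := Fintype.ofFinite H
  let _ : Fintype (IrrCharacter G) := fintypeIrr G
  let _ : Fintype (IrrCharacter H) := fintypeIrr H
  have hc : ∀ (χ : IrrCharacter G) (θ : IrrCharacter H), ∃ n : ℕ,
      classInner (resFun H (χ : G → ℂ)) (θ : H → ℂ) = n := fun χ θ =>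
    IsCharacter.classInner_nat (isCharacter_resFun H (IsIrrCharacter.isCharacter χ.2))
      (IsIrrCharacter.isCharacter θ.2)
  choose c hc using hc
  rw [finsum_mem_eq_sum_ite, finsum_mem_eq_sum_ite, ← Finset.sum_filter, ← Finset.sum_filter]
  apply comb2 (fun χ : IrrCharacter G => charDegree (χ : G → ℂ))
    (fun θ : IrrCharacter H => charDegree (θ : H → ℂ)) c
  · -- F1
    intro χ
    have hcls : IsClassFunction H (resFun H (χ : G → ℂ)) :=
      IsCharacter.isClassFunction (isCharacter_resFun H (IsIrrCharacter.isCharacter χ.2))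
    have h1 := congrFun (classFunction_eq_sum hcls) 1
    rw [resFun_apply] at h1
    simp only [Finset.sum_apply, Pi.smul_apply, smul_eq_mul, hc, irr_apply_one] at h1
    have h2 : ((1 : H) : G) = 1 := rfl
    rw [h2, irr_apply_one] at h1
    exact_mod_cast h1
  · -- F2
    intro θ
    have hcls : IsClassFunction G (indFun H (θ : H → ℂ)) := indFun_isClassFunction H _
    have h1 := congrFun (classFunction_eq_sum hcls) 1
    rw [indFun_apply_one] at h1
    have hfr : ∀ χ : IrrCharacter G, classInner (indFun H (θ : H → ℂ)) (χ : G → ℂ) = c χ θ := by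
      intro χ
      rw [frobenius_reciprocity H (θ : H → ℂ)
        (IsCharacter.isClassFunction (IsIrrCharacter.isCharacter χ.2)), ← classInner_conj_symm]
      change conj (classInner (resFun H (χ : G → ℂ)) (θ : H → ℂ)) = _
      rw [hc, Complex.conj_natCast]
    simp only [Finset.sum_apply, Pi.smul_apply, smul_eq_mul, hfr, irr_apply_one] at h1
    have hG : (Nat.card G : ℂ) = (Nat.card H : ℂ) * (H.index : ℂ) := by
      rw [← Nat.cast_mul, Subgroup.card_mul_index]
    have hH' : (Nat.card H : ℂ) ≠ 0 := Nat.cast_ne_zero.mpr Nat.card_pos.ne'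
    rw [hG, ← mul_assoc, inv_mul_cancel₀ hH', one_mul] at h1
    exact_mod_cast h1.symm
  · -- F5
    intro χ θ hθ hne
    rw [Finset.mem_filter] at hθ
    refine Finset.mem_filter.mpr ⟨Finset.mem_univ _, ?_⟩
    apply mem_principalBlock_of_over_of_centralizer_le hM H P hPH hC χ θ _ hθ.2
    change classInner (resFun H (χ : G → ℂ)) (θ : H → ℂ) ≠ 0
    rw [hc]
    exact_mod_cast hne

end index

end Cfsg.Agent.Lib.Helper6.PLenBlk
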