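/-
helper6: S4711 support, part C.  A member of the principal `p`-block whose kernel contains a
Sylow `p`-subgroup `P` has `C_G(P)` in its kernel.
-/
import Mathlib
import Cfsg.Agent.Lib.Helper6.PLenBlkB
import Cfsg.Agent.Lib.Lead.CharCenter
import Cfsg.Agent.Lib.Helper24.Deflation

set_option autoImplicit false

namespace Cfsg.Agent.Lib.Helper6.PLenBlk

open Cfsg Cfsg.Agent.CharLib Cfsg.Agent.Lib.Helper24 Cfsg.Agent.Lib.Helper6
open scoped ComplexConjugate Pointwise

universe u

section
variable {G : Type u} [Group G]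

/-- The normalizer of a subgroup normalizes its centralizer. -/
theorem conj_mem_centralizer_of_mem_normalizer (P : Subgroup G) {a c : G}
    (ha : a ∈ Subgroup.normalizer (P : Set G)) (hc : c ∈ Subgroup.centralizer (P : Set G)) :
    a * c * a⁻¹ ∈ Subgroup.centralizer (P : Set G) := by
  rw [Subgroup.mem_centralizer_iff]
  intro x hx
  have hx' : a⁻¹ * x * a ∈ P := (Subgroup.mem_normalizer_iff''.mp ha x).mp hx
  have h1 := (Subgroup.mem_centralizer_iff.mp hc) (a⁻¹ * x * a) hx'
  calc x * (a * c * a⁻¹) = a * ((a⁻¹ * x * a) * c) * a⁻¹ := by group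
    _ = a * (c * (a⁻¹ * x * a)) * a⁻¹ := by rw [h1]
    _ = a * c * a⁻¹ * x := by group

end

section
variable {G : Type u} [Group G] [Fintype G]

/-- **The kernel of a principal block character containing a Sylow subgroup contains its
centralizer.** -/
theorem centralizer_le_ker {p : ℕ} [hpp : Fact p.Prime] {M : Ideal AlgInt} (hM : IsPModular p M)
    (P : Sylow p G) (χ : IrrCharacter G) (hχ : χ ∈ principalBlock M G)
    (hP : ∀ x ∈ (P : Subgroup G), (χ : G → ℂ) x = (χ : G → ℂ) 1) :
    ∀ y ∈ Subgroup.centralizer ((P : Subgroup G) : Set G), (χ : G → ℂ) y = (χ : G → ℂ) 1 := by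
  classical
  have hprime : M.IsPrime := isPrime_of_isPModular hM
  have hM1 := one_not_mem_of_isPModular hM
  have hirrχ : IsIrrCharacter G (χ : G → ℂ) := χ.2
  obtain ⟨χf, n, ρ, hirr, rfl⟩ := χ
  haveI : ρ.IsIrreducible := hirr
  change ∀ x ∈ (P : Subgroup G), ρ.character x = ρ.character 1 at hP
  change ∀ y ∈ Subgroup.centralizer ((P : Subgroup G) : Set G), ρ.character y = ρ.character 1
  change IsIrrCharacter G ρ.character at hirrχ
  have hχ' : SameBlock M (fun _ : G => (1 : ℂ)) ρ.character := hχ
  set K : Subgroup G := MonoidHom.ker (ρ : G →* Module.End ℂ (Fin n → ℂ)) with hK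
  haveI hKn : K.Normal := MonoidHom.normal_ker _
  have hfr : Module.finrank ℂ (Fin n → ℂ) = n := Module.finrank_fin_fun ℂ
  have hone : ρ.character 1 = (n : ℂ) := by rw [Representation.char_one, hfr]
  have hPK : (P : Subgroup G) ≤ K := by
    intro x hx
    rw [hK, MonoidHom.mem_ker]
    apply rep_eq_one_of_char_eq_finrank ρ x
    rw [hP x hx, Representation.char_one]
  have hkc : ∀ k ∈ K, ∀ g : G, ρ.character (k * g) = ρ.character g := by
    intro k hk g
    have h1 : ρ k = 1 := MonoidHom.mem_ker.mp hk
    unfold Representation.character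
    rw [map_mul, h1, one_mul]
  have hck : ∀ k ∈ K, ∀ g : G, ρ.character (g * k) = ρ.character g := by
    intro k hk g
    have h1 : ρ k = 1 := MonoidHom.mem_ker.mp hk
    unfold Representation.character
    rw [map_mul, h1, mul_one]
  have hndvd : ¬ p ∣ K.index := fun h => P.not_dvd_index (h.trans (Subgroup.index_dvd_of_le hPK))
  have hn_dvd : n ∣ K.index := by
    have h1 := finrank_dvd_index_of_le_ker K ρ (fun k hk => by
      have h2 : ρ k = 1 := MonoidHom.mem_ker.mp hk
      have h3 : ρ.character k = ρ.character 1 := by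
        unfold Representation.character
        rw [h2, (map_one ρ : ρ 1 = 1)]
      rw [h3, Representation.char_one])
    rwa [hfr] at h1
  have hpn : ¬ p ∣ n := fun h => hndvd (h.trans hn_dvd)
  set C := Subgroup.centralizer ((P : Subgroup G) : Set G) with hC
  have hnatR : ∀ k : ℕ, MemLocalRing M (k : ℂ) := by
    intro k
    have := memLocalRing_of_algInt (M := M) (k : AlgInt) hM1
    simpa using this
  have hnat : ∀ k : ℕ, ¬ p ∣ k → ¬ MemLocalIdeal M (k : ℂ) := by
    intro k hk hmem
    have h3 : ((k : AlgInt) : ℂ) = (k : ℂ) := by simp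
    rw [← h3, memLocalIdeal_coe_iff] at hmem
    exact natCast_not_mem_of_not_dvd hM hk hmem
  have hcharR : ∀ g : G, MemLocalRing M ((n : ℂ) - ρ.character g) := by
    intro g
    have hint : IsIntegral ℤ (ρ.character g) := isIntegral_char ρ g
    have := memLocalRing_of_algInt (M := M) ((n : AlgInt) - ⟨ρ.character g, hint⟩) hM1
    simpa using this
  -- congruence on the centralizer
  have hcong : ∀ c ∈ C, MemLocalIdeal M ((n : ℂ) - ρ.character c) := by
    intro c hc
    have hle : (P : Subgroup G) ≤ Subgroup.centralizer ({c} : Set G) := by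
      intro x hx
      rw [Subgroup.mem_centralizer_iff]
      intro y hy
      rw [Set.mem_singleton_iff] at hy
      subst hy
      exact ((Subgroup.mem_centralizer_iff.mp hc) x hx).symm
    have hidx : ¬ p ∣ (Subgroup.centralizer ({c} : Set G)).index :=
      fun h => P.not_dvd_index (h.trans (Subgroup.index_dvd_of_le hle))
    have h1 := hχ' c
    unfold centralChar at h1
    rw [hone] at h1
    have hn0 : (n : ℂ) ≠ 0 := by
      intro h0
      apply hpn
      have : n = 0 := by exact_mod_cast h0
      rw [this]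
      exact dvd_zero p
    have h2 : ((Subgroup.centralizer ({c} : Set G)).index : ℂ) * ((n : ℂ) - ρ.character c) =
        (((Subgroup.centralizer ({c} : Set G)).index : ℂ) * 1 / 1 -
          ((Subgroup.centralizer ({c} : Set G)).index : ℂ) * ρ.character c / (n : ℂ)) * (n : ℂ) := by
      field_simp
    have h3 : MemLocalIdeal M (((Subgroup.centralizer ({c} : Set G)).index : ℂ) *
        ((n : ℂ) - ρ.character c)) := by
      rw [h2]
      exact memLocalIdeal_mul_right h1 (hnatR n)
    rcases memLocalIdeal_or_of_mul (hnatR _) (hcharR c) h3 with h4 | h4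
    · exact absurd h4 (hnat _ hidx)
    · exact h4
  -- the subgroup `T = K C`
  set T : Subgroup G := K ⊔ C with hT
  have hTmem : ∀ t ∈ T, ∃ k ∈ K, ∃ c ∈ C, t = k * c := by
    intro t ht
    rw [hT, ← SetLike.mem_coe, Subgroup.normal_mul] at ht
    obtain ⟨k, hk, c, hc, rfl⟩ := Set.mem_mul.mp ht
    exact ⟨k, hk, c, hc, rfl⟩
  have hTcong : ∀ t ∈ T, MemLocalIdeal M ((n : ℂ) - ρ.character t) := by
    intro t ht
    obtain ⟨k, hk, c, hc, rfl⟩ := hTmem t ht
    rw [hkc k hk c]
    exact hcong c hc
  have hKT : K ≤ T := le_sup_left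
  have hCT : C ≤ T := le_sup_right
  have hTn : T.Normal := by
    have hNP : Subgroup.normalizer ((P : Subgroup G) : Set G) ⊔ K = ⊤ :=
      Sylow.normalizer_sup_eq_top' P hPK
    constructor
    intro t ht g
    have hg : g ∈ Subgroup.normalizer ((P : Subgroup G) : Set G) ⊔ K := by
      rw [hNP]
      exact Subgroup.mem_top g
    rw [← SetLike.mem_coe, Subgroup.mul_normal] at hg
    obtain ⟨a, ha, k, hk, rfl⟩ := Set.mem_mul.mp hg
    have h1 : k * t * k⁻¹ ∈ T := T.mul_mem (T.mul_mem (hKT hk) ht) (T.inv_mem (hKT hk))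
    obtain ⟨k', hk', c', hc', hkc'⟩ := hTmem _ h1
    have h2 : a * k * t * (a * k)⁻¹ = (a * k' * a⁻¹) * (a * c' * a⁻¹) := by
      have : a * k * t * (a * k)⁻¹ = a * (k * t * k⁻¹) * a⁻¹ := by group
      rw [this, hkc']
      group
    rw [h2]
    apply T.mul_mem
    · exact hKT (hKn.conj_mem k' hk' a)
    · exact hCT (conj_mem_centralizer_of_mem_normalizer (P : Subgroup G) ha hc')
  -- the sum over `T` does not vanish
  let _ : Fintype T := Fintype.ofFinite _
  set K' : Subgroup T := K.subgroupOf T with hK'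
  let _ : Fintype K' := Fintype.ofFinite _
  let _ : Fintype (T ⧸ K') := Fintype.ofFinite _
  have hsumT : ∑ t : T, ρ.character (t : G) =
      (Nat.card K' : ℂ) * ∑ q : T ⧸ K', ρ.character ((q.out : T) : G) := by
    rw [sum_eq_sum_quotient_mul K' (fun t : T => ρ.character (t : G)), Finset.mul_sum]
    apply Finset.sum_congr rfl
    intro q _
    have h1 : ∀ z : K', ρ.character (((q.out * (z : T) : T)) : G) = ρ.character ((q.out : T) : G) := by
      intro z
      have hz : ((z : T) : G) ∈ K := Subgroup.mem_subgroupOf.mp z.2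
      rw [Subgroup.coe_mul]
      exact hck _ hz _
    rw [Finset.sum_congr rfl (fun z _ => h1 z), Finset.sum_const, Finset.card_univ, nsmul_eq_mul,
      Nat.card_eq_fintype_card]
  have hne : ∑ t : T, ρ.character (t : G) ≠ 0 := by
    intro h0
    rw [hsumT] at h0
    have hK0 : (Nat.card K' : ℂ) ≠ 0 := Nat.cast_ne_zero.mpr Nat.card_pos.ne'
    have h1 : ∑ q : T ⧸ K', ρ.character ((q.out : T) : G) = 0 := by
      rcases mul_eq_zero.mp h0 with h | h
      · exact absurd h hK0
      · exact h
    have h2 : ∑ q : T ⧸ K', ((n : ℂ) - ρ.character ((q.out : T) : G)) =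
        ((Nat.card (T ⧸ K') * n : ℕ) : ℂ) := by
      rw [Finset.sum_sub_distrib, h1, sub_zero, Finset.sum_const, Finset.card_univ, nsmul_eq_mul,
        Nat.card_eq_fintype_card]
      push_cast
      ring
    have h3 : MemLocalIdeal M (∑ q : T ⧸ K', ((n : ℂ) - ρ.character ((q.out : T) : G))) := by
      apply sum_memLocalIdeal
      intro q _
      exact hTcong _ (q.out : T).2
    rw [h2] at h3
    apply hnat _ _ h3
    have h4 : Nat.card (T ⧸ K') = K.relIndex T := by
      rw [Subgroup.relIndex, Subgroup.index_eq_card]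
    rw [h4]
    intro hdvd
    rcases (Nat.Prime.dvd_mul hpp.out).mp hdvd with h | h
    · exact hndvd (h.trans (Subgroup.relIndex_dvd_index_of_normal K T))
    · exact hpn h
  have hfin := apply_eq_of_sum_ne_zero T hirrχ hne
  intro y hy
  exact hfin y (hCT hy)

end

end Cfsg.Agent.Lib.Helper6.PLenBlk
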