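/-
helper6: S4711 support, part D.  If the degree-square sum of the principal `p`-block is at most
the order of a Sylow `p`-subgroup, the group has a normal `p`-complement.
-/
import Mathlib
import Cfsg.Agent.Lib.Helper6.PLenBlkB
import Cfsg.Agent.Lib.Helper24.PrincipalLinear
import Cfsg.Agent.S4888

set_option autoImplicit false

namespace Cfsg.Agent.Lib.Helper6.PLenBlk

open Cfsg Cfsg.Agent.CharLib Cfsg.Agent.Lib.Helper24 Cfsg.Agent.Lib.Helper6
open scoped ComplexConjugate

universe u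

section
variable {G : Type u} [Group G] [Fintype G]

open Classical in
/-- The weighted form of the vanishing of the block idempotent on the non-identity elements
of a Sylow `p`-subgroup. -/
theorem card_mul_sum_mult_eq {p : ℕ} [hpp : Fact p.Prime] {M : Ideal AlgInt} (hM : IsPModular p M)
    (P : Sylow p G) [Fintype (P : Subgroup G)] [Fintype (IrrCharacter G)]
    (m : IrrCharacter G → IrrCharacter (P : Subgroup G) → ℕ)
    (hm : ∀ (θ : IrrCharacter G) (ξ : IrrCharacter (P : Subgroup G)), classInner (resFun (P : Subgroup G) (θ : G → ℂ)) (ξ : ↥(P : Subgroup G) → ℂ) = m θ ξ)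
    (ξ : IrrCharacter (P : Subgroup G)) :
    Nat.card (P : Subgroup G) * ∑ θ : IrrCharacter G,
        (if θ ∈ principalBlock M G then charDegree (θ : G → ℂ) * m θ ξ else 0) =
      (∑ θ : IrrCharacter G, if θ ∈ principalBlock M G then charDegree (θ : G → ℂ) ^ 2 else 0) *
        charDegree (ξ : ↥(P : Subgroup G) → ℂ) := by
  classical
  set B := principalBlock M G with hBdef
  have hB : B = blockOf M ((Cfsg.Agent.CharLib.trivIrr G : IrrCharacter G) : G → ℂ) := rfl
  have hvan : ∀ x : (P : Subgroup G), x ≠ 1 → blockCoeff B (x : G) = 0 := by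
    intro x hx
    rw [hB]
    apply blockCoeff_eq_zero_of_dvd_orderOf hM
    obtain ⟨k, hk⟩ := (IsPGroup.iff_orderOf.mp P.isPGroup') x
    rw [Subgroup.orderOf_coe, hk]
    have hk0 : k ≠ 0 := by
      intro h0
      rw [h0, pow_zero, orderOf_eq_one_iff] at hk
      exact hx hk
    exact dvd_pow_self p hk0
  have hsum : ∑ x : (P : Subgroup G), blockCoeff B (x : G) * (ξ : ↥(P : Subgroup G) → ℂ) x =
      blockCoeff B 1 * (ξ : ↥(P : Subgroup G) → ℂ) 1 := by
    rw [Finset.sum_eq_single (1 : (P : Subgroup G))]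
    · rfl
    · intro x _ hx
      rw [hvan x hx, zero_mul]
    · intro h
      exact absurd (Finset.mem_univ _) h
  have hG : (Nat.card G : ℂ)⁻¹ ≠ 0 := inv_ne_zero (Nat.cast_ne_zero.mpr Nat.card_pos.ne')
  have hP0 : (Nat.card (P : Subgroup G) : ℂ) ≠ 0 := Nat.cast_ne_zero.mpr Nat.card_pos.ne'
  have hinner : ∀ θ : IrrCharacter G,
      ∑ x : (P : Subgroup G), conj ((θ : G → ℂ) x) * (ξ : ↥(P : Subgroup G) → ℂ) x =
        (Nat.card (P : Subgroup G) : ℂ) * (m θ ξ : ℂ) := by
    intro θ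
    have h1 := hm θ ξ
    unfold classInner at h1
    have h2 : ∑ x : (P : Subgroup G), resFun (P : Subgroup G) (θ : G → ℂ) x *
        conj ((ξ : ↥(P : Subgroup G) → ℂ) x) = (Nat.card (P : Subgroup G) : ℂ) * (m θ ξ : ℂ) := by
      rw [← h1, ← mul_assoc, mul_inv_cancel₀ hP0, one_mul]
    have h3 := congrArg conj h2
    rw [map_sum, map_mul, Complex.conj_natCast, Complex.conj_natCast] at h3
    rw [← h3]
    apply Finset.sum_congr rfl
    intro x _
    rw [map_mul, Complex.conj_conj, resFun_apply]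
  have hexp : ∑ x : (P : Subgroup G), blockCoeff B (x : G) * (ξ : ↥(P : Subgroup G) → ℂ) x =
      (Nat.card G : ℂ)⁻¹ * ∑ θ : IrrCharacter G,
        if θ ∈ B then (θ : G → ℂ) 1 * ((Nat.card (P : Subgroup G) : ℂ) * (m θ ξ : ℂ)) else 0 := by
    simp_rw [blockCoeff_eq_sum B, mul_assoc, Finset.sum_mul]
    rw [← Finset.mul_sum, Finset.sum_comm]
    congr 1
    apply Finset.sum_congr rfl
    intro θ _
    split_ifs
    · rw [← hinner θ, Finset.mul_sum]
      apply Finset.sum_congr rfl
      intro x _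
      ring
    · simp
  rw [hexp, blockCoeff_eq_sum B 1, mul_assoc] at hsum
  have hsum2 := mul_left_cancel₀ hG hsum
  have hL : ∑ θ : IrrCharacter G,
      (if θ ∈ B then (θ : G → ℂ) 1 * ((Nat.card (P : Subgroup G) : ℂ) * (m θ ξ : ℂ)) else 0) =
      ((Nat.card (P : Subgroup G) * ∑ θ : IrrCharacter G,
        (if θ ∈ B then charDegree (θ : G → ℂ) * m θ ξ else 0) : ℕ) : ℂ) := by
    push_cast
    rw [Finset.mul_sum]
    apply Finset.sum_congr rfl
    intro θ _
    split_ifs
    · rw [irr_apply_one θ]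
      ring
    · simp
  have hR : (∑ θ : IrrCharacter G,
      (if θ ∈ B then (θ : G → ℂ) 1 * conj ((θ : G → ℂ) 1) else 0)) *
        (ξ : ↥(P : Subgroup G) → ℂ) 1 =
      (((∑ θ : IrrCharacter G, (if θ ∈ B then charDegree (θ : G → ℂ) ^ 2 else 0)) *
        charDegree (ξ : ↥(P : Subgroup G) → ℂ) : ℕ) : ℂ) := by
    push_cast
    rw [irr_apply_one ξ]
    congr 1
    apply Finset.sum_congr rfl
    intro θ _
    split_ifs
    · rw [irr_apply_one θ, Complex.conj_natCast]
      ring
    · rfl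
  rw [hL, hR] at hsum2
  exact_mod_cast hsum2

/-- **A small principal block forces a normal `p`-complement.** -/
theorem hasNormalPComplement_of_lambda_le {p : ℕ} [hpp : Fact p.Prime] {M : Ideal AlgInt}
    (hM : IsPModular p M) (P : Sylow p G)
    (hle : ∑ᶠ θ ∈ principalBlock M G, charDegree (θ : G → ℂ) ^ 2 ≤ Nat.card (P : Subgroup G)) :
    HasNormalPComplement p G := by
  classical
  let _ : Fintype (P : Subgroup G) := Fintype.ofFinite _
  let _ : Fintype (IrrCharacter G) := fintypeIrr G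
  let _ : Fintype (IrrCharacter (P : Subgroup G)) := fintypeIrr _
  rw [← Cfsg.Agent.S4888.result p M hM]
  refine ⟨1, ?_⟩
  intro θ₀ hθ₀ hht
  rw [blockHeight_principal hM] at hht
  have hdeg_dvd := irr_charDegree_dvd_card θ₀
  have hdeg_pos : charDegree (θ₀ : G → ℂ) ≠ 0 := by
    intro h0
    rw [h0] at hdeg_dvd
    exact Nat.card_pos.ne' (Nat.eq_zero_of_zero_dvd hdeg_dvd)
  have hpd : ¬ p ∣ charDegree (θ₀ : G → ℂ) := by
    intro h
    have := (hpp.out.factorization_pos_of_dvd hdeg_pos h)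
    omega
  -- multiplicities on `P`
  have hmex : ∀ (θ : IrrCharacter G) (ξ : IrrCharacter (P : Subgroup G)), ∃ n : ℕ,
      classInner (resFun (P : Subgroup G) (θ : G → ℂ)) (ξ : ↥(P : Subgroup G) → ℂ) = n := fun θ ξ =>
    IsCharacter.classInner_nat (isCharacter_resFun _ (IsIrrCharacter.isCharacter θ.2))
      (IsIrrCharacter.isCharacter ξ.2)
  choose m hm using hmex
  have hF1 : charDegree (θ₀ : G → ℂ) =
      ∑ ξ : IrrCharacter (P : Subgroup G), m θ₀ ξ * charDegree (ξ : ↥(P : Subgroup G) → ℂ) := by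
    have hcls : IsClassFunction (P : Subgroup G) (resFun (P : Subgroup G) (θ₀ : G → ℂ)) :=
      IsCharacter.isClassFunction (isCharacter_resFun _ (IsIrrCharacter.isCharacter θ₀.2))
    have h1 := congrFun (classFunction_eq_sum hcls) 1
    rw [resFun_apply] at h1
    simp only [Finset.sum_apply, Pi.smul_apply, smul_eq_mul, hm, irr_apply_one] at h1
    have h2 : ((1 : (P : Subgroup G)) : G) = 1 := rfl
    rw [h2, irr_apply_one] at h1
    exact_mod_cast h1
  -- a linear constituent
  have hlin : ∃ ξ : IrrCharacter (P : Subgroup G), m θ₀ ξ ≠ 0 ∧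
      charDegree (ξ : ↥(P : Subgroup G) → ℂ) = 1 := by
    by_contra hcon
    push Not at hcon
    apply hpd
    rw [hF1]
    apply Finset.dvd_sum
    intro ξ _
    by_cases h0 : m θ₀ ξ = 0
    · rw [h0, zero_mul]
      exact dvd_zero p
    · have h1 := hcon ξ h0
      have h2 : charDegree (ξ : ↥(P : Subgroup G) → ℂ) ∣ Nat.card (P : Subgroup G) :=
        irr_charDegree_dvd_card ξ
      rw [Sylow.card_eq_multiplicity P] at h2
      obtain ⟨i, -, hi⟩ := (Nat.dvd_prime_pow hpp.out).mp h2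
      have hi0 : i ≠ 0 := by
        intro h
        apply h1
        rw [hi, h, pow_zero]
      apply Dvd.dvd.mul_left
      rw [hi]
      exact dvd_pow_self p hi0
  obtain ⟨ξ, hξm, hξ1⟩ := hlin
  have hI := card_mul_sum_mult_eq hM P m hm ξ
  rw [hξ1, mul_one] at hI
  rw [finsum_mem_eq_sum_ite] at hle
  have h1 : charDegree (θ₀ : G → ℂ) * m θ₀ ξ ≤ ∑ θ : IrrCharacter G,
      (if θ ∈ principalBlock M G then charDegree (θ : G → ℂ) * m θ ξ else 0) := by
    have h2 : charDegree (θ₀ : G → ℂ) * m θ₀ ξ =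
        (if θ₀ ∈ principalBlock M G then charDegree (θ₀ : G → ℂ) * m θ₀ ξ else 0) := by
      rw [if_pos hθ₀]
    rw [h2]
    exact Finset.single_le_sum (f := fun θ : IrrCharacter G =>
      if θ ∈ principalBlock M G then charDegree (θ : G → ℂ) * m θ ξ else 0)
      (fun _ _ => Nat.zero_le _) (Finset.mem_univ θ₀)
  have hPpos : 0 < Nat.card (P : Subgroup G) := Nat.card_pos
  have h3 : Nat.card (P : Subgroup G) * (charDegree (θ₀ : G → ℂ) * m θ₀ ξ) ≤
      Nat.card (P : Subgroup G) * 1 := by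
    calc Nat.card (P : Subgroup G) * (charDegree (θ₀ : G → ℂ) * m θ₀ ξ)
        ≤ Nat.card (P : Subgroup G) * ∑ θ : IrrCharacter G,
          (if θ ∈ principalBlock M G then charDegree (θ : G → ℂ) * m θ ξ else 0) :=
          Nat.mul_le_mul_left _ h1
      _ = _ := hI
      _ ≤ Nat.card (P : Subgroup G) := hle
      _ = Nat.card (P : Subgroup G) * 1 := (mul_one _).symm
  have h4 : charDegree (θ₀ : G → ℂ) * m θ₀ ξ ≤ 1 := Nat.le_of_mul_le_mul_left h3 hPpos
  have h5 : 1 ≤ m θ₀ ξ := Nat.one_le_iff_ne_zero.mpr hξm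
  have h6 : 1 ≤ charDegree (θ₀ : G → ℂ) := Nat.one_le_iff_ne_zero.mpr hdeg_pos
  nlinarith

end

end Cfsg.Agent.Lib.Helper6.PLenBlk
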