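/-
helper6: S4711 support, part E.  The group-theoretic ends:
* a normal subgroup of index prime to `p` with a normal `p`-complement forces `p`-length one;
* in a group of `p`-length one the members of the principal block restrict irreducibly to the
  normalizer of a Sylow `p`-subgroup.
-/
import Mathlib
import Cfsg.Agent.Lib.Helper1.PLenSeries
import Cfsg.Agent.Lib.Helper9.PLength
import Cfsg.Agent.Lib.Helper12.PPrimeP
import Cfsg.Agent.Lib.Helper24.Winter3
import Cfsg.Agent.Lib.Helper24.Deflation
import Cfsg.Agent.Lib.Helper25.Inflate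
import Cfsg.Agent.Lib.Helper6.QuotBlock

set_option autoImplicit false

namespace Cfsg.Agent.Lib.Helper6.PLenBlk

open Cfsg Cfsg.Agent.CharLib Cfsg.Agent.Lib.Helper24 Cfsg.Agent.Lib.Helper6
open scoped Pointwise

universe u

section
variable {G : Type u} [Group G] [Finite G]

/-- A group with a normal `p`-complement has `p`-length at most one. -/
theorem pLengthLE_one_of_hasNormalPComplement (p : ℕ) [hpp : Fact p.Prime]
    (h : HasNormalPComplement p G) : PLengthLE p 1 G := by
  obtain ⟨S, K, hKn, hcompl⟩ := h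
  have hKn' : K.Normal := hKn
  have hcard : Nat.card K * Nat.card S = Nat.card G := hcompl.card_mul
  have hScard : Nat.card S = p ^ (Nat.card G).factorization p := Sylow.card_eq_multiplicity S
  have hKp : ¬ p ∣ Nat.card K := by
    intro h
    have h1 : p ^ ((Nat.card G).factorization p + 1) ∣ Nat.card G := by
      have h2 : Nat.card K * p ^ (Nat.card G).factorization p = Nat.card G := by
        rw [← hScard, hcard]
      have h3 : p * p ^ (Nat.card G).factorization p ∣
          Nat.card K * p ^ (Nat.card G).factorization p := Nat.mul_dvd_mul_right h _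
      rw [h2] at h3
      rw [pow_succ, mul_comm]
      exact h3
    exact (Nat.pow_succ_factorization_not_dvd Nat.card_pos.ne' hpp.out) h1
  have h0 : PLengthLE p 0 K :=
    Cfsg.Agent.Lib.Helper1.PLen.pLengthLE_zero_of_coprime p
      ((Nat.Prime.coprime_iff_not_dvd hpp.out).mpr hKp).symm
  have hidx : Nat.card (G ⧸ K) = Nat.card S := by
    have h1 : Nat.card K * Nat.card (G ⧸ K) = Nat.card G := by
      rw [← Subgroup.index_eq_card]; exact Subgroup.card_mul_index K
    have h2 : 0 < Nat.card K := Nat.card_pos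
    exact Nat.eq_of_mul_eq_mul_left h2 (h1.trans hcard.symm)
  have h1 : PLengthLE p 1 (G ⧸ K) := by
    apply Cfsg.Agent.Lib.Helper1.PLen.pLengthLE_one_of_isPGroup
    exact IsPGroup.of_card (hidx.trans hScard)
  have := Cfsg.Agent.Lib.Helper1.PLen.pLengthLE_of_extension p K h0 h1
  simpa using this

/-- A normal subgroup of index prime to `p` with a normal `p`-complement forces `p`-length at
most one. -/
theorem pLengthLE_one_of_normal (p : ℕ) [hpp : Fact p.Prime] (H : Subgroup G) [H.Normal]
    (hidx : ¬ p ∣ H.index) (hH : HasNormalPComplement p H) : PLengthLE p 1 G := by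
  have h1 : PLengthLE p 1 H := pLengthLE_one_of_hasNormalPComplement p hH
  have h2 : PLengthLE p 0 (G ⧸ H) := by
    apply Cfsg.Agent.Lib.Helper1.PLen.pLengthLE_zero_of_coprime p
    rw [← Subgroup.index_eq_card]
    exact ((Nat.Prime.coprime_iff_not_dvd hpp.out).mpr hidx).symm
  have := Cfsg.Agent.Lib.Helper1.PLen.pLengthLE_of_extension p H h1 h2
  simpa using this

/-- In a group of `p`-length one, the normalizer of a Sylow `p`-subgroup supplements
`O_{p'}(G)`. -/
theorem normalizer_sup_pPrimeCore_eq_top (p : ℕ) [hpp : Fact p.Prime] (P : Sylow p G)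
    (h : PLengthLE p 1 G) :
    Subgroup.normalizer ((P : Subgroup G) : Set G) ⊔ pPrimeCore p G = ⊤ := by
  have hidx := Cfsg.Agent.Lib.Helper9.coprime_index_pPrimePCore_of_pLengthLE_one p h
  have hndvd : ¬ p ∣ (pPrimePCore p G).index :=
    (Nat.Prime.coprime_iff_not_dvd hpp.out).mp hidx.symm
  have hPT : (P : Subgroup G) ≤ pPrimePCore p G :=
    Cfsg.Agent.Lib.Helper24.Winter.pgroup_le_of_normal_of_not_dvd_index (P : Subgroup G)
      P.isPGroup' (pPrimePCore p G) hndvd
  have h1 : Subgroup.normalizer ((P : Subgroup G) : Set G) ⊔ pPrimePCore p G = ⊤ :=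
    Sylow.normalizer_sup_eq_top' P hPT
  have h2 := Cfsg.Agent.Lib.Helper12.pPrimeCore_sup_sylow_inf P
  rw [inf_of_le_left hPT] at h2
  rw [← h2, ← sup_assoc, sup_comm _ (pPrimeCore p G), sup_assoc] at h1
  have h3 : pPrimeCore p G ⊔ Subgroup.normalizer ((P : Subgroup G) : Set G) ⊔ (P : Subgroup G) =
      pPrimeCore p G ⊔ Subgroup.normalizer ((P : Subgroup G) : Set G) := by
    apply sup_of_le_left
    exact le_trans Subgroup.le_normalizer le_sup_right
  rw [← sup_assoc, h3, sup_comm] at h1
  exact h1

end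

section
variable {G : Type u} [Group G] [Fintype G]

/-- **`p`-length one gives irreducible restrictions of the principal block to `N_G(P)`.** -/
theorem isIrrCharacter_res_normalizer {p : ℕ} [hpp : Fact p.Prime] {M : Ideal AlgInt}
    (hM : IsPModular p M) (P : Sylow p G) (h : PLengthLE p 1 G) (χ : IrrCharacter G)
    (hχ : χ ∈ principalBlock M G) :
    IsIrrCharacter ↥(Subgroup.normalizer ((P : Subgroup G) : Set G))
      (fun n : ↥(Subgroup.normalizer ((P : Subgroup G) : Set G)) => (χ : G → ℂ) n) := by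
  set K := pPrimeCore p G with hKdef
  haveI hKn : K.Normal := Cfsg.Agent.Lib.Helper12.pPrimeCore_normal' p
  have hKc : (Nat.card K).Coprime p := Cfsg.Agent.Lib.Helper12.pPrimeCore_coprime (X := G) p
  have hKp : ¬ p ∣ Nat.card K := (Nat.Prime.coprime_iff_not_dvd hpp.out).mp hKc.symm
  have hker := le_ker_of_sameBlock_one hM K hKp χ hχ
  obtain ⟨θ, hθ⟩ := Cfsg.Agent.Lib.Helper25.exists_inflateIrr_eq K χ hker
  set NP := Subgroup.normalizer ((P : Subgroup G) : Set G) with hNP
  have htop : NP ⊔ K = ⊤ := normalizer_sup_pPrimeCore_eq_top p P h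
  let f : NP →* G ⧸ K := (QuotientGroup.mk' K).comp NP.subtype
  have hf : Function.Surjective f := by
    intro q
    obtain ⟨g, rfl⟩ := QuotientGroup.mk_surjective q
    have hg : g ∈ NP ⊔ K := by
      rw [htop]
      exact Subgroup.mem_top g
    rw [← SetLike.mem_coe, Subgroup.mul_normal] at hg
    obtain ⟨a, ha, k, hk, rfl⟩ := Set.mem_mul.mp hg
    refine ⟨⟨a, ha⟩, ?_⟩
    change (QuotientGroup.mk a : G ⧸ K) = QuotientGroup.mk (a * k)
    rw [QuotientGroup.mk_mul_of_mem a hk]
  have hfun : (fun n : NP => (χ : G → ℂ) n) = fun n : NP => (θ : G ⧸ K → ℂ) (f n) := by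
    funext n
    rw [← hθ]
    rfl
  rw [hfun]
  obtain ⟨θf, n, ρ, hirr, rfl⟩ := θ
  exact ⟨n, (MonoidHom.comp ρ f : Representation ℂ NP (Fin n → ℂ)),
    (isIrreducible_comp_iff f hf ρ).mpr hirr, rfl⟩

end

end Cfsg.Agent.Lib.Helper6.PLenBlk
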