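/-
helper6: S4865 leaves (M9d) `rel_conj_of_over`, (M9e) `rel_over_of_conj`,
(M9f) `rel_degree_of_real_over` (planner helper12, notes/S4865_leaves.lean): the generic Clifford
lemmas for `(↥L, H.subgroupOf L)` transported along `Subgroup.subgroupOfEquivOfLe`.
-/
import Mathlib
import Cfsg.Prelude.Def_Blocks
import Cfsg.Agent.Lib.Helper6.Clifford
import Cfsg.Agent.Lib.Helper6.CliffordCorr
import Cfsg.Agent.Lib.Helper12.RealMDefs
import Cfsg.Agent.Lib.Helper6.RealMM3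

set_option autoImplicit false

namespace Cfsg.Agent.Lib.Helper6.RealM

open Cfsg Cfsg.Agent.Lib.Helper6 Cfsg.Agent.CharLib Cfsg.Agent.Lib.Helper12.RealM

universe u

variable {G : Type u} [Group G]

/-- `CB H n η η'` for `n ∈ L` in terms of `conjFun` on `H.subgroupOf L`. -/
theorem cb_iff_conjFun (H L : Subgroup G) (hHL : H ≤ L) [hY : (H.subgroupOf L).Normal] (n : ↥L)
    (η η' : ↥H → ℂ) :
    CB H (n : G) η η' ↔
      conjFun (H.subgroupOf L) n (η' ∘ (Subgroup.subgroupOfEquivOfLe hHL)) =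
        η ∘ (Subgroup.subgroupOfEquivOfLe hHL) := by
  constructor
  · intro h
    funext y
    rw [conjFun_apply]
    exact h (Subgroup.subgroupOfEquivOfLe hHL y) (Subgroup.subgroupOfEquivOfLe hHL _) rfl
  · intro h k k' hk
    have h1 := congrFun h ((Subgroup.subgroupOfEquivOfLe hHL).symm k)
    rw [conjFun_apply] at h1
    simp only [Function.comp_apply, MulEquiv.apply_symm_apply] at h1
    rw [← h1]
    congr 1
    apply Subtype.ext
    rw [hk]
    rfl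

variable [Finite G]

/-- (M9d) two constituents are `L`-conjugate. -/
theorem rel_conj_of_over (H L : Subgroup G) (hHL : H ≤ L)
    (hn : L ≤ Subgroup.normalizer (H : Set G)) [Fintype ↥H]
    (ξ : IrrCharacter ↥L) (η η' : IrrCharacter ↥H)
    (ho : classInner (resLE hHL (ξ : ↥L → ℂ)) (η : ↥H → ℂ) ≠ 0)
    (ho' : classInner (resLE hHL (ξ : ↥L → ℂ)) (η' : ↥H → ℂ) ≠ 0) :
    ∃ n ∈ L, CB H n (η : ↥H → ℂ) (η' : ↥H → ℂ) := by
  classical
  have hY : (H.subgroupOf L).Normal := (Subgroup.normal_subgroupOf_iff_le_normalizer hHL).mpr hn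
  let _ : Fintype ↥L := Fintype.ofFinite _
  let _ : Fintype ↥(H.subgroupOf L) := Fintype.ofFinite _
  let e := Subgroup.subgroupOfEquivOfLe hHL
  have hres : resFun (H.subgroupOf L) (ξ : ↥L → ℂ) = resLE hHL (ξ : ↥L → ℂ) ∘ e :=
    resFun_subgroupOf hHL _
  have h1 : classInner (resFun (H.subgroupOf L) (ξ : ↥L → ℂ)) ((η' : ↥H → ℂ) ∘ e) ≠ 0 := by
    rw [hres, classInner_comp_mulEquiv]; exact ho'
  have h2 : classInner (resFun (H.subgroupOf L) (ξ : ↥L → ℂ)) ((η : ↥H → ℂ) ∘ e) ≠ 0 := by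
    rw [hres, classInner_comp_mulEquiv]; exact ho
  obtain ⟨g, hg⟩ := exists_conjFun_eq_of_constituent (H.subgroupOf L) ξ.2
    (isIrrCharacter_comp_mulEquiv' e η'.2) (isIrrCharacter_comp_mulEquiv' e η.2) h1 h2
  exact ⟨(g : G), g.2, (cb_iff_conjFun H L hHL g _ _).mpr hg⟩

/-- (M9e) an `L`-conjugate of a constituent is one. -/
theorem rel_over_of_conj (H L : Subgroup G) (hHL : H ≤ L)
    (hn : L ≤ Subgroup.normalizer (H : Set G)) [Fintype ↥H]
    (ξ : IrrCharacter ↥L) (η η' : IrrCharacter ↥H) (n : G) (hnL : n ∈ L)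
    (hc : CB H n (η : ↥H → ℂ) (η' : ↥H → ℂ))
    (ho : classInner (resLE hHL (ξ : ↥L → ℂ)) (η : ↥H → ℂ) ≠ 0) :
    classInner (resLE hHL (ξ : ↥L → ℂ)) (η' : ↥H → ℂ) ≠ 0 := by
  classical
  have hY : (H.subgroupOf L).Normal := (Subgroup.normal_subgroupOf_iff_le_normalizer hHL).mpr hn
  let _ : Fintype ↥L := Fintype.ofFinite _
  let _ : Fintype ↥(H.subgroupOf L) := Fintype.ofFinite _
  let e := Subgroup.subgroupOfEquivOfLe hHL
  have hres : resFun (H.subgroupOf L) (ξ : ↥L → ℂ) = resLE hHL (ξ : ↥L → ℂ) ∘ e :=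
    resFun_subgroupOf hHL _
  have hcj := (cb_iff_conjFun H L hHL ⟨n, hnL⟩ _ _).mp hc
  have hcls : IsClassFunction ↥L (ξ : ↥L → ℂ) :=
    IsCharacter.isClassFunction (IsIrrCharacter.isCharacter ξ.2)
  have h1 := classInner_resFun_conjFun (H.subgroupOf L) hcls ⟨n, hnL⟩ ((η' : ↥H → ℂ) ∘ e)
  rw [hcj, hres, classInner_comp_mulEquiv, classInner_comp_mulEquiv] at h1
  rw [← h1]
  exact ho

/-- (M9f) the degree formula with the stabilizer in `L`. -/
theorem rel_degree_of_real_over (H L : Subgroup G) (hHL : H ≤ L)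
    (hn : L ≤ Subgroup.normalizer (H : Set G)) (hodd : Odd (H.relIndex L)) [Fintype ↥H]
    (ξ : IrrCharacter ↥L) (hξ : IsRe (ξ : ↥L → ℂ)) (η : IrrCharacter ↥H)
    (hη : IsRe (η : ↥H → ℂ))
    (ho : classInner (resLE hHL (ξ : ↥L → ℂ)) (η : ↥H → ℂ) ≠ 0) :
    charDegree (ξ : ↥L → ℂ) * Nat.card {n : G // n ∈ L ∧ CB H n (η : ↥H → ℂ) (η : ↥H → ℂ)} =
      Nat.card ↥L * charDegree (η : ↥H → ℂ) := by
  classical
  have hY : (H.subgroupOf L).Normal := (Subgroup.normal_subgroupOf_iff_le_normalizer hHL).mpr hn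
  let _ : Fintype ↥L := Fintype.ofFinite _
  let _ : Fintype ↥(H.subgroupOf L) := Fintype.ofFinite _
  let e := Subgroup.subgroupOfEquivOfLe hHL
  have hres : resFun (H.subgroupOf L) (ξ : ↥L → ℂ) = resLE hHL (ξ : ↥L → ℂ) ∘ e :=
    resFun_subgroupOf hHL _
  let θ : IrrCharacter ↥(H.subgroupOf L) :=
    ⟨(η : ↥H → ℂ) ∘ e, isIrrCharacter_comp_mulEquiv' e η.2⟩
  have hθre : IsRe (θ : ↥(H.subgroupOf L) → ℂ) := fun y => hη (e y)
  have hover : classInner (resFun (H.subgroupOf L) (ξ : ↥L → ℂ))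
      (θ : ↥(H.subgroupOf L) → ℂ) ≠ 0 := by
    show classInner (resFun (H.subgroupOf L) (ξ : ↥L → ℂ)) ((η : ↥H → ℂ) ∘ e) ≠ 0
    rw [hres, classInner_comp_mulEquiv]; exact ho
  have h3 := degree_of_real_over (H.subgroupOf L) hodd ξ hξ θ hθre hover
  have hdeg : charDegree (θ : ↥(H.subgroupOf L) → ℂ) = charDegree (η : ↥H → ℂ) := by
    unfold charDegree
    show ⌊(((η : ↥H → ℂ) ∘ e) 1).re⌋₊ = _
    rw [Function.comp_apply, map_one]
  have hcard : Nat.card {g : ↥L // conjFun (H.subgroupOf L) g (θ : ↥(H.subgroupOf L) → ℂ) =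
      (θ : ↥(H.subgroupOf L) → ℂ)} =
      Nat.card {n : G // n ∈ L ∧ CB H n (η : ↥H → ℂ) (η : ↥H → ℂ)} := by
    apply Nat.card_congr
    refine ⟨fun g => ⟨(g.1 : G), g.1.2, (cb_iff_conjFun H L hHL g.1 _ _).mpr g.2⟩,
      fun n => ⟨⟨n.1, n.2.1⟩, (cb_iff_conjFun H L hHL ⟨n.1, n.2.1⟩ _ _).mp n.2.2⟩, ?_, ?_⟩
    · intro g; rfl
    · intro n; rfl
  rw [hcard, hdeg] at h3
  exact h3

end Cfsg.Agent.Lib.Helper6.RealM
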