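/-
helper6: towards Reynolds' theorem (normal defect group abelian iff all heights zero).
Part A: blocks with a central-modulo-kernel defect group.
-/
import Mathlib
import Cfsg.Agent.Lib.Lead.CentralProdBlock8
import Cfsg.Agent.Lib.Lead.CharMore
import Cfsg.Agent.Lib.Helper23.QuotDefect
import Cfsg.Agent.Lib.Helper23.BrauerInduced
import Cfsg.Agent.Lib.Helper6.QuotBlock
import Cfsg.Agent.Lib.Helper6.FirstMain

set_option autoImplicit false

namespace Cfsg.Agent.Lib.Helper6

open Cfsg Cfsg.Agent.CharLib Cfsg.Agent.Lib.Helper24 Cfsg.Agent.Lib.Helper23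
open scoped ComplexConjugate

universe u

namespace Reynolds

section A

variable {G : Type u} [Group G] [Finite G] {M : Ideal AlgInt} {p : ℕ} [hpp : Fact p.Prime]

/-- In a block of `G = D C_G(D)` with abelian defect group `D`, all degrees have the `p`-part of
`|G : D|`. -/
theorem val_degree_cp_abelian (hM : IsPModular p M) (D : Subgroup G) (hDp : IsPGroup p D)
    (hG : D ⊔ Subgroup.centralizer (D : Set G) = ⊤) (hab : ∀ a b : D, a * b = b * a)
    (B : Set (IrrCharacter G)) (hB : IsPBlock M B) (hBD : IsDefectGroup p M B D)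
    (χ : IrrCharacter G) (hχ : χ ∈ B) :
    (charDegree (χ : G → ℂ)).factorization p = D.index.factorization p := by
  classical
  let _ := Fintype.ofFinite G
  obtain ⟨-, θ, hθ, hθD, -, hval⟩ := cp_canonical hM D hDp hG B hB hBD
  obtain ⟨μ, hμ⟩ := cp_clifford D hG χ
  obtain ⟨h1, -⟩ := cp_formula hM D hDp hG B hB hBD θ χ hθ hθD hχ μ hμ
  have h2 : (μ : D → ℂ) 1 = 1 := (comm_iff_forall_irr_apply_one (G := D)).mp hab μ
  rw [h2, one_mul, irr_apply_one, irr_apply_one] at h1
  have h3 : charDegree (χ : G → ℂ) = charDegree (θ : G → ℂ) := by exact_mod_cast h1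
  rw [h3, hval]

/-- In a block of `G = D C_G(D)` with defect group `D`, every irreducible character of `D` gives a
member of the block whose degree is its degree times the canonical degree. -/
theorem exists_degree_cp (hM : IsPModular p M) (D : Subgroup G) (hDp : IsPGroup p D)
    (hG : D ⊔ Subgroup.centralizer (D : Set G) = ⊤)
    (B : Set (IrrCharacter G)) (hB : IsPBlock M B) (hBD : IsDefectGroup p M B D)
    (ζ : IrrCharacter D) :
    ∃ ξ ∈ B, ∃ θ ∈ B, charDegree (ξ : G → ℂ) = charDegree (ζ : D → ℂ) * charDegree (θ : G → ℂ) := by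
  classical
  let _ := Fintype.ofFinite G
  obtain ⟨-, θ, hθ, hθD, -, hval⟩ := cp_canonical hM D hDp hG B hB hBD
  obtain ⟨ξ, hξ, hf⟩ := cp_surj hM D hDp hG B hB hBD θ hθ hθD ζ
  refine ⟨ξ, hξ, θ, hθ, ?_⟩
  have h1reg : ¬ p ∣ orderOf (1 : G) := by
    rw [orderOf_one]; exact hpp.out.not_dvd_one
  have h1 := hf 1 1 h1reg
  have h2 : (((1 : D) : G) * 1) = 1 := by simp
  rw [h2, irr_apply_one, irr_apply_one, irr_apply_one] at h1
  exact_mod_cast h1

end A

section B

variable {G : Type u} [Group G] [Finite G] {M : Ideal AlgInt} {p : ℕ} [hpp : Fact p.Prime]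

theorem map_conj_eq_of_normal (Q : Subgroup G) [hQn : Q.Normal] (c : G) :
    Q.map (MulAut.conj c).toMonoidHom = Q := by
  ext z
  rw [Subgroup.mem_map]
  constructor
  · rintro ⟨q, hq, rfl⟩
    exact hQn.conj_mem q hq c
  · intro hz
    refine ⟨c⁻¹ * z * c, ?_, ?_⟩
    · have := hQn.conj_mem z hz c⁻¹
      simpa using this
    · simp [MulAut.conj_apply, mul_assoc]

/-- A normal defect group is the only defect group. -/
theorem eq_of_isDefectGroup_normal (hM : IsPModular p M) {B : Set (IrrCharacter G)}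
    (hB : IsPBlock M B) {Q : Subgroup G} [hQn : Q.Normal] (hQ : IsDefectGroup p M B Q)
    {E : Subgroup G} (hE : IsDefectGroup p M B E) : E = Q := by
  obtain ⟨c, hc⟩ := isDefectGroup_conj_of_isDefectGroup hM hB hQ hE
  rw [hc, map_conj_eq_of_normal]

/-- If the defect group `Q` of the block of `ψ` is normal, `K ≤ Q` is a normal subgroup in the
kernel of `ψ` and `Q / K` is central in `G / K`, then the degree of `ψ` has the `p`-part of
`|G : Q|`. -/
theorem val_degree_of_central_quotient (hM : IsPModular p M) (Q : Subgroup G) [hQn : Q.Normal]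
    (hQp : IsPGroup p Q) (K : Subgroup G) [hKn : K.Normal] (hKQ : K ≤ Q)
    (hcent : ∀ x : G, ∀ q ∈ Q, x * q * x⁻¹ * q⁻¹ ∈ K)
    (B : Set (IrrCharacter G)) (hB : IsPBlock M B) (hBD : IsDefectGroup p M B Q)
    (ψ : IrrCharacter G) (hψ : ψ ∈ B) (hker : ∀ k ∈ K, (ψ : G → ℂ) k = (ψ : G → ℂ) 1) :
    (charDegree (ψ : G → ℂ)).factorization p = Q.index.factorization p := by
  classical
  have hprime : M.IsPrime := isPrime_of_isPModular hM
  obtain ⟨β, hβ⟩ := exists_deflation K ψ hker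
  set Bbar : Set (IrrCharacter (G ⧸ K)) := blockOf M (β : G ⧸ K → ℂ) with hBbar_def
  have hBbar : IsPBlock M Bbar := ⟨β, rfl⟩
  have hBeq : B = blockOf M (ψ : G → ℂ) :=
    isPBlock_eq_of_mem hB ⟨ψ, rfl⟩ hψ (mem_blockOf_self ψ)
  have hsub : ∀ γ ∈ Bbar, ∀ φ : IrrCharacter G,
      (φ : G → ℂ) = (γ : G ⧸ K → ℂ) ∘ QuotientGroup.mk → φ ∈ B := by
    intro γ hγ φ hφ
    have h1 : SameBlock M (β : G ⧸ K → ℂ) (γ : G ⧸ K → ℂ) := hγ
    have h2 := sameBlock_inflate K _ _ h1
    have h3 : (fun g : G => (β : G ⧸ K → ℂ) (g : G ⧸ K)) = (ψ : G → ℂ) := funext hβ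
    have h4 : (fun g : G => (γ : G ⧸ K → ℂ) (g : G ⧸ K)) = (φ : G → ℂ) := hφ.symm
    rw [h3, h4] at h2
    rw [hBeq]
    exact h2
  obtain ⟨Dbar, hDbar⟩ := exists_isDefectGroup hM Bbar hBbar
  obtain ⟨P', hP', hle⟩ := quotient_block_defect_group_le p hM K Bbar hBbar B hB hsub Dbar hDbar
  have hP'Q : P' = Q := eq_of_isDefectGroup_normal hM hB hBD hP'
  rw [hP'Q] at hle
  set Qbar : Subgroup (G ⧸ K) := Q.map (QuotientGroup.mk' K) with hQbar
  haveI hQbarn : Qbar.Normal := hQn.map _ (QuotientGroup.mk'_surjective K)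
  have hQbarp : IsPGroup p Qbar := hQp.map _
  have hle' : Qbar ≤ Dbar := le_of_isDefectGroup_of_normal hM Qbar hQbarp hBbar hDbar
  have hDQ : Dbar = Qbar := le_antisymm hle hle'
  rw [hDQ] at hDbar
  have hcen : ∀ a ∈ Qbar, ∀ y : G ⧸ K, y * a = a * y := by
    rintro _ ⟨q, hq, rfl⟩ y
    obtain ⟨x, rfl⟩ := QuotientGroup.mk_surjective y
    have h1 := hcent x q hq
    have h2 : ((x * q * x⁻¹ * q⁻¹ : G) : G ⧸ K) = 1 := (QuotientGroup.eq_one_iff _).mpr h1
    change (x : G ⧸ K) * (q : G ⧸ K) = (q : G ⧸ K) * (x : G ⧸ K)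
    have h3 : ((x * q * x⁻¹ * q⁻¹ : G) : G ⧸ K) =
        (x : G ⧸ K) * (q : G ⧸ K) * (x : G ⧸ K)⁻¹ * (q : G ⧸ K)⁻¹ := by
      simp
    rw [h3] at h2
    calc (x : G ⧸ K) * (q : G ⧸ K)
        = ((x : G ⧸ K) * (q : G ⧸ K) * (x : G ⧸ K)⁻¹ * (q : G ⧸ K)⁻¹) * ((q : G ⧸ K) * (x : G ⧸ K)) := by
          group
      _ = (q : G ⧸ K) * (x : G ⧸ K) := by rw [h2, one_mul]
  have hcentop : Subgroup.centralizer (Qbar : Set (G ⧸ K)) = ⊤ := by
    rw [Subgroup.centralizer_eq_top_iff_subset]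
    intro a ha
    rw [SetLike.mem_coe, Subgroup.mem_center_iff]
    intro y
    exact hcen a ha y
  have hG' : Qbar ⊔ Subgroup.centralizer (Qbar : Set (G ⧸ K)) = ⊤ := by
    rw [hcentop]; simp
  have hab : ∀ a b : Qbar, a * b = b * a := by
    intro a b
    apply Subtype.ext
    exact hcen (b : G ⧸ K) b.2 (a : G ⧸ K)
  have hval := val_degree_cp_abelian hM Qbar hQbarp hG' hab Bbar hBbar hDbar β (mem_blockOf_self β)
  have hdeg : charDegree (β : G ⧸ K → ℂ) = charDegree (ψ : G → ℂ) := by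
    unfold charDegree
    have := hβ 1
    rw [QuotientGroup.mk_one] at this
    rw [this]
  have hidx : Qbar.index = Q.index := by
    apply Subgroup.index_map_eq _ (QuotientGroup.mk'_surjective K)
    rw [QuotientGroup.ker_mk']
    exact hKQ
  rw [← hdeg, hval, hidx]

end B

end Reynolds

end Cfsg.Agent.Lib.Helper6
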