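/-
helper6: Reynolds' theorem: a block with a normal defect group `P` has all heights zero iff `P` is
abelian.
-/
import Mathlib
import Cfsg.Agent.Lib.Helper6.ReynoldsA
import Cfsg.Agent.Lib.Helper6.ExtFirstMain
import Cfsg.Agent.Lib.Helper6.Ramification2
import Cfsg.Agent.Lib.Helper6.Blau
import Cfsg.Agent.Lib.Helper6.CoverDefect
import Cfsg.Agent.Lib.Helper23.HeightZeroF

set_option autoImplicit false

namespace Cfsg.Agent.Lib.Helper6

open Cfsg Cfsg.Agent.CharLib Cfsg.Agent.Lib.Helper24 Cfsg.Agent.Lib.Helper23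
open scoped ComplexConjugate

universe u

namespace Reynolds

section C

variable {G : Type u} [Group G] [Fintype G] {M : Ideal AlgInt} {p : ℕ} [hpp : Fact p.Prime]

/-- If `b` induces `B`, every member of `b` lies under a member of `B`. -/
theorem exists_over_of_induced (hM : IsPModular p M) (H : Subgroup G) [Fintype H]
    {b : Set (IrrCharacter H)} {B : Set (IrrCharacter G)} (hind : IsInducedBlock M H b B)
    {ξ : IrrCharacter H} (hξ : ξ ∈ b) :
    ∃ χ ∈ B, classInner (fun h : H => (χ : G → ℂ) h) (ξ : H → ℂ) ≠ 0 := by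
  classical
  obtain ⟨⟨n, hn, hn0, -⟩, -⟩ := induced_blockPart_degree hM H hind hξ
  by_contra hcon
  push Not at hcon
  apply hn0
  have h0 : blockPart B (indFun H (ξ : H → ℂ)) 1 = 0 := by
    rw [Cfsg.Agent.Lib.Helper23.blockPart_apply]
    apply finsum_mem_eq_zero_of_forall_eq_zero
    intro χ hχ
    have hcls : IsClassFunction G (χ : G → ℂ) :=
      IsCharacter.isClassFunction (IsIrrCharacter.isCharacter χ.2)
    rw [frobenius_reciprocity H _ hcls]
    have h1 := hcon χ hχ
    have h2 : classInner (ξ : H → ℂ) (fun h : H => (χ : G → ℂ) h) =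
        conj (classInner (fun h : H => (χ : G → ℂ) h) (ξ : H → ℂ)) := (classInner_conj_symm _ _).symm
    rw [h2, h1, map_zero, zero_mul]
  rw [h0] at hn
  exact_mod_cast hn.symm

end C

section D

variable {G : Type u} [Group G] [Finite G] {M : Ideal AlgInt} {p : ℕ} [hpp : Fact p.Prime]

theorem sup_centralizer_subgroupOf (P : Subgroup G) [hPn : P.Normal] :
    P.subgroupOf (P ⊔ Subgroup.centralizer (P : Set G)) ⊔
      Subgroup.centralizer ((P.subgroupOf (P ⊔ Subgroup.centralizer (P : Set G)) :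
        Subgroup ↥(P ⊔ Subgroup.centralizer (P : Set G))) : Set ↥(P ⊔ Subgroup.centralizer (P : Set G)))
      = ⊤ := by
  rw [eq_top_iff]
  rintro ⟨h, hh⟩ -
  obtain ⟨y, hy, z, hz, rfl⟩ := Subgroup.mem_sup_of_normal_left.mp hh
  have h1 : (⟨y * z, hh⟩ : ↥(P ⊔ Subgroup.centralizer (P : Set G))) =
      ⟨y, Subgroup.mem_sup_left hy⟩ * ⟨z, Subgroup.mem_sup_right hz⟩ := rfl
  rw [h1]
  apply Subgroup.mul_mem
  · apply Subgroup.mem_sup_left
    rw [Subgroup.mem_subgroupOf]
    exact hy
  · apply Subgroup.mem_sup_right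
    rw [Subgroup.mem_centralizer_iff]
    intro w hw
    apply Subtype.ext
    rw [SetLike.mem_coe, Subgroup.mem_subgroupOf] at hw
    exact Subgroup.mem_centralizer_iff.mp hz (w : G) hw

/-- **Reynolds, forward**: abelian normal defect group gives all heights zero. -/
theorem heights_zero_of_abelian (hM : IsPModular p M) (B : Set (IrrCharacter G))
    (hB : IsPBlock M B) (P : Subgroup G) [hPn : P.Normal] (hP : IsDefectGroup p M B P)
    (hab : ∀ a ∈ P, ∀ c ∈ P, a * c = c * a) (χ : IrrCharacter G) (hχ : χ ∈ B) :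
    blockHeight p B (χ : G → ℂ) = 0 := by
  classical
  let _ := Fintype.ofFinite G
  have hprime : M.IsPrime := isPrime_of_isPModular hM
  have hp : p.Prime := hpp.out
  set H : Subgroup G := P ⊔ Subgroup.centralizer (P : Set G) with hH
  let _ : Fintype H := Fintype.ofFinite H
  have hPp : IsPGroup p P := ExtFirstMain.isPGroup_of_isDefectGroup hP
  obtain ⟨b, hbD, hind⟩ := ExtFirstMain.exists_block_PC hM B hB P hP
  have hb : IsPBlock M b := hind.1
  have hPH : P ≤ H := le_sup_left
  -- the minimal valuation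
  have hBne : B.Nonempty := ⟨χ, hχ⟩
  have hcard := card_defectGroup_eq hM B hB P hP
  have hmin : minVal p B = P.index.factorization p := by
    have h1 : blockDefect p B = (Nat.card G).factorization p - minVal p B := rfl
    have h2 := minVal_le_factorization_card (p := p) hBne
    have h3 : (Nat.card G).factorization p =
        (Nat.card P).factorization p + P.index.factorization p := by
      rw [← P.card_mul_index, Nat.factorization_mul Nat.card_pos.ne' Subgroup.index_ne_zero_of_finite]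
      rfl
    have h4 : (Nat.card P).factorization p = blockDefect p B := by
      rw [hcard, Nat.factorization_pow]
      simp [Nat.Prime.factorization_self hp]
    omega
  rw [blockHeight_eq_zero_iff hχ, hmin]
  apply le_antisymm _ (hmin ▸ minVal_le hχ)
  -- a member of `B` over a member of `b`
  obtain ⟨θ₀, hθ₀⟩ : b.Nonempty := by
    obtain ⟨θ₁, h⟩ := hb
    exact ⟨θ₁, by rw [h]; exact mem_blockOf_self θ₁⟩
  obtain ⟨χ₀, hχ₀, hcon₀⟩ := exists_over_of_induced hM H hind hθ₀
  obtain ⟨ξ, hξ⟩ := exists_constituent_res H χ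
  have hsame : SameBlock M (χ₀ : G → ℂ) (χ : G → ℂ) := by
    have h1 : B = blockOf M (χ₀ : G → ℂ) :=
      isPBlock_eq_of_mem hB ⟨χ₀, rfl⟩ hχ₀ (mem_blockOf_self χ₀)
    rw [h1] at hχ
    exact hχ
  obtain ⟨g, ξ₀, hξ₀, hg⟩ := mem_conjUnion_of_sameBlock H hM hb χ₀ χ hsame θ₀ hθ₀ hcon₀ ξ hξ
  have hdegξ : charDegree (ξ : H → ℂ) = charDegree (ξ₀ : H → ℂ) := by
    rw [hg, CoverDefect.charDegree_conjFun]
  -- the degree of `ξ₀`
  have habH : ∀ a c : P.subgroupOf H, a * c = c * a := by
    intro a c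
    apply Subtype.ext
    apply Subtype.ext
    exact hab _ (Subgroup.mem_subgroupOf.mp a.2) _ (Subgroup.mem_subgroupOf.mp c.2)
  have hval := val_degree_cp_abelian hM (P.subgroupOf H) (hPp.comap_subtype)
    (sup_centralizer_subgroupOf P) habH b hb hbD ξ₀ hξ₀
  -- the degree ratio
  have hc : (χ : G → ℂ) 1 = (charDegree (χ : G → ℂ) : ℂ) := irr_apply_one χ
  have hd : (ξ : H → ℂ) 1 = (charDegree (ξ : H → ℂ) : ℂ) := irr_apply_one ξ
  obtain ⟨hdvd, hquot⟩ := degree_ratio_dvd_index H χ.2 ξ.2 hξ hc hd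
  obtain ⟨k, hk⟩ := hdvd
  have hd0 : charDegree (ξ : H → ℂ) ≠ 0 := (irr_charDegree_pos ξ).ne'
  have hc0 : charDegree (χ : G → ℂ) ≠ 0 := (irr_charDegree_pos χ).ne'
  have hk0 : k ≠ 0 := by
    rintro rfl
    rw [mul_zero] at hk
    exact hc0 hk
  have hkq : k ∣ H.index := by
    rw [hk, Nat.mul_div_cancel_left _ (Nat.pos_of_ne_zero hd0)] at hquot
    exact hquot
  have hkval : k.factorization p ≤ H.index.factorization p :=
    (Nat.factorization_le_iff_dvd hk0 Subgroup.index_ne_zero_of_finite).mpr hkq p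
  have hidx : P.index = P.relIndex H * H.index := (Subgroup.relIndex_mul_index hPH).symm
  have hrel : (P.subgroupOf H).index = P.relIndex H := rfl
  have hrel0 : P.relIndex H ≠ 0 := by
    rw [← hrel]; exact Subgroup.index_ne_zero_of_finite
  rw [hk, Nat.factorization_mul hd0 hk0, hidx,
    Nat.factorization_mul hrel0 Subgroup.index_ne_zero_of_finite]
  simp only [Finsupp.coe_add, Pi.add_apply]
  rw [hdegξ, hval, hrel]
  omega

end D

section E

variable {G : Type u} [Group G] [Finite G] {M : Ideal AlgInt} {p : ℕ} [hpp : Fact p.Prime]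

/-- **Reynolds, converse**: all heights zero forces a normal defect group to be abelian. -/
theorem abelian_of_heights_zero (hM : IsPModular p M) (B : Set (IrrCharacter G))
    (hB : IsPBlock M B) (P : Subgroup G) [hPn : P.Normal] (hP : IsDefectGroup p M B P)
    (h0 : ∀ χ ∈ B, blockHeight p B (χ : G → ℂ) = 0) : ∀ a ∈ P, ∀ c ∈ P, a * c = c * a := by
  classical
  let _ := Fintype.ofFinite G
  have hprime : M.IsPrime := isPrime_of_isPModular hM
  have hp : p.Prime := hpp.out
  set H : Subgroup G := P ⊔ Subgroup.centralizer (P : Set G) with hH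
  let _ : Fintype H := Fintype.ofFinite H
  have hPp : IsPGroup p P := ExtFirstMain.isPGroup_of_isDefectGroup hP
  obtain ⟨b, hbD, hind⟩ := ExtFirstMain.exists_block_PC hM B hB P hP
  have hb : IsPBlock M b := hind.1
  have hPH : P ≤ H := le_sup_left
  have hPHp : IsPGroup p (P.subgroupOf H) := hPp.comap_subtype
  -- all irreducible characters of `P` are linear
  have hlin : ∀ ζ : IrrCharacter (P.subgroupOf H), (ζ : P.subgroupOf H → ℂ) 1 = 1 := by
    intro ζ
    obtain ⟨ξ, hξ, θ, hθ, hdeg⟩ := exists_degree_cp hM (P.subgroupOf H) hPHp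
      (sup_centralizer_subgroupOf P) b hb hbD ζ
    obtain ⟨χ, hχ, hcon⟩ := exists_over_of_induced hM H hind hξ
    obtain ⟨ξ₀, hξ₀, hht, n, hn, hpn⟩ := Blau.blau hM H hind χ hχ (h0 χ hχ)
    have hcon₀ : classInner (resFun H (χ : G → ℂ)) (ξ₀ : H → ℂ) ≠ 0 := by
      change classInner (fun h : H => (χ : G → ℂ) h) (ξ₀ : H → ℂ) ≠ 0
      rw [hn]
      intro h
      have : n = 0 := by exact_mod_cast h
      exact hpn (this ▸ dvd_zero p)
    obtain ⟨g, hg⟩ := exists_conjFun_eq_of_constituent (H := H) χ.2 ξ.2 ξ₀.2 hcon hcon₀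
    have hdeg' : charDegree (ξ₀ : H → ℂ) = charDegree (ξ : H → ℂ) := by
      rw [← hg, CoverDefect.charDegree_conjFun]
    have h1 : (charDegree (ξ₀ : H → ℂ)).factorization p = minVal p b :=
      (blockHeight_eq_zero_iff hξ₀).mp hht
    have h2 : minVal p b ≤ (charDegree (θ : H → ℂ)).factorization p := minVal_le hθ
    have hζ0 : charDegree (ζ : P.subgroupOf H → ℂ) ≠ 0 := (irr_charDegree_pos ζ).ne'
    have hθ0 : charDegree (θ : H → ℂ) ≠ 0 := (irr_charDegree_pos θ).ne'
    have h3 : (charDegree (ξ : H → ℂ)).factorization p =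
        (charDegree (ζ : P.subgroupOf H → ℂ)).factorization p +
          (charDegree (θ : H → ℂ)).factorization p := by
      rw [hdeg, Nat.factorization_mul hζ0 hθ0]
      rfl
    have h4 : (charDegree (ζ : P.subgroupOf H → ℂ)).factorization p = 0 := by
      rw [hdeg'] at h1
      omega
    have h5 : charDegree (ζ : P.subgroupOf H → ℂ) ∣ Nat.card (P.subgroupOf H) :=
      irr_charDegree_dvd_card ζ
    obtain ⟨k, hk⟩ := IsPGroup.iff_card.mp hPHp
    rw [hk] at h5
    obtain ⟨j, -, hj⟩ := (Nat.dvd_prime_pow hp).mp h5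
    rw [hj, Nat.factorization_pow] at h4
    simp [Nat.Prime.factorization_self hp] at h4
    rw [irr_apply_one, hj, h4]
    simp
  have hcomm := (comm_iff_forall_irr_apply_one (G := P.subgroupOf H)).mpr hlin
  intro a ha c hc
  have := hcomm ⟨⟨a, hPH ha⟩, Subgroup.mem_subgroupOf.mpr ha⟩
    ⟨⟨c, hPH hc⟩, Subgroup.mem_subgroupOf.mpr hc⟩
  exact congrArg (fun z : P.subgroupOf H => ((z : H) : G)) this

end E

end Reynolds

end Cfsg.Agent.Lib.Helper6
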