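/-
helper6: height-zero characters and linear characters of the defect group (root block `D C_G(D)`).
-/
import Mathlib
import Cfsg.Agent.Lib.Helper6.ReynoldsB
import Cfsg.Agent.Lib.Helper6.CentralHom
import Cfsg.Agent.Lib.Helper23.LinTwist

set_option autoImplicit false

namespace Cfsg.Agent.Lib.Helper6

open Cfsg Cfsg.Agent.CharLib Cfsg.Agent.Lib.Helper24 Cfsg.Agent.Lib.Helper23
open scoped ComplexConjugate

universe u

namespace Reynolds

section F

variable {G : Type u} [Group G]

/-- `D` and its centralizer generate `D C_G(D)`, read inside that group. -/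
theorem sup_centralizer_subgroupOf' (D : Subgroup G) :
    D.subgroupOf (D ⊔ Subgroup.centralizer (D : Set G)) ⊔
      Subgroup.centralizer ((D.subgroupOf (D ⊔ Subgroup.centralizer (D : Set G)) :
        Subgroup ↥(D ⊔ Subgroup.centralizer (D : Set G))) : Set ↥(D ⊔ Subgroup.centralizer (D : Set G)))
      = ⊤ := by
  set H : Subgroup G := D ⊔ Subgroup.centralizer (D : Set G) with hH
  rw [eq_top_iff]
  rw [← Subgroup.map_le_map_iff_of_injective H.subtype_injective, Subgroup.map_sup]
  have h1 : (D.subgroupOf H).map H.subtype = D := Subgroup.map_subgroupOf_eq_of_le le_sup_left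
  have h2 : Subgroup.centralizer (D : Set G) ≤
      (Subgroup.centralizer ((D.subgroupOf H : Subgroup H) : Set H)).map H.subtype := by
    intro c hc
    refine ⟨⟨c, Subgroup.mem_sup_right hc⟩, ?_, rfl⟩
    rw [SetLike.mem_coe, Subgroup.mem_centralizer_iff]
    intro w hw
    apply Subtype.ext
    rw [SetLike.mem_coe, Subgroup.mem_subgroupOf] at hw
    exact Subgroup.mem_centralizer_iff.mp hc (w : G) hw
  rw [h1]
  have h3 : (⊤ : Subgroup H).map H.subtype = H := by
    rw [← MonoidHom.range_eq_map, Subgroup.range_subtype]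
  rw [h3]
  exact sup_le (le_sup_left) (h2.trans le_sup_right)

end F

section G

variable {G : Type u} [Group G] [Finite G] {M : Ideal AlgInt} {p : ℕ} [hpp : Fact p.Prime]

/-- A height-zero member of a block of `G = D C_G(D)` with defect group `D` restricts to `D` as a
multiple of a linear character. -/
theorem exists_hom_of_height_zero_cp (hM : IsPModular p M) (D : Subgroup G) (hDp : IsPGroup p D)
    (hG : D ⊔ Subgroup.centralizer (D : Set G) = ⊤)
    (B : Set (IrrCharacter G)) (hB : IsPBlock M B) (hBD : IsDefectGroup p M B D)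
    (ξ : IrrCharacter G) (hξ : ξ ∈ B) (h0 : blockHeight p B (ξ : G → ℂ) = 0) :
    ∃ φ : D →* ℂˣ, ∀ d : D, (ξ : G → ℂ) d = (ξ : G → ℂ) 1 * ((φ d : ℂˣ) : ℂ) := by
  classical
  let _ := Fintype.ofFinite G
  have hp : p.Prime := hpp.out
  obtain ⟨-, θ, hθ, hθD, -, hval⟩ := cp_canonical hM D hDp hG B hB hBD
  obtain ⟨μ, hμ⟩ := cp_clifford D hG ξ
  obtain ⟨h1, -⟩ := cp_formula hM D hDp hG B hB hBD θ ξ hθ hθD hξ μ hμ
  rw [irr_apply_one, irr_apply_one, irr_apply_one] at h1
  have hdeg : charDegree (ξ : G → ℂ) = charDegree (μ : D → ℂ) * charDegree (θ : G → ℂ) := by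
    exact_mod_cast h1
  have hμ0 : charDegree (μ : D → ℂ) ≠ 0 := (irr_charDegree_pos μ).ne'
  have hθ0 : charDegree (θ : G → ℂ) ≠ 0 := (irr_charDegree_pos θ).ne'
  have h2 : (charDegree (ξ : G → ℂ)).factorization p = minVal p B :=
    (blockHeight_eq_zero_iff hξ).mp h0
  have h3 : minVal p B ≤ (charDegree (θ : G → ℂ)).factorization p := minVal_le hθ
  have h4 : (charDegree (ξ : G → ℂ)).factorization p =
      (charDegree (μ : D → ℂ)).factorization p + (charDegree (θ : G → ℂ)).factorization p := by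
    rw [hdeg, Nat.factorization_mul hμ0 hθ0]
    rfl
  have h5 : (charDegree (μ : D → ℂ)).factorization p = 0 := by omega
  have h6 : charDegree (μ : D → ℂ) ∣ Nat.card D := irr_charDegree_dvd_card μ
  obtain ⟨k, hk⟩ := IsPGroup.iff_card.mp hDp
  rw [hk] at h6
  obtain ⟨j, -, hj⟩ := (Nat.dvd_prime_pow hp).mp h6
  rw [hj, Nat.factorization_pow] at h5
  simp [Nat.Prime.factorization_self hp] at h5
  have hμ1 : charDegree (μ : D → ℂ) = 1 := by rw [hj, h5]; simp
  obtain ⟨φ, hφ⟩ := exists_lin_eq μ hμ1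
  refine ⟨φ, ?_⟩
  intro d
  have h7 := hμ d
  have h8 : (μ : D → ℂ) 1 = 1 := by rw [irr_apply_one, hμ1]; simp
  rw [h8, mul_one] at h7
  rw [h7, ← hφ, lin_apply]

end G

section H

variable {G : Type u} [Group G] [Finite G] {M : Ideal AlgInt} {p : ℕ} [hpp : Fact p.Prime]

/-- If a height-zero member of `B` lies over the linear character `lam` of the central subgroup
`Z ≤ D`, then `lam` extends to a linear character of the defect group `D`. -/
theorem exists_extension_of_height_zero (hM : IsPModular p M) (B : Set (IrrCharacter G))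
    (hB : IsPBlock M B) (D : Subgroup G) (hD : IsDefectGroup p M B D) (Z : Subgroup G)
    (hZc : Z ≤ Subgroup.center G) (hZD : Z ≤ D) (lam : ↥Z →* ℂˣ) (χ : IrrCharacter G)
    (hχ : χ ∈ B) (hover : ∀ z : ↥Z, (χ : G → ℂ) z = (χ : G → ℂ) 1 * (lam z : ℂ))
    (h0 : blockHeight p B (χ : G → ℂ) = 0) :
    ∃ μ : ↥D →* ℂˣ, ∀ z : ↥Z, μ ⟨(z : G), hZD z.2⟩ = lam z := by
  classical
  let _ := Fintype.ofFinite G
  have hprime : M.IsPrime := isPrime_of_isPModular hM
  have hp : p.Prime := hpp.out
  set H : Subgroup G := D ⊔ Subgroup.centralizer (D : Set G) with hH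
  let _ : Fintype H := Fintype.ofFinite H
  have hDp : IsPGroup p D := ExtFirstMain.isPGroup_of_isDefectGroup hD
  obtain ⟨b, hbD, hind⟩ := ExtFirstMain.exists_block_PC hM B hB D hD
  have hb : IsPBlock M b := hind.1
  have hDH : D ≤ H := le_sup_left
  obtain ⟨ξ, hξ, hht, n, hn, hpn⟩ := Blau.blau hM H hind χ hχ h0
  obtain ⟨φ, hφ⟩ := exists_hom_of_height_zero_cp hM (D.subgroupOf H) hDp.comap_subtype
    (sup_centralizer_subgroupOf' D) b hb hbD ξ hξ hht
  set e : ↥D ≃* ↥(D.subgroupOf H) := (Subgroup.subgroupOfEquivOfLe hDH).symm with he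
  refine ⟨φ.comp e.toMonoidHom, ?_⟩
  intro z
  -- notation
  set zH : H := ⟨(z : G), hDH (hZD z.2)⟩ with hzH
  set zD : ↥(D.subgroupOf H) := ⟨zH, Subgroup.mem_subgroupOf.mpr (hZD z.2)⟩ with hzD
  have hez : e ⟨(z : G), hZD z.2⟩ = zD := rfl
  have hS0 : classInner (fun h : H => (χ : G → ℂ) h) (ξ : H → ℂ) ≠ 0 := by
    rw [hn]
    intro h
    have : n = 0 := by exact_mod_cast h
    exact hpn (this ▸ dvd_zero p)
  -- the central characters
  obtain ⟨c, hc, -⟩ := IsIrrCharacter.exists_central_hom χ.2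
  obtain ⟨c', hc', hc'n⟩ := IsIrrCharacter.exists_central_hom ξ.2
  have hχ1 : (χ : G → ℂ) 1 ≠ 0 := irr_apply_one_ne_zero χ
  have hξ1 : (ξ : H → ℂ) 1 ≠ 0 := irr_apply_one_ne_zero ξ
  set z' : Subgroup.center G := ⟨(z : G), hZc z.2⟩ with hz'
  have hzHc : zH ∈ Subgroup.center H := by
    rw [Subgroup.mem_center_iff]
    intro h
    apply Subtype.ext
    exact Subgroup.mem_center_iff.mp (hZc z.2) (h : G)
  set z'' : Subgroup.center H := ⟨zH, hzHc⟩ with hz''
  have hcz : c z' = ((lam z : ℂˣ) : ℂ) := by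
    have h1 := hc z' 1
    rw [mul_one] at h1
    have h2 := hover z
    have h3 : ((z' : Subgroup.center G) : G) = (z : G) := rfl
    rw [h3, h2, mul_comm] at h1
    exact (mul_right_cancel₀ hχ1 h1).symm
  have hc'z : c' z'' = ((φ zD : ℂˣ) : ℂ) := by
    have h1 := hc' z'' 1
    rw [mul_one] at h1
    have h2 := hφ zD
    have h3 : ((z'' : Subgroup.center H) : H) = ((zD : ↥(D.subgroupOf H)) : H) := rfl
    rw [h3, h2, mul_comm] at h1
    exact (mul_right_cancel₀ hξ1 h1).symm
  have hnorm : c' z'' * conj (c' z'') = 1 := by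
    rw [Complex.mul_conj, Complex.normSq_eq_norm_sq, hc'n z'']
    simp
  -- the inner product is multiplied by `lam z * conj (φ z)`
  have hkey : classInner (fun h : H => (χ : G → ℂ) h) (ξ : H → ℂ) =
      (c z' * conj (c' z'')) * classInner (fun h : H => (χ : G → ℂ) h) (ξ : H → ℂ) := by
    unfold classInner
    rw [← mul_assoc, mul_comm (c z' * conj (c' z'')), mul_assoc]
    congr 1
    rw [Finset.mul_sum]
    rw [← Equiv.sum_comp (Equiv.mulLeft zH)]
    apply Finset.sum_congr rfl
    intro h _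
    simp only [Equiv.coe_mulLeft]
    have h1 : (χ : G → ℂ) ((zH * h : H) : G) = c z' * (χ : G → ℂ) (h : G) := by
      have := hc z' (h : G)
      exact this
    have h2 : (ξ : H → ℂ) (zH * h) = c' z'' * (ξ : H → ℂ) h := hc' z'' h
    rw [h1, h2, map_mul]
    ring
  have hone : c z' * conj (c' z'') = 1 := by
    have h1 : (c z' * conj (c' z'') - 1) *
        classInner (fun h : H => (χ : G → ℂ) h) (ξ : H → ℂ) = 0 := by
      rw [sub_mul, one_mul, ← hkey, sub_self]
    rcases mul_eq_zero.mp h1 with h2 | h2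
    · exact sub_eq_zero.mp h2
    · exact absurd h2 hS0
  have hfin : c z' = c' z'' := by
    calc c z' = c z' * (c' z'' * conj (c' z'')) := by rw [hnorm, mul_one]
      _ = (c z' * conj (c' z'')) * c' z'' := by ring
      _ = c' z'' := by rw [hone, one_mul]
  rw [hcz, hc'z] at hfin
  apply Units.ext
  rw [MonoidHom.comp_apply]
  change ((φ (e ⟨(z : G), hZD z.2⟩) : ℂˣ) : ℂ) = _
  rw [hez]
  exact hfin.symm

end H

end Reynolds

end Cfsg.Agent.Lib.Helper6
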