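/-
helper6: S3222 (2-central involution with centralizer `Z₂ × S₄`), part E:
decidable facts about `E = Z₂ × S₄`.
-/
import Mathlib

set_option autoImplicit false
set_option maxRecDepth 100000

namespace Cfsg.Agent.Lib.Helper6.S6Rec

open Equiv

/-- the model group `Z₂ × S₄` -/
abbrev E := Multiplicative (ZMod 2) × Perm (Fin 4)

def tE : E := (Multiplicative.ofAdd 1, 1)
def zE : E := (1, swap 0 1 * swap 2 3)
def aE : E := (1, swap 0 2 * swap 1 3)
def bE : E := (1, swap 0 1)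
def rE : E := (1, swap 1 2 * swap 2 3)
def cE : E := aE * bE

theorem card_E : Nat.card E = 48 := by
  rw [Nat.card_eq_fintype_card]; decide

theorem e_center : ∀ x : E, (∀ y : E, y * x = x * y) → x = 1 ∨ x = tE := by decide

theorem tE_central : ∀ y : E, y * tE = tE * y := by decide

theorem tE_ne_one : tE ≠ 1 := by decide

theorem tE_sq : tE * tE = 1 := by decide

theorem zE_ne_one : zE ≠ 1 := by decide

theorem zE_sq : zE * zE = 1 := by decide

theorem e_comm_comm : ∀ x y : E, x * zE = zE * x → y * zE = zE * y →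
    x * y * x⁻¹ * y⁻¹ = 1 ∨ x * y * x⁻¹ * y⁻¹ = zE := by decide

theorem e_sq : ∀ y : E, y * zE = zE * y → y * y = 1 ∨ y * y = zE := by decide

theorem cE_comm : cE * zE = zE * cE := by decide

theorem cE_sq : cE * cE = zE := by decide

theorem card_centE : Fintype.card {x : E // x * zE = zE * x} = 16 := by decide

theorem card_DE : Fintype.card {x : E // x.1 = 1 ∧ x * zE = zE * x} = 8 := by decide

theorem e_invol_D : ∀ y : E, y.1 = 1 → y * zE = zE * y → y * y = 1 →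
    y ∈ [1, zE, aE, aE * zE, bE, bE * zE] := by decide

theorem e_invol_out : ∀ y : E, y.1 ≠ 1 → y * zE = zE * y → y * y = 1 →
    y ∈ [tE, tE * zE, tE * aE, tE * aE * zE, tE * bE, tE * bE * zE] := by decide

theorem e_cent_T0 : ∀ y : E, y * zE = zE * y → y * aE = aE * y → y * bE = bE * y →
    y ∈ [1, tE, zE, tE * zE] := by decide

theorem rE_facts : rE * rE * rE = 1 ∧ rE ≠ 1 ∧ rE * zE * rE⁻¹ = aE ∧ rE * aE * rE⁻¹ = aE * zE ∧
    rE⁻¹ * zE * rE = aE * zE ∧ rE.1 = 1 := by decide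

theorem aE_facts : aE * zE = zE * aE ∧ aE * aE = 1 ∧ aE ≠ 1 ∧ aE.1 = 1 ∧ aE * bE * aE⁻¹ = bE * zE ∧
    aE ≠ cE ∧ aE ≠ cE * cE ∧ aE ≠ cE * cE * cE ∧ aE * cE * aE = cE⁻¹ ∧ aE * cE = bE := by decide

theorem bE_facts : bE * zE = zE * bE ∧ bE * bE = 1 ∧ bE ≠ 1 ∧ bE.1 = 1 := by decide

theorem e_fst : ∀ y : E, y.1 = 1 ∨ (tE * y).1 = 1 := by decide

theorem e_fst_xor : ∀ y : E, ((y * tE).1 = 1 ∧ ¬ y.1 = 1) ∨ (y.1 = 1 ∧ ¬ (y * tE).1 = 1) := by decide

theorem e_misc : tE.1 ≠ 1 ∧ (tE * zE).1 ≠ 1 ∧ tE * zE ≠ 1 ∧ (tE * zE) * (tE * zE) = 1 ∧ tE ≠ zE ∧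
    tE * zE ≠ zE ∧ tE * zE ≠ tE ∧ zE.1 = 1 := by decide

theorem e_DE_list : ∀ y : E, y.1 = 1 → y * zE = zE * y →
    y ∈ [1, cE, cE * cE, cE * cE * cE, aE, aE * cE, aE * (cE * cE), aE * (cE * cE * cE)] := by decide

/-- the automorphism `(i, σ) ↦ (i · sign σ, σ)` -/
def twistFun (y : E) : E := (y.1 * (if Perm.sign y.2 = 1 then 1 else Multiplicative.ofAdd 1), y.2)

theorem twistFun_mul : ∀ x y : E, twistFun (x * y) = twistFun x * twistFun y := by decide

theorem twistFun_invol : ∀ x : E, twistFun (twistFun x) = x := by decide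

theorem twistFun_facts : twistFun zE = zE ∧ twistFun bE = tE * bE ∧ twistFun tE = tE := by decide

theorem twist_comm_iff : ∀ y : E, twistFun y * zE = zE * twistFun y ↔ y * zE = zE * y := by decide

theorem rE_ncomm : zE * rE ≠ rE * zE ∧ (tE * zE) * rE ≠ rE * (tE * zE) := by decide

theorem out_facts : tE * aE = rE * (tE * zE) * rE⁻¹ ∧ tE * aE * zE = rE⁻¹ * (tE * zE) * rE ∧
    tE * bE * zE = aE * (tE * bE) * aE⁻¹ := by decide

theorem cE_pow4 : cE ^ 4 = 1 := by decide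

theorem cE_pow2 : cE ^ 2 ≠ 1 := by decide

theorem aE_not_mem : ∀ k : Fin 4, aE ≠ cE ^ (k : ℕ) := by decide

/-- the twisting automorphism of `E` -/
def twist : E ≃* E where
  toFun := twistFun
  invFun := twistFun
  left_inv := twistFun_invol
  right_inv := twistFun_invol
  map_mul' := twistFun_mul

theorem twist_apply (y : E) : twist y = twistFun y := rfl

end Cfsg.Agent.Lib.Helper6.S6Rec
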