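/-
helper6: S3222 (2-central involution with centralizer `Z₂ × S₄`), part A:
the configuration, Burnside fusion in `Z(T)`, Thompson transfer.
-/
import Mathlib
import Cfsg.Agent.Lib.Helper6.S6E
import Cfsg.Agent.S0111

set_option autoImplicit false

namespace Cfsg.Agent.Lib.Helper6.S6Rec

open Equiv

universe u

/-- The configuration: `t` an involution with `C(t) ≃* Z₂ × S₄`, `T` a Sylow 2-subgroup inside
`C(t)` corresponding to the centralizer of `zE`, and `C_G(T') = T`. -/
structure Cfg (G : Type u) [Group G] where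
  t : G
  ht : orderOf t = 2
  T : Sylow 2 G
  e : Subgroup.centralizer ({t} : Set G) ≃* E
  hT : ∀ y : E, ((e.symm y : Subgroup.centralizer ({t} : Set G)) : G) ∈ (T : Subgroup G) ↔
    y * zE = zE * y
  hTC : (T : Subgroup G) ≤ Subgroup.centralizer ({t} : Set G)
  h2 : Subgroup.centralizer ((⁅(T : Subgroup G), (T : Subgroup G)⁆ : Subgroup G) : Set G) =
    (T : Subgroup G)

namespace Cfg

variable {G : Type u} [Group G] (K : Cfg G)

/-- the centralizer of `t` -/
abbrev C : Subgroup G := Subgroup.centralizer ({K.t} : Set G)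

/-- the embedding `E →* G` -/
noncomputable def gm : E →* G := K.C.subtype.comp K.e.symm.toMonoidHom

theorem gm_apply (y : E) : K.gm y = ((K.e.symm y : K.C) : G) := rfl

theorem gm_mem_C (y : E) : K.gm y ∈ K.C := (K.e.symm y).2

theorem gm_e {x : G} (hx : x ∈ K.C) : K.gm (K.e ⟨x, hx⟩) = x := by
  rw [gm_apply, MulEquiv.symm_apply_apply]

theorem gm_injective : Function.Injective K.gm := by
  intro x y h
  have : K.e.symm x = K.e.symm y := Subtype.ext h
  exact K.e.symm.injective this

theorem gm_mem_T (y : E) : K.gm y ∈ (K.T : Subgroup G) ↔ y * zE = zE * y := K.hT y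

theorem exists_of_mem_C {x : G} (hx : x ∈ K.C) : ∃ y : E, x = K.gm y :=
  ⟨K.e ⟨x, hx⟩, (K.gm_e hx).symm⟩

theorem exists_of_mem_T {x : G} (hx : x ∈ (K.T : Subgroup G)) :
    ∃ y : E, y * zE = zE * y ∧ x = K.gm y := by
  obtain ⟨y, rfl⟩ := K.exists_of_mem_C (K.hTC hx)
  exact ⟨y, (K.gm_mem_T y).1 hx, rfl⟩

theorem mem_C {x : G} : x ∈ K.C ↔ x * K.t = K.t * x := Subgroup.mem_centralizer_singleton_iff

theorem t_mem_C : K.t ∈ K.C := K.mem_C.2 rfl

theorem t_ne_one : K.t ≠ 1 := by
  intro h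
  have := K.ht
  rw [h, orderOf_one] at this
  omega

theorem gm_tE : K.gm tE = K.t := by
  have hc : ∀ y : E, y * K.e ⟨K.t, K.t_mem_C⟩ = K.e ⟨K.t, K.t_mem_C⟩ * y := by
    intro y
    obtain ⟨x, rfl⟩ := K.e.surjective y
    rw [← map_mul, ← map_mul]
    congr 1
    exact Subtype.ext (K.mem_C.1 x.2)
  rcases e_center _ hc with h | h
  · exfalso
    have := K.gm_e K.t_mem_C
    rw [h, map_one] at this
    exact K.t_ne_one this.symm
  · rw [← h, K.gm_e]

/-- the central involution of `T'` -/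
noncomputable def z : G := K.gm zE
noncomputable def a : G := K.gm aE
noncomputable def b : G := K.gm bE
noncomputable def rho : G := K.gm rE

theorem t_sq : K.t * K.t = 1 := by rw [← K.gm_tE, ← map_mul, tE_sq, map_one]

theorem z_sq : K.z * K.z = 1 := by unfold z; rw [← map_mul, zE_sq, map_one]

theorem z_ne_one : K.z ≠ 1 := by
  unfold z
  intro h
  rw [← map_one K.gm] at h
  exact zE_ne_one (K.gm_injective h)

theorem commutator_le : ⁅(K.T : Subgroup G), (K.T : Subgroup G)⁆ ≤ Subgroup.zpowers K.z := by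
  rw [Subgroup.commutator_le]
  intro x hx y hy
  obtain ⟨x', hx', rfl⟩ := K.exists_of_mem_T hx
  obtain ⟨y', hy', rfl⟩ := K.exists_of_mem_T hy
  rw [commutatorElement_def, ← map_inv, ← map_inv, ← map_mul, ← map_mul, ← map_mul]
  rcases e_comm_comm x' y' hx' hy' with h | h
  · rw [h, map_one]; exact one_mem _
  · rw [h]; exact Subgroup.mem_zpowers _

theorem T_le_centralizer_z : (K.T : Subgroup G) ≤ Subgroup.centralizer ({K.z} : Set G) := by
  intro x hx
  obtain ⟨y, hy, rfl⟩ := K.exists_of_mem_T hx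
  rw [Subgroup.mem_centralizer_singleton_iff]
  unfold z
  rw [← map_mul, ← map_mul, hy]

theorem centralizer_z : Subgroup.centralizer ({K.z} : Set G) = (K.T : Subgroup G) := by
  apply le_antisymm _ K.T_le_centralizer_z
  intro g hg
  rw [← K.h2, Subgroup.mem_centralizer_iff]
  intro h hh
  obtain ⟨k, rfl⟩ := Subgroup.mem_zpowers_iff.mp (K.commutator_le hh)
  have hgz : Commute g K.z := Subgroup.mem_centralizer_singleton_iff.mp hg
  exact ((hgz.zpow_right k).eq).symm

theorem mem_T_iff {x : G} : x ∈ (K.T : Subgroup G) ↔ x * K.z = K.z * x := by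
  rw [← K.centralizer_z, Subgroup.mem_centralizer_singleton_iff]

theorem normalizer_le : Subgroup.normalizer ((K.T : Subgroup G) : Set G) ≤ (K.T : Subgroup G) := by
  intro g hg
  rw [K.mem_T_iff]
  have hc : K.gm cE ∈ (K.T : Subgroup G) := (K.gm_mem_T _).2 cE_comm
  have h1 : g * K.gm cE * g⁻¹ ∈ (K.T : Subgroup G) := (Subgroup.mem_normalizer_iff.mp hg _).1 hc
  obtain ⟨y, hy, h⟩ := K.exists_of_mem_T h1
  have h2 : g * K.z * g⁻¹ = K.gm (y * y) := by
    rw [map_mul, ← h]; unfold z; rw [← cE_sq, map_mul]; group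
  rcases e_sq y hy with h3 | h3
  · exfalso
    rw [h3, map_one] at h2
    apply K.z_ne_one
    calc K.z = g⁻¹ * (g * K.z * g⁻¹) * g := by group
      _ = 1 := by rw [h2]; group
  · rw [h3] at h2
    calc g * K.z = (g * K.z * g⁻¹) * g := by group
      _ = K.z * g := by rw [h2]; rfl

variable [Finite G]

/-- Burnside: elements of `Z(T)` conjugate in `G` are equal. -/
theorem eq_of_conj_center {x y : G} (hx : x ∈ Subgroup.centralizer ((K.T : Subgroup G) : Set G))
    (hy : y ∈ Subgroup.centralizer ((K.T : Subgroup G) : Set G)) (g : G)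
    (h : g⁻¹ * x * g = y) : y = x := by
  haveI : Fact (Nat.Prime 2) := ⟨Nat.prime_two⟩
  obtain ⟨n, hn, hn'⟩ := Sylow.conj_eq_normalizer_conj_of_mem_centralizer K.T x g hx (h ▸ hy)
  have hnT := K.normalizer_le hn
  rw [← h, hn']
  have := (Subgroup.mem_centralizer_iff.mp hx) n hnT
  rw [mul_assoc, ← this]; group

theorem t_mem_center : K.t ∈ Subgroup.centralizer ((K.T : Subgroup G) : Set G) := by
  rw [Subgroup.mem_centralizer_iff]
  intro h hh
  exact (K.mem_C.1 (K.hTC hh))

theorem z_mem_center : K.z ∈ Subgroup.centralizer ((K.T : Subgroup G) : Set G) := by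
  rw [Subgroup.mem_centralizer_iff]
  intro h hh
  exact K.mem_T_iff.1 hh

theorem tz_mem_center : K.t * K.z ∈ Subgroup.centralizer ((K.T : Subgroup G) : Set G) :=
  mul_mem K.t_mem_center K.z_mem_center

theorem t_ne_z : K.t ≠ K.z := by
  rw [← K.gm_tE]; unfold z
  exact fun h => e_misc.2.2.2.2.1 (K.gm_injective h)

theorem not_conj_t_z (g : G) : g * K.t * g⁻¹ ≠ K.z := by
  intro h
  have := K.eq_of_conj_center K.t_mem_center K.z_mem_center g⁻¹ (by rw [inv_inv]; exact h)
  exact K.t_ne_z this.symm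

theorem not_conj_tz_z (g : G) : g * (K.t * K.z) * g⁻¹ ≠ K.z := by
  intro h
  have := K.eq_of_conj_center K.tz_mem_center K.z_mem_center g⁻¹ (by rw [inv_inv]; exact h)
  have h1 : K.t = 1 := by
    calc K.t = (K.t * K.z) * K.z⁻¹ := by group
      _ = 1 := by rw [← this]; group
  exact K.t_ne_one h1

theorem not_conj_t_tz (g : G) : g * K.t * g⁻¹ ≠ K.t * K.z := by
  intro h
  have := K.eq_of_conj_center K.t_mem_center K.tz_mem_center g⁻¹ (by rw [inv_inv]; exact h)
  have h1 : K.z = 1 := by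
    calc K.z = K.t⁻¹ * (K.t * K.z) := by group
      _ = 1 := by rw [this]; group
  exact K.z_ne_one h1

end Cfg

end Cfsg.Agent.Lib.Helper6.S6Rec
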