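/-
helper6: S3222, part B: Thompson transfer gives a normal subgroup of index 2 avoiding `t`.
-/
import Mathlib
import Cfsg.Agent.Lib.Helper6.S6A

set_option autoImplicit false

namespace Cfsg.Agent.Lib.Helper6.S6Rec

open Equiv

universe u

namespace Cfg

variable {G : Type u} [Group G] (K : Cfg G)

/-- the complement `L ≅ S₄` of `⟨t⟩` in `C(t)` -/
noncomputable def L : Subgroup G :=
  (MonoidHom.ker (MonoidHom.fst (Multiplicative (ZMod 2)) (Perm (Fin 4)))).map K.gm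

theorem gm_mem_L (y : E) : K.gm y ∈ K.L ↔ y.1 = 1 := by
  unfold L
  rw [Subgroup.mem_map]
  constructor
  · rintro ⟨y', hy', h⟩
    rw [← K.gm_injective h]
    exact MonoidHom.mem_ker.mp hy'
  · intro h
    exact ⟨y, MonoidHom.mem_ker.mpr h, rfl⟩

/-- the dihedral subgroup `D = T ∩ L` -/
noncomputable def D : Subgroup G := (K.T : Subgroup G) ⊓ K.L

theorem gm_mem_D (y : E) : K.gm y ∈ K.D ↔ y.1 = 1 ∧ y * zE = zE * y := by
  unfold D
  rw [Subgroup.mem_inf, K.gm_mem_T, K.gm_mem_L, and_comm]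

theorem D_le : K.D ≤ (K.T : Subgroup G) := inf_le_left

theorem relIndex_D : K.D.relIndex (K.T : Subgroup G) = 2 := by
  rw [Subgroup.relIndex_eq_two_iff]
  refine ⟨K.t, ?_, ?_⟩
  · rw [← K.gm_tE, K.gm_mem_T]; exact (tE_central zE).symm
  · intro x hx
    obtain ⟨y, hy, rfl⟩ := K.exists_of_mem_T hx
    have hyt : (y * tE) * zE = zE * (y * tE) := by
      rw [mul_assoc, ← tE_central zE, ← mul_assoc, hy, mul_assoc]
    rw [← K.gm_tE, ← map_mul, K.gm_mem_D, K.gm_mem_D]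
    rcases e_fst_xor y with h | h
    · left
      exact ⟨⟨h.1, hyt⟩, fun h' => h.2 h'.1⟩
    · right
      exact ⟨⟨h.1, hy⟩, fun h' => h.2 h'.1⟩

theorem t_not_mem_D : K.t ∉ K.D := by
  rw [← K.gm_tE, K.gm_mem_D]
  exact fun h => e_misc.1 h.1

theorem tz_not_mem_D : K.t * K.z ∉ K.D := by
  unfold z
  rw [← K.gm_tE, ← map_mul, K.gm_mem_D]
  exact fun h => e_misc.2.1 h.1

theorem t_mem_T : K.t ∈ (K.T : Subgroup G) := by
  rw [← K.gm_tE, K.gm_mem_T]; exact (tE_central zE).symm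

theorem z_mem_T : K.z ∈ (K.T : Subgroup G) := by
  unfold z; rw [K.gm_mem_T]

theorem orderOf_tz : orderOf (K.t * K.z) = 2 := by
  apply orderOf_eq_prime
  · unfold z
    rw [← K.gm_tE, ← map_mul, pow_two, ← map_mul, e_misc.2.2.2.1, map_one]
  · unfold z
    rw [← K.gm_tE, ← map_mul]
    intro h
    rw [← map_one K.gm] at h
    exact e_misc.2.2.1 (K.gm_injective h)

theorem rho_conj_z : K.rho * K.z * K.rho⁻¹ = K.a := by
  unfold rho z a
  rw [← map_inv, ← map_mul, ← map_mul, rE_facts.2.2.1]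

theorem rho_inv_conj_z : K.rho⁻¹ * K.z * K.rho = K.a * K.z := by
  unfold rho z a
  rw [← map_inv, ← map_mul, ← map_mul, ← map_mul, rE_facts.2.2.2.2.1]

theorem a_conj_b : K.a * K.b * K.a⁻¹ = K.b * K.z := by
  unfold a b z
  rw [← map_inv, ← map_mul, ← map_mul, ← map_mul, aE_facts.2.2.2.2.1]

/-- an involution conjugate into `D` is conjugate to `z` or to `b` -/
theorem conj_D_cases {u g : G} (hu : u * u = 1) (hu1 : u ≠ 1) (h : g * u * g⁻¹ ∈ K.D) :
    (∃ g' : G, g' * u * g'⁻¹ = K.z) ∨ ∃ g' : G, g' * u * g'⁻¹ = K.b := by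
  obtain ⟨y, hy, hd⟩ := K.exists_of_mem_T (K.D_le h)
  rw [hd, K.gm_mem_D] at h
  have hyy : y * y = 1 := by
    apply K.gm_injective
    rw [map_mul, ← hd, map_one]
    calc g * u * g⁻¹ * (g * u * g⁻¹) = g * (u * u) * g⁻¹ := by group
      _ = 1 := by rw [hu]; group
  have hl := e_invol_D y h.1 h.2 hyy
  simp only [List.mem_cons, List.not_mem_nil, or_false] at hl
  rcases hl with rfl | rfl | rfl | rfl | rfl | rfl
  · exfalso
    rw [map_one] at hd
    apply hu1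
    calc u = g⁻¹ * (g * u * g⁻¹) * g := by group
      _ = 1 := by rw [hd]; group
  · exact Or.inl ⟨g, hd⟩
  · left
    refine ⟨K.rho⁻¹ * g, ?_⟩
    have : g * u * g⁻¹ = K.a := hd
    calc K.rho⁻¹ * g * u * (K.rho⁻¹ * g)⁻¹ = K.rho⁻¹ * (g * u * g⁻¹) * K.rho := by group
      _ = K.rho⁻¹ * (K.rho * K.z * K.rho⁻¹) * K.rho := by rw [this, K.rho_conj_z]
      _ = K.z := by group
  · left
    refine ⟨K.rho * g, ?_⟩
    have : g * u * g⁻¹ = K.a * K.z := by rw [hd, map_mul]; rfl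
    calc K.rho * g * u * (K.rho * g)⁻¹ = K.rho * (g * u * g⁻¹) * K.rho⁻¹ := by group
      _ = K.rho * (K.rho⁻¹ * K.z * K.rho) * K.rho⁻¹ := by rw [this, K.rho_inv_conj_z]
      _ = K.z := by group
  · exact Or.inr ⟨g, hd⟩
  · right
    refine ⟨K.a⁻¹ * g, ?_⟩
    have : g * u * g⁻¹ = K.b * K.z := by rw [hd, map_mul]; rfl
    calc K.a⁻¹ * g * u * (K.a⁻¹ * g)⁻¹ = K.a⁻¹ * (g * u * g⁻¹) * K.a := by group
      _ = K.a⁻¹ * (K.a * K.b * K.a⁻¹) * K.a := by rw [this, K.a_conj_b]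
      _ = K.b := by group

theorem z_eq_sq : K.z = K.gm cE ^ 2 := by
  unfold z
  rw [pow_two, ← map_mul, cE_sq]

variable [Finite G]

/-- Thompson transfer: there is a normal subgroup of index 2 not containing `t`. -/
theorem exists_index_two : ∃ G₀ : Subgroup G, G₀.Normal ∧ G₀.index = 2 ∧ K.t ∉ G₀ := by
  rcases Cfsg.Agent.S0111.result K.T K.D K.D_le K.relIndex_D K.t K.ht K.t_mem_T K.t_not_mem_D with
    ⟨M, hM, hi, ht⟩ | ⟨g₁, h₁⟩
  · exact ⟨M, hM, hi, ht⟩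
  rcases Cfsg.Agent.S0111.result K.T K.D K.D_le K.relIndex_D (K.t * K.z) K.orderOf_tz
    (mul_mem K.t_mem_T K.z_mem_T) K.tz_not_mem_D with ⟨M, hM, hi, ht⟩ | ⟨g₂, h₂⟩
  · refine ⟨M, hM, hi, fun h => ht (mul_mem h ?_)⟩
    rw [K.z_eq_sq]
    exact Subgroup.sq_mem_of_index_two hi _
  exfalso
  rcases K.conj_D_cases K.t_sq K.t_ne_one h₁ with ⟨g, hg⟩ | ⟨g, hg⟩
  · exact K.not_conj_t_z g hg
  have htz2 : (K.t * K.z) * (K.t * K.z) = 1 := by
    have := pow_orderOf_eq_one (K.t * K.z)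
    rwa [K.orderOf_tz, pow_two] at this
  have htz1 : K.t * K.z ≠ 1 := by
    intro h
    have := K.orderOf_tz
    rw [h, orderOf_one] at this
    omega
  rcases K.conj_D_cases htz2 htz1 h₂ with ⟨g', hg'⟩ | ⟨g', hg'⟩
  · exact K.not_conj_tz_z g' hg'
  apply K.not_conj_t_tz (g'⁻¹ * g)
  calc g'⁻¹ * g * K.t * (g'⁻¹ * g)⁻¹ = g'⁻¹ * (g * K.t * g⁻¹) * g' := by group
    _ = g'⁻¹ * (g' * (K.t * K.z) * g'⁻¹) * g' := by rw [hg, hg']
    _ = K.t * K.z := by group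

end Cfg

end Cfsg.Agent.Lib.Helper6.S6Rec
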