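/-
helper6: S3222, part C: the index-2 subgroup `G₀`, its involution `z` with dihedral centralizer.
-/
import Mathlib
import Cfsg.Agent.Lib.Helper6.S6B
import Cfsg.Agent.Lib.Helper6.D8Gen6
import Cfsg.Agent.Lib.Helper3.Dihedral

set_option autoImplicit false

namespace Cfsg.Agent.Lib.Helper6.S6Rec

open Equiv

universe u

namespace Cfg

variable {G : Type u} [Group G] (K : Cfg G)

/-- the twisted configuration -/
noncomputable def twistCfg : Cfg G where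
  t := K.t
  ht := K.ht
  T := K.T
  e := K.e.trans twist
  hT := fun y => by
    rw [MulEquiv.symm_trans_apply, K.hT]
    exact twist_comm_iff y
  hTC := K.hTC
  h2 := K.h2

theorem twistCfg_gm (y : E) : K.twistCfg.gm y = K.gm (twistFun y) := rfl

theorem twistCfg_b : K.twistCfg.b = K.t * K.b := by
  unfold b
  rw [twistCfg_gm, twistFun_facts.2.1, map_mul, K.gm_tE]

end Cfg

/-- configuration together with a normal subgroup of index 2 avoiding `t`, containing `b` -/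
structure Cfg0 (G : Type u) [Group G] where
  K : Cfg G
  G₀ : Subgroup G
  hn : G₀.Normal
  hi : G₀.index = 2
  htG : K.t ∉ G₀
  hb : K.b ∈ G₀

theorem Cfg.exists_cfg0 {G : Type u} [Group G] [Finite G] (K : Cfg G) :
    ∃ Z : Cfg0 G, Z.K.t = K.t ∧ Z.K.T = K.T := by
  obtain ⟨G₀, hn, hi, ht⟩ := K.exists_index_two
  by_cases hb : K.b ∈ G₀
  · exact ⟨⟨K, G₀, hn, hi, ht, hb⟩, rfl, rfl⟩
  · refine ⟨⟨K.twistCfg, G₀, hn, hi, ht, ?_⟩, rfl, rfl⟩
    rw [K.twistCfg_b, Subgroup.mul_mem_iff_of_index_two hi]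
    exact ⟨fun h => absurd h ht, fun h => absurd h hb⟩

namespace Cfg0

variable {G : Type u} [Group G] (Z : Cfg0 G)

theorem sq_mem (x : G) : x * x ∈ Z.G₀ := by
  rw [← pow_two]; exact Subgroup.sq_mem_of_index_two Z.hi x

theorem conj_mem {x : G} (hx : x ∈ Z.G₀) (g : G) : g * x * g⁻¹ ∈ Z.G₀ := Z.hn.conj_mem x hx g

theorem rho_cube : Z.K.rho * Z.K.rho * Z.K.rho = 1 := by
  unfold Cfg.rho
  rw [← map_mul, ← map_mul, rE_facts.1, map_one]

theorem rho_mem : Z.K.rho ∈ Z.G₀ := by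
  have h := Z.sq_mem (Z.K.rho * Z.K.rho)
  have : Z.K.rho * Z.K.rho * (Z.K.rho * Z.K.rho) = Z.K.rho := by
    calc Z.K.rho * Z.K.rho * (Z.K.rho * Z.K.rho) = (Z.K.rho * Z.K.rho * Z.K.rho) * Z.K.rho := by group
      _ = Z.K.rho := by rw [Z.rho_cube, one_mul]
  rwa [this] at h

theorem z_mem : Z.K.z ∈ Z.G₀ := by
  rw [Z.K.z_eq_sq, pow_two]; exact Z.sq_mem _

theorem a_mem : Z.K.a ∈ Z.G₀ := by
  rw [← Z.K.rho_conj_z]; exact Z.conj_mem Z.z_mem _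

/-- the embedding of `S₄` -/
noncomputable def iota : Perm (Fin 4) →* G :=
  Z.K.gm.comp (MonoidHom.inr (Multiplicative (ZMod 2)) (Perm (Fin 4)))

theorem iota_mem (σ : Perm (Fin 4)) : Z.iota σ ∈ Z.G₀ := by
  have hN : (Z.G₀.comap Z.iota).Normal := Z.hn.comap _
  have h01 : swap (0 : Fin 4) 1 ∈ Z.G₀.comap Z.iota := Z.hb
  have hsw : ∀ τ : Perm (Fin 4), τ.IsSwap → τ ∈ Z.G₀.comap Z.iota := by
    rintro τ ⟨x, y, hxy, rfl⟩
    have hc : IsConj (swap (0 : Fin 4) 1) (swap x y) := Equiv.Perm.isConj_swap (by decide) hxy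
    obtain ⟨c, hc⟩ := isConj_iff.mp hc
    rw [← hc]
    exact hN.conj_mem _ h01 c
  have htop : Z.G₀.comap Z.iota = ⊤ := by
    rw [eq_top_iff, ← Equiv.Perm.closure_isSwap, Subgroup.closure_le]
    exact fun τ hτ => hsw τ hτ
  have : σ ∈ Z.G₀.comap Z.iota := by rw [htop]; exact Subgroup.mem_top σ
  exact this

theorem gm_mem_G0 (y : E) : Z.K.gm y ∈ Z.G₀ ↔ y.1 = 1 := by
  constructor
  · intro h
    rcases e_fst y with h1 | h1
    · exact h1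
    · exfalso
      have h2 : Z.K.gm (tE * y) ∈ Z.G₀ := by
        have : tE * y = (1, (tE * y).2) := Prod.ext h1 rfl
        rw [this]
        exact Z.iota_mem _
      rw [map_mul, Z.K.gm_tE] at h2
      exact Z.htG ((Subgroup.mul_mem_cancel_right Z.G₀ h).mp h2)
  · intro h
    have : y = (1, y.2) := Prod.ext h rfl
    rw [this]
    exact Z.iota_mem _

theorem L_le : Z.K.L ≤ Z.G₀ := by
  intro x hx
  unfold Cfg.L at hx
  rw [Subgroup.mem_map] at hx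
  obtain ⟨y, hy, rfl⟩ := hx
  exact (Z.gm_mem_G0 y).2 (MonoidHom.mem_ker.mp hy)

theorem mem_C_inf {x : G} (hx : x ∈ Z.K.C) (hx0 : x ∈ Z.G₀) : x ∈ Z.K.L := by
  obtain ⟨y, rfl⟩ := Z.K.exists_of_mem_C hx
  rw [Z.K.gm_mem_L]
  exact (Z.gm_mem_G0 y).1 hx0

/-- the group `G₀` as a type -/
abbrev H : Type u := ↥Z.G₀

/-- `z` as an element of `G₀` -/
noncomputable def z₀ : Z.H := ⟨Z.K.z, Z.z_mem⟩

theorem orderOf_z₀ : orderOf Z.z₀ = 2 := by
  apply orderOf_eq_prime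
  · apply Subtype.ext
    rw [pow_two]
    exact Z.K.z_sq
  · intro h
    exact Z.K.z_ne_one (congrArg Subtype.val h)

/-- the centralizer of `z₀` in `G₀` -/
abbrev K₀ : Subgroup Z.H := Subgroup.centralizer ({Z.z₀} : Set Z.H)

theorem mem_K₀ {x : Z.H} : x ∈ Z.K₀ ↔ (x : G) ∈ (Z.K.T : Subgroup G) := by
  rw [Subgroup.mem_centralizer_singleton_iff, Z.K.mem_T_iff]
  constructor
  · intro h; exact congrArg Subtype.val h
  · intro h; exact Subtype.ext h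

/-- elements of `K₀` from elements of `E` -/
noncomputable def k0 (y : E) (h1 : y.1 = 1) (h2 : y * zE = zE * y) : Z.K₀ :=
  ⟨⟨Z.K.gm y, (Z.gm_mem_G0 y).2 h1⟩, Z.mem_K₀.2 ((Z.K.gm_mem_T y).2 h2)⟩

theorem k0_val (y : E) (h1 : y.1 = 1) (h2 : y * zE = zE * y) :
    ((Z.k0 y h1 h2 : Z.H) : G) = Z.K.gm y := rfl

theorem exists_k0 (x : Z.K₀) : ∃ (y : E) (h1 : y.1 = 1) (h2 : y * zE = zE * y), x = Z.k0 y h1 h2 := by
  have hx := Z.mem_K₀.1 x.2
  obtain ⟨y, hy, h⟩ := Z.K.exists_of_mem_T hx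
  have h1 : y.1 = 1 := by
    rw [← Z.gm_mem_G0, ← h]; exact x.1.2
  exact ⟨y, h1, hy, Subtype.ext (Subtype.ext h)⟩

theorem cE_fst : cE.1 = 1 := by decide

noncomputable def c₀ : Z.K₀ := Z.k0 cE cE_fst cE_comm

noncomputable def a₀ : Z.K₀ := Z.k0 aE aE_facts.2.2.2.1 aE_facts.1

theorem ext_K₀ {x y : Z.K₀} (h : ((x : Z.H) : G) = ((y : Z.H) : G)) : x = y :=
  Subtype.ext (Subtype.ext h)

theorem c₀_pow : Z.c₀ ^ 4 = 1 := by
  apply Z.ext_K₀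
  rw [Subgroup.coe_pow, Subgroup.coe_pow]
  show Z.K.gm cE ^ 4 = 1
  rw [← map_pow, cE_pow4, map_one]

theorem a₀_sq : Z.a₀ * Z.a₀ = 1 := by
  apply Z.ext_K₀
  rw [Subgroup.coe_mul, Subgroup.coe_mul]
  show Z.K.gm aE * Z.K.gm aE = 1
  rw [← map_mul, aE_facts.2.1, map_one]

theorem a₀_c₀ : Z.a₀ * Z.c₀ * Z.a₀ = Z.c₀⁻¹ := by
  apply Z.ext_K₀
  rw [Subgroup.coe_mul, Subgroup.coe_mul, Subgroup.coe_mul, Subgroup.coe_mul, Subgroup.coe_inv,
    Subgroup.coe_inv]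
  show Z.K.gm aE * Z.K.gm cE * Z.K.gm aE = (Z.K.gm cE)⁻¹
  rw [← map_mul, ← map_mul, aE_facts.2.2.2.2.2.2.2.2.1, map_inv]

theorem orderOf_c₀ : orderOf Z.c₀ = 4 := by
  have h := orderOf_eq_prime_pow (x := Z.c₀) (p := 2) (n := 1) ?_ ?_
  · rw [h]; norm_num
  · intro h
    have h' := congrArg (fun x : Z.K₀ => ((x : Z.H) : G)) h
    simp only [Subgroup.coe_pow, Subgroup.coe_one] at h'
    have h'' : Z.K.gm (cE ^ 2) = Z.K.gm 1 := by
      rw [map_pow, map_one]; exact h'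
    exact cE_pow2 (Z.K.gm_injective h'')
  · exact Z.c₀_pow

variable [Finite G]

theorem a₀_not_mem : Z.a₀ ∉ Subgroup.zpowers Z.c₀ := by
  classical
  intro h
  rw [mem_zpowers_iff_mem_range_orderOf, Z.orderOf_c₀] at h
  simp only [Finset.mem_image, Finset.mem_range] at h
  obtain ⟨k, hk, hk'⟩ := h
  have h' := congrArg (fun x : Z.K₀ => ((x : Z.H) : G)) hk'
  simp only [Subgroup.coe_pow] at h'
  have h'' : Z.K.gm (cE ^ k) = Z.K.gm aE := by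
    rw [map_pow]; exact h'
  exact aE_not_mem ⟨k, hk⟩ (Z.K.gm_injective h'').symm

theorem card_K₀_le : Nat.card Z.K₀ ≤ 8 := by
  classical
  have hmem : ∀ x : Z.K₀, ((x : Z.H) : G) ∈ Z.K.C := fun x => Z.K.hTC (Z.mem_K₀.1 x.2)
  let f : Z.K₀ → {y : E // y.1 = 1 ∧ y * zE = zE * y} := fun x =>
    ⟨Z.K.e ⟨((x : Z.H) : G), hmem x⟩, by
      constructor
      · rw [← Z.gm_mem_G0, Z.K.gm_e]; exact x.1.2
      · rw [← Z.K.gm_mem_T, Z.K.gm_e]; exact Z.mem_K₀.1 x.2⟩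
  have hf : Function.Injective f := by
    intro x y h
    have h1 := congrArg (fun w : {y : E // y.1 = 1 ∧ y * zE = zE * y} => Z.K.gm w.1) h
    simp only [f, Z.K.gm_e] at h1
    exact Z.ext_K₀ h1
  have h8 : Nat.card {y : E // y.1 = 1 ∧ y * zE = zE * y} = 8 := by
    rw [Nat.card_eq_fintype_card]; exact card_DE
  have := Nat.card_le_card_of_injective f hf
  rwa [h8] at this

/-- the dihedral lift -/
noncomputable def lift : DihedralGroup 4 →* Z.K₀ :=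
  Cfsg.Agent.Lib.Helper3.dihLift Z.c₀ Z.a₀ Z.c₀_pow Z.a₀_sq Z.a₀_c₀

theorem lift_bijective : Function.Bijective Z.lift := by
  have hinj : Function.Injective Z.lift :=
    Cfsg.Agent.Lib.Helper3.dihLift_injective Z.c₀ Z.a₀ Z.c₀_pow Z.a₀_sq Z.a₀_c₀ Z.orderOf_c₀
      Z.a₀_not_mem
  apply Function.Injective.bijective_of_nat_card_le hinj
  rw [DihedralGroup.nat_card]
  exact Z.card_K₀_le

/-- the isomorphism of `C_{G₀}(z)` with `D₈` -/
noncomputable def e₀ : Z.K₀ ≃* DihedralGroup 4 := (MulEquiv.ofBijective Z.lift Z.lift_bijective).symm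

/-- the `D₈`-centralizer context for `G₀` -/
noncomputable def ctx : D8Cent.Ctx Z.H := ⟨Z.z₀, Z.orderOf_z₀, Z.e₀⟩

theorem ctx_gm (d : DihedralGroup 4) : Z.ctx.gm d = ((Z.lift d : Z.K₀) : Z.H) := rfl

theorem ctx_gm_sr0 : ((Z.ctx.gm (DihedralGroup.sr 0) : Z.H) : G) = Z.K.a := by
  rw [ctx_gm]
  unfold lift
  rw [Cfsg.Agent.Lib.Helper3.dihLift_sr_zero]
  rfl

theorem ctx_gm_sr1 : ((Z.ctx.gm (DihedralGroup.sr 1) : Z.H) : G) = Z.K.b := by
  have h : (DihedralGroup.sr 1 : DihedralGroup 4) = DihedralGroup.sr 0 * DihedralGroup.r 1 := by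
    decide
  rw [ctx_gm, h, map_mul]
  unfold lift
  rw [Cfsg.Agent.Lib.Helper3.dihLift_sr_zero, Cfsg.Agent.Lib.Helper3.dihLift_r_one]
  rw [Subgroup.coe_mul, Subgroup.coe_mul]
  show Z.K.gm aE * Z.K.gm cE = Z.K.b
  rw [← map_mul, aE_facts.2.2.2.2.2.2.2.2.2]
  rfl

theorem ctx_t : ((Z.ctx.t : Z.H) : G) = Z.K.z := rfl

omit [Finite G] in
theorem isConj_iff_H {x y : Z.H} : IsConj x y ↔ ∃ g ∈ Z.G₀, g * (x : G) * g⁻¹ = (y : G) := by
  rw [isConj_iff]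
  constructor
  · rintro ⟨c, hc⟩
    exact ⟨c, c.2, congrArg Subtype.val hc⟩
  · rintro ⟨g, hg, h⟩
    exact ⟨⟨g, hg⟩, Subtype.ext h⟩

theorem h0 : IsConj Z.ctx.t (Z.ctx.gm (DihedralGroup.sr 0)) := by
  rw [Z.isConj_iff_H, Z.ctx_gm_sr0, Z.ctx_t]
  exact ⟨Z.K.rho, Z.rho_mem, Z.K.rho_conj_z⟩

theorem h1_iff : IsConj Z.ctx.t (Z.ctx.gm (DihedralGroup.sr 1)) ↔
    ∃ g ∈ Z.G₀, g * Z.K.z * g⁻¹ = Z.K.b := by
  rw [Z.isConj_iff_H, Z.ctx_gm_sr1, Z.ctx_t]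

end Cfg0

end Cfsg.Agent.Lib.Helper6.S6Rec
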