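/-
helper6: S3222, part D: the centralizer of `G₀`, cardinalities, the cases `S₄` and `S₅`.
-/
import Mathlib
import Cfsg.Agent.Lib.Helper6.S6C
import Cfsg.Agent.Lib.Helper9.SymAut

set_option autoImplicit false

namespace Cfsg.Agent.Lib.Helper6.S6Rec

open Equiv

universe u

namespace Cfg0

variable {G : Type u} [Group G] (Z : Cfg0 G)

theorem b_mem_T : Z.K.b ∈ (Z.K.T : Subgroup G) := by
  unfold Cfg.b; rw [Z.K.gm_mem_T]; exact bE_facts.1

theorem a_mem_T : Z.K.a ∈ (Z.K.T : Subgroup G) := by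
  unfold Cfg.a; rw [Z.K.gm_mem_T]; exact aE_facts.1

/-- if `G₀ ≤ C(t)` then `C(t) = ⊤` -/
theorem C_eq_top (h : ∀ x ∈ Z.G₀, Z.K.t * x = x * Z.K.t) : Z.K.C = ⊤ := by
  rw [eq_top_iff]
  intro g _
  by_cases hg : g ∈ Z.G₀
  · exact Z.K.mem_C.2 (h g hg).symm
  · have h1 : g * Z.K.t ∈ Z.G₀ := by
      rw [Subgroup.mul_mem_iff_of_index_two Z.hi]
      exact ⟨fun h' => absurd h' hg, fun h' => absurd h' Z.htG⟩
    have h2 : g * Z.K.t ∈ Z.K.C := Z.K.mem_C.2 (h _ h1).symm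
    have h3 := mul_mem h2 (inv_mem Z.K.t_mem_C)
    rwa [mul_inv_cancel_right] at h3

/-- the centralizer of `G₀` is trivial, unless `G = C(t)` -/
theorem centralizer_G0 {k : G} (hk : ∀ x ∈ Z.G₀, k * x = x * k) :
    k = 1 ∨ (k = Z.K.t ∧ Z.K.C = ⊤) := by
  have hkT : k ∈ (Z.K.T : Subgroup G) := Z.K.mem_T_iff.2 (hk _ Z.z_mem)
  obtain ⟨y, hy, rfl⟩ := Z.K.exists_of_mem_T hkT
  have hya : y * aE = aE * y := by
    apply Z.K.gm_injective
    rw [map_mul, map_mul]
    exact hk _ Z.a_mem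
  have hyb : y * bE = bE * y := by
    apply Z.K.gm_injective
    rw [map_mul, map_mul]
    exact hk _ Z.hb
  have hl := e_cent_T0 y hy hya hyb
  simp only [List.mem_cons, List.not_mem_nil, or_false] at hl
  rcases hl with rfl | rfl | rfl | rfl
  · left; exact map_one _
  · right
    rw [Z.K.gm_tE] at hk ⊢
    exact ⟨rfl, Z.C_eq_top hk⟩
  · exfalso
    have := hk _ Z.rho_mem
    unfold Cfg.rho at this
    rw [← map_mul, ← map_mul] at this
    exact rE_ncomm.1 (Z.K.gm_injective this)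
  · exfalso
    have := hk _ Z.rho_mem
    unfold Cfg.rho at this
    rw [← map_mul, ← map_mul] at this
    exact rE_ncomm.2 (Z.K.gm_injective this)

variable [Finite G]

theorem card_C : Nat.card Z.K.C = 48 := by
  rw [Nat.card_congr Z.K.e.toEquiv, card_E]

theorem card_G : Nat.card G = 2 * Nat.card Z.G₀ := by
  have := Z.G₀.card_mul_index
  rw [Z.hi] at this
  omega

theorem card_G0_of_top (h : Z.K.C = ⊤) : Nat.card Z.G₀ = 24 := by
  have h1 := Z.card_C
  rw [h, Subgroup.card_top, Z.card_G] at h1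
  omega

theorem C_eq_top_of_card (h : Nat.card Z.G₀ = 24) : Z.K.C = ⊤ := by
  apply Subgroup.eq_top_of_card_eq
  rw [Z.card_C, Z.card_G, h]

/-- `t` does not act on `G₀` as an inner automorphism, unless `G = C(t)`. -/
theorem not_inner (hne : Nat.card Z.G₀ ≠ 24) (g : G) (hg : g ∈ Z.G₀)
    (h : ∀ x ∈ Z.G₀, Z.K.t * x * Z.K.t⁻¹ = g * x * g⁻¹) : False := by
  have hk : ∀ x ∈ Z.G₀, (g⁻¹ * Z.K.t) * x = x * (g⁻¹ * Z.K.t) := by
    intro x hx
    have := h x hx
    calc g⁻¹ * Z.K.t * x = g⁻¹ * (Z.K.t * x * Z.K.t⁻¹) * Z.K.t := by group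
      _ = g⁻¹ * (g * x * g⁻¹) * Z.K.t := by rw [this]
      _ = x * (g⁻¹ * Z.K.t) := by group
  rcases Z.centralizer_G0 hk with h1 | ⟨-, h1⟩
  · apply Z.htG
    have : Z.K.t = g := by
      calc Z.K.t = g * (g⁻¹ * Z.K.t) := by group
        _ = g := by rw [h1, mul_one]
    rw [this]; exact hg
  · exact hne (Z.card_G0_of_top h1)

/-- the case `G₀ ≃* S₅` is impossible -/
theorem not_perm_five (f : Z.H ≃* Perm (Fin 5)) : False := by
  haveI := Z.hn
  have hcard : Nat.card Z.G₀ = 120 := by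
    rw [Nat.card_congr f.toEquiv, Nat.card_eq_fintype_card, Fintype.card_perm, Fintype.card_fin]
    rfl
  let τ : MulAut Z.H := MulAut.conjNormal Z.K.t
  let θ : Perm (Fin 5) ≃* Perm (Fin 5) := f.symm.trans (τ.trans f)
  have hθ : ∀ σ : Perm (Fin 5), σ.IsSwap → (θ σ).IsSwap := fun σ hσ =>
    Cfsg.Agent.Lib.Helper9.SymIndex.isSwap_map rfl (by simp) θ hσ
  obtain ⟨e, he⟩ := Cfsg.Agent.Lib.Helper9.SymAut.exists_equiv_of_swap_preserving rfl (by simp) θ hθ
  have hθ' : ∀ σ : Perm (Fin 5), θ σ = e * σ * e⁻¹ := by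
    intro σ
    rw [he]
    ext x
    simp [Equiv.permCongr_apply, Perm.mul_apply]
  let g : Z.H := f.symm e
  apply Z.not_inner (by rw [hcard]; norm_num) (g : G) g.2
  intro x hx
  have h1 : f (τ ⟨x, hx⟩) = f (g * ⟨x, hx⟩ * g⁻¹) := by
    have := hθ' (f ⟨x, hx⟩)
    simp only [θ, MulEquiv.trans_apply, MulEquiv.symm_apply_apply] at this
    rw [this, map_mul, map_mul, map_inv]
    simp only [g, MulEquiv.apply_symm_apply]
  have h2 := congrArg Subtype.val (f.injective h1)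
  rw [MulAut.conjNormal_apply] at h2
  exact h2

end Cfg0

end Cfsg.Agent.Lib.Helper6.S6Rec
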