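/-
helper6: S3222, part G: if `G₀ ≃* A₆` then `G ≃* S₆`.
-/
import Mathlib
import Cfsg.Agent.Lib.Helper6.S6D
import Cfsg.Agent.Lib.Helper6.S6F

set_option autoImplicit false

namespace Cfsg.Agent.Lib.Helper6.S6Rec

open Equiv

universe u

namespace Cfg0

variable {G : Type u} [Group G] (Z : Cfg0 G)

/-- the action of `G` on `A₆` through an isomorphism `G₀ ≃* A₆` -/
noncomputable def Psi (f₀ : Z.H ≃* alternatingGroup (Fin 6)) :
    G →* MulAut (alternatingGroup (Fin 6)) :=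
  haveI := Z.hn
  (MulAut.congr f₀).toMonoidHom.comp (MulAut.conjNormal (H := Z.G₀))

theorem Psi_apply (f₀ : Z.H ≃* alternatingGroup (Fin 6)) (x : G) (y : alternatingGroup (Fin 6)) :
    Z.Psi f₀ x y = f₀ ((haveI := Z.hn; MulAut.conjNormal (H := Z.G₀) x) (f₀.symm y)) := rfl

/-- conjugation by permutations on `A₆` -/
noncomputable abbrev cN : Perm (Fin 6) →* MulAut (alternatingGroup (Fin 6)) := MulAut.conjNormal

theorem Psi_of_mem (f₀ : Z.H ≃* alternatingGroup (Fin 6)) {x : G} (hx : x ∈ Z.G₀) :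
    Z.Psi f₀ x = cN ((f₀ ⟨x, hx⟩ : alternatingGroup (Fin 6)) : Perm (Fin 6)) := by
  haveI := Z.hn
  apply MulEquiv.ext
  intro y
  rw [Psi_apply]
  apply Subtype.ext
  rw [MulAut.conjNormal_apply]
  have h1 : (MulAut.conjNormal (H := Z.G₀) x) (f₀.symm y) = ⟨x, hx⟩ * f₀.symm y * ⟨x, hx⟩⁻¹ := by
    apply Subtype.ext
    rw [MulAut.conjNormal_apply]
    rfl
  rw [h1, map_mul, map_mul, map_inv, MulEquiv.apply_symm_apply]
  rfl

theorem rho_comm_t : Z.K.t * Z.K.rho * Z.K.t⁻¹ = Z.K.rho := by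
  have := Z.K.mem_C.1 (Z.K.gm_mem_C rE)
  unfold Cfg.rho
  rw [← this]; group

theorem orderOf_rho : orderOf Z.K.rho = 3 := by
  apply orderOf_eq_prime
  · rw [pow_succ, pow_two]; exact Z.rho_cube
  · unfold Cfg.rho
    intro h
    rw [← map_one Z.K.gm] at h
    exact rE_facts.2.1 (Z.K.gm_injective h)

theorem Psi_t_mem (f₀ : Z.H ≃* alternatingGroup (Fin 6)) : Z.Psi f₀ Z.K.t ∈ (cN).range := by
  haveI := Z.hn
  let ρ₀ : Z.H := ⟨Z.K.rho, Z.rho_mem⟩
  have ho : orderOf (f₀ ρ₀) = 3 := by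
    rw [MulEquiv.orderOf_eq, ← Subgroup.orderOf_coe]
    exact Z.orderOf_rho
  have hfix : Z.Psi f₀ Z.K.t (f₀ ρ₀) = f₀ ρ₀ := by
    rw [Psi_apply, MulEquiv.symm_apply_apply]
    congr 1
    apply Subtype.ext
    rw [MulAut.conjNormal_apply]
    exact Z.rho_comm_t
  obtain ⟨g, hg⟩ := exists_perm_of_fixed (Z.Psi f₀ Z.K.t) (f₀ ρ₀) ho hfix
  exact ⟨g, hg⟩

theorem Psi_mem_range (f₀ : Z.H ≃* alternatingGroup (Fin 6)) (x : G) :
    Z.Psi f₀ x ∈ (cN).range := by
  by_cases hx : x ∈ Z.G₀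
  · rw [Z.Psi_of_mem f₀ hx]
    exact ⟨_, rfl⟩
  · have h1 : x * Z.K.t ∈ Z.G₀ := by
      rw [Subgroup.mul_mem_iff_of_index_two Z.hi]
      exact ⟨fun h' => absurd h' hx, fun h' => absurd h' Z.htG⟩
    have h2 : x = (x * Z.K.t) * Z.K.t⁻¹ := by group
    rw [h2, map_mul, map_inv]
    apply mul_mem
    · rw [Z.Psi_of_mem f₀ h1]; exact ⟨_, rfl⟩
    · exact inv_mem (Z.Psi_t_mem f₀)

variable [Finite G]

theorem card_A6 : Nat.card (alternatingGroup (Fin 6)) = 360 := by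
  have := two_mul_nat_card_alternatingGroup (α := Fin 6)
  rw [Nat.card_eq_fintype_card (α := Perm (Fin 6)), Fintype.card_perm, Fintype.card_fin] at this
  have h720 : Nat.factorial 6 = 720 := by decide
  omega

theorem Psi_injective (f₀ : Z.H ≃* alternatingGroup (Fin 6)) : Function.Injective (Z.Psi f₀) := by
  haveI := Z.hn
  rw [injective_iff_map_eq_one]
  intro k hk
  have hcard : Nat.card Z.G₀ = 360 := by rw [Nat.card_congr f₀.toEquiv, card_A6]
  have hc : ∀ x ∈ Z.G₀, k * x = x * k := by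
    intro x hx
    have h1 := DFunLike.congr_fun hk (f₀ ⟨x, hx⟩)
    rw [Psi_apply, MulEquiv.symm_apply_apply, MulAut.one_apply] at h1
    have h2 := congrArg Subtype.val (f₀.injective h1)
    rw [MulAut.conjNormal_apply] at h2
    calc k * x = (k * x * k⁻¹) * k := by group
      _ = x * k := by rw [h2]
  rcases Z.centralizer_G0 hc with h | ⟨-, h⟩
  · exact h
  · exfalso
    have := Z.card_G0_of_top h
    omega

/-- if `G₀ ≃* A₆` then `G ≃* S₆` -/
theorem perm_six (f₀ : Z.H ≃* alternatingGroup (Fin 6)) : Nonempty (G ≃* Perm (Fin 6)) := by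
  have hinj : Function.Injective (cN) :=
    Cfsg.Agent.Lib.Helper9.AltAut.conjNormal_injective (α := Fin 6) (by simp)
  let Ψ' : G →* (cN).range := (Z.Psi f₀).codRestrict (cN).range (Z.Psi_mem_range f₀)
  let Θ : G →* Perm (Fin 6) := (MonoidHom.ofInjective hinj).symm.toMonoidHom.comp Ψ'
  have hΘ : Function.Injective Θ := by
    intro x y h
    have h1 : Ψ' x = Ψ' y := (MonoidHom.ofInjective hinj).symm.injective h
    have h2 : Z.Psi f₀ x = Z.Psi f₀ y := congrArg Subtype.val h1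
    exact Z.Psi_injective f₀ h2
  have hcard : Nat.card Z.G₀ = 360 := by rw [Nat.card_congr f₀.toEquiv, card_A6]
  have hbij : Function.Bijective Θ := by
    apply Function.Injective.bijective_of_nat_card_le hΘ
    rw [Z.card_G, hcard, Nat.card_eq_fintype_card, Fintype.card_perm, Fintype.card_fin]
    decide
  exact ⟨MulEquiv.ofBijective Θ hbij⟩

end Cfg0

end Cfsg.Agent.Lib.Helper6.S6Rec
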