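/-
helper6: S3222, part H: the case `G₀ ≃* SL₃(2)` is impossible (Z*-theorem and Sylow 7-subgroups).
-/
import Mathlib
import Cfsg.Agent.Lib.Helper6.S6D
import Cfsg.Agent.Lib.Helper19.PrimDihedral
import Cfsg.Agent.S0215

set_option autoImplicit false

namespace Cfsg.Agent.Lib.Helper6.S6Rec

open Equiv

universe u

namespace Cfg0

variable {G : Type u} [Group G] (Z : Cfg0 G)

/-- involutions of `T` outside `G₀` -/
theorem invol_out_cases {s : G} (hsT : s ∈ (Z.K.T : Subgroup G)) (hs0 : s ∉ Z.G₀)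
    (hs2 : s * s = 1) :
    s = Z.K.t ∨ (∃ q : G, s = q * (Z.K.t * Z.K.z) * q⁻¹) ∨
      ∃ q : G, s = q * (Z.K.t * Z.K.b) * q⁻¹ := by
  obtain ⟨y, hy, rfl⟩ := Z.K.exists_of_mem_T hsT
  have h1 : y.1 ≠ 1 := fun h => hs0 ((Z.gm_mem_G0 y).2 h)
  have h2 : y * y = 1 := by
    apply Z.K.gm_injective
    rw [map_mul, map_one]; exact hs2
  have hl := e_invol_out y h1 hy h2
  simp only [List.mem_cons, List.not_mem_nil, or_false] at hl
  rcases hl with rfl | rfl | rfl | rfl | rfl | rfl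
  · left; exact Z.K.gm_tE
  · right; left
    refine ⟨1, ?_⟩
    rw [map_mul, Z.K.gm_tE]; unfold Cfg.z; group
  · right; left
    refine ⟨Z.K.rho, ?_⟩
    rw [out_facts.1, map_mul, map_mul, map_mul, map_inv, Z.K.gm_tE]; rfl
  · right; left
    refine ⟨Z.K.rho⁻¹, ?_⟩
    rw [out_facts.2.1, map_mul, map_mul, map_mul, map_inv, Z.K.gm_tE, inv_inv]; rfl
  · right; right
    refine ⟨1, ?_⟩
    rw [map_mul, Z.K.gm_tE]; unfold Cfg.b; group
  · right; right
    refine ⟨Z.K.a, ?_⟩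
    rw [out_facts.2.2, map_mul, map_mul, map_mul, map_inv, Z.K.gm_tE]; rfl

theorem tz_ne_one : Z.K.t * Z.K.z ≠ 1 := by
  intro h
  have := Z.K.orderOf_tz
  rw [h, orderOf_one] at this
  omega

variable [Finite G]

/-- Z*-theorem: if `G₀` is simple of order `≠ 24` then `t` is conjugate to `t * b`. -/
theorem conj_t_tb (hs : IsSimpleGroup Z.H) (hne : Nat.card Z.G₀ ≠ 24) (hev : Even (Nat.card Z.G₀)) :
    ∃ g : G, g * Z.K.t * g⁻¹ = Z.K.t * Z.K.b := by
  have key : ∃ g : G, g * Z.K.t * g⁻¹ ∈ (Z.K.T : Subgroup G) ∧ g * Z.K.t * g⁻¹ ≠ Z.K.t := by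
    by_contra hcon
    push Not at hcon
    obtain ⟨N, hN, hodd, hcomm⟩ := Cfsg.Agent.S0215.result Z.K.T Z.K.t Z.K.ht Z.K.t_mem_T hcon
    -- `N ≤ G₀`
    have hNle : N ≤ Z.G₀ := by
      intro n hn
      have ho : Odd (orderOf n) := by
        have h1 : orderOf (⟨n, hn⟩ : N) ∣ Nat.card N := orderOf_dvd_natCard _
        rw [Subgroup.orderOf_mk] at h1
        exact Odd.of_dvd_nat hodd h1
      obtain ⟨m, hm⟩ := ho
      have h2 : n = n ^ (m + 1) * n ^ (m + 1) := by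
        rw [← pow_add]
        have : m + 1 + (m + 1) = orderOf n + 1 := by omega
        rw [this, pow_succ, pow_orderOf_eq_one, one_mul]
      rw [h2]; exact Z.sq_mem _
    have hN' : (N.subgroupOf Z.G₀).Normal := hN.subgroupOf Z.G₀
    have hbot : N = ⊥ := by
      rcases hs.eq_bot_or_eq_top_of_normal _ hN' with h | h
      · rw [Subgroup.subgroupOf_eq_bot] at h
        rw [eq_bot_iff]
        intro n hn
        exact (Subgroup.disjoint_def.mp h) hn (hNle hn)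
      · exfalso
        rw [Subgroup.subgroupOf_eq_top] at h
        have h1 := Subgroup.card_dvd_of_le h
        have h2 : Even (Nat.card N) := (even_iff_two_dvd.mpr (dvd_trans (even_iff_two_dvd.mp hev) h1))
        exact (Nat.not_even_iff_odd.mpr hodd) h2
    have hcen : ∀ x ∈ Z.G₀, Z.K.t * x = x * Z.K.t := by
      intro x _
      have := hcomm x
      rw [hbot, Subgroup.mem_bot] at this
      calc Z.K.t * x = (Z.K.t * x * Z.K.t⁻¹ * x⁻¹) * x * Z.K.t := by group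
        _ = x * Z.K.t := by rw [this, one_mul]
    exact hne (Z.card_G0_of_top (Z.C_eq_top hcen))
  obtain ⟨g, hgT, hgne⟩ := key
  have hg0 : g * Z.K.t * g⁻¹ ∉ Z.G₀ := by
    intro h
    apply Z.htG
    have := Z.conj_mem h g⁻¹
    rw [inv_inv] at this
    have e : g⁻¹ * (g * Z.K.t * g⁻¹) * g = Z.K.t := by group
    rwa [e] at this
  have hg2 : g * Z.K.t * g⁻¹ * (g * Z.K.t * g⁻¹) = 1 := by
    calc g * Z.K.t * g⁻¹ * (g * Z.K.t * g⁻¹) = g * (Z.K.t * Z.K.t) * g⁻¹ := by group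
      _ = 1 := by rw [Z.K.t_sq]; group
  rcases Z.invol_out_cases hgT hg0 hg2 with h | ⟨q, h⟩ | ⟨q, h⟩
  · exact absurd h hgne
  · exfalso
    apply Z.K.not_conj_t_tz (q⁻¹ * g)
    calc q⁻¹ * g * Z.K.t * (q⁻¹ * g)⁻¹ = q⁻¹ * (g * Z.K.t * g⁻¹) * q := by group
      _ = Z.K.t * Z.K.z := by rw [h]; group
  · refine ⟨q⁻¹ * g, ?_⟩
    calc q⁻¹ * g * Z.K.t * (q⁻¹ * g)⁻¹ = q⁻¹ * (g * Z.K.t * g⁻¹) * q := by group
      _ = Z.K.t * Z.K.b := by rw [h]; group

end Cfg0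

end Cfsg.Agent.Lib.Helper6.S6Rec
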