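/-
helper6: S3222, part I: the case `G₀ ≃* SL₃(2)` is impossible (Sylow 7-subgroups).
-/
import Mathlib
import Cfsg.Agent.Lib.Helper6.S6H

set_option autoImplicit false

namespace Cfsg.Agent.Lib.Helper6.S6Rec

open Equiv

universe u

theorem fix_conj {G : Type u} [Group G] {p : ℕ} {s u q : G} {P : Sylow p G}
    (h : s = q * u * q⁻¹) (hs : s • P = P) : u • (q⁻¹ • P) = q⁻¹ • P := by
  rw [← mul_smul]
  have : u * q⁻¹ = q⁻¹ * s := by rw [h]; group
  rw [this, mul_smul, hs]

theorem fact336 : (336 : ℕ).factorization 7 = 1 := by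
  rw [show (336:ℕ) = 7 * 48 by norm_num, Nat.factorization_mul (by norm_num) (by norm_num)]
  simp [Nat.Prime.factorization_self (by norm_num : Nat.Prime 7),
    Nat.factorization_eq_zero_of_not_dvd]

namespace Cfg0

variable {G : Type u} [Group G] (Z : Cfg0 G) [Finite G]

/-- the case `G₀ ≃* SL₃(2)` is impossible -/
theorem not_sl32 (f : Z.H ≃* Matrix.SpecialLinearGroup (Fin 3) (ZMod 2)) : False := by
  haveI hn := Z.hn
  haveI : Fact (Nat.Prime 7) := ⟨by norm_num⟩
  have hcard : Nat.card Z.G₀ = 168 := by rw [Nat.card_congr f.toEquiv, D8Cent.card_SL32]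
  haveI hs : IsSimpleGroup Z.H := by
    haveI := D8Cent.isSimpleGroup_SL32
    exact MulEquiv.isSimpleGroup f
  have hG : Nat.card G = 336 := by rw [Z.card_G, hcard]
  obtain ⟨g₁, hg₁⟩ := Z.conj_t_tb hs (by omega) (by rw [hcard]; decide)
  -- Sylow 7-subgroups
  have hP7 : ∀ P : Sylow 7 G, Nat.card P = 7 := by
    intro P
    rw [P.card_eq_multiplicity, hG, fact336, pow_one]
  have hPle : ∀ P : Sylow 7 G, (P : Subgroup G) ≤ Z.G₀ := by
    intro P x hx
    have h1 : orderOf (⟨x, hx⟩ : (P : Subgroup G)) ∣ Nat.card P := orderOf_dvd_natCard _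
    rw [Subgroup.orderOf_mk, hP7 P] at h1
    have h2 : x ^ 7 = 1 := orderOf_dvd_iff_pow_eq_one.mp h1
    have h3 : x = x ^ 4 * x ^ 4 := by
      rw [← pow_add, show 4 + 4 = 7 + 1 by norm_num, pow_succ, h2, one_mul]
    rw [h3]; exact Z.sq_mem _
  have hΩ : Nat.card (Sylow 7 G) = 8 := by
    let P : Sylow 7 G := default
    have hmod := card_sylow_modEq_one 7 G
    have hdvd := P.card_dvd_index
    have hidx : (P : Subgroup G).index = 48 := by
      have := (P : Subgroup G).card_mul_index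
      rw [hP7 P, hG] at this
      omega
    rw [hidx] at hdvd
    have hle : Nat.card (Sylow 7 G) ≤ 48 := Nat.le_of_dvd (by norm_num) hdvd
    obtain ⟨m, hm⟩ := hdvd
    unfold Nat.ModEq at hmod
    have h18 : Nat.card (Sylow 7 G) = 1 ∨ Nat.card (Sylow 7 G) = 8 := by
      generalize Nat.card (Sylow 7 G) = c at *
      interval_cases c <;> omega
    rcases h18 with h1 | h8
    · exfalso
      have hidx1 : (Subgroup.normalizer (P : Set G)).index = 1 := by
        rw [← P.card_eq_index_normalizer, h1]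
      have hnorm : (P : Subgroup G).Normal :=
        Subgroup.normalizer_eq_top_iff.mp (Subgroup.index_eq_one.mp hidx1)
      have hN' : ((P : Subgroup G).subgroupOf Z.G₀).Normal := hnorm.subgroupOf Z.G₀
      rcases hs.eq_bot_or_eq_top_of_normal _ hN' with h | h
      · rw [Subgroup.subgroupOf_eq_bot] at h
        have hbot : (P : Subgroup G) = ⊥ := by
          rw [eq_bot_iff]
          intro x hx
          exact (Subgroup.disjoint_def.mp h) hx (hPle P hx)
        have := hP7 P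
        rw [hbot, Subgroup.card_bot] at this
        omega
      · rw [Subgroup.subgroupOf_eq_top] at h
        have := Subgroup.card_le_of_le h
        rw [hcard, hP7 P] at this
        omega
    · exact h8
  have hNP : ∀ P : Sylow 7 G,
      Nat.card (Subgroup.normalizer (P : Set G)) = 42 := by
    intro P
    have h1 := P.card_eq_index_normalizer
    rw [hΩ] at h1
    have h2 := (Subgroup.normalizer (P : Set G)).card_mul_index
    rw [← h1, hG] at h2
    omega
  have hNP0 : ∀ P : Sylow 7 G,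
      Nat.card ↥(Subgroup.normalizer (P : Set G) ⊓ Z.G₀) = 21 := by
    intro P
    have h1 := Sylow.normalizer_sup_eq_top' P (hPle P)
    have h2 : Z.G₀.relIndex (Subgroup.normalizer (P : Set G)) = 2 := by
      rw [← Subgroup.relIndex_sup_right, h1, Subgroup.relIndex_top_right, Z.hi]
    have h3 := Cfsg.Agent.Lib.Helper19.relIndex_mul_card'
      (inf_le_left : Subgroup.normalizer (P : Set G) ⊓ Z.G₀ ≤
        Subgroup.normalizer (P : Set G))
    rw [Subgroup.inf_relIndex_left, h2, hNP P] at h3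
    omega
  have hfree : ∀ P : Sylow 7 G, ∀ x ∈ (Z.K.T : Subgroup G), x ∈ Z.G₀ → x • P = P → x = 1 := by
    intro P x hxT hx0 hxP
    have hxN : x ∈ Subgroup.normalizer (P : Set G) ⊓ Z.G₀ :=
      ⟨Sylow.smul_eq_iff_mem_normalizer.mp hxP, hx0⟩
    have h1 : orderOf (⟨x, hxN⟩ :
        ↥(Subgroup.normalizer (P : Set G) ⊓ Z.G₀)) ∣ 21 := by
      rw [← hNP0 P]; exact orderOf_dvd_natCard _
    rw [Subgroup.orderOf_mk] at h1
    obtain ⟨k, hk⟩ := Z.K.T.isPGroup' ⟨x, hxT⟩
    have h2 : orderOf x ∣ 2 ^ k := by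
      apply orderOf_dvd_of_pow_eq_one
      have := congrArg Subtype.val hk
      simpa using this
    have h3 : orderOf x ∣ Nat.gcd 21 (2 ^ k) := Nat.dvd_gcd h1 h2
    have h4 : Nat.gcd 21 (2 ^ k) = 1 := Nat.Coprime.pow_right k (by norm_num)
    rw [h4, Nat.dvd_one] at h3
    exact orderOf_eq_one_iff.mp h3
  -- an involution in a Sylow 7-normalizer, conjugated into `T`
  have hfix : ∃ u : G, (u = Z.K.t ∨ u = Z.K.t * Z.K.z) ∧ ∃ P : Sylow 7 G, u • P = P := by
    let P₁ : Sylow 7 G := default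
    haveI : Fact (Nat.Prime 2) := ⟨Nat.prime_two⟩
    have h2 : 2 ∣ Nat.card (Subgroup.normalizer (P₁ : Set G)) := by
      rw [hNP P₁]; decide
    obtain ⟨x, hx⟩ := exists_prime_orderOf_dvd_card' 2 h2
    have hu : orderOf (x : G) = 2 := by rw [Subgroup.orderOf_coe, hx]
    have hu0 : (x : G) ∉ Z.G₀ := by
      intro h0
      have hxN : (x : G) ∈ Subgroup.normalizer (P₁ : Set G) ⊓ Z.G₀ := ⟨x.2, h0⟩
      have h1 : orderOf (⟨(x : G), hxN⟩ :
          ↥(Subgroup.normalizer (P₁ : Set G) ⊓ Z.G₀)) ∣ 21 := by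
        rw [← hNP0 P₁]; exact orderOf_dvd_natCard _
      rw [Subgroup.orderOf_mk, hu] at h1
      omega
    obtain ⟨a, ha⟩ := Cfsg.Agent.S3864.exists_conj_mem_sylow (P := Z.K.T) (x : G) hu
    have hs0 : a * (x : G) * a⁻¹ ∉ Z.G₀ := by
      intro h
      apply hu0
      have := Z.conj_mem h a⁻¹
      rw [inv_inv] at this
      have e : a⁻¹ * (a * (x : G) * a⁻¹) * a = (x : G) := by group
      rwa [e] at this
    have hs2 : a * (x : G) * a⁻¹ * (a * (x : G) * a⁻¹) = 1 := by
      have hxx : (x : G) * (x : G) = 1 := by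
        have := pow_orderOf_eq_one (x : G)
        rwa [hu, pow_two] at this
      calc a * (x : G) * a⁻¹ * (a * (x : G) * a⁻¹) = a * ((x : G) * (x : G)) * a⁻¹ := by group
        _ = 1 := by rw [hxx]; group
    have hsP : (a * (x : G) * a⁻¹) • (a • P₁) = a • P₁ := by
      have hxP : (x : G) • P₁ = P₁ := Sylow.smul_eq_iff_mem_normalizer.mpr x.2
      rw [← mul_smul, inv_mul_cancel_right, mul_smul, hxP]
    rcases Z.invol_out_cases ha hs0 hs2 with h | ⟨q, h⟩ | ⟨q, h⟩
    · exact ⟨Z.K.t, Or.inl rfl, a • P₁, h ▸ hsP⟩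
    · exact ⟨Z.K.t * Z.K.z, Or.inr rfl, q⁻¹ • (a • P₁), fix_conj h hsP⟩
    · refine ⟨Z.K.t, Or.inl rfl, (q * g₁)⁻¹ • (a • P₁), fix_conj ?_ hsP⟩
      rw [h, ← hg₁]; group
  obtain ⟨u, hu, P, hP⟩ := hfix
  have huc : u ∈ Subgroup.centralizer ((Z.K.T : Subgroup G) : Set G) := by
    rcases hu with rfl | rfl
    · exact Z.K.t_mem_center
    · exact Z.K.tz_mem_center
  have hu1 : u ≠ 1 := by
    rcases hu with rfl | rfl
    · exact Z.K.t_ne_one
    · exact Z.tz_ne_one
  -- `K₀` is regular on the Sylow 7-subgroups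
  have hall : ∀ Q : Sylow 7 G, u • Q = Q := by
    let φ : Z.K₀ → Sylow 7 G := fun k => ((k : Z.H) : G) • P
    have hinj : Function.Injective φ := by
      intro k₁ k₂ h
      have h1 : (((k₂ : Z.H) : G)⁻¹ * ((k₁ : Z.H) : G)) • P = P := by
        rw [mul_smul]
        show ((k₂ : Z.H) : G)⁻¹ • φ k₁ = P
        rw [h, inv_smul_smul]
      have h2 := hfree P _ (mul_mem (inv_mem (Z.mem_K₀.1 k₂.2)) (Z.mem_K₀.1 k₁.2))
        (mul_mem (inv_mem k₂.1.2) k₁.1.2) h1
      apply Z.ext_K₀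
      calc ((k₁ : Z.H) : G) = ((k₂ : Z.H) : G) * (((k₂ : Z.H) : G)⁻¹ * ((k₁ : Z.H) : G)) := by group
        _ = ((k₂ : Z.H) : G) := by rw [h2, mul_one]
    have hbij : Function.Bijective φ := by
      apply Function.Injective.bijective_of_nat_card_le hinj
      rw [hΩ]
      exact le_of_eq Z.ctx.card_D.symm
    intro Q
    obtain ⟨k, rfl⟩ := hbij.2 Q
    show u • (((k : Z.H) : G) • P) = ((k : Z.H) : G) • P
    have hc : ((k : Z.H) : G) * u = u * ((k : Z.H) : G) :=
      (Subgroup.mem_centralizer_iff.mp huc) _ (Z.mem_K₀.1 k.2)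
    rw [← mul_smul, ← hc, mul_smul, hP]
  -- the kernel of the action of `G₀`
  let act : Z.H →* Perm (Sylow 7 G) := (MulAction.toPermHom G (Sylow 7 G)).comp Z.G₀.subtype
  have hact : ∀ (h : Z.H) (Q : Sylow 7 G), act h Q = (h : G) • Q := fun h Q => rfl
  rcases hs.eq_bot_or_eq_top_of_normal act.ker (MonoidHom.normal_ker act) with hk | hk
  · have hcen : ∀ x ∈ Z.G₀, u * x = x * u := by
      intro x hx
      have hy : u * x * u⁻¹ * x⁻¹ ∈ Z.G₀ := mul_mem (Z.conj_mem hx u) (inv_mem hx)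
      have hker : (⟨u * x * u⁻¹ * x⁻¹, hy⟩ : Z.H) ∈ act.ker := by
        rw [MonoidHom.mem_ker]
        ext Q : 1
        rw [hact]
        show (u * x * u⁻¹ * x⁻¹) • Q = Q
        rw [mul_smul, mul_smul, mul_smul]
        have h1 : u⁻¹ • (x⁻¹ • Q) = x⁻¹ • Q := by
          rw [inv_smul_eq_iff, hall]
        rw [h1, smul_inv_smul, hall]
      rw [hk, Subgroup.mem_bot] at hker
      have h1 : u * x * u⁻¹ * x⁻¹ = 1 := congrArg Subtype.val hker
      calc u * x = (u * x * u⁻¹ * x⁻¹) * x * u := by group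
        _ = x * u := by rw [h1, one_mul]
    rcases Z.centralizer_G0 hcen with h | ⟨-, h⟩
    · exact hu1 h
    · have := Z.card_G0_of_top h
      omega
  · have hle : Z.G₀ ≤ Subgroup.normalizer (P : Set G) := by
      intro x hx
      have h1 : (⟨x, hx⟩ : Z.H) ∈ act.ker := by rw [hk]; exact Subgroup.mem_top _
      rw [MonoidHom.mem_ker] at h1
      have h2 := DFunLike.congr_fun h1 P
      rw [hact] at h2
      exact Sylow.smul_eq_iff_mem_normalizer.mp h2
    have := Subgroup.card_le_of_le hle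
    rw [hcard, hNP P] at this
    omega

end Cfg0

end Cfsg.Agent.Lib.Helper6.S6Rec
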