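import Mathlib
import Cfsg.Agent.Lib.Helper8.StSLA

/-!
# Lifting the Steinberg relations of type `A` through a central extension, part A (helper6)

`T : StRel I K G` is a system of root elements in a group `G` and `π : E →* G` a central extension
(surjective, central kernel).  Commutators of lifts only depend on the images.  Assuming that any two lifts
of commuting root elements commute (`CommLifts`), and that there are at least four indices, the elements
`s i j t = ⁅lift x_ih(1), lift x_hj(t)⁆` do not depend on `h` and satisfy the Steinberg relations in `E`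
(the argument of Milnor's book on algebraic K-theory, Theorem 5.10).
-/

set_option autoImplicit false

namespace Cfsg.Agent.Lib.Helper6.SLLift

open Cfsg.Agent.Lib.Helper8.StSL
open scoped commutatorElement

section Calc

variable {E : Type*} [Group E]

/-- `⁅a, b c⁆ = ⁅a, b⁆ · b ⁅a, c⁆ b⁻¹` -/
theorem comm_mul_right' (a b c : E) : ⁅a, b * c⁆ = ⁅a, b⁆ * (b * ⁅a, c⁆ * b⁻¹) := by
  simp only [commutatorElement_def]
  group

/-- `⁅a b, c⁆ = a ⁅b, c⁆ a⁻¹ · ⁅a, c⁆` -/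
theorem comm_mul_left' (a b c : E) : ⁅a * b, c⁆ = a * ⁅b, c⁆ * a⁻¹ * ⁅a, c⁆ := by
  simp only [commutatorElement_def]
  group

theorem conj_comm' (e a b : E) : e * ⁅a, b⁆ * e⁻¹ = ⁅e * a * e⁻¹, e * b * e⁻¹⁆ := by
  simp only [commutatorElement_def]
  group

/-- the associativity-type identity for commutators in a group which is "nilpotent enough" -/
theorem key_identity {u v w : E} (huw : Commute u w) (hbw : Commute ⁅v, w⁆ w)
    (hab : Commute ⁅u, v⁆ ⁅v, w⁆) : ⁅u, ⁅v, w⁆⁆ = ⁅⁅u, v⁆, w⁆ := by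
  have h1 : u * ⁅v, w⁆ * u⁻¹ = ⁅u, v⁆ * ⁅v, w⁆ * w * ⁅u, v⁆⁻¹ * w⁻¹ := by
    have e1 : u * ⁅v, w⁆ * u⁻¹ = (u * v * u⁻¹) * (u * w * u⁻¹) * (u * v * u⁻¹)⁻¹ * (u * w * u⁻¹)⁻¹ := by
      simp only [commutatorElement_def]
      group
    have e2 : u * w * u⁻¹ = w := by rw [huw.eq, mul_inv_cancel_right]
    rw [e1, e2]
    simp only [commutatorElement_def]
    group
  have h2 : ⁅v, w⁆ * (w * ⁅u, v⁆⁻¹ * w⁻¹) = (w * ⁅u, v⁆⁻¹ * w⁻¹) * ⁅v, w⁆ := by
    have c1 : Commute ⁅v, w⁆ (w * ⁅u, v⁆⁻¹ * w⁻¹) :=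
      (hbw.mul_right hab.symm.inv_right).mul_right hbw.inv_right
    exact c1.eq
  calc ⁅u, ⁅v, w⁆⁆ = u * ⁅v, w⁆ * u⁻¹ * ⁅v, w⁆⁻¹ := commutatorElement_def _ _
    _ = ⁅u, v⁆ * (⁅v, w⁆ * (w * ⁅u, v⁆⁻¹ * w⁻¹)) * ⁅v, w⁆⁻¹ := by rw [h1]; group
    _ = ⁅u, v⁆ * ((w * ⁅u, v⁆⁻¹ * w⁻¹) * ⁅v, w⁆) * ⁅v, w⁆⁻¹ := by rw [h2]
    _ = ⁅u, v⁆ * w * ⁅u, v⁆⁻¹ * w⁻¹ := by group
    _ = ⁅⁅u, v⁆, w⁆ := (commutatorElement_def _ _).symm

end Calc

section CentralExt

variable {E G : Type*} [Group E] [Group G] (π : E →* G) (hc : π.ker ≤ Subgroup.center E)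
include hc

theorem central_mul_inv {a a' : E} (h : π a = π a') : a'⁻¹ * a ∈ Subgroup.center E :=
  hc (by rw [MonoidHom.mem_ker, map_mul, map_inv, h, inv_mul_cancel])

/-- commutators of elements depend only on their images -/
theorem comm_congr {a a' b b' : E} (ha : π a = π a') (hb : π b = π b') : ⁅a, b⁆ = ⁅a', b'⁆ := by
  have hz1 := central_mul_inv π hc ha
  have hz2 := central_mul_inv π hc hb
  rw [Subgroup.mem_center_iff] at hz1 hz2
  have e1 : a = a' * (a'⁻¹ * a) := by group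
  have e2 : b = b' * (b'⁻¹ * b) := by group
  set z1 := a'⁻¹ * a
  set z2 := b'⁻¹ * b
  rw [e1, e2]
  simp only [commutatorElement_def, mul_inv_rev]
  have s1 : a' * z1 * (b' * z2) * (z1⁻¹ * a'⁻¹) * (z2⁻¹ * b'⁻¹) =
      a' * (z1 * (b' * z2) * z1⁻¹) * a'⁻¹ * (z2⁻¹ * b'⁻¹) := by group
  rw [s1, ← hz1 (b' * z2), mul_inv_cancel_right]
  have s2 : a' * (b' * z2) * a'⁻¹ * (z2⁻¹ * b'⁻¹) = a' * b' * (z2 * a'⁻¹) * z2⁻¹ * b'⁻¹ := by group
  rw [s2, ← hz2 a'⁻¹]
  group

/-- the commutator of two elements with commuting images is central -/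
theorem comm_central {a b : E} (h : Commute (π a) (π b)) : ⁅a, b⁆ ∈ Subgroup.center E := by
  apply hc
  rw [MonoidHom.mem_ker, map_commutatorElement, commutatorElement_eq_one_iff_commute]
  exact h

/-- an element whose image commutes with the images of `y₁`, `y₂` commutes with `⁅y₁, y₂⁆` -/
theorem commute_comm_of {a y₁ y₂ : E} (h1 : Commute (π a) (π y₁)) (h2 : Commute (π a) (π y₂)) :
    Commute a ⁅y₁, y₂⁆ := by
  have e : a * ⁅y₁, y₂⁆ * a⁻¹ = ⁅y₁, y₂⁆ := by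
    rw [conj_comm']
    apply comm_congr π hc
    · rw [map_mul, map_mul, map_inv, h1.eq, mul_inv_cancel_right]
    · rw [map_mul, map_mul, map_inv, h2.eq, mul_inv_cancel_right]
  show a * ⁅y₁, y₂⁆ = ⁅y₁, y₂⁆ * a
  calc a * ⁅y₁, y₂⁆ = a * ⁅y₁, y₂⁆ * a⁻¹ * a := by group
    _ = ⁅y₁, y₂⁆ * a := by rw [e]

/-- commuting with one lift means commuting with every lift -/
theorem commute_of_lift {a b b₀ : E} (h : Commute a b₀) (hb : π b = π b₀) : Commute a b := by
  have hz := central_mul_inv π hc hb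
  rw [Subgroup.mem_center_iff] at hz
  have e : b = b₀ * (b₀⁻¹ * b) := by group
  rw [e]
  exact h.mul_right (hz a)

end CentralExt

section Lift

variable {I : Type*} {K : Type*} [Field K] {G E : Type*} [Group G] [Group E]
variable (T : StRel I K G) (π : E →* G)

/-- any two lifts of two commuting root elements commute -/
def CommLifts : Prop := ∀ i j k l : I, i ≠ j → k ≠ l → i ≠ l → j ≠ k → ∀ (t u : K) (a b : E),
  π a = T.x i j t → π b = T.x k l u → Commute a b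

variable {T π}

theorem map_comm_rel {i j l : I} (hij : i ≠ j) (hjl : j ≠ l) (hil : i ≠ l) {t u : K} {a b : E}
    (ha : π a = T.x i j t) (hb : π b = T.x j l u) : π ⁅a, b⁆ = T.x i l (t * u) := by
  rw [map_commutatorElement, ha, hb, commutatorElement_def, T.rel i j l hij hjl hil]

variable (CL : CommLifts T π)
include CL

/-- Milnor's identity for lifts of `x_ih(α)`, `x_hk(β)`, `x_kj(γ)` -/
theorem comm_assoc {i h k j : I} (hih : i ≠ h) (hik : i ≠ k) (hij : i ≠ j) (hhk : h ≠ k) (hhj : h ≠ j)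
    (hkj : k ≠ j) {α β γ : K} {u v w : E} (hu : π u = T.x i h α) (hv : π v = T.x h k β)
    (hw : π w = T.x k j γ) : ⁅u, ⁅v, w⁆⁆ = ⁅⁅u, v⁆, w⁆ := by
  have hb : π ⁅v, w⁆ = T.x h j (β * γ) := map_comm_rel hhk hkj hhj hv hw
  have ha : π ⁅u, v⁆ = T.x i k (α * β) := map_comm_rel hih hhk hik hu hv
  apply key_identity
  · exact CL i h k j hih hkj hij hhk α γ u w hu hw
  · exact CL h j k j hhj hkj hhj hkj.symm (β * γ) γ _ w hb hw
  · exact CL i k h j hik hhj hij hhk.symm (α * β) (β * γ) _ _ ha hb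

end Lift

end Cfsg.Agent.Lib.Helper6.SLLift
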