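import Mathlib
import Cfsg.Agent.Lib.Helper6.SLLiftA

/-!
# Lifting the Steinberg relations of type `A` through a central extension, part B (helper6)

With at least four indices and `CommLifts`, the canonical lifts `sx i j t` of the root elements satisfy the
Steinberg relations: `exists_stRel_of_commLifts`.
-/

set_option autoImplicit false

namespace Cfsg.Agent.Lib.Helper6.SLLift

open Cfsg.Agent.Lib.Helper8.StSL
open scoped commutatorElement

section Index

variable {I : Type*} [Fintype I] [DecidableEq I]

theorem exists_notMem_of_card_lt (s : Finset I) (h : s.card < Fintype.card I) : ∃ m, m ∉ s := by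
  by_contra hcon
  push Not at hcon
  have : s = Finset.univ := Finset.eq_univ_iff_forall.mpr hcon
  rw [this, Finset.card_univ] at h
  exact lt_irrefl _ h

theorem exists_ne2 (h3 : 3 ≤ Fintype.card I) (i j : I) : ∃ k, k ≠ i ∧ k ≠ j := by
  obtain ⟨m, hm⟩ := exists_notMem_of_card_lt ({i, j} : Finset I)
    (lt_of_le_of_lt (Finset.card_le_two) (by omega))
  simp only [Finset.mem_insert, Finset.mem_singleton, not_or] at hm
  exact ⟨m, hm.1, hm.2⟩

theorem exists_ne3 (h4 : 4 ≤ Fintype.card I) (i j k : I) : ∃ m, m ≠ i ∧ m ≠ j ∧ m ≠ k := by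
  obtain ⟨m, hm⟩ := exists_notMem_of_card_lt ({i, j, k} : Finset I)
    (lt_of_le_of_lt (Finset.card_le_three) (by omega))
  simp only [Finset.mem_insert, Finset.mem_singleton, not_or] at hm
  exact ⟨m, hm.1, hm.2.1, hm.2.2⟩

theorem exists_ne4 (h5 : 5 ≤ Fintype.card I) (i j k l : I) : ∃ m, m ≠ i ∧ m ≠ j ∧ m ≠ k ∧ m ≠ l := by
  obtain ⟨m, hm⟩ := exists_notMem_of_card_lt ({i, j, k, l} : Finset I)
    (lt_of_le_of_lt (Finset.card_le_four) (by omega))
  simp only [Finset.mem_insert, Finset.mem_singleton, not_or] at hm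
  exact ⟨m, hm.1, hm.2.1, hm.2.2.1, hm.2.2.2⟩

open Classical in
/-- a chosen index different from `i` and `j` -/
noncomputable def third (i j : I) : I := if h : ∃ k, k ≠ i ∧ k ≠ j then Classical.choose h else i

theorem third_ne_left (h3 : 3 ≤ Fintype.card I) (i j : I) : third i j ≠ i := by
  unfold third
  rw [dif_pos (exists_ne2 h3 i j)]
  exact (Classical.choose_spec (exists_ne2 h3 i j)).1

theorem third_ne_right (h3 : 3 ≤ Fintype.card I) (i j : I) : third i j ≠ j := by
  unfold third
  rw [dif_pos (exists_ne2 h3 i j)]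
  exact (Classical.choose_spec (exists_ne2 h3 i j)).2

end Index

section Lift

variable {I : Type*} {K : Type*} [Field K] {G E : Type*} [Group G] [Group E]
variable (T : StRel I K G) (π : E →* G) (hsurj : Function.Surjective π)

/-- a chosen section of the extension -/
noncomputable def lft (g : G) : E := Function.surjInv hsurj g

theorem map_lft (g : G) : π (lft π hsurj g) = g := Function.surjInv_eq hsurj g

/-- the commutator of the chosen lifts of `x_ih(α)` and `x_hj(β)` -/
noncomputable def cc (i h j : I) (α β : K) : E := ⁅lft π hsurj (T.x i h α), lft π hsurj (T.x h j β)⁆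

variable {T π}

theorem map_cc {i h j : I} (hih : i ≠ h) (hhj : h ≠ j) (hij : i ≠ j) (α β : K) :
    π (cc T π hsurj i h j α β) = T.x i j (α * β) :=
  map_comm_rel hih hhj hij (map_lft π hsurj _) (map_lft π hsurj _)

variable (hc : π.ker ≤ Subgroup.center E)
include hc

theorem cc_eq {i h j : I} {α β : K} {a b : E} (ha : π a = T.x i h α) (hb : π b = T.x h j β) :
    ⁅a, b⁆ = cc T π hsurj i h j α β :=
  comm_congr π hc (ha.trans (map_lft π hsurj _).symm) (hb.trans (map_lft π hsurj _).symm)

variable (CL : CommLifts T π)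
include CL

theorem cc_shift {i h k j : I} (hih : i ≠ h) (hik : i ≠ k) (hij : i ≠ j) (hhk : h ≠ k) (hhj : h ≠ j)
    (hkj : k ≠ j) (α β γ : K) :
    cc T π hsurj i h j α (β * γ) = cc T π hsurj i k j (α * β) γ := by
  have hu := map_lft π hsurj (T.x i h α)
  have hv := map_lft π hsurj (T.x h k β)
  have hw := map_lft π hsurj (T.x k j γ)
  rw [← cc_eq hsurj hc hu (map_comm_rel hhk hkj hhj hv hw),
    ← cc_eq hsurj hc (map_comm_rel hih hhk hik hu hv) hw]
  exact comm_assoc CL hih hik hij hhk hhj hkj hu hv hw

theorem cc_indep {i h k j : I} (hih : i ≠ h) (hik : i ≠ k) (hij : i ≠ j) (hhk : h ≠ k) (hhj : h ≠ j)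
    (hkj : k ≠ j) (α γ : K) :
    cc T π hsurj i h j α γ = cc T π hsurj i k j α γ := by
  have := cc_shift hsurj hc CL hih hik hij hhk hhj hkj α 1 γ
  rwa [one_mul, mul_one] at this

variable [Fintype I] [DecidableEq I] (h4 : 4 ≤ Fintype.card I)
include h4

theorem cc_move {i h j : I} (hih : i ≠ h) (hij : i ≠ j) (hhj : h ≠ j) (α β γ : K) :
    cc T π hsurj i h j α (β * γ) = cc T π hsurj i h j (α * β) γ := by
  obtain ⟨k, hki, hkh, hkj⟩ := exists_ne3 h4 i h j
  rw [cc_shift hsurj hc CL hih hki.symm hij hkh.symm hhj hkj α β γ]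
  exact (cc_indep hsurj hc CL hih hki.symm hij hkh.symm hhj hkj (α * β) γ).symm

theorem cc_one {i h j : I} (hih : i ≠ h) (hij : i ≠ j) (hhj : h ≠ j) (α β : K) :
    cc T π hsurj i h j α β = cc T π hsurj i h j 1 (α * β) := by
  have := cc_move hsurj hc CL h4 hih hij hhj 1 α β
  rw [one_mul] at this
  exact this.symm

variable (T π) in
/-- the canonical lift of the root element `x_ij(t)` -/
noncomputable def sx (i j : I) (t : K) : E := cc T π hsurj i (third i j) j 1 t

omit hc CL in
theorem map_sx {i j : I} (hij : i ≠ j) (t : K) : π (sx T π hsurj i j t) = T.x i j t := by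
  have h3 : 3 ≤ Fintype.card I := by omega
  unfold sx
  rw [map_cc hsurj (third_ne_left h3 i j).symm (third_ne_right h3 i j) hij, one_mul]

/-- the commutator of any lifts of `x_ih(α)`, `x_hj(β)` is the canonical lift of `x_ij(αβ)` -/
theorem comm_eq_sx {i h j : I} (hih : i ≠ h) (hij : i ≠ j) (hhj : h ≠ j) {α β : K} {a b : E}
    (ha : π a = T.x i h α) (hb : π b = T.x h j β) : ⁅a, b⁆ = sx T π hsurj i j (α * β) := by
  have h3 : 3 ≤ Fintype.card I := by omega
  rw [cc_eq hsurj hc ha hb, cc_one hsurj hc CL h4 hih hij hhj]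
  unfold sx
  by_cases hk : h = third i j
  · rw [← hk]
  · exact cc_indep hsurj hc CL hih (third_ne_left h3 i j).symm hij hk hhj (third_ne_right h3 i j) 1 _

/-- the canonical lifts satisfy the Steinberg relations -/
noncomputable def liftRel : StRel I K E where
  x := sx T π hsurj
  add i j hij t u := by
    have h3 : 3 ≤ Fintype.card I := by omega
    have hhi := third_ne_left h3 i j
    have hhj := third_ne_right h3 i j
    set h := third i j
    have hA := map_lft π hsurj (T.x i h 1)
    have hBt := map_lft π hsurj (T.x h j t)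
    have hBu := map_lft π hsurj (T.x h j u)
    have hB : π (lft π hsurj (T.x h j t) * lft π hsurj (T.x h j u)) = T.x h j (t + u) := by
      rw [map_mul, hBt, hBu, T.add h j hhj]
    have e1 := comm_eq_sx hsurj hc CL h4 hhi.symm hij hhj hA hB
    have e2 := comm_eq_sx hsurj hc CL h4 hhi.symm hij hhj hA hBt
    have e3 := comm_eq_sx hsurj hc CL h4 hhi.symm hij hhj hA hBu
    rw [one_mul] at e1 e2 e3
    rw [← e1, comm_mul_right', e2, e3]
    have hcm : Commute (lft π hsurj (T.x h j t)) (sx T π hsurj i j u) :=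
      CL h j i j hhj hij hhj hij.symm t u _ _ hBt (map_sx hsurj h4 hij u)
    rw [hcm.eq, mul_inv_cancel_right]
  comm i j k l hij hkl hil hjk t u :=
    CL i j k l hij hkl hil hjk t u _ _ (map_sx hsurj h4 hij t) (map_sx hsurj h4 hkl u)
  rel i j l hij hjl hil t u := by
    rw [← commutatorElement_def]
    exact comm_eq_sx hsurj hc CL h4 hij hil hjl (map_sx hsurj h4 hij t) (map_sx hsurj h4 hjl u)

omit hc CL in
theorem liftRel_x (hc : π.ker ≤ Subgroup.center E) (CL : CommLifts T π) (i j : I) (t : K) :
    (liftRel hsurj hc CL h4).x i j t = sx T π hsurj i j t := rfl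

include hsurj in
/-- Part A: with at least four indices, if lifts of commuting root elements commute then the Steinberg
relations lift to the central extension -/
theorem exists_stRel_of_commLifts : ∃ S : StRel I K E, ∀ i j, i ≠ j → ∀ t, π (S.x i j t) = T.x i j t :=
  ⟨liftRel hsurj hc CL h4, fun _ _ hij t => map_sx hsurj h4 hij t⟩

end Lift

end Cfsg.Agent.Lib.Helper6.SLLift
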