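import Mathlib
import Cfsg.Agent.Lib.Helper6.SLLiftB

/-!
# Lifting the Steinberg relations of type `A` through a central extension, part C (helper6)

Lifts of commuting root elements commute (`CommLifts`):
* whenever there is an index outside `{i, j, k, l}` (Milnor), in particular always for at least five indices;
* for four indices and `i, j, k, l` all distinct: the central element `F(t,u) = ⁅lift x_ij(t), lift x_kl(u)⁆` is
  biadditive, has square one (expand `x_ij(t) = ⁅x_ik(t), x_kj(1)⁆` and conjugate by a lift of `w_jl(1)`), and is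
  invariant under `t ↦ c²t` (conjugate by a lift of `h_ij(c)`); so it is trivial if `2 ≠ 0` or if some
  `c ≠ 0` has `c² ≠ 1`.

Main result: `exists_stRel_lift`.
-/

set_option autoImplicit false

namespace Cfsg.Agent.Lib.Helper6.SLLift

open Cfsg.Agent.Lib.Helper8.StSL
open scoped commutatorElement

section Lift

variable {I : Type*} {K : Type*} [Field K] {G E : Type*} [Group G] [Group E]
variable {T : StRel I K G} {π : E →* G} (hsurj : Function.Surjective π)
variable (hc : π.ker ≤ Subgroup.center E)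
include hsurj hc

/-- Milnor's trick: lifts of the commuting root elements `x_ij(t)`, `x_kl(u)` commute as soon as there is an
index `m` outside `{i, j, k, l}` -/
theorem commute_lifts_of_index {i j k l m : I} (hij : i ≠ j) (hkl : k ≠ l) (hil : i ≠ l) (hjk : j ≠ k)
    (hmi : m ≠ i) (hmj : m ≠ j) (hmk : m ≠ k) (hml : m ≠ l) {t u : K} {a b : E}
    (ha : π a = T.x i j t) (hb : π b = T.x k l u) : Commute a b := by
  obtain ⟨y₁, hy₁⟩ := hsurj (T.x k m u)
  obtain ⟨y₂, hy₂⟩ := hsurj (T.x m l 1)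
  have hb0 : π ⁅y₁, y₂⁆ = T.x k l (u * 1) := map_comm_rel hmk.symm hml hkl hy₁ hy₂
  have h1 : Commute (π a) (π y₁) := by
    rw [ha, hy₁]
    exact T.comm i j k m hij hmk.symm hmi.symm hjk t u
  have h2 : Commute (π a) (π y₂) := by
    rw [ha, hy₂]
    exact T.comm i j m l hij hml hil hmj.symm t 1
  refine commute_of_lift π hc (commute_comm_of π hc h1 h2) ?_
  rw [hb, hb0, mul_one]

omit hsurj hc in
theorem exists_index_of_shared [Fintype I] [DecidableEq I] (h4 : 4 ≤ Fintype.card I) (i j k l : I)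
    (h : i = k ∨ j = l) : ∃ m, m ≠ i ∧ m ≠ j ∧ m ≠ k ∧ m ≠ l := by
  rcases h with h | h
  · obtain ⟨m, h1, h2, h3⟩ := exists_ne3 h4 i j l
    exact ⟨m, h1, h2, h ▸ h1, h3⟩
  · obtain ⟨m, h1, h2, h3⟩ := exists_ne3 h4 i j k
    exact ⟨m, h1, h2, h3, h ▸ h2⟩

/-- five indices: `CommLifts` holds -/
theorem commLifts_of_five [Fintype I] [DecidableEq I] (h5 : 5 ≤ Fintype.card I) : CommLifts T π := by
  intro i j k l hij hkl hil hjk t u a b ha hb
  obtain ⟨m, h1, h2, h3, h4⟩ := exists_ne4 h5 i j k l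
  exact commute_lifts_of_index hsurj hc hij hkl hil hjk h1 h2 h3 h4 ha hb

end Lift

section Four

variable {I : Type*} {K : Type*} [Field K] {G E : Type*} [Group G] [Group E]
variable (T : StRel I K G) (π : E →* G) (hsurj : Function.Surjective π)

/-- the commutator of the chosen lifts of `x_ij(t)` and `x_kl(u)` -/
noncomputable def Fc (i j k l : I) (t u : K) : E := ⁅lft π hsurj (T.x i j t), lft π hsurj (T.x k l u)⁆

variable {T π}
variable (hc : π.ker ≤ Subgroup.center E)
include hc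

theorem Fc_eq {i j k l : I} {t u : K} {a b : E} (ha : π a = T.x i j t) (hb : π b = T.x k l u) :
    ⁅a, b⁆ = Fc T π hsurj i j k l t u :=
  comm_congr π hc (ha.trans (map_lft π hsurj _).symm) (hb.trans (map_lft π hsurj _).symm)

theorem Fc_central {i j k l : I} (hij : i ≠ j) (hkl : k ≠ l) (hil : i ≠ l) (hjk : j ≠ k) (t u : K) :
    Fc T π hsurj i j k l t u ∈ Subgroup.center E := by
  apply comm_central π hc
  rw [map_lft, map_lft]
  exact T.comm i j k l hij hkl hil hjk t u

omit hc in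
theorem Fc_anti (i j k l : I) (t u : K) :
    Fc T π hsurj k l i j u t = (Fc T π hsurj i j k l t u)⁻¹ := by
  unfold Fc
  rw [commutatorElement_inv]

theorem Fc_add {i j k l : I} (hij : i ≠ j) (hkl : k ≠ l) (hil : i ≠ l) (hjk : j ≠ k) (t t' u : K) :
    Fc T π hsurj i j k l (t + t') u = Fc T π hsurj i j k l t u * Fc T π hsurj i j k l t' u := by
  have ha := map_lft π hsurj (T.x i j t)
  have ha' := map_lft π hsurj (T.x i j t')
  have hb := map_lft π hsurj (T.x k l u)
  have haa : π (lft π hsurj (T.x i j t) * lft π hsurj (T.x i j t')) = T.x i j (t + t') := by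
    rw [map_mul, ha, ha', T.add i j hij]
  rw [← Fc_eq hsurj hc haa hb, comm_mul_left', Fc_eq hsurj hc ha hb, Fc_eq hsurj hc ha' hb]
  have hz := Fc_central (T := T) hsurj hc hij hkl hil hjk t' u
  rw [Subgroup.mem_center_iff] at hz
  rw [hz (lft π hsurj (T.x i j t)), mul_inv_cancel_right]
  exact (hz _).symm

theorem Fc_zero {i j k l : I} (hij : i ≠ j) (hkl : k ≠ l) (hil : i ≠ l) (hjk : j ≠ k) (u : K) :
    Fc T π hsurj i j k l 0 u = 1 := by
  have := Fc_add (T := T) hsurj hc hij hkl hil hjk 0 0 u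
  rw [add_zero] at this
  exact mul_eq_left.mp this.symm

theorem Fc_neg {i j k l : I} (hij : i ≠ j) (hkl : k ≠ l) (hil : i ≠ l) (hjk : j ≠ k) (t u : K) :
    Fc T π hsurj i j k l (-t) u = (Fc T π hsurj i j k l t u)⁻¹ := by
  have := Fc_add (T := T) hsurj hc hij hkl hil hjk t (-t) u
  rw [add_neg_cancel, Fc_zero hsurj hc hij hkl hil hjk] at this
  exact eq_inv_of_mul_eq_one_right this.symm

/-- lifts of root elements sharing the row or the column index commute -/
def CommLiftsS (T : StRel I K G) (π : E →* G) : Prop :=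
  ∀ i j k l : I, i ≠ j → k ≠ l → i ≠ l → j ≠ k → (i = k ∨ j = l) → ∀ (t u : K) (a b : E),
    π a = T.x i j t → π b = T.x k l u → Commute a b

variable (CS : CommLiftsS T π)
include CS

/-- expanding `x_ij(t) = ⁅x_ik(t), x_kj(1)⁆` -/
theorem Fc_expand {i j k l : I} (hij : i ≠ j) (hik : i ≠ k) (hil : i ≠ l) (hjk : j ≠ k) (hjl : j ≠ l)
    (hkl : k ≠ l) (t u : K) :
    Fc T π hsurj k l i j u t = Fc T π hsurj i l k j (-(t * u)) 1 := by
  have hA := map_lft π hsurj (T.x i k t)
  have hB := map_lft π hsurj (T.x k j 1)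
  have hY := map_lft π hsurj (T.x k l u)
  set A := lft π hsurj (T.x i k t)
  set B := lft π hsurj (T.x k j 1)
  set Y := lft π hsurj (T.x k l u)
  have hAB : π ⁅A, B⁆ = T.x i j t := by
    have := map_comm_rel hik hjk.symm hij hA hB
    rwa [mul_one] at this
  have hYA : π ⁅Y, A⁆ = T.x i l (-(t * u)) := by
    rw [← commutatorElement_inv, map_inv, map_comm_rel hik hkl hil hA hY, T.x_inv hil]
  have key : ⁅Y, ⁅A, B⁆⁆ = ⁅⁅Y, A⁆, B⁆ := by
    apply key_identity
    · exact CS k l k j hkl hjk.symm hjk.symm hkl.symm (Or.inl rfl) u 1 Y B hY hB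
    · exact CS i j k j hij hjk.symm hij hjk (Or.inr rfl) t 1 _ B hAB hB
    · exact CS i l i j hil hij hij hil.symm (Or.inl rfl) _ t _ _ hYA hAB
  rw [← Fc_eq hsurj hc hY hAB, ← Fc_eq hsurj hc hYA hB]
  exact key

omit CS in
/-- conjugating by a lift of `w_jl(1)` -/
theorem Fc_weyl {i j k l : I} (hij : i ≠ j) (hik : i ≠ k) (hil : i ≠ l) (hjk : j ≠ k) (hjl : j ≠ l)
    (hkl : k ≠ l) (t u : K) :
    Fc T π hsurj i j k l t u = Fc T π hsurj i l k j (-t) u := by
  obtain ⟨W, hW⟩ := hsurj (T.w j l 1)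
  have ha := map_lft π hsurj (T.x i j t)
  have hb := map_lft π hsurj (T.x k l u)
  set a := lft π hsurj (T.x i j t)
  set b := lft π hsurj (T.x k l u)
  have hz := Fc_central (T := T) hsurj hc hij hkl hil hjk t u
  rw [Subgroup.mem_center_iff] at hz
  have e1 : W * ⁅a, b⁆ * W⁻¹ = ⁅a, b⁆ := by
    have := hz W
    unfold Fc at this
    rw [this, mul_inv_cancel_right]
  have h1 : π (W * a * W⁻¹) = T.x i l (-t) := by
    rw [map_mul, map_mul, map_inv, hW, ha, ← MulAut.conj_apply,
      T.w_conj_ki hjl hil.symm hij.symm 1 t one_ne_zero, one_mul]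
  have h2 : π (W * b * W⁻¹) = T.x k j u := by
    rw [map_mul, map_mul, map_inv, hW, hb, ← MulAut.conj_apply,
      T.w_conj_kj hjl hkl.symm hjk 1 u one_ne_zero, inv_one, one_mul]
  show ⁅a, b⁆ = _
  rw [← e1, conj_comm', Fc_eq hsurj hc h1 h2]

/-- the commutator of lifts of `x_il`, `x_kj` (four distinct indices) has square one -/
theorem Fc_sq {i j k l : I} (hij : i ≠ j) (hik : i ≠ k) (hil : i ≠ l) (hjk : j ≠ k) (hjl : j ≠ l)
    (hkl : k ≠ l) (t u : K) :
    Fc T π hsurj i l k j t u * Fc T π hsurj i l k j t u = 1 := by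
  -- `(Φ (-t) u)⁻¹ = Φ (-(t u)) 1`
  have h1 : ∀ t u : K, (Fc T π hsurj i l k j (-t) u)⁻¹ = Fc T π hsurj i l k j (-(t * u)) 1 := by
    intro t u
    rw [← Fc_weyl hsurj hc hij hik hil hjk hjl hkl t u, ← Fc_anti,
      Fc_expand hsurj hc CS hij hik hil hjk hjl hkl t u]
  have h2 : ∀ t u : K, (Fc T π hsurj i l k j t u)⁻¹ = Fc T π hsurj i l k j (t * u) 1 := by
    intro t u
    have := h1 (-t) u
    rwa [neg_neg, neg_mul, neg_neg] at this
  have h3 : ∀ t : K, (Fc T π hsurj i l k j t 1)⁻¹ = Fc T π hsurj i l k j t 1 := by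
    intro t
    have := h2 t 1
    rwa [mul_one] at this
  have h4 : (Fc T π hsurj i l k j t u)⁻¹ = Fc T π hsurj i l k j t u := by
    have e := h2 t u
    have e' : Fc T π hsurj i l k j t u = Fc T π hsurj i l k j (t * u) 1 := by
      rw [← inv_inj, e, h3]
    rw [e]
    exact e'.symm
  calc Fc T π hsurj i l k j t u * Fc T π hsurj i l k j t u
      = Fc T π hsurj i l k j t u * (Fc T π hsurj i l k j t u)⁻¹ := by rw [h4]
    _ = 1 := mul_inv_cancel _

end Four

end Cfsg.Agent.Lib.Helper6.SLLift
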