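import Mathlib
import Cfsg.Agent.Lib.Helper6.SLLiftC

/-!
# Lifting the Steinberg relations of type `A` through a central extension, part D (helper6)

Main result `exists_stRel_lift`: let `T : StRel I K G` be root elements satisfying the Steinberg relations of
type `A` in a group `G` and `π : E →* G` a central extension.  If there are at least five indices, or at least
four and the field satisfies `2 ≠ 0` or has an element `c ≠ 0` with `c² ≠ 1` (so: every field except `F₂`),
then there are root elements `S : StRel I K E` lifting those of `T`.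
-/

set_option autoImplicit false

namespace Cfsg.Agent.Lib.Helper6.SLLift

open Cfsg.Agent.Lib.Helper8.StSL
open scoped commutatorElement

section Torus

variable {I : Type*} {K : Type*} [Field K] {G : Type*} [Group G] (T : StRel I K G)

/-- `h_ij(c) x_ij(t) h_ij(c)⁻¹ = x_ij(c t c)` -/
theorem h_conj_ij_aux {i j k : I} (hij : i ≠ j) (hjk : j ≠ k) (hik : i ≠ k) (c t : K) (hc0 : c ≠ 0) :
    MulAut.conj (T.h i j c) (T.x i j t) = T.x i j (c * t * (c * 1)) := by
  have h0 : T.x i j t = T.x i k t * T.x k j 1 * (T.x i k t)⁻¹ * (T.x k j 1)⁻¹ := by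
    rw [T.rel i k j hik hjk.symm hij, mul_one]
  rw [h0, map_mul, map_mul, map_mul, map_inv, map_inv, T.h_conj_ik hij hjk hik c t hc0,
    T.h_conj_kj hij hjk hik c 1 hc0, T.rel i k j hik hjk.symm hij]

end Torus

section Four

variable {I : Type*} {K : Type*} [Field K] {G E : Type*} [Group G] [Group E]
variable {T : StRel I K G} {π : E →* G} (hsurj : Function.Surjective π)
variable (hc : π.ker ≤ Subgroup.center E)
include hc

/-- conjugating by a lift of `h_ij(c)` -/
theorem Fc_torus {i j k l : I} (hij : i ≠ j) (hik : i ≠ k) (hil : i ≠ l) (hjk : j ≠ k) (hjl : j ≠ l)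
    (hkl : k ≠ l) (c : K) (hc0 : c ≠ 0) (t u : K) :
    Fc T π hsurj i j k l (c * c * t) u = Fc T π hsurj i j k l t u := by
  obtain ⟨W, hW⟩ := hsurj (T.h i j c)
  have ha := map_lft π hsurj (T.x i j t)
  have hb := map_lft π hsurj (T.x k l u)
  set a := lft π hsurj (T.x i j t)
  set b := lft π hsurj (T.x k l u)
  have hz := Fc_central (T := T) hsurj hc hij hkl hil hjk t u
  rw [Subgroup.mem_center_iff] at hz
  have e1 : W * ⁅a, b⁆ * W⁻¹ = ⁅a, b⁆ := by
    have := hz W
    unfold Fc at this
    rw [this, mul_inv_cancel_right]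
  have h1 : π (W * a * W⁻¹) = T.x i j (c * c * t) := by
    rw [map_mul, map_mul, map_inv, hW, ha, ← MulAut.conj_apply, h_conj_ij_aux T hij hjk hik c t hc0]
    congr 1
    ring
  have h2 : π (W * b * W⁻¹) = T.x k l u := by
    rw [map_mul, map_mul, map_inv, hW, hb, ← MulAut.conj_apply, T.h_conj_kl hij hkl hik hil hjk hjl]
  symm
  show ⁅a, b⁆ = _
  rw [← e1, conj_comm', Fc_eq hsurj hc h1 h2]

variable (CS : CommLiftsS T π)
include CS

/-- for four distinct indices the commutator of lifts of `x_ij(t)`, `x_kl(u)` is trivial -/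
theorem Fc_eq_one (hK : (2 : K) ≠ 0 ∨ ∃ c : K, c ≠ 0 ∧ c ^ 2 ≠ 1)
    {i j k l : I} (hij : i ≠ j) (hik : i ≠ k) (hil : i ≠ l) (hjk : j ≠ k) (hjl : j ≠ l)
    (hkl : k ≠ l) (t u : K) : Fc T π hsurj i j k l t u = 1 := by
  have hsq : ∀ t : K, Fc T π hsurj i j k l t u * Fc T π hsurj i j k l t u = 1 := fun t =>
    Fc_sq hsurj hc CS hil hik hij hkl.symm hjl.symm hjk.symm t u
  rcases hK with h2 | ⟨c, hc0, hc2⟩
  · have e : t = t / 2 + t / 2 := by field_simp; ring
    rw [e, Fc_add hsurj hc hij hkl hil hjk.symm.symm, hsq]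
  · have hl : c * c - 1 ≠ 0 := by
      intro h
      apply hc2
      rw [pow_two]
      exact sub_eq_zero.mp h
    have key : ∀ t : K, Fc T π hsurj i j k l ((c * c - 1) * t) u = 1 := by
      intro t
      have e : (c * c - 1) * t = c * c * t + (-t) := by ring
      rw [e, Fc_add hsurj hc hij hkl hil hjk, Fc_torus hsurj hc hij hik hil hjk hjl hkl c hc0,
        Fc_neg hsurj hc hij hkl hil hjk, mul_inv_cancel]
    have := key (t / (c * c - 1))
    rwa [mul_div_cancel₀ _ hl] at this

end Four

section Main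

variable {I : Type*} [Fintype I] [DecidableEq I] {K : Type*} [Field K] {G E : Type*} [Group G] [Group E]
variable {T : StRel I K G} {π : E →* G} (hsurj : Function.Surjective π)
variable (hc : π.ker ≤ Subgroup.center E)
include hsurj hc

theorem commLiftsS_of_four (h4 : 4 ≤ Fintype.card I) : CommLiftsS T π := by
  intro i j k l hij hkl hil hjk hs t u a b ha hb
  obtain ⟨m, h1, h2, h3, h4'⟩ := exists_index_of_shared h4 i j k l hs
  exact commute_lifts_of_index hsurj hc hij hkl hil hjk h1 h2 h3 h4' ha hb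

/-- four indices and a field other than `F₂`: `CommLifts` holds -/
theorem commLifts_of_four (h4 : 4 ≤ Fintype.card I) (hK : (2 : K) ≠ 0 ∨ ∃ c : K, c ≠ 0 ∧ c ^ 2 ≠ 1) :
    CommLifts T π := by
  have CS : CommLiftsS T π := commLiftsS_of_four hsurj hc h4
  intro i j k l hij hkl hil hjk t u a b ha hb
  by_cases hs : i = k ∨ j = l
  · exact CS i j k l hij hkl hil hjk hs t u a b ha hb
  · push Not at hs
    apply commutatorElement_eq_one_iff_commute.mp
    rw [Fc_eq hsurj hc ha hb]
    exact Fc_eq_one hsurj hc CS hK hij hs.1 hil hjk hs.2 hkl t u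

/-- **Lifting the Steinberg relations of type `A` through a central extension.** -/
theorem exists_stRel_lift
    (h : 5 ≤ Fintype.card I ∨ (4 ≤ Fintype.card I ∧ ((2 : K) ≠ 0 ∨ ∃ c : K, c ≠ 0 ∧ c ^ 2 ≠ 1))) :
    ∃ S : StRel I K E, ∀ i j, i ≠ j → ∀ t, π (S.x i j t) = T.x i j t := by
  rcases h with h5 | ⟨h4, hK⟩
  · exact exists_stRel_of_commLifts hsurj hc (commLifts_of_five hsurj hc h5) (by omega)
  · exact exists_stRel_of_commLifts hsurj hc (commLifts_of_four hsurj hc h4 hK) h4

end Main

end Cfsg.Agent.Lib.Helper6.SLLift
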