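/-
helper6: S2282, the abstract step of the general-`n` endgame for `SU_n(q)` (coordinate-free, on `SUApiA` and
helper5's `SUGen`: `T0`, `TU`, `TU_fix`).  `h := Cfsg.hermForm n F q`, `Rt hF M` = root vectors of `M`.

* `TU_le_of_Rt` : if every isotropic vector of `U` is a root vector of `M`, then `TU q U ≤ M`
* `Rt_of_T0` : (helper5's `T0`) one link `y0 + z ∈ Rt M` (`z ⊥ U`) gives `y + z ∈ Rt M` for every isotropic
  `y ≠ 0` of `U`
* `exists_iso_decomp` : a non-isotropic vector of a non-degenerate `U` (`finrank ≥ 3`) is a sum of two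
  isotropic vectors of `U`
* `ext_hyp` : **the step** `U ↦ U ⊥ ⟨e, f⟩`: `iso(U) ⊆ Rt M`, `e, f ∈ Rt M` a hyperbolic pair orthogonal to `U`,
  one link `y0 + e ∈ Rt M` ⟹ every isotropic `y + a e + b f` (`y ∈ U`) lies in `Rt M`.  No restriction on `q`.
-/
import Mathlib
import Cfsg.Agent.Lib.Helper6.SUApiA

set_option autoImplicit false
set_option linter.unusedSectionVars false
set_option linter.unusedVariables false
set_option linter.unusedSimpArgs false

namespace Cfsg.Agent.Lib.Helper6.SUApi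

open Cfsg Matrix Cfsg.Agent.Lib.Helper14 Cfsg.Agent.Lib.Helper5.SpMax
  Cfsg.Agent.Lib.Helper5.UForm Cfsg.Agent.Lib.Helper5.UEichler Cfsg.Agent.Lib.Helper5.HermBridge
  Cfsg.Agent.Lib.Helper5.SUGen

variable {F : Type*} [Field F] [Fintype F] {q n : ℕ} (hF : Fintype.card F = q ^ 2)
variable {M : Subgroup ↥(Cfsg.SU n F q)}

/-- an element of `SU` whose matrix is a unitary transvection with centre a root vector of `M` lies in `M` -/
theorem mem_of_coe_ut {A : ↥(Cfsg.SU n F q)} {v : Fin n → F} {c : F}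
    (hA : ((A : Matrix.SpecialLinearGroup (Fin n) F) : Matrix (Fin n) (Fin n) F) =
      Cfsg.unitaryTransvection n q v c) (hvR : v ∈ Rt hF M) : A ∈ M := by
  have hf := herm_unitary (n := n) hF
  have hv := hvR.1
  by_cases hv0 : v = 0
  · have : A = 1 := by
      apply Subtype.ext; apply Subtype.ext
      rw [hA, hv0]
      unfold Cfsg.unitaryTransvection
      simp [Matrix.vecMulVec]
      ext i j; simp
    rw [this]; exact M.one_mem
  have hc : frobQ hF c = -c := by
    obtain ⟨y, hy⟩ : ∃ y, Cfsg.hermForm n F q y v ≠ 0 := by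
      by_contra hcon
      push Not at hcon
      apply hv0
      apply u_eq_zero_of_forall_right hf
      intro x
      rw [hf.herm, hcon x, map_zero]
    have h1 := A.2 y y
    change Cfsg.hermForm n F q (av A y) (av A y) = _ at h1
    have hav : av A y = y + (c * Cfsg.hermForm n F q y v) • v := by
      unfold av; rw [hA, ut_mulVec]
    rw [hav, hf.add_left, u_add_right hf, u_add_right hf, hf.smul_left, hf.smul_left,
      u_smul_right hf, u_smul_right hf, hv, map_mul] at h1
    have hvy : Cfsg.hermForm n F q v y = frobQ hF (Cfsg.hermForm n F q y v) := hf.herm v y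
    rw [hvy] at h1
    have hN : Cfsg.hermForm n F q y v * frobQ hF (Cfsg.hermForm n F q y v) ≠ 0 :=
      mul_ne_zero hy (by rwa [Ne, map_eq_zero])
    have : (frobQ hF c + c) * (Cfsg.hermForm n F q y v * frobQ hF (Cfsg.hermForm n F q y v)) = 0 := by
      linear_combination h1
    rcases mul_eq_zero.mp this with h | h
    · linear_combination h
    · exact absurd h hN
  have : A = Tu hF v c := by
    apply Subtype.ext; apply Subtype.ext
    rw [hA, coe_Tu hF hv hc]
  rw [this]
  exact hvR.2 c hc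

/-- if every isotropic vector of `U` is a root vector of `M`, then `TU q U ≤ M` -/
theorem TU_le_of_Rt {U : Submodule F (Fin n → F)}
    (hall : ∀ v ∈ U, Cfsg.hermForm n F q v v = 0 → v ∈ Rt hF M) : TU q U ≤ M := by
  unfold TU
  rw [Subgroup.closure_le]
  rintro A ⟨v, hvU, c, hv, hA⟩
  exact mem_of_coe_ut hF hA (hall v hvU hv)

/-- helper5's `T0` inside `M`: one link `y0 + z` gives all `y + z` -/
theorem Rt_of_T0 {U : Submodule F (Fin n → F)} (hU : ND (Cfsg.hermForm n F q) U)
    (hd : 3 ≤ Module.finrank F U)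
    (hall : ∀ v ∈ U, Cfsg.hermForm n F q v v = 0 → v ∈ Rt hF M)
    {z y0 y : Fin n → F} (hz : ∀ u ∈ U, Cfsg.hermForm n F q z u = 0)
    (hy0U : y0 ∈ U) (hy00 : y0 ≠ 0) (hy0 : Cfsg.hermForm n F q y0 y0 = 0)
    (hlink : y0 + z ∈ Rt hF M)
    (hyU : y ∈ U) (hyne : y ≠ 0) (hyy : Cfsg.hermForm n F q y y = 0) : y + z ∈ Rt hF M := by
  obtain ⟨t, ht, hty⟩ := T0 hF hU hd hy0U hyU hy00 hyne hy0 hyy
  have htM : t ∈ M := TU_le_of_Rt hF hall ht
  have := Rt_ap hF htM hlink
  rwa [av_add, hty, TU_fix ht hz] at this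

include hF in
/-- a non-isotropic vector of a non-degenerate subspace of dimension at least three is a sum of two
isotropic vectors of the subspace -/
theorem exists_iso_decomp {U : Submodule F (Fin n → F)} (hU : ND (Cfsg.hermForm n F q) U)
    (hd : 3 ≤ Module.finrank F U) {y : Fin n → F} (hyU : y ∈ U)
    (hyy : Cfsg.hermForm n F q y y ≠ 0) :
    ∃ y1 ∈ U, Cfsg.hermForm n F q y1 y1 = 0 ∧ y - y1 ∈ U ∧
      Cfsg.hermForm n F q (y - y1) (y - y1) = 0 := by
  have hf := herm_unitary (n := n) hF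
  have hU' := ND_noniso hf hU hyU hyy
  have hd' := finrank_inf_pp hf U y
  obtain ⟨v, hvU', hvv⟩ := exists_norm hf hU' (by omega) (-(Cfsg.hermForm n F q y y))
    (by rw [map_neg, u_self_fixed hf])
  obtain ⟨hvU, hvy⟩ := Submodule.mem_inf.mp hvU'
  rw [mem_pp] at hvy
  have hyv : Cfsg.hermForm n F q y v = 0 := u_symm_zero hf hvy
  obtain ⟨μ, hμ⟩ := tr_surj hf.involutive hf.ne_refl (1 : F) (map_one _)
  have hyvU : y + v ∈ U := U.add_mem hyU hvU
  have hN : Cfsg.hermForm n F q (y + v) (y + v) = 0 := by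
    rw [hf.add_left, u_add_right hf, u_add_right hf, hvy, hyv, hvv]; ring
  refine ⟨μ • (y + v), U.smul_mem _ hyvU, ?_, U.sub_mem hyU (U.smul_mem _ hyvU), ?_⟩
  · rw [hf.smul_left, u_smul_right hf, hN, mul_zero, mul_zero]
  · have e : y - μ • (y + v) = (1 - μ) • y + (-μ) • v := by module
    rw [e, hf.add_left, u_add_right hf, u_add_right hf, hf.smul_left, hf.smul_left, hf.smul_left,
      hf.smul_left, u_smul_right hf, u_smul_right hf, u_smul_right hf, u_smul_right hf,
      hvy, hyv, hvv, map_sub, map_one, map_neg]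
    linear_combination (-(Cfsg.hermForm n F q y y)) * hμ

/-- the form on `U ⊥ ⟨e, f⟩` -/
theorem herm_yab {ek fk : Fin n → F} (hee : Cfsg.hermForm n F q ek ek = 0)
    (hff : Cfsg.hermForm n F q fk fk = 0) (hef : Cfsg.hermForm n F q ek fk = 1)
    {y y' : Fin n → F} (hye : Cfsg.hermForm n F q y ek = 0) (hyf : Cfsg.hermForm n F q y fk = 0)
    (hy'e : Cfsg.hermForm n F q y' ek = 0) (hy'f : Cfsg.hermForm n F q y' fk = 0) (a b a' b' : F) :
    Cfsg.hermForm n F q (y + a • ek + b • fk) (y' + a' • ek + b' • fk) =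
      Cfsg.hermForm n F q y y' + a * frobQ hF b' + b * frobQ hF a' := by
  have hf := herm_unitary (n := n) hF
  have hfe : Cfsg.hermForm n F q fk ek = 1 := by rw [hf.herm, hef, map_one]
  have h1 : Cfsg.hermForm n F q ek y' = 0 := u_symm_zero hf hy'e
  have h2 : Cfsg.hermForm n F q fk y' = 0 := u_symm_zero hf hy'f
  rw [hf.add_left, hf.add_left, u_add_right hf, u_add_right hf, u_add_right hf, u_add_right hf,
    u_add_right hf, u_add_right hf, hf.smul_left, hf.smul_left, hf.smul_left, hf.smul_left,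
    hf.smul_left, hf.smul_left, u_smul_right hf, u_smul_right hf, u_smul_right hf, u_smul_right hf,
    u_smul_right hf, u_smul_right hf, hee, hff, hef, hfe, hye, hyf, h1, h2]
  ring

/-- **the step** `U ↦ U ⊥ ⟨e, f⟩` of the endgame -/
theorem ext_hyp {U : Submodule F (Fin n → F)} (hU : ND (Cfsg.hermForm n F q) U)
    (hd : 3 ≤ Module.finrank F U)
    (hall : ∀ v ∈ U, Cfsg.hermForm n F q v v = 0 → v ∈ Rt hF M)
    {ek fk : Fin n → F} (hee : Cfsg.hermForm n F q ek ek = 0)
    (hff : Cfsg.hermForm n F q fk fk = 0) (hef : Cfsg.hermForm n F q ek fk = 1)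
    (heU : ∀ u ∈ U, Cfsg.hermForm n F q ek u = 0) (hfU : ∀ u ∈ U, Cfsg.hermForm n F q fk u = 0)
    (hek : ek ∈ Rt hF M) (hfk : fk ∈ Rt hF M)
    {y0 : Fin n → F} (hy0U : y0 ∈ U) (hy00 : y0 ≠ 0) (hy0 : Cfsg.hermForm n F q y0 y0 = 0)
    (hlink : y0 + ek ∈ Rt hF M)
    {y : Fin n → F} (hyU : y ∈ U) (a b : F)
    (hiso : Cfsg.hermForm n F q (y + a • ek + b • fk) (y + a • ek + b • fk) = 0) :
    y + a • ek + b • fk ∈ Rt hF M := by
  have hf := herm_unitary (n := n) hF
  have hUe : ∀ u ∈ U, Cfsg.hermForm n F q u ek = 0 := fun u hu => u_symm_zero hf (heU u hu)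
  have hUf : ∀ u ∈ U, Cfsg.hermForm n F q u fk = 0 := fun u hu => u_symm_zero hf (hfU u hu)
  obtain ⟨κ, hκ0, hκ⟩ := exists_skew hf.involutive hf.ne_refl
  -- (A) `y + a e` for isotropic `y ≠ 0`
  have hA : ∀ y ∈ U, y ≠ 0 → Cfsg.hermForm n F q y y = 0 → ∀ a : F, y + a • ek ∈ Rt hF M := by
    intro y hyU hyne hyy a
    by_cases ha : a = 0
    · rw [ha, zero_smul, add_zero]
      exact hall y hyU hyy
    · have h1 : a⁻¹ • y + ek ∈ Rt hF M :=
        Rt_of_T0 hF hU hd hall heU hy0U hy00 hy0 hlink (U.smul_mem _ hyU)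
          (smul_ne_zero (inv_ne_zero ha) hyne)
          (by rw [hf.smul_left, u_smul_right hf, hyy, mul_zero, mul_zero])
      have h2 := Rt_smul hF a h1
      rwa [smul_add, smul_smul, mul_inv_cancel₀ ha, one_smul] at h2
  -- (B) isotropic `y`
  have hB : ∀ y ∈ U, Cfsg.hermForm n F q y y = 0 → ∀ a b : F,
      Cfsg.hermForm n F q (y + a • ek + b • fk) (y + a • ek + b • fk) = 0 →
      y + a • ek + b • fk ∈ Rt hF M := by
    intro y hyU hyy a b hiso
    have hcond : a * frobQ hF b + b * frobQ hF a = 0 := by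
      have := hiso
      rw [herm_yab hF hee hff hef (hUe y hyU) (hUf y hyU) (hUe y hyU) (hUf y hyU), hyy] at this
      linear_combination this
    by_cases hy0' : y = 0
    · rw [hy0', zero_add]
      apply Rt_line hF hek hfk (by rw [hef]; exact one_ne_zero)
      rw [hy0', zero_add] at hiso
      exact hiso
    by_cases hb : b = 0
    · rw [hb, zero_smul, add_zero]
      exact hA y hyU hy0' hyy a
    by_cases ha : a = 0
    · -- `y + b f`: through `y' + e + κ f` with `y' = (κ/b) y`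
      rw [ha, zero_smul, add_zero]
      have hy'U : (κ / b) • y ∈ U := U.smul_mem _ hyU
      have hy'ne : (κ / b) • y ≠ 0 := smul_ne_zero (div_ne_zero hκ0 hb) hy0'
      have hy'y' : Cfsg.hermForm n F q ((κ / b) • y) ((κ / b) • y) = 0 := by
        rw [hf.smul_left, u_smul_right hf, hyy, mul_zero, mul_zero]
      have h1 : (κ / b) • y + (1 : F) • ek ∈ Rt hF M := hA _ hy'U hy'ne hy'y' 1
      have hne1 : Cfsg.hermForm n F q ((κ / b) • y + (1 : F) • ek) fk ≠ 0 := by
        rw [hf.add_left, hf.smul_left, hf.smul_left, hUf y hyU, hef]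
        simp
      have hv1 : (1 : F) • ((κ / b) • y + (1 : F) • ek) + κ • fk ∈ Rt hF M := by
        apply Rt_line hF h1 hfk hne1
        have e : (1 : F) • ((κ / b) • y + (1 : F) • ek) + κ • fk =
            (κ / b) • y + (1 : F) • ek + κ • fk := by rw [one_smul]
        rw [e, herm_yab hF hee hff hef (hUe _ hy'U) (hUf _ hy'U) (hUe _ hy'U) (hUf _ hy'U), hy'y',
          hκ, map_one]
        ring
      have hne2 : Cfsg.hermForm n F q ((1 : F) • ((κ / b) • y + (1 : F) • ek) + κ • fk) ek ≠ 0 := by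
        rw [one_smul, hf.add_left, hf.add_left, hf.smul_left, hf.smul_left, hf.smul_left,
          hUe y hyU, hee, hf.herm fk ek, hef, map_one]
        simpa using hκ0
      have hv2 : (1 : F) • ((1 : F) • ((κ / b) • y + (1 : F) • ek) + κ • fk) + (-1 : F) • ek
          ∈ Rt hF M := by
        apply Rt_line hF hv1 hek hne2
        have e : (1 : F) • ((1 : F) • ((κ / b) • y + (1 : F) • ek) + κ • fk) + (-1 : F) • ek =
            (κ / b) • y + (0 : F) • ek + κ • fk := by module
        rw [e, herm_yab hF hee hff hef (hUe _ hy'U) (hUf _ hy'U) (hUe _ hy'U) (hUf _ hy'U), hy'y',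
          map_zero]
        ring
      have h3 := Rt_smul hF (b / κ) hv2
      have e3 : (b / κ) • ((1 : F) • ((1 : F) • ((κ / b) • y + (1 : F) • ek) + κ • fk) +
          (-1 : F) • ek) = y + b • fk := by
        have e4 : (b / κ) • ((1 : F) • ((1 : F) • ((κ / b) • y + (1 : F) • ek) + κ • fk) +
            (-1 : F) • ek) = ((b / κ) * (κ / b)) • y + ((b / κ) * κ) • fk := by module
        rw [e4]
        have e5 : (b / κ) * (κ / b) = 1 := by field_simp
        have e6 : (b / κ) * κ = b := by field_simp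
        rw [e5, e6, one_smul]
      rwa [e3] at h3
    · -- both `a, b ≠ 0`
      have h1 : y + a • ek ∈ Rt hF M := hA y hyU hy0' hyy a
      have hne1 : Cfsg.hermForm n F q (y + a • ek) fk ≠ 0 := by
        rw [hf.add_left, hf.smul_left, hUf y hyU, hef]
        simpa using ha
      have := Rt_line hF h1 hfk hne1 1 b (by rw [one_smul]; exact hiso)
      rwa [one_smul] at this
  -- (C) the general case
  by_cases hyy : Cfsg.hermForm n F q y y = 0
  · exact hB y hyU hyy a b hiso
  have hcond : Cfsg.hermForm n F q y y + a * frobQ hF b + b * frobQ hF a = 0 := by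
    have := hiso
    rw [herm_yab hF hee hff hef (hUe y hyU) (hUf y hyU) (hUe y hyU) (hUf y hyU)] at this
    exact this
  have hb : b ≠ 0 := by
    intro hb
    apply hyy
    rw [hb] at hcond
    simpa using hcond
  have hb' : frobQ hF b ≠ 0 := by rwa [Ne, map_eq_zero]
  obtain ⟨y1, hy1U, hy1, hy2U, hy2⟩ := exists_iso_decomp hF hU hd hyU hyy
  obtain ⟨ay, hay⟩ : ∃ ay, ay = Cfsg.hermForm n F q y1 (y - y1) := ⟨_, rfl⟩
  -- choose the skew parameter
  obtain ⟨κ', hκ', hne⟩ : ∃ κ' : F, frobQ hF κ' = -κ' ∧ ay + a * frobQ hF b + κ' ≠ 0 := by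
    by_cases h0 : ay + a * frobQ hF b = 0
    · exact ⟨κ, hκ, by rw [h0, zero_add]; exact hκ0⟩
    · exact ⟨0, by simp, by rwa [add_zero]⟩
  have hs : y1 + (a + κ' / frobQ hF b) • ek + (0 : F) • fk ∈ Rt hF M := by
    apply hB y1 hy1U hy1
    rw [herm_yab hF hee hff hef (hUe _ hy1U) (hUf _ hy1U) (hUe _ hy1U) (hUf _ hy1U), hy1, map_zero]
    ring
  have hs' : (y - y1) + (-(κ' / frobQ hF b)) • ek + b • fk ∈ Rt hF M := by
    apply hB (y - y1) hy2U hy2
    rw [herm_yab hF hee hff hef (hUe _ hy2U) (hUf _ hy2U) (hUe _ hy2U) (hUf _ hy2U), hy2,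
      map_neg, map_div₀, hf.involutive, hκ']
    field_simp
    ring
  have hne' : Cfsg.hermForm n F q (y1 + (a + κ' / frobQ hF b) • ek + (0 : F) • fk)
      ((y - y1) + (-(κ' / frobQ hF b)) • ek + b • fk) ≠ 0 := by
    rw [herm_yab hF hee hff hef (hUe _ hy1U) (hUf _ hy1U) (hUe _ hy2U) (hUf _ hy2U), ← hay]
    intro h0
    apply hne
    have : (a + κ' / frobQ hF b) * frobQ hF b = a * frobQ hF b + κ' := by field_simp
    linear_combination h0 - this
  have e : (1 : F) • (y1 + (a + κ' / frobQ hF b) • ek + (0 : F) • fk) +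
      (1 : F) • ((y - y1) + (-(κ' / frobQ hF b)) • ek + b • fk) = y + a • ek + b • fk := by
    module
  have := Rt_line hF hs hs' hne' 1 1 (by rw [e]; exact hiso)
  rwa [e] at this

end Cfsg.Agent.Lib.Helper6.SUApi
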