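/-
helper6: S2282, the general-`n` ENDGAME `E_n` for `SU_n(q)`, `n = 2m+1` (planner helper13's signature, msg 5654):
a Witt system `e_i, f_i (i < m), d` of `Fⁿ` with `e_i, f_i ∈ Rt M`, the links `e_i - e_{i+1} ∈ Rt M` and all
isotropic vectors of the middle unitary 3-space `⟨e_{m-1}, d, f_{m-1}⟩` in `Rt M`  ⟹  every isotropic vector
is a root vector of `M` (`endgame_n_Rt`), hence `M = ⊤` (`endgame_n`).

Proof: downward induction on `U_k := {e_i, f_i : i < k}^⊥` (`Uk`), the step is `SUEndA.ext_hyp`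
(helper5's `T0` on `U_{k+1}` + hyperbolic lines).  No restriction on `q`.
-/
import Mathlib
import Cfsg.Agent.Lib.Helper6.SUEndA

set_option autoImplicit false
set_option linter.unusedSectionVars false
set_option linter.unusedVariables false
set_option linter.unusedSimpArgs false

namespace Cfsg.Agent.Lib.Helper6.SUApi

open Cfsg Matrix Cfsg.Agent.Lib.Helper14 Cfsg.Agent.Lib.Helper5.SpMax
  Cfsg.Agent.Lib.Helper5.UForm Cfsg.Agent.Lib.Helper5.UEichler Cfsg.Agent.Lib.Helper5.HermBridge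
  Cfsg.Agent.Lib.Helper5.SUGen

variable {F : Type*} [Field F] [Fintype F] {q n : ℕ} (hF : Fintype.card F = q ^ 2)
variable {M : Subgroup ↥(Cfsg.SU n F q)} {m : ℕ}

/-- the orthogonal of the first `k` hyperbolic pairs -/
def Uk (e f : Fin m → (Fin n → F)) (k : ℕ) : Submodule F (Fin n → F) where
  carrier := {x | ∀ i : Fin m, i.val < k →
    Cfsg.hermForm n F q x (e i) = 0 ∧ Cfsg.hermForm n F q x (f i) = 0}
  add_mem' := by
    intro x y hx hy i hi
    have hf := herm_unitary (n := n) hF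
    rw [hf.add_left, hf.add_left, (hx i hi).1, (hx i hi).2, (hy i hi).1, (hy i hi).2, add_zero]
    exact ⟨rfl, rfl⟩
  zero_mem' := by
    intro i hi
    have hf := herm_unitary (n := n) hF
    exact ⟨u_zero_left hf _, u_zero_left hf _⟩
  smul_mem' := by
    intro c x hx i hi
    have hf := herm_unitary (n := n) hF
    rw [hf.smul_left, hf.smul_left, (hx i hi).1, (hx i hi).2, mul_zero]
    exact ⟨rfl, rfl⟩

theorem mem_Uk (e f : Fin m → (Fin n → F)) (k : ℕ) (x : Fin n → F) :
    x ∈ Uk hF e f k ↔ ∀ i : Fin m, i.val < k →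
      Cfsg.hermForm n F q x (e i) = 0 ∧ Cfsg.hermForm n F q x (f i) = 0 := Iff.rfl

theorem Uk_zero (e f : Fin m → (Fin n → F)) : Uk hF e f 0 = ⊤ := by
  rw [eq_top_iff]
  intro x _ i hi
  exact absurd hi (Nat.not_lt_zero _)

theorem Uk_succ (e f : Fin m → (Fin n → F)) (kk : Fin m) :
    Uk hF e f (kk.val + 1) =
      Uk hF e f kk.val ⊓ pp (herm_unitary (n := n) hF) (e kk) ⊓ pp (herm_unitary (n := n) hF) (f kk) := by
  ext x
  rw [Submodule.mem_inf, Submodule.mem_inf, mem_pp, mem_pp, mem_Uk, mem_Uk]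
  constructor
  · intro hx
    exact ⟨⟨fun i hi => hx i (by omega), (hx kk (by omega)).1⟩, (hx kk (by omega)).2⟩
  · rintro ⟨⟨h1, h2⟩, h3⟩ i hi
    by_cases hik : i.val < kk.val
    · exact h1 i hik
    · have : i = kk := Fin.ext (by omega)
      rw [this]
      exact ⟨h2, h3⟩

section Witt
variable {e f : Fin m → (Fin n → F)} {d : Fin n → F}
  (hee : ∀ i j, Cfsg.hermForm n F q (e i) (e j) = 0)
  (hff : ∀ i j, Cfsg.hermForm n F q (f i) (f j) = 0)
  (hef : ∀ i j, Cfsg.hermForm n F q (e i) (f j) = if i = j then 1 else 0)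
include hee hff hef

include hF in
theorem hfe_of (i j : Fin m) : Cfsg.hermForm n F q (f i) (e j) = if i = j then 1 else 0 := by
  have hf := herm_unitary (n := n) hF
  rw [hf.herm, hef j i]
  by_cases h : i = j
  · rw [if_pos h, if_pos h.symm, map_one]
  · rw [if_neg h, if_neg (fun h' => h h'.symm), map_zero]

theorem e_mem_Uk (kk : Fin m) (k : ℕ) (hk : k ≤ kk.val) : e kk ∈ Uk hF e f k := by
  intro i hi
  refine ⟨hee kk i, ?_⟩
  rw [hef kk i, if_neg]
  intro h
  rw [h] at hk
  omega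

theorem f_mem_Uk (kk : Fin m) (k : ℕ) (hk : k ≤ kk.val) : f kk ∈ Uk hF e f k := by
  intro i hi
  refine ⟨?_, hff kk i⟩
  rw [hfe_of hF hee hff hef kk i, if_neg]
  intro h
  rw [h] at hk
  omega

/-- `U_k` is non-degenerate of dimension at least `n - 2k` -/
theorem ND_Uk : ∀ k : ℕ, k ≤ m → ND (Cfsg.hermForm n F q) (Uk hF e f k) ∧
    n ≤ Module.finrank F (Uk hF e f k) + 2 * k := by
  have hf := herm_unitary (n := n) hF
  intro k
  induction k with
  | zero =>
    intro _
    rw [Uk_zero]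
    refine ⟨ND_top hf, ?_⟩
    rw [finrank_top, Module.finrank_fin_fun]
    omega
  | succ k ih =>
    intro hk
    obtain ⟨hND, hfr⟩ := ih (by omega)
    obtain ⟨kk, hkk⟩ : ∃ kk : Fin m, kk.val = k := ⟨⟨k, by omega⟩, rfl⟩
    have hsucc := Uk_succ hF e f kk
    rw [hkk] at hsucc
    rw [hsucc]
    have heU : e kk ∈ Uk hF e f k := e_mem_Uk hF hee hff hef kk k (by omega)
    have hfU : f kk ∈ Uk hF e f k := f_mem_Uk hF hee hff hef kk k (by omega)
    refine ⟨ND_hyp hf hND heU hfU (hee kk kk) (hff kk kk) (by rw [hef kk kk, if_pos rfl]), ?_⟩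
    have h1 := finrank_inf_pp hf (Uk hF e f k) (e kk)
    have h2 := finrank_inf_pp hf (Uk hF e f k ⊓ pp hf (e kk)) (f kk)
    omega

variable (hdd : Cfsg.hermForm n F q d d = 1)
  (hed : ∀ i, Cfsg.hermForm n F q (e i) d = 0) (hfd : ∀ i, Cfsg.hermForm n F q (f i) d = 0)
  (hspan : ∀ v : Fin n → F, v = ∑ i, Cfsg.hermForm n F q v (f i) • e i
    + Cfsg.hermForm n F q v d • d + ∑ i, Cfsg.hermForm n F q v (e i) • f i)
  (he : ∀ i, e i ∈ Rt hF M) (hfR : ∀ i, f i ∈ Rt hF M)
  (hlink : ∀ i j : Fin m, j.val = i.val + 1 → e i - e j ∈ Rt hF M)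
  (hW : ∀ il : Fin m, il.val + 1 = m → ∀ x y z : F,
    Cfsg.hermForm n F q (x • e il + y • d + z • f il) (x • e il + y • d + z • f il) = 0 →
    x • e il + y • d + z • f il ∈ Rt hF M)
include hdd hed hfd hspan he hfR hlink hW

/-- the downward induction -/
theorem Uk_Rt (hn : n = 2 * m + 1) (hm : 1 ≤ m) : ∀ j : ℕ, j + 1 ≤ m →
    ∀ x ∈ Uk hF e f (m - 1 - j), Cfsg.hermForm n F q x x = 0 → x ∈ Rt hF M := by
  have hf := herm_unitary (n := n) hF
  intro j
  induction j with
  | zero =>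
    intro _ x hx hxx
    rw [Nat.sub_zero] at hx
    obtain ⟨il, hil⟩ : ∃ il : Fin m, il.val = m - 1 := ⟨⟨m - 1, by omega⟩, rfl⟩
    have hlt : ∀ i : Fin m, i ≠ il → i.val < m - 1 := by
      intro i hne
      have h1 : i.val ≠ il.val := fun h => hne (Fin.ext h)
      have := i.2
      omega
    have hs1 : ∑ i, Cfsg.hermForm n F q x (f i) • e i = Cfsg.hermForm n F q x (f il) • e il := by
      apply Finset.sum_eq_single il
      · intro i _ hne
        rw [(hx i (hlt i hne)).2, zero_smul]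
      · intro h
        exact absurd (Finset.mem_univ _) h
    have hs2 : ∑ i, Cfsg.hermForm n F q x (e i) • f i = Cfsg.hermForm n F q x (e il) • f il := by
      apply Finset.sum_eq_single il
      · intro i _ hne
        rw [(hx i (hlt i hne)).1, zero_smul]
      · intro h
        exact absurd (Finset.mem_univ _) h
    have hxeq := hspan x
    rw [hs1, hs2] at hxeq
    obtain ⟨a, ha⟩ : ∃ a, a = Cfsg.hermForm n F q x (f il) := ⟨_, rfl⟩
    obtain ⟨b, hb⟩ : ∃ b, b = Cfsg.hermForm n F q x d := ⟨_, rfl⟩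
    obtain ⟨c, hc⟩ : ∃ c, c = Cfsg.hermForm n F q x (e il) := ⟨_, rfl⟩
    rw [← ha, ← hb, ← hc] at hxeq
    have key := hW il (by omega) a b c (by rw [← hxeq]; exact hxx)
    rw [hxeq]
    exact key
  | succ j ih =>
    intro hj x hx hxx
    have ihj := ih (by omega)
    obtain ⟨k, hk⟩ : ∃ k, k = m - 1 - (j + 1) := ⟨_, rfl⟩
    have hk1 : m - 1 - j = k + 1 := by omega
    rw [← hk] at hx
    rw [hk1] at ihj
    obtain ⟨kk, hkk⟩ : ∃ kk : Fin m, kk.val = k := ⟨⟨k, by omega⟩, rfl⟩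
    obtain ⟨kk1, hkk1⟩ : ∃ kk1 : Fin m, kk1.val = k + 1 := ⟨⟨k + 1, by omega⟩, rfl⟩
    obtain ⟨hND, hfr⟩ := ND_Uk hF hee hff hef (k + 1) (by omega)
    have hd3 : 3 ≤ Module.finrank F (Uk hF e f (k + 1)) := by omega
    have hefk : Cfsg.hermForm n F q (e kk) (f kk) = 1 := by rw [hef kk kk, if_pos rfl]
    have hfek : Cfsg.hermForm n F q (f kk) (e kk) = 1 := by
      rw [hfe_of hF hee hff hef kk kk, if_pos rfl]
    have heU : ∀ u ∈ Uk hF e f (k + 1), Cfsg.hermForm n F q (e kk) u = 0 := by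
      intro u hu
      exact u_symm_zero hf (hu kk (by omega)).1
    have hfU : ∀ u ∈ Uk hF e f (k + 1), Cfsg.hermForm n F q (f kk) u = 0 := by
      intro u hu
      exact u_symm_zero hf (hu kk (by omega)).2
    -- the link
    have hy0U : -e kk1 ∈ Uk hF e f (k + 1) :=
      Submodule.neg_mem _ (e_mem_Uk hF hee hff hef kk1 (k + 1) (by omega))
    have hy00 : -e kk1 ≠ 0 := by
      intro h0
      have h1 : e kk1 = 0 := by rwa [neg_eq_zero] at h0
      have h2 := hef kk1 kk1
      rw [if_pos rfl, h1, u_zero_left hf] at h2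
      exact zero_ne_one h2
    have hy0 : Cfsg.hermForm n F q (-e kk1) (-e kk1) = 0 := by
      rw [u_neg_left hf, u_neg_right hf, hee, neg_zero, neg_zero]
    have hlk : -e kk1 + e kk ∈ Rt hF M := by
      have := hlink kk kk1 (by omega)
      have e1 : -e kk1 + e kk = e kk - e kk1 := by abel
      rwa [e1]
    -- decompose `x`
    obtain ⟨a, ha⟩ : ∃ a, a = Cfsg.hermForm n F q x (f kk) := ⟨_, rfl⟩
    obtain ⟨b, hb⟩ : ∃ b, b = Cfsg.hermForm n F q x (e kk) := ⟨_, rfl⟩
    obtain ⟨y, hy⟩ : ∃ y, y = x - a • e kk - b • f kk := ⟨_, rfl⟩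
    have hyU : y ∈ Uk hF e f (k + 1) := by
      intro i hi
      by_cases hik : i.val < k
      · have hne : kk ≠ i := by
          intro h
          rw [← h] at hik
          omega
        rw [hy, u_sub_left hf, u_sub_left hf, u_sub_left hf, u_sub_left hf, hf.smul_left,
          hf.smul_left, hf.smul_left, hf.smul_left, (hx i hik).1, (hx i hik).2, hee, hff,
          hef kk i, hfe_of hF hee hff hef kk i, if_neg hne]
        simp
      · have : i = kk := Fin.ext (by omega)
        rw [this, hy, u_sub_left hf, u_sub_left hf, u_sub_left hf, u_sub_left hf, hf.smul_left,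
          hf.smul_left, hf.smul_left, hf.smul_left, hee, hff, hefk, hfek, ← ha, ← hb]
        constructor <;> ring
    have hxeq : x = y + a • e kk + b • f kk := by rw [hy]; abel
    rw [hxeq]
    rw [hxeq] at hxx
    exact ext_hyp hF hND hd3 ihj (hee kk kk) (hff kk kk) hefk heU hfU (he kk) (hfR kk)
      hy0U hy00 hy0 hlk hyU a b hxx

/-- **the endgame `E_n`, root-vector form**: every isotropic vector is a root vector of `M` -/
theorem endgame_n_Rt (hn : n = 2 * m + 1) (hm : 1 ≤ m) (v : Fin n → F)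
    (hv : Cfsg.hermForm n F q v v = 0) : v ∈ Rt hF M := by
  have h := Uk_Rt hF hee hff hef hdd hed hfd hspan he hfR hlink hW hn hm (m - 1) (by omega) v
  have h0 : m - 1 - (m - 1) = 0 := by omega
  rw [h0, Uk_zero] at h
  exact h Submodule.mem_top hv

/-- **the endgame `E_n`**: `M = ⊤` -/
theorem endgame_n (hn : n = 2 * m + 1) (hm : 1 ≤ m) (h32 : ¬ (n = 3 ∧ q = 2)) : M = ⊤ :=
  eq_top_of_Rt_all hF (by omega) h32
    (endgame_n_Rt hF hee hff hef hdd hed hfd hspan he hfR hlink hW hn hm)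

end Witt

end Cfsg.Agent.Lib.Helper6.SUApi
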