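/-
helper6: separated classes, part D: counting form of the permutation-character identity,
base change of matrix rank along a field homomorphism, and the map `ZMod p → ResF M`.
-/
import Mathlib
import Cfsg.Agent.Lib.Helper6.SepClassesC

set_option autoImplicit false

namespace Cfsg.Agent.Lib.Helper6.SepClasses

open Cfsg Cfsg.Agent.CharLib Cfsg.Agent.Lib.Helper24 Cfsg.Agent.Lib.Helper6 Cfsg.Agent.Lib.Helper23
open scoped ComplexConjugate

universe u

section counting

variable {G : Type u} [Group G] [Fintype G]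

/-- The total coefficient of the elements of `S` in `K_u K_{v⁻¹}` counts pairs `(y, z)` with
`y ∼ v`, `z ∼ u`, `z y⁻¹ ∈ S`. -/
theorem sum_conv_classInd_eq_card (S : Subgroup G) [Fintype S] (u v : G) :
    ∑ z : S, conv (classInd u) (classInd v⁻¹) (z : G) =
      (Nat.card {yz : G × G // IsConj v yz.1 ∧ IsConj u yz.2 ∧ yz.2 * yz.1⁻¹ ∈ S} : ℂ) := by
  classical
  unfold conv
  have h1 : ∀ (z : S) (g : G), classInd u g * classInd v⁻¹ (g⁻¹ * (z : G)) =
      if (IsConj u g ∧ IsConj v ((z : G)⁻¹ * g)) then (1 : ℂ) else 0 := by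
    intro z g
    have h2 : classInd v⁻¹ (g⁻¹ * (z : G)) = classInd v ((z : G)⁻¹ * g) := by
      rw [← classInd_inv_inv v ((z : G)⁻¹ * g)]
      congr 1
      group
    rw [h2]
    by_cases hu : IsConj u g
    · by_cases hv : IsConj v ((z : G)⁻¹ * g)
      · rw [classInd_of_isConj hu, classInd_of_isConj hv, if_pos ⟨hu, hv⟩, mul_one]
      · rw [classInd_of_not_isConj hv, if_neg (fun h => hv h.2), mul_zero]
    · rw [classInd_of_not_isConj hu, if_neg (fun h => hu h.1), zero_mul]
  simp_rw [h1]
  rw [← Fintype.sum_prod_type' (f := fun (z : S) (g : G) =>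
    if (IsConj u g ∧ IsConj v ((z : G)⁻¹ * g)) then (1 : ℂ) else 0)]
  rw [Finset.sum_boole, Nat.card_eq_fintype_card, ← Fintype.card_subtype]
  congr 1
  apply Fintype.card_congr
  refine
    { toFun := fun zg => ⟨(((zg.1.1 : S) : G)⁻¹ * zg.1.2, zg.1.2), zg.2.2, zg.2.1, ?_⟩
      invFun := fun yz => ⟨(⟨yz.1.2 * yz.1.1⁻¹, yz.2.2.2⟩, yz.1.2), yz.2.2.1, ?_⟩
      left_inv := ?_
      right_inv := ?_ }
  · have : zg.1.2 * (((zg.1.1 : S) : G)⁻¹ * zg.1.2)⁻¹ = ((zg.1.1 : S) : G) := by group
    rw [this]
    exact zg.1.1.2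
  · have : (yz.1.2 * yz.1.1⁻¹)⁻¹ * yz.1.2 = yz.1.1 := by group
    change IsConj v ((yz.1.2 * yz.1.1⁻¹)⁻¹ * yz.1.2)
    rw [this]
    exact yz.2.1
  · rintro ⟨⟨z, g⟩, h⟩
    apply Subtype.ext
    apply Prod.ext
    · apply Subtype.ext
      change g * ((z : G)⁻¹ * g)⁻¹ = (z : G)
      group
    · rfl
  · rintro ⟨⟨y, z⟩, h⟩
    apply Subtype.ext
    apply Prod.ext
    · change (z * y⁻¹)⁻¹ * z = y
      group
    · rfl

end counting

section rank

/-- Matrix rank is invariant under a homomorphism of fields (square matrices). -/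
theorem rank_map_field {K L : Type*} [Field K] [Field L] (φ : K →+* L) {m : Type*} [Fintype m]
    [DecidableEq m] (A : Matrix m m K) : (A.map φ).rank = A.rank := by
  classical
  obtain ⟨V, U, e, hV, hU, h⟩ := Matrix.exists_rank_normal_form A
  have hVd : IsUnit V.det := (Matrix.isUnit_iff_isUnit_det _).mp hV
  have hUd : IsUnit U.det := (Matrix.isUnit_iff_isUnit_det _).mp hU
  have hV' : IsUnit (V.map φ).det := by
    have := hVd.map φ
    rwa [RingHom.map_det, RingHom.mapMatrix_apply] at this
  have hU' : IsUnit (U.map φ).det := by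
    have := hUd.map φ
    rwa [RingHom.map_det, RingHom.mapMatrix_apply] at this
  have h' : (V.map φ) * (A.map φ) * (U.map φ) =
      (Matrix.fromBlocks (1 : Matrix (Fin A.rank) (Fin A.rank) L) 0 0
        (0 : Matrix (Fin (Fintype.card m - A.rank)) (Fin (Fintype.card m - A.rank)) L)).submatrix
          e e := by
    have h1 := congrArg (fun X => X.map φ) h
    simp only [Matrix.map_mul] at h1
    rw [h1]
    ext i j
    simp only [Matrix.map_apply, Matrix.submatrix_apply]
    rcases e i with a | a <;> rcases e j with b | b <;>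
      simp [Matrix.fromBlocks, Matrix.one_apply, apply_ite φ]
  have hrK : ∀ (F : Type _) [Field F], (Matrix.fromBlocks (1 : Matrix (Fin A.rank) (Fin A.rank) F) 0 0
        (0 : Matrix (Fin (Fintype.card m - A.rank)) (Fin (Fintype.card m - A.rank)) F)).rank =
      A.rank := by
    intro F _
    rw [← Matrix.diagonal_one, ← Matrix.diagonal_zero, Matrix.fromBlocks_diagonal,
      Matrix.rank_diagonal]
    have : Fintype.card {i : Fin A.rank ⊕ Fin (Fintype.card m - A.rank) //
        Sum.elim (fun _ => (1 : F)) (fun _ => (0 : F)) i ≠ 0} = Fintype.card (Fin A.rank) := by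
      apply Fintype.card_congr
      refine
        { toFun := fun i => match i with
            | ⟨Sum.inl a, _⟩ => a
            | ⟨Sum.inr b, hb⟩ => absurd rfl hb
          invFun := fun a => ⟨Sum.inl a, by simp⟩
          left_inv := ?_
          right_inv := ?_ }
      · rintro ⟨a | b, hi⟩
        · rfl
        · exact absurd rfl hi
      · intro a
        rfl
    rw [this, Fintype.card_fin]
  have h1 : (A.map φ).rank = ((V.map φ) * (A.map φ) * (U.map φ)).rank := by
    rw [Matrix.rank_mul_eq_left_of_isUnit_det _ _ hU', Matrix.rank_mul_eq_right_of_isUnit_det _ _ hV']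
  rw [h1, h', Matrix.rank_submatrix, hrK L]

end rank

section charp

variable {M : Ideal AlgInt} {p : ℕ}

theorem natCast_resF_eq_zero (hM : IsPModular p M) :
    haveI : M.IsPrime := isPrime_of_isPModular hM
    ((p : ℕ) : ResF M) = 0 := by
  haveI hprime : M.IsPrime := isPrime_of_isPModular hM
  have h1 : ((p : ℕ) : ResF M) = resMk M ((p : ℕ) : Helper23.localSubring M) := by
    rw [map_natCast]
  rw [h1, resMk_eq_zero_iff]
  push_cast
  exact memLocalIdeal_natCast_prime hM

end charp

end Cfsg.Agent.Lib.Helper6.SepClasses
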