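/-
helper6: separated classes, part E: ingredients for counting blocks with a normal defect group by
the rank of the class-pair matrix.
-/
import Mathlib
import Cfsg.Agent.Lib.Helper6.SepClassesD

set_option autoImplicit false

namespace Cfsg.Agent.Lib.Helper6.SepClasses

open Cfsg Cfsg.Agent.CharLib Cfsg.Agent.Lib.Helper24 Cfsg.Agent.Lib.Helper6 Cfsg.Agent.Lib.Helper23
open scoped ComplexConjugate

universe u

section linalg

/-- If `u W = (Pσ)ᵀ diag(m) P` with `P` of full row rank (witnessed by `A Pᵀ = 1`), nonzero `m`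
and `u`, then `W` has rank the number of rows of `P`. -/
theorem rank_eq_card_of_factor {F : Type*} [Field F] {κ ι : Type*} [Fintype κ] [DecidableEq κ]
    [Fintype ι] [DecidableEq ι] (Pm Am : Matrix κ ι F) (σ : Equiv.Perm ι) (mF : κ → F)
    (hm : ∀ B, mF B ≠ 0) (u : F) (hu : u ≠ 0) (W : Matrix ι ι F)
    (hW : ∀ i j, u * W i j = ∑ B, Pm B (σ i) * mF B * Pm B j)
    (hAP : Am * Pm.transpose = 1) : W.rank = Fintype.card κ := by
  classical
  have hW' : W = (u⁻¹ • (Pm.submatrix id σ).transpose) * (Matrix.diagonal mF * Pm) := by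
    ext i j
    rw [Matrix.mul_apply]
    simp only [Matrix.smul_apply, Matrix.transpose_apply, Matrix.submatrix_apply, id,
      Matrix.diagonal_mul, smul_eq_mul]
    have h1 := hW i j
    have h2 : W i j = u⁻¹ * (u * W i j) := by
      rw [← mul_assoc, inv_mul_cancel₀ hu, one_mul]
    rw [h2, h1, Finset.mul_sum]
    apply Finset.sum_congr rfl
    intro B _
    ring
  apply le_antisymm
  · rw [hW']
    exact (Matrix.rank_mul_le_left _ _).trans (Matrix.rank_le_card_width _)
  · have h2 : (Am.submatrix id σ) * (Pm.submatrix id σ).transpose = 1 := by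
      rw [← hAP]
      ext B B'
      simp only [Matrix.mul_apply, Matrix.submatrix_apply, Matrix.transpose_apply, id]
      exact Equiv.sum_comp σ (fun i => Am B i * Pm B' i)
    have h3 : Pm * Am.transpose = 1 := by
      have := congrArg Matrix.transpose hAP
      rwa [Matrix.transpose_mul, Matrix.transpose_transpose, Matrix.transpose_one] at this
    have h1 : (Am.submatrix id σ) * W * Am.transpose = u⁻¹ • Matrix.diagonal mF := by
      rw [hW', Matrix.smul_mul, Matrix.mul_smul, Matrix.smul_mul]
      congr 1
      rw [← Matrix.mul_assoc (Am.submatrix id σ), h2, Matrix.one_mul, Matrix.mul_assoc, h3,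
        Matrix.mul_one]
    have h4 : (u⁻¹ • Matrix.diagonal mF).rank = Fintype.card κ := by
      have h5 : u⁻¹ • Matrix.diagonal mF = Matrix.diagonal (fun B => u⁻¹ * mF B) := by
        ext B B'
        simp only [Matrix.smul_apply, Matrix.diagonal_apply, smul_eq_mul]
        split_ifs
        · rfl
        · rw [mul_zero]
      rw [h5, Matrix.rank_diagonal]
      exact Fintype.card_congr
        (Equiv.subtypeUnivEquiv (fun B => mul_ne_zero (inv_ne_zero hu) (hm B)))
    rw [← h4, ← h1]
    exact (Matrix.rank_mul_le_left _ _).trans (Matrix.rank_mul_le_right _ _)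

end linalg

section blocks

variable {G : Type u} [Group G] [Fintype G] [Fintype (IrrCharacter G)] {M : Ideal AlgInt} {p : ℕ}
  [hpp : Fact p.Prime]

omit [Fintype G] [Fintype (IrrCharacter G)] in
theorem minVal_eq_of_isDefectGroup [Finite G] (hM : IsPModular p M) {B : Set (IrrCharacter G)}
    (hB : IsPBlock M B) {D : Subgroup G} (hD : IsDefectGroup p M B D) :
    minVal p B = (Nat.card G).factorization p - (Nat.card D).factorization p := by
  haveI hprime : M.IsPrime := isPrime_of_isPModular hM
  have h2 := card_defectGroup_eq hM B hB D hD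
  have h3 : (Nat.card D).factorization p = blockDefect p B := by
    rw [h2, Nat.factorization_pow]
    simp [Nat.Prime.factorization_self hpp.out]
  have hne : B.Nonempty := by
    obtain ⟨χ₁, rfl⟩ := hB
    exact ⟨χ₁, mem_blockOf_self χ₁⟩
  have hmina : minVal p B ≤ (Nat.card G).factorization p := minVal_le_factorization_card hne
  have hdef : blockDefect p B = (Nat.card G).factorization p - minVal p B := rfl
  omega

open Classical in
/-- The `B`-part of the permutation character on `G/S` has degree `p^(a-d) m` with `p ∤ m`. -/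
theorem exists_sum_degree_mult_eq (hM : IsPModular p M) (S : Sylow p G) {B : Set (IrrCharacter G)}
    (hB : IsPBlock M B) {D : Subgroup G} (hD : IsDefectGroup p M B D) :
    ∃ m : ℕ, (∑ ψ : IrrCharacter G, if ψ ∈ B then charDegree (ψ : G → ℂ) * sylowMult S ψ else 0) =
      p ^ ((Nat.card G).factorization p - (Nat.card D).factorization p) * m ∧ ¬ p ∣ m := by
  haveI hprime : M.IsPrime := isPrime_of_isPModular hM
  have hp : p.Prime := hpp.out
  have hmin := minVal_eq_of_isDefectGroup hM hB hD
  have h2 := factorization_sum_degree_sq hM hB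
  obtain ⟨χ₁, rfl⟩ := hB
  have h1 := sum_degree_sq_eq hM S χ₁
  set T := ∑ ψ : IrrCharacter G, if ψ ∈ blockOf M (χ₁ : G → ℂ) then
    charDegree (ψ : G → ℂ) * sylowMult S ψ else 0 with hT
  have hsq0 : (∑ ψ : IrrCharacter G, if ψ ∈ blockOf M (χ₁ : G → ℂ) then
      charDegree (ψ : G → ℂ) ^ 2 else 0) ≠ 0 := by
    intro h0
    have h3 := (Finset.sum_eq_zero_iff.mp h0) χ₁ (Finset.mem_univ _)
    rw [if_pos (mem_blockOf_self χ₁)] at h3
    have := irr_charDegree_pos χ₁
    have h4 : charDegree (χ₁ : G → ℂ) = 0 := by
      rcases Nat.eq_zero_or_pos (charDegree (χ₁ : G → ℂ)) with h | h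
      · exact h
      · exfalso
        have : 0 < charDegree (χ₁ : G → ℂ) ^ 2 := Nat.pow_pos h
        omega
    omega
  have hT0 : T ≠ 0 := by
    intro h0
    rw [h0, mul_zero] at h1
    exact hsq0 h1
  rw [h1, Nat.factorization_mul (pow_ne_zero _ hp.ne_zero) hT0, Nat.factorization_pow] at h2
  simp only [Finsupp.coe_add, Finsupp.coe_smul, Pi.add_apply, Pi.smul_apply, smul_eq_mul,
    Nat.Prime.factorization_self hp, mul_one] at h2
  have h5 : T.factorization p =
      (Nat.card G).factorization p - (Nat.card D).factorization p := by omega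
  refine ⟨T / p ^ T.factorization p, ?_, Nat.not_dvd_ordCompl hp hT0⟩
  rw [← h5]
  exact (Nat.ordProj_mul_ordCompl_eq_self T p).symm

end blocks

end Cfsg.Agent.Lib.Helper6.SepClasses
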