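/-
helper6: separated classes, part F: the block idempotents give a dual basis to the central
characters on the classes with defect group `D` (normal), and the main congruence.
-/
import Mathlib
import Cfsg.Agent.Lib.Helper6.SepClassesE
import Cfsg.Agent.Lib.Helper6.InducedDefect
import Cfsg.Agent.Lib.Helper6.Osima2
import Cfsg.Agent.Lib.Helper6.ReynoldsA

set_option autoImplicit false

namespace Cfsg.Agent.Lib.Helper6.SepClasses

open Cfsg Cfsg.Agent.CharLib Cfsg.Agent.Lib.Helper24 Cfsg.Agent.Lib.Helper6 Cfsg.Agent.Lib.Helper23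
open Cfsg.Agent.Lib.Helper6.Reynolds
open scoped ComplexConjugate

universe u

section dual

variable {G : Type u} [Group G] [Fintype G] {M : Ideal AlgInt} {p : ℕ} [hpp : Fact p.Prime]

open Classical in
/-- For blocks `B₀ ∋ χ₀`, `B₁ ∋ χ₁` with normal defect group `D`, the idempotent coefficients of
`B₀` on the `p`-regular classes with defect group `D` pair with `ω_{χ₁}` to `δ_{B₀ B₁}` mod `M`. -/
theorem sum_blockCoeff_mul_centralChar_mod (hM : IsPModular p M) (D : Subgroup G) [hDn : D.Normal]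
    {ι : Type*} [Fintype ι] (K : ι → ConjClasses G) (hKinj : Function.Injective K)
    (hK : ∀ C : ConjClasses G, (∃ i, K i = C) ↔ ∃ x ∈ C.carrier, ¬ p ∣ orderOf x ∧
      ∃ Q : Sylow p (Subgroup.centralizer ({x} : Set G)),
        (Q : Subgroup (Subgroup.centralizer ({x} : Set G))).map
          (Subgroup.centralizer ({x} : Set G)).subtype = D)
    (x : ι → G) (hx : ∀ i, ConjClasses.mk (x i) = K i) (χ₀ χ₁ : IrrCharacter G)
    (h₀ : IsDefectGroup p M (blockOf M (χ₀ : G → ℂ)) D)
    (h₁ : IsDefectGroup p M (blockOf M (χ₁ : G → ℂ)) D) :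
    MemLocalIdeal M ((∑ i, blockCoeff (blockOf M (χ₀ : G → ℂ)) (x i) *
      centralChar (χ₁ : G → ℂ) (x i)) - if χ₁ ∈ blockOf M (χ₀ : G → ℂ) then 1 else 0) := by
  let _ : Fintype (ConjClasses G) := Fintype.ofFinite _
  haveI hprime : M.IsPrime := isPrime_of_isPModular hM
  have h := sum_blockCoeff_mul_centralChar (blockOf M (χ₀ : G → ℂ)) χ₁
  rw [← h, ← Finset.sum_add_sum_compl (Finset.univ.image K),
    Finset.sum_image (fun a _ b _ hab => hKinj hab)]
  have h1 : ∀ i, blockCoeff (blockOf M (χ₀ : G → ℂ)) (Quotient.out (K i)) *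
      centralChar (χ₁ : G → ℂ) (Quotient.out (K i)) =
      blockCoeff (blockOf M (χ₀ : G → ℂ)) (x i) * centralChar (χ₁ : G → ℂ) (x i) := by
    intro i
    have hc : IsConj (Quotient.out (K i)) (x i) := by
      rw [← ConjClasses.mk_eq_mk_iff_isConj, conjClasses_mk_out, hx i]
    rw [IsClassFunction.of_isConj (blockCoeff_isClassFunction _) hc,
      centralChar_eq_of_isConj χ₁ hc]
  rw [Finset.sum_congr rfl (fun i _ => h1 i), sub_add_cancel_left]
  apply memLocalIdeal_neg
  apply sum_memLocalIdeal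
  intro C hC
  set y := Quotient.out C with hy
  by_cases ha : MemLocalIdeal M (blockCoeff (blockOf M (χ₀ : G → ℂ)) y)
  · exact memLocalIdeal_mul_right ha (memLocalRing_centralChar χ₁ y)
  by_cases hω : MemLocalIdeal M (centralChar (χ₁ : G → ℂ) y)
  · exact memLocalIdeal_mul_left (memLocalRing_blockCoeff_blockOf χ₀ y) hω
  exfalso
  rw [Finset.mem_compl, Finset.mem_image] at hC
  apply hC
  have hreg : ¬ p ∣ orderOf y := by
    intro hdiv
    apply ha
    rw [blockCoeff_eq_zero_of_dvd_orderOf hM χ₀ y hdiv]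
    exact memLocalIdeal_zero hprime.one_notMem
  obtain ⟨l, hl, Q, hQ⟩ := id h₀
  have hωl : ¬ MemLocalIdeal M (centralChar (χ₀ : G → ℂ) l) := hl.2.2 χ₀ (mem_blockOf_self χ₀)
  have hc1 : CentLE p y l := centLE_of_blockCoeff hM χ₀ l hωl y ha
  obtain ⟨l', hl', Q', hQ'⟩ := id h₁
  have hc2 : CentLE p l' y := centLE_of_blockCoeff hM χ₁ y hω l' hl'.2.1
  obtain ⟨Qy⟩ : Nonempty (Sylow p (Subgroup.centralizer ({y} : Set G))) := inferInstance
  obtain ⟨c, hc⟩ := hc1.sylow_le Qy Q
  rw [← hQ, map_conj_eq_of_normal] at hc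
  obtain ⟨c', hc'⟩ := hc2.sylow_le Q' Qy
  rw [← hQ'] at hc'
  have hcard : Nat.card D ≤ Nat.card ((Qy : Subgroup (Subgroup.centralizer ({y} : Set G))).map
      (Subgroup.centralizer ({y} : Set G)).subtype) := by
    have h2 := Subgroup.card_le_of_le hc'
    rwa [Subgroup.card_map_of_injective (MulAut.conj c').injective] at h2
  have heq := Subgroup.eq_of_le_of_card_ge hc hcard
  obtain ⟨i, hi⟩ := (hK C).mpr ⟨y, by
    rw [ConjClasses.mem_carrier_iff_mk_eq]
    exact conjClasses_mk_out C, hreg, Qy, heq⟩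
  exact ⟨i, Finset.mem_univ _, hi⟩

end dual

end Cfsg.Agent.Lib.Helper6.SepClasses
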