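/-
helper6: separated classes, part G: the main congruence
`(∑_χ m_χ χ(1) ω_χ(y) ω_χ(g)) / p^e ≡ ∑_{B ∈ Bl(G|D)} ω_B(y) ω_B(g) Φ_B(1) / p^e`.
-/
import Mathlib
import Cfsg.Agent.Lib.Helper6.SepClassesF

set_option autoImplicit false

namespace Cfsg.Agent.Lib.Helper6.SepClasses

open Cfsg Cfsg.Agent.CharLib Cfsg.Agent.Lib.Helper24 Cfsg.Agent.Lib.Helper6 Cfsg.Agent.Lib.Helper23
open scoped ComplexConjugate

universe u

variable {G : Type u} [Group G] [Fintype G] [Fintype (IrrCharacter G)] {M : Ideal AlgInt} {p : ℕ}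
  [hpp : Fact p.Prime]

open Classical in
theorem memLocalIdeal_sum_div_sub (hM : IsPModular p M) (D : Subgroup G) (S : Sylow p G)
    [Fintype {B : Set (IrrCharacter G) // IsPBlock M B ∧ IsDefectGroup p M B D}]
    (rep : {B : Set (IrrCharacter G) // IsPBlock M B ∧ IsDefectGroup p M B D} → IrrCharacter G)
    (hrep : ∀ B, B.1 = blockOf M (rep B : G → ℂ))
    (y g : G) (Sy : Sylow p (Subgroup.centralizer ({y} : Set G)))
    (hSy : (Sy : Subgroup (Subgroup.centralizer ({y} : Set G))).map
      (Subgroup.centralizer ({y} : Set G)).subtype = D)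
    (hg : (Subgroup.centralizer ({g} : Set G)).index.factorization p +
      (Nat.card D).factorization p = (Nat.card G).factorization p) :
    MemLocalIdeal M
      ((∑ χ : IrrCharacter G, (sylowMult S χ : ℂ) * ((χ : G → ℂ) 1 *
          (centralChar (χ : G → ℂ) y * centralChar (χ : G → ℂ) g))) /
          (p : ℂ) ^ ((Nat.card G).factorization p - (Nat.card D).factorization p) -
        ∑ B : {B : Set (IrrCharacter G) // IsPBlock M B ∧ IsDefectGroup p M B D},
          centralChar (rep B : G → ℂ) y * centralChar (rep B : G → ℂ) g *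
            (((∑ ψ : IrrCharacter G, if ψ ∈ B.1 then
              charDegree (ψ : G → ℂ) * sylowMult S ψ else 0 : ℕ) : ℂ) /
              (p : ℂ) ^ ((Nat.card G).factorization p - (Nat.card D).factorization p))) := by
  haveI hprime : M.IsPrime := isPrime_of_isPModular hM
  have hp : p.Prime := hpp.out
  set e := (Nat.card G).factorization p - (Nat.card D).factorization p with he
  have hpe : ((p : ℂ) ^ e) ≠ 0 := pow_ne_zero _ (Nat.cast_ne_zero.mpr hp.ne_zero)
  rw [Finset.sum_div]
  have hB : ∑ B : {B : Set (IrrCharacter G) // IsPBlock M B ∧ IsDefectGroup p M B D},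
      centralChar (rep B : G → ℂ) y * centralChar (rep B : G → ℂ) g *
        (((∑ ψ : IrrCharacter G, if ψ ∈ B.1 then
          charDegree (ψ : G → ℂ) * sylowMult S ψ else 0 : ℕ) : ℂ) / (p : ℂ) ^ e) =
      ∑ χ : IrrCharacter G,
        ∑ B : {B : Set (IrrCharacter G) // IsPBlock M B ∧ IsDefectGroup p M B D},
          if χ ∈ B.1 then centralChar (rep B : G → ℂ) y * centralChar (rep B : G → ℂ) g *
            (((charDegree (χ : G → ℂ) : ℂ) * (sylowMult S χ : ℂ)) / (p : ℂ) ^ e) else 0 := by
    rw [Finset.sum_comm]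
    apply Finset.sum_congr rfl
    intro B _
    rw [Nat.cast_sum, Finset.sum_div, Finset.mul_sum]
    apply Finset.sum_congr rfl
    intro χ _
    split_ifs
    · rw [Nat.cast_mul]
    · rw [Nat.cast_zero, zero_div, mul_zero]
  rw [hB, ← Finset.sum_sub_distrib]
  apply sum_memLocalIdeal
  intro χ _
  by_cases hgood : IsDefectGroup p M (blockOf M (χ : G → ℂ)) D
  · let B₀ : {B : Set (IrrCharacter G) // IsPBlock M B ∧ IsDefectGroup p M B D} :=
      ⟨blockOf M (χ : G → ℂ), ⟨χ, rfl⟩, hgood⟩
    rw [Finset.sum_eq_single B₀]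
    · rw [if_pos (mem_blockOf_self χ)]
      have hmin := minVal_eq_of_isDefectGroup hM (⟨χ, rfl⟩ : IsPBlock M (blockOf M (χ : G → ℂ)))
        hgood
      have hle := minVal_le (p := p) (B := blockOf M (χ : G → ℂ)) (χ := χ) (mem_blockOf_self χ)
      rw [hmin] at hle
      obtain ⟨c, hc⟩ : p ^ e ∣ charDegree (χ : G → ℂ) :=
        dvd_trans (pow_dvd_pow p hle) (Nat.ordProj_dvd _ p)
      have h3 : (sylowMult S χ : ℂ) * ((χ : G → ℂ) 1 *
          (centralChar (χ : G → ℂ) y * centralChar (χ : G → ℂ) g)) / (p : ℂ) ^ e -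
          centralChar (rep B₀ : G → ℂ) y * centralChar (rep B₀ : G → ℂ) g *
            (((charDegree (χ : G → ℂ) : ℂ) * (sylowMult S χ : ℂ)) / (p : ℂ) ^ e) =
          ((sylowMult S χ : ℂ) * (c : ℂ)) *
            ((centralChar (χ : G → ℂ) y - centralChar (rep B₀ : G → ℂ) y) *
                centralChar (χ : G → ℂ) g +
              centralChar (rep B₀ : G → ℂ) y *
                (centralChar (χ : G → ℂ) g - centralChar (rep B₀ : G → ℂ) g)) := by
        rw [irr_apply_one, hc]
        push_cast
        field_simp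
        ring
      rw [h3]
      apply memLocalIdeal_mul_left (memLocalRing_mul (memLocalRing_natCast _) (memLocalRing_natCast _))
      have h4 : χ ∈ blockOf M (rep B₀ : G → ℂ) := by
        rw [← hrep B₀]
        exact mem_blockOf_self χ
      have h5 : ∀ t, MemLocalIdeal M (centralChar (χ : G → ℂ) t - centralChar (rep B₀ : G → ℂ) t) := by
        intro t
        have := memLocalIdeal_neg (h4 t)
        rwa [neg_sub] at this
      exact memLocalIdeal_add (memLocalIdeal_mul_right (h5 y) (memLocalRing_centralChar χ g))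
        (memLocalIdeal_mul_left (memLocalRing_centralChar (rep B₀) y) (h5 g))
    · intro B _ hB
      rw [if_neg]
      intro hχB
      apply hB
      apply Subtype.ext
      exact isPBlock_eq_of_mem B.2.1 ⟨χ, rfl⟩ hχB (mem_blockOf_self χ)
    · intro h
      exact absurd (Finset.mem_univ _) h
  · rw [Finset.sum_eq_zero, sub_zero]
    · have hν : (Subgroup.centralizer ({g} : Set G)).index.factorization p = e := by omega
      have hn := Nat.ordProj_mul_ordCompl_eq_self (Subgroup.centralizer ({g} : Set G)).index p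
      rw [hν] at hn
      set n := (Subgroup.centralizer ({g} : Set G)).index / p ^ e with hndef
      have h1 := irr_apply_one_mul_centralChar χ g
      have h3 : (sylowMult S χ : ℂ) * ((χ : G → ℂ) 1 *
          (centralChar (χ : G → ℂ) y * centralChar (χ : G → ℂ) g)) / (p : ℂ) ^ e =
          ((sylowMult S χ : ℂ) * (n : ℂ)) * (centralChar (χ : G → ℂ) y * (χ : G → ℂ) g) := by
        calc (sylowMult S χ : ℂ) * ((χ : G → ℂ) 1 *
            (centralChar (χ : G → ℂ) y * centralChar (χ : G → ℂ) g)) / (p : ℂ) ^ e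
            = (sylowMult S χ : ℂ) * (centralChar (χ : G → ℂ) y *
              ((χ : G → ℂ) 1 * centralChar (χ : G → ℂ) g)) / (p : ℂ) ^ e := by ring
          _ = _ := by
            rw [h1, ← hn]
            push_cast
            field_simp
      rw [h3]
      apply memLocalIdeal_mul_left (memLocalRing_mul (memLocalRing_natCast _) (memLocalRing_natCast _))
      exact memLocalIdeal_centralChar_mul_of_not_isDefectGroup hM D y g Sy hSy hg χ hgood
    · intro B _
      rw [if_neg]
      intro hχB
      apply hgood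
      have h5 : B.1 = blockOf M (χ : G → ℂ) :=
        isPBlock_eq_of_mem B.2.1 ⟨χ, rfl⟩ hχB (mem_blockOf_self χ)
      rw [← h5]
      exact B.2.2

end Cfsg.Agent.Lib.Helper6.SepClasses
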