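/-
helper6: separated classes, part H: the number of blocks with a given normal defect group `D` is
the rank over `𝔽_p` of the class-pair matrix.
-/
import Mathlib
import Cfsg.Agent.Lib.Helper6.SepClassesG

set_option autoImplicit false

namespace Cfsg.Agent.Lib.Helper6.SepClasses

open Cfsg Cfsg.Agent.CharLib Cfsg.Agent.Lib.Helper24 Cfsg.Agent.Lib.Helper6 Cfsg.Agent.Lib.Helper23
open scoped ComplexConjugate

universe u

section

variable {G : Type u} [Group G]

theorem exists_sylow_of_eq {p : ℕ} {D : Subgroup G} {H H' : Subgroup G} (h : H = H')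
    (hQ : ∃ Q : Sylow p H, (Q : Subgroup H).map H.subtype = D) :
    ∃ Q : Sylow p H', (Q : Subgroup H').map H'.subtype = D := by
  subst h
  exact hQ

end

section

variable {G : Type u} [Group G] [Finite G] {M : Ideal AlgInt} {p : ℕ} [hpp : Fact p.Prime]

set_option maxHeartbeats 1600000 in
open Classical in
theorem card_blocks_eq_rank (hM : IsPModular p M) (D : Subgroup G) [hDn : D.Normal]
    (S : Sylow p G) {ι : Type*} [Fintype ι] [DecidableEq ι] (K : ι → ConjClasses G)
    (hKinj : Function.Injective K)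
    (hK : ∀ C : ConjClasses G, (∃ i, K i = C) ↔ ∃ x ∈ C.carrier, ¬ p ∣ orderOf x ∧
      ∃ Q : Sylow p (Subgroup.centralizer ({x} : Set G)),
        (Q : Subgroup (Subgroup.centralizer ({x} : Set G))).map
          (Subgroup.centralizer ({x} : Set G)).subtype = D) :
    Nat.card {B : Set (IrrCharacter G) // IsPBlock M B ∧ IsDefectGroup p M B D} =
      (Matrix.of fun i j : ι => ((Nat.card {yz : G × G // yz.1 ∈ (K i).carrier ∧
        yz.2 ∈ (K j).carrier ∧ yz.2 * yz.1⁻¹ ∈ (S : Subgroup G)} /
          p ^ ((Nat.card G).factorization p - (Nat.card D).factorization p) : ℕ) : ZMod p)).rank := by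
  let _ := Fintype.ofFinite G
  let _ := fintypeIrr G
  let _ : Fintype (S : Subgroup G) := Fintype.ofFinite _
  haveI hprime : M.IsPrime := isPrime_of_isPModular hM
  have hp : p.Prime := hpp.out
  let _ : Fintype {B : Set (IrrCharacter G) // IsPBlock M B ∧ IsDefectGroup p M B D} :=
    Fintype.ofFinite _
  set e := (Nat.card G).factorization p - (Nat.card D).factorization p with he
  have hpe : ((p : ℂ) ^ e) ≠ 0 := pow_ne_zero _ (Nat.cast_ne_zero.mpr hp.ne_zero)
  -- representatives of the classes
  choose x hxmem hxreg hxSyl using (fun i => (hK (K i)).mp ⟨i, rfl⟩)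
  have hxK : ∀ i, ConjClasses.mk (x i) = K i := fun i =>
    ConjClasses.mem_carrier_iff_mk_eq.mp (hxmem i)
  -- the inversion permutation
  have hσ' : ∀ i, ∃ i', K i' = ConjClasses.mk (x i)⁻¹ := by
    intro i
    refine (hK _).mpr ⟨(x i)⁻¹, ConjClasses.mem_carrier_mk, ?_, ?_⟩
    · rw [orderOf_inv]
      exact hxreg i
    · exact exists_sylow_of_eq (centralizer_singleton_inv (x i)).symm (hxSyl i)
  choose σf hσf using hσ'
  have hσconj : ∀ i, IsConj (x (σf i)) (x i)⁻¹ := fun i =>
    ConjClasses.mk_eq_mk_iff_isConj.mp ((hxK (σf i)).trans (hσf i))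
  have hσinv : Function.Involutive σf := by
    intro i
    apply hKinj
    rw [hσf (σf i), ← hxK i, ConjClasses.mk_eq_mk_iff_isConj]
    have h1 := (isConj_inv_inv_iff (x (σf i)) (x i)⁻¹).mpr (hσconj i)
    rwa [inv_inv] at h1
  let σ : Equiv.Perm ι := hσinv.toPerm σf
  -- blocks and representatives
  have hrep' : ∀ B : {B : Set (IrrCharacter G) // IsPBlock M B ∧ IsDefectGroup p M B D},
      ∃ χ : IrrCharacter G, B.1 = blockOf M (χ : G → ℂ) := fun B => B.2.1
  choose rep hrep using hrep'
  choose mB hmB1 hmB2 using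
    fun B : {B : Set (IrrCharacter G) // IsPBlock M B ∧ IsDefectGroup p M B D} =>
      exists_sum_degree_mult_eq hM S B.2.1 B.2.2
  -- the unit `u = |G : S|`
  have hup : ¬ p ∣ (S : Subgroup G).index := S.not_dvd_index
  have hu0 : (((S : Subgroup G).index : ℕ) : ℂ) ≠ 0 := by
    have : (S : Subgroup G).index ≠ 0 := Subgroup.index_ne_zero_of_finite
    exact_mod_cast this
  have huinv : MemLocalRing M ((((S : Subgroup G).index : ℕ) : ℂ))⁻¹ :=
    memLocalRing_inv_natCast_of_not_dvd hM hup
  -- the counts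
  let N : ι → ι → ℕ := fun i j => Nat.card {yz : G × G // yz.1 ∈ (K i).carrier ∧
    yz.2 ∈ (K j).carrier ∧ yz.2 * yz.1⁻¹ ∈ (S : Subgroup G)}
  have hN : ∀ i j, ∑ χ : IrrCharacter G, (sylowMult S χ : ℂ) * ((χ : G → ℂ) 1 *
      (centralChar (χ : G → ℂ) (x j) * centralChar (χ : G → ℂ) (x i)⁻¹)) =
      (((S : Subgroup G).index : ℕ) : ℂ) * (N i j : ℂ) := by
    intro i j
    have h1 := sum_sylowMult_centralChar S (x j) (x i)⁻¹
    rw [sum_conv_classInd_eq_card (S : Subgroup G) (x j) (x i)] at h1
    have h2 : Nat.card {yz : G × G // IsConj (x i) yz.1 ∧ IsConj (x j) yz.2 ∧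
        yz.2 * yz.1⁻¹ ∈ (S : Subgroup G)} = N i j := by
      apply Nat.card_congr
      apply Equiv.subtypeEquivRight
      intro yz
      rw [ConjClasses.mem_carrier_iff_mk_eq, ConjClasses.mem_carrier_iff_mk_eq, ← hxK i, ← hxK j,
        ConjClasses.mk_eq_mk_iff_isConj, ConjClasses.mk_eq_mk_iff_isConj]
      constructor
      · rintro ⟨h3, h4, h5⟩
        exact ⟨h3.symm, h4.symm, h5⟩
      · rintro ⟨h3, h4, h5⟩
        exact ⟨h3.symm, h4.symm, h5⟩
    rw [h2] at h1
    have hS0 : (Nat.card (S : Subgroup G) : ℂ) ≠ 0 := by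
      have : Nat.card (S : Subgroup G) ≠ 0 := Nat.card_pos.ne'
      exact_mod_cast this
    have hG : (Nat.card G : ℂ) =
        (Nat.card (S : Subgroup G) : ℂ) * (((S : Subgroup G).index : ℕ) : ℂ) := by
      exact_mod_cast ((S : Subgroup G).card_mul_index).symm
    rw [hG, mul_assoc] at h1
    exact mul_left_cancel₀ hS0 h1
  -- the congruence
  have hcong : ∀ i j, MemLocalIdeal M
      ((((S : Subgroup G).index : ℕ) : ℂ) * (N i j : ℂ) / (p : ℂ) ^ e -
        ∑ B : {B : Set (IrrCharacter G) // IsPBlock M B ∧ IsDefectGroup p M B D},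
          centralChar (rep B : G → ℂ) (x j) * centralChar (rep B : G → ℂ) (x (σ i)) *
            (mB B : ℂ)) := by
    intro i j
    obtain ⟨Sj, hSj⟩ := hxSyl j
    obtain ⟨Si, hSi⟩ := hxSyl i
    have hg := factorization_index_centralizer_add D (x i) Si hSi
    rw [← centralizer_singleton_inv (x i)] at hg
    have h1 := memLocalIdeal_sum_div_sub hM D S rep hrep (x j) (x i)⁻¹ Sj hSj hg
    rw [hN i j] at h1
    have h2 : ∀ B : {B : Set (IrrCharacter G) // IsPBlock M B ∧ IsDefectGroup p M B D},
        centralChar (rep B : G → ℂ) (x j) * centralChar (rep B : G → ℂ) (x i)⁻¹ *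
          (((∑ ψ : IrrCharacter G, if ψ ∈ B.1 then
            charDegree (ψ : G → ℂ) * sylowMult S ψ else 0 : ℕ) : ℂ) / (p : ℂ) ^ e) =
        centralChar (rep B : G → ℂ) (x j) * centralChar (rep B : G → ℂ) (x (σ i)) *
          (mB B : ℂ) := by
      intro B
      rw [hmB1 B, ← centralChar_eq_of_isConj (rep B) (hσconj i)]
      push_cast
      rw [mul_div_cancel_left₀ _ hpe]
      rfl
    rw [Finset.sum_congr rfl (fun B _ => h2 B)] at h1
    exact h1
  -- divisibility of the counts
  have hωR : ∀ (B : {B : Set (IrrCharacter G) // IsPBlock M B ∧ IsDefectGroup p M B D}) (t : G),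
      MemLocalRing M (centralChar (rep B : G → ℂ) t) := fun B t => memLocalRing_centralChar _ _
  have hdvd : ∀ i j, p ^ e ∣ N i j := by
    intro i j
    have h1 : MemLocalRing M ((((S : Subgroup G).index : ℕ) : ℂ) * (N i j : ℂ) / (p : ℂ) ^ e) := by
      have h2 := memLocalRing_add (memLocalRing_of_memLocalIdeal (hcong i j))
        (sum_memLocalRing (M := M) Finset.univ _ (fun B _ =>
          memLocalRing_mul (memLocalRing_mul (hωR B (x j)) (hωR B (x (σ i))))
            (memLocalRing_natCast (mB B))))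
      rwa [sub_add_cancel] at h2
    have h3 : MemLocalRing M (((N i j : ℤ) : ℂ) / ((p ^ e : ℕ) : ℂ)) := by
      have h4 := memLocalRing_mul huinv h1
      have h5 : ((((S : Subgroup G).index : ℕ) : ℂ))⁻¹ *
          ((((S : Subgroup G).index : ℕ) : ℂ) * (N i j : ℂ) / (p : ℂ) ^ e) =
          ((N i j : ℤ) : ℂ) / ((p ^ e : ℕ) : ℂ) := by
        push_cast
        field_simp
      rwa [h5] at h4
    have h6 := (memLocalRing_intCast_div_natCast_iff hM (pow_ne_zero e hp.ne_zero)).mp h3
    rw [Nat.factorization_pow] at h6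
    simp only [Finsupp.coe_smul, Pi.smul_apply, smul_eq_mul,
      Nat.Prime.factorization_self hp, mul_one] at h6
    exact_mod_cast h6
  have hq : ∀ i j, ((N i j / p ^ e : ℕ) : ℂ) = (N i j : ℂ) / (p : ℂ) ^ e := by
    intro i j
    obtain ⟨q, hq⟩ := hdvd i j
    rw [hq, Nat.mul_div_cancel_left _ (pow_pos hp.pos e)]
    push_cast
    rw [mul_div_cancel_left₀ _ hpe]
  -- the residue field
  haveI hchar : CharP (ResF M) p :=
    (CharP.charP_iff_prime_eq_zero hp).mpr (natCast_resF_eq_zero hM)
  have hnat : ∀ n : ℕ, ¬ p ∣ n → ((n : ℕ) : ResF M) ≠ 0 := by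
    intro n hn h0
    exact hn ((CharP.cast_eq_zero_iff (ResF M) p n).mp h0)
  have haR : ∀ (B : {B : Set (IrrCharacter G) // IsPBlock M B ∧ IsDefectGroup p M B D}) (t : G),
      MemLocalRing M (blockCoeff B.1 t) := by
    intro B t
    rw [hrep B]
    exact memLocalRing_blockCoeff_blockOf (rep B) t
  let Pm : Matrix {B : Set (IrrCharacter G) // IsPBlock M B ∧ IsDefectGroup p M B D} ι (ResF M) :=
    Matrix.of fun B j => resMk M ⟨centralChar (rep B : G → ℂ) (x j), hωR B (x j)⟩
  let Am : Matrix {B : Set (IrrCharacter G) // IsPBlock M B ∧ IsDefectGroup p M B D} ι (ResF M) :=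
    Matrix.of fun B j => resMk M ⟨blockCoeff B.1 (x j), haR B (x j)⟩
  let WF : Matrix ι ι (ResF M) := Matrix.of fun i j => ((N i j / p ^ e : ℕ) : ResF M)
  have hW : ∀ i j, (((S : Subgroup G).index : ℕ) : ResF M) * WF i j =
      ∑ B, Pm B (σ i) * ((mB B : ℕ) : ResF M) * Pm B j := by
    intro i j
    let elt : Helper23.localSubring M :=
      (((S : Subgroup G).index : ℕ) : Helper23.localSubring M) *
        ((N i j / p ^ e : ℕ) : Helper23.localSubring M) -
      ∑ B : {B : Set (IrrCharacter G) // IsPBlock M B ∧ IsDefectGroup p M B D},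
        (⟨centralChar (rep B : G → ℂ) (x (σ i)), hωR B (x (σ i))⟩ : Helper23.localSubring M) *
          ((mB B : ℕ) : Helper23.localSubring M) *
          ⟨centralChar (rep B : G → ℂ) (x j), hωR B (x j)⟩
    have h1 : resMk M elt = 0 := by
      rw [resMk_eq_zero_iff]
      have h2 : (elt : ℂ) = (((S : Subgroup G).index : ℕ) : ℂ) * (N i j : ℂ) / (p : ℂ) ^ e -
          ∑ B : {B : Set (IrrCharacter G) // IsPBlock M B ∧ IsDefectGroup p M B D},
            centralChar (rep B : G → ℂ) (x j) * centralChar (rep B : G → ℂ) (x (σ i)) *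
              (mB B : ℂ) := by
        simp only [elt]
        push_cast
        rw [hq i j, mul_div_assoc]
        congr 1
        apply Finset.sum_congr rfl
        intro B _
        ring
      rw [h2]
      exact hcong i j
    simp only [elt] at h1
    rw [map_sub, map_mul, map_natCast, map_natCast, map_sum, sub_eq_zero] at h1
    have h3 : WF i j = ((N i j / p ^ e : ℕ) : ResF M) := rfl
    rw [h3, h1]
    apply Finset.sum_congr rfl
    intro B _
    rw [map_mul, map_mul, map_natCast]
    rfl
  have hAP : Am * Pm.transpose = 1 := by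
    ext B B'
    rw [Matrix.mul_apply, Matrix.one_apply]
    have h1 := sum_blockCoeff_mul_centralChar_mod hM D K hKinj hK x hxK (rep B) (rep B')
      (by rw [← hrep B]; exact B.2.2) (by rw [← hrep B']; exact B'.2.2)
    have h2 : (rep B' ∈ blockOf M (rep B : G → ℂ)) ↔ B = B' := by
      constructor
      · intro h
        apply Subtype.ext
        rw [← hrep B] at h
        have h3 : rep B' ∈ B'.1 := by
          rw [hrep B']
          exact mem_blockOf_self _
        exact isPBlock_eq_of_mem B.2.1 B'.2.1 h h3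
      · rintro rfl
        exact mem_blockOf_self _
    let elt : Helper23.localSubring M :=
      ∑ i : ι, (⟨blockCoeff B.1 (x i), haR B (x i)⟩ : Helper23.localSubring M) *
        ⟨centralChar (rep B' : G → ℂ) (x i), hωR B' (x i)⟩
    have h3 : resMk M elt = if B = B' then 1 else 0 := by
      have h4 : (if B = B' then (1 : ResF M) else 0) =
          resMk M (if B = B' then 1 else 0) := by
        split_ifs <;> simp
      rw [h4, resMk_eq_iff]
      have h5 : (elt : ℂ) - ((if B = B' then (1 : Helper23.localSubring M) else 0 :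
          Helper23.localSubring M) : ℂ) =
          (∑ i, blockCoeff (blockOf M (rep B : G → ℂ)) (x i) *
            centralChar (rep B' : G → ℂ) (x i)) -
              if rep B' ∈ blockOf M (rep B : G → ℂ) then 1 else 0 := by
        simp only [elt]
        push_cast
        congr 1
        · apply Finset.sum_congr rfl
          intro i _
          rw [← hrep B]
        · by_cases hBB : B = B'
          · rw [if_pos hBB, if_pos (h2.mpr hBB)]
            rfl
          · rw [if_neg hBB, if_neg (fun h => hBB (h2.mp h))]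
            rfl
      rw [h5]
      exact h1
    rw [← h3]
    simp only [elt]
    rw [map_sum]
    apply Finset.sum_congr rfl
    intro i _
    rw [map_mul]
    rfl
  have hrank := rank_eq_card_of_factor Pm Am σ (fun B => ((mB B : ℕ) : ResF M))
    (fun B => hnat _ (hmB2 B)) (((S : Subgroup G).index : ℕ) : ResF M) (hnat _ hup) WF hW hAP
  rw [Nat.card_eq_fintype_card, ← hrank]
  have hmap : WF = (Matrix.of fun i j : ι => ((N i j / p ^ e : ℕ) : ZMod p)).map
      (ZMod.castHom (dvd_refl p) (ResF M)) := by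
    ext i j
    simp only [WF, Matrix.map_apply, Matrix.of_apply]
    rw [map_natCast]
  rw [hmap, rank_map_field]

end

end Cfsg.Agent.Lib.Helper6.SepClasses
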