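/-
helper6: two-generation of Sp_2m(q), part D.
The case `q = 2`, `m ≥ 3`: generators `a = cox`, `b = T_{e_0}(1) * ω`, with
`ω = T_{e_1+e_2}(1) T_{f_1}(1)` of order 3.
-/
import Mathlib
import Cfsg.Agent.Lib.Helper6.SpGenB

set_option autoImplicit false

namespace Cfsg.Agent.Lib.Helper6.SpGen

open Matrix Cfsg.Agent.Lib.Helper5 Cfsg.Agent.Lib.Helper14.SpPerfect
open Cfsg.Agent.Lib.Helper14

variable {F : Type*} [Field F] {m : ℕ}

/-- in characteristic two the product of the transvections along a hyperbolic pair has order 3 -/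
theorem pow_three_of_hyperbolic (h2 : (2 : F) = 0) (u w : Fin m ⊕ Fin m → F)
    (hwu : Cfsg.sympForm m F w u = 1) : (Tr u (1 : F) * Tr w 1) ^ 3 = 1 := by
  have huw : Cfsg.sympForm m F u w = -1 := by rw [sympForm_swap, hwu]
  apply ap_ext
  intro x
  rw [ap_one]
  have key : ∀ a b : F, ap (Tr u (1 : F) * Tr w 1) (x + a • w + b • u) =
      x + (a + Cfsg.sympForm m F x w - b) • w
        + (Cfsg.sympForm m F x u + Cfsg.sympForm m F x w + a) • u := by
    intro a b
    rw [ap_mul, ap_Tr, ap_Tr]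
    simp only [sympForm_add_left, sympForm_smul_left, sympForm_self, huw, hwu]
    module
  have hfin : ∀ a b : F, a = 0 → b = 0 → x + a • w + b • u = x := by
    intro a b ha hb
    rw [ha, hb, zero_smul, zero_smul, add_zero, add_zero]
  have hx : x = x + (0 : F) • w + (0 : F) • u := by rw [zero_smul, zero_smul, add_zero, add_zero]
  rw [pow_succ, pow_two, ap_mul, ap_mul]
  conv_lhs => rw [hx]
  rw [key, key, key]
  apply hfin
  · linear_combination (-Cfsg.sympForm m F x u) * h2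
  · linear_combination (Cfsg.sympForm m F x w) * h2

section gens

/-- the element of order three -/
def wEl (F : Type*) [Field F] {m : ℕ} (hm : 3 ≤ m) : Matrix.symplecticGroup (Fin m) F :=
  Tr (eV ⟨1, by omega⟩ + eV ⟨2, by omega⟩) 1 * Tr (fV ⟨1, by omega⟩) 1

/-- the second generator -/
def bEl2 (F : Type*) [Field F] {m : ℕ} (hm : 3 ≤ m) : Matrix.symplecticGroup (Fin m) F :=
  Tr (eV ⟨0, by omega⟩) 1 * wEl F hm

theorem wEl_pow (hm : 3 ≤ m) (h2 : (2 : F) = 0) : (wEl F hm) ^ 3 = 1 := by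
  unfold wEl
  apply pow_three_of_hyperbolic h2
  rw [sympForm_add_right, form_fV_eV, form_fV_eV, if_pos rfl, if_neg, add_zero]
  intro h; have := congrArg Fin.val h; simp at this

theorem wEl_eV0 (hm : 3 ≤ m) : ap (wEl F hm) (eV ⟨0, by omega⟩) = (eV ⟨0, by omega⟩ : Fin m ⊕ Fin m → F) := by
  have e1 : ap (Tr (fV ⟨1, by omega⟩ : Fin m ⊕ Fin m → F) 1) (eV ⟨0, by omega⟩) =
      (eV ⟨0, by omega⟩ : Fin m ⊕ Fin m → F) := by
    rw [ap_Tr, form_eV_fV, if_neg, neg_zero, mul_zero, zero_smul, add_zero]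
    intro h; have := congrArg Fin.val h; simp at this
  unfold wEl
  rw [ap_mul, e1, ap_Tr,
    sympForm_add_right, form_eV_eV, form_eV_eV, add_zero, mul_zero, zero_smul, add_zero]

theorem wEl_eV1 (hm : 3 ≤ m) : ap (wEl F hm) (eV ⟨1, by omega⟩) =
    (- fV ⟨1, by omega⟩ - eV ⟨2, by omega⟩ : Fin m ⊕ Fin m → F) := by
  have h12 : (⟨2, by omega⟩ : Fin m) ≠ ⟨1, by omega⟩ := by
    intro h; have := congrArg Fin.val h; simp at this
  have e1 : ap (Tr (fV ⟨1, by omega⟩ : Fin m ⊕ Fin m → F) 1) (eV ⟨1, by omega⟩) =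
      (eV ⟨1, by omega⟩ - fV ⟨1, by omega⟩ : Fin m ⊕ Fin m → F) := by
    rw [ap_Tr, form_eV_fV, if_pos rfl]
    module
  unfold wEl
  rw [ap_mul, e1, ap_Tr]
  simp only [sympForm_sub_left, sympForm_add_right, form_eV_eV, form_fV_eV,
    if_true, if_neg h12]
  module

theorem wEl_commute (hm : 3 ≤ m) :
    Commute (Tr (eV ⟨0, by omega⟩ : Fin m ⊕ Fin m → F) 1) (wEl F hm) := by
  have h := conj_Tr' (wEl F hm) (eV ⟨0, by omega⟩ : Fin m ⊕ Fin m → F) 1
  rw [wEl_eV0] at h
  have : wEl F hm * Tr (eV ⟨0, by omega⟩ : Fin m ⊕ Fin m → F) 1 =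
      Tr (eV ⟨0, by omega⟩ : Fin m ⊕ Fin m → F) 1 * wEl F hm := by
    calc wEl F hm * Tr (eV ⟨0, by omega⟩ : Fin m ⊕ Fin m → F) 1
        = wEl F hm * Tr (eV ⟨0, by omega⟩ : Fin m ⊕ Fin m → F) 1 * (wEl F hm)⁻¹ * wEl F hm := by
          group
      _ = Tr (eV ⟨0, by omega⟩ : Fin m ⊕ Fin m → F) 1 * wEl F hm := by rw [h]
  exact this.symm

theorem bEl2_pow (hm : 3 ≤ m) (h2 : (2 : F) = 0) :
    (bEl2 F hm) ^ 3 = Tr (eV ⟨0, by omega⟩ : Fin m ⊕ Fin m → F) 1 := by
  unfold bEl2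
  rw [(wEl_commute hm).mul_pow, wEl_pow hm h2, mul_one, Tr_one_pow]
  congr 1
  push_cast
  linear_combination h2

/-- the closure of `{cox, bEl2}` is everything over the field with two elements -/
theorem closure_eq_top_of_two [Fintype F] (hm : 3 ≤ m) (hF : Fintype.card F = 2) :
    Subgroup.closure ({cox F (by omega : 0 < m), bEl2 F hm} :
      Set (Matrix.symplecticGroup (Fin m) F)) = ⊤ := by
  have h2 : (2 : F) = 0 := by
    have := FiniteField.cast_card_eq_zero F
    rw [hF] at this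
    exact_mod_cast this
  have h01 : ∀ s : F, s = 0 ∨ s = 1 := by
    intro s
    have h := FiniteField.pow_card s
    rw [hF] at h
    have : s * (s - 1) = 0 := by linear_combination h
    rcases mul_eq_zero.mp this with h | h
    · left; exact h
    · right; exact sub_eq_zero.mp h
  set M := Subgroup.closure ({cox F (by omega : 0 < m), bEl2 F hm} :
      Set (Matrix.symplecticGroup (Fin m) F)) with hM
  have hc : cox F (by omega : 0 < m) ∈ M := Subgroup.subset_closure (by simp)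
  have hb : bEl2 F hm ∈ M := Subgroup.subset_closure (by simp)
  have ht : Tr (eV ⟨0, by omega⟩ : Fin m ⊕ Fin m → F) 1 ∈ M := by
    have := M.pow_mem hb 3
    rwa [bEl2_pow hm h2] at this
  have hg : wEl F hm ∈ M := by
    have : wEl F hm = (Tr (eV ⟨0, by omega⟩ : Fin m ⊕ Fin m → F) 1)⁻¹ * bEl2 F hm := by
      unfold bEl2; group
    rw [this]
    exact M.mul_mem (M.inv_mem ht) hb
  have hi0 : (eV ⟨0, by omega⟩ : Fin m ⊕ Fin m → F) ∈ Rt M := by
    intro s
    rcases h01 s with h | h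
    · rw [h, Tr_zero]; exact M.one_mem
    · rw [h]; exact ht
  have hL : Long M := long_of_cox (by omega) hc ⟨0, by omega⟩ hi0
  have hw : ap (wEl F hm) (eV ⟨1, by omega⟩) ∈ Rt M := Rt_ap hg (hL ⟨1, by omega⟩).1
  have h12 : (⟨1, by omega⟩ : Fin m) ≠ ⟨2, by omega⟩ := by
    intro h; have := congrArg Fin.val h; simp at this
  refine eq_top_of_cox (by omega) hc ⟨0, by omega⟩ hi0 ⟨1, by omega⟩ ⟨2, by omega⟩ rfl
    (ap (wEl F hm) (eV ⟨1, by omega⟩)) hw ?_ ?_ ?_
  · right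
    rw [wEl_eV1]
    simp
  · left
    rw [wEl_eV1]
    simp
  · intro l hl1 hl2
    rw [wEl_eV1]
    simp [hl1, hl2]

end gens

end Cfsg.Agent.Lib.Helper6.SpGen
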