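/-
helper6: generation criteria for Sp_2m(F), part F: the "spanning connected set of root groups" endgame,
valid in EVERY characteristic as soon as `F` has at least three elements.

`Rt M` = vectors `w` whose whole transvection group `{Tr w s}` lies in `M`.
If `Rt M` contains a family `w 0, …, w (N-1)` which spans `F^{2m}` and is connected for the relation
`f(x,y) ≠ 0` (each `w i`, `i > 0`, is non-perpendicular to an earlier one), then `M = ⊤`.
(Over the field with two elements this is false: orthogonal and symmetric groups.)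
-/
import Mathlib
import Cfsg.Agent.Lib.Helper6.SpGenE

set_option autoImplicit false

namespace Cfsg.Agent.Lib.Helper6.SpGen

open Matrix Cfsg.Agent.Lib.Helper5 Cfsg.Agent.Lib.Helper14.SpPerfect
open Cfsg.Agent.Lib.Helper14

variable {F : Type*} [Field F] {m : ℕ}
variable {M : Subgroup (Matrix.symplecticGroup (Fin m) F)}

/-- two perpendicular root vectors with a common neighbour `c`: all combinations off the line `c^⊥` -/
theorem Rt_comb_of_nbr {a b c : Fin m ⊕ Fin m → F} (ha : a ∈ Rt M) (hb : b ∈ Rt M) (hc : c ∈ Rt M)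
    (hab : Cfsg.sympForm m F a b = 0)
    (hα : Cfsg.sympForm m F a c ≠ 0) (hβ : Cfsg.sympForm m F b c ≠ 0) (x y : F)
    (hxy : x * Cfsg.sympForm m F a c + y * Cfsg.sympForm m F b c ≠ 0) :
    x • a + y • b ∈ Rt M := by
  have hca : Cfsg.sympForm m F c a ≠ 0 := by
    rw [sympForm_swap]; exact neg_ne_zero.mpr hα
  have h1 : c + x • a ∈ Rt M := Rt_add_smul hc ha hca x
  have hc1b : Cfsg.sympForm m F (c + x • a) b ≠ 0 := by
    rw [sympForm_add_left, sympForm_smul_left, hab, mul_zero, add_zero, sympForm_swap]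
    exact neg_ne_zero.mpr hβ
  have h2 : c + x • a + y • b ∈ Rt M := Rt_add_smul h1 hb hc1b y
  have hc2c : Cfsg.sympForm m F (c + x • a + y • b) c ≠ 0 := by
    rw [sympForm_add_left, sympForm_add_left, sympForm_smul_left, sympForm_smul_left, sympForm_self,
      zero_add]
    exact hxy
  have h3 := Rt_add_smul h2 hc hc2c (-1)
  have : c + x • a + y • b + (-1 : F) • c = x • a + y • b := by
    rw [neg_smul, one_smul]; abel
  rwa [this] at h3

/-- auxiliary case: the witness `d` is a neighbour of `c` and perpendicular to `a` -/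
theorem Rt_add_of_nbr_aux (h3 : ∃ l : F, l ≠ 0 ∧ l ≠ 1) {a b c d : Fin m ⊕ Fin m → F}
    (ha : a ∈ Rt M) (hb : b ∈ Rt M) (hc : c ∈ Rt M) (hd : d ∈ Rt M)
    (hab : Cfsg.sympForm m F a b = 0)
    (hα : Cfsg.sympForm m F a c ≠ 0) (hβ : Cfsg.sympForm m F b c ≠ 0)
    (hαβ : Cfsg.sympForm m F a c + Cfsg.sympForm m F b c = 0)
    (hcd : Cfsg.sympForm m F c d ≠ 0)
    (had : Cfsg.sympForm m F a d = 0) (hbd : Cfsg.sympForm m F b d ≠ 0) : a + b ∈ Rt M := by
  obtain ⟨l, hl0, hl1⟩ := h3
  have hdc : Cfsg.sympForm m F d c ≠ 0 := by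
    rw [sympForm_swap]; exact neg_ne_zero.mpr hcd
  -- choose the parameter `t`
  obtain ⟨t, ht0, htb⟩ : ∃ t : F, t ≠ 0 ∧
      Cfsg.sympForm m F b d + t * Cfsg.sympForm m F b c ≠ 0 := by
    by_cases h1 : Cfsg.sympForm m F b d + 1 * Cfsg.sympForm m F b c ≠ 0
    · exact ⟨1, one_ne_zero, h1⟩
    · push Not at h1
      refine ⟨l, hl0, ?_⟩
      have : Cfsg.sympForm m F b d + l * Cfsg.sympForm m F b c
          = (l - 1) * Cfsg.sympForm m F b c := by linear_combination h1
      rw [this]
      exact mul_ne_zero (sub_ne_zero.mpr hl1) hβ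
  have hd' : d + t • c ∈ Rt M := Rt_add_smul hd hc hdc t
  have e1 : Cfsg.sympForm m F a (d + t • c) = t * Cfsg.sympForm m F a c := by
    rw [sympForm_add_right, sympForm_smul_right, had, zero_add]
  have e2 : Cfsg.sympForm m F b (d + t • c)
      = Cfsg.sympForm m F b d + t * Cfsg.sympForm m F b c := by
    rw [sympForm_add_right, sympForm_smul_right]
  have h := Rt_comb_of_nbr ha hb hd' hab (by rw [e1]; exact mul_ne_zero ht0 hα)
    (by rw [e2]; exact htb) 1 1 (by
      rw [e1, e2]
      have : (1 : F) * (t * Cfsg.sympForm m F a c)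
          + 1 * (Cfsg.sympForm m F b d + t * Cfsg.sympForm m F b c)
          = Cfsg.sympForm m F b d := by linear_combination t * hαβ
      rw [this]; exact hbd)
  rwa [one_smul, one_smul] at h

/-- half of the sum lemma: the witness `d` is perpendicular to `a` -/
theorem Rt_add_of_nbr_half (h3 : ∃ l : F, l ≠ 0 ∧ l ≠ 1) {a b c d : Fin m ⊕ Fin m → F}
    (ha : a ∈ Rt M) (hb : b ∈ Rt M) (hc : c ∈ Rt M) (hd : d ∈ Rt M)
    (hab : Cfsg.sympForm m F a b = 0)
    (hα : Cfsg.sympForm m F a c ≠ 0) (hβ : Cfsg.sympForm m F b c ≠ 0)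
    (hαβ : Cfsg.sympForm m F a c + Cfsg.sympForm m F b c = 0)
    (had : Cfsg.sympForm m F a d = 0) (hbd : Cfsg.sympForm m F b d ≠ 0) : a + b ∈ Rt M := by
  by_cases hcd : Cfsg.sympForm m F c d ≠ 0
  · exact Rt_add_of_nbr_aux h3 ha hb hc hd hab hα hβ hαβ hcd had hbd
  · push Not at hcd
    obtain ⟨l, hl0, hl1⟩ := h3
    have hba : Cfsg.sympForm m F b a = 0 := by rw [sympForm_swap, hab, neg_zero]
    have hne : 1 * Cfsg.sympForm m F a c + l * Cfsg.sympForm m F b c ≠ 0 := by
      have : 1 * Cfsg.sympForm m F a c + l * Cfsg.sympForm m F b c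
          = (l - 1) * Cfsg.sympForm m F b c := by linear_combination hαβ
      rw [this]
      exact mul_ne_zero (sub_ne_zero.mpr hl1) hβ
    have hw : (1 : F) • a + l • b ∈ Rt M := Rt_comb_of_nbr ha hb hc hab hα hβ 1 l hne
    have hcw : Cfsg.sympForm m F c ((1 : F) • a + l • b) ≠ 0 := by
      rw [sympForm_swap, sympForm_add_left, sympForm_smul_left, sympForm_smul_left]
      exact neg_ne_zero.mpr hne
    have hc' : c + (1 : F) • ((1 : F) • a + l • b) ∈ Rt M := Rt_add_smul hc hw hcw 1
    rw [one_smul, one_smul] at hc'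
    have e1 : Cfsg.sympForm m F a (c + (a + l • b)) = Cfsg.sympForm m F a c := by
      rw [sympForm_add_right, sympForm_add_right, sympForm_smul_right, sympForm_self, hab]
      ring
    have e2 : Cfsg.sympForm m F b (c + (a + l • b)) = Cfsg.sympForm m F b c := by
      rw [sympForm_add_right, sympForm_add_right, sympForm_smul_right, sympForm_self, hba]
      ring
    have e3 : Cfsg.sympForm m F (c + (a + l • b)) d = l * Cfsg.sympForm m F b d := by
      rw [sympForm_add_left, sympForm_add_left, sympForm_smul_left, hcd, had]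
      ring
    exact Rt_add_of_nbr_aux ⟨l, hl0, hl1⟩ ha hb hc' hd hab (by rw [e1]; exact hα)
      (by rw [e2]; exact hβ) (by rw [e1, e2]; exact hαβ) (by rw [e3]; exact mul_ne_zero hl0 hbd)
      had hbd

/-- two perpendicular root vectors with a common neighbour: the sum is a root vector, provided some
root vector is not perpendicular to the sum -/
theorem Rt_add_of_nbr (h3 : ∃ l : F, l ≠ 0 ∧ l ≠ 1) {a b c d : Fin m ⊕ Fin m → F}
    (ha : a ∈ Rt M) (hb : b ∈ Rt M) (hc : c ∈ Rt M) (hd : d ∈ Rt M)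
    (hab : Cfsg.sympForm m F a b = 0)
    (hα : Cfsg.sympForm m F a c ≠ 0) (hβ : Cfsg.sympForm m F b c ≠ 0)
    (hsd : Cfsg.sympForm m F (a + b) d ≠ 0) : a + b ∈ Rt M := by
  by_cases hαβ : Cfsg.sympForm m F a c + Cfsg.sympForm m F b c ≠ 0
  · have h := Rt_comb_of_nbr ha hb hc hab hα hβ 1 1 (by rw [one_mul, one_mul]; exact hαβ)
    rwa [one_smul, one_smul] at h
  · push Not at hαβ
    rw [sympForm_add_left] at hsd
    by_cases had : Cfsg.sympForm m F a d = 0
    · rw [had, zero_add] at hsd
      exact Rt_add_of_nbr_half h3 ha hb hc hd hab hα hβ hαβ had hsd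
    · by_cases hbd : Cfsg.sympForm m F b d = 0
      · have hba : Cfsg.sympForm m F b a = 0 := by rw [sympForm_swap, hab, neg_zero]
        have h := Rt_add_of_nbr_half h3 hb ha hc hd hba hβ hα (by rw [add_comm]; exact hαβ) hbd had
        rwa [add_comm] at h
      · have h := Rt_comb_of_nbr ha hb hd hab had hbd 1 1 (by rw [one_mul, one_mul]; exact hsd)
        rwa [one_smul, one_smul] at h

/-! ### distance at most two -/

/-- `x` and `y` are equal, adjacent, or have a common neighbour in `Rt M` -/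
def Near (M : Subgroup (Matrix.symplecticGroup (Fin m) F)) (x y : Fin m ⊕ Fin m → F) : Prop :=
  x = y ∨ Cfsg.sympForm m F x y ≠ 0 ∨
    ∃ c ∈ Rt M, Cfsg.sympForm m F x c ≠ 0 ∧ Cfsg.sympForm m F y c ≠ 0

theorem Near.symm {x y : Fin m ⊕ Fin m → F} (h : Near M x y) : Near M y x := by
  rcases h with h | h | ⟨c, hc, h1, h2⟩
  · exact Or.inl h.symm
  · right; left
    rw [sympForm_swap]; exact neg_ne_zero.mpr h
  · exact Or.inr (Or.inr ⟨c, hc, h2, h1⟩)

/-- one more step along an edge -/
theorem Near.step {a b b' : Fin m ⊕ Fin m → F} (h : Near M a b) (hb : b ∈ Rt M)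
    (hbb' : Cfsg.sympForm m F b b' ≠ 0) : Near M a b' := by
  have hb'b : Cfsg.sympForm m F b' b ≠ 0 := by
    rw [sympForm_swap]; exact neg_ne_zero.mpr hbb'
  rcases h with h | h | ⟨c, hc, h1, h2⟩
  · right; left; rw [h]; exact hbb'
  · exact Or.inr (Or.inr ⟨b, hb, h, hb'b⟩)
  · by_cases hab' : Cfsg.sympForm m F a b' ≠ 0
    · exact Or.inr (Or.inl hab')
    · push Not at hab'
      by_cases hb'c : Cfsg.sympForm m F b' c ≠ 0
      · exact Or.inr (Or.inr ⟨c, hc, h1, hb'c⟩)
      · push Not at hb'c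
        by_cases hab : Cfsg.sympForm m F a b ≠ 0
        · exact Or.inr (Or.inr ⟨b, hb, hab, hb'b⟩)
        · push Not at hab
          have hcb : Cfsg.sympForm m F c b ≠ 0 := by
            rw [sympForm_swap]; exact neg_ne_zero.mpr h2
          have hc' : c + (1 : F) • b ∈ Rt M := Rt_add_smul hc hb hcb 1
          refine Or.inr (Or.inr ⟨c + (1 : F) • b, hc', ?_, ?_⟩)
          · rw [sympForm_add_right, sympForm_smul_right, hab, mul_zero, add_zero]; exact h1
          · rw [sympForm_add_right, sympForm_smul_right, hb'c, zero_add, one_mul]; exact hb'b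

theorem Near.trans {a b c : Fin m ⊕ Fin m → F} (h1 : Near M a b) (h2 : Near M b c)
    (hb : b ∈ Rt M) : Near M a c := by
  rcases h2 with h | h | ⟨d, hd, e1, e2⟩
  · rw [← h]; exact h1
  · exact h1.step hb h
  · have hdc : Cfsg.sympForm m F d c ≠ 0 := by
      rw [sympForm_swap]; exact neg_ne_zero.mpr e2
    exact (h1.step hb e1).step hd hdc

/-! ### the main criterion -/

section main

variable {N : ℕ} (w : Fin N → (Fin m ⊕ Fin m → F))

/-- a nonzero vector is not perpendicular to a spanning family -/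
theorem exists_form_ne_zero_of_span (hspan : Submodule.span F (Set.range w) = ⊤)
    (x : Fin m ⊕ Fin m → F) (hx : x ≠ 0) : ∃ i, Cfsg.sympForm m F x (w i) ≠ 0 := by
  by_contra hcon
  push Not at hcon
  have hall : ∀ y ∈ Submodule.span F (Set.range w), Cfsg.sympForm m F x y = 0 := by
    intro y hmem
    induction hmem using Submodule.span_induction with
    | mem z hz =>
      obtain ⟨i, rfl⟩ := hz
      exact hcon i
    | zero => exact sympForm_zero_right x
    | add y z _ _ ihy ihz => rw [sympForm_add_right, ihy, ihz, add_zero]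
    | smul a y _ ihy => rw [sympForm_smul_right, ihy, mul_zero]
  obtain ⟨y, hy⟩ := sympForm_nondeg x hx
  exact hy (hall y (by rw [hspan]; trivial))

/-- all members of a tree-ordered connected family are near each other -/
theorem near_family (hw : ∀ i, w i ∈ Rt M)
    (hconn : ∀ i : Fin N, 0 < i.val → ∃ j : Fin N, j.val < i.val ∧
      Cfsg.sympForm m F (w j) (w i) ≠ 0) (i0 : Fin N) (hi0 : i0.val = 0) :
    ∀ i : Fin N, Near M (w i0) (w i) := by
  have key : ∀ n : ℕ, ∀ i : Fin N, i.val = n → Near M (w i0) (w i) := by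
    intro n
    induction n using Nat.strong_induction_on with
    | _ n ih =>
      intro i hi
      by_cases h0 : i.val = 0
      · have : i = i0 := Fin.ext (by rw [h0, hi0])
        rw [this]; exact Or.inl rfl
      · obtain ⟨j, hj, hadj⟩ := hconn i (by omega)
        exact (ih j.val (by omega) j rfl).step (hw j) hadj
  intro i
  exact key i.val i rfl

/-- **Spanning connected root groups generate `Sp_2m(F)`, `|F| ≥ 3`, any characteristic.** -/
theorem eq_top_of_spanning_connected (h3 : ∃ l : F, l ≠ 0 ∧ l ≠ 1)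
    (hw : ∀ i, w i ∈ Rt M) (hspan : Submodule.span F (Set.range w) = ⊤)
    (hconn : ∀ i : Fin N, 0 < i.val → ∃ j : Fin N, j.val < i.val ∧
      Cfsg.sympForm m F (w j) (w i) ≠ 0) : M = ⊤ := by
  -- every nonzero root vector has a neighbour in the family
  have hnb : ∀ x : Fin m ⊕ Fin m → F, x ≠ 0 → ∃ i, Cfsg.sympForm m F x (w i) ≠ 0 :=
    exists_form_ne_zero_of_span w hspan
  -- any two nonzero root vectors are near
  have hnear : ∀ a b : Fin m ⊕ Fin m → F, a ∈ Rt M → b ∈ Rt M → a ≠ 0 → b ≠ 0 → Near M a b := by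
    intro a b ha hb ha0 hb0
    obtain ⟨i, hi⟩ := hnb a ha0
    obtain ⟨j, hj⟩ := hnb b hb0
    have hN : 0 < N := Nat.lt_of_le_of_lt (Nat.zero_le _) i.2
    have n1 := near_family w hw hconn ⟨0, hN⟩ rfl i
    have n2 := near_family w hw hconn ⟨0, hN⟩ rfl j
    have n3 : Near M (w i) (w j) := (n1.symm).trans n2 (hw _)
    have n4 : Near M a (w i) := Or.inr (Or.inl hi)
    have n5 : Near M (w j) b := Near.symm (Or.inr (Or.inl hj))
    exact (n4.trans n3 (hw i)).trans n5 (hw j)
  -- closure under addition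
  have hadd : ∀ a b : Fin m ⊕ Fin m → F, a ∈ Rt M → b ∈ Rt M → a + b ∈ Rt M := by
    intro a b ha hb
    by_cases ha0 : a = 0
    · rw [ha0, zero_add]; exact hb
    by_cases hb0 : b = 0
    · rw [hb0, add_zero]; exact ha
    by_cases hs0 : a + b = 0
    · rw [hs0]; exact Rt_zero
    rcases hnear a b ha hb ha0 hb0 with h | h | ⟨c, hc, h1, h2⟩
    · rw [← h]
      have : a + a = (2 : F) • a := by rw [two_smul]
      rw [this]; exact Rt_smul 2 ha
    · have := Rt_add_smul ha hb h 1
      rwa [one_smul] at this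
    · by_cases hab : Cfsg.sympForm m F a b ≠ 0
      · have := Rt_add_smul ha hb hab 1
        rwa [one_smul] at this
      · push Not at hab
        obtain ⟨i, hi⟩ := hnb (a + b) hs0
        exact Rt_add_of_nbr h3 ha hb hc (hw i) hab h1 h2 hi
  -- `Rt M` is a subspace containing the family
  let S : Submodule F (Fin m ⊕ Fin m → F) :=
    { carrier := Rt M
      add_mem' := fun {a b} ha hb => hadd a b ha hb
      zero_mem' := Rt_zero
      smul_mem' := fun c {x} hx => Rt_smul c hx }
  have hS : S = ⊤ := by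
    rw [eq_top_iff, ← hspan, Submodule.span_le]
    rintro x ⟨i, rfl⟩
    exact hw i
  have hall : ∀ (v : Fin m ⊕ Fin m → F) (s : F), Tr v s ∈ M := by
    intro v s
    have : v ∈ S := by rw [hS]; trivial
    exact this s
  rw [eq_top_iff, ← transvGroup_eq_top]
  unfold transvGroup
  rw [Subgroup.closure_le]
  rintro A ⟨v, c, hA⟩
  have : A = Tr v c := Subtype.ext hA
  rw [this]
  exact hall v c

/-- the same for the orbit of one root vector under listed elements of `M` -/
theorem eq_top_of_root_orbit (h3 : ∃ l : F, l ≠ 0 ∧ l ≠ 1) {v : Fin m ⊕ Fin m → F}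
    (hv : v ∈ Rt M) (g : Fin N → Matrix.symplecticGroup (Fin m) F) (hg : ∀ i, g i ∈ M)
    (hspan : Submodule.span F (Set.range fun i => ap (g i) v) = ⊤)
    (hconn : ∀ i : Fin N, 0 < i.val → ∃ j : Fin N, j.val < i.val ∧
      Cfsg.sympForm m F (ap (g j) v) (ap (g i) v) ≠ 0) : M = ⊤ :=
  eq_top_of_spanning_connected (fun i => ap (g i) v) h3 (fun i => Rt_ap (hg i) hv) hspan hconn

/-- the same for a cyclic vector of one element `u ∈ M` -/
theorem eq_top_of_cyclic_root (h3 : ∃ l : F, l ≠ 0 ∧ l ≠ 1) {v : Fin m ⊕ Fin m → F}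
    (hv : v ∈ Rt M) (u : Matrix.symplecticGroup (Fin m) F) (hu : u ∈ M)
    (hspan : Submodule.span F (Set.range fun i : Fin N => ap (u ^ i.val) v) = ⊤)
    (hadj : Cfsg.sympForm m F v (ap u v) ≠ 0) : M = ⊤ := by
  refine eq_top_of_root_orbit h3 hv (fun i : Fin N => u ^ i.val) (fun i => M.pow_mem hu _) hspan ?_
  intro i hi
  have hlt : i.val - 1 < N := by have := i.2; omega
  refine ⟨⟨i.val - 1, hlt⟩, by simp only; omega, ?_⟩
  have e : u ^ i.val = u ^ (i.val - 1) * u := by
    rw [← pow_succ]; congr 1; omega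
  simp only
  rw [e, ap_mul, sympForm_ap]
  exact hadj

/-- a field with at least three elements has an element different from `0` and `1` -/
theorem exists_ne_zero_ne_one_of_card [Fintype F] (h : 3 ≤ Fintype.card F) :
    ∃ l : F, l ≠ 0 ∧ l ≠ 1 := by
  classical
  by_contra hcon
  push Not at hcon
  have hsub : (Finset.univ : Finset F) ⊆ {0, 1} := by
    intro x _
    by_cases hx : x = 0
    · rw [hx]; simp
    · rw [hcon x hx]; simp
  have := Finset.card_le_card hsub
  rw [Finset.card_univ] at this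
  have h2 : ({0, 1} : Finset F).card ≤ 2 := Finset.card_le_two
  omega

end main

end Cfsg.Agent.Lib.Helper6.SpGen
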