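import Mathlib
import Cfsg.Prelude.Def_GeometricClasses
import Cfsg.Agent.S5645
import Cfsg.Agent.S5646
import Cfsg.Agent.S5647
import Cfsg.Agent.S5652

/-!
SpLow market (helper14), leaf SPL-Q `quad_max` = S5652 with `5 ≤ m` (helper6): the body of `S5652aux.main` re-run verbatim
with the weaker bound (only `4 ≤ m` is used, through `rep` / `all_mem`).
-/

set_option autoImplicit false
set_option linter.unusedSectionVars false
set_option linter.unusedVariables false
set_option linter.unusedSimpArgs false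

namespace Cfsg.Agent.Lib.Helper6.SpLowLeaf

section MainQ
open Cfsg Matrix Cfsg.Agent.Lib.Helper5 Cfsg.Agent.Lib.Helper5.SpMax
open Cfsg.Agent.S5652.S5652aux

theorem quad_main {F : Type*} [Field F] [Fintype F] (m : ℕ) (hm : 5 ≤ m)
    (heven : ¬ Odd (Fintype.card F)) (Q : (Fin m ⊕ Fin m → F) → F)
    (hQ : Geo.IsNondegenerateQuadraticForm Q)
    (hpol : ∀ u v, QuadraticMap.polar Q u v = sympForm m F u v) :
    Geo.IsMaximalIn (spGL m F) (Geo.quadSimilarityGroup Q ⊓ spGL m F) := by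
  have hchar : ringChar F = 2 :=
    FiniteField.even_card_iff_char_two.mpr (Nat.even_iff.mp (Nat.not_odd_iff_even.mp heven))
  have h2 : (2 : F) = 0 := by
    haveI := ringChar.of_eq hchar
    have := CharP.cast_eq_zero F 2
    exact_mod_cast this
  have hsq : ∀ x : F, ∃ y, y ^ 2 = x := fun x => by
    obtain ⟨r, hr⟩ := FiniteField.isSquare_of_char_two hchar x
    exact ⟨r, by rw [pow_two]; exact hr.symm⟩
  have hQF : QF Q := ⟨hQ.smul, fun u v => by
    have := hpol u v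
    rw [QuadraticMap.polar] at this
    rw [← this]; ring⟩
  have hm4 : 4 ≤ m := by omega
  refine ⟨lt_of_le_of_ne inf_le_right ?_, ?_⟩
  · intro hEq
    obtain ⟨a₁, -, -, -, ha₁⟩ := rep hQF hsq hm4 0 0 0 1
    have ha₁0 : a₁ ≠ 0 := by
      rintro rfl
      rw [hQF.zero] at ha₁
      exact zero_ne_one ha₁
    obtain ⟨b₀, hb₀⟩ := sympForm_nondeg a₁ ha₁0
    obtain ⟨w, hw1, hw2, -, hw4⟩ := rep hQF hsq hm4 a₁ b₀ 0 1
    have hz : Q (a₁ + w) = 0 := by
      rw [hQF.pol, ha₁, hw4, sympForm_swap, hw1, neg_zero, add_zero, one_add_one_eq_two, h2]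
    have hzb : sympForm m F (a₁ + w) b₀ ≠ 0 := by
      rw [sympForm_add_left, hw2, add_zero]; exact hb₀
    have hT : tvc (a₁ + w) 1 ∈ Geo.quadSimilarityGroup Q ⊓ spGL m F := by
      rw [hEq]; exact tvc_mem _ _
    obtain ⟨c, hc⟩ := mem_qsim.mp hT.1
    have hc1 : (c : F) = 1 := sim_eq_one hQF hT.2 hc hzb
    have h3 := hc b₀
    rw [hQF.tvc, hz, hc1, one_mul] at h3
    have h4 : sympForm m F b₀ (a₁ + w) ^ 2 = 0 := by linear_combination h3
    have h5 : sympForm m F b₀ (a₁ + w) = 0 := (pow_eq_zero_iff (two_ne_zero)).mp h4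
    apply hzb
    rw [sympForm_swap, h5, neg_zero]
  · intro M hHM hMS
    by_cases hMH : M = Geo.quadSimilarityGroup Q ⊓ spGL m F
    · left; exact hMH
    right
    apply le_antisymm hMS
    obtain ⟨g, hgM, hgH⟩ := SetLike.exists_of_lt (lt_of_le_of_ne hHM (Ne.symm hMH))
    have hg : g ∉ Geo.quadSimilarityGroup Q := fun h => hgH ⟨h, hMS hgM⟩
    exact le_of_forall_mem_Sset M (all_mem h2 hsq hm4 hQF hMS hHM hgM hg)

end MainQ

/-- SPL-Q: S5652 with `5 ≤ m` -/
theorem quad_max {F : Type*} [Field F] [Fintype F] (m : ℕ) (hm : 5 ≤ m) (heven : ¬ Odd (Fintype.card F)) (Q : (Fin m ⊕ Fin m → F) → F) (hQ : Cfsg.Geo.IsNondegenerateQuadraticForm Q) (hpol : ∀ u v, QuadraticMap.polar Q u v = Cfsg.sympForm m F u v) : Cfsg.Geo.IsMaximalIn (Cfsg.spGL m F) (Cfsg.Geo.quadSimilarityGroup Q ⊓ Cfsg.spGL m F) :=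
  quad_main m hm heven Q hQ hpol

end Cfsg.Agent.Lib.Helper6.SpLowLeaf
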