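import Mathlib
import Cfsg.Prelude.Def_GeometricClasses
import Cfsg.Agent.S5645
import Cfsg.Agent.S5646
import Cfsg.Agent.S5647
import Cfsg.Agent.S5649

/-!
SpLow market (helper14), leaf SPL-TS `tspair_max` = S5649 with `5 ≤ m` (helper6): the body of `S5649aux.main` re-run verbatim
with the weaker bound (its only consumers `dep_of_star` / `all_or_all` already ask for `5 ≤ m`).
-/

set_option autoImplicit false
set_option linter.unusedSectionVars false
set_option linter.unusedVariables false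
set_option linter.unusedSimpArgs false

namespace Cfsg.Agent.Lib.Helper6.SpLowLeaf

section Main
open Cfsg Matrix Cfsg.Agent.Lib.Helper5 Cfsg.Agent.Lib.Helper5.SpMax
open Cfsg.Agent.S5645.S5645aux (sieg sieg_mem sieg_mulVec tvc_smul Sset_smul)
open Cfsg.Agent.S5647.S5647aux (map_eq_of_maps finrank_map_gl zero_mem_Sset)
open Cfsg.Agent.S5649.S5649aux

variable {F : Type*} [Field F] [Fintype F] {m : ℕ}

theorem tspair_main (hm : 5 ≤ m) (hodd : Odd (Fintype.card F))
    (D : Fin 2 → Submodule F (Fin m ⊕ Fin m → F)) (hD : Cfsg.Geo.IsMDecomposition m D)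
    (hts : ∀ i, Cfsg.Geo.IsTotallySingularFor (Cfsg.sympForm m F) (D i)) :
    Cfsg.Geo.IsMaximalIn (Cfsg.spGL m F)
      (Cfsg.Geo.decompositionStabilizer D ⊓ Cfsg.spGL m F) := by
  have h2 : (2 : F) ≠ 0 := by
    have hchar : ringChar F ≠ 2 := by
      intro hch
      have h1 := FiniteField.even_card_of_char_two hch
      obtain ⟨k, hk⟩ := hodd
      omega
    exact Ring.two_ne_zero hchar
  have hc : IsCompl (D 0) (D 1) := by
    refine ⟨hD.indep.pairwiseDisjoint (by decide), ?_⟩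
    rw [codisjoint_iff, eq_top_iff, ← hD.iSup_eq_top]
    apply iSup_le
    intro i
    fin_cases i
    · exact le_sup_left
    · exact le_sup_right
  have h : LP (D 0) (D 1) := ⟨hts 0, hts 1, hc⟩
  have hfrA := hD.finrank_eq 0
  have hfrB := hD.finrank_eq 1
  have hmem_of : ∀ g : GL (Fin m ⊕ Fin m) F,
      ((∀ a ∈ D 0, (g : Matrix (Fin m ⊕ Fin m) (Fin m ⊕ Fin m) F) *ᵥ a ∈ D 0) ∧
        (∀ b ∈ D 1, (g : Matrix (Fin m ⊕ Fin m) (Fin m ⊕ Fin m) F) *ᵥ b ∈ D 1)) ∨
      ((∀ a ∈ D 0, (g : Matrix (Fin m ⊕ Fin m) (Fin m ⊕ Fin m) F) *ᵥ a ∈ D 1) ∧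
        (∀ b ∈ D 1, (g : Matrix (Fin m ⊕ Fin m) (Fin m ⊕ Fin m) F) *ᵥ b ∈ D 0)) →
      g ∈ Cfsg.Geo.decompositionStabilizer D := by
    rintro g (⟨h1, h2⟩ | ⟨h1, h2⟩)
    · refine ⟨1, fun i => ?_⟩
      fin_cases i
      · exact map_eq_of_maps h1 rfl
      · exact map_eq_of_maps h2 rfl
    · refine ⟨Equiv.swap 0 1, fun i => ?_⟩
      fin_cases i
      · change (D 0).map _ = D (Equiv.swap 0 1 0)
        rw [Equiv.swap_apply_left]
        exact map_eq_of_maps h1 (by rw [hfrA, hfrB])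
      · change (D 1).map _ = D (Equiv.swap 0 1 1)
        rw [Equiv.swap_apply_right]
        exact map_eq_of_maps h2 (by rw [hfrA, hfrB])
  have hne0 : ∃ a ∈ D 0, a ≠ 0 := by
    apply (Submodule.ne_bot_iff _).mp
    intro hbot
    rw [hbot, finrank_bot] at hfrA
    omega
  have hne1 : ∃ b ∈ D 1, b ≠ 0 := by
    apply (Submodule.ne_bot_iff _).mp
    intro hbot
    rw [hbot, finrank_bot] at hfrB
    omega
  have hE0 : ∀ a ∈ D 0, ∀ b ∈ D 1, sympForm m F b a = 0 →
      sieg a b ∈ Cfsg.Geo.decompositionStabilizer D ⊓ Cfsg.spGL m F := by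
    intro a ha b hb hba
    refine ⟨hmem_of _ (Or.inl ⟨?_, ?_⟩), sieg_mem _ _⟩
    · intro x hx
      rw [sieg_mulVec a b hba, h.hA x hx a ha, zero_smul, add_zero]
      exact (D 0).add_mem hx ((D 0).smul_mem _ ha)
    · intro x hx
      rw [sieg_mulVec a b hba, h.hB x hx b hb, zero_smul, add_zero]
      exact (D 1).add_mem hx ((D 1).smul_mem _ hb)
  have hE1 : ∀ b ∈ D 1, ∀ a ∈ D 0, sympForm m F a b = 0 →
      sieg b a ∈ Cfsg.Geo.decompositionStabilizer D ⊓ Cfsg.spGL m F := by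
    intro b hb a ha hab
    refine ⟨hmem_of _ (Or.inl ⟨?_, ?_⟩), sieg_mem _ _⟩
    · intro x hx
      rw [sieg_mulVec b a hab, h.hA x hx a ha, zero_smul, add_zero]
      exact (D 0).add_mem hx ((D 0).smul_mem _ ha)
    · intro x hx
      rw [sieg_mulVec b a hab, h.hB x hx b hb, zero_smul, add_zero]
      exact (D 1).add_mem hx ((D 1).smul_mem _ hb)
  refine ⟨?_, ?_⟩
  · rw [lt_iff_le_and_ne]
    refine ⟨inf_le_right, fun heq => ?_⟩
    obtain ⟨a, ha, ha0⟩ := hne0
    obtain ⟨b, hb, hab⟩ := h.nd ha ha0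
    have hT : tvc a 1 ∈ Cfsg.Geo.decompositionStabilizer D ⊓ Cfsg.spGL m F := by
      rw [heq]; exact tvc_mem _ _
    obtain ⟨σ, hσ⟩ := hT.1
    have hTa : (tvc a (1 : F) : Matrix (Fin m ⊕ Fin m) (Fin m ⊕ Fin m) F) *ᵥ a = a := by
      rw [tvc_mulVec, sympForm_self, mul_zero, zero_smul, add_zero]
    have h0 : σ 0 = 0 := by
      by_contra hne
      have h1 : σ 0 = 1 := by
        obtain ⟨v, hv⟩ : ∃ v, σ 0 = v := ⟨_, rfl⟩
        fin_cases v
        · exact absurd hv hne
        · exact hv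
      have h3 : a ∈ D (σ 0) := by
        rw [← hσ 0]
        exact ⟨a, ha, by rw [Matrix.toLin'_apply]; exact hTa⟩
      rw [h1] at h3
      exact ha0 (h.inf_eq ha h3)
    have h1 : σ 1 = 1 := by
      obtain ⟨v, hv⟩ : ∃ v, σ 1 = v := ⟨_, rfl⟩
      fin_cases v
      · exfalso
        have := σ.injective (hv.trans h0.symm)
        exact absurd this (by decide)
      · exact hv
    have h3 : (tvc a (1 : F) : Matrix (Fin m ⊕ Fin m) (Fin m ⊕ Fin m) F) *ᵥ b ∈ D 1 := by
      have h4 : (tvc a (1 : F) : Matrix (Fin m ⊕ Fin m) (Fin m ⊕ Fin m) F) *ᵥ b ∈ D (σ 1) := by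
        rw [← hσ 1]
        exact ⟨b, hb, by rw [Matrix.toLin'_apply]⟩
      rwa [h1] at h4
    rw [tvc_mulVec, one_mul, (D 1).add_mem_iff_right hb] at h3
    have hba : sympForm m F b a ≠ 0 := by
      rw [sympForm_swap]
      exact neg_ne_zero.mpr hab
    have h5 : a ∈ D 1 := by
      have := (D 1).smul_mem (sympForm m F b a)⁻¹ h3
      rwa [smul_smul, inv_mul_cancel₀ hba, one_smul] at this
    exact ha0 (h.inf_eq ha h5)
  · intro M hHM hMS
    by_cases hMH : M = Cfsg.Geo.decompositionStabilizer D ⊓ Cfsg.spGL m F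
    · left; exact hMH
    right
    apply le_antisymm hMS
    obtain ⟨g, hgM, hgH⟩ : ∃ g ∈ M, g ∉ Cfsg.Geo.decompositionStabilizer D ⊓ Cfsg.spGL m F := by
      by_contra hcon
      push Not at hcon
      exact hMH (le_antisymm hcon hHM)
    have hgS : g ∉ Cfsg.Geo.decompositionStabilizer D := fun hh => hgH ⟨hh, hMS hgM⟩
    -- the swap
    obtain ⟨J, hJS, hJA, hJB, -⟩ := exists_swap m (D 0) (D 1) (hts 0) (hts 1)
      (fun a ha ha0 => h.nd ha ha0)
      (fun b hb hb0 => by
        obtain ⟨a, ha, hba⟩ := h.symm.nd hb hb0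
        exact ⟨a, ha, by rw [sympForm_swap]; exact neg_ne_zero.mpr hba⟩) hfrA
    have hJM : J ∈ M := hHM ⟨hmem_of J (Or.inr ⟨hJA, hJB⟩), hJS⟩
    have hall : ∀ v, v ∈ Sset M := by
      by_cases hstarA : ∀ a ∈ D 0, a ≠ 0 → ∀ m₀ ∈ M,
          (m₀ : Matrix (Fin m ⊕ Fin m) (Fin m ⊕ Fin m) F) *ᵥ a = a → ∀ x, InC (D 1) a x →
          InC (D 1) a ((m₀ : Matrix (Fin m ⊕ Fin m) (Fin m ⊕ Fin m) F) *ᵥ x)
      · by_cases hstarB : ∀ b ∈ D 1, b ≠ 0 → ∀ m₀ ∈ M,
            (m₀ : Matrix (Fin m ⊕ Fin m) (Fin m ⊕ Fin m) F) *ᵥ b = b → ∀ x, InC (D 0) b x →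
            InC (D 0) b ((m₀ : Matrix (Fin m ⊕ Fin m) (Fin m ⊕ Fin m) F) *ᵥ x)
        · exfalso
          apply hgS
          have d1 := all_or_all (by omega) h hfrA hfrB g (fun a' ha' b' hb' hab =>
            dep_of_star (by omega) hMS h hfrA (fun a ha b hb hba => hHM (hE0 a ha b hb hba))
              hstarA hgM ha' hb' hab)
          have d2 := all_or_all (by omega) h.symm hfrB hfrA g (fun a' ha' b' hb' hab =>
            dep_of_star (by omega) hMS h.symm hfrB (fun b hb a ha hab => hHM (hE1 b hb a ha hab))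
              hstarB hgM ha' hb' hab)
          apply hmem_of
          rcases d1 with d1 | d1
          · rcases d2 with d2 | d2
            · exact Or.inr ⟨d1, d2⟩
            · exfalso
              obtain ⟨a, ha, ha0⟩ := hne0
              have h3 := h.inf_eq (d2 a ha) (d1 a ha)
              apply ha0
              have h4 := inv_mul_mulVec g a
              rw [h3, Matrix.mulVec_zero] at h4
              exact h4.symm
          · rcases d2 with d2 | d2
            · exfalso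
              obtain ⟨b, hb, hb0⟩ := hne1
              have h3 := h.inf_eq (d2 b hb) (d1 b hb)
              apply hb0
              have h4 := inv_mul_mulVec g b
              rw [h3, Matrix.mulVec_zero] at h4
              exact h4.symm
            · exact Or.inl ⟨d2, d1⟩
        · push Not at hstarB
          obtain ⟨b, hb, hb0, m₀, hm₀, hfix, x, hx, hmx⟩ := hstarB
          have hbS : b ∈ Sset M := local_of_moved h2 hMS h.symm hb hb0
            (fun a ha hab => hHM (hE1 b hb a ha hab)) hm₀ hfix hx hmx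
          have hBS := spread hMS h.symm (fun b hb a ha hab => hHM (hE1 b hb a ha hab)) hb hb0 hbS
          have hAS : ∀ a ∈ D 0, a ∈ Sset M := by
            intro a ha
            have h3 := Sset_mulVec_mem hMS (M.inv_mem hJM) (hBS _ (hJA a ha))
            rwa [inv_mul_mulVec] at h3
          exact all_of_AB hMS h hAS hBS
      · push Not at hstarA
        obtain ⟨a, ha, ha0, m₀, hm₀, hfix, x, hx, hmx⟩ := hstarA
        have haS : a ∈ Sset M := local_of_moved h2 hMS h ha ha0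
          (fun b hb hba => hHM (hE0 a ha b hb hba)) hm₀ hfix hx hmx
        have hAS := spread hMS h (fun a ha b hb hba => hHM (hE0 a ha b hb hba)) ha ha0 haS
        have hBS : ∀ b ∈ D 1, b ∈ Sset M := by
          intro b hb
          have h3 := Sset_mulVec_mem hMS (M.inv_mem hJM) (hAS _ (hJB b hb))
          rwa [inv_mul_mulVec] at h3
        exact all_of_AB hMS h hAS hBS
    exact le_of_forall_mem_Sset M hall

end Main

/-- SPL-TS: S5649 with `5 ≤ m` -/
theorem tspair_max {F : Type*} [Field F] [Fintype F] (m : ℕ) (hm : 5 ≤ m) (hodd : Odd (Fintype.card F)) (D : Fin 2 → Submodule F (Fin m ⊕ Fin m → F)) (hD : Cfsg.Geo.IsMDecomposition m D) (hts : ∀ i, Cfsg.Geo.IsTotallySingularFor (Cfsg.sympForm m F) (D i)) : Cfsg.Geo.IsMaximalIn (Cfsg.spGL m F) (Cfsg.Geo.decompositionStabilizer D ⊓ Cfsg.spGL m F) :=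
  tspair_main hm hodd D hD hts

end Cfsg.Agent.Lib.Helper6.SpLowLeaf
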