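/-
helper6: S4931 part A.  `P` a Sylow `p`-subgroup of `G`, `N = N_G(P)`.  Hypothesis `Ext`: every
irreducible character of `N` of degree prime to `p` is the restriction of an irreducible character
of `G`.  Here: `N ∩ P^G = P` (`P^G` the normal closure), the normal subgroup `extKer`
(intersection of the kernels of the extending characters) and `P' ≤ extKer`, `extKer ∩ P ≤ P'`.
-/
import Mathlib
import Cfsg.Prelude.Def_Blocks
import Cfsg.Agent.Lib.Lead.Taketa
import Cfsg.Agent.Lib.Helper23.PPrimeKerD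
import Cfsg.Agent.Lib.Helper23.PPrimeKerE
import Cfsg.Agent.Lib.Helper24.IrrFacts
import Cfsg.Agent.Lib.Helper25.Inflate

set_option autoImplicit false

namespace Cfsg.Agent.Lib.Helper6.SylNormExt

open Cfsg Cfsg.Agent.CharLib Cfsg.Agent.Lib.Helper24 Cfsg.Agent.Lib.Helper25
  Cfsg.Agent.Lib.Helper23.PPrimeKer

universe u
variable {G : Type u} [Group G] [Finite G] (p : ℕ) [hp : Fact p.Prime] (P : Sylow p G)

/-- every `p'`-degree irreducible character of `N_G(P)` extends to `G` -/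
def Ext : Prop :=
  ∀ θ : IrrCharacter ↥(Subgroup.normalizer ((P : Subgroup G) : Set G)),
    ¬ p ∣ charDegree (θ : ↥(Subgroup.normalizer ((P : Subgroup G) : Set G)) → ℂ) →
    ∃ χ : IrrCharacter G, ∀ x : ↥(Subgroup.normalizer ((P : Subgroup G) : Set G)),
      (χ : G → ℂ) x = (θ : ↥(Subgroup.normalizer ((P : Subgroup G) : Set G)) → ℂ) x

/-- `N_G(P) ∩ P^G = P` under `Ext`. -/
theorem mem_of_mem_normalClosure (h : Ext p P) {n : G}
    (hnN : n ∈ Subgroup.normalizer ((P : Subgroup G) : Set G))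
    (hnL : n ∈ Subgroup.normalClosure ((P : Subgroup G) : Set G)) : n ∈ (P : Subgroup G) := by
  classical
  by_contra hnP
  set N : Subgroup G := Subgroup.normalizer ((P : Subgroup G) : Set G) with hN
  set PN : Subgroup ↥N := (P : Subgroup G).subgroupOf N with hPN
  haveI hPNn : PN.Normal := Subgroup.normal_in_normalizer
  have hn' : ((⟨n, hnN⟩ : ↥N) : ↥N ⧸ PN) ≠ 1 := by
    intro h1
    apply hnP
    have := (QuotientGroup.eq_one_iff (⟨n, hnN⟩ : ↥N)).mp h1
    exact Subgroup.mem_subgroupOf.mp this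
  have hex : ∃ ψ : IrrCharacter (↥N ⧸ PN),
      (ψ : ↥N ⧸ PN → ℂ) ((⟨n, hnN⟩ : ↥N) : ↥N ⧸ PN) ≠ (ψ : ↥N ⧸ PN → ℂ) 1 := by
    by_contra hcon
    push_neg at hcon
    exact hn' (eq_one_of_forall_irr_apply_eq _ hcon)
  obtain ⟨ψ, hψ⟩ := hex
  have hdeg : ¬ p ∣ charDegree (inflateIrr PN ψ : ↥N → ℂ) := by
    intro hdvd
    have h1 : charDegree (inflateIrr PN ψ : ↥N → ℂ) = charDegree (ψ : ↥N ⧸ PN → ℂ) := rfl
    rw [h1] at hdvd
    have h2 : charDegree (ψ : ↥N ⧸ PN → ℂ) ∣ Nat.card (↥N ⧸ PN) := irr_charDegree_dvd_card ψ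
    have h3 : Nat.card (↥N ⧸ PN) = PN.index := (Subgroup.index_eq_card PN).symm
    have h4 : PN.index ∣ (P : Subgroup G).index := by
      have := Subgroup.relIndex_mul_index (Subgroup.le_normalizer (H := (P : Subgroup G)))
      exact Dvd.intro _ this
    exact P.not_dvd_index (hdvd.trans (h2.trans (h3 ▸ h4)))
  obtain ⟨χ, hχ⟩ := h (inflateIrr PN ψ) hdeg
  have hPker : (P : Subgroup G) ≤ irrKer χ := by
    intro y hy
    rw [mem_irrKer]
    have hyN : y ∈ N := Subgroup.le_normalizer hy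
    have h1 := hχ ⟨y, hyN⟩
    have h2 := hχ 1
    rw [Subgroup.coe_one] at h2
    change (χ : G → ℂ) y = _ at h1
    rw [h1, h2]
    exact inflateIrr_mem_ker PN ψ ⟨y, hyN⟩ (Subgroup.mem_subgroupOf.mpr hy)
  have hLker : Subgroup.normalClosure ((P : Subgroup G) : Set G) ≤ irrKer χ :=
    Subgroup.normalClosure_le_normal hPker
  have h1 := (mem_irrKer χ n).mp (hLker hnL)
  have h2 := hχ ⟨n, hnN⟩
  have h3 := hχ 1
  rw [Subgroup.coe_one] at h3
  change (χ : G → ℂ) n = _ at h2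
  rw [h2, h3] at h1
  exact hψ h1

/-- the intersection of the kernels of the irreducible characters of `G` restricting to a
`p'`-degree irreducible character of `N_G(P)` -/
noncomputable def extKer : Subgroup G :=
  ⨅ χ : {χ : IrrCharacter G // ∃ θ : IrrCharacter ↥(Subgroup.normalizer ((P : Subgroup G) : Set G)),
      ¬ p ∣ charDegree (θ : ↥(Subgroup.normalizer ((P : Subgroup G) : Set G)) → ℂ) ∧
      ∀ x : ↥(Subgroup.normalizer ((P : Subgroup G) : Set G)),
        (χ : G → ℂ) x = (θ : ↥(Subgroup.normalizer ((P : Subgroup G) : Set G)) → ℂ) x}, irrKer χ.1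

instance extKer_normal : (extKer p P).Normal :=
  Subgroup.normal_iInf_normal (fun χ => irrKer_normal χ.1)

theorem mem_extKer (g : G) :
    g ∈ extKer p P ↔ ∀ (χ : IrrCharacter G)
      (θ : IrrCharacter ↥(Subgroup.normalizer ((P : Subgroup G) : Set G))),
      ¬ p ∣ charDegree (θ : ↥(Subgroup.normalizer ((P : Subgroup G) : Set G)) → ℂ) →
      (∀ x : ↥(Subgroup.normalizer ((P : Subgroup G) : Set G)),
        (χ : G → ℂ) x = (θ : ↥(Subgroup.normalizer ((P : Subgroup G) : Set G)) → ℂ) x) →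
      (χ : G → ℂ) g = (χ : G → ℂ) 1 := by
  unfold extKer
  rw [Subgroup.mem_iInf]
  constructor
  · intro h χ θ hθ hχ
    exact (mem_irrKer χ g).mp (h ⟨χ, θ, hθ, hχ⟩)
  · rintro h ⟨χ, θ, hθ, hχ⟩
    exact (mem_irrKer χ g).mpr (h χ θ hθ hχ)

/-- `extKer ∩ P ≤ P'` under `Ext`. -/
theorem extKer_inf_le (h : Ext p P) :
    extKer p P ⊓ (P : Subgroup G) ≤ ⁅(P : Subgroup G), (P : Subgroup G)⁆ := by
  classical
  intro x hx
  obtain ⟨hxK, hxP⟩ := Subgroup.mem_inf.mp hx
  set N : Subgroup G := Subgroup.normalizer ((P : Subgroup G) : Set G) with hN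
  have hPN : (P : Subgroup G) ≤ N := Subgroup.le_normalizer
  let PS : Sylow p ↥N := P.subtype hPN
  have hxN : x ∈ N := hPN hxP
  have hxPS : (⟨x, hxN⟩ : ↥N) ∈ (PS : Subgroup ↥N) := by
    rw [Sylow.coe_subtype]
    exact Subgroup.mem_subgroupOf.mpr hxP
  have key := mem_commutator_of_forall_not_dvd p PS hxPS (by
    intro θ hθ
    obtain ⟨χ, hχ⟩ := h θ hθ
    have h1 := hχ ⟨x, hxN⟩
    have h2 := hχ 1
    rw [Subgroup.coe_one] at h2
    change (χ : G → ℂ) x = _ at h1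
    rw [← h1, ← h2]
    exact (mem_extKer p P x).mp hxK χ θ hθ hχ)
  have hmap : (⁅(PS : Subgroup ↥N), (PS : Subgroup ↥N)⁆).map N.subtype =
      ⁅(P : Subgroup G), (P : Subgroup G)⁆ := by
    rw [Subgroup.map_commutator, Sylow.coe_subtype, Subgroup.subgroupOf_map_subtype,
      inf_of_le_left hPN]
  rw [← hmap]
  exact ⟨⟨x, hxN⟩, key, rfl⟩

/-- `P' ≤ extKer`. -/
theorem commutator_le_extKer :
    ⁅(P : Subgroup G), (P : Subgroup G)⁆ ≤ extKer p P := by
  classical
  set N : Subgroup G := Subgroup.normalizer ((P : Subgroup G) : Set G) with hN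
  have hPN : (P : Subgroup G) ≤ N := Subgroup.le_normalizer
  let PS : Sylow p ↥N := P.subtype hPN
  have hmap : (⁅(PS : Subgroup ↥N), (PS : Subgroup ↥N)⁆).map N.subtype =
      ⁅(P : Subgroup G), (P : Subgroup G)⁆ := by
    rw [Subgroup.map_commutator, Sylow.coe_subtype, Subgroup.subgroupOf_map_subtype,
      inf_of_le_left hPN]
  haveI hPSn : (PS : Subgroup ↥N).Normal := by
    rw [Sylow.coe_subtype]
    exact Subgroup.normal_in_normalizer
  haveI : (⁅(PS : Subgroup ↥N), (PS : Subgroup ↥N)⁆).Normal := Subgroup.commutator_normal _ _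
  intro g hg
  rw [mem_extKer]
  intro χ θ hθ hχ
  rw [← hmap] at hg
  obtain ⟨g', hg', rfl⟩ := hg
  have hcore : g' ∈ ((⊥ : Subgroup ↥N) ⊔ ⁅(PS : Subgroup ↥N), (PS : Subgroup ↥N)⁆).normalCore := by
    rw [bot_sup_eq, Subgroup.normalCore_eq_self]
    exact hg'
  have h1 := apply_eq_of_mem_normalCore p PS (⊥ : Subgroup ↥N) (bot_inf_eq _) θ hθ hcore
  have h2 := hχ g'
  have h3 := hχ 1
  rw [Subgroup.coe_one] at h3
  change (χ : G → ℂ) (g' : G) = (χ : G → ℂ) 1
  rw [h2, h3, h1]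

end Cfsg.Agent.Lib.Helper6.SylNormExt
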