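/-
helper6: S4931 part B.  Burnside-type fusion modulo `extKer`: for `y ∈ P`, `u ∈ P^G` with
`u y u⁻¹ ∈ P` one has `y⁻¹ (u y u⁻¹) ∈ P'`.
-/
import Mathlib
import Cfsg.Agent.Lib.Helper6.SylNormExtA
import Cfsg.Agent.Lib.Helper1.Coprime

set_option autoImplicit false

namespace Cfsg.Agent.Lib.Helper6.SylNormExt

open scoped commutatorElement
open Cfsg Cfsg.Agent.CharLib Cfsg.Agent.Lib.Helper24 Cfsg.Agent.Lib.Helper25
  Cfsg.Agent.Lib.Helper23.PPrimeKer

universe u
variable {G : Type u} [Group G] [Finite G] (p : ℕ) [hp : Fact p.Prime] (P : Sylow p G)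

/-- Sylow conjugacy inside a subgroup `D` containing the Sylow subgroup `P` of `G`. -/
theorem exists_conj_mem_of_le (D T : Subgroup G) (hPD : (P : Subgroup G) ≤ D) (hTD : T ≤ D)
    (hT : IsPGroup p ↥T) : ∃ d ∈ D, ∀ t ∈ T, d * t * d⁻¹ ∈ (P : Subgroup G) := by
  classical
  let PD : Sylow p ↥D := P.subtype hPD
  have hT' : IsPGroup p ↥(T.subgroupOf D) := hT.comap_subtype
  obtain ⟨Q, hQ⟩ := hT'.exists_le_sylow
  obtain ⟨d, hd⟩ := MulAction.exists_smul_eq ↥D Q PD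
  refine ⟨d, d.2, fun t ht => ?_⟩
  have h1 : (⟨t, hTD ht⟩ : ↥D) ∈ (Q : Subgroup ↥D) := hQ (Subgroup.mem_subgroupOf.mpr ht)
  have h2 : d * ⟨t, hTD ht⟩ * d⁻¹ ∈ ((d • Q : Sylow p ↥D) : Subgroup ↥D) := by
    rw [Sylow.coe_subgroup_smul]
    have := Subgroup.smul_mem_pointwise_smul (⟨t, hTD ht⟩ : ↥D) (MulAut.conj d) (Q : Subgroup ↥D) h1
    simpa [MulAut.smul_def] using this
  rw [hd] at h2
  have h3 : d * ⟨t, hTD ht⟩ * d⁻¹ ∈ (P : Subgroup G).subgroupOf D := by
    have : (PD : Subgroup ↥D) = (P : Subgroup G).subgroupOf D := Sylow.coe_subtype _ _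
    rw [← this]
    exact h2
  have h4 := Subgroup.mem_subgroupOf.mp h3
  simpa using h4

/-- Burnside fusion modulo `extKer`. -/
theorem fusion (h : Ext p P) {y u : G} (hy : y ∈ (P : Subgroup G))
    (hu : u ∈ Subgroup.normalClosure ((P : Subgroup G) : Set G))
    (hyu : u * y * u⁻¹ ∈ (P : Subgroup G)) :
    y⁻¹ * (u * y * u⁻¹) ∈ ⁅(P : Subgroup G), (P : Subgroup G)⁆ := by
  classical
  set K : Subgroup G := extKer p P with hK
  set L : Subgroup G := Subgroup.normalClosure ((P : Subgroup G) : Set G) with hL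
  have hPL : (P : Subgroup G) ≤ L := Subgroup.le_normalClosure
  have hP'K : ⁅(P : Subgroup G), (P : Subgroup G)⁆ ≤ K := commutator_le_extKer p P
  set z : G := u * y * u⁻¹ with hz
  let C : Subgroup G :=
    (Subgroup.centralizer ({(QuotientGroup.mk z : G ⧸ K)} : Set (G ⧸ K))).comap (QuotientGroup.mk' K)
  have hmemC : ∀ x : G, x ∈ C ↔ x⁻¹ * z⁻¹ * x * z ∈ K := by
    intro x
    change (QuotientGroup.mk' K x) ∈ Subgroup.centralizer _ ↔ _
    rw [Subgroup.mem_centralizer_iff]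
    constructor
    · intro h1
      have h2 := h1 _ (Set.mem_singleton _)
      have h3 : (QuotientGroup.mk (z * x) : G ⧸ K) = QuotientGroup.mk (x * z) := h2
      have h4 := QuotientGroup.eq.mp h3
      have e : (z * x)⁻¹ * (x * z) = x⁻¹ * z⁻¹ * x * z := by group
      rwa [e] at h4
    · intro h1 q hq
      rw [Set.mem_singleton_iff] at hq
      rw [hq]
      change (QuotientGroup.mk (z * x) : G ⧸ K) = QuotientGroup.mk (x * z)
      apply QuotientGroup.eq.mpr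
      have e : (z * x)⁻¹ * (x * z) = x⁻¹ * z⁻¹ * x * z := by group
      rwa [e]
  -- `P ≤ C`
  have hPC : (P : Subgroup G) ≤ C := by
    intro x hx
    rw [hmemC]
    apply hP'K
    have e : x⁻¹ * z⁻¹ * x * z = ⁅x⁻¹, z⁻¹⁆ := by
      rw [commutatorElement_def]; group
    rw [e]
    exact Subgroup.commutator_mem_commutator (inv_mem hx) (inv_mem hyu)
  -- the conjugate `T = u P u⁻¹`
  let T : Subgroup G := (P : Subgroup G).map (MulAut.conj u).toMonoidHom
  have hTp : IsPGroup p ↥T := P.2.map _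
  have hTC : T ≤ C := by
    rintro _ ⟨x, hx, rfl⟩
    rw [hmemC]
    have e : ((MulAut.conj u).toMonoidHom x)⁻¹ * z⁻¹ * (MulAut.conj u).toMonoidHom x * z =
        u * ⁅x⁻¹, y⁻¹⁆ * u⁻¹ := by
      rw [commutatorElement_def, hz]
      simp only [MulEquiv.coe_toMonoidHom, MulAut.conj_apply]
      group
    rw [e]
    exact (extKer_normal p P).conj_mem _
      (hP'K (Subgroup.commutator_mem_commutator (inv_mem hx) (inv_mem hy))) u
  have hLn : L.Normal := Subgroup.normalClosure_normal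
  have hTL : T ≤ L := by
    rintro _ ⟨x, hx, rfl⟩
    simp only [MulEquiv.coe_toMonoidHom, MulAut.conj_apply]
    exact hLn.conj_mem x (hPL hx) u
  obtain ⟨d, hd, hdT⟩ := exists_conj_mem_of_le p P (C ⊓ L) T (le_inf hPC hPL) (le_inf hTC hTL) hTp
  obtain ⟨hdC, hdL⟩ := Subgroup.mem_inf.mp hd
  -- `n = d u` normalizes `P` and lies in `L`, hence in `P`
  have hnN : d * u ∈ Subgroup.normalizer ((P : Subgroup G) : Set G) := by
    apply Cfsg.Agent.Lib.Helper1.mem_normalizer_of_forall_conj_mem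
    intro x hx
    have h1 := hdT ((MulAut.conj u).toMonoidHom x) ⟨x, hx, rfl⟩
    simp only [MulEquiv.coe_toMonoidHom, MulAut.conj_apply] at h1
    have e : d * u * x * (d * u)⁻¹ = d * (u * x * u⁻¹) * d⁻¹ := by group
    rw [e]
    exact h1
  have hnL : d * u ∈ L := L.mul_mem hdL hu
  have hnP : d * u ∈ (P : Subgroup G) := mem_of_mem_normalClosure p P h hnN hnL
  -- assemble
  have h1 : d⁻¹ * z⁻¹ * d * z ∈ K := (hmemC d).mp hdC
  have h2 : y⁻¹ * (d * u * y * (d * u)⁻¹) ∈ K := by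
    apply hP'K
    have e : y⁻¹ * (d * u * y * (d * u)⁻¹) = ⁅y⁻¹, d * u⁆ := by
      rw [commutatorElement_def]; group
    rw [e]
    exact Subgroup.commutator_mem_commutator (inv_mem hy) hnP
  have h3 : y⁻¹ * z ∈ K := by
    have h4 : d * (d⁻¹ * z⁻¹ * d * z)⁻¹ * d⁻¹ ∈ K :=
      (extKer_normal p P).conj_mem _ (inv_mem h1) d
    have e : y⁻¹ * z = (y⁻¹ * (d * u * y * (d * u)⁻¹)) * (d * (d⁻¹ * z⁻¹ * d * z)⁻¹ * d⁻¹) := by
      rw [hz]; group
    rw [e]
    exact K.mul_mem h2 h4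
  have h5 : y⁻¹ * z ∈ (P : Subgroup G) := (P : Subgroup G).mul_mem (inv_mem hy) hyu
  exact extKer_inf_le p P h (Subgroup.mem_inf.mpr ⟨h3, h5⟩)

end Cfsg.Agent.Lib.Helper6.SylNormExt
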