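/-
helper6: S4931 part C.  Under `Ext`, the normal closure `L = P^G` has `P ∩ O^p(L) = 1`
(focal subgroup theorem + Tate), and `O^p(L)` is a normal complement of `N_G(P)` in `G`.
Conversely a normal complement gives `Ext` by inflation.
-/
import Mathlib
import Cfsg.Agent.Lib.Helper6.SylNormExtB
import Cfsg.Agent.Lib.Helper24.TateFrattini
import Cfsg.Agent.Lib.Helper12.Residual
import Cfsg.Agent.Lib.Helper1.ComplProj
import Cfsg.Agent.Lib.Helper24.Deflation

set_option autoImplicit false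

namespace Cfsg.Agent.Lib.Helper6.SylNormExt

open scoped commutatorElement
open Cfsg Cfsg.Agent.CharLib Cfsg.Agent.Lib.Helper24 Cfsg.Agent.Lib.Helper25
  Cfsg.Agent.Lib.Helper23.PPrimeKer

universe u

/-- `O^p(X)` is a characteristic subgroup. -/
instance pResidual_characteristic (p : ℕ) (X : Type u) [Group X] : (pResidual p X).Characteristic := by
  rw [Subgroup.characteristic_iff_map_le]
  intro ϕ
  rw [pResidual, MonoidHom.map_closure, Subgroup.closure_le]
  rintro _ ⟨x, hx, rfl⟩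
  apply Subgroup.subset_closure
  change Nat.Coprime (orderOf (ϕ x)) p
  rw [MulEquiv.orderOf_eq]
  exact hx

variable {G : Type u} [Group G] [Finite G] (p : ℕ) [hp : Fact p.Prime] (P : Sylow p G)

/-- Under `Ext`, `P ∩ O^p(P^G) = 1` (inside the group `P^G`). -/
theorem sylow_inf_pResidual_eq_bot (h : Ext p P) :
    ((P.subtype (Subgroup.le_normalClosure (H := (P : Subgroup G))) :
        Sylow p ↥(Subgroup.normalClosure ((P : Subgroup G) : Set G))) :
      Subgroup ↥(Subgroup.normalClosure ((P : Subgroup G) : Set G))) ⊓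
      pResidual p ↥(Subgroup.normalClosure ((P : Subgroup G) : Set G)) = ⊥ := by
  classical
  set L : Subgroup G := Subgroup.normalClosure ((P : Subgroup G) : Set G) with hL
  have hPL : (P : Subgroup G) ≤ L := Subgroup.le_normalClosure
  set PL : Sylow p ↥L := P.subtype hPL with hPLdef
  have hPLcoe : (PL : Subgroup ↥L) = (P : Subgroup G).subgroupOf L := Sylow.coe_subtype _ _
  have hmap : (⁅(PL : Subgroup ↥L), (PL : Subgroup ↥L)⁆).map L.subtype =
      ⁅(P : Subgroup G), (P : Subgroup G)⁆ := by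
    rw [Subgroup.map_commutator, hPLcoe, Subgroup.subgroupOf_map_subtype, inf_of_le_left hPL]
  -- focal subgroup of `PL` lies in `PL'`
  have hfoc : (PL : Subgroup ↥L).focalSubgroup ≤ ⁅(PL : Subgroup ↥L), (PL : Subgroup ↥L)⁆ := by
    rw [Subgroup.focalSubgroup_def, Subgroup.closure_le]
    rintro g ⟨hg, a, ha, v, rfl⟩
    have haP : (a : G) ∈ (P : Subgroup G) := by
      rw [hPLcoe] at ha; exact Subgroup.mem_subgroupOf.mp ha
    have hgP : ((⁅a, v⁆ : ↥L) : G) ∈ (P : Subgroup G) := by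
      rw [hPLcoe] at hg; exact Subgroup.mem_subgroupOf.mp hg
    have hconj : (v : G) * (a : G)⁻¹ * (v : G)⁻¹ ∈ (P : Subgroup G) := by
      have e : (v : G) * (a : G)⁻¹ * (v : G)⁻¹ = (a : G)⁻¹ * ((⁅a, v⁆ : ↥L) : G) := by
        rw [commutatorElement_def]
        simp only [Subgroup.coe_mul, Subgroup.coe_inv]
        group
      rw [e]
      exact (P : Subgroup G).mul_mem (inv_mem haP) hgP
    have key := fusion p P h (inv_mem haP) v.2 hconj
    have e : ((a : G)⁻¹)⁻¹ * ((v : G) * (a : G)⁻¹ * (v : G)⁻¹) = ((⁅a, v⁆ : ↥L) : G) := by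
      rw [commutatorElement_def]
      simp only [Subgroup.coe_mul, Subgroup.coe_inv]
      group
    rw [e, ← hmap] at key
    obtain ⟨w, hw, hwe⟩ := key
    have : w = ⁅a, v⁆ := Subtype.ext hwe
    rw [SetLike.mem_coe, ← this]
    exact hw
  apply tate_frattini PL
  intro x hx
  have h1 : (x : ↥L) ∈ commutator ↥L :=
    Cfsg.Agent.Lib.Helper22.sylow_inf_pResidual_le_commutator PL (Subgroup.mem_inf.mpr ⟨x.2, hx⟩)
  have h2 : (x : ↥L) ∈ commutator ↥L ⊓ (PL : Subgroup ↥L) := Subgroup.mem_inf.mpr ⟨h1, x.2⟩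
  rw [Subgroup.commutator_inf_eq_focalSubgroup PL] at h2
  have h3 := hfoc h2
  rw [← Subgroup.map_subtype_commutator] at h3
  obtain ⟨x', hx', hxe⟩ := h3
  have : x' = x := Subtype.ext hxe
  rw [← this]
  exact Cfsg.Agent.Lib.Helper1.IsPGroup.commutator_le_frattini PL.isPGroup' hx'

/-- Under `Ext`, `N_G(P)` has a normal complement. -/
theorem exists_normal_complement (h : Ext p P) :
    ∃ K : Subgroup G, K.Normal ∧ K ⊔ Subgroup.normalizer ((P : Subgroup G) : Set G) = ⊤ ∧
      K ⊓ Subgroup.normalizer ((P : Subgroup G) : Set G) = ⊥ := by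
  classical
  set L : Subgroup G := Subgroup.normalClosure ((P : Subgroup G) : Set G) with hL
  have hPL : (P : Subgroup G) ≤ L := Subgroup.le_normalClosure
  haveI hLn : L.Normal := Subgroup.normalClosure_normal
  set PL : Sylow p ↥L := P.subtype hPL with hPLdef
  have hPLcoe : (PL : Subgroup ↥L) = (P : Subgroup G).subgroupOf L := Sylow.coe_subtype _ _
  have hbot : (PL : Subgroup ↥L) ⊓ pResidual p ↥L = ⊥ := sylow_inf_pResidual_eq_bot p P h
  set K : Subgroup G := (pResidual p ↥L).map L.subtype with hK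
  have hKn : K.Normal := ConjAct.normal_of_characteristic_of_normal
  refine ⟨K, hKn, ?_, ?_⟩
  · -- `K N = G`
    have h1 : (PL : Subgroup ↥L) ⊔ pResidual p ↥L = ⊤ :=
      Cfsg.Agent.Lib.Helper12.sup_pResidual_eq_top (PL : Subgroup ↥L) PL.not_dvd_index
    have h2 : L ≤ K ⊔ (P : Subgroup G) := by
      intro x hx
      have h3 : (⟨x, hx⟩ : ↥L) ∈ (PL : Subgroup ↥L) ⊔ pResidual p ↥L := by
        rw [h1]; exact Subgroup.mem_top _
      have h4 : L.subtype ⟨x, hx⟩ ∈ ((PL : Subgroup ↥L) ⊔ pResidual p ↥L).map L.subtype :=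
        Subgroup.mem_map_of_mem _ h3
      rw [Subgroup.map_sup, hPLcoe, Subgroup.subgroupOf_map_subtype, inf_of_le_left hPL, sup_comm] at h4
      exact h4
    have h5 : Subgroup.normalizer ((P : Subgroup G) : Set G) ⊔ L = ⊤ := by
      have := Sylow.normalizer_sup_eq_top PL
      rw [hPLcoe, Subgroup.subgroupOf_map_subtype, inf_of_le_left hPL] at this
      exact this
    rw [eq_top_iff, ← h5]
    apply sup_le le_sup_right
    exact h2.trans (sup_le_sup_left Subgroup.le_normalizer K)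
  · -- `K ∩ N = 1`
    rw [eq_bot_iff]
    intro x hx
    obtain ⟨hxK, hxN⟩ := Subgroup.mem_inf.mp hx
    obtain ⟨x', hx', rfl⟩ := hxK
    have hxP : ((x' : ↥L) : G) ∈ (P : Subgroup G) := mem_of_mem_normalClosure p P h hxN x'.2
    have h1 : x' ∈ (PL : Subgroup ↥L) ⊓ pResidual p ↥L := by
      refine Subgroup.mem_inf.mpr ⟨?_, hx'⟩
      rw [hPLcoe]
      exact Subgroup.mem_subgroupOf.mpr hxP
    rw [hbot, Subgroup.mem_bot] at h1
    rw [Subgroup.mem_bot, h1]
    rfl

/-- Conversely, a normal complement of a subgroup `H` lets every irreducible character of `H`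
extend to `G`. -/
theorem exists_extension_of_complement (H K : Subgroup G) [hKn : K.Normal] (hsup : K ⊔ H = ⊤)
    (hinf : K ⊓ H = ⊥) (θ : IrrCharacter ↥H) :
    ∃ χ : IrrCharacter G, ∀ x : ↥H, (χ : G → ℂ) x = (θ : ↥H → ℂ) x := by
  classical
  have hc : Subgroup.IsComplement' K H := by
    apply Subgroup.isComplement'_of_disjoint_and_mul_eq_univ (disjoint_iff.mpr hinf)
    rw [← Subgroup.normal_mul, hsup, Subgroup.coe_top]
  let π : G →* ↥H := Cfsg.Agent.Lib.Helper1.complProj hc
  have hπ : ∀ x : ↥H, π x = x := fun x =>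
    Subtype.ext (Cfsg.Agent.Lib.Helper1.complProj_of_mem hc x.2)
  have hsurj : Function.Surjective π := fun x => ⟨x, hπ x⟩
  obtain ⟨θf, n, ρ, hirr, rfl⟩ := θ
  refine ⟨⟨fun g => ρ.character (π g), n,
    (MonoidHom.comp ρ π : Representation ℂ G (Fin n → ℂ)),
    (isIrreducible_comp_iff π hsurj ρ).mpr hirr, rfl⟩, ?_⟩
  intro x
  change ρ.character (π x) = ρ.character x
  rw [hπ x]

end Cfsg.Agent.Lib.Helper6.SylNormExt
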