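import Mathlib
import Cfsg.Agent.Lib.Helper6.TRF
import Cfsg.Agent.Lib.Helper6.TRI
import Cfsg.Agent.Lib.Helper6.Ext320I

set_option autoImplicit false

/-! The classification of `2`-groups `T` with a four-group `V` of fixed points of an involutory
automorphism commuting with a fixed-point-free automorphism of order three: the final statement,
and the reduction from elements of an ambient group normalizing `T`. -/

namespace Cfsg.Agent.Lib.Helper6.TR

open Subgroup Cfsg.Agent.Lib.Helper6.Fpf3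
open scoped commutatorElement

universe u

/-- the classification under the abstract hypotheses -/
theorem Hyp.main {T : Type u} [Group T] [Finite T] {ρ τ : MulAut T} (h : Hyp ρ τ) :
    (Nat.card T = 16 ∧ ∀ x : T, x * x = 1) ∨
      (∃ n : ℕ, 1 ≤ n ∧
        Nonempty (T ≃* Multiplicative (ZMod (2 ^ n)) × Multiplicative (ZMod (2 ^ n)))) ∨
      (∃ (F : Type) (_ : Field F) (_ : Fintype F), Fintype.card F = 4 ∧
        ∀ P : Sylow 2 (Matrix.ProjectiveSpecialLinearGroup (Fin 3) F),
          Nonempty (T ≃* ↥(P : Subgroup (Matrix.ProjectiveSpecialLinearGroup (Fin 3) F)))) ∨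
      (∃ (F : Type) (_ : Field F) (_ : Fintype F), Fintype.card F = 16 ∧
        ∀ P : Sylow 2 (Cfsg.PSU 3 F 4),
          Nonempty (T ≃* ↥(P : Subgroup (Cfsg.PSU 3 F 4)))) := by
  by_cases hc : ∀ a b : T, a * b = b * a
  · rcases h.comm_class hc with h1 | h2
    · exact Or.inl h1
    · exact Or.inr (Or.inl h2)
  · rcases comm_or_card (Nat.card T) T ρ τ rfl h with hc' | h64
    · exact absurd hc' hc
    · exact Or.inr (Or.inr (special_class h.fpf h64 hc))

/-- conjugation by a normalizing element, as an automorphism of the subgroup -/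
def conjAut {G : Type*} [Group G] (T : Subgroup G) (g : G)
    (hg : g ∈ normalizer (T : Set G)) : MulAut T where
  toFun x := ⟨g * x * g⁻¹, (mem_normalizer_iff.mp hg x).mp x.2⟩
  invFun x := ⟨g⁻¹ * x * g, (mem_normalizer_iff''.mp hg x).mp x.2⟩
  left_inv x := by
    apply Subtype.ext
    show g⁻¹ * (g * x * g⁻¹) * g = x
    group
  right_inv x := by
    apply Subtype.ext
    show g * (g⁻¹ * x * g) * g⁻¹ = x
    group
  map_mul' x y := by
    apply Subtype.ext
    show g * (x * y) * g⁻¹ = (g * x * g⁻¹) * (g * y * g⁻¹)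
    group

theorem conjAut_coe {G : Type*} [Group G] (T : Subgroup G) (g : G)
    (hg : g ∈ normalizer (T : Set G)) (x : T) :
    ((conjAut T g hg x : T) : G) = g * x * g⁻¹ := rfl

section Reduction

variable {G : Type*} [Group G] (T V : Subgroup G) (t ρ : G)
  (htT : t ∈ normalizer (T : Set G)) (hρT : ρ ∈ normalizer (T : Set G))

theorem mem_fixedSub_conjAut (hCt : T ⊓ centralizer ({t} : Set G) = V) (y : T) :
    y ∈ fixedSub (conjAut T t htT) ↔ (y : G) ∈ V := by
  rw [mem_fixedSub, ← hCt, Subgroup.mem_inf, Subgroup.mem_centralizer_singleton_iff]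
  constructor
  · intro h
    refine ⟨y.2, ?_⟩
    have h1 : t * (y : G) * t⁻¹ = y := congrArg Subtype.val h
    calc (y : G) * t = (t * (y : G) * t⁻¹) * t := by rw [h1]
      _ = t * y := by group
  · rintro ⟨_, h⟩
    apply Subtype.ext
    show t * (y : G) * t⁻¹ = y
    rw [← h]
    group

theorem hyp_of_subgroup [Finite G] (hT : IsPGroup 2 ↥T)
    (hVT : V ≤ T ⊓ centralizer (T : Set G)) (hV : Nat.card ↥V = 4)
    (ht : t * t = 1) (hρ : ρ * ρ * ρ = 1) (hρV : ρ ∈ normalizer (V : Set G))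
    (htρ : t * ρ = ρ * t) (hVρ : ⁅V, zpowers ρ⁆ = V)
    (hCt : T ⊓ centralizer ({t} : Set G) = V) :
    Hyp (conjAut T ρ hρT) (conjAut T t htT) := by
  have htinv : t⁻¹ = t := inv_eq_of_mul_eq_one_left ht
  have htau2 : ∀ y : T, conjAut T t htT (conjAut T t htT y) = y := by
    intro y
    apply Subtype.ext
    show t * (t * (y : G) * t⁻¹) * t⁻¹ = y
    rw [htinv]
    calc t * (t * (y : G) * t) * t = (t * t) * y * (t * t) := by group
      _ = y := by rw [ht, one_mul, mul_one]
  have hcube : ∀ y : T, conjAut T ρ hρT (conjAut T ρ hρT (conjAut T ρ hρT y)) = y := by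
    intro y
    apply Subtype.ext
    show ρ * (ρ * (ρ * (y : G) * ρ⁻¹) * ρ⁻¹) * ρ⁻¹ = y
    calc ρ * (ρ * (ρ * (y : G) * ρ⁻¹) * ρ⁻¹) * ρ⁻¹
        = (ρ * ρ * ρ) * y * (ρ * ρ * ρ)⁻¹ := by group
      _ = y := by rw [hρ, inv_one, one_mul, mul_one]
  have hcomm : ∀ y : T, conjAut T t htT (conjAut T ρ hρT y) =
      conjAut T ρ hρT (conjAut T t htT y) := by
    intro y
    apply Subtype.ext
    show t * (ρ * (y : G) * ρ⁻¹) * t⁻¹ = ρ * (t * (y : G) * t⁻¹) * ρ⁻¹
    calc t * (ρ * (y : G) * ρ⁻¹) * t⁻¹ = (t * ρ) * y * (t * ρ)⁻¹ := by group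
      _ = (ρ * t) * y * (ρ * t)⁻¹ := by rw [htρ]
      _ = ρ * (t * (y : G) * t⁻¹) * ρ⁻¹ := by group
  have hfix : ∀ y : T, y ∈ fixedSub (conjAut T t htT) ↔ (y : G) ∈ V :=
    mem_fixedSub_conjAut T V t htT hCt
  have hVleT : V ≤ T := fun v hv => (hVT hv).1
  have hcard : Nat.card (fixedSub (conjAut T t htT)) = 4 := by
    have heq : fixedSub (conjAut T t htT) = V.subgroupOf T := by
      ext y
      rw [hfix, Subgroup.mem_subgroupOf]
    rw [heq, Nat.card_congr (Subgroup.subgroupOfEquivOfLe hVleT).toEquiv, hV]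
  have hρVmem : ∀ w ∈ V, ρ * w * ρ⁻¹ ∈ V := fun w hw => (mem_normalizer_iff.mp hρV w).mp hw
  have hfpf : ∀ y : T, conjAut T ρ hρT y = y → y = 1 := by
    intro y hy
    by_contra hy1
    -- the fixed points of `ρ` form a nontrivial `t`-invariant subgroup
    have hinv : ∀ z ∈ fixedSub (conjAut T ρ hρT), conjAut T t htT z ∈ fixedSub (conjAut T ρ hρT) := by
      intro z hz
      rw [mem_fixedSub] at hz ⊢
      rw [← hcomm, hz]
    have hne : fixedSub (conjAut T ρ hρT) ≠ ⊥ := by
      intro hbot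
      have : y ∈ fixedSub (conjAut T ρ hρT) := hy
      rw [hbot, Subgroup.mem_bot] at this
      exact hy1 this
    obtain ⟨z, hz, hz1, hzt⟩ := exists_fixed hT (conjAut T t htT) htau2 _ hinv hne
    have hzV : (z : G) ∈ V := (hfix z).mp hzt
    have hzρ : ρ * (z : G) * ρ⁻¹ = z := congrArg Subtype.val (mem_fixedSub.mp hz)
    have hzC : (z : G) ∈ V ⊓ centralizer ({ρ} : Set G) := by
      refine ⟨hzV, ?_⟩
      show (z : G) ∈ centralizer ({ρ} : Set G)
      rw [Subgroup.mem_centralizer_singleton_iff]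
      calc (z : G) * ρ = (ρ * (z : G) * ρ⁻¹) * ρ := by rw [hzρ]
        _ = ρ * z := by group
    have hz1' : (z : G) ≠ 1 := fun h => hz1 (Subtype.ext h)
    have : Fact (Nat.Prime 3) := ⟨Nat.prime_three⟩
    have hmod := Cfsg.Agent.Lib.Helper6.Ext320.card_modEq_card_fixed ρ 3
      (by rw [pow_succ, pow_succ, pow_one]; exact hρ) V hρVmem
    rw [hV] at hmod
    have hle : V ⊓ centralizer ({ρ} : Set G) ≤ V := inf_le_left
    have hdvd : Nat.card ↥(V ⊓ centralizer ({ρ} : Set G)) ∣ 4 := by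
      rw [← hV]
      exact Subgroup.card_dvd_of_le hle
    have hne1 : Nat.card ↥(V ⊓ centralizer ({ρ} : Set G)) ≠ 1 := by
      intro h1
      have hb := Subgroup.card_eq_one.mp h1
      rw [hb, Subgroup.mem_bot] at hzC
      exact hz1' hzC
    have h4 : Nat.card ↥(V ⊓ centralizer ({ρ} : Set G)) = 4 := by
      have hle4 : Nat.card ↥(V ⊓ centralizer ({ρ} : Set G)) ≤ 4 := Nat.le_of_dvd (by norm_num) hdvd
      have hmod' : 4 % 3 = Nat.card ↥(V ⊓ centralizer ({ρ} : Set G)) % 3 := hmod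
      have hpos : 0 < Nat.card ↥(V ⊓ centralizer ({ρ} : Set G)) := Nat.card_pos
      interval_cases hk : Nat.card ↥(V ⊓ centralizer ({ρ} : Set G)) <;> simp_all
    have heqV : V ⊓ centralizer ({ρ} : Set G) = V := by
      apply Subgroup.eq_of_le_of_card_ge hle
      rw [h4, hV]
    have hVc : V ≤ centralizer (zpowers ρ : Set G) := by
      intro v hv
      rw [← heqV] at hv
      have hvρ : v * ρ = ρ * v := Subgroup.mem_centralizer_singleton_iff.mp hv.2
      rw [Subgroup.mem_centralizer_iff]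
      rintro h ⟨k, rfl⟩
      have : Commute v ρ := hvρ
      exact (this.zpow_right k).eq.symm
    have hbot : ⁅V, zpowers ρ⁆ = ⊥ := Subgroup.commutator_eq_bot_iff_le_centralizer.mpr hVc
    rw [hVρ] at hbot
    rw [hbot, Subgroup.card_bot] at hV
    norm_num at hV
  refine ⟨⟨hcube, hfpf⟩, htau2, hcomm, ?_, hcard, hT⟩
  intro y hy
  rw [Subgroup.mem_center_iff]
  intro g
  have hyV : (y : G) ∈ V := (hfix y).mp hy
  have hyc : (y : G) ∈ centralizer (T : Set G) := (hVT hyV).2
  apply Subtype.ext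
  show (g : G) * y = y * g
  exact (Subgroup.mem_centralizer_iff.mp hyc g g.2)

end Reduction

end Cfsg.Agent.Lib.Helper6.TR
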