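import Mathlib
import Cfsg.Agent.Lib.Helper5.TWS.Defs

/-!
S5668-I market (planner helper5, notes/S5668_I_leaves.lean): leaf **I0** `nonempty_RS` (helper6), exact signature.
-/

set_option autoImplicit false
set_option linter.unusedSectionVars false
set_option linter.unusedVariables false

namespace Cfsg.Agent.Lib.Helper6.TWSLeaf
open Matrix Cfsg.Geo Cfsg.Agent.Lib.Helper18.AschA89 Cfsg.Agent.Lib.Helper8.TW Cfsg.Agent.Lib.Helper5.TWS
open Cfsg.Agent.Lib.Helper25.SpT (sf Jm sfv)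

variable {F : Type*} [Field F] [Fintype F] {t k : ℕ}

/-- I0 (S) -/
theorem nonempty_RS (hk : Even k) (hk2 : 2 ≤ k) (ht : 0 < t) : ∃ r : RD t k F, RS r := by
  have hy0 : (Pi.single (⟨0, by omega⟩ : Fin k) (1 : F) : Fin k → F) ≠ 0 := by
    intro h
    have := congrFun h ⟨0, by omega⟩
    simp at this
  exact ⟨srd hk ⟨0, ht⟩ _ hy0, srd_RS hk ⟨0, ht⟩ _ hy0⟩

end Cfsg.Agent.Lib.Helper6.TWSLeaf
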