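import Mathlib
import Cfsg.Agent.Lib.Helper5.TWS.Defs
import Cfsg.Agent.Lib.Helper8.TW.Defs
import Cfsg.Agent.Lib.Helper22.TWExtBasic
import Cfsg.Agent.Lib.Helper22.TWExtMore
import Cfsg.Agent.Lib.Helper26.TWFibA
import Cfsg.Agent.Lib.Helper12.TWIIBZ
import Cfsg.Agent.Lib.Helper17.TWUIIR1a
import Cfsg.Agent.Lib.Helper14.TWIIDefs
import Cfsg.Agent.Lib.Helper14.TWSIIDefs
import Cfsg.Agent.Lib.Helper18.TWSIIU567
import Cfsg.Agent.Lib.Helper16.TWSIIEta
import Cfsg.Agent.Lib.Helper23.TWSIIU3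
import Cfsg.Agent.Lib.Helper9.TWST
import Cfsg.Agent.Lib.Helper1.TWST2
import Cfsg.Agent.Lib.Helper6.TWSTens
import Cfsg.Agent.Lib.Helper6.TWSIIR1

/-!
S5668 (C7 symplectic; owner helper5) Stage II-B (sub-planner helper14): tools for leaf R2 `R1S_reduce` (helper6).
* `mem_Wf_of_ctr_sfv6`: the fibre `W(i,y)` through the contractions with `w†`, `w ⊥ y`;
* `flagNil_of_InUS6`: `u - 1` is flag-nilpotent for `u ∈ U^W`;
* `isom_identity6`: the isometry identity (III) for an isometry `u ∈ U^W` with `C → W` part `sf w v • ρ`;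
* `shape_of_skew6`: an isometry `u ∈ U^W` with SKEW `C → W` part `sf w v • σ` is `1 - ext σ * slot (v ∧ y) - ext T * N_y`.
-/

set_option autoImplicit false
set_option linter.unusedSectionVars false
set_option linter.unusedVariables false

namespace Cfsg.Agent.Lib.Helper6.TWSIILeaf
open Matrix Cfsg.Geo Cfsg.Agent.Lib.Helper18.AschA89 Cfsg.Agent.Lib.Helper8.TW Cfsg.Agent.Lib.Helper5.TWS
  Cfsg.Agent.Lib.Helper14.TWII Cfsg.Agent.Lib.Helper14.TWSII
open Cfsg.Agent.Lib.Helper25.SpT (sf Jm sfv)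
open Cfsg.Agent.Lib.Helper22.TWLeaf
open Cfsg.Agent.Lib.Helper12.TWIIBLeaf (mv_mul' mv_sub mv_one mv_inv_mv mv_mv_inv)
open Cfsg.Agent.Lib.Helper6.TWSLeaf (sfT_tens sfT_tens_right)
open Cfsg.Agent.Lib.Helper17.TWUIILeaf (FlagNil comm_flag tens_add_right17 tens_sub_right17 tens_smul_right17
  tens_smul_left17 tens_zero_right17 ctr_add_left17 ctr_sub_left17 ctr_smul_left17 ctr_zero_left17 ctr_sub17)

variable {F : Type*} [Field F] [Fintype F] {t k : ℕ}

/-- every functional killing `y` is `w†` for some `w ⊥ y` -/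
lemma exists_sfv_eq6 (hk : Even k) (ξ : Fin k → F) : ∃ w : Fin k → F, sfv w = ξ := by
  refine ⟨-((Jm k : Matrix (Fin k) (Fin k) F) *ᵥ ξ), ?_⟩
  unfold sfv
  rw [Matrix.mulVec_neg, Matrix.mulVec_mulVec, Cfsg.Agent.Lib.Helper1.TWST2.Jm_mul_Jm hk, Matrix.neg_mulVec,
    Matrix.one_mulVec, neg_neg]

/-- the fibre `W(i,y)` through the contractions with `w†`, `w ⊥ y` -/
lemma mem_Wf_of_ctr_sfv6 (hk : Even k) (i : Fin (t + 1)) (y : Fin k → F) (z : Idx (t + 1) k → F)
    (h : ∀ w : Fin k → F, sf w y = 0 → ctr i (sfv w) z = 0) : z ∈ Wf i y := by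
  unfold Wf
  rw [mem_fib_iff_ctr]
  intro ξ hξ
  obtain ⟨w, rfl⟩ := exists_sfv_eq6 hk ξ
  apply h
  have h1 := hξ y (Submodule.mem_span_singleton_self y)
  rw [Cfsg.Agent.Lib.Helper25.SpT.sfv_dot] at h1
  rw [Cfsg.Agent.Lib.Helper25.SpT.sf_skew, h1, neg_zero]

/-- `u - 1` is flag-nilpotent for `u ∈ U^W` -/
lemma flagNil_of_InUS6 (i : Fin t) (y : Fin k → F) (u : GL (Idx t k) F) (hu : InUS i y u) :
    FlagNil (Wf i y) (Cf i (sfv y)) ((u : Matrix (Idx t k) (Idx t k) F) - 1) := by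
  have e : ∀ v, ((u : Matrix (Idx t k) (Idx t k) F) - 1) *ᵥ v = mv u v - v := by
    intro v
    rw [Matrix.sub_mulVec, Matrix.one_mulVec]
    rfl
  refine ⟨?_, ?_, ?_⟩
  · intro v
    rw [e]
    exact hu.2.2 v
  · intro v hv'
    rw [e]
    exact hu.2.1 v hv'
  · intro v hv'
    rw [e, hu.1 v hv', sub_self]

lemma tens_neg_left6 (i : Fin (t + 1)) (b : Idx t k → F) (a : Fin k → F) : tens i (-b) a = - tens i b a := by
  have := tens_smul_left17 i (-1 : F) b a
  rw [neg_one_smul, neg_one_smul] at this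
  exact this

lemma tens_add_left6 (i : Fin (t + 1)) (b b' : Idx t k → F) (a : Fin k → F) :
    tens i (b + b') a = tens i b a + tens i b' a := by
  funext z
  simp only [tens, Pi.add_apply]
  ring

lemma tens_sub_left6 (i : Fin (t + 1)) (b b' : Idx t k → F) (a : Fin k → F) :
    tens i (b - b') a = tens i b a - tens i b' a := by
  funext z
  simp only [tens, Pi.sub_apply]
  ring

/-- the isometry identity (III) -/
lemma isom_identity6 (i : Fin (t + 1)) (y y' v : Fin k → F) (hyy' : sf y y' = 1)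
    (u : GL (Idx (t + 1) k) F) (huS : u ∈ GSV (t + 1) k F) (hu : InUS i y u)
    (ρ : Matrix (Idx t k) (Idx t k) F)
    (hρ : ∀ w : Fin k → F, sf w y = 0 → ∀ b : Idx t k → F, mv u (tens i b w) = tens i b w + sf w v • tens i (ρ *ᵥ b) y)
    (w : Fin k → F) (hw : sf w y = 0) (b b₁ : Idx t k → F) :
    sfT (ctr i (sfv w) (mv u (tens i b y') - tens i b y')) b₁ = sf w v * sfT b (ρ *ᵥ b₁) := by
  have hy'y : sf y' y = -1 := by rw [Cfsg.Agent.Lib.Helper25.SpT.sf_skew, hyy']
  have hiso := (mem_GSV.1 huS) (tens i b y') (tens i b₁ w)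
  rw [sfT_tens] at hiso
  have hC : ctr i (sfv y) (mv u (tens i b y') - tens i b y') = 0 :=
    (mem_Cf_iff_ctr i (sfv y) _).1 (hu.2.2 _)
  have e1 : ctr i (sfv w) (mv u (tens i b y')) =
      ctr i (sfv w) (mv u (tens i b y') - tens i b y') + sf y' w • b := by
    have : mv u (tens i b y') = (mv u (tens i b y') - tens i b y') + tens i b y' := by abel
    conv_lhs => rw [this]
    rw [ctr_add, ctr_tens, Cfsg.Agent.Lib.Helper25.SpT.sfv_dot]
  have e2 : ctr i (sfv y) (mv u (tens i b y')) = (-1 : F) • b := by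
    have : mv u (tens i b y') = (mv u (tens i b y') - tens i b y') + tens i b y' := by abel
    conv_lhs => rw [this]
    rw [ctr_add, hC, zero_add, ctr_tens, Cfsg.Agent.Lib.Helper25.SpT.sfv_dot, hy'y]
  rw [hρ w hw b₁, sfT_add_right, sfT_smul_right, sfT_tens_right, sfT_tens_right, e1, e2, sfT_add_left,
    sfT_smul_left, sfT_smul_left] at hiso
  linear_combination hiso

/-- a linear map on `B` is a matrix -/
lemma exists_mat_of_linear6 {κ : Type} [Fintype κ] [DecidableEq κ] (f : (κ → F) → (κ → F))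
    (hadd : ∀ b b', f (b + b') = f b + f b') (hsmul : ∀ (c : F) b, f (c • b) = c • f b) :
    ∃ T : Matrix κ κ F, ∀ b, T *ᵥ b = f b := by
  let L : (κ → F) →ₗ[F] (κ → F) :=
    { toFun := f
      map_add' := hadd
      map_smul' := by
        intro c b
        rw [hsmul]
        rfl }
  refine ⟨LinearMap.toMatrix' L, fun b => ?_⟩
  rw [← Matrix.toLin'_apply, Matrix.toLin'_toMatrix']
  rfl

lemma wedS_mulVec6 (v y a : Fin k → F) : wedS v y *ᵥ a = sf a y • v - sf a v • y := by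
  unfold wedS
  rw [Matrix.sub_mulVec, vmv_mulVec6, vmv_mulVec6]

/-- the action of `1 - ext σ * slot (v ∧ y) - ext T * N_y` on `b ⊗ a` -/
lemma shape_mulVec_tens6 (i : Fin (t + 1)) (y v : Fin k → F) (σ T : Matrix (Idx t k) (Idx t k) F)
    (b : Idx t k → F) (a : Fin k → F) :
    (ext i σ * slot k (t + 1) i (wedS v y) + ext i T * rootN i y (sfv y)) *ᵥ tens i b a =
      sf a y • tens i (σ *ᵥ b) v - sf a v • tens i (σ *ᵥ b) y + sf a y • tens i (T *ᵥ b) y := by
  rw [Matrix.add_mulVec, ← Matrix.mulVec_mulVec, ← Matrix.mulVec_mulVec, slot_mulVec_tens, ext_mulVec_tens,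
    Cfsg.Agent.Lib.Helper23.TWSIILeaf.s3_rootN_tens, Matrix.mulVec_smul, ext_mulVec_tens, wedS_mulVec6,
    tens_sub_right17, tens_smul_right17, tens_smul_right17, Cfsg.Agent.Lib.Helper25.SpT.sfv_dot]

/-- an isometry `u ∈ U^W` with SKEW `C → W` part `sf w v • σ` -/
lemma shape_of_skew6 (hk : Even k) (i : Fin (t + 1)) (y y' v : Fin k → F) (hyy' : sf y y' = 1)
    (hvy : sf v y = 0) (hvy' : sf v y' = 0)
    (u : GL (Idx (t + 1) k) F) (huS : u ∈ GSV (t + 1) k F) (hu : InUS i y u)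
    (σ : Matrix (Idx t k) (Idx t k) F) (hσ : SkewT σ)
    (hρ : ∀ w : Fin k → F, sf w y = 0 → ∀ b : Idx t k → F, mv u (tens i b w) = tens i b w + sf w v • tens i (σ *ᵥ b) y) :
    ∃ T : Matrix (Idx t k) (Idx t k) F,
      (u : Matrix (Idx (t + 1) k) (Idx (t + 1) k) F) =
        1 - (ext i σ * slot k (t + 1) i (wedS v y) + ext i T * rootN i y (sfv y)) := by
  classical
  have hy0 : y ≠ 0 := by
    rintro rfl
    rw [Cfsg.Agent.Lib.Helper25.SpT.sf_zero_left] at hyy'
    exact zero_ne_one hyy'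
  have hy'y : sf y' y = -1 := by rw [Cfsg.Agent.Lib.Helper25.SpT.sf_skew, hyy']
  have hy'v : sf y' v = 0 := by rw [Cfsg.Agent.Lib.Helper25.SpT.sf_skew, hvy', neg_zero]
  -- the matrix `T`
  obtain ⟨T, hT⟩ := exists_mat_of_linear6 (fun b : Idx t k → F => ctr i (sfv y') (mv u (tens i b y') - tens i b y'))
    (by
      intro b b'
      have e : mv u (tens i (b + b') y') - tens i (b + b') y' =
          (mv u (tens i b y') - tens i b y') + (mv u (tens i b' y') - tens i b' y') := by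
        rw [tens_add_left6, mv_add6]; abel
      change ctr i (sfv y') (mv u (tens i (b + b') y') - tens i (b + b') y') = _
      rw [e, ctr_add])
    (by
      intro c b
      have e : mv u (tens i (c • b) y') - tens i (c • b) y' = c • (mv u (tens i b y') - tens i b y') := by
        rw [tens_smul_left17, mv_smul6, smul_sub]
      change ctr i (sfv y') (mv u (tens i (c • b) y') - tens i (c • b) y') = _
      rw [e, ctr_smul])
  refine ⟨T, ?_⟩
  -- the image of `b ⊗ y'`
  have key : ∀ b : Idx t k → F, mv u (tens i b y') = tens i b y' + tens i (σ *ᵥ b) v + tens i (T *ᵥ b) y := by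
    intro b
    have h1 : ∀ w : Fin k → F, sf w y = 0 →
        ctr i (sfv w) (mv u (tens i b y') - tens i b y') = -(sf w v • (σ *ᵥ b)) := by
      intro w hw
      have h0 : ctr i (sfv w) (mv u (tens i b y') - tens i b y') + sf w v • (σ *ᵥ b) = 0 := by
        apply Cfsg.Agent.Lib.Helper9.TWST.sfT_nondeg_left hk
        intro b₁
        rw [sfT_add_left, sfT_smul_left, isom_identity6 i y y' v hyy' u huS hu σ hρ w hw b b₁, hσ b b₁]
        ring
      exact eq_neg_of_add_eq_zero_left h0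
    have hz : mv u (tens i b y') - tens i b y' - tens i (σ *ᵥ b) v ∈ Wf i y := by
      apply mem_Wf_of_ctr_sfv6 hk
      intro w hw
      rw [ctr_sub17, h1 w hw, ctr_tens, Cfsg.Agent.Lib.Helper25.SpT.sfv_dot,
        Cfsg.Agent.Lib.Helper25.SpT.sf_skew v w, neg_smul, sub_neg_eq_add, neg_add_cancel]
    obtain ⟨b'', hb''⟩ := (mem_Wf_iff_tens i y hy0 _).1 hz
    have hb2 : T *ᵥ b = b'' := by
      rw [hT]
      have := congrArg (ctr i (sfv y')) hb''
      rw [ctr_sub17, ctr_tens, ctr_tens, Cfsg.Agent.Lib.Helper25.SpT.sfv_dot, Cfsg.Agent.Lib.Helper25.SpT.sfv_dot,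
        hvy', hyy', zero_smul, one_smul, sub_zero] at this
      exact this
    rw [hb2, ← hb'']
    abel
  apply Cfsg.Agent.Lib.Helper23.TWSIILeaf.s3_mat_eq_of_tens i
  intro b a
  rw [Matrix.sub_mulVec, Matrix.one_mulVec, shape_mulVec_tens6]
  -- decompose `a`
  have ha₀ : sf (a - sf y a • y') y = 0 := by
    rw [Cfsg.Agent.Lib.Helper25.SpT.sf_sub_left, Cfsg.Agent.Lib.Helper25.SpT.sf_smul_left, hy'y,
      Cfsg.Agent.Lib.Helper25.SpT.sf_skew y a]
    ring
  have ha₀v : sf (a - sf y a • y') v = sf a v := by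
    rw [Cfsg.Agent.Lib.Helper25.SpT.sf_sub_left, Cfsg.Agent.Lib.Helper25.SpT.sf_smul_left, hy'v, mul_zero, sub_zero]
  have hdec : tens i b a = tens i b (a - sf y a • y') + sf y a • tens i b y' := by
    rw [← tens_smul_right17, ← tens_add_right17]
    congr 1
    abel
  have hL : (u : Matrix (Idx (t + 1) k) (Idx (t + 1) k) F) *ᵥ tens i b a = mv u (tens i b a) := rfl
  rw [hL]
  conv_lhs => rw [hdec, mv_add6, mv_smul6, hρ _ ha₀ b, key b, ha₀v]
  conv_rhs => rw [hdec]
  rw [Cfsg.Agent.Lib.Helper25.SpT.sf_skew a y]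
  simp only [smul_add, neg_smul]
  abel

end Cfsg.Agent.Lib.Helper6.TWSIILeaf
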