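import Mathlib
import Cfsg.Agent.Lib.Helper5.TWS.Defs
import Cfsg.Agent.Lib.Helper8.TW.Defs
import Cfsg.Agent.Lib.Helper22.TWExtBasic
import Cfsg.Agent.Lib.Helper22.TWExtMore
import Cfsg.Agent.Lib.Helper22.TWQK
import Cfsg.Agent.Lib.Helper26.TWFibA
import Cfsg.Agent.Lib.Helper12.TWIIBZ
import Cfsg.Agent.Lib.Helper17.TWUIIR1a
import Cfsg.Agent.Lib.Helper14.TWIIDefs
import Cfsg.Agent.Lib.Helper14.TWSIIDefs
import Cfsg.Agent.Lib.Helper18.TWSIIU567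
import Cfsg.Agent.Lib.Helper16.TWSIIEta
import Cfsg.Agent.Lib.Helper26.TWSIIT2
import Cfsg.Agent.Lib.Helper23.TWSIIU3
import Cfsg.Agent.Lib.Helper9.TWST
import Cfsg.Agent.Lib.Helper6.TWSTens
import Cfsg.Agent.Lib.Helper6.TWSIIR1
import Cfsg.Agent.Lib.Helper6.TWSIIR2a

/-!
S5668 (C7 symplectic; owner helper5) Stage II-B (the descent; sub-planner helper14), leaf R2 `R1S_reduce` (helper6):
REDUCTION of an element of `X ∩ U^W` with pure `C → W` part `sf w v • ρ` to a skew element `1 + ext σ * slot (v ∧ y) + ext T * N_y`.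
Exact signature of `notes/S5668_II_leaves.lean`.  Tools: `Helper6.TWSIIR2a`.
-/

set_option autoImplicit false
set_option linter.unusedSectionVars false
set_option linter.unusedVariables false

namespace Cfsg.Agent.Lib.Helper6.TWSIILeaf
open Matrix Cfsg.Geo Cfsg.Agent.Lib.Helper18.AschA89 Cfsg.Agent.Lib.Helper8.TW Cfsg.Agent.Lib.Helper5.TWS
  Cfsg.Agent.Lib.Helper14.TWII Cfsg.Agent.Lib.Helper14.TWSII
open Cfsg.Agent.Lib.Helper25.SpT (sf Jm sfv)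
open Cfsg.Agent.Lib.Helper23.TWUQ (NSp)
open Cfsg.Agent.Lib.Helper22.TWLeaf
open Cfsg.Agent.Lib.Helper12.TWIIBLeaf (mv_mul' mv_sub mv_one mv_inv_mv mv_mv_inv)
open Cfsg.Agent.Lib.Helper6.TWSLeaf (sfT_tens sfT_tens_right)
open Cfsg.Agent.Lib.Helper17.TWUIILeaf (FlagNil comm_flag tens_add_right17 tens_sub_right17 tens_smul_right17
  tens_smul_left17 tens_zero_right17 ctr_add_left17 ctr_sub_left17 ctr_smul_left17 ctr_zero_left17 ctr_sub17)

variable {F : Type*} [Field F] [Fintype F] {t k : ℕ}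

lemma vecMul_etaS6 (y w z : Fin k → F) :
    sfv z ᵥ* etaS y w 0 = sfv z + sf w z • sfv y + sf y z • sfv w := by
  unfold etaS
  rw [zero_smul, add_zero, Matrix.vecMul_add, Matrix.vecMul_add, Matrix.vecMul_one, vecMul_vmv6, vecMul_vmv6]

/-- (1b): `ρ + ρ^*` is scalar, by the commutator with a Heisenberg element -/
lemma rho_adjoint6 (hk2 : 2 ≤ k) (X : Subgroup (GL (Idx (t + 1) k) F))
    (hHX : HS (t + 1) k F ≤ X) (i : Fin (t + 1)) (y y' v w : Fin k → F) (hyy' : sf y y' = 1) (hw : sf w y = 0)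
    (hB : ∀ u ∈ X, InZ i y u → u ∈ Gstd (t + 1) k F) (u' : GL (Idx (t + 1) k) F) (hu'X : u' ∈ X)
    (hu'S : u' ∈ GSV (t + 1) k F) (hu' : InUS i y u')
    (ρ : Matrix (Idx t k) (Idx t k) F)
    (hρ : ∀ w : Fin k → F, sf w y = 0 → ∀ b : Idx t k → F, mv u' (tens i b w) = tens i b w + sf w v • tens i (ρ *ᵥ b) y) :
    ∃ s : F, ∀ b b₁ : Idx t k → F, sf w v * (sfT (ρ *ᵥ b) b₁ + sfT b (ρ *ᵥ b₁)) = s * sfT b b₁ := by
  classical
  have hy0 : y ≠ 0 := by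
    rintro rfl
    rw [Cfsg.Agent.Lib.Helper25.SpT.sf_zero_left] at hyy'
    exact zero_ne_one hyy'
  have hy'y : sf y' y = -1 := by rw [Cfsg.Agent.Lib.Helper25.SpT.sf_skew, hyy']
  obtain ⟨η, hη, hηG, hηy⟩ := Cfsg.Agent.Lib.Helper16.TWSIILeaf.etaS_mem y w (0 : F) hw
  have haH : slotGL i η ∈ HS (t + 1) k F := Cfsg.Agent.Lib.Helper26.TWSIILeaf.slotGL_mem_HS i η hηG
  have haU : InUS i y (slotGL i η) := Cfsg.Agent.Lib.Helper16.TWSIILeaf.InUS_slot_eta i y w 0 hw η hη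
  obtain ⟨D, hD⟩ : ∃ D : Matrix (Idx (t + 1) k) (Idx (t + 1) k) F,
      D = (u' : Matrix (Idx (t + 1) k) (Idx (t + 1) k) F) - 1 := ⟨_, rfl⟩
  obtain ⟨E, hE⟩ : ∃ E : Matrix (Idx (t + 1) k) (Idx (t + 1) k) F,
      E = ((slotGL i η : GL (Idx (t + 1) k) F) : Matrix (Idx (t + 1) k) (Idx (t + 1) k) F) - 1 := ⟨_, rfl⟩
  have huD : (u' : Matrix (Idx (t + 1) k) (Idx (t + 1) k) F) = 1 + D := by rw [hD]; abel
  have haE : ((slotGL i η : GL (Idx (t + 1) k) F) : Matrix (Idx (t + 1) k) (Idx (t + 1) k) F) = 1 + E := by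
    rw [hE]; abel
  have hDnil : FlagNil (Wf i y) (Cf i (sfv y)) D := by rw [hD]; exact flagNil_of_InUS6 i y u' hu'
  have hEnil : FlagNil (Wf i y) (Cf i (sfv y)) E := by rw [hE]; exact flagNil_of_InUS6 i y _ haU
  have hDv : ∀ x, D *ᵥ x = mv u' x - x := by
    intro x
    rw [hD, Matrix.sub_mulVec, Matrix.one_mulVec]
    rfl
  have hEv : ∀ x, E *ᵥ x = mv (slotGL i η) x - x := by
    intro x
    rw [hE, Matrix.sub_mulVec, Matrix.one_mulVec]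
    rfl
  have hcomm := comm_flag u' (slotGL i η) D E huD haE hDnil hEnil
  have hκX : u' * slotGL i η * u'⁻¹ * (slotGL i η)⁻¹ ∈ X :=
    X.mul_mem (X.mul_mem (X.mul_mem hu'X (hHX haH)) (X.inv_mem hu'X)) (X.inv_mem (hHX haH))
  have hmvκ : ∀ x, mv (u' * slotGL i η * u'⁻¹ * (slotGL i η)⁻¹) x = x + (D * E - E * D) *ᵥ x := by
    intro x
    unfold mv
    rw [hcomm, Matrix.add_mulVec, Matrix.one_mulVec]
  have hZW : ∀ x, (D * E - E * D) *ᵥ x ∈ Wf i y := by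
    intro x
    rw [Matrix.sub_mulVec, ← Matrix.mulVec_mulVec, ← Matrix.mulVec_mulVec]
    exact (Wf i y).sub_mem (hDnil.toW _ (hEnil.toC x)) (hEnil.toW _ (hDnil.toC x))
  have hZ0 : ∀ x ∈ Wf i y, (D * E - E * D) *ᵥ x = 0 := by
    intro x hx
    rw [Matrix.sub_mulVec, ← Matrix.mulVec_mulVec, ← Matrix.mulVec_mulVec, hEnil.zero x hx, hDnil.zero x hx,
      Matrix.mulVec_zero, Matrix.mulVec_zero, sub_zero]
  have hκZ : InZ i y (u' * slotGL i η * u'⁻¹ * (slotGL i η)⁻¹) := by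
    refine ⟨fun x => ?_, fun x hx => ?_⟩
    · rw [hmvκ, add_sub_cancel_left]
      exact hZW x
    · rw [hmvκ, hZ0 x hx, add_zero]
  have hκG := hB _ hκX hκZ
  obtain ⟨ξ, hξy, hκval⟩ := Cfsg.Agent.Lib.Helper22.TWQLeaf.K_lemma hk2 _ hκG i y hy0 hκZ.2 hκZ.1
  have hZeq : D * E - E * D = rootN i y ξ := add_left_cancel (hcomm.symm.trans hκval)
  refine ⟨-(ξ ⬝ᵥ y'), fun b b₁ => ?_⟩
  -- evaluate at `b ⊗ y'`
  have h1 : (D * E - E * D) *ᵥ tens i b y' = (ξ ⬝ᵥ y') • tens i b y := by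
    rw [hZeq, Cfsg.Agent.Lib.Helper23.TWSIILeaf.s3_rootN_tens]
  have hEy' : E *ᵥ tens i b y' = sf y' w • tens i b y - tens i b w := by
    rw [hEv, mv_slotGL_tens6, hη, Cfsg.Agent.Lib.Helper16.TWSIILeaf.etaS_mulVec, hy'y, zero_mul, zero_smul,
      add_zero, tens_add_right17, tens_add_right17, tens_smul_right17, tens_smul_right17, neg_one_smul]
    abel
  have hDW : ∀ b' : Idx t k → F, D *ᵥ tens i b' y = 0 := fun b' =>
    hDnil.zero _ ((mem_Wf_iff_tens i y hy0 _).2 ⟨b', rfl⟩)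
  have hDE : D *ᵥ (E *ᵥ tens i b y') = -(sf w v • tens i (ρ *ᵥ b) y) := by
    rw [hEy', Matrix.mulVec_sub, Matrix.mulVec_smul, hDW, smul_zero, zero_sub, hDv, hρ w hw b, add_sub_cancel_left]
  have hx : D *ᵥ tens i b y' = mv u' (tens i b y') - tens i b y' := hDv _
  have hC : ctr i (sfv y) (mv u' (tens i b y') - tens i b y') = 0 :=
    (mem_Cf_iff_ctr i (sfv y) _).1 (hu'.2.2 _)
  have hED : ctr i (sfv y') (E *ᵥ (D *ᵥ tens i b y')) = ctr i (sfv w) (mv u' (tens i b y') - tens i b y') := by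
    rw [hx, hEv, ctr_sub17]
    unfold mv
    rw [slotGL_val, ctr_slot_mulVec, hη, vecMul_etaS6, hyy', one_smul, ctr_add_left17, ctr_add_left17,
      ctr_smul_left17]
    have hC' : ctr i (sfv y) ((u' : Matrix (Idx (t + 1) k) (Idx (t + 1) k) F) *ᵥ tens i b y' - tens i b y') = 0 := hC
    rw [hC', smul_zero, add_zero]
    abel
  have h3 : -(sf w v • (ρ *ᵥ b)) - ctr i (sfv w) (mv u' (tens i b y') - tens i b y') = (ξ ⬝ᵥ y') • b := by
    have h2 : (D * E - E * D) *ᵥ tens i b y' = D *ᵥ (E *ᵥ tens i b y') - E *ᵥ (D *ᵥ tens i b y') := by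
      rw [Matrix.sub_mulVec, ← Matrix.mulVec_mulVec, ← Matrix.mulVec_mulVec]
    have h4 := congrArg (ctr i (sfv y')) (h2.symm.trans h1)
    rw [ctr_sub17, hED, hDE, ctr_smul, ctr_tens, Cfsg.Agent.Lib.Helper25.SpT.sfv_dot, hyy', one_smul] at h4
    have e5 : ctr i (sfv y') (-(sf w v • tens i (ρ *ᵥ b) y)) = -(sf w v • (ρ *ᵥ b)) := by
      have : -(sf w v • tens i (ρ *ᵥ b) y) = (-(sf w v)) • tens i (ρ *ᵥ b) y := by rw [neg_smul]
      rw [this, ctr_smul, ctr_tens, Cfsg.Agent.Lib.Helper25.SpT.sfv_dot, hyy', one_smul, neg_smul]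
    rw [e5] at h4
    exact h4
  have hIII := isom_identity6 i y y' v hyy' u' hu'S hu' ρ hρ w hw b b₁
  have h5 := congrArg (fun z => sfT z b₁) h3
  simp only [sfT_sub_left, sfT_neg_left, sfT_smul_left] at h5
  rw [hIII] at h5
  linear_combination (-1 : F) * h5

/-- `Y = ext σ * slot (v ∧ y) + ext T * N_y` has square zero (`v ⊥ y`) -/
lemma shape_sq6 (i : Fin (t + 1)) (y v : Fin k → F) (hvy : sf v y = 0) (σ T : Matrix (Idx t k) (Idx t k) F) :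
    (ext i σ * slot k (t + 1) i (wedS v y) + ext i T * rootN i y (sfv y)) *
      (ext i σ * slot k (t + 1) i (wedS v y) + ext i T * rootN i y (sfv y)) = 0 := by
  have hyv : sf y v = 0 := by rw [Cfsg.Agent.Lib.Helper25.SpT.sf_skew, hvy, neg_zero]
  apply Cfsg.Agent.Lib.Helper23.TWSIILeaf.s3_mat_eq_of_tens i
  intro b a
  rw [← Matrix.mulVec_mulVec, shape_mulVec_tens6, Matrix.mulVec_add, Matrix.mulVec_sub, Matrix.mulVec_smul,
    Matrix.mulVec_smul, Matrix.mulVec_smul, shape_mulVec_tens6, shape_mulVec_tens6, shape_mulVec_tens6, hvy, hyv,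
    Cfsg.Agent.Lib.Helper25.SpT.sf_self, Cfsg.Agent.Lib.Helper25.SpT.sf_self, Matrix.zero_mulVec]
  simp only [zero_smul, smul_zero, sub_zero, add_zero]

/-- R2 (L) REDUCTION to a skew element -/
theorem R1S_reduce (hodd : Odd (Fintype.card F)) (hk : Even k) (hk4 : 4 ≤ k) (X : Subgroup (GL (Idx (t + 1) k) F))
    (hHX : HS (t + 1) k F ≤ X) (hXD : X ≤ DSV (t + 1) k F) (i : Fin (t + 1)) (y y' v : Fin k → F) (hyy' : sf y y' = 1)
    (hv0 : v ≠ 0) (hvy : sf v y = 0) (hvy' : sf v y' = 0)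
    (hB : ∀ u ∈ X, InZ i y u → u ∈ Gstd (t + 1) k F) (u' : GL (Idx (t + 1) k) F) (hu'X : u' ∈ X) (hu' : InUS i y u')
    (ρ : Matrix (Idx t k) (Idx t k) F)
    (hρ : ∀ w : Fin k → F, sf w y = 0 → ∀ b : Idx t k → F, mv u' (tens i b w) = tens i b w + sf w v • tens i (ρ *ᵥ b) y) :
    ∃ (s : F) (σ T : Matrix (Idx t k) (Idx t k) F) (u₂ : GL (Idx (t + 1) k) F), ρ = s • 1 + σ ∧ SkewT σ ∧ u₂ ∈ X ∧
      (u₂ : Matrix (Idx (t + 1) k) (Idx (t + 1) k) F) =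
        1 + ext i σ * slot k (t + 1) i (wedS v y) + ext i T * rootN i y (sfv y) := by
  classical
  have hk2 : 2 ≤ k := by omega
  have h2 : (2 : F) ≠ 0 := Cfsg.Agent.Lib.Helper18.TWSIILeaf.two_ne_zero_S hodd
  have hy0 : y ≠ 0 := by
    rintro rfl
    rw [Cfsg.Agent.Lib.Helper25.SpT.sf_zero_left] at hyy'
    exact zero_ne_one hyy'
  have hy'y : sf y' y = -1 := by rw [Cfsg.Agent.Lib.Helper25.SpT.sf_skew, hyy']
  have hy'v : sf y' v = 0 := by rw [Cfsg.Agent.Lib.Helper25.SpT.sf_skew, hvy', neg_zero]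
  have hu'S : u' ∈ GSV (t + 1) k F :=
    Cfsg.Agent.Lib.Helper18.TWSIILeaf.InUS_mem_GSV hk hk2 i y hy0 u' (hXD hu'X) hu'
  -- a vector `w₁ ⊥ y` with `sf w₁ v = 1`
  obtain ⟨w₁, hw₁y, hw₁v⟩ : ∃ w₁ : Fin k → F, sf w₁ y = 0 ∧ sf w₁ v = 1 := by
    obtain ⟨a, ha⟩ := Cfsg.Agent.Lib.Helper25.SpT.exists_sf_ne_zero hk hv0
    have ha' : sf a v ≠ 0 := by
      rw [Cfsg.Agent.Lib.Helper25.SpT.sf_skew]
      exact neg_ne_zero.2 ha
    refine ⟨(sf a v)⁻¹ • (a + sf a y • y'), ?_, ?_⟩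
    · rw [Cfsg.Agent.Lib.Helper25.SpT.sf_smul_left, Cfsg.Agent.Lib.Helper25.SpT.sf_add_left,
        Cfsg.Agent.Lib.Helper25.SpT.sf_smul_left, hy'y]
      ring
    · rw [Cfsg.Agent.Lib.Helper25.SpT.sf_smul_left, Cfsg.Agent.Lib.Helper25.SpT.sf_add_left,
        Cfsg.Agent.Lib.Helper25.SpT.sf_smul_left, hy'v, mul_zero, add_zero, inv_mul_cancel₀ ha']
  obtain ⟨s', hs'⟩ := rho_adjoint6 hk2 X hHX i y y' v w₁ hyy' hw₁y hB u' hu'X hu'S hu' ρ hρ
  -- the skew part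
  obtain ⟨s, hs⟩ : ∃ s : F, s = s' / 2 := ⟨_, rfl⟩
  obtain ⟨σ, hσdef⟩ : ∃ σ : Matrix (Idx t k) (Idx t k) F, σ = ρ - s • 1 := ⟨_, rfl⟩
  have hσv : ∀ b : Idx t k → F, σ *ᵥ b = ρ *ᵥ b - s • b := by
    intro b
    rw [hσdef, Matrix.sub_mulVec, Matrix.smul_mulVec, Matrix.one_mulVec]
  have hσ : SkewT σ := by
    intro b b₁
    have h := hs' b b₁
    rw [hw₁v, one_mul] at h
    rw [hσv, hσv, sfT_sub_left, sfT_sub_right, sfT_smul_left, sfT_smul_right, hs]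
    have : s' / 2 * sfT b b₁ + s' / 2 * sfT b b₁ = s' * sfT b b₁ := by
      field_simp
      ring
    linear_combination h - this
  -- the Heisenberg correction
  have hsv : sf (s • v) y = 0 := by rw [Cfsg.Agent.Lib.Helper25.SpT.sf_smul_left, hvy, mul_zero]
  obtain ⟨η₁, hη₁, hη₁G, hη₁y⟩ := Cfsg.Agent.Lib.Helper16.TWSIILeaf.etaS_mem y (s • v) (0 : F) hsv
  have ha₁H : slotGL i η₁ ∈ HS (t + 1) k F := Cfsg.Agent.Lib.Helper26.TWSIILeaf.slotGL_mem_HS i η₁ hη₁G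
  have ha₁U : InUS i y (slotGL i η₁) := Cfsg.Agent.Lib.Helper16.TWSIILeaf.InUS_slot_eta i y (s • v) 0 hsv η₁ hη₁
  have hu''X : (slotGL i η₁)⁻¹ * u' ∈ X := X.mul_mem (X.inv_mem (hHX ha₁H)) hu'X
  have hu''S : (slotGL i η₁)⁻¹ * u' ∈ GSV (t + 1) k F :=
    (GSV (t + 1) k F).mul_mem ((GSV (t + 1) k F).inv_mem ha₁H.2) hu'S
  have hu''U : InUS i y ((slotGL i η₁)⁻¹ * u') := InUS_mul6 i y _ _ (InUS_inv6 i y _ ha₁U) hu'
  have ha₁W : ∀ b' : Idx t k → F, mv (slotGL i η₁)⁻¹ (tens i b' y) = tens i b' y := by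
    intro b'
    apply mv_inv_eq6
    rw [mv_slotGL_tens6, hη₁y]
  have ha₁w : ∀ w : Fin k → F, sf w y = 0 → ∀ b : Idx t k → F,
      mv (slotGL i η₁)⁻¹ (tens i b w) = tens i b w - (s * sf w v) • tens i b y := by
    intro w hw b
    apply mv_inv_eq6
    rw [mv_sub, mv_smul6, mv_slotGL_tens6, mv_slotGL_tens6, hη₁y, hη₁, Cfsg.Agent.Lib.Helper16.TWSIILeaf.etaS_mulVec,
      hw, zero_smul, add_zero, mul_zero, zero_smul, add_zero, Cfsg.Agent.Lib.Helper25.SpT.sf_smul_right,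
      tens_add_right17, tens_smul_right17]
    abel
  have hσ'' : ∀ w : Fin k → F, sf w y = 0 → ∀ b : Idx t k → F,
      mv ((slotGL i η₁)⁻¹ * u') (tens i b w) = tens i b w + sf w v • tens i (σ *ᵥ b) y := by
    intro w hw b
    rw [mv_mul', hρ w hw b, mv_add6, mv_smul6, ha₁W, ha₁w w hw b, hσv, tens_sub_left6, tens_smul_left17, smul_sub,
      smul_smul, mul_comm s (sf w v)]
    abel
  obtain ⟨T, hT⟩ := shape_of_skew6 hk i y y' v hyy' hvy hvy' _ hu''S hu''U σ hσ hσ''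
  refine ⟨s, σ, T, ((slotGL i η₁)⁻¹ * u')⁻¹, ?_, hσ, X.inv_mem hu''X, ?_⟩
  · rw [hσdef]; abel
  · rw [add_assoc]
    apply Units.inv_eq_of_mul_eq_one_right
    rw [hT]
    have hsq := shape_sq6 i y v hvy σ T
    have : ∀ Y : Matrix (Idx (t + 1) k) (Idx (t + 1) k) F, Y * Y = 0 → (1 - Y) * (1 + Y) = 1 := by
      intro Y hY
      rw [sub_mul, mul_add, mul_add, one_mul, one_mul, mul_one, hY]
      abel
    exact this _ hsq

end Cfsg.Agent.Lib.Helper6.TWSIILeaf
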