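import Mathlib
import Cfsg.Agent.Lib.Helper23.SubsecG

/-!
helper6: S4540 / S4575 leaf (Z) (planner helper1, `notes/S4540_Z.lean`): a real element
`u = ∑ A i j * eps i j` of `ℤ[ω]`, `ω` a `2`-power root of unity, with `u / 2^h` in the local ideal
at a `2`-modular maximal ideal has `2^(h+1) ∣ ∑ A i j * rVal (eps i j)`.

Route: integer polynomials of degree `< n = 2^k` evaluated at `ω` with `ω^n = -1`; `π = ω - 1`;
`π^n = 2 g(ω)` with `g(1) = -1`; induction along the `π`-adic filtration.
-/

set_option autoImplicit false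

namespace Cfsg.Agent.Lib.Helper6.TwoMajZ

open Cfsg Cfsg.Agent.CharLib Cfsg.Agent.Lib.Helper24 Cfsg.Agent.Lib.Helper23
open Cfsg.Agent.Lib.Helper23.Subsec
open Polynomial
open scoped ComplexConjugate

variable {M : Ideal AlgInt}

/-- freshman's dream over `ℤ`, with the error term made explicit -/
theorem exists_sub_one_pow_two_pow (k : ℕ) :
    ∃ g : ℤ[X], (X - 1 : ℤ[X]) ^ (2 ^ k) = X ^ (2 ^ k) + 1 + C 2 * g := by
  induction k with
  | zero => exact ⟨-1, by simp; ring⟩
  | succ k ih =>
    obtain ⟨g, hg⟩ := ih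
    refine ⟨X ^ (2 ^ k) + C 2 * (X ^ (2 ^ k) + 1) * g + C 2 * g ^ 2, ?_⟩
    rw [pow_succ, pow_mul, hg]
    have h4 : (C 2 : ℤ[X]) = 2 := by simp
    rw [h4]
    ring

theorem isIntegral_of_pow_eq_neg_one {ω : ℂ} {n : ℕ} (hn : 0 < n) (hω : ω ^ n = -1) :
    IsIntegral ℤ ω := by
  refine ⟨X ^ n + 1, ?_, ?_⟩
  · exact monic_X_pow_add_C 1 hn.ne'
  · simp [hω]

theorem memLocalRing_aeval [hp : M.IsPrime] {ω : ℂ} (hω : IsIntegral ℤ ω) (f : ℤ[X]) :
    MemLocalRing M (aeval ω f) := by
  have h1 : IsIntegral ℤ (aeval ω f) := by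
    rw [aeval_eq_sum_range]
    apply IsIntegral.sum
    intro i _
    rw [zsmul_eq_mul]
    exact (isIntegral_algebraMap (R := ℤ) (A := ℂ) (x := f.coeff i)).mul (hω.pow i)
  exact memLocalRing_of_algInt (M := M) ⟨aeval ω f, h1⟩ hp.one_notMem

/-- `f(ω) = f(1) + (ω - 1) r(ω)` -/
theorem exists_aeval_eq (ω : ℂ) (f : ℤ[X]) :
    ∃ r : ℤ[X], aeval ω f = ((f.eval 1 : ℤ) : ℂ) + (ω - 1) * aeval ω r := by
  obtain ⟨r, hr⟩ := X_sub_C_dvd_sub_C_eval (a := (1 : ℤ)) (p := f)
  refine ⟨r, ?_⟩
  have h1 : f = C (f.eval 1) + (X - C 1) * r := by rw [← hr]; ring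
  conv_lhs => rw [h1]
  simp

theorem memLocalIdeal_two (hM : IsPModular 2 M) : MemLocalIdeal M (2 : ℂ) := by
  have := Cfsg.Agent.Lib.Helper6.memLocalIdeal_natCast_prime hM
  simpa using this

theorem even_of_memLocalIdeal_intCast (hM : IsPModular 2 M) {a : ℤ}
    (ha : MemLocalIdeal M (a : ℂ)) : Even a := by
  have hprime : M.IsPrime := isPrime_of_isPModular hM
  by_contra hodd
  rw [Int.not_even_iff_odd] at hodd
  obtain ⟨b, hb⟩ := hodd
  have h2 : MemLocalIdeal M ((2 : ℂ) * (b : ℂ)) :=
    memLocalIdeal_mul_right (memLocalIdeal_two hM) (Cfsg.Agent.Lib.Helper6.memLocalRing_intCast b)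
  have h3 : (1 : ℂ) = (a : ℂ) - (2 : ℂ) * (b : ℂ) := by rw [hb]; push_cast; ring
  apply not_memLocalIdeal_one (M := M)
  rw [h3]
  exact memLocalIdeal_sub ha h2

section core

variable (hM : IsPModular 2 M) {k : ℕ} {ω : ℂ} (hω : ω ^ (2 ^ k) = -1)
include hM hω

theorem memLocalIdeal_sub_one_and :
    MemLocalIdeal M (ω - 1) ∧ ∃ g : ℤ[X], (ω - 1) ^ (2 ^ k) = 2 * aeval ω g ∧
      ¬ MemLocalIdeal M (aeval ω g) := by
  have hprime : M.IsPrime := isPrime_of_isPModular hM
  have hn : 0 < 2 ^ k := by positivity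
  have hint := isIntegral_of_pow_eq_neg_one hn hω
  obtain ⟨g, hg⟩ := exists_sub_one_pow_two_pow k
  have h1 : (ω - 1) ^ (2 ^ k) = 2 * aeval ω g := by
    have := congrArg (aeval ω) hg
    simp only [map_pow, map_sub, aeval_X, map_one, map_add, map_mul, aeval_C] at this
    rw [this, hω]
    simp
  have h2 : g.eval 1 = -1 := by
    have := congrArg (eval 1) hg
    simp only [eval_pow, eval_sub, eval_X, eval_one, sub_self, eval_add, eval_mul, eval_C,
      one_pow] at this
    rw [zero_pow hn.ne'] at this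
    linarith
  have hpi : MemLocalIdeal M (ω - 1) := by
    have hR : MemLocalRing M (ω - 1) := by
      have := memLocalRing_aeval (M := M) hint (X - 1)
      simpa using this
    apply memLocalIdeal_of_pow hR (2 ^ k)
    rw [h1]
    exact memLocalIdeal_mul_right (memLocalIdeal_two hM) (memLocalRing_aeval hint g)
  refine ⟨hpi, g, h1, ?_⟩
  intro hcon
  obtain ⟨r, hr⟩ := exists_aeval_eq ω g
  rw [h2] at hr
  have h3 : (1 : ℂ) = (ω - 1) * aeval ω r - aeval ω g := by rw [hr]; push_cast; ring
  apply not_memLocalIdeal_one (M := M)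
  rw [h3]
  exact memLocalIdeal_sub (memLocalIdeal_mul_right hpi (memLocalRing_aeval hint r)) hcon

/-- the `π`-adic induction -/
theorem exists_eq_two_mul_aux (m : ℕ) (hm : m ≤ 2 ^ k) (f : ℤ[X]) (hdeg : f.degree < m)
    (hloc : MemLocalRing M ((ω - 1) ^ (2 ^ k - m) * aeval ω f / 2)) :
    ∃ q : ℤ[X], f = C 2 * q := by
  have hprime : M.IsPrime := isPrime_of_isPModular hM
  have hn : 0 < 2 ^ k := by positivity
  have hint := isIntegral_of_pow_eq_neg_one hn hω
  obtain ⟨hpi, g, hg1, hg2⟩ := memLocalIdeal_sub_one_and hM hω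
  have hpiR : MemLocalRing M (ω - 1) := memLocalRing_of_memLocalIdeal hpi
  induction m generalizing f with
  | zero =>
    have : f = 0 := by
      rw [← degree_eq_bot]
      have : f.degree < 0 := by exact_mod_cast hdeg
      exact Nat.WithBot.lt_zero_iff.mp this
    exact ⟨0, by rw [this]; simp⟩
  | succ m ih =>
    by_cases hf0 : f = 0
    · exact ⟨0, by rw [hf0]; simp⟩
    set f' := f /ₘ (X - C 1) with hf'
    have hdecomp : f = C (f.eval 1) + (X - C 1) * f' := by
      have := modByMonic_add_div f (X - C (1 : ℤ))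
      rw [modByMonic_X_sub_C_eq_C_eval] at this
      exact this.symm
    have hdeg' : f'.degree < m := by
      have h1 : f'.degree < f.degree :=
        degree_divByMonic_lt f (X - C (1 : ℤ)) hf0 (by rw [degree_X_sub_C]; norm_num)
      have h2 : f.degree ≤ m := by
        rw [degree_eq_natDegree hf0] at hdeg ⊢
        have h3 : f.natDegree < m + 1 := by exact_mod_cast hdeg
        exact_mod_cast Nat.lt_succ_iff.mp h3
      exact lt_of_lt_of_le h1 h2
    have hev : aeval ω f = ((f.eval 1 : ℤ) : ℂ) + (ω - 1) * aeval ω f' := by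
      conv_lhs => rw [hdecomp]
      simp
    set e := 2 ^ k - (m + 1) with he
    have he' : 2 ^ k - m = e + 1 := by omega
    rcases Int.even_or_odd (f.eval 1) with heven | hodd
    · obtain ⟨a, ha⟩ := heven
      have h1 : (ω - 1) ^ (2 ^ k - m) * aeval ω f' / 2 =
          (ω - 1) ^ e * aeval ω f / 2 - (ω - 1) ^ e * (a : ℂ) := by
        rw [hev, ha, he']
        push_cast
        ring
      have h2 : MemLocalRing M ((ω - 1) ^ (2 ^ k - m) * aeval ω f' / 2) := by
        rw [h1]
        apply memLocalRing_sub hloc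
        apply memLocalRing_mul _ (Cfsg.Agent.Lib.Helper6.memLocalRing_intCast a)
        have := memLocalRing_aeval (M := M) hint ((X - 1) ^ e)
        simpa using this
      obtain ⟨q, hq⟩ := ih (by omega) f' hdeg' h2
      refine ⟨C a + (X - C 1) * q, ?_⟩
      have h4 : (C 2 : ℤ[X]) = 2 := by simp
      rw [hdecomp, hq, ha]
      simp only [map_add]
      rw [h4]
      ring
    · exfalso
      -- `f(ω)` is a unit of the local ring
      have hunit : ¬ MemLocalIdeal M (aeval ω f) := by
        intro hcon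
        have h1 : ((f.eval 1 : ℤ) : ℂ) = aeval ω f - (ω - 1) * aeval ω f' := by rw [hev]; ring
        have h2 : MemLocalIdeal M ((f.eval 1 : ℤ) : ℂ) := by
          rw [h1]
          exact memLocalIdeal_sub hcon
            (memLocalIdeal_mul_right hpi (memLocalRing_aeval hint f'))
        have := even_of_memLocalIdeal_intCast hM h2
        exact (Int.not_even_iff_odd.mpr hodd) this
      have hfR : MemLocalRing M (aeval ω f) := memLocalRing_aeval hint f
      have hf0' : aeval ω f ≠ 0 := by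
        intro h0
        apply hunit
        rw [h0]
        exact memLocalIdeal_zero hprime.one_notMem
      have hinv : MemLocalRing M (aeval ω f)⁻¹ := Cfsg.Agent.Lib.Helper6.memLocalRing_inv hfR hunit
      have h3 : MemLocalRing M ((ω - 1) ^ e / 2) := by
        have : (ω - 1) ^ e / 2 = (ω - 1) ^ e * aeval ω f / 2 * (aeval ω f)⁻¹ := by
          field_simp
        rw [this]
        exact memLocalRing_mul hloc hinv
      have h4 : aeval ω g = (ω - 1) ^ (m + 1) * ((ω - 1) ^ e / 2) := by
        have h5 : (ω - 1) ^ (2 ^ k) = (ω - 1) ^ (m + 1) * (ω - 1) ^ e := by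
          rw [← pow_add]
          congr 1
          omega
        have h6 : aeval ω g = (ω - 1) ^ (2 ^ k) / 2 := by rw [hg1]; ring
        rw [h6, h5]
        ring
      apply hg2
      rw [h4]
      apply memLocalIdeal_mul_right _ h3
      rw [pow_succ]
      apply memLocalIdeal_mul_left _ hpi
      have := memLocalRing_aeval (M := M) hint ((X - 1) ^ m)
      simpa using this

theorem exists_eq_two_pow_mul (f : ℤ[X]) (hdeg : f.degree < (2 ^ k : ℕ)) (h : ℕ)
    (hloc : MemLocalRing M (aeval ω f / (2 : ℂ) ^ h)) :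
    ∃ q : ℤ[X], f = C ((2 : ℤ) ^ h) * q := by
  have hprime : M.IsPrime := isPrime_of_isPModular hM
  induction h generalizing f with
  | zero => exact ⟨f, by simp⟩
  | succ h ih =>
    have h1 : MemLocalRing M ((ω - 1) ^ (2 ^ k - 2 ^ k) * aeval ω f / 2) := by
      have : (ω - 1) ^ (2 ^ k - 2 ^ k) * aeval ω f / 2 =
          (aeval ω f / (2 : ℂ) ^ (h + 1)) * ((2 : ℂ) ^ h) := by
        rw [Nat.sub_self, pow_zero, one_mul, pow_succ]
        have : ((2 : ℂ) ^ h) ≠ 0 := pow_ne_zero _ two_ne_zero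
        field_simp
      rw [this]
      apply memLocalRing_mul hloc
      have : ((2 : ℂ) ^ h) = ((2 ^ h : ℕ) : ℂ) := by push_cast; rfl
      rw [this]
      exact Cfsg.Agent.Lib.Helper6.memLocalRing_natCast _
    obtain ⟨q₁, hq₁⟩ := exists_eq_two_mul_aux hM hω (2 ^ k) le_rfl f hdeg h1
    have hdeg₁ : q₁.degree < (2 ^ k : ℕ) := by
      rw [hq₁, degree_C_mul (by norm_num : (2 : ℤ) ≠ 0)] at hdeg
      exact hdeg
    have h2 : MemLocalRing M (aeval ω q₁ / (2 : ℂ) ^ h) := by
      have : aeval ω q₁ / (2 : ℂ) ^ h = aeval ω f / (2 : ℂ) ^ (h + 1) := by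
        rw [hq₁, pow_succ]
        simp only [map_mul, aeval_C]
        have : ((2 : ℂ) ^ h) ≠ 0 := pow_ne_zero _ two_ne_zero
        simp
        field_simp
      rw [this]
      exact hloc
    obtain ⟨q, hq⟩ := ih q₁ hdeg₁ h2
    refine ⟨q, ?_⟩
    rw [hq₁, hq, pow_succ]
    simp only [map_mul, map_pow]
    ring

/-- the polynomial core of (Z) -/
theorem two_pow_succ_dvd_eval_one (f : ℤ[X]) (hdeg : f.degree < (2 ^ k : ℕ)) (h : ℕ)
    (hloc : MemLocalIdeal M (aeval ω f / (2 : ℂ) ^ h)) :
    (2 : ℤ) ^ (h + 1) ∣ f.eval 1 := by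
  have hprime : M.IsPrime := isPrime_of_isPModular hM
  have hn : 0 < 2 ^ k := by positivity
  have hint := isIntegral_of_pow_eq_neg_one hn hω
  obtain ⟨hpi, -⟩ := memLocalIdeal_sub_one_and hM hω
  obtain ⟨q, hq⟩ := exists_eq_two_pow_mul hM hω f hdeg h (memLocalRing_of_memLocalIdeal hloc)
  have h1 : aeval ω f / (2 : ℂ) ^ h = aeval ω q := by
    rw [hq]
    simp only [map_mul, aeval_C]
    have : ((2 : ℂ) ^ h) ≠ 0 := pow_ne_zero _ two_ne_zero
    simp
  rw [h1] at hloc
  obtain ⟨r, hr⟩ := exists_aeval_eq ω q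
  have h2 : ((q.eval 1 : ℤ) : ℂ) = aeval ω q - (ω - 1) * aeval ω r := by rw [hr]; ring
  have h3 : MemLocalIdeal M ((q.eval 1 : ℤ) : ℂ) := by
    rw [h2]
    exact memLocalIdeal_sub hloc (memLocalIdeal_mul_right hpi (memLocalRing_aeval hint r))
  obtain ⟨a, ha⟩ := even_of_memLocalIdeal_intCast hM h3
  refine ⟨a, ?_⟩
  rw [hq, eval_mul, eval_C, ha, pow_succ]
  ring

end core

/-- **(Z)** -/
theorem two_pow_succ_dvd_rsum {M : Ideal AlgInt} (hM : IsPModular 2 M) {ι : Type*} [Fintype ι]
    (A : ι → ι → ℤ) (eps : ι → ι → ℂ) (hA : ∀ i j, A i j = A j i)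
    (heps : ∀ i j, eps j i = conj (eps i j)) (t : ℕ) (heps2 : ∀ i j, eps i j ^ (2 ^ t) = 1)
    (h : ℕ) (hloc : MemLocalIdeal M ((∑ i, ∑ j, (A i j : ℂ) * eps i j) / (2 : ℂ) ^ h)) :
    (2 : ℤ) ^ (h + 1) ∣ ∑ i, ∑ j, A i j * rVal (eps i j) := by
  classical
  set n : ℕ := 2 ^ t with hn
  have hnpos : 0 < n := by positivity
  set N : ℕ := 2 * n with hN
  have hNpos : N ≠ 0 := by omega
  have : NeZero N := ⟨hNpos⟩
  set ω : ℂ := Complex.exp (2 * Real.pi * Complex.I / N) with hωdef
  have hprim : IsPrimitiveRoot ω N := Complex.isPrimitiveRoot_exp N hNpos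
  have hωn : ω ^ n = -1 := by
    have h1 : (ω ^ n - 1) * (ω ^ n + 1) = 0 := by
      have : ω ^ n * ω ^ n = 1 := by
        rw [← pow_add, ← two_mul]
        exact hprim.pow_eq_one
      linear_combination this
    have h2 : ω ^ n ≠ 1 := hprim.pow_ne_one_of_pos_of_lt hnpos.ne' (by omega)
    rcases mul_eq_zero.mp h1 with h3 | h3
    · exact absurd (sub_eq_zero.mp h3) h2
    · exact eq_neg_of_add_eq_zero_left h3
  -- the exponents
  have hex : ∀ i j, ∃ m, m < N ∧ ω ^ m = eps i j := by
    intro i j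
    have h1 : eps i j ^ N = 1 := by rw [hN, mul_comm, pow_mul, heps2, one_pow]
    obtain ⟨m, hm, hm'⟩ := hprim.eq_pow_of_pow_eq_one h1
    exact ⟨m, hm, hm'⟩
  choose e he_lt he_pow using hex
  -- the polynomial
  set term : ℕ → ℤ[X] := fun m => if m < n then X ^ m else - X ^ (m - n) with hterm
  set f : ℤ[X] := ∑ i, ∑ j, C (A i j) * term (e i j) with hf
  have hterm_aeval : ∀ m, aeval ω (term m) = ω ^ m := by
    intro m
    rw [hterm]
    simp only []
    split_ifs with hm
    · simp
    · have h1 : m = n + (m - n) := by omega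
      conv_rhs => rw [h1, pow_add, hωn]
      simp
  have hterm_deg : ∀ m, m < N → (term m).degree < (n : ℕ) := by
    intro m hm
    rw [hterm]
    simp only []
    split_ifs with hm'
    · rw [degree_X_pow]
      exact_mod_cast hm'
    · rw [degree_neg, degree_X_pow]
      have : m - n < n := by omega
      exact_mod_cast this
  have hterm_eval : ∀ m, (term m).eval 1 = if m < n then 1 else -1 := by
    intro m
    rw [hterm]
    simp only []
    split_ifs <;> simp
  have hf_aeval : aeval ω f = ∑ i, ∑ j, (A i j : ℂ) * eps i j := by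
    rw [hf, map_sum]
    apply Finset.sum_congr rfl
    intro i _
    rw [map_sum]
    apply Finset.sum_congr rfl
    intro j _
    rw [map_mul, aeval_C, hterm_aeval, he_pow]
    simp
  have hf_deg : f.degree < ((2 ^ t : ℕ) : WithBot ℕ) := by
    rw [← hn, hf]
    rw [← mem_degreeLT]
    apply Submodule.sum_mem
    intro i _
    apply Submodule.sum_mem
    intro j _
    rw [C_mul']
    apply Submodule.smul_mem
    rw [mem_degreeLT]
    exact hterm_deg _ (he_lt i j)
  have hf_eval : f.eval 1 = ∑ i, ∑ j, A i j * (if e i j < n then 1 else -1) := by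
    rw [hf, eval_finsetSum]
    apply Finset.sum_congr rfl
    intro i _
    rw [eval_finsetSum]
    apply Finset.sum_congr rfl
    intro j _
    rw [eval_mul, eval_C, hterm_eval]
  have hcore := two_pow_succ_dvd_eval_one hM hωn f hf_deg h (by rw [hf_aeval]; exact hloc)
  -- comparison with `rVal`
  have hone : ∀ i j, eps i j = 1 ↔ e i j = 0 := by
    intro i j
    constructor
    · intro h1
      have h2 : ω ^ (e i j) = ω ^ 0 := by rw [he_pow, h1, pow_zero]
      exact hprim.pow_inj (he_lt i j) (by omega) h2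
    · intro h1
      rw [← he_pow, h1, pow_zero]
  have hnegone : ∀ i j, eps i j = -1 ↔ e i j = n := by
    intro i j
    constructor
    · intro h1
      have h2 : ω ^ (e i j) = ω ^ n := by rw [he_pow, h1, hωn]
      exact hprim.pow_inj (he_lt i j) (by omega) h2
    · intro h1
      rw [← he_pow, h1, hωn]
  have hr : ∀ i j, rVal (eps i j) = if e i j = 0 then 1 else if e i j = n then -1 else 0 := by
    intro i j
    unfold rVal
    by_cases h0 : e i j = 0
    · rw [if_pos ((hone i j).mpr h0), if_pos h0]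
    · rw [if_neg (fun hh => h0 ((hone i j).mp hh)), if_neg h0]
      by_cases h1 : e i j = n
      · rw [if_pos ((hnegone i j).mpr h1), if_pos h1]
      · rw [if_neg (fun hh => h1 ((hnegone i j).mp hh)), if_neg h1]
  have hsymm : ∀ i j, (e i j = 0 ∧ e j i = 0) ∨ e i j + e j i = N := by
    intro i j
    have hnorm : ‖eps i j‖ = 1 :=
      Complex.norm_eq_one_of_pow_eq_one (heps2 i j) (by positivity)
    have h1 : ω ^ (e i j + e j i) = 1 := by
      have h0 : ω ^ (e i j + e j i) = eps i j * conj (eps i j) := by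
        rw [pow_add, he_pow, he_pow, heps i j]
      rw [h0, Complex.mul_conj, Complex.normSq_eq_norm_sq, hnorm]
      norm_num
    have h2 : N ∣ e i j + e j i := (hprim.pow_eq_one_iff_dvd _).mp h1
    obtain ⟨c, hc⟩ := h2
    have h3 := he_lt i j
    have h4 := he_lt j i
    have hc' : c = 0 ∨ c = 1 := by
      rcases c with _ | _ | c
      · left; rfl
      · right; rfl
      · exfalso
        have : N * (c + 1 + 1) ≥ N * 2 := Nat.mul_le_mul_left N (by omega)
        omega
    rcases hc' with hc' | hc'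
    · left
      rw [hc', mul_zero] at hc
      omega
    · right
      rw [hc', mul_one] at hc
      exact hc
  set δ : ℕ → ℤ := fun m =>
    (if m < n then 1 else -1) - (if m = 0 then 1 else if m = n then -1 else 0) with hδdef
  have hδ : ∀ i j, δ (e j i) = - δ (e i j) := by
    intro i j
    have h3 := he_lt i j
    have h4 := he_lt j i
    rw [hδdef]
    simp only []
    rcases hsymm i j with ⟨h1, h2⟩ | h1
    · rw [h1, h2]
      simp [hnpos]
    · split_ifs <;> omega
  have hS : ∑ i, ∑ j, A i j * δ (e i j) = 0 := by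
    have h1 : ∑ i, ∑ j, A i j * δ (e i j) = ∑ i, ∑ j, A j i * δ (e j i) := Finset.sum_comm
    have h2 : ∑ i, ∑ j, A j i * δ (e j i) = - ∑ i, ∑ j, A i j * δ (e i j) := by
      rw [← Finset.sum_neg_distrib]
      apply Finset.sum_congr rfl
      intro i _
      rw [← Finset.sum_neg_distrib]
      apply Finset.sum_congr rfl
      intro j _
      rw [hδ i j, hA j i]
      ring
    rw [h2] at h1
    linarith
  have hfinal : f.eval 1 = ∑ i, ∑ j, A i j * rVal (eps i j) := by
    rw [hf_eval]
    have h1 : ∑ i, ∑ j, A i j * (if e i j < n then 1 else -1) =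
        ∑ i, ∑ j, A i j * δ (e i j) + ∑ i, ∑ j, A i j * rVal (eps i j) := by
      rw [← Finset.sum_add_distrib]
      apply Finset.sum_congr rfl
      intro i _
      rw [← Finset.sum_add_distrib]
      apply Finset.sum_congr rfl
      intro j _
      rw [hr i j, hδdef]
      simp only []
      ring
    rw [h1, hS, zero_add]
  rw [← hfinal]
  exact hcore

end Cfsg.Agent.Lib.Helper6.TwoMajZ
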