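import Mathlib
import Cfsg.Agent.Lib.Helper12.U3Defs
import Cfsg.Agent.Lib.Helper7.U3Borel

/-!
helper6: U3 BG9 (S2148 market "U3", planner helper12): `borel_gamma9`.  `q = 9`, `K ≤ PP`, `|K ⊓ TT| = 3`, `|K| ≥ 80`
⟹ `|K| ∈ {108, 162, 81}`.  Over helper7's `U3Borel` (`|K| = |K ⊓ TT| * |W| * t`, `W` the `w`-coordinates of `K ⊓ QQ`,
`t = |ca K|`):  `N(ca k) c0 = ± c0` gives `t ∣ 20`; an element of order five acts on `W` with the single fixed point `0`
(`|W| ≡ 1 mod 5`); the commutator form `β(w,w') = w w'^9 - w' w^9` takes its values in `{0, ± c0}` on `W` (`|W| ≤ 27`);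
for `t = 4` it vanishes on `W` (`|W| ≤ 9`).
-/

set_option autoImplicit false
set_option linter.unusedSectionVars false

namespace Cfsg.Agent.Lib.Helper6.U3Leaf

namespace BG9


open Polynomial in
/-- at most `n` elements `x` with `x ^ n = x` -/
theorem card_fix_le {F : Type*} [Field F] [Fintype F] [DecidableEq F] (n : ℕ) (hn : 1 < n) :
    (Finset.univ.filter (fun x : F => x ^ n = x)).card ≤ n := by
  have h0 : (X ^ n - X : F[X]) ≠ 0 := FiniteField.X_pow_card_sub_X_ne_zero F hn
  have h1 : (X ^ n - X : F[X]).natDegree = n := FiniteField.X_pow_card_sub_X_natDegree_eq F hn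
  have hsub : Finset.univ.filter (fun x : F => x ^ n = x) ⊆ (X ^ n - X : F[X]).roots.toFinset := by
    intro x hx
    rw [Finset.mem_filter] at hx
    rw [Multiset.mem_toFinset, mem_roots h0]
    simp [hx.2]
  calc _ ≤ (X ^ n - X : F[X]).roots.toFinset.card := Finset.card_le_card hsub
    _ ≤ Multiset.card (X ^ n - X : F[X]).roots := Multiset.toFinset_card_le _
    _ ≤ (X ^ n - X : F[X]).natDegree := card_roots' _
    _ = n := h1

/-- a subset of a finite field stable under an element `μ ≠ 1` with `μ ^ 5 = 1`, containing `0`: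
cardinality `≡ 1 mod 5` -/
theorem card_modEq_one_of_stable {F : Type*} [Field F] [Fintype F] [DecidableEq F]
    (W : Finset F) (h0 : (0 : F) ∈ W) (μ : F) (hμ1 : μ ≠ 1) (hμ5 : μ ^ 5 = 1)
    (hst : ∀ w ∈ W, μ * w ∈ W) : W.card ≡ 1 [MOD 5] := by
  have : Fact (Nat.Prime 5) := ⟨by norm_num⟩
  let f : Function.End ↥W := fun w => ⟨μ * w.1, hst w.1 w.2⟩
  have hf : f ^ 5 ^ 1 = 1 := by
    funext w
    apply Subtype.ext
    show μ * (μ * (μ * (μ * (μ * w.1)))) = w.1
    have : μ * (μ * (μ * (μ * (μ * w.1)))) = μ ^ 5 * w.1 := by ring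
    rw [this, hμ5, one_mul]
  have h := Equiv.Perm.card_fixedPoints_modEq hf
  have hfix : Fintype.card (Function.fixedPoints f) = 1 := by
    rw [Fintype.card_eq_one_iff]
    refine ⟨⟨⟨0, h0⟩, ?_⟩, ?_⟩
    · show f ⟨0, h0⟩ = ⟨0, h0⟩
      apply Subtype.ext
      show μ * 0 = 0
      ring
    · rintro ⟨w, hw⟩
      apply Subtype.ext
      apply Subtype.ext
      have hw' : μ * w.1 = w.1 := congrArg Subtype.val hw
      have : (μ - 1) * w.1 = 0 := by linear_combination hw'
      rcases mul_eq_zero.1 this with h' | h'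
      · exact absurd (by linear_combination h') hμ1
      · exact h'
  rw [hfix, Fintype.card_coe] at h
  exact h



section core

variable {F : Type*} [Field F] [Fintype F] [DecidableEq F]

theorem charP_three_of_card (hF : Fintype.card F = 81) : CharP F 3 := by
  obtain ⟨p, hp⟩ := CharP.exists F
  have := hp
  have : Fact p.Prime := ⟨CharP.char_is_prime F p⟩
  obtain ⟨n, hpn, hn⟩ := FiniteField.card F p
  have h2 : 3 ∣ p ^ (n : ℕ) := by
    rw [← hn, hF]; norm_num
  have h3 : 3 ∣ p := Nat.Prime.dvd_of_dvd_pow Nat.prime_three h2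
  have h4 : p = 3 := ((Nat.prime_dvd_prime_iff_eq Nat.prime_three hpn).1 h3).symm
  subst h4
  exact hp

theorem ratio_fix (bar : F →+* F) (hbar : ∀ x, bar x = x ^ 9) {w w' : F} (hw' : w' ≠ 0)
    (h : w * bar w' - w' * bar w = 0) : (w / w') ^ 9 = w / w' := by
  rw [hbar, hbar] at h
  have h9 : w' ^ 9 ≠ 0 := pow_ne_zero _ hw'
  rw [div_pow, div_eq_div_iff h9 hw']
  linear_combination -h

/-- `β ≡ 0` on `W` and `W ≠ 0`: at most nine elements -/
theorem card_le_nine (bar : F →+* F) (hbar : ∀ x, bar x = x ^ 9) (W : Finset F)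
    (hβ : ∀ w ∈ W, ∀ w' ∈ W, w * bar w' - w' * bar w = 0) (w' : F) (hw' : w' ∈ W) (hw'0 : w' ≠ 0) :
    W.card ≤ 9 := by
  refine le_trans ?_ (card_fix_le (F := F) 9 (by norm_num))
  apply Finset.card_le_card_of_injOn (fun w => w / w')
  · intro w hw
    rw [Finset.mem_coe, Finset.mem_filter]
    exact ⟨Finset.mem_univ _, ratio_fix bar hbar hw'0 (hβ w hw w' hw')⟩
  · intro w _ v _ h
    have h' : w / w' = v / w' := h
    field_simp at h'
    exact h'

/-- `β` takes at most three values on `W`: at most `27` elements -/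
theorem card_le_27 (bar : F →+* F) (hbar : ∀ x, bar x = x ^ 9) (W : Finset F)
    (c0 : F)
    (hβ : ∀ w ∈ W, ∀ w' ∈ W, w * bar w' - w' * bar w ∈ ({0, c0, -c0} : Finset F))
    (w' : F) (hw' : w' ∈ W) (hw'0 : w' ≠ 0) : W.card ≤ 27 := by
  have h1 := Finset.card_le_mul_card_image (f := fun w => w * bar w' - w' * bar w) W 9 ?_
  · have h2 : (W.image (fun w => w * bar w' - w' * bar w)).card ≤ 3 := by
      refine le_trans (Finset.card_le_card ?_) (Finset.card_le_three (a := 0) (b := c0) (c := -c0))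
      intro a ha
      obtain ⟨w, hw, rfl⟩ := Finset.mem_image.1 ha
      exact hβ w hw w' hw'
    calc W.card ≤ 9 * _ := h1
      _ ≤ 9 * 3 := Nat.mul_le_mul_left _ h2
  · intro a ha
    obtain ⟨wa, hwa, rfl⟩ := Finset.mem_image.1 ha
    refine le_trans ?_ (card_fix_le (F := F) 9 (by norm_num))
    apply Finset.card_le_card_of_injOn (fun w => (w - wa) / w')
    · intro w hw
      rw [Finset.mem_coe, Finset.mem_filter] at hw
      rw [Finset.mem_coe, Finset.mem_filter]
      refine ⟨Finset.mem_univ _, ratio_fix bar hbar hw'0 ?_⟩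
      have := hw.2
      rw [map_sub]
      linear_combination this
    · intro w _ v _ h
      have h' : (w - wa) / w' = (v - wa) / w' := h
      field_simp at h'
      linear_combination h'

end core



section core

variable {F : Type*} [Field F] [Fintype F] [DecidableEq F]

theorem bg9_core (hF : Fintype.card F = 81) (bar : F →+* F) (hbar : ∀ x, bar x = x ^ 9)
    (W : Finset F) (hW0 : (0 : F) ∈ W) (hWcard : W.card ∣ 81)
    (c0 : F) (hc0 : c0 ≠ 0)
    (hβ : ∀ w ∈ W, ∀ w' ∈ W, w * bar w' - w' * bar w ∈ ({0, c0, -c0} : Finset F))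
    (t : ℕ) (ht20 : t ∣ 20)
    (h5 : 5 ∣ t → ∃ μ : F, μ ≠ 1 ∧ μ ^ 5 = 1 ∧ ∀ w ∈ W, μ * w ∈ W)
    (h4 : t = 4 → ∃ i : F, i * i = -1 ∧ ∀ w ∈ W, i * w ∈ W)
    (hcard : 80 ≤ 3 * W.card * t) :
    3 * W.card * t = 108 ∨ 3 * W.card * t = 162 ∨ 3 * W.card * t = 81 := by
  have hch := charP_three_of_card hF
  have h3 : (3 : F) = 0 := by exact_mod_cast CharP.cast_eq_zero F 3
  have h2ne : (2 : F) ≠ 0 := by
    intro h2
    have : (1 : F) = 0 := by linear_combination h3 - h2
    exact one_ne_zero this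
  -- the possible cardinalities of `W`
  have hWdiv : W.card ∈ Nat.divisors 81 := Nat.mem_divisors.2 ⟨hWcard, by norm_num⟩
  have hdiv81 : Nat.divisors 81 = {1, 3, 9, 27, 81} := by decide
  rw [hdiv81] at hWdiv
  simp only [Finset.mem_insert, Finset.mem_singleton] at hWdiv
  have htdiv : t ∈ Nat.divisors 20 := Nat.mem_divisors.2 ⟨ht20, by norm_num⟩
  have hdiv20 : Nat.divisors 20 = {1, 2, 4, 5, 10, 20} := by decide
  rw [hdiv20] at htdiv
  simp only [Finset.mem_insert, Finset.mem_singleton] at htdiv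
  -- `|W| ≤ 27`
  have h27 : W.card ≤ 27 := by
    by_cases hex : ∃ w' ∈ W, w' ≠ 0
    · obtain ⟨w', hw', hw'0⟩ := hex
      exact card_le_27 bar hbar W c0 hβ w' hw' hw'0
    · push Not at hex
      have : W.card ≤ 1 := Finset.card_le_one.2 (fun a ha b hb => by rw [hex a ha, hex b hb])
      omega
  by_cases h5t : 5 ∣ t
  · -- an element of order five: `|W| ≡ 1 mod 5`
    obtain ⟨μ, hμ1, hμ5, hst⟩ := h5 h5t
    have hmod := card_modEq_one_of_stable W hW0 μ hμ1 hμ5 hst
    unfold Nat.ModEq at hmod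
    exfalso
    rcases hWdiv with h | h | h | h | h <;> rcases htdiv with h' | h' | h' | h' | h' | h' <;>
      rw [h] at hmod h27 hcard <;> rw [h'] at hcard <;> omega
  · by_cases h4t : 4 ∣ t
    · have ht4 : t = 4 := by
        rcases htdiv with h' | h' | h' | h' | h' | h' <;> rw [h'] at h4t h5t <;> omega
      obtain ⟨i, hi, hst⟩ := h4 ht4
      -- `β ≡ 0` on `W`
      have hbi : bar i = i := by
        rw [hbar]
        have h4' : i ^ 4 = 1 := by
          have : i ^ 4 = (i * i) * (i * i) := by ring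
          rw [this, hi]; ring
        have : i ^ 9 = (i ^ 4) ^ 2 * i := by ring
        rw [this, h4', one_pow, one_mul]
      have hβ0 : ∀ w ∈ W, ∀ w' ∈ W, w * bar w' - w' * bar w = 0 := by
        intro w hw w' hw'
        have e1 := hβ w hw w' hw'
        have e2 := hβ w hw (i * w') (hst w' hw')
        have e3 : w * bar (i * w') - i * w' * bar w = i * (w * bar w' - w' * bar w) := by
          rw [map_mul, hbi]; ring
        rw [e3] at e2
        by_contra hne
        obtain ⟨b, hb⟩ : ∃ b : F, b = w * bar w' - w' * bar w := ⟨_, rfl⟩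
        rw [← hb] at e1 e2 hne
        simp only [Finset.mem_insert, Finset.mem_singleton] at e1 e2
        -- `b = ± c0`, `i b ∈ {0, ± c0}`: `i ∈ {0, 1, -1}`
        have hi3 : i = 0 ∨ i = 1 ∨ i = -1 := by
          rcases e1 with e1 | e1 | e1
          · exact absurd e1 hne
          · rw [e1] at e2
            rcases e2 with e2 | e2 | e2
            · left
              rcases mul_eq_zero.1 e2 with h | h
              · exact h
              · exact absurd h hc0
            · right; left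
              exact mul_right_cancel₀ hc0 (by rw [e2, one_mul])
            · right; right
              exact mul_right_cancel₀ hc0 (by rw [e2]; ring)
          · rw [e1] at e2
            rcases e2 with e2 | e2 | e2
            · left
              rcases mul_eq_zero.1 e2 with h | h
              · exact h
              · exact absurd (neg_eq_zero.1 h) hc0
            · right; right
              exact mul_right_cancel₀ hc0 (by linear_combination -e2)
            · right; left
              exact mul_right_cancel₀ hc0 (by linear_combination -e2)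
        rcases hi3 with h | h | h
        · rw [h] at hi
          have : (1 : F) = 0 := by linear_combination hi
          exact one_ne_zero this
        · rw [h] at hi
          exact h2ne (by linear_combination hi)
        · rw [h] at hi
          exact h2ne (by linear_combination hi)
      have h9 : W.card ≤ 9 := by
        by_cases hex : ∃ w' ∈ W, w' ≠ 0
        · obtain ⟨w', hw', hw'0⟩ := hex
          exact card_le_nine bar hbar W hβ0 w' hw' hw'0
        · push Not at hex
          have : W.card ≤ 1 := Finset.card_le_one.2 (fun a ha b hb => by rw [hex a ha, hex b hb])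
          omega
      rcases hWdiv with h | h | h | h | h <;> rcases htdiv with h' | h' | h' | h' | h' | h' <;>
        rw [h] at h9 hcard ⊢ <;> rw [h'] at hcard h4t h5t ⊢ <;> omega
    · rcases hWdiv with h | h | h | h | h <;> rcases htdiv with h' | h' | h' | h' | h' | h' <;>
        rw [h] at h27 hcard ⊢ <;> rw [h'] at hcard h4t h5t ⊢ <;> omega

end core


end BG9

open Cfsg.Agent.Lib.Helper18.PSUMod Cfsg.Agent.Lib.Helper5.HermBridge Cfsg.Agent.Lib.Helper12.U3
open Cfsg.Agent.Lib.Helper7.U3B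

section borel

variable {F : Type*} [Field F] [Fintype F] {q : ℕ} (hF : Fintype.card F = q ^ 2)

/-- `cq` is additive on `TT` -/
theorem cq_pow_TT (g : GG hF) (hg : g ∈ TT hF) (n : ℕ) : cq hF (g ^ n) = n * cq hF g := by
  have hw : wq hF g = 0 := (mem_TT_iff hF g (TT_le_QQ hF hg)).1 hg
  induction n with
  | zero => simp [cq_one]
  | succ n ih =>
    rw [pow_succ, cq_mul hF _ _ ((QQ hF).pow_mem (TT_le_QQ hF hg) n) (TT_le_QQ hF hg), ih, hw]
    push_cast
    ring

/-- the `cq`-coordinates of a subgroup of order three of `TT` (characteristic three) -/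
theorem cq_mem_of_card_three [DecidableEq F] (h3 : (3 : F) = 0) (E : Subgroup (GG hF))
    (hET : E ≤ TT hF) (hE : Nat.card E = 3) (g0 : GG hF) (hg0 : g0 ∈ E) (hg01 : g0 ≠ 1)
    (g : GG hF) (hg : g ∈ E) :
    cq hF g ∈ ({0, cq hF g0, -cq hF g0} : Finset F) := by
  have : Fact (Nat.Prime 3) := ⟨Nat.prime_three⟩
  have hne : (⟨g0, hg0⟩ : ↥E) ≠ 1 := fun h => hg01 (congrArg Subtype.val h)
  obtain ⟨n, hn⟩ := mem_powers_of_prime_card hE hne (g' := ⟨g, hg⟩)
  have hn' : g0 ^ n = g := by
    have := congrArg Subtype.val hn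
    simpa using this
  rw [← hn', cq_pow_TT hF g0 (hET hg0) n]
  simp only [Finset.mem_insert, Finset.mem_singleton]
  have hch : CharP F 3 := by
    have h3' : ((3 : ℕ) : F) = 0 := by exact_mod_cast h3
    exact (CharP.charP_iff_prime_eq_zero Nat.prime_three).2 h3'
  rw [CharP.cast_eq_mod F 3 n]
  have hlt : n % 3 < 3 := Nat.mod_lt _ (by norm_num)
  interval_cases (n % 3)
  · left; simp
  · right; left; simp
  · right; right
    push_cast
    linear_combination cq hF g0 * h3

/-- B2 -/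
theorem borel_gamma9 (hq : q = 9) (K : Subgroup (GG hF)) (hK : K ≤ PP hF)
    (hE : Nat.card ↥(K ⊓ TT hF) = 3) (hcard : 80 ≤ Nat.card K) :
    Nat.card K = 108 ∨ Nat.card K = 162 ∨ Nat.card K = 81 := by
  classical
  subst hq
  have hF81 : Fintype.card F = 81 := by rw [hF]; norm_num
  have hch := BG9.charP_three_of_card hF81
  have h3 : (3 : F) = 0 := by exact_mod_cast CharP.cast_eq_zero F 3
  have hbar : ∀ x, frobHom hF x = x ^ 9 := fun x => rfl
  -- the set `W` of `w`-coordinates
  obtain ⟨W, hWdef⟩ : ∃ W : Finset F,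
      W = Finset.univ.filter (fun w => Multiplicative.ofAdd w ∈ (wK hF K).range) := ⟨_, rfl⟩
  have hWmem : ∀ w, w ∈ W ↔ Multiplicative.ofAdd w ∈ (wK hF K).range := by
    intro w; rw [hWdef, Finset.mem_filter]; simp
  have hWcard : W.card = Nat.card ↥(wK hF K).range := by
    rw [← Fintype.card_coe, ← Nat.card_eq_fintype_card]
    apply Nat.card_congr
    exact ⟨fun w => ⟨Multiplicative.ofAdd w.1, (hWmem _).1 w.2⟩,
      fun x => ⟨Multiplicative.toAdd x.1, (hWmem _).2 (by simp)⟩,
      fun w => by simp, fun x => by simp⟩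
  have hW0 : (0 : F) ∈ W := by
    rw [hWmem]
    exact (wK hF K).range.one_mem
  have hWdvd : W.card ∣ 81 := by
    rw [hWcard]
    have h81 : (9 : ℕ) ^ 2 = 81 := by norm_num
    rw [← h81]
    exact card_wK_dvd hF K
  -- the generator of `K ⊓ TT`
  have hfinE : Finite ↥(K ⊓ TT hF) := Nat.finite_of_card_ne_zero (by rw [hE]; norm_num)
  have hntE : Nontrivial ↥(K ⊓ TT hF) := Finite.one_lt_card_iff_nontrivial.1 (by rw [hE]; norm_num)
  obtain ⟨⟨g0, hg0⟩, hg0ne⟩ := exists_ne (1 : ↥(K ⊓ TT hF))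
  have hg01 : g0 ≠ 1 := fun h => hg0ne (Subtype.ext h)
  have hg0Q : g0 ∈ QQ hF := TT_le_QQ hF hg0.2
  have hg0w : wq hF g0 = 0 := (mem_TT_iff hF g0 hg0Q).1 hg0.2
  obtain ⟨c0, hc0def⟩ : ∃ c0 : F, c0 = cq hF g0 := ⟨_, rfl⟩
  have hc0 : c0 ≠ 0 := by
    intro h
    rw [hc0def] at h
    exact hg01 (eq_one_of_wq_cq hF g0 hg0Q hg0w h)
  have hE0 : ∀ g ∈ K ⊓ TT hF, cq hF g ∈ ({0, c0, -c0} : Finset F) := by
    intro g hg
    rw [hc0def]
    exact cq_mem_of_card_three hF h3 (K ⊓ TT hF) inf_le_right hE g0 hg0 hg01 g hg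
  -- the commutator form
  have hβ : ∀ w ∈ W, ∀ w' ∈ W,
      w * frobHom hF w' - w' * frobHom hF w ∈ ({0, c0, -c0} : Finset F) := by
    intro w hw w' hw'
    obtain ⟨d, hd, rfl⟩ := (mem_wK_range hF K w).1 ((hWmem w).1 hw)
    obtain ⟨d', hd', rfl⟩ := (mem_wK_range hF K w').1 ((hWmem w').1 hw')
    obtain ⟨z, hz⟩ : ∃ z : GG hF, z = (d' * d)⁻¹ * (d * d') := ⟨_, rfl⟩
    have hd'dQ : d' * d ∈ QQ hF := (QQ hF).mul_mem hd'.2 hd.2
    have hdd'Q : d * d' ∈ QQ hF := (QQ hF).mul_mem hd.2 hd'.2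
    have hzK : z ∈ K := by
      rw [hz]
      exact K.mul_mem (K.inv_mem (K.mul_mem hd'.1 hd.1)) (K.mul_mem hd.1 hd'.1)
    have hzQ : z ∈ QQ hF := by
      rw [hz]
      exact (QQ hF).mul_mem ((QQ hF).inv_mem hd'dQ) hdd'Q
    have hzw : wq hF z = 0 := by
      rw [hz, wq_mul hF _ _ ((QQ hF).inv_mem hd'dQ) hdd'Q, wq_inv hF _ hd'dQ,
        wq_mul hF _ _ hd'.2 hd.2, wq_mul hF _ _ hd.2 hd'.2]
      ring
    have hzT : z ∈ TT hF := (mem_TT_iff hF z hzQ).2 hzw
    have hprod : d * d' = (d' * d) * z := by rw [hz]; group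
    have h1 := cq_mul hF (d' * d) z hd'dQ hzQ
    rw [← hprod, hzw, zero_mul, sub_zero, cq_mul hF d d' hd.2 hd'.2,
      cq_mul hF d' d hd'.2 hd.2] at h1
    have h2 : cq hF z = wq hF d * frobHom hF (wq hF d') - wq hF d' * frobHom hF (wq hF d) := by
      linear_combination -h1
    rw [← h2]
    exact hE0 z ⟨hzK, hzT⟩
  -- `t ∣ 20`
  have hpow20 : ∀ k ∈ K, ca k ^ 20 = 1 := by
    intro k hk
    have hkP := hK hk
    have h1 := cq_conj hF k g0 hkP hg0.2
    have h2 : k * g0 * k⁻¹ ∈ K ⊓ TT hF :=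
      ⟨K.mul_mem (K.mul_mem hk hg0.1) (K.inv_mem hk), conj_mem_TT hF k g0 hkP hg0.2⟩
    have h3' := hE0 _ h2
    rw [h1, ← hc0def] at h3'
    have hnm : nm hF (ca k) = ca k ^ 10 := by
      unfold nm
      rw [hbar]; ring
    rw [hnm] at h3'
    simp only [Finset.mem_insert, Finset.mem_singleton] at h3'
    have ha0 : ca k ≠ 0 := ca_ne_zero hkP
    rcases h3' with h | h | h
    · exfalso
      rcases mul_eq_zero.1 h with h' | h'
      · exact ha0 (pow_eq_zero_iff (by norm_num) |>.1 h')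
      · exact hc0 h'
    · have h10 : ca k ^ 10 = 1 := mul_right_cancel₀ hc0 (by rw [h, one_mul])
      have : ca k ^ 20 = (ca k ^ 10) ^ 2 := by ring
      rw [this, h10, one_pow]
    · have h10 : ca k ^ 10 = -1 := mul_right_cancel₀ hc0 (by rw [h]; ring)
      have : ca k ^ 20 = (ca k ^ 10) ^ 2 := by ring
      rw [this, h10]; ring
  obtain ⟨t, htdef⟩ : ∃ t : ℕ, t = Nat.card ↥(caK hF K hK).range := ⟨_, rfl⟩
  have ht20 : t ∣ 20 := by
    rw [htdef, ← IsCyclic.exponent_eq_card]
    apply Monoid.exponent_dvd_of_forall_pow_eq_one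
    rintro ⟨u, hu⟩
    obtain ⟨k, hk, hku⟩ := (mem_caK_range hF K hK u).1 hu
    apply Subtype.ext
    apply Units.ext
    have := hpow20 k hk
    rw [hku] at this
    simpa using this
  -- an element of order five
  have h5 : 5 ∣ t → ∃ μ : F, μ ≠ 1 ∧ μ ^ 5 = 1 ∧ ∀ w ∈ W, μ * w ∈ W := by
    intro h5t
    have : Fact (Nat.Prime 5) := ⟨by norm_num⟩
    rw [htdef] at h5t
    obtain ⟨⟨u, hu⟩, hord⟩ := exists_prime_orderOf_dvd_card' 5 h5t
    obtain ⟨k, hk, hku⟩ := (mem_caK_range hF K hK u).1 hu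
    have hu5 : (u : F) ^ 5 = 1 := by
      have := pow_orderOf_eq_one (⟨u, hu⟩ : ↥(caK hF K hK).range)
      rw [hord] at this
      have := congrArg (fun x : ↥(caK hF K hK).range => ((x : Fˣ) : F)) this
      simpa using this
    have hu1 : (u : F) ≠ 1 := by
      intro h
      have : (⟨u, hu⟩ : ↥(caK hF K hK).range) = 1 := Subtype.ext (Units.ext h)
      rw [this, orderOf_one] at hord
      norm_num at hord
    have ha0 : (u : F) ≠ 0 := u.ne_zero
    have hth : th hF (ca k) = (u : F) ^ 2 := by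
      unfold th
      rw [hku, hbar]
      have e1 : (u : F) ^ 9 * (u : F) ^ 9 * (u : F)⁻¹ = (u : F) ^ 17 * ((u : F) * (u : F)⁻¹) := by
        ring
      rw [e1, mul_inv_cancel₀ ha0, mul_one]
      have e2 : (u : F) ^ 17 = ((u : F) ^ 5) ^ 3 * (u : F) ^ 2 := by ring
      rw [e2, hu5, one_pow, one_mul]
    refine ⟨(u : F) ^ 2, ?_, ?_, ?_⟩
    · intro h
      apply hu1
      have e : (u : F) ^ 5 = ((u : F) ^ 2) ^ 2 * (u : F) := by ring
      rw [h, one_pow, one_mul] at e
      rw [← e, hu5]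
    · have e : ((u : F) ^ 2) ^ 5 = ((u : F) ^ 5) ^ 2 := by ring
      rw [e, hu5, one_pow]
    · intro w hw
      rw [← hth, hWmem]
      exact wK_stable hF K hK k hk w ((hWmem w).1 hw)
  -- an element of order four
  have h4 : t = 4 → ∃ i : F, i * i = -1 ∧ ∀ w ∈ W, i * w ∈ W := by
    intro ht4
    obtain ⟨⟨u, hu⟩, hord⟩ := IsCyclic.exists_ofOrder_eq_natCard (α := ↥(caK hF K hK).range)
    rw [← htdef, ht4] at hord
    obtain ⟨k, hk, hku⟩ := (mem_caK_range hF K hK u).1 hu
    have hu4 : (u : F) ^ 4 = 1 := by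
      have := pow_orderOf_eq_one (⟨u, hu⟩ : ↥(caK hF K hK).range)
      rw [hord] at this
      have := congrArg (fun x : ↥(caK hF K hK).range => ((x : Fˣ) : F)) this
      simpa using this
    have hu2 : (u : F) ^ 2 ≠ 1 := by
      intro h
      have h' : (⟨u, hu⟩ : ↥(caK hF K hK).range) ^ 2 = 1 := by
        apply Subtype.ext
        apply Units.ext
        simpa using h
      have := orderOf_dvd_of_pow_eq_one h'
      rw [hord] at this
      norm_num at this
    have ha0 : (u : F) ≠ 0 := u.ne_zero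
    have hii : (u : F) * (u : F) = -1 := by
      have e : ((u : F) ^ 2 - 1) * ((u : F) ^ 2 + 1) = 0 := by linear_combination hu4
      rcases mul_eq_zero.1 e with h | h
      · exact absurd (by linear_combination h) hu2
      · linear_combination h
    have hth : th hF (ca k) = (u : F) := by
      unfold th
      rw [hku, hbar]
      have e1 : (u : F) ^ 9 * (u : F) ^ 9 * (u : F)⁻¹ = (u : F) ^ 17 * ((u : F) * (u : F)⁻¹) := by
        ring
      rw [e1, mul_inv_cancel₀ ha0, mul_one]
      have e2 : (u : F) ^ 17 = ((u : F) ^ 4) ^ 4 * (u : F) := by ring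
      rw [e2, hu4, one_pow, one_mul]
    refine ⟨(u : F), hii, ?_⟩
    intro w hw
    rw [hWmem]
    have := wK_stable hF K hK k hk w ((hWmem w).1 hw)
    rwa [hth] at this
  -- the order of `K`
  have hKcard : Nat.card K = 3 * W.card * t := by
    rw [card_K hF K hK, card_D hF K, hE, hWcard, htdef]
  rw [hKcard] at hcard ⊢
  exact BG9.bg9_core hF81 (frobHom hF) hbar W hW0 hWdvd c0 hc0 hβ t ht20 h5 h4 hcard

end borel

end Cfsg.Agent.Lib.Helper6.U3Leaf
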