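import Mathlib
import Cfsg.Agent.Lib.Helper12.U3Defs
import Cfsg.Agent.Lib.Helper14.SU2INST2

/-!
helper6: U3 WRAP (S2148 market "U3", planner helper12): from the Witt model `GG hF = SUm (frobHom hF) 1`
to the frozen shape of S2148 (transport along helper18's `PsiF`, then helper14's `psu_index_ge_of_center`).
-/

set_option autoImplicit false

namespace Cfsg.Agent.Lib.Helper6.U3Leaf

open Cfsg.Agent.Lib.Helper18.PSUMod Cfsg.Agent.Lib.Helper5.HermBridge Cfsg.Agent.Lib.Helper12.U3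
open Cfsg.Agent.Lib.Helper13

section wrapper

variable {F : Type*} [Field F] [Fintype F]

/-- W1: from the model group to the frozen statement (via `PsiF`, helper14 `psu_index_ge_of_center`). -/
theorem S2148_of_model (q : ℕ) (hF : Fintype.card F = q ^ 2) (hq : 3 ≤ q)
    (hidx : (PP hF).index = q ^ 3 + 1)
    (hmodel : ∀ H : Subgroup (GG hF), Subgroup.center (GG hF) ≤ H → H.index ≤ q ^ 3 → H = ⊤) :
    (∀ H : Subgroup (Cfsg.PSU 3 F q), H ≠ ⊤ → q ^ 3 + 1 ≤ H.index) ∧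
    (∃ H : Subgroup (Cfsg.PSU 3 F q), H.index = q ^ 3 + 1) := by
  obtain ⟨ζ, τ, hζ, hτ, hN⟩ := exists_consts hF
  have hB := barOK_frob hF
  -- the isomorphism `SU 3 F q ≃* GG hF`
  let Ψ : ↥(Cfsg.SU 3 F q) ≃* GG hF := PsiF (m := 1) hF hζ hτ hN
  have hcen : ∀ z : ↥(Cfsg.SU 3 F q), z ∈ Subgroup.center ↥(Cfsg.SU 3 F q) →
      Ψ z ∈ Subgroup.center (GG hF) := by
    intro z hz
    have hz := Subgroup.mem_center_iff.1 hz
    rw [Subgroup.mem_center_iff]
    intro y
    obtain ⟨y', rfl⟩ := Ψ.surjective y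
    rw [← map_mul, ← map_mul, hz y']
  have hcen' : ∀ z : GG hF, z ∈ Subgroup.center (GG hF) →
      Ψ.symm z ∈ Subgroup.center ↥(Cfsg.SU 3 F q) := by
    intro z hz
    have hz := Subgroup.mem_center_iff.1 hz
    rw [Subgroup.mem_center_iff]
    intro y
    apply Ψ.injective
    rw [map_mul, map_mul, MulEquiv.apply_symm_apply, hz]
  refine ⟨fun H hH => ?_, ?_⟩
  · apply Cfsg.Agent.Lib.Helper14.SU2Leaf.psu_index_ge_of_center 3 q (q ^ 3 + 1) _ H hH
    intro K hK hK'
    by_contra hcon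
    have hle : K.index ≤ q ^ 3 := by omega
    apply hK'
    have h1 : (K.map (Ψ : ↥(Cfsg.SU 3 F q) →* GG hF)).index = K.index :=
      Subgroup.index_map_equiv K Ψ
    have h2 : K.map (Ψ : ↥(Cfsg.SU 3 F q) →* GG hF) = ⊤ := by
      apply hmodel
      · intro z hz
        rw [Subgroup.mem_map]
        exact ⟨Ψ.symm z, hK (hcen' z hz), by simp⟩
      · rw [h1]; exact hle
    rw [eq_top_iff]
    intro k _
    have h3 : Ψ k ∈ K.map (Ψ : ↥(Cfsg.SU 3 F q) →* GG hF) := by rw [h2]; trivial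
    obtain ⟨k', hk', hkk⟩ := Subgroup.mem_map.1 h3
    have : k' = k := Ψ.injective hkk
    rwa [← this]
  · let H0 : Subgroup ↥(Cfsg.SU 3 F q) := (PP hF).comap (Ψ : ↥(Cfsg.SU 3 F q) →* GG hF)
    have h0 : H0.index = q ^ 3 + 1 := by
      rw [← hidx]
      exact Subgroup.index_comap_of_surjective (PP hF) Ψ.surjective
    have hc0 : Subgroup.center ↥(Cfsg.SU 3 F q) ≤ H0 := by
      intro z hz
      show Ψ z ∈ PP hF
      have h1 := hcen z hz
      rw [center_eq_Zs hB] at h1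
      obtain ⟨c, hc⟩ := h1
      exact ⟨c, hc ve⟩
    refine ⟨H0.map (QuotientGroup.mk' (Subgroup.center ↥(Cfsg.SU 3 F q))), ?_⟩
    rw [Subgroup.index_map_eq _ (QuotientGroup.mk'_surjective _)
      (by rw [QuotientGroup.ker_mk']; exact hc0)]
    exact h0

end wrapper

end Cfsg.Agent.Lib.Helper6.U3Leaf
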