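import Mathlib
import Cfsg.Prelude.Def_GeometricClasses
import Cfsg.Agent.Lib.Helper5.SUMax
import Cfsg.Agent.Lib.Helper18.C2Defs
import Cfsg.Agent.Lib.Helper9.C2L2
import Cfsg.Agent.Lib.Helper6.UADefs

set_option autoImplicit false
set_option linter.unusedSectionVars false
set_option linter.unusedVariables false

namespace Cfsg.Agent.Lib.Helper6.UALeaf
open Cfsg Matrix Cfsg.Agent.Lib.Helper5.UForm Cfsg.Agent.Lib.Helper5.HermBridge
  Cfsg.Agent.Lib.Helper5.SUGen Cfsg.Agent.Lib.Helper5.SUMax Cfsg.Agent.Lib.Helper18.C2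
  Cfsg.Agent.Lib.Helper6.UA

variable {F : Type*} [Field F] [Fintype F] {q n t k : ℕ} (hF : Fintype.card F = q ^ 2)
  {D : Fin t → Submodule F (Fin n → F)}
  (hD : Cfsg.Geo.IsNondegenerateMDecomposition (Cfsg.hermForm n F q) k D)
  {M : Subgroup (GL (Fin n) F)}
include hF hD

theorem exists_qr {i : Fin t} {v : Fin n → F} (hv : v ∈ D i)
    (h1 : Cfsg.hermForm n F q v v ≠ 0) {ζ : F} (hζ : ζ * frobQ hF ζ = 1) :
    ∃ g : GL (Fin n) F, g ∈ Cfsg.Geo.decompositionStabilizer D ∧ g ∈ Cfsg.GU n F q ∧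
      (g : Matrix (Fin n) (Fin n) F).det = ζ ∧
      ∀ x, (g : Matrix (Fin n) (Fin n) F) *ᵥ x =
        x + ((ζ - 1) * Cfsg.hermForm n F q x v / Cfsg.hermForm n F q v v) • v := by
  have hf := herm_unitary (n := n) hF
  obtain ⟨N, hN⟩ : ∃ N, N = Cfsg.hermForm n F q v v := ⟨_, rfl⟩
  rw [← hN] at h1
  have hNfix : frobQ hF N = N := by rw [hN]; exact u_self_fixed hf v
  have hζ0 : ζ ≠ 0 := by
    rintro rfl
    rw [zero_mul] at hζ
    exact zero_ne_one hζ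
  -- the functional
  let s : (Fin n → F) →ₗ[F] F := ((ζ - 1) / N) • uL hf v
  have hs : ∀ x, s x = (ζ - 1) * Cfsg.hermForm n F q x v / N := by
    intro x
    change ((ζ - 1) / N) • (uL hf v x) = _
    rw [uL_apply, smul_eq_mul]
    ring
  have hsv : 1 + s v = ζ := by
    rw [hs, ← hN, mul_div_assoc, div_self h1]
    ring
  obtain ⟨g, hdet, hg⟩ := exists_homology s v (by rw [hsv]; exact hζ0)
  have hg' : ∀ x, (g : Matrix (Fin n) (Fin n) F) *ᵥ x =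
      x + ((ζ - 1) * Cfsg.hermForm n F q x v / N) • v := by
    intro x
    rw [hg, hs]
  refine ⟨g, ?_, ?_, by rw [hdet, hsv], fun x => by rw [hg' x, hN]⟩
  · apply mem_stab_of_mapsTo hD.decomp 1
    intro l x hx
    rw [hg', Equiv.Perm.coe_one, id_eq]
    by_cases hli : l = i
    · subst hli
      exact (D l).add_mem hx ((D l).smul_mem _ hv)
    · rw [hD.orthogonal l i hli x hx v hv, mul_zero, zero_div, zero_smul, add_zero]
      exact hx
  · rw [mem_GU]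
    intro x y
    rw [hg', hg', hf.add_left, u_add_right hf, u_add_right hf, hf.smul_left, hf.smul_left,
      u_smul_right hf, u_smul_right hf, ← hN, map_div₀, map_mul, map_sub, map_one, hNfix,
      hf.herm v y]
    have hζ' : frobQ hF ζ = ζ⁻¹ := eq_inv_of_mul_eq_one_right hζ
    rw [hζ']
    field_simp
    ring

theorem exists_qr_pair {i j : Fin t} {v₁ v₂ : Fin n → F} (hv₁ : v₁ ∈ D i) (hv₂ : v₂ ∈ D j)
    (h1 : Cfsg.hermForm n F q v₁ v₁ ≠ 0) (h2 : Cfsg.hermForm n F q v₂ v₂ ≠ 0)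
    (h12 : Cfsg.hermForm n F q v₁ v₂ = 0) {ζ : F} (hζ : ζ * frobQ hF ζ = 1) :
    ∃ g ∈ HU D q, ∀ x, (g : Matrix (Fin n) (Fin n) F) *ᵥ x =
      x + ((ζ - 1) * Cfsg.hermForm n F q x v₁ / Cfsg.hermForm n F q v₁ v₁) • v₁
        + ((frobQ hF ζ - 1) * Cfsg.hermForm n F q x v₂ / Cfsg.hermForm n F q v₂ v₂) • v₂ := by
  have hf := herm_unitary (n := n) hF
  have hζ2 : frobQ hF ζ * frobQ hF (frobQ hF ζ) = 1 := by
    rw [hf.involutive, mul_comm]; exact hζ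
  obtain ⟨g₁, hg₁S, hg₁U, hg₁d, hg₁⟩ := exists_qr hF hD hv₁ h1 hζ
  obtain ⟨g₂, hg₂S, hg₂U, hg₂d, hg₂⟩ := exists_qr hF hD hv₂ h2 hζ2
  refine ⟨g₁ * g₂, ⟨mul_mem hg₁S hg₂S, mul_mem hg₁U hg₂U, ?_⟩, fun x => ?_⟩
  · apply (mem_specialLinear_iff (g₁ * g₂)).mpr
    rw [Units.val_mul, Matrix.det_mul, hg₁d, hg₂d]
    exact hζ
  · rw [Units.val_mul, ← Matrix.mulVec_mulVec, hg₂, hg₁, hf.add_left, hf.smul_left,
      u_symm_zero hf h12, mul_zero, add_zero]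
    abel

end Cfsg.Agent.Lib.Helper6.UALeaf
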