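import Mathlib
import Cfsg.Prelude.Def_GeometricClasses
import Cfsg.Agent.Lib.Helper5.SUMax
import Cfsg.Agent.Lib.Helper18.C2Defs
import Cfsg.Agent.Lib.Helper9.C2L2
import Cfsg.Agent.Lib.Helper6.UADefs
import Cfsg.Agent.Lib.Helper6.UAA3

set_option autoImplicit false
set_option linter.unusedSectionVars false
set_option linter.unusedVariables false

namespace Cfsg.Agent.Lib.Helper6.UALeaf
open Cfsg Matrix Cfsg.Agent.Lib.Helper5.UForm Cfsg.Agent.Lib.Helper5.HermBridge
  Cfsg.Agent.Lib.Helper5.SUGen Cfsg.Agent.Lib.Helper5.SUMax Cfsg.Agent.Lib.Helper18.C2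
  Cfsg.Agent.Lib.Helper6.UA

variable {F : Type*} [Field F] [Fintype F] {q n t k : ℕ} (hF : Fintype.card F = q ^ 2)
  {D : Fin t → Submodule F (Fin n → F)}
  (hD : Cfsg.Geo.IsNondegenerateMDecomposition (Cfsg.hermForm n F q) k D)
  {M : Subgroup (GL (Fin n) F)}
include hF hD


omit hD in
/-- the unitary map `x ↦ x - ⟪x,u⟫ u`, `u = v - v'`, for orthogonal `v, v'` of norm one -/
lemma exists_vswap {v v' : Fin n → F} (hv : Cfsg.hermForm n F q v v = 1)
    (hv' : Cfsg.hermForm n F q v' v' = 1) (hvv' : Cfsg.hermForm n F q v v' = 0) :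
    ∃ s : GL (Fin n) F, s ∈ Cfsg.GU n F q ∧ (s : Matrix (Fin n) (Fin n) F).det = -1 ∧
      ∀ x, (s : Matrix (Fin n) (Fin n) F) *ᵥ x =
        x - (Cfsg.hermForm n F q x v - Cfsg.hermForm n F q x v') • (v - v') := by
  have hf := herm_unitary (n := n) hF
  have hv'v : Cfsg.hermForm n F q v' v = 0 := u_symm_zero hf hvv'
  have huu : Cfsg.hermForm n F q (v - v') (v - v') = 2 := by
    rw [u_sub_left hf, u_sub_right hf, u_sub_right hf, hv, hv', hvv', hv'v]
    ring
  have hsu : 1 + (-(uL hf (v - v'))) (v - v') = -1 := by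
    rw [LinearMap.neg_apply, uL_apply, huu]
    ring
  obtain ⟨s, hdet, hs⟩ := exists_homology (-(uL hf (v - v'))) (v - v')
    (by rw [hsu]; exact neg_ne_zero.mpr one_ne_zero)
  have hs' : ∀ x, (s : Matrix (Fin n) (Fin n) F) *ᵥ x =
      x - (Cfsg.hermForm n F q x v - Cfsg.hermForm n F q x v') • (v - v') := by
    intro x
    rw [hs, LinearMap.neg_apply, uL_apply, u_sub_right hf, neg_smul, ← sub_eq_add_neg]
  refine ⟨s, ?_, by rw [hdet, hsu], hs'⟩
  rw [mem_GU]
  intro x y
  rw [hs', hs', u_sub_left hf, u_sub_right hf, u_sub_right hf, hf.smul_left, hf.smul_left,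
    u_smul_right hf, u_smul_right hf, huu, ← u_sub_right hf x, ← u_sub_right hf y,
    hf.herm (v - v') y]
  ring

omit hD in
lemma swap_aux : ∀ m : ℕ, ∀ A B : Submodule F (Fin n → F),
    ND (Cfsg.hermForm n F q) A → ND (Cfsg.hermForm n F q) B →
    (∀ x ∈ A, ∀ y ∈ B, Cfsg.hermForm n F q x y = 0) →
    Module.finrank F A = m → Module.finrank F B = m →
    ∃ g : GL (Fin n) F, g ∈ Cfsg.GU n F q ∧
      ((g : Matrix (Fin n) (Fin n) F).det = 1 ∨ (g : Matrix (Fin n) (Fin n) F).det = -1) ∧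
      (∀ x ∈ A, (g : Matrix (Fin n) (Fin n) F) *ᵥ x ∈ B) ∧
      (∀ x ∈ B, (g : Matrix (Fin n) (Fin n) F) *ᵥ x ∈ A) ∧
      ∀ x, (∀ y ∈ A, Cfsg.hermForm n F q x y = 0) → (∀ y ∈ B, Cfsg.hermForm n F q x y = 0) →
        (g : Matrix (Fin n) (Fin n) F) *ᵥ x = x := by
  have hf := herm_unitary (n := n) hF
  intro m
  induction m with
  | zero =>
    intro A B _ _ _ hA hB
    have hA' : A = ⊥ := Submodule.finrank_eq_zero.mp hA
    have hB' : B = ⊥ := Submodule.finrank_eq_zero.mp hB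
    refine ⟨1, one_mem _, Or.inl (by simp), ?_, ?_, fun x _ _ => by simp⟩
    · intro x hx
      rw [hA', Submodule.mem_bot] at hx
      rw [hx, Matrix.mulVec_zero]
      exact B.zero_mem
    · intro x hx
      rw [hB', Submodule.mem_bot] at hx
      rw [hx, Matrix.mulVec_zero]
      exact A.zero_mem
  | succ m ih =>
    intro A B hA hB hAB hdA hdB
    have hBA : ∀ x ∈ B, ∀ y ∈ A, Cfsg.hermForm n F q x y = 0 :=
      fun x hx y hy => u_symm_zero hf (hAB y hy x hx)
    obtain ⟨v, hvA, hv⟩ := exists_norm1 hf hA (by omega) 1 (map_one _)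
    obtain ⟨v', hv'B, hv'⟩ := exists_norm1 hf hB (by omega) 1 (map_one _)
    have hvv' : Cfsg.hermForm n F q v v' = 0 := hAB v hvA v' hv'B
    have hv'v : Cfsg.hermForm n F q v' v = 0 := u_symm_zero hf hvv'
    have hv1 : Cfsg.hermForm n F q v v ≠ 0 := by rw [hv]; exact one_ne_zero
    have hv'1 : Cfsg.hermForm n F q v' v' ≠ 0 := by rw [hv']; exact one_ne_zero
    -- the smaller spaces
    have hA' := ND_noniso hf hA hvA hv1
    have hB' := ND_noniso hf hB hv'B hv'1
    have hdA' : Module.finrank F ↥(A ⊓ pp hf v) = m := by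
      have h1 := finrank_inf_pp hf A v
      have h2 : A ⊓ pp hf v < A := by
        refine lt_of_le_of_ne inf_le_left (fun h => ?_)
        have : v ∈ A ⊓ pp hf v := by rw [h]; exact hvA
        exact hv1 ((mem_pp hf).mp (Submodule.mem_inf.mp this).2)
      have h3 := Submodule.finrank_lt_finrank_of_lt h2
      omega
    have hdB' : Module.finrank F ↥(B ⊓ pp hf v') = m := by
      have h1 := finrank_inf_pp hf B v'
      have h2 : B ⊓ pp hf v' < B := by
        refine lt_of_le_of_ne inf_le_left (fun h => ?_)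
        have : v' ∈ B ⊓ pp hf v' := by rw [h]; exact hv'B
        exact hv'1 ((mem_pp hf).mp (Submodule.mem_inf.mp this).2)
      have h3 := Submodule.finrank_lt_finrank_of_lt h2
      omega
    obtain ⟨g', hg'U, hg'd, hg'A, hg'B, hg'fix⟩ := ih (A ⊓ pp hf v) (B ⊓ pp hf v') hA' hB'
      (fun x hx y hy => hAB x (Submodule.mem_inf.mp hx).1 y (Submodule.mem_inf.mp hy).1) hdA' hdB'
    obtain ⟨s, hsU, hsd, hs⟩ := exists_vswap hF hv hv' hvv'
    -- `g'` fixes `v` and `v'`
    have hg'v : (g' : Matrix (Fin n) (Fin n) F) *ᵥ v = v := by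
      apply hg'fix
      · intro y hy
        exact u_symm_zero hf ((mem_pp hf).mp (Submodule.mem_inf.mp hy).2)
      · intro y hy
        exact hAB v hvA y (Submodule.mem_inf.mp hy).1
    have hg'v' : (g' : Matrix (Fin n) (Fin n) F) *ᵥ v' = v' := by
      apply hg'fix
      · intro y hy
        exact hBA v' hv'B y (Submodule.mem_inf.mp hy).1
      · intro y hy
        exact u_symm_zero hf ((mem_pp hf).mp (Submodule.mem_inf.mp hy).2)
    refine ⟨g' * s, mul_mem hg'U hsU, ?_, ?_, ?_, ?_⟩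
    · rw [Units.val_mul, Matrix.det_mul, hsd]
      rcases hg'd with h | h
      · right; rw [h]; ring
      · left; rw [h]; ring
    · intro x hx
      have hx' : x - Cfsg.hermForm n F q x v • v ∈ A ⊓ pp hf v := by
        refine Submodule.mem_inf.mpr ⟨A.sub_mem hx (A.smul_mem _ hvA), ?_⟩
        rw [mem_pp, u_sub_left hf, hf.smul_left, hv, mul_one, sub_self]
      have hE : (s : Matrix (Fin n) (Fin n) F) *ᵥ x =
          (x - Cfsg.hermForm n F q x v • v) + Cfsg.hermForm n F q x v • v' := by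
        rw [hs, hAB x hx v' hv'B, sub_zero, smul_sub]
        abel
      rw [Units.val_mul, ← Matrix.mulVec_mulVec, hE, Matrix.mulVec_add, Matrix.mulVec_smul, hg'v']
      exact B.add_mem (Submodule.mem_inf.mp (hg'A _ hx')).1 (B.smul_mem _ hv'B)
    · intro x hx
      have hx' : x - Cfsg.hermForm n F q x v' • v' ∈ B ⊓ pp hf v' := by
        refine Submodule.mem_inf.mpr ⟨B.sub_mem hx (B.smul_mem _ hv'B), ?_⟩
        rw [mem_pp, u_sub_left hf, hf.smul_left, hv', mul_one, sub_self]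
      have hE : (s : Matrix (Fin n) (Fin n) F) *ᵥ x =
          (x - Cfsg.hermForm n F q x v' • v') + Cfsg.hermForm n F q x v' • v := by
        rw [hs, hBA x hx v hvA, zero_sub, smul_sub, neg_smul, neg_smul]
        abel
      rw [Units.val_mul, ← Matrix.mulVec_mulVec, hE, Matrix.mulVec_add, Matrix.mulVec_smul, hg'v]
      exact A.add_mem (Submodule.mem_inf.mp (hg'B _ hx')).1 (A.smul_mem _ hvA)
    · intro x hxA hxB
      rw [Units.val_mul, ← Matrix.mulVec_mulVec, hs, hxA v hvA, hxB v' hv'B, sub_zero, zero_smul,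
        sub_zero]
      exact hg'fix x (fun y hy => hxA y (Submodule.mem_inf.mp hy).1)
        (fun y hy => hxB y (Submodule.mem_inf.mp hy).1)

theorem exists_swap (hk : 2 ≤ k) (i j : Fin t) (hij : i ≠ j) :
    ∃ g ∈ HU D q, ∀ l, ∀ x ∈ D l,
      (g : Matrix (Fin n) (Fin n) F) *ᵥ x ∈ D (Equiv.swap i j l) := by
  have hf := herm_unitary (n := n) hF
  obtain ⟨g₀, hg₀U, hg₀d, hg₀A, hg₀B, hg₀fix⟩ := swap_aux hF k (D i) (D j) (ND_block hD i)
    (ND_block hD j) (fun x hx y hy => hD.orthogonal i j hij x hx y hy)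
    (hD.decomp.finrank_eq i) (hD.decomp.finrank_eq j)
  have hmap : ∀ l, ∀ x ∈ D l, (g₀ : Matrix (Fin n) (Fin n) F) *ᵥ x ∈ D (Equiv.swap i j l) := by
    intro l x hx
    by_cases hli : l = i
    · subst hli
      rw [Equiv.swap_apply_left]
      exact hg₀A x hx
    by_cases hlj : l = j
    · subst hlj
      rw [Equiv.swap_apply_right]
      exact hg₀B x hx
    rw [Equiv.swap_apply_of_ne_of_ne hli hlj, hg₀fix x
      (fun y hy => hD.orthogonal l i hli x hx y hy) (fun y hy => hD.orthogonal l j hlj x hx y hy)]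
    exact hx
  have hg₀S : g₀ ∈ Cfsg.Geo.decompositionStabilizer D :=
    mem_stab_of_mapsTo hD.decomp (Equiv.swap i j) g₀ hmap
  rcases hg₀d with hd | hd
  · exact ⟨g₀, ⟨hg₀S, hg₀U, (mem_specialLinear_iff g₀).mpr hd⟩, hmap⟩
  · -- correct the sign
    have hdi : 1 ≤ Module.finrank F (D i) := by rw [hD.decomp.finrank_eq i]; omega
    obtain ⟨v, hvD, hv⟩ := exists_norm1 hf (ND_block hD i) hdi 1 (map_one _)
    have hv1 : Cfsg.hermForm n F q v v ≠ 0 := by rw [hv]; exact one_ne_zero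
    have hζ : (-1 : F) * frobQ hF (-1) = 1 := by rw [map_neg, map_one]; ring
    obtain ⟨r, hrS, hrU, hrd, hr⟩ := exists_qr hF hD hvD hv1 hζ
    refine ⟨g₀ * r, ⟨mul_mem hg₀S hrS, mul_mem hg₀U hrU, ?_⟩, fun l x hx => ?_⟩
    · apply (mem_specialLinear_iff (g₀ * r)).mpr
      rw [Units.val_mul, Matrix.det_mul, hrd, hd]
      ring
    · rw [Units.val_mul, ← Matrix.mulVec_mulVec]
      apply hmap l
      rw [hr]
      by_cases hli : l = i
      · subst hli
        exact (D l).add_mem hx ((D l).smul_mem _ hvD)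
      · rw [hD.orthogonal l i hli x hx v hvD, mul_zero, zero_div, zero_smul, add_zero]
        exact hx

end Cfsg.Agent.Lib.Helper6.UALeaf
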