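import Mathlib
import Cfsg.Prelude.Def_GeometricClasses
import Cfsg.Agent.Lib.Helper5.SUMax
import Cfsg.Agent.Lib.Helper18.C2Defs
import Cfsg.Agent.Lib.Helper9.C2L2
import Cfsg.Agent.Lib.Helper6.UADefs
import Cfsg.Agent.Lib.Helper9.UAA2
import Cfsg.Agent.Lib.Helper11.UAA4

set_option autoImplicit false
set_option linter.unusedSectionVars false
set_option linter.unusedVariables false

namespace Cfsg.Agent.Lib.Helper6.UALeaf
open Cfsg Matrix Cfsg.Agent.Lib.Helper5.UForm Cfsg.Agent.Lib.Helper5.HermBridge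
  Cfsg.Agent.Lib.Helper5.SUGen Cfsg.Agent.Lib.Helper5.SUMax Cfsg.Agent.Lib.Helper18.C2
  Cfsg.Agent.Lib.Helper6.UA

variable {F : Type*} [Field F] [Fintype F] {q n t k : ℕ} (hF : Fintype.card F = q ^ 2)
  {D : Fin t → Submodule F (Fin n → F)}
  (hD : Cfsg.Geo.IsNondegenerateMDecomposition (Cfsg.hermForm n F q) k D)
  {M : Subgroup (GL (Fin n) F)}
include hF hD

/-- the form of a block vector against `w` only sees the block component of `w` -/
lemma herm_pr_right {i : Fin t} (w : Fin n → F) {v : Fin n → F} (hv : v ∈ D i) :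
    Cfsg.hermForm n F q v w = Cfsg.hermForm n F q v (pr hD.decomp i w) := by
  have hf := herm_unitary (n := n) hF
  have hsum : ∀ (s : Finset (Fin t)) (g : Fin t → Fin n → F),
      Cfsg.hermForm n F q v (∑ l ∈ s, g l) = ∑ l ∈ s, Cfsg.hermForm n F q v (g l) := by
    intro s g
    classical
    induction s using Finset.induction_on with
    | empty => simp [u_zero_right hf]
    | insert a s ha ih => rw [Finset.sum_insert ha, Finset.sum_insert ha, u_add_right hf, ih]
  conv_lhs => rw [← sum_pr hD.decomp w, hsum]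
  rw [Finset.sum_eq_single i]
  · intro l _ hli
    exact hD.orthogonal i l (Ne.symm hli) v hv _ (pr_mem hD.decomp l w)
  · intro h; exact absurd (Finset.mem_univ i) h

omit hD in
lemma zero_mem_Sset : (0 : Fin n → F) ∈ Sset hF M := by
  have hf := herm_unitary (n := n) hF
  intro c hc g hg
  have : g = 1 := by
    apply Units.ext
    apply Cfsg.Agent.Lib.Helper5.SpMax.mat_eq_of_mulVec
    intro x
    rw [hg, smul_zero, add_zero, Units.val_one, Matrix.one_mulVec]
  rw [this]
  exact M.one_mem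

theorem all_iso (hk : 2 ≤ k) (hH : HU D q ≤ M)
    (hP : ∀ i j, i ≠ j → PairGood hF D M i j) :
    ∀ x, Cfsg.hermForm n F q x x = 0 → x ∈ Sset hF M := by
  classical
  have hf := herm_unitary (n := n) hF
  have hdc := hD.decomp
  suffices key : ∀ m : ℕ, ∀ x : Fin n → F, Cfsg.hermForm n F q x x = 0 →
      (Finset.univ.filter (fun l => pr hdc l x ≠ 0)).card = m → x ∈ Sset hF M from
    fun x hx => key _ x hx rfl
  intro m
  induction m using Nat.strong_induction_on with
  | _ m ih =>
    intro x hxx hm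
    obtain ⟨S, hS⟩ : ∃ S, S = Finset.univ.filter (fun l => pr hdc l x ≠ 0) := ⟨_, rfl⟩
    rw [← hS] at hm
    have hmemS : ∀ l, l ∈ S ↔ pr hdc l x ≠ 0 := by
      intro l; rw [hS, Finset.mem_filter]; simp
    by_cases hm0 : m = 0
    · -- x = 0
      have hS0 : S = ∅ := Finset.card_eq_zero.mp (by rw [hm, hm0])
      have hx0 : x = 0 := by
        rw [← sum_pr hdc x]
        apply Finset.sum_eq_zero
        intro l _
        by_contra h
        have := (hmemS l).mpr h
        rw [hS0] at this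
        exact absurd this (Finset.notMem_empty l)
      rw [hx0]
      exact zero_mem_Sset hF
    by_cases hm1 : m = 1
    · -- a block vector
      obtain ⟨l, hl⟩ := Finset.card_eq_one.mp (by rw [hm, hm1] : S.card = 1)
      have hxl : x = pr hdc l x := by
        conv_lhs => rw [← sum_pr hdc x]
        rw [Finset.sum_eq_single l]
        · intro l' _ hl'
          by_contra h
          have := (hmemS l').mpr h
          rw [hl, Finset.mem_singleton] at this
          exact hl' this
        · intro h; exact absurd (Finset.mem_univ l) h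
      have hxD : x ∈ D l := by rw [hxl]; exact pr_mem hdc l x
      exact Cfsg.Agent.Lib.Helper9.UALeaf.block_iso_mem hF hD hH hxD hxx
    -- at least two components
    have hm2 : 2 ≤ S.card := by rw [hm]; omega
    -- choice of the two indices
    obtain ⟨i₁, i₂, hi₁, hi₂, hne, hcase⟩ : ∃ i₁ i₂, i₁ ∈ S ∧ i₂ ∈ S ∧ i₁ ≠ i₂ ∧
        (Cfsg.hermForm n F q (pr hdc i₂ x) (pr hdc i₂ x) ≠ 0 ∨
          Cfsg.hermForm n F q (pr hdc i₁ x) (pr hdc i₁ x) = 0) := by
      by_cases hex : ∃ l ∈ S, Cfsg.hermForm n F q (pr hdc l x) (pr hdc l x) ≠ 0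
      · obtain ⟨l, hlS, hl⟩ := hex
        have : 1 < S.card := by omega
        obtain ⟨l', hl'S, hl'⟩ := Finset.exists_mem_ne this l
        exact ⟨l', l, hl'S, hlS, hl', Or.inl hl⟩
      · push Not at hex
        obtain ⟨a, ha, b, hb, hab⟩ := Finset.one_lt_card.mp (by omega : 1 < S.card)
        exact ⟨a, b, ha, hb, hab, Or.inr (hex a ha)⟩
    obtain ⟨x₁, hx₁⟩ : ∃ x₁, x₁ = pr hdc i₁ x := ⟨_, rfl⟩
    obtain ⟨x₂, hx₂⟩ : ∃ x₂, x₂ = pr hdc i₂ x := ⟨_, rfl⟩
    rw [← hx₁, ← hx₂] at hcase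
    have hx₁D : x₁ ∈ D i₁ := by rw [hx₁]; exact pr_mem hdc i₁ x
    have hx₂D : x₂ ∈ D i₂ := by rw [hx₂]; exact pr_mem hdc i₂ x
    have hx₂0 : x₂ ≠ 0 := by rw [hx₂]; exact (hmemS i₂).mp hi₂
    obtain ⟨θ, hθ0, hθ⟩ := exists_skew hf.involutive hf.ne_refl
    obtain ⟨ν, hν⟩ : ∃ ν, ν = Cfsg.hermForm n F q x₁ x₁ := ⟨_, rfl⟩
    have hνfix : frobQ hF ν = ν := by rw [hν]; exact u_self_fixed hf x₁
    have hcase' : Cfsg.hermForm n F q x₂ x₂ ≠ 0 ∨ θ - ν ≠ 0 ∨ 3 ≤ k := by
      rcases hcase with h | h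
      · exact Or.inl h
      · right; left
        rw [hν, h, sub_zero]
        exact hθ0
    obtain ⟨z, hzD, hzz, hzx⟩ := Cfsg.Agent.Lib.Helper11.UALeaf.exists_presc hF hD hk hx₂D hx₂0 (μ := -ν) (η := θ - ν)
      (by rw [map_neg, hνfix]) hcase'
    have h1z : Cfsg.hermForm n F q x₁ z = 0 := hD.orthogonal i₁ i₂ hne x₁ hx₁D z hzD
    have hz1 : Cfsg.hermForm n F q z x₁ = 0 := u_symm_zero hf h1z
    -- a
    have haa : Cfsg.hermForm n F q (x₁ + z) (x₁ + z) = 0 := by
      rw [hf.add_left, u_add_right hf, u_add_right hf, ← hν, h1z, hz1, hzz]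
      ring
    have haS : x₁ + z ∈ Sset hF M := hP i₁ i₂ hne x₁ hx₁D z hzD haa
    -- pairing of a with x
    have hax : Cfsg.hermForm n F q (x₁ + z) x = θ := by
      rw [hf.add_left, herm_pr_right hF hD x hx₁D, herm_pr_right hF hD x hzD, ← hx₁, ← hx₂,
        ← hν, hzx]
      ring
    have hxa : Cfsg.hermForm n F q x (x₁ + z) = -θ := by
      rw [hf.herm x (x₁ + z), hax, hθ]
    -- b
    obtain ⟨b, hb⟩ : ∃ b, b = x - (x₁ + z) := ⟨_, rfl⟩
    have hbb : Cfsg.hermForm n F q b b = 0 := by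
      rw [hb, u_sub_left hf, u_sub_right hf, u_sub_right hf, hxx, hxa, hax, haa]
      ring
    have hab : Cfsg.hermForm n F q (x₁ + z) b = θ := by
      rw [hb, u_sub_right hf, hax, haa, sub_zero]
    have hbS : b ∈ Sset hF M := by
      apply ih (Finset.univ.filter (fun l => pr hdc l b ≠ 0)).card _ b hbb rfl
      rw [← hm]
      apply Finset.card_lt_card
      rw [Finset.ssubset_iff_of_subset]
      · refine ⟨i₁, hi₁, ?_⟩
        rw [Finset.mem_filter]
        simp only [Finset.mem_univ, true_and, not_not]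
        rw [hb, map_sub, map_add, ← hx₁, pr_same hdc hx₁D, pr_ne hdc (Ne.symm hne) hzD]
        simp
      · intro l hl
        rw [Finset.mem_filter] at hl
        rw [hmemS]
        intro h0
        apply hl.2
        by_cases hl1 : l = i₁
        · subst hl1
          rw [hb, map_sub, map_add, ← hx₁, pr_same hdc hx₁D, pr_ne hdc (Ne.symm hne) hzD]
          simp
        · by_cases hl2 : l = i₂
          · subst hl2
            exfalso
            exact (hmemS l).mp hi₂ h0
          · rw [hb, map_sub, map_add, h0, pr_ne hdc (Ne.symm hl1) hx₁D, pr_ne hdc (Ne.symm hl2) hzD]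
            simp
    have hc : frobQ hF θ⁻¹ = -θ⁻¹ := by rw [map_inv₀, hθ, inv_neg]
    have hres := Sset_tv hF haS hbS hbb hc
    rw [hab, inv_mul_cancel₀ hθ0, one_smul, hb] at hres
    have : x₁ + z + (x - (x₁ + z)) = x := by abel
    rwa [this] at hres

end Cfsg.Agent.Lib.Helper6.UALeaf
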