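import Mathlib
import Cfsg.Prelude.Def_GeometricClasses
import Cfsg.Agent.Lib.Helper5.SUMax
import Cfsg.Agent.Lib.Helper18.C2Defs
import Cfsg.Agent.Lib.Helper9.C2L2
import Cfsg.Agent.Lib.Helper6.UADefs
import Cfsg.Agent.Lib.Helper6.UAA3
import Cfsg.Agent.Lib.Helper9.UAA2
import Cfsg.Agent.Lib.Helper11.UAA4

set_option autoImplicit false
set_option linter.unusedSectionVars false
set_option linter.unusedVariables false

namespace Cfsg.Agent.Lib.Helper6.UALeaf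
open Cfsg Matrix Cfsg.Agent.Lib.Helper5.UForm Cfsg.Agent.Lib.Helper5.HermBridge
  Cfsg.Agent.Lib.Helper5.SUGen Cfsg.Agent.Lib.Helper5.SUMax Cfsg.Agent.Lib.Helper18.C2
  Cfsg.Agent.Lib.Helper6.UA

variable {F : Type*} [Field F] [Fintype F] {q n t k : ℕ} (hF : Fintype.card F = q ^ 2)
  {D : Fin t → Submodule F (Fin n → F)}
  (hD : Cfsg.Geo.IsNondegenerateMDecomposition (Cfsg.hermForm n F q) k D)
  {M : Subgroup (GL (Fin n) F)}
include hF hD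

/-- the form against a block vector only sees the block component -/
lemma herm_pr {i : Fin t} (w : Fin n → F) {v : Fin n → F} (hv : v ∈ D i) :
    Cfsg.hermForm n F q w v = Cfsg.hermForm n F q (pr hD.decomp i w) v := by
  have hf := herm_unitary (n := n) hF
  have hsum : ∀ (s : Finset (Fin t)) (g : Fin t → Fin n → F),
      Cfsg.hermForm n F q (∑ l ∈ s, g l) v = ∑ l ∈ s, Cfsg.hermForm n F q (g l) v := by
    intro s g
    classical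
    induction s using Finset.induction_on with
    | empty => simp [u_zero_left hf]
    | insert a s ha ih => rw [Finset.sum_insert ha, Finset.sum_insert ha, hf.add_left, ih]
  conv_lhs => rw [← sum_pr hD.decomp w, hsum]
  rw [Finset.sum_eq_single i]
  · intro l _ hli
    exact hD.orthogonal l i hli _ (pr_mem hD.decomp l w) v hv
  · intro h; exact absurd (Finset.mem_univ i) h

theorem exists_two_comp (hk : 2 ≤ k) (hM : M ≤ Cfsg.GU n F q ⊓ Cfsg.Geo.specialLinear (Fin n) F)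
    (hH : HU D q ≤ M) {w : Fin n → F} (hw : w ∈ Sset hF M)
    (hww : Cfsg.hermForm n F q w w = 0) (hnp : ¬ Pure D w) :
    ∃ i j, i ≠ j ∧ ∃ a ∈ D i, ∃ b ∈ D j, Cfsg.hermForm n F q a a ≠ 0 ∧
      Cfsg.hermForm n F q (a + b) (a + b) = 0 ∧ a + b ∈ Sset hF M := by
  classical
  have hf := herm_unitary (n := n) hF
  -- two non-zero components
  have hw0 : w ≠ 0 := by
    rintro rfl
    exact hnp ⟨⟨0, by have := hD.decomp.two_le; omega⟩, Submodule.zero_mem _⟩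
  obtain ⟨i, hi⟩ : ∃ i, pr hD.decomp i w ≠ 0 := by
    by_contra hcon
    push Not at hcon
    apply hw0
    rw [← sum_pr hD.decomp w]
    exact Finset.sum_eq_zero (fun l _ => hcon l)
  obtain ⟨j, hji, hj⟩ : ∃ j, j ≠ i ∧ pr hD.decomp j w ≠ 0 := by
    by_contra hcon
    push Not at hcon
    apply hnp
    refine ⟨i, ?_⟩
    rw [← sum_pr hD.decomp w, Finset.sum_eq_single i]
    · exact pr_mem hD.decomp i w
    · intro l _ hli
      exact hcon l hli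
    · intro h; exact absurd (Finset.mem_univ i) h
  have hij : i ≠ j := Ne.symm hji
  have h1fix : frobQ hF (1 : F) = 1 := map_one _
  have hm1fix : frobQ hF (-1 : F) = -1 := by rw [map_neg, map_one]
  obtain ⟨v₁, hv₁, hv₁n, hρ₁⟩ := Cfsg.Agent.Lib.Helper11.UALeaf.exists_rho hF hD hk (pr_mem hD.decomp i w) hi one_ne_zero h1fix
  obtain ⟨v₂, hv₂, hv₂n, hρ₂⟩ := Cfsg.Agent.Lib.Helper11.UALeaf.exists_rho hF hD hk (pr_mem hD.decomp j w) hj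
    (neg_ne_zero.mpr one_ne_zero) hm1fix
  rw [← herm_pr hF hD w hv₁, one_mul] at hρ₁
  rw [← herm_pr hF hD w hv₂, neg_one_mul] at hρ₂
  obtain ⟨ζ, hζ, hζne⟩ := Cfsg.Agent.Lib.Helper9.UALeaf.exists_zeta hF hD
  have h12 : Cfsg.hermForm n F q v₁ v₂ = 0 := hD.orthogonal i j hij v₁ hv₁ v₂ hv₂
  obtain ⟨h, hhH, hh⟩ := exists_qr_pair hF hD hv₁ hv₂ hv₁n hv₂n h12 hζ
  have hhM : h ∈ M := hH hhH
  have hhU : h ∈ Cfsg.GU n F q := hhH.2.1
  have hhw := Sset_mulVec_mem hF hhM hhU hw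
  have hhww : Cfsg.hermForm n F q ((h : Matrix (Fin n) (Fin n) F) *ᵥ w)
      ((h : Matrix (Fin n) (Fin n) F) *ᵥ w) = 0 := by rw [mem_GU.mp hhU]; exact hww
  -- abbreviations
  obtain ⟨N₁, hN₁⟩ : ∃ N₁, N₁ = Cfsg.hermForm n F q v₁ v₁ := ⟨_, rfl⟩
  obtain ⟨N₂, hN₂⟩ : ∃ N₂, N₂ = Cfsg.hermForm n F q v₂ v₂ := ⟨_, rfl⟩
  obtain ⟨p₁, hp₁⟩ : ∃ p₁, p₁ = Cfsg.hermForm n F q w v₁ := ⟨_, rfl⟩
  obtain ⟨p₂, hp₂⟩ : ∃ p₂, p₂ = Cfsg.hermForm n F q w v₂ := ⟨_, rfl⟩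
  rw [← hN₁, ← hp₁] at hρ₁
  rw [← hN₁] at hv₁n
  rw [← hN₂, ← hp₂] at hρ₂
  rw [← hN₂] at hv₂n
  have hN₁fix : frobQ hF N₁ = N₁ := by rw [hN₁]; exact u_self_fixed hf v₁
  have hN₂fix : frobQ hF N₂ = N₂ := by rw [hN₂]; exact u_self_fixed hf v₂
  have hζ' : frobQ hF (frobQ hF ζ) = ζ := hf.involutive ζ
  obtain ⟨c₁, hc₁⟩ : ∃ c₁, c₁ = (ζ - 1) * p₁ / N₁ := ⟨_, rfl⟩
  obtain ⟨c₂, hc₂⟩ : ∃ c₂, c₂ = (frobQ hF ζ - 1) * p₂ / N₂ := ⟨_, rfl⟩
  have hhw_eq : (h : Matrix (Fin n) (Fin n) F) *ᵥ w = w + c₁ • v₁ + c₂ • v₂ := by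
    rw [hh, ← hN₁, ← hN₂, ← hp₁, ← hp₂, ← hc₁, ← hc₂]
  -- the pairing
  have hθ : Cfsg.hermForm n F q w ((h : Matrix (Fin n) (Fin n) F) *ᵥ w) = frobQ hF ζ - ζ := by
    rw [hhw_eq, u_add_right hf, u_add_right hf, u_smul_right hf, u_smul_right hf, hww, ← hp₁,
      ← hp₂, hc₁, hc₂, map_div₀, map_div₀, map_mul, map_mul, map_sub, map_sub, hζ', map_one,
      hN₁fix, hN₂fix]
    have e1 : (frobQ hF ζ - 1) * frobQ hF p₁ / N₁ * p₁ = frobQ hF ζ - 1 := by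
      rw [div_mul_eq_mul_div, div_eq_iff hv₁n]
      linear_combination (frobQ hF ζ - 1) * hρ₁
    have e2 : (ζ - 1) * frobQ hF p₂ / N₂ * p₂ = -(ζ - 1) := by
      rw [div_mul_eq_mul_div, div_eq_iff hv₂n]
      linear_combination (ζ - 1) * hρ₂
    rw [e1, e2]
    ring
  have hθ0 : frobQ hF ζ - ζ ≠ 0 := sub_ne_zero.mpr hζne
  obtain ⟨c, hcdef⟩ : ∃ c, c = -(frobQ hF ζ - ζ)⁻¹ := ⟨_, rfl⟩
  have hc : frobQ hF c = -c := by
    rw [hcdef, map_neg, map_inv₀, map_sub, hζ']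
    have : ζ - frobQ hF ζ = -(frobQ hF ζ - ζ) := by ring
    rw [this, inv_neg]
  have hres := Sset_tv hF hw hhw hhww hc
  rw [hθ] at hres
  have hcθ : c * (frobQ hF ζ - ζ) = -1 := by
    rw [hcdef, neg_mul, inv_mul_cancel₀ hθ0]
  rw [hcθ, hhw_eq] at hres
  have hres' : (-c₁) • v₁ + (-c₂) • v₂ ∈ Sset hF M := by
    have : w + (-1 : F) • (w + c₁ • v₁ + c₂ • v₂) = (-c₁) • v₁ + (-c₂) • v₂ := by module
    rwa [this] at hres
  have hp₁0 : p₁ ≠ 0 := by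
    rintro h0
    rw [h0, zero_mul] at hρ₁
    exact hv₁n hρ₁.symm
  have hζ1 : ζ - 1 ≠ 0 := by
    intro h0
    apply hζne
    rw [sub_eq_zero.mp h0, map_one]
  have hc₁0 : c₁ ≠ 0 := by
    rw [hc₁]
    exact div_ne_zero (mul_ne_zero hζ1 hp₁0) hv₁n
  refine ⟨i, j, hij, (-c₁) • v₁, (D i).smul_mem _ hv₁, (-c₂) • v₂, (D j).smul_mem _ hv₂, ?_, ?_, hres'⟩
  · rw [hf.smul_left, u_smul_right hf, ← hN₁]
    exact mul_ne_zero (neg_ne_zero.mpr hc₁0)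
      (mul_ne_zero ((map_ne_zero _).mpr (neg_ne_zero.mpr hc₁0)) hv₁n)
  · -- isotropy: w - h w
    have e : (-c₁) • v₁ + (-c₂) • v₂ = w - (h : Matrix (Fin n) (Fin n) F) *ᵥ w := by
      rw [hhw_eq]; module
    rw [e, u_sub_left hf, u_sub_right hf, u_sub_right hf, hww, hhww, hθ,
      hf.herm ((h : Matrix (Fin n) (Fin n) F) *ᵥ w) w, hθ, map_sub, hζ']
    ring

end Cfsg.Agent.Lib.Helper6.UALeaf
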