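import Mathlib
import Cfsg.Prelude.Def_GeometricClasses
import Cfsg.Agent.Lib.Helper5.SUMax
import Cfsg.Agent.Lib.Helper18.C2Defs
import Cfsg.Agent.Lib.Helper9.C2L2
import Cfsg.Agent.Lib.Helper6.UADefs
import Cfsg.Agent.Lib.Helper6.UAA3
import Cfsg.Agent.Lib.Helper9.UAA2

set_option autoImplicit false
set_option linter.unusedSectionVars false
set_option linter.unusedVariables false

namespace Cfsg.Agent.Lib.Helper6.UALeaf
open Cfsg Matrix Cfsg.Agent.Lib.Helper5.UForm Cfsg.Agent.Lib.Helper5.HermBridge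
  Cfsg.Agent.Lib.Helper5.SUGen Cfsg.Agent.Lib.Helper5.SUMax Cfsg.Agent.Lib.Helper18.C2
  Cfsg.Agent.Lib.Helper6.UA

variable {F : Type*} [Field F] [Fintype F] {q n t k : ℕ} (hF : Fintype.card F = q ^ 2)
  {D : Fin t → Submodule F (Fin n → F)}
  (hD : Cfsg.Geo.IsNondegenerateMDecomposition (Cfsg.hermForm n F q) k D)
  {M : Subgroup (GL (Fin n) F)}
include hF hD


/-- `a` is moved to `b` by an element of `Stab(D) ∩ GU` trivial on the blocks other than `i`,
with determinant of norm one -/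
def MvU (hF : Fintype.card F = q ^ 2) (D : Fin t → Submodule F (Fin n → F)) (i : Fin t)
    (a b : Fin n → F) : Prop :=
  ∃ g : GL (Fin n) F, g ∈ Cfsg.Geo.decompositionStabilizer D ∧ g ∈ Cfsg.GU n F q ∧
    (∃ ξ : F, ξ * frobQ hF ξ = 1 ∧ (g : Matrix (Fin n) (Fin n) F).det = ξ) ∧
    (g : Matrix (Fin n) (Fin n) F) *ᵥ a = b ∧
    ∀ j, j ≠ i → ∀ x ∈ D j, (g : Matrix (Fin n) (Fin n) F) *ᵥ x = x

lemma mvU_qr {i : Fin t} {v : Fin n → F} (hv : v ∈ D i)
    (h1 : Cfsg.hermForm n F q v v ≠ 0) {ζ : F} (hζ : ζ * frobQ hF ζ = 1) (a : Fin n → F) :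
    MvU hF D i a
      (a + ((ζ - 1) * Cfsg.hermForm n F q a v / Cfsg.hermForm n F q v v) • v) := by
  obtain ⟨g, hgS, hgU, hgd, hg⟩ := exists_qr hF hD hv h1 hζ
  refine ⟨g, hgS, hgU, ⟨ζ, hζ, hgd⟩, hg a, fun j hji x hx => ?_⟩
  rw [hg, hD.orthogonal j i hji x hx v hv, mul_zero, zero_div, zero_smul, add_zero]

lemma mvU_tv {i : Fin t} {v : Fin n → F} (hv : v ∈ D i)
    (h0 : Cfsg.hermForm n F q v v = 0) {c : F} (hc : frobQ hF c = -c) (a : Fin n → F) :
    MvU hF D i a (a + (c * Cfsg.hermForm n F q a v) • v) := by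
  obtain ⟨g, hgG, hg⟩ := exists_tvg hF h0 hc
  refine ⟨g, ?_, hgG.1, ⟨1, by rw [map_one, mul_one], (mem_specialLinear_iff g).mp hgG.2⟩, hg a,
    fun j hji x hx => ?_⟩
  · apply mem_stab_of_mapsTo hD.decomp 1
    intro l x hx
    rw [hg, Equiv.Perm.coe_one, id_eq]
    by_cases hli : l = i
    · subst hli
      exact (D l).add_mem hx ((D l).smul_mem _ hv)
    · rw [hD.orthogonal l i hli x hx v hv, mul_zero, zero_smul, add_zero]
      exact hx
  · rw [hg, hD.orthogonal j i hji x hx v hv, mul_zero, zero_smul, add_zero]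

lemma mvU_trans {i : Fin t} {a b c : Fin n → F} (h1 : MvU hF D i a b) (h2 : MvU hF D i b c) :
    MvU hF D i a c := by
  have hf := herm_unitary (n := n) hF
  obtain ⟨g₁, hg₁S, hg₁U, ⟨ξ₁, hξ₁, hd₁⟩, hg₁a, hg₁⟩ := h1
  obtain ⟨g₂, hg₂S, hg₂U, ⟨ξ₂, hξ₂, hd₂⟩, hg₂a, hg₂⟩ := h2
  refine ⟨g₂ * g₁, mul_mem hg₂S hg₁S, mul_mem hg₂U hg₁U, ⟨ξ₂ * ξ₁, ?_, ?_⟩, ?_, fun j hji x hx => ?_⟩
  · rw [map_mul]
    linear_combination ξ₁ * frobQ hF ξ₁ * hξ₂ + hξ₁
  · rw [Units.val_mul, Matrix.det_mul, hd₁, hd₂]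
  · rw [Units.val_mul, ← Matrix.mulVec_mulVec, hg₁a, hg₂a]
  · rw [Units.val_mul, ← Matrix.mulVec_mulVec, hg₁ j hji x hx, hg₂ j hji x hx]

/-- first case: `N(a - b) ≠ 0` -/
lemma mvU_of_noniso {i : Fin t} {a b : Fin n → F} (ha : a ∈ D i) (hb : b ∈ D i)
    (hab : Cfsg.hermForm n F q a a = Cfsg.hermForm n F q b b)
    (hv : Cfsg.hermForm n F q (a - b) (a - b) ≠ 0) : MvU hF D i a b := by
  have hf := herm_unitary (n := n) hF
  obtain ⟨δ, hδ⟩ : ∃ δ, δ = Cfsg.hermForm n F q a (a - b) := ⟨_, rfl⟩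
  have hN : Cfsg.hermForm n F q (a - b) (a - b) = δ + frobQ hF δ := by
    rw [hδ, u_sub_left hf, u_sub_right hf, u_sub_right hf, map_sub, u_self_fixed hf,
      ← hf.herm b a, ← hab]
    ring
  have hδ0 : δ ≠ 0 := by
    rintro rfl
    rw [map_zero, add_zero] at hN
    exact hv hN
  have hδ0' : frobQ hF δ ≠ 0 := by rwa [Ne, map_eq_zero]
  have hζ : (-(frobQ hF δ) / δ) * frobQ hF (-(frobQ hF δ) / δ) = 1 := by
    rw [map_div₀, map_neg, hf.involutive]
    field_simp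
  have h := mvU_qr hF hD (D i |>.sub_mem ha hb) hv hζ a
  have hE : a + ((-(frobQ hF δ) / δ - 1) * Cfsg.hermForm n F q a (a - b) /
      Cfsg.hermForm n F q (a - b) (a - b)) • (a - b) = b := by
    rw [← hδ, hN]
    have hne : δ + frobQ hF δ ≠ 0 := by rw [← hN]; exact hv
    have : (-(frobQ hF δ) / δ - 1) * δ / (δ + frobQ hF δ) = -1 := by
      field_simp
      ring
    rw [this, neg_one_smul]
    abel
  rwa [hE] at h

theorem exists_move (hk : 2 ≤ k) {i : Fin t} {a b : Fin n → F} (ha : a ∈ D i) (hb : b ∈ D i)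
    (hab : Cfsg.hermForm n F q a a = Cfsg.hermForm n F q b b)
    (ha0 : Cfsg.hermForm n F q a a ≠ 0) :
    ∃ g ∈ HU D q, (g : Matrix (Fin n) (Fin n) F) *ᵥ a = b ∧
      ∀ j, j ≠ i → ∀ x ∈ D j, (g : Matrix (Fin n) (Fin n) F) *ᵥ x = x := by
  have hf := herm_unitary (n := n) hF
  -- step 1: some element of `Stab(D) ∩ GU`
  have h1 : MvU hF D i a b := by
    by_cases hv : Cfsg.hermForm n F q (a - b) (a - b) ≠ 0
    · exact mvU_of_noniso hF hD ha hb hab hv
    rw [not_not] at hv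
    obtain ⟨δ, hδ⟩ : ∃ δ, δ = Cfsg.hermForm n F q a (a - b) := ⟨_, rfl⟩
    have hN : Cfsg.hermForm n F q (a - b) (a - b) = δ + frobQ hF δ := by
      rw [hδ, u_sub_left hf, u_sub_right hf, u_sub_right hf, map_sub, u_self_fixed hf,
        ← hf.herm b a, ← hab]
      ring
    by_cases hδ0 : δ = 0
    · -- two steps through `ζ₀ a`
      obtain ⟨ζ₀, hζ₀, hζ₀'⟩ := Cfsg.Agent.Lib.Helper9.UALeaf.exists_zeta hF hD
      have hζ1 : ζ₀ ≠ 1 := by
        rintro rfl
        exact hζ₀' (map_one _)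
      have hba : Cfsg.hermForm n F q a b = Cfsg.hermForm n F q a a := by
        rw [hδ0, u_sub_right hf] at hδ
        linear_combination hδ
      have hba' : Cfsg.hermForm n F q b a = Cfsg.hermForm n F q a a := by
        rw [hf.herm, hba, u_self_fixed hf]
      have hs1 := mvU_qr hF hD ha ha0 hζ₀ a
      have hE : a + ((ζ₀ - 1) * Cfsg.hermForm n F q a a / Cfsg.hermForm n F q a a) • a
          = ζ₀ • a := by
        rw [mul_div_assoc, div_self ha0, mul_one, sub_smul, one_smul]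
        abel
      rw [hE] at hs1
      refine mvU_trans hF hD hs1 (mvU_of_noniso hF hD ((D i).smul_mem _ ha) hb ?_ ?_)
      · rw [hf.smul_left, u_smul_right hf, ← hab, ← mul_assoc, hζ₀, one_mul]
      · rw [u_sub_left hf, u_sub_right hf, u_sub_right hf, hf.smul_left, u_smul_right hf,
          hf.smul_left, u_smul_right hf, hba, hba', ← hab]
        have : ζ₀ * (frobQ hF ζ₀ * Cfsg.hermForm n F q a a) - ζ₀ * Cfsg.hermForm n F q a a -
            (frobQ hF ζ₀ * Cfsg.hermForm n F q a a - Cfsg.hermForm n F q a a) =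
            Cfsg.hermForm n F q a a * ((1 - ζ₀) * (1 - frobQ hF ζ₀)) := by
          ring
        rw [this]
        refine mul_ne_zero ha0 (mul_ne_zero (sub_ne_zero.mpr (Ne.symm hζ1)) ?_)
        rw [← map_one (frobQ hF), ← map_sub, Ne, map_eq_zero]
        exact sub_ne_zero.mpr (Ne.symm hζ1)
    · -- transvection
      have hskew : frobQ hF δ = -δ := by
        rw [hv] at hN
        linear_combination -hN
      have hc : frobQ hF (-1 / δ) = -(-1 / δ) := by
        rw [map_div₀, map_neg, map_one, hskew]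
        field_simp
      have h := mvU_tv hF hD ((D i).sub_mem ha hb) hv hc a
      have hE : a + (-1 / δ * Cfsg.hermForm n F q a (a - b)) • (a - b) = b := by
        rw [← hδ]
        have : -1 / δ * δ = -1 := by field_simp
        rw [this, neg_one_smul]
        abel
      rwa [hE] at h
  -- step 2: correct the determinant
  obtain ⟨g₀, hg₀S, hg₀U, ⟨ξ, hξ, hd₀⟩, hg₀a, hg₀⟩ := h1
  have hb0 : Cfsg.hermForm n F q b b ≠ 0 := by rw [← hab]; exact ha0
  have hND := ND_noniso hf (ND_block hD i) hb hb0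
  have hdim := finrank_inf_pp hf (D i) b
  rw [hD.decomp.finrank_eq i] at hdim
  obtain ⟨z, hz, hz0⟩ := exists_mem_ne_zero (U := D i ⊓ pp hf b) (by omega)
  obtain ⟨b', hb', hb'0⟩ := Cfsg.Agent.Lib.Helper5.UEichler.exists_noniso hf hND ⟨z, hz, hz0⟩
  obtain ⟨hb'D, hb'b⟩ := Submodule.mem_inf.mp hb'
  rw [mem_pp] at hb'b
  have hξ2 : frobQ hF ξ * frobQ hF (frobQ hF ξ) = 1 := by
    rw [hf.involutive, mul_comm]; exact hξ
  obtain ⟨r, hrS, hrU, hrd, hr⟩ := exists_qr hF hD hb'D hb'0 hξ2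
  refine ⟨r * g₀, ⟨mul_mem hrS hg₀S, mul_mem hrU hg₀U, ?_⟩, ?_, fun j hji x hx => ?_⟩
  · apply (mem_specialLinear_iff (r * g₀)).mpr
    rw [Units.val_mul, Matrix.det_mul, hrd, hd₀, mul_comm]
    exact hξ
  · rw [Units.val_mul, ← Matrix.mulVec_mulVec, hg₀a, hr, u_symm_zero hf hb'b, mul_zero, zero_div,
      zero_smul, add_zero]
  · rw [Units.val_mul, ← Matrix.mulVec_mulVec, hg₀ j hji x hx, hr,
      hD.orthogonal j i hji x hx b' hb'D, mul_zero, zero_div, zero_smul, add_zero]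

end Cfsg.Agent.Lib.Helper6.UALeaf
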