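import Mathlib
import Cfsg.Prelude.Def_GeometricClasses
import Cfsg.Agent.Lib.Helper5.SUMax
import Cfsg.Agent.Lib.Helper18.C2Defs
import Cfsg.Agent.Lib.Helper9.C2L2
import Cfsg.Agent.Lib.Helper6.UADefs
import Cfsg.Agent.Lib.Helper6.UAA3
import Cfsg.Agent.Lib.Helper6.UAA5
import Cfsg.Agent.Lib.Helper6.UAA7
import Cfsg.Agent.Lib.Helper6.UAA11
import Cfsg.Agent.Lib.Helper6.UAA13
import Cfsg.Agent.Lib.Helper9.UAA2
import Cfsg.Agent.Lib.Helper9.UAA8core
import Cfsg.Agent.Lib.Helper11.UAA4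

/-!
# S5655 part A (`k ≥ 2`): `kge2_core` (helper6; leaves by helper6, helper9, helper11)

`H = Stab(D) ∩ SU_n(q) ≤ M ≤ SU_n(q)`, blocks of dimension `k ≥ 2`, `(k,q) ≠ (2,2)`, `n ≥ 13`,
`M` contains an element outside `Stab(D)`: then `M = SU_n(q)`.  Plan: `notes/S5655_A_plan.md`.
-/

set_option autoImplicit false
set_option linter.unusedSectionVars false
set_option linter.unusedVariables false

namespace Cfsg.Agent.Lib.Helper6.UALeaf
open Cfsg Matrix Cfsg.Agent.Lib.Helper5.UForm Cfsg.Agent.Lib.Helper5.HermBridge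
  Cfsg.Agent.Lib.Helper5.SUGen Cfsg.Agent.Lib.Helper5.SUMax Cfsg.Agent.Lib.Helper18.C2
  Cfsg.Agent.Lib.Helper6.UA

section
variable {F : Type*} [Field F] [Fintype F] {q n t k : ℕ} (hF : Fintype.card F = q ^ 2)
  {D : Fin t → Submodule F (Fin n → F)}
  (hD : Cfsg.Geo.IsNondegenerateMDecomposition (Cfsg.hermForm n F q) k D)
  {M : Subgroup (GL (Fin n) F)}
include hF hD

theorem kge2_core' (hn : 13 ≤ n) (hk : 2 ≤ k) (hex : ¬ (k = 2 ∧ q = 2))
    (hM : M ≤ Cfsg.GU n F q ⊓ Cfsg.Geo.specialLinear (Fin n) F) (hH : HU D q ≤ M)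
    (g : GL (Fin n) F) (hg : g ∈ M) (hgD : g ∉ Cfsg.Geo.decompositionStabilizer D) :
    Cfsg.GU n F q ⊓ Cfsg.Geo.specialLinear (Fin n) F ≤ M := by
  have hf := herm_unitary (n := n) hF
  have hgU : g ∈ Cfsg.GU n F q := (hM hg).1
  obtain ⟨i₀, u, hu, huu, hnp⟩ := Cfsg.Agent.Lib.Helper9.UALeaf.exists_mixed hF hD hk hgU hgD
  have huS : u ∈ Sset hF M := Cfsg.Agent.Lib.Helper9.UALeaf.block_iso_mem hF hD hH hu huu
  have hwS := Sset_mulVec_mem hF hg hgU huS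
  have hww : Cfsg.hermForm n F q ((g : Matrix (Fin n) (Fin n) F) *ᵥ u)
      ((g : Matrix (Fin n) (Fin n) F) *ᵥ u) = 0 := by rw [mem_GU.mp hgU]; exact huu
  obtain ⟨i, j, hij, a, ha, b, hb, haa, hab, hs⟩ := exists_two_comp hF hD hk hM hH hwS hww hnp
  have hP1 := Cfsg.Agent.Lib.Helper9.UALeaf.pair_noniso_core hF hD
    (fun ha hb hab ha0 => exists_move hF hD hk ha hb hab ha0) hk hM hH hij ha hb haa hab hs
  have hP2 := Cfsg.Agent.Lib.Helper9.UALeaf.pair_iso_core hF hD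
    (fun hx hx0 _ _ hμ hcase => Cfsg.Agent.Lib.Helper11.UALeaf.exists_presc hF hD hk hx hx0 hμ hcase)
    hk hex hH hij hP1
  have hpg : PairGood hF D M i j := by
    intro x hx y hy hxy
    by_cases hxx : Cfsg.hermForm n F q x x = 0
    · apply hP2 x hx y hy hxx
      have hxy0 : Cfsg.hermForm n F q x y = 0 := hD.orthogonal i j hij x hx y hy
      rw [hf.add_left, u_add_right hf, u_add_right hf, hxx, hxy0, u_symm_zero hf hxy0] at hxy
      linear_combination hxy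
    · exact hP1 x hx y hy hxx hxy
  have hall : ∀ i' j', i' ≠ j' → PairGood hF D M i' j' :=
    fun i' j' h' => Cfsg.Agent.Lib.Helper9.UALeaf.pairGood_all_core hF hD
      (fun a b hab => exists_swap hF hD hk a b hab) hk hM hH hij hpg h'
  exact le_of_forall_mem_Sset hF (by omega) (by omega) M (all_iso hF hD hk hH hall)

end

/-- S5655, part A, in the shape of helper18's glue -/
theorem kge2_core {F : Type*} [Field F] [Fintype F] (n q : ℕ) (hF : Fintype.card F = q ^ 2)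
    (hn : 13 ≤ n) {t : ℕ} (k : ℕ) (hk : 2 ≤ k) (D : Fin t → Submodule F (Fin n → F))
    (hD : Cfsg.Geo.IsNondegenerateMDecomposition (Cfsg.hermForm n F q) k D)
    (hex : ¬ (k = 2 ∧ q = 2)) (M : Subgroup (GL (Fin n) F))
    (hM : M ≤ Cfsg.GU n F q ⊓ Cfsg.Geo.specialLinear (Fin n) F)
    (hH : Cfsg.Geo.decompositionStabilizer D ⊓
      (Cfsg.GU n F q ⊓ Cfsg.Geo.specialLinear (Fin n) F) ≤ M)
    (g : GL (Fin n) F) (hg : g ∈ M) (hgD : g ∉ Cfsg.Geo.decompositionStabilizer D) :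
    Cfsg.GU n F q ⊓ Cfsg.Geo.specialLinear (Fin n) F ≤ M :=
  kge2_core' hF hD hn hk hex hM hH g hg hgD

end Cfsg.Agent.Lib.Helper6.UALeaf
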