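import Mathlib
import Cfsg.Prelude.Def_GeometricClasses
import Cfsg.Agent.Lib.Helper5.SUMax
import Cfsg.Agent.Lib.Helper18.C2Defs
import Cfsg.Agent.Lib.Helper9.C2L2
import Cfsg.Agent.Lib.Helper6.UADefs
import Cfsg.Agent.Lib.Helper6.UAMain

set_option autoImplicit false
set_option linter.unusedSectionVars false
set_option linter.unusedVariables false

namespace Cfsg.Agent.Lib.Helper6.UALeaf
open Cfsg Matrix Cfsg.Agent.Lib.Helper5.UForm Cfsg.Agent.Lib.Helper5.HermBridge
  Cfsg.Agent.Lib.Helper5.SUGen Cfsg.Agent.Lib.Helper5.SUMax Cfsg.Agent.Lib.Helper18.C2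
  Cfsg.Agent.Lib.Helper6.UA

section
variable {F : Type*} [Field F] [Fintype F] {q n t k : ℕ} (hF : Fintype.card F = q ^ 2)
  {D : Fin t → Submodule F (Fin n → F)}
  (hD : Cfsg.Geo.IsNondegenerateMDecomposition (Cfsg.hermForm n F q) k D)
  {M : Subgroup (GL (Fin n) F)}
include hF hD


/-- PROPER: for `k ≥ 2` some element of `SU_n(q)` does not permute the blocks
(a transvection whose centre is the sum of two isotropic vectors of different blocks). -/
theorem exists_not_stab (hk : 2 ≤ k) :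
    ∃ g ∈ Cfsg.GU n F q ⊓ Cfsg.Geo.specialLinear (Fin n) F,
      g ∉ Cfsg.Geo.decompositionStabilizer D := by
  have hf := herm_unitary (n := n) hF
  have ht := hD.decomp.two_le
  obtain ⟨i, j, hij⟩ : ∃ i j : Fin t, i ≠ j :=
    ⟨⟨0, by omega⟩, ⟨1, by omega⟩, fun h => by simpa using congrArg Fin.val h⟩
  have hdi : 2 ≤ Module.finrank F (D i) := by rw [hD.decomp.finrank_eq i]; exact hk
  have hdj : 2 ≤ Module.finrank F (D j) := by rw [hD.decomp.finrank_eq j]; exact hk
  obtain ⟨u, hu, hu0, huu⟩ := exists_iso hf (ND_block hD i) hdi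
  obtain ⟨u', hu', hu'0, hu'u'⟩ := exists_iso hf (ND_block hD j) hdj
  obtain ⟨x, hx, hxu⟩ := ND_block hD i u hu hu0
  obtain ⟨c, hc0, hc⟩ := exists_skew hf.involutive hf.ne_refl
  have huu' : Cfsg.hermForm n F q u u' = 0 := hD.orthogonal i j hij u hu u' hu'
  have hww : Cfsg.hermForm n F q (u + u') (u + u') = 0 := by
    rw [hf.add_left, u_add_right hf, u_add_right hf, huu, hu'u', huu', u_symm_zero hf huu']
    ring
  obtain ⟨g, hgG, hg⟩ := exists_tvg hF hww hc
  refine ⟨g, hgG, ?_⟩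
  rintro ⟨σ, hσ⟩
  -- `g x` lies in the block `D (σ i)`
  have hgx : (g : Matrix (Fin n) (Fin n) F) *ᵥ x ∈ D (σ i) := by
    rw [← hσ i]
    exact ⟨x, hx, by rw [Matrix.toLin'_apply]⟩
  have hxu' : Cfsg.hermForm n F q x u' = 0 := hD.orthogonal i j hij x hx u' hu'
  obtain ⟨a, ha⟩ : ∃ a, a = c * Cfsg.hermForm n F q x u := ⟨_, rfl⟩
  have ha0 : a ≠ 0 := by rw [ha]; exact mul_ne_zero hc0 hxu
  have hE : (g : Matrix (Fin n) (Fin n) F) *ᵥ x = (x + a • u) + a • u' := by
    rw [hg, u_add_right hf, hxu', add_zero, ← ha, smul_add]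
    abel
  have h1 : x + a • u ∈ D i := (D i).add_mem hx ((D i).smul_mem _ hu)
  have h2 : a • u' ∈ D j := (D j).smul_mem _ hu'
  -- components
  have hpj : pr hD.decomp j ((g : Matrix (Fin n) (Fin n) F) *ᵥ x) = a • u' := by
    rw [hE, map_add, pr_ne hD.decomp hij h1, pr_same hD.decomp h2, zero_add]
  have hpi : pr hD.decomp i ((g : Matrix (Fin n) (Fin n) F) *ᵥ x) = x + a • u := by
    rw [hE, map_add, pr_same hD.decomp h1, pr_ne hD.decomp (Ne.symm hij) h2, add_zero]
  have hne_j : a • u' ≠ 0 := smul_ne_zero ha0 hu'0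
  have hne_i : x + a • u ≠ 0 := by
    intro h0
    have : Cfsg.hermForm n F q (x + a • u) u = Cfsg.hermForm n F q x u := by
      rw [hf.add_left, hf.smul_left, huu, mul_zero, add_zero]
    rw [h0, u_zero_left hf] at this
    exact hxu this.symm
  have hsj : σ i = j := by
    by_contra hne
    apply hne_j
    rw [← hpj]
    exact pr_ne hD.decomp hne hgx
  have hsi : σ i = i := by
    by_contra hne
    apply hne_i
    rw [← hpi]
    exact pr_ne hD.decomp hne hgx
  exact hij (hsi.symm.trans hsj)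


end

/-- S5655 for `k ≥ 2`: the full maximality statement -/
theorem isMaximalIn_kge2 {F : Type*} [Field F] [Fintype F] (n q : ℕ)
    (hF : Fintype.card F = q ^ 2) (hn : 13 ≤ n) {t : ℕ} (k : ℕ) (hk : 2 ≤ k)
    (D : Fin t → Submodule F (Fin n → F))
    (hD : Cfsg.Geo.IsNondegenerateMDecomposition (Cfsg.hermForm n F q) k D)
    (hex : ¬ (k = 2 ∧ q = 2)) :
    Cfsg.Geo.IsMaximalIn (Cfsg.GU n F q ⊓ Cfsg.Geo.specialLinear (Fin n) F)
      (Cfsg.Geo.decompositionStabilizer D ⊓
        (Cfsg.GU n F q ⊓ Cfsg.Geo.specialLinear (Fin n) F)) := by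
  refine ⟨lt_of_le_of_ne inf_le_right (fun h => ?_), fun M hHM hMK => ?_⟩
  · obtain ⟨g, hgG, hgS⟩ := exists_not_stab hF hD hk
    rw [← h] at hgG
    exact hgS hgG.1
  · by_cases hall : M ≤ Cfsg.Geo.decompositionStabilizer D
    · left
      exact le_antisymm (le_inf hall hMK) hHM
    · right
      obtain ⟨g, hgM, hgS⟩ := SetLike.not_le_iff_exists.mp hall
      exact le_antisymm hMK (kge2_core n q hF hn k hk D hD hex M hMK hHM g hgM hgS)

end Cfsg.Agent.Lib.Helper6.UALeaf
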