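import Mathlib
import Cfsg.Agent.Lib.Helper20.UTNDefs
import Cfsg.Agent.Lib.Helper20.UTS
import Cfsg.Agent.Lib.Helper5.SUMax
import Cfsg.Agent.Lib.Helper6.UTNN3a
import Cfsg.Agent.Lib.Helper9.UTNNZ
import Cfsg.Agent.Lib.Helper23.UTNNG
import Cfsg.Agent.Lib.Helper20.UTNNT

/-!
S5670 Stage II, leaf NT6 (helper20's market, notes/S5670_N_leaves.lean): `Th q y M` is closed under
`(θ, θ') ↦ μ θ θ' - μ^q θ' θ`.
-/

set_option autoImplicit false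
set_option linter.unusedSectionVars false
set_option linter.unusedVariables false

namespace Cfsg.Agent.Lib.Helper6.UTNLeaf
open Matrix
open Cfsg.Agent.Lib.Helper25.Tens Cfsg.Agent.Lib.Helper25.TensLeaf Cfsg.Agent.Lib.Helper25.TensLeaves
open Cfsg.Agent.Lib.Helper20.UT Cfsg.Agent.Lib.Helper20.UTLeaf Cfsg.Agent.Lib.Helper20.UTN
open scoped Kronecker

variable {F : Type*} [Field F] [Fintype F] {a b q : ℕ} {M : Subgroup (GL (Idx a b) F)}

lemma adjM_mul6 (hF : Fintype.card F = q ^ 2) (X Y : Matrix (Fin a) (Fin a) F) :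
    adjM q (X * Y) = adjM q Y * adjM q X := by
  ext i j
  simp only [adjM_apply, Matrix.mul_apply]
  rw [sum_pow_q hF]
  apply Finset.sum_congr rfl
  intro k _
  rw [mul_pow, mul_comm]

lemma adjM_add6 (hF : Fintype.card F = q ^ 2) (X Y : Matrix (Fin a) (Fin a) F) :
    adjM q (X + Y) = adjM q X + adjM q Y := by
  ext i j
  simp only [adjM_apply, Matrix.add_apply, add_pow_q hF]

lemma adjM_one6 (hF : Fintype.card F = q ^ 2) :
    adjM q (1 : Matrix (Fin a) (Fin a) F) = 1 := by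
  ext i j
  simp only [adjM_apply, Matrix.one_apply]
  by_cases h : i = j
  · subst h; simp
  · have h' : ¬ (j = i) := fun e => h e.symm
    rw [if_neg h, if_neg h', zero_pow (q_ne_zero hF)]

lemma adjM_smul6 (μ : F) (X : Matrix (Fin a) (Fin a) F) : adjM q (μ • X) = μ ^ q • adjM q X := by
  ext i j
  simp only [adjM_apply, Matrix.smul_apply, smul_eq_mul, mul_pow]

/-- a Siegel element with skew parameter lies in `M` -/
lemma sB_mem6 (hc : MCtx a b q M) (y z : Fin b → F) {c : F} (hcs : c ^ q = -c)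
    (hy : hv q y y = 0) (hz : hv q z z = 0) (hyz : hv q (y + z) (y + z) = 0) :
    (sB q y z c hy hz hyz : GL (Idx a b) F) ∈ M := by
  have hF := hc.hF
  have hncs : (-c) ^ q = -(-c) := by rw [neg_pow_q hF, hcs]
  unfold sB
  exact M.mul_mem (M.mul_mem (kB_mem hc _ hcs hyz) (kB_mem hc _ hncs hy)) (kB_mem hc _ hncs hz)

/-- the block of a product of two `E`-elements at a hyperbolic pair -/
lemma blkM_prod (hF : Fintype.card F = q ^ 2) {y₂ y₃ : Fin b → F} (h22 : hv q y₂ y₂ = 0)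
    (h33 : hv q y₃ y₃ = 0) (h23 : hv q y₂ y₃ = 1) (h32 : hv q y₃ y₂ = 1)
    {g₂ g₃ : GL (Idx a b) F} {θ θ' : Matrix (Fin a) (Fin a) F} (hZ₂ : IsZ q y₂ g₂ θ)
    (hZ₃ : IsZ q y₃ g₃ θ') (μ : F) :
    blkM q (g₂ * g₃) (μ • y₂) y₃ = μ • (1 + θ * θ') := by
  apply Matrix.mulVec_injective
  funext x
  rw [blkM_mulVec, mv_mul, pt_smul_right, mv_smul, mv_smul, ct_smul, hZ₃ (pt x y₂), ct_cj_pt, h23,
    one_smul, mv_add, hZ₂ (pt x y₂), hZ₂ (pt (θ' *ᵥ x) y₃), ct_cj_pt, ct_cj_pt, h22, h32, zero_smul,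
    one_smul, Matrix.mulVec_zero, pt_zero_left, add_zero, ct_add, ct_add, ct_cj_pt, ct_cj_pt,
    ct_cj_pt, h23, h33, one_smul, one_smul, zero_smul, zero_add, Matrix.smul_mulVec,
    Matrix.add_mulVec, Matrix.one_mulVec, Matrix.mulVec_mulVec]

/-- NT6 PRODUCT CLOSURE. -/
theorem Th_mul (hc : MCtx a b q M) {y : Fin b → F} (hy0 : y ≠ 0) (hy : hv q y y = 0)
    {θ θ' : Matrix (Fin a) (Fin a) F} (h : θ ∈ Th q y M) (h' : θ' ∈ Th q y M) (μ : F) :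
    μ • (θ * θ') - μ ^ q • (θ' * θ) ∈ Th q y M := by
  have hF := hc.hF
  open Cfsg.Agent.Lib.Helper20.UTNLeaf Cfsg.Agent.Lib.Helper23.UTNLeaf in
  obtain ⟨y₂, y₃, h2y, h3y, h22, h33, h23, h32⟩ := exists_hyp_perp hF hc.hb hy0 hy
  have hy₂0 : y₂ ≠ 0 := by
    rintro rfl
    rw [hv_zero_left] at h23
    exact zero_ne_one h23
  have hy₃0 : y₃ ≠ 0 := by
    rintro rfl
    rw [hv_zero_left] at h32
    exact zero_ne_one h32
  obtain ⟨g₂, hg₂, hZ₂⟩ := Cfsg.Agent.Lib.Helper20.UTNLeaf.Th_indep hc hy0 hy₂0 hy h22 h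
  obtain ⟨g₃, hg₃, hZ₃⟩ := Cfsg.Agent.Lib.Helper20.UTNLeaf.Th_indep hc hy0 hy₃0 hy h33 h'
  have hθs := Cfsg.Agent.Lib.Helper20.UTNLeaf.Th_skew hc hy0 hy h
  have hθ's := Cfsg.Agent.Lib.Helper20.UTNLeaf.Th_skew hc hy0 hy h'
  have huM : g₂ * g₃ ∈ M := M.mul_mem hg₂ hg₃
  have huG : g₂ * g₃ ∈ GUI a b q F := (hc.le_G huM).1
  have hy2 : hv q y y₂ = 0 := hv_symm_zero hF h2y
  have hy3 : hv q y y₃ = 0 := hv_symm_zero hF h3y
  have hfix : ∀ x : Fin a → F, mv (g₂ * g₃) (pt x y) = pt x y := by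
    intro x
    rw [mv_mul, hZ₃ (pt x y), ct_cj_pt, hy3, zero_smul, Matrix.mulVec_zero, pt_zero_left, add_zero,
      hZ₂ (pt x y), ct_cj_pt, hy2, zero_smul, Matrix.mulVec_zero, pt_zero_left, add_zero]
  obtain ⟨c, hc0, hcs⟩ := Cfsg.Agent.Lib.Helper23.UTLeaf.exists_skew (q := q) hF
  have hμ22 : hv q (μ • y₂) (μ • y₂) = 0 := by
    rw [hv_smul_left, hv_smul_right, h22, mul_zero, mul_zero]
  have hμ2y : hv q (μ • y₂) y = 0 := by rw [hv_smul_left, h2y, mul_zero]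
  have hcomm := IsZ_comm hF hy hμ22 h33 hμ2y h3y huG hfix c c
  have hs1 : sB q y (μ • y₂) c hy hμ22 (iso_add hF hy hμ22 hμ2y) ∈ M := sB_mem6 hc _ _ hcs _ _ _
  have hs2 : sB q y y₃ c hy h33 (iso_add hF hy h33 h3y) ∈ M := sB_mem6 hc _ _ hcs _ _ _
  have hconj : (g₂ * g₃) * sB q y (μ • y₂) c hy hμ22 (iso_add hF hy hμ22 hμ2y) * (g₂ * g₃)⁻¹ ∈ M :=
    M.mul_mem (M.mul_mem huM hs1) (M.inv_mem huM)
  have hT : (c * c) • (adjM q (blkM q (g₂ * g₃) (μ • y₂) y₃) - blkM q (g₂ * g₃) (μ • y₂) y₃) ∈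
      Th q y M :=
    ⟨_, M.mul_mem (M.mul_mem (M.mul_mem hconj hs2) (M.inv_mem hconj)) (M.inv_mem hs2), hcomm⟩
  rw [blkM_prod hF h22 h33 h23 h32 hZ₂ hZ₃ μ, adjM_smul6, adjM_add6 hF, adjM_one6 hF, adjM_mul6 hF,
    hθs, hθ's, neg_mul_neg] at hT
  -- divide by `c * c`
  have hcc : (c * c) ^ q = c * c := by rw [mul_pow, hcs]; ring
  have hcc0 : c * c ≠ 0 := mul_ne_zero hc0 hc0
  have hcci : ((c * c)⁻¹) ^ q = (c * c)⁻¹ := by rw [inv_pow, hcc]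
  have hT2 := Cfsg.Agent.Lib.Helper20.UTNLeaf.Th_smul hc hy0 hy hcci hT
  rw [smul_smul, inv_mul_cancel₀ hcc0, one_smul] at hT2
  -- remove the scalar part
  have hsk : (μ - μ ^ q) ^ q = -(μ - μ ^ q) := by
    rw [sub_eq_add_neg, add_pow_q hF, neg_pow_q hF, pow_q_pow_q' hF]
    ring
  have hT3 := Cfsg.Agent.Lib.Helper20.UTNLeaf.Th_add hc hy hT2
    (Cfsg.Agent.Lib.Helper20.UTNLeaf.Th_scalar (a := a) hc hy hsk)
  have hT4 := Cfsg.Agent.Lib.Helper20.UTNLeaf.Th_neg hc hy hT3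
  have e : -(μ ^ q • (1 + θ' * θ) - μ • (1 + θ * θ') + (μ - μ ^ q) • (1 : Matrix (Fin a) (Fin a) F)) =
      μ • (θ * θ') - μ ^ q • (θ' * θ) := by
    simp only [smul_add, sub_smul]
    abel
  rw [e] at hT4
  exact hT4

end Cfsg.Agent.Lib.Helper6.UTNLeaf
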