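/-
helper6: weights of Brauer pairs.  A defect-zero character forces the trivial `p`-core; constituents
of a character in a block whose idempotent lives on a subgroup; the canonical character of a
weight pair.
-/
import Mathlib
import Cfsg.Agent.Lib.Helper6.Clifford
import Cfsg.Agent.Lib.Helper6.Gallagher2
import Cfsg.Agent.Lib.Helper6.Ramification2
import Cfsg.Agent.Lib.Helper6.QuotBlock
import Cfsg.Agent.Lib.Helper6.FongA
import Cfsg.Agent.Lib.Helper6.Osima
import Cfsg.Agent.Lib.Helper6.CharExtra
import Cfsg.Agent.Lib.Helper23.DefectZeroIrr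
import Cfsg.Agent.Lib.Helper23.Covering
import Cfsg.Agent.Lib.Helper23.CentralProdB
import Cfsg.Agent.Lib.Helper24.IrrFacts
import Cfsg.Agent.Lib.Helper24.BrauerPairs2

set_option autoImplicit false
set_option linter.unusedSectionVars false

namespace Cfsg.Agent.Lib.Helper6.WeightPair

open Cfsg Cfsg.Agent.CharLib Cfsg.Agent.Lib.Helper24 Cfsg.Agent.Lib.Helper23
  Cfsg.Agent.Lib.Helper6
open scoped ComplexConjugate

universe u

section defectzero

variable {Y : Type u} [Group Y] [Fintype Y]

/-- A group with an irreducible character of `p`-defect zero has no nontrivial normal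
`p`-subgroup. -/
theorem normal_pgroup_eq_bot_of_defect_zero (p : ℕ) [hpp : Fact p.Prime] (β : IrrCharacter Y)
    (hdeg : p ^ (Nat.card Y).factorization p ∣ charDegree (β : Y → ℂ))
    (R : Subgroup Y) [hRn : R.Normal] (hR : IsPGroup p R) : R = ⊥ := by
  classical
  let _ : Fintype R := Fintype.ofFinite R
  -- `β` vanishes on the non-identity elements of `R`
  have hvan : ∀ r : R, r ≠ 1 → (β : Y → ℂ) r = 0 := by
    intro r hr
    apply irr_eq_zero_of_defect_zero β p hpp.out hdeg
    obtain ⟨k, hk⟩ := hR r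
    have hk' : (r : Y) ^ p ^ k = 1 := by
      have := congrArg Subtype.val hk
      simpa using this
    obtain ⟨j, -, hj⟩ := (Nat.dvd_prime_pow hpp.out).mp (orderOf_dvd_of_pow_eq_one hk')
    rw [hj]
    have hj0 : j ≠ 0 := by
      intro h0
      rw [h0, pow_zero, orderOf_eq_one_iff] at hj
      apply hr
      exact Subtype.ext hj
    exact dvd_pow_self p hj0
  have hone : IsIrrCharacter R (1 : R → ℂ) := isIrrCharacter_one R
  have hsum : ∑ r : R, (β : Y → ℂ) r = (β : Y → ℂ) 1 := by
    rw [Finset.sum_eq_single (1 : R)]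
    · rfl
    · intro r _ hr
      exact hvan r hr
    · intro h
      exact absurd (Finset.mem_univ _) h
  have hRcard : (Nat.card R : ℂ) ≠ 0 := Nat.cast_ne_zero.mpr Nat.card_pos.ne'
  have hinner : classInner (resFun R (β : Y → ℂ)) (1 : R → ℂ) ≠ 0 := by
    unfold classInner
    have h1 : ∑ g : R, resFun R (β : Y → ℂ) g * conj ((1 : R → ℂ) g) = (β : Y → ℂ) 1 := by
      rw [← hsum]
      apply Finset.sum_congr rfl
      intro r _
      rw [resFun_apply, Pi.one_apply, map_one, mul_one]
    rw [h1]
    exact mul_ne_zero (inv_ne_zero hRcard) (irr_apply_one_ne_zero β)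
  have hcl := clifford R β.2 hone hinner
  have horb : conjOrbit R (1 : R → ℂ) = {1} := by
    ext ψ
    rw [mem_conjOrbit, Finset.mem_singleton]
    constructor
    · rintro ⟨g, rfl⟩
      funext h
      rfl
    · intro h
      exact ⟨1, by rw [h]; funext h'; rfl⟩
  rw [horb, Finset.sum_singleton] at hcl
  have hval : ∀ r : R, (β : Y → ℂ) r = (β : Y → ℂ) 1 := by
    intro r
    have h1 := congrFun hcl r
    have h2 := congrFun hcl 1
    rw [resFun_apply, Pi.smul_apply, Pi.one_apply, smul_eq_mul, mul_one] at h1 h2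
    rw [h1, ← h2]
    rfl
  rw [Subgroup.eq_bot_iff_forall]
  intro r hr
  by_contra hne
  have h1 := hvan ⟨r, hr⟩ (fun h => hne (congrArg Subtype.val h))
  have h2 := hval ⟨r, hr⟩
  rw [h1] at h2
  exact irr_apply_one_ne_zero β h2.symm

end defectzero

section constituent

variable {G : Type u} [Group G] [Fintype G]

/-- If the idempotent of the block `F'` of `T` is the idempotent of the set `e` of irreducible
characters of the subgroup `C ≤ T`, then every irreducible constituent of the restriction to `C`
of a member of `F'` lies in `e`. -/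
theorem mem_of_blockCoeff_eq (T C : Subgroup G) (hCT : C ≤ T) [Fintype T] [Fintype C]
    (F' : Set (IrrCharacter T)) (e : Set (IrrCharacter C))
    (hF'e : ∀ t : T, blockCoeff F' t = subgroupBlockCoeff C e (t : G))
    (χ : IrrCharacter T) (hχ : χ ∈ F') (θ : IrrCharacter C)
    (hθ : classInner (fun c : C => (χ : T → ℂ) ⟨c, hCT c.2⟩) (θ : C → ℂ) ≠ 0) : θ ∈ e := by
  classical
  let _ := fintypeIrr C
  set χC : C → ℂ := fun c : C => (χ : T → ℂ) ⟨c, hCT c.2⟩ with hχC
  have hχCchar : IsCharacter C χC :=
    IsCharacter.comp_hom (IsIrrCharacter.isCharacter χ.2) (Subgroup.inclusion hCT)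
  -- `ω_χ` of the idempotent of `F'` is one
  have h1 : ∑ t : T, blockCoeff F' t * (χ : T → ℂ) t = (χ : T → ℂ) 1 := by
    have h := omegaFun_blockCoeff F' χ
    rw [if_pos hχ] at h
    unfold omegaFun at h
    rw [div_eq_iff (irr_apply_one_ne_zero χ), one_mul] at h
    exact h
  -- move the sum to `C`
  have h2 : ∑ t : T, blockCoeff F' t * (χ : T → ℂ) t = ∑ c : C, blockCoeff e c * χC c := by
    symm
    apply Fintype.sum_of_injective (Subgroup.inclusion hCT) (Subgroup.inclusion_injective hCT)
    · intro t ht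
      have htC : (t : G) ∉ C := by
        intro hmem
        apply ht
        exact ⟨⟨(t : G), hmem⟩, Subtype.ext rfl⟩
      rw [hF'e t]
      unfold subgroupBlockCoeff
      rw [dif_neg htC, zero_mul]
    · intro c
      rw [hF'e (Subgroup.inclusion hCT c)]
      have : ((Subgroup.inclusion hCT c : T) : G) = (c : G) := rfl
      rw [this, subgroupBlockCoeff_coe]
      rfl
  obtain ⟨m, hm, hm'⟩ := IsCharacter.exists_decomp_sum hχCchar
  -- evaluate both sides through the decomposition
  have h3 : ∑ c : C, blockCoeff e c * χC c =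
      ∑ ψ : IrrCharacter C, (m ψ : ℂ) * (if ψ ∈ e then (ψ : C → ℂ) 1 else 0) := by
    have hpt : ∀ c : C, χC c = ∑ ψ : IrrCharacter C, (m ψ : ℂ) * (ψ : C → ℂ) c := by
      intro c
      conv_lhs => rw [hm]
      rw [Finset.sum_apply]
      apply Finset.sum_congr rfl
      intro ψ _
      rw [Pi.smul_apply, nsmul_eq_mul]
    calc ∑ c : C, blockCoeff e c * χC c
        = ∑ c : C, ∑ ψ : IrrCharacter C, (m ψ : ℂ) * (blockCoeff e c * (ψ : C → ℂ) c) := by
          apply Finset.sum_congr rfl
          intro c _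
          rw [hpt c, Finset.mul_sum]
          apply Finset.sum_congr rfl
          intro ψ _
          ring
      _ = ∑ ψ : IrrCharacter C, (m ψ : ℂ) * ∑ c : C, blockCoeff e c * (ψ : C → ℂ) c := by
          rw [Finset.sum_comm]
          apply Finset.sum_congr rfl
          intro ψ _
          rw [Finset.mul_sum]
      _ = _ := by
          apply Finset.sum_congr rfl
          intro ψ _
          congr 1
          have h := omegaFun_blockCoeff e ψ
          unfold omegaFun at h
          rw [div_eq_iff (irr_apply_one_ne_zero ψ)] at h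
          rw [h]
          split_ifs <;> simp
  have h4 : (χ : T → ℂ) 1 = ∑ ψ : IrrCharacter C, (m ψ : ℂ) * (ψ : C → ℂ) 1 := by
    have : (χ : T → ℂ) 1 = χC 1 := rfl
    rw [this]
    conv_lhs => rw [hm]
    rw [Finset.sum_apply]
    apply Finset.sum_congr rfl
    intro ψ _
    rw [Pi.smul_apply, nsmul_eq_mul]
  have h5 : ∑ ψ : IrrCharacter C, (if ψ ∈ e then 0 else m ψ * charDegree (ψ : C → ℂ)) = 0 := by
    have h6 : ((∑ ψ : IrrCharacter C, (if ψ ∈ e then 0 else m ψ * charDegree (ψ : C → ℂ)) : ℕ) : ℂ)
        = 0 := by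
      rw [Nat.cast_sum]
      have h7 : ∑ ψ : IrrCharacter C, (m ψ : ℂ) * (ψ : C → ℂ) 1 -
          ∑ ψ : IrrCharacter C, (m ψ : ℂ) * (if ψ ∈ e then (ψ : C → ℂ) 1 else 0) = 0 := by
        rw [← h4, ← h3, ← h2, h1, sub_self]
      rw [← Finset.sum_sub_distrib] at h7
      rw [← h7]
      apply Finset.sum_congr rfl
      intro ψ _
      rw [irr_apply_one ψ]
      split_ifs <;> simp
    exact_mod_cast h6
  by_contra hne
  have h6 := (Finset.sum_eq_zero_iff.mp h5) θ (Finset.mem_univ _)
  rw [if_neg hne] at h6
  rcases Nat.mul_eq_zero.mp h6 with h7 | h7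
  · apply hθ
    rw [hm' θ, h7, Nat.cast_zero]
  · exact absurd h7 (irr_charDegree_pos θ).ne'

end constituent

section canonical

variable {X C : Type u} [Group X] [Fintype X] [Group C] [Fintype C]

/-- Inner products are unchanged by composition with a surjective homomorphism. -/
theorem classInner_comp_surjective {N : Type u} [Group N] [Fintype N] (φ : C →* N)
    (hφ : Function.Surjective φ) (F H : N → ℂ) :
    classInner (F ∘ φ) (H ∘ φ) = classInner F H := by
  classical
  unfold classInner
  have h1 : ∑ g : C, (F ∘ φ) g * conj ((H ∘ φ) g) =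
      (Nat.card φ.ker : ℂ) * ∑ n : N, F n * conj (H n) :=
    Cfsg.Agent.Lib.Helper6.FongBlock.sum_comp_surjective φ hφ (fun n => F n * conj (H n))
  rw [h1]
  have hcard : Nat.card C = Nat.card φ.ker * Nat.card N := by
    have h2 := Subgroup.card_mul_index φ.ker
    rw [Subgroup.index_ker, MonoidHom.range_eq_top.mpr hφ, Subgroup.card_top] at h2
    exact h2.symm
  have hk : (Nat.card φ.ker : ℂ) ≠ 0 := Nat.cast_ne_zero.mpr Nat.card_pos.ne'
  have hN : (Nat.card N : ℂ) ≠ 0 := Nat.cast_ne_zero.mpr Nat.card_pos.ne'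
  rw [hcard, Nat.cast_mul]
  field_simp

/-- **The canonical constituent.**  Let `χ` be an irreducible character of `X` with the normal
subgroup `Q'` in its kernel and of defect zero as a character of `X ⧸ Q'`, and let `ι : C → X`
be an embedding with normal image.  Then the restriction of `χ` along `ι` has an irreducible
constituent `θ` which is trivial on `ι⁻¹ Q'` and has defect zero modulo `ι⁻¹ Q'`. -/
theorem exists_canonical_constituent (p : ℕ) [hpp : Fact p.Prime] (Q' : Subgroup X)
    [hQn : Q'.Normal] (ι : C →* X) (hιn : ι.range.Normal) (χ : IrrCharacter X)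
    (hker : ∀ q ∈ Q', (χ : X → ℂ) q = (χ : X → ℂ) 1)
    (hdeg : (charDegree (χ : X → ℂ)).factorization p + (Nat.card Q').factorization p =
      (Nat.card X).factorization p) :
    ∃ θ : IrrCharacter C, classInner ((χ : X → ℂ) ∘ ι) (θ : C → ℂ) ≠ 0 ∧
      (∀ z : C, ι z ∈ Q' → (θ : C → ℂ) z = (θ : C → ℂ) 1) ∧
      (charDegree (θ : C → ℂ)).factorization p + (Nat.card (Q'.comap ι)).factorization p =
        (Nat.card C).factorization p := by
  classical
  obtain ⟨β, hβ⟩ := exists_deflation Q' χ hker
  let _ : Fintype (X ⧸ Q') := Fintype.ofFinite _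
  set Nb : Subgroup (X ⧸ Q') := ι.range.map (QuotientGroup.mk' Q') with hNb
  haveI hNbn : Nb.Normal :=
    Subgroup.Normal.map hιn (QuotientGroup.mk' Q') (QuotientGroup.mk'_surjective Q')
  let _ : Fintype Nb := Fintype.ofFinite _
  obtain ⟨θb, hθb⟩ := exists_constituent_res Nb β
  obtain ⟨hdc, hkdvd⟩ := degree_ratio_dvd_index Nb β.2 θb.2 hθb (irr_apply_one β) (irr_apply_one θb)
  -- the surjection `C → Nb`
  let φ : C →* Nb := ((QuotientGroup.mk' Q').comp ι).codRestrict Nb (fun c => by
    rw [hNb]
    exact Subgroup.mem_map_of_mem _ ⟨c, rfl⟩)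
  have hφval : ∀ c : C, ((φ c : Nb) : X ⧸ Q') = ((ι c : X) : X ⧸ Q') := fun c => rfl
  have hφ : Function.Surjective φ := by
    rintro ⟨y, hy⟩
    rw [hNb, Subgroup.mem_map] at hy
    obtain ⟨x, ⟨c, rfl⟩, rfl⟩ := hy
    exact ⟨c, Subtype.ext rfl⟩
  have hφker : φ.ker = Q'.comap ι := by
    ext c
    rw [MonoidHom.mem_ker, Subgroup.mem_comap]
    constructor
    · intro h
      have h1 := congrArg Subtype.val h
      rw [hφval] at h1
      exact (QuotientGroup.eq_one_iff _).mp h1
    · intro h
      apply Subtype.ext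
      rw [hφval]
      exact (QuotientGroup.eq_one_iff _).mpr h
  refine ⟨⟨(θb : Nb → ℂ) ∘ φ, IsIrrCharacter.comp_surjective θb.2 φ hφ⟩, ?_, ?_, ?_⟩
  · have h1 : (χ : X → ℂ) ∘ ι = (fun n : Nb => (β : X ⧸ Q' → ℂ) n) ∘ φ := by
      funext c
      change (χ : X → ℂ) (ι c) = (β : X ⧸ Q' → ℂ) ((φ c : Nb) : X ⧸ Q')
      rw [hφval, hβ]
    change classInner ((χ : X → ℂ) ∘ ι) ((θb : Nb → ℂ) ∘ φ) ≠ 0
    rw [h1, classInner_comp_surjective φ hφ]
    exact hθb
  · intro z hz
    change (θb : Nb → ℂ) (φ z) = (θb : Nb → ℂ) (φ 1)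
    have h1 : z ∈ φ.ker := by rw [hφker]; exact hz
    rw [MonoidHom.mem_ker.mp h1, map_one]
  · -- degrees
    have hdθ : charDegree ((θb : Nb → ℂ) ∘ φ) = charDegree (θb : Nb → ℂ) := by
      unfold charDegree
      rw [Function.comp_apply, map_one]
    change (charDegree ((θb : Nb → ℂ) ∘ φ)).factorization p + _ = _
    rw [hdθ]
    set d := charDegree (θb : Nb → ℂ) with hd
    set c := charDegree (β : X ⧸ Q' → ℂ) with hc
    have hd0 : d ≠ 0 := (irr_charDegree_pos θb).ne'
    have hc0 : c ≠ 0 := (irr_charDegree_pos β).ne'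
    have hcχ : c = charDegree (χ : X → ℂ) := by
      rw [hc]
      unfold charDegree
      have : (β : X ⧸ Q' → ℂ) 1 = (χ : X → ℂ) 1 := by
        rw [← hβ 1]
        rfl
      rw [this]
    -- cardinalities
    have hcardC : Nat.card C = Nat.card (Q'.comap ι) * Nat.card Nb := by
      have h2 := Subgroup.card_mul_index φ.ker
      rw [Subgroup.index_ker, MonoidHom.range_eq_top.mpr hφ, Subgroup.card_top, hφker] at h2
      exact h2.symm
    have hcardX : Nat.card X = Nat.card (X ⧸ Q') * Nat.card Q' :=
      Subgroup.card_eq_card_quotient_mul_card_subgroup Q'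
    have hcardY : Nat.card (X ⧸ Q') = Nat.card Nb * Nb.index := (Subgroup.card_mul_index Nb).symm
    have hNb0 : Nat.card Nb ≠ 0 := Nat.card_pos.ne'
    have hQ0 : Nat.card Q' ≠ 0 := Nat.card_pos.ne'
    have hY0 : Nat.card (X ⧸ Q') ≠ 0 := Nat.card_pos.ne'
    have hK0 : Nat.card (Q'.comap ι) ≠ 0 := Nat.card_pos.ne'
    have hidx0 : Nb.index ≠ 0 := by
      intro h0
      rw [h0, mul_zero] at hcardY
      exact hY0 hcardY
    have e1 : (Nat.card C).factorization p =
        (Nat.card (Q'.comap ι)).factorization p + (Nat.card Nb).factorization p := by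
      rw [hcardC, Nat.factorization_mul hK0 hNb0]
      rfl
    have e2 : (Nat.card X).factorization p =
        (Nat.card (X ⧸ Q')).factorization p + (Nat.card Q').factorization p := by
      rw [hcardX, Nat.factorization_mul hY0 hQ0]
      rfl
    have e3 : (Nat.card (X ⧸ Q')).factorization p =
        (Nat.card Nb).factorization p + Nb.index.factorization p := by
      rw [hcardY, Nat.factorization_mul hNb0 hidx0]
      rfl
    have e4 : c.factorization p = (Nat.card (X ⧸ Q')).factorization p := by
      rw [hcχ]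
      omega
    -- upper bound
    have hle : d.factorization p ≤ (Nat.card Nb).factorization p :=
      (Nat.factorization_le_iff_dvd hd0 hNb0).mpr (irr_charDegree_dvd_card θb) p
    -- lower bound
    have hk0 : c / d ≠ 0 := by
      intro h0
      have := Nat.div_mul_cancel hdc
      rw [h0, zero_mul] at this
      exact hc0 this.symm
    have e5 : c.factorization p = (c / d).factorization p + d.factorization p := by
      conv_lhs => rw [← Nat.div_mul_cancel hdc]
      rw [Nat.factorization_mul hk0 hd0]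
      rfl
    have hle2 : (c / d).factorization p ≤ Nb.index.factorization p :=
      (Nat.factorization_le_iff_dvd hk0 hidx0).mpr hkdvd p
    omega

end canonical

end Cfsg.Agent.Lib.Helper6.WeightPair
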